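import Cfsg.Agent.Lib.Invol.JCompMax

/-!
The components outside `M`: each has a unique maximal `2`-local overgroup of `⟨K, J(T)⟩`.
-/

set_option autoImplicit false

open scoped commutatorElement Classical

namespace Cfsg.Agent.Invol.JComp

open Subgroup

variable {G : Type*} [Group G] [Finite G]

/-- The hypotheses on the group. -/
structure Hyp (G : Type*) [Group G] [Finite G] : Prop where
  charTwo : IsCharacteristicTwoType G
  twoLocal : ∀ N : Subgroup G, IsTwoLocal N → Group.IsSolvable ↥N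
  zNorm : ∀ S : Sylow 2 G, centralizer (omegaCenterOf (S : Subgroup G) : Set G) ≤
    normalizer ((S : Subgroup G) : Set G)
  core : pCore 2 G = ⊥

/-- A maximal straddling subgroup `T` relative to `M`, with `N(J(T)) ≤ M`. -/
structure Ctx (M T : Subgroup G) : Prop where
  amb : Hyp G
  max : T ∈ maxStraddlingTwoSubgroups M
  nJ : normalizer (thompsonSubgroupOf 2 T : Set G) ≤ M

/-- A `J(T)`-component outside `M`. -/
def Out (M T K : Subgroup G) : Prop := IsJComponent T K ∧ ¬ K ≤ M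

/-- A maximal `2`-local subgroup containing `⟨K, J(T)⟩`. -/
def IsOver (T K L : Subgroup G) : Prop := IsMaximalTwoLocal L ∧ K ⊔ thompsonSubgroupOf 2 T ≤ L

theorem exists_maximalTwoLocal {X : Subgroup G} (hX : IsTwoLocal X) :
    ∃ L, IsMaximalTwoLocal L ∧ X ≤ L := by
  obtain ⟨L, ⟨hL, hXL⟩, hmax⟩ := Set.exists_max_image {L : Subgroup G | IsTwoLocal L ∧ X ≤ L}
    (fun L => Nat.card ↥L) (Set.toFinite _) ⟨X, hX, le_rfl⟩
  exact ⟨L, ⟨hL, fun N hN hLN => (eq_of_le_of_card_ge hLN (hmax N ⟨hN, hXL.trans hLN⟩)).symm⟩, hXL⟩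

theorem isTwoLocal_ne_bot {L : Subgroup G} (hL : IsTwoLocal L) : pCoreOf 2 L ≠ ⊥ := by
  obtain ⟨R, hR, hR1, rfl⟩ := hL
  exact fun h => hR1 (le_bot_iff.1 (h ▸ le_pCoreOf le_normalizer le_rfl hR))

theorem maximal_eq_normalizer {L : Subgroup G} (hL : IsMaximalTwoLocal L) :
    normalizer (pCoreOf 2 L : Set G) = L :=
  hL.2 _ ⟨_, pCoreOf_isPGroup L, isTwoLocal_ne_bot hL.1, rfl⟩ (le_normalizer_pCoreOf L)

theorem maximal_normalizer_le {L : Subgroup G} (hL : IsMaximalTwoLocal L) :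
    normalizer (L : Set G) ≤ L :=
  (normalizer_le_normalizer_pCoreOf L).trans (maximal_eq_normalizer hL).le

theorem isTwoLocal_map {L : Subgroup G} (g : G) (hL : IsTwoLocal L) :
    IsTwoLocal (L.map (MulAut.conj g).toMonoidHom) := by
  obtain ⟨R, hR, hR1, rfl⟩ := hL
  refine ⟨R.map (MulAut.conj g).toMonoidHom, hR.map _, ?_, ?_⟩
  · rwa [Ne, map_eq_bot_iff_of_injective _ (MulAut.conj g).injective]
  · exact map_equiv_normalizer_eq R (MulAut.conj g)

theorem isMaximalTwoLocal_map {L : Subgroup G} (g : G) (hL : IsMaximalTwoLocal L) :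
    IsMaximalTwoLocal (L.map (MulAut.conj g).toMonoidHom) := by
  refine ⟨isTwoLocal_map g hL.1, fun N hN hLN => ?_⟩
  have h := hL.2 _ (isTwoLocal_map g⁻¹ hN) (by
    have := map_mono (f := (MulAut.conj g⁻¹).toMonoidHom) hLN
    rwa [map_conj_conj, inv_mul_cancel, map_conj_one] at this)
  rw [← h, map_conj_conj, mul_inv_cancel, map_conj_one]

theorem isTwoLocal_centralizer {x : G} (hx : x * x = 1) (hx1 : x ≠ 1) :
    IsTwoLocal (centralizer ({x} : Set G)) := by
  refine ⟨zpowers x, isPGroup_zpowers_of_pow (n := 1) (by rw [pow_one, pow_two, hx]), ?_, ?_⟩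
  · rwa [Ne, zpowers_eq_bot]
  · refine le_antisymm ?_ fun g hg => ?_
    · rw [← centralizer_closure, ← zpowers_eq_closure]
      exact centralizer_le_normalizer _
    · refine mem_centralizer_iff.2 fun y hy => ?_
      rw [Set.mem_singleton_iff.1 hy]
      obtain ⟨i, hi⟩ := (mem_normalizer_iff.1 hg x).1 (mem_zpowers x)
      have hx2 : x ^ i = 1 ∨ x ^ i = x := by
        rcases Int.even_or_odd i with ⟨j, hj⟩ | ⟨j, hj⟩
        · left; rw [hj, zpow_add, ← (Commute.refl x).mul_zpow, hx, one_zpow]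
        · right; rw [hj, zpow_add_one, zpow_mul, zpow_two, hx, one_zpow, one_mul]
      have hi' : x ^ i = g * x * g⁻¹ := hi
      rcases hx2 with h | h
      · exact absurd (conj_eq_one_iff.1 (hi'.symm.trans h)) hx1
      · exact (mul_inv_eq_iff_eq_mul.1 (hi'.symm.trans h)).symm

section
variable {M T : Subgroup G}

theorem Ctx.T_two (c : Ctx M T) : IsPGroup 2 ↥T := c.max.1.1

theorem Ctx.T_ne (c : Ctx M T) : T ≠ ⊥ := c.max.1.2.1

theorem Ctx.T_le_M (c : Ctx M T) : T ≤ M := c.max.1.2.2.1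

theorem Ctx.mk' {S : Sylow 2 G} (hL : IsCharacteristicTwoType G)
    (hN : ∀ N : Subgroup G, IsTwoLocal N → Group.IsSolvable ↥N)
    (hZ : ∀ S : Sylow 2 G, centralizer (omegaCenterOf (S : Subgroup G) : Set G) ≤
      normalizer ((S : Subgroup G) : Set G)) (hO : pCore 2 G = ⊥)
    (hMJ : normalizer (thompsonSubgroupOf 2 (S : Subgroup G) : Set G) ≤ M)
    (hT : T ∈ maxStraddlingTwoSubgroups M) : Ctx M T :=
  ⟨⟨hL, hN, hZ, hO⟩, hT, normalizer_thompson_le S hMJ hT⟩

theorem Ctx.N_T_le (c : Ctx M T) : normalizer (T : Set G) ≤ M := fun g hg => c.nJ (mem_normalizer_of_map_eq (by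
  rw [← thompson_map _ (MulAut.conj g).injective, map_conj_eq_self hg]))

/-- The structure of a `2`-local subgroup outside `M` containing `J(T)`. -/
theorem Ctx.sit (c : Ctx M T) {X : Subgroup G} (hX : IsTwoLocal X) (hXM : ¬ X ≤ M)
    (hJX : thompsonSubgroupOf 2 T ≤ X) :
    ∃ S, thompsonSubgroupOf 2 S = thompsonSubgroupOf 2 T ∧ Sit S X ∧ (T ≤ X → Sit T X) := by
  obtain ⟨S, hS, hJS⟩ := exists_sylowIn (c.T_two.to_le (thompsonEl_le T)) hJX
  obtain ⟨h1, h2, h3, h4⟩ := straddling_overgroup' c.amb.charTwo c.nJ c.max hX hXM hS hJS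
  exact ⟨S, h1.symm, Sit.of_mem c.amb.charTwo c.amb.twoLocal c.amb.zNorm h2.2.1 h3, fun hTX =>
    Sit.of_mem c.amb.charTwo c.amb.twoLocal c.amb.zNorm c.T_ne (h4 hTX)⟩

theorem Out.wOf_two_local {K : Subgroup G} (hK : Out M T K) :
    IsTwoLocal (normalizer (wOf K : Set G)) ∧ ¬ normalizer (wOf K : Set G) ≤ M := by
  haveI := Fact.mk Nat.prime_two
  have hWcard := hK.1.2.2.2.2.1
  refine ⟨⟨wOf K, IsPGroup.of_card (n := 2) (by rw [hWcard]; norm_num),
    fun h => by rw [h, card_bot] at hWcard; omega, rfl⟩, fun h => hK.2 ?_⟩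
  exact (le_normalizer.trans (normalizer_le_normalizer_wOf K)).trans h

theorem Ctx.out_zero (c : Ctx M T) {K : Subgroup G} (hK : Out M T K) : K ∈ jComponentsZero T :=
  ⟨hK.1, fun S hJS hS => ((straddling_overgroup' c.amb.charTwo c.nJ c.max hK.wOf_two_local.1
    hK.wOf_two_local.2 hS hJS).1).symm⟩

theorem le_wOf_normalizer {K : Subgroup G} (hK : IsJComponent T K) :
    K ⊔ thompsonSubgroupOf 2 T ≤ normalizer (wOf K : Set G) := by
  refine le_trans (sup_le le_normalizer ?_) (normalizer_le_normalizer_wOf K)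
  exact le_trans (Grp.right_le_normalizer_commutator (thompsonSubgroupOf 2 T) K) (le_of_eq (by rw [hK.2.1]))

theorem Ctx.exists_over (c : Ctx M T) {K : Subgroup G} (hK : Out M T K) : ∃ L, IsOver T K L := by
  obtain ⟨L, hL, hle⟩ := exists_maximalTwoLocal hK.wOf_two_local.1
  exact ⟨L, hL, (le_wOf_normalizer hK.1).trans hle⟩

theorem Ctx.over_not_le (_c : Ctx M T) {K L : Subgroup G} (hK : Out M T K) (hL : IsOver T K L) : ¬ L ≤ M :=
  fun h => hK.2 ((le_sup_left.trans hL.2).trans h)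

/-- A component in `L` and one in `N(W_K)`: the latter lies in `L`. -/
theorem Ctx.comps_eq (c : Ctx M T) {K L : Subgroup G} (hK : Out M T K) (hL : IsOver T K L) {K' : Subgroup G}
    (hK' : IsJComponent T K') :
    K' ≤ L ↔ K' ≤ normalizer (wOf K : Set G) := by
  obtain ⟨hKN, -⟩ := jComponentsZero_normalizer c.amb.charTwo c.amb.twoLocal c.amb.zNorm c.T_two (c.out_zero hK)
  obtain ⟨S, hJ, s, -⟩ := c.sit hL.1.1 (c.over_not_le hK hL) (le_sup_right.trans hL.2)
  obtain ⟨S₁, hJ₁, s₁, -⟩ := c.sit hK.wOf_two_local.1 hK.wOf_two_local.2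
    (le_sup_right.trans (le_wOf_normalizer hK.1))
  have hKS : IsJComponent S K := isJComponent_congr hJ.symm hK.1
  have hKL : K ≤ L := le_sup_left.trans hL.2
  -- the components of `L` lie in `N(W)`
  have hin : ∀ K₂, IsJComponent S K₂ → K₂ ≤ L → K₂ ≤ normalizer (wOf K : Set G) := fun K₂ h1 h2 =>
    ((s.comp_le_dOf h1 h2).trans (s.comp_normal hKS hKL)).trans (normalizer_le_normalizer_wOf K)
  refine ⟨fun h => hin K' (isJComponent_congr hJ.symm hK') h, fun h => ?_⟩
  obtain ⟨N, hN⟩ : ∃ N, N = sSup {K₂ : Subgroup G | IsJComponent S K₂ ∧ K₂ ≤ L} := ⟨_, rfl⟩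
  have hNL : N ≤ L := hN ▸ sSup_le fun _ h2 => h2.2
  have hKN' : K ≤ N := hN ▸ le_sSup ⟨hKS, hKL⟩
  have hLN : L ≤ normalizer (N : Set G) := fun g hg => mem_normalizer_fintype fun y hy => by
    have hle : N ≤ N.comap (MulAut.conj g).toMonoidHom := by
      conv_lhs => rw [hN]
      refine sSup_le fun K₂ hK₂ => ?_
      rw [← map_le_iff_le_comap, hN]
      exact le_sSup (s.comp_conj hK₂.1 hK₂.2 hg)
    exact hle hy
  have hK'N : K' ≤ normalizer (N : Set G) := by
    intro g hg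
    refine mem_normalizer_fintype fun y hy => ?_
    have hle : N ≤ N.comap (MulAut.conj g).toMonoidHom := by
      conv_lhs => rw [hN]
      refine sSup_le fun K₂ hK₂ => ?_
      rw [← map_le_iff_le_comap]
      have h2 := hin K₂ hK₂.1 hK₂.2
      have hn := s₁.comp_normal (isJComponent_congr (hJ.trans hJ₁.symm) hK₂.1) h2
        (s₁.comp_le_dOf (isJComponent_congr hJ₁.symm hK') h hg)
      rw [map_conj_eq_self hn, hN]
      exact le_sSup hK₂
    exact hle hy
  have hO : pCoreOf 2 N ≠ ⊥ := fun h0 => by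
    have hle : pCoreOf 2 K ≤ pCoreOf 2 N := le_pCoreOf ((pCoreOf_le K).trans hKN')
      ((hN ▸ sSup_le fun K₂ hK₂ => (s.comp_le_dOf hK₂.1 hK₂.2).trans (s.comp_normal hKS hKL) :
        N ≤ normalizer (K : Set G)).trans (normalizer_le_normalizer_pCoreOf K))
      (pCoreOf_isPGroup K)
    rw [h0, le_bot_iff] at hle
    have hW4 := hK.1.2.2.2.2.1
    have hW : wOf K = ⊥ := by
      have e : omegaCenterOf (pCoreOf 2 K) = ⊥ := by
        refine (Subgroup.eq_bot_iff_forall _).2 fun x hx => ?_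
        have := (mem_omegaCenter.1 hx).1
        rwa [hle, mem_bot] at this
      unfold Cfsg.wOf
      rw [e, commutator_bot_left]
    rw [hW, card_bot] at hW4
    omega
  have heq := hL.1.2 _ ⟨_, pCoreOf_isPGroup N, hO, rfl⟩ (hLN.trans (normalizer_le_normalizer_pCoreOf N))
  exact (hK'N.trans (normalizer_le_normalizer_pCoreOf N)).trans heq.le

theorem Ctx.unique_over (c : Ctx M T) {K L L' : Subgroup G} (hK : Out M T K) (hL : IsOver T K L)
    (hL' : IsOver T K L') : L' = L := by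
  obtain ⟨S, hJ, s, -⟩ := c.sit hL.1.1 (c.over_not_le hK hL) (le_sup_right.trans hL.2)
  obtain ⟨S', hJ', s', -⟩ := c.sit hL'.1.1 (c.over_not_le hK hL') (le_sup_right.trans hL'.2)
  obtain ⟨N, hN⟩ : ∃ N, N = sSup {K₂ : Subgroup G | IsJComponent T K₂ ∧ K₂ ≤ L} := ⟨_, rfl⟩
  have hset : ∀ {S₀ L₀ : Subgroup G}, thompsonSubgroupOf 2 S₀ = thompsonSubgroupOf 2 T → Sit S₀ L₀ →
      L₀ ≤ normalizer ((sSup {K₂ : Subgroup G | IsJComponent T K₂ ∧ K₂ ≤ L₀} : Subgroup G) : Set G) := by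
    intro S₀ L₀ hJ₀ s₀ g hg
    refine mem_normalizer_fintype fun y hy => ?_
    have hle : sSup {K₂ : Subgroup G | IsJComponent T K₂ ∧ K₂ ≤ L₀} ≤
        (sSup {K₂ : Subgroup G | IsJComponent T K₂ ∧ K₂ ≤ L₀}).comap (MulAut.conj g).toMonoidHom := by
      refine sSup_le fun K₂ hK₂ => ?_
      rw [← map_le_iff_le_comap]
      obtain ⟨h1, h2⟩ := s₀.comp_conj (isJComponent_congr hJ₀.symm hK₂.1) hK₂.2 hg
      exact le_sSup ⟨isJComponent_congr hJ₀ h1, h2⟩
    exact hle hy
  have hsame : {K₂ : Subgroup G | IsJComponent T K₂ ∧ K₂ ≤ L'} = {K₂ : Subgroup G | IsJComponent T K₂ ∧ K₂ ≤ L} :=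
    Set.ext fun K₂ => and_congr_right fun h => (c.comps_eq hK hL' h).trans (c.comps_eq hK hL h).symm
  have hL1 := hset hJ s
  have hL2 := hset hJ' s'
  rw [hsame] at hL2
  rw [← hN] at hL1 hL2
  have hKN : K ≤ N := hN ▸ le_sSup ⟨hK.1, le_sup_left.trans hL.2⟩
  have hO : pCoreOf 2 N ≠ ⊥ := fun h0 => by
    have hle : pCoreOf 2 K ≤ pCoreOf 2 N := le_pCoreOf ((pCoreOf_le K).trans hKN)
      ((hN ▸ sSup_le fun K₂ hK₂ => (s.comp_le_dOf (isJComponent_congr hJ.symm hK₂.1) hK₂.2).trans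
        (s.comp_normal (isJComponent_congr hJ.symm hK.1) (le_sup_left.trans hL.2)) :
        N ≤ normalizer (K : Set G)).trans (normalizer_le_normalizer_pCoreOf K))
      (pCoreOf_isPGroup K)
    rw [h0, le_bot_iff] at hle
    have hW4 := hK.1.2.2.2.2.1
    have hW : wOf K = ⊥ := by
      have e : omegaCenterOf (pCoreOf 2 K) = ⊥ := by
        refine (Subgroup.eq_bot_iff_forall _).2 fun x hx => ?_
        have := (mem_omegaCenter.1 hx).1
        rwa [hle, mem_bot] at this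
      unfold Cfsg.wOf
      rw [e, commutator_bot_left]
    rw [hW, card_bot] at hW4
    omega
  have h2 : IsTwoLocal (normalizer (pCoreOf 2 N : Set G)) := ⟨_, pCoreOf_isPGroup N, hO, rfl⟩
  rw [← hL.1.2 _ h2 (hL1.trans (normalizer_le_normalizer_pCoreOf N)),
    ← hL'.1.2 _ h2 (hL2.trans (normalizer_le_normalizer_pCoreOf N))]

/-- Every `2`-local subgroup containing `⟨K, J(T)⟩` lies in the maximal one. -/
theorem Ctx.le_over (c : Ctx M T) {K L X : Subgroup G} (hK : Out M T K) (hL : IsOver T K L)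
    (hX : IsTwoLocal X) (hKX : K ≤ X) (hJX : thompsonSubgroupOf 2 T ≤ X) : X ≤ L := by
  obtain ⟨L', hL', hle⟩ := exists_maximalTwoLocal hX
  rw [← c.unique_over hK hL ⟨hL', (sup_le hKX hJX).trans hle⟩]
  exact hle

/-- A component outside `M` with `O₂(⟨K, T⟩) ≠ 1` has `T` in its maximal `2`-local subgroup. -/
theorem Ctx.T_le_over (c : Ctx M T) {K L : Subgroup G} (hK : Out M T K) (hL : IsOver T K L)
    (hO : pCoreOf 2 (K ⊔ T) ≠ ⊥) : T ≤ L := by
  have h := c.le_over hK hL ⟨_, pCoreOf_isPGroup (K ⊔ T), hO, rfl⟩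
    (le_sup_left.trans (le_normalizer_pCoreOf _))
    (((thompsonEl_le T).trans le_sup_right).trans (le_normalizer_pCoreOf _))
  exact (le_sup_right.trans (le_normalizer_pCoreOf _)).trans h

theorem Ctx.sit_over (c : Ctx M T) {K L : Subgroup G} (hK : Out M T K) (hL : IsOver T K L) (hTL : T ≤ L) :
    Sit T L := by
  obtain ⟨S, -, -, h⟩ := c.sit hL.1.1 (c.over_not_le hK hL) (le_sup_right.trans hL.2)
  exact h hTL

end

end Cfsg.Agent.Invol.JComp
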