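import Mathlib

/-!
# Elementary lemmas on involutions
-/

namespace Cfsg.Agent.Invol

variable {G : Type*} [Group G]

theorem mul_self_of_orderOf_two {x : G} (h : orderOf x = 2) : x * x = 1 := by
  have := pow_orderOf_eq_one x
  rw [h, sq] at this
  exact this

theorem inv_of_orderOf_two {x : G} (h : orderOf x = 2) : x⁻¹ = x :=
  inv_eq_of_mul_eq_one_right (mul_self_of_orderOf_two h)

theorem ne_one_of_orderOf_two {x : G} (h : orderOf x = 2) : x ≠ 1 := by
  rintro rfl
  simp at h

theorem orderOf_two_iff {x : G} : orderOf x = 2 ↔ x * x = 1 ∧ x ≠ 1 := by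
  constructor
  · exact fun h => ⟨mul_self_of_orderOf_two h, ne_one_of_orderOf_two h⟩
  · rintro ⟨h, h1⟩
    exact orderOf_eq_prime (by rw [sq, h]) h1

theorem orderOf_conj_eq (g x : G) : orderOf (g * x * g⁻¹) = orderOf x := by
  have := orderOf_injective (MulAut.conj g).toMonoidHom (MulAut.conj g).injective x
  simpa using this

theorem orderOf_eq_of_isConj {x y : G} (h : IsConj x y) : orderOf x = orderOf y := by
  obtain ⟨g, hg⟩ := isConj_iff.mp h
  rw [← hg, orderOf_conj_eq]

/-- `x` inverts `x * y` for involutions `x`, `y`. -/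
theorem conj_mul_eq_inv {x y : G} (hx : orderOf x = 2) (hy : orderOf y = 2) :
    x * (x * y) * x⁻¹ = (x * y)⁻¹ := by
  have hxx := mul_self_of_orderOf_two hx
  rw [mul_inv_rev, inv_of_orderOf_two hx, inv_of_orderOf_two hy, ← mul_assoc, hxx, one_mul]

theorem conj_mul_zpow_eq_inv {x y : G} (hx : orderOf x = 2) (hy : orderOf y = 2) (k : ℤ) :
    x * (x * y) ^ k * x⁻¹ = (x * y) ^ (-k) := by
  rw [← conj_zpow, conj_mul_eq_inv hx hy, inv_zpow, zpow_neg]

theorem mul_zpow_comm {x y : G} (hx : orderOf x = 2) (hy : orderOf y = 2) (k : ℤ) :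
    x * (x * y) ^ k = (x * y) ^ (-k) * x := by
  rw [← conj_mul_zpow_eq_inv hx hy k]
  group

theorem y_eq {x y : G} (hx : orderOf x = 2) : y = x * (x * y) := by
  rw [← mul_assoc, mul_self_of_orderOf_two hx, one_mul]

theorem y_eq' {x y : G} (hx : orderOf x = 2) (hy : orderOf y = 2) :
    y = (x * y) ^ (-1 : ℤ) * x := by
  rw [← mul_zpow_comm hx hy, zpow_one]
  exact y_eq hx

theorem zpow_mem_closure_pair {x y : G} (k : ℤ) :
    (x * y) ^ k ∈ Subgroup.closure ({x, y} : Set G) :=
  zpow_mem (mul_mem (Subgroup.subset_closure (by simp)) (Subgroup.subset_closure (by simp))) k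

theorem left_mem_closure_pair {x y : G} : x ∈ Subgroup.closure ({x, y} : Set G) :=
  Subgroup.subset_closure (by simp)

theorem right_mem_closure_pair {x y : G} : y ∈ Subgroup.closure ({x, y} : Set G) :=
  Subgroup.subset_closure (by simp)

theorem mem_closure_pair {x y : G} (hx : orderOf x = 2) (hy : orderOf y = 2) {d : G}
    (hd : d ∈ Subgroup.closure ({x, y} : Set G)) :
    ∃ k : ℤ, d = (x * y) ^ k ∨ d = (x * y) ^ k * x := by
  induction hd using Subgroup.closure_induction_left with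
  | one => exact ⟨0, Or.inl (by simp)⟩
  | mul_left a ha b _ ih =>
    obtain ⟨k, hk⟩ := ih
    have hxa : ∀ k : ℤ, x * (x * y) ^ k = (x * y) ^ (-k) * x := mul_zpow_comm hx hy
    have hya : ∀ k : ℤ, y * (x * y) ^ k = (x * y) ^ (-1 - k) * x := by
      intro k
      nth_rewrite 1 [y_eq' hx hy]
      rw [mul_assoc, hxa, ← mul_assoc, ← zpow_add]
      congr 2
    have hxx := mul_self_of_orderOf_two hx
    rcases ha with rfl | rfl <;> rcases hk with rfl | rfl
    · exact ⟨-k, Or.inr (hxa k)⟩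
    · exact ⟨-k, Or.inl (by rw [← mul_assoc, hxa, mul_assoc, hxx, mul_one])⟩
    · exact ⟨-1 - k, Or.inr (hya k)⟩
    · exact ⟨-1 - k, Or.inl (by rw [← mul_assoc, hya, mul_assoc, hxx, mul_one])⟩
  | inv_mul_cancel a ha b _ ih =>
    obtain ⟨k, hk⟩ := ih
    have hxa : ∀ k : ℤ, x * (x * y) ^ k = (x * y) ^ (-k) * x := mul_zpow_comm hx hy
    have hya : ∀ k : ℤ, y * (x * y) ^ k = (x * y) ^ (-1 - k) * x := by
      intro k
      nth_rewrite 1 [y_eq' hx hy]
      rw [mul_assoc, hxa, ← mul_assoc, ← zpow_add]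
      congr 2
    have hxx := mul_self_of_orderOf_two hx
    rcases ha with rfl | rfl
    · rw [inv_of_orderOf_two hx]
      rcases hk with rfl | rfl
      · exact ⟨-k, Or.inr (hxa k)⟩
      · exact ⟨-k, Or.inl (by rw [← mul_assoc, hxa, mul_assoc, hxx, mul_one])⟩
    · rw [inv_of_orderOf_two hy]
      rcases hk with rfl | rfl
      · exact ⟨-1 - k, Or.inr (hya k)⟩
      · exact ⟨-1 - k, Or.inl (by rw [← mul_assoc, hya, mul_assoc, hxx, mul_one])⟩

/-- Every element of the dihedral group `⟨x, y⟩` sends `x` to some `(xy)^(2k) x`. -/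
theorem exists_conj_left_eq {x y : G} (hx : orderOf x = 2) (hy : orderOf y = 2) {d : G}
    (hd : d ∈ Subgroup.closure ({x, y} : Set G)) :
    ∃ k : ℤ, d * x * d⁻¹ = (x * y) ^ (2 * k) * x := by
  obtain ⟨k, hk⟩ := mem_closure_pair hx hy hd
  refine ⟨k, ?_⟩
  have key : (x * y) ^ k * x * ((x * y) ^ k)⁻¹ = (x * y) ^ (2 * k) * x := by
    rw [← zpow_neg, mul_assoc, mul_zpow_comm hx hy, neg_neg, ← mul_assoc, ← zpow_add, two_mul]
  rcases hk with rfl | rfl
  · exact key
  · rw [← key]
    group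

theorem notMem_zpowers_mul {x y : G} (hx : orderOf x = 2) (hy : orderOf y = 2) :
    x ∉ Subgroup.zpowers (x * y) := by
  intro h
  obtain ⟨k, hk⟩ := Subgroup.mem_zpowers_iff.mp h
  have hxinv : x⁻¹ = x := inv_of_orderOf_two hx
  have hc : x * (x * y) * x⁻¹ = x * y := by
    have hcomm := Commute.zpow_self (x * y) k
    rw [hk] at hcomm
    rw [hcomm.eq, mul_inv_cancel_right]
  rw [conj_mul_eq_inv hx hy] at hc
  -- `x * y` is its own inverse, so its powers are `1` and `x * y`
  have h2 : (x * y) * (x * y) = 1 := mul_eq_one_iff_eq_inv.mpr hc.symm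
  rcases Int.even_or_odd k with ⟨m, hm⟩ | ⟨m, hm⟩
  · rw [hm, ← two_mul, zpow_mul, zpow_two, h2, one_zpow] at hk
    exact ne_one_of_orderOf_two hx hk.symm
  · rw [hm, zpow_add, zpow_mul, zpow_two, h2, one_zpow, one_mul, zpow_one] at hk
    exact ne_one_of_orderOf_two hy (by simpa using hk)

theorem mul_ne_one_of_ne {x y : G} (hx : orderOf x = 2) (hxy : x ≠ y) : x * y ≠ 1 := by
  intro h
  exact hxy ((inv_of_orderOf_two hx).symm.trans (inv_eq_of_mul_eq_one_right h))

end Cfsg.Agent.Invol
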