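import Mathlib
import Cfsg.Agent.Lib.Invol.Basic

/-!
# The dihedral group generated by two involutions
-/

namespace Cfsg.Agent.Invol

variable {G : Type*} [Group G]

/-- `ZMod n → G`, `i ↦ a ^ i`, for an element `a` with `a ^ n = 1`. -/
def zmodPow {n : ℕ} (a : G) (ha : a ^ n = 1) : ZMod n →+ Additive G :=
  ZMod.lift n ⟨zmultiplesHom (Additive G) (Additive.ofMul a), by
    change (n : ℤ) • Additive.ofMul a = 0
    rw [natCast_zsmul, ← ofMul_pow, ha, ofMul_one]⟩

theorem zmodPow_intCast {n : ℕ} (a : G) (ha : a ^ n = 1) (k : ℤ) :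
    Additive.toMul (zmodPow a ha (k : ZMod n)) = a ^ k := by
  simp [zmodPow]

/-- The homomorphism from a dihedral group given by an element `a` inverted by an involution `x`. -/
def dihedralHom {n : ℕ} (a x : G) (ha : a ^ n = 1) (hx : x * x = 1) (hxa : x * a * x⁻¹ = a⁻¹) :
    DihedralGroup n →* G where
  toFun d := match d with
    | .r i => Additive.toMul (zmodPow a ha i)
    | .sr i => x * Additive.toMul (zmodPow a ha i)
  map_one' := by
    rw [DihedralGroup.one_def]
    change Additive.toMul (zmodPow a ha 0) = 1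
    simp
  map_mul' := by
    have hxinv : x⁻¹ = x := inv_eq_of_mul_eq_one_right hx
    have hconj : ∀ k : ℤ, x * a ^ k * x⁻¹ = a ^ (-k) := fun k => by
      rw [← conj_zpow, hxa, inv_zpow, zpow_neg]
    have hcomm : ∀ k : ℤ, a ^ k * x = x * a ^ (-k) := fun k => by
      rw [← hconj k]
      rw [hxinv, ← mul_assoc, ← mul_assoc, hx, one_mul]
    rintro (i | i) (j | j) <;>
      obtain ⟨i, rfl⟩ := ZMod.intCast_surjective i <;>
      obtain ⟨j, rfl⟩ := ZMod.intCast_surjective j
    · simp only [DihedralGroup.r_mul_r, ← Int.cast_add, zmodPow_intCast, zpow_add]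
    · simp only [DihedralGroup.r_mul_sr, ← Int.cast_sub, zmodPow_intCast]
      rw [← mul_assoc, hcomm, mul_assoc, ← zpow_add, neg_add_eq_sub]
    · simp only [DihedralGroup.sr_mul_r, ← Int.cast_add, zmodPow_intCast, zpow_add, mul_assoc]
    · simp only [DihedralGroup.sr_mul_sr, ← Int.cast_sub, zmodPow_intCast]
      rw [mul_assoc, ← mul_assoc (a ^ i), hcomm, mul_assoc x, ← zpow_add, ← mul_assoc, hx, one_mul,
        neg_add_eq_sub]

theorem dihedralHom_r {n : ℕ} (a x : G) (ha : a ^ n = 1) (hx : x * x = 1)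
    (hxa : x * a * x⁻¹ = a⁻¹) (k : ℤ) :
    dihedralHom a x ha hx hxa (.r (k : ZMod n)) = a ^ k :=
  zmodPow_intCast a ha k

theorem dihedralHom_sr {n : ℕ} (a x : G) (ha : a ^ n = 1) (hx : x * x = 1)
    (hxa : x * a * x⁻¹ = a⁻¹) (k : ℤ) :
    dihedralHom a x ha hx hxa (.sr (k : ZMod n)) = x * a ^ k := by
  change x * _ = _
  rw [zmodPow_intCast]

/-- Two involutions generate a dihedral group of order twice the order of their product. -/
theorem nonempty_mulEquiv_dihedralGroup {x y : G} (hx : orderOf x = 2) (hy : orderOf y = 2) :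
    Nonempty (↥(Subgroup.closure ({x, y} : Set G)) ≃* DihedralGroup (orderOf (x * y))) := by
  let φ := dihedralHom (n := orderOf (x * y)) (x * y) x (pow_orderOf_eq_one _)
    (mul_self_of_orderOf_two hx) (conj_mul_eq_inv hx hy)
  have hinj : Function.Injective φ := by
    rw [injective_iff_map_eq_one]
    rintro (i | i) h <;> obtain ⟨i, rfl⟩ := ZMod.intCast_surjective i
    · rw [dihedralHom_r, ← orderOf_dvd_iff_zpow_eq_one] at h
      rw [(ZMod.intCast_zmod_eq_zero_iff_dvd _ _).mpr h, DihedralGroup.r_zero]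
    · rw [dihedralHom_sr] at h
      refine absurd ?_ (notMem_zpowers_mul hx hy)
      have h2 := inv_mem (Subgroup.zpow_mem_zpowers (x * y) i)
      rwa [← mul_eq_one_iff_eq_inv.mp h] at h2
  have hrange : φ.range = Subgroup.closure ({x, y} : Set G) := by
    apply le_antisymm
    · rintro _ ⟨(i | i), rfl⟩ <;> obtain ⟨i, rfl⟩ := ZMod.intCast_surjective i
      · rw [dihedralHom_r]; exact zpow_mem_closure_pair i
      · rw [dihedralHom_sr]; exact mul_mem left_mem_closure_pair (zpow_mem_closure_pair i)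
    · rw [Subgroup.closure_le]
      rintro z (rfl | rfl)
      · exact ⟨.sr ((0 : ℤ) : ZMod _), by rw [dihedralHom_sr]; simp⟩
      · exact ⟨.sr ((1 : ℤ) : ZMod _), by rw [dihedralHom_sr, zpow_one, ← y_eq hx]⟩
  exact ⟨((MonoidHom.ofInjective hinj).trans (MulEquiv.subgroupCongr hrange)).symm⟩

end Cfsg.Agent.Invol
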