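import Mathlib
import Cfsg.Agent.Lib.Invol.Dihedral

/-!
# Involutions and Sylow 2-subgroups
-/

namespace Cfsg.Agent.Invol

variable {G : Type*} [Group G]

/-- A `p`-subgroup is conjugate into any given Sylow `p`-subgroup. -/
theorem exists_conj_subset_sylow [Finite G] {p : ℕ} [Fact p.Prime] {H : Subgroup G}
    (hH : IsPGroup p H) (P : Sylow p G) :
    ∃ g : G, ∀ h ∈ H, g * h * g⁻¹ ∈ P := by
  obtain ⟨Q, hQ⟩ := hH.exists_le_sylow
  obtain ⟨g, hg⟩ := MulAction.exists_smul_eq G Q P
  refine ⟨g, fun h hh => ?_⟩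
  rw [← hg, Sylow.smul_def]
  exact Subgroup.smul_mem_pointwise_smul h (MulAut.conj g) _ (hQ hh)

theorem isPGroup_zpowers {p n : ℕ} [Fact p.Prime] {x : G} (hx : orderOf x = p ^ n) :
    IsPGroup p (Subgroup.zpowers x) :=
  IsPGroup.of_card (by rw [Nat.card_zpowers, hx])

theorem exists_conj_mem_sylow [Finite G] {p n : ℕ} [Fact p.Prime] {x : G}
    (hx : orderOf x = p ^ n) (P : Sylow p G) : ∃ g : G, g * x * g⁻¹ ∈ P := by
  obtain ⟨g, hg⟩ := exists_conj_subset_sylow (isPGroup_zpowers hx) P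
  exact ⟨g, hg x (Subgroup.mem_zpowers x)⟩

theorem exists_orderOf_two_mem {H : Subgroup G} [Finite H] (h : Even (Nat.card H)) :
    ∃ t ∈ H, orderOf t = 2 := by
  obtain ⟨t, ht⟩ := exists_prime_orderOf_dvd_card' (G := H) 2 (even_iff_two_dvd.mp h)
  exact ⟨t, t.2, by rwa [Subgroup.orderOf_coe]⟩

theorem even_card_of_mem {H : Subgroup G} {t : G} (ht : orderOf t = 2)
    (htH : t ∈ H) : Even (Nat.card H) := by
  rw [even_iff_two_dvd, ← ht, ← Subgroup.orderOf_mk t htH]
  exact orderOf_dvd_natCard _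

theorem isPGroup_closure_pair {x y : G} {a : ℕ} (hx : orderOf x = 2) (hy : orderOf y = 2)
    (h : orderOf (x * y) = 2 ^ a) : IsPGroup 2 (Subgroup.closure ({x, y} : Set G)) := by
  obtain ⟨e⟩ := nonempty_mulEquiv_dihedralGroup hx hy
  refine IsPGroup.of_card (n := a + 1) ?_
  rw [Nat.card_congr e.toEquiv, DihedralGroup.nat_card, h, pow_succ, mul_comm]

/-- An element of a Sylow 2-subgroup isolated there equals each of its conjugates with which it
generates a 2-group. -/
theorem eq_of_isolated [Finite G] {P : Sylow 2 G} {u : G} (huP : u ∈ P)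
    (hiso : ∀ g : G, g * u * g⁻¹ ∈ P → g * u * g⁻¹ = u) {Q : Subgroup G} (hQ : IsPGroup 2 Q)
    (hu : u ∈ Q) {g : G} (hv : g * u * g⁻¹ ∈ Q) : g * u * g⁻¹ = u := by
  obtain ⟨h, hh⟩ := exists_conj_subset_sylow hQ P
  have h1 := hiso h (hh u hu)
  have h2 := hh _ hv
  have h3 : h * (g * u * g⁻¹) * h⁻¹ = u := by
    have := hiso (h * g) (by simpa [mul_assoc] using h2)
    simpa [mul_assoc] using this
  have := h3.trans h1.symm
  simpa using this

/-- If the product of two involutions has order `2^a * b` with `b` odd, then `x * (x*y)^b` is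
conjugate to `y` in `⟨x, y⟩` and generates a 2-group with `x`. -/
theorem exists_conj_two_part {x y : G} (hx : orderOf x = 2) (hy : orderOf y = 2) {a b : ℕ}
    (h : orderOf (x * y) = 2 ^ a * b) (hb : Odd b) :
    ∃ d ∈ Subgroup.closure ({x, y} : Set G), d * y * d⁻¹ = x * (x * y) ^ b ∧
      orderOf ((x * y) ^ b) = 2 ^ a := by
  obtain ⟨j, hj⟩ := hb
  refine ⟨(x * y) ^ (-(j : ℤ)), zpow_mem_closure_pair _, ?_, ?_⟩
  · conv_lhs => arg 1; arg 2; rw [y_eq' hx hy]
    have hb' : x * (x * y) ^ b = (x * y) ^ (-(b : ℤ)) * x := by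
      rw [← mul_zpow_comm hx hy, zpow_natCast]
    rw [hb', ← zpow_neg, mul_assoc, mul_assoc, mul_zpow_comm hx hy, ← mul_assoc, ← mul_assoc,
      ← zpow_add, ← zpow_add, hj]
    congr 2
    push_cast
    ring
  · rw [orderOf_pow' _ (by omega : b ≠ 0), h, Nat.gcd_eq_right (dvd_mul_left b _),
      Nat.mul_div_cancel _ (by omega : 0 < b)]

/-- A finite cyclic group has at most one involution. -/
theorem involution_unique_of_isCyclic [Finite G] [IsCyclic G] {x y : G} (hx : orderOf x = 2)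
    (hy : orderOf y = 2) : x = y := by
  classical
  have := Fintype.ofFinite G
  have h := IsCyclic.card_orderOf_eq_totient (α := G) (d := 2) (hx ▸ orderOf_dvd_card)
  rw [Nat.totient_two] at h
  exact Finset.card_le_one.mp h.le x (by simpa using hx) y (by simpa using hy)

end Cfsg.Agent.Invol
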