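import Mathlib
import Cfsg.Prelude.Def_Transfer
import Cfsg.Agent.Lib.Invol.Sylow

/-!
# The subgroup generated by the elements of order prime to `p`
-/

namespace Cfsg.Agent.Invol

variable {G : Type*} [Group G] {p : ℕ}

theorem mem_pResidual {x : G} (h : (orderOf x).Coprime p) : x ∈ Cfsg.pResidual p G :=
  Subgroup.subset_closure h

instance pResidual_characteristic : (Cfsg.pResidual p G).Characteristic := by
  refine Subgroup.characteristic_iff_map_le.mpr fun φ => ?_
  rw [Cfsg.pResidual, MonoidHom.map_closure, Subgroup.closure_le]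
  rintro _ ⟨x, hx, rfl⟩
  refine Subgroup.subset_closure ?_
  change (orderOf (φ x)).Coprime p
  rw [MulEquiv.orderOf_eq]
  exact hx

theorem exists_pow_coprime [Finite G] [hp : Fact p.Prime] (x : G) :
    ∃ k : ℕ, (orderOf (x ^ p ^ k)).Coprime p := by
  obtain ⟨k, m, hm, hkm⟩ :=
    Nat.exists_eq_pow_mul_and_not_dvd (orderOf_pos x).ne' p hp.out.ne_one
  refine ⟨k, ?_⟩
  rw [orderOf_pow' _ (pow_ne_zero k hp.out.ne_zero), hkm, Nat.gcd_eq_right (dvd_mul_right _ m),
    Nat.mul_div_cancel_left _ (pow_pos hp.out.pos k)]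
  exact ((Nat.Prime.coprime_iff_not_dvd hp.out).mpr hm).symm

theorem isPGroup_quotient_pResidual [Finite G] [Fact p.Prime] :
    IsPGroup p (G ⧸ Cfsg.pResidual p G) := by
  intro x
  induction x using QuotientGroup.induction_on with | _ g => ?_
  obtain ⟨k, hk⟩ := exists_pow_coprime (p := p) g
  exact ⟨k, by rw [← QuotientGroup.mk_pow, QuotientGroup.eq_one_iff]; exact mem_pResidual hk⟩

theorem pResidual_le_of_isPGroup_quotient [Finite G] [hp : Fact p.Prime] {N : Subgroup G} [N.Normal]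
    (h : IsPGroup p (G ⧸ N)) : Cfsg.pResidual p G ≤ N := by
  rw [Cfsg.pResidual, Subgroup.closure_le]
  intro x hx
  obtain ⟨k, hk⟩ := h (x : G ⧸ N)
  have hd : orderOf (x : G ⧸ N) ∣ p ^ k := orderOf_dvd_of_pow_eq_one hk
  have hd2 : orderOf (x : G ⧸ N) ∣ orderOf x := orderOf_map_dvd (QuotientGroup.mk' N) x
  have h1 := Nat.eq_one_of_dvd_coprimes ((Nat.Coprime.pow_right k hx)) hd2 hd
  rw [orderOf_eq_one_iff, QuotientGroup.eq_one_iff] at h1
  exact h1

/-- A Sylow `p`-subgroup and the elements of order prime to `p` generate the group. -/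
theorem pResidual_sup_sylow [Finite G] [hp : Fact p.Prime] (P : Sylow p G) :
    Cfsg.pResidual p G ⊔ (P : Subgroup G) = ⊤ := by
  rw [← Subgroup.index_eq_one]
  obtain ⟨k, hk⟩ := (isPGroup_quotient_pResidual (p := p) (G := G)).exists_card_eq
  rw [← Subgroup.index_eq_card] at hk
  have h1 : (Cfsg.pResidual p G ⊔ (P : Subgroup G)).index ∣ p ^ k :=
    hk ▸ Subgroup.index_dvd_of_le le_sup_left
  have h2 : (Cfsg.pResidual p G ⊔ (P : Subgroup G)).index ∣ (P : Subgroup G).index :=
    Subgroup.index_dvd_of_le le_sup_right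
  exact Nat.eq_one_of_dvd_coprimes
    (Nat.Coprime.pow_left k (hp.out.coprime_iff_not_dvd.mpr P.not_dvd_index)) h1 h2

/-- A `p`-subgroup lies in a conjugate, by an element of `O^p`, of a given Sylow `p`-subgroup. -/
theorem exists_residual_conj_subset_sylow [Finite G] [Fact p.Prime] {H : Subgroup G}
    (hH : IsPGroup p H) (P : Sylow p G) :
    ∃ m ∈ Cfsg.pResidual p G, ∀ h ∈ H, m * h * m⁻¹ ∈ P := by
  obtain ⟨g, hg⟩ := exists_conj_subset_sylow hH P
  have hmem : g ∈ (P : Subgroup G) ⊔ Cfsg.pResidual p G := by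
    rw [sup_comm, pResidual_sup_sylow]; trivial
  obtain ⟨r, hr, m, hm, rfl⟩ := Subgroup.mem_sup_of_normal_right.mp hmem
  refine ⟨m, hm, fun h hh => ?_⟩
  have := mul_mem (mul_mem (inv_mem hr) (hg h hh)) hr
  exact (by simpa [mul_assoc] using this : m * h * m⁻¹ ∈ (P : Subgroup G))

end Cfsg.Agent.Invol
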