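import Mathlib
import Cfsg.Prelude.Def_Solvable
import Cfsg.Prelude.Def_Transfer
import Cfsg.Agent.Lib.Grp.Cores
import Cfsg.Agent.Lib.Invol.PResidual

/-!
# Groups of characteristic `p`
-/

namespace Cfsg.Agent.Invol

variable {G : Type*} [Group G] {p : ℕ}

/-- `G` has characteristic `p`: `C_G(O_p(G)) ≤ O_p(G)`. -/
abbrev CharP' (p : ℕ) (G : Type*) [Group G] : Prop :=
  Subgroup.centralizer (Cfsg.pCore p G : Set G) ≤ Cfsg.pCore p G

theorem pCore_normal (p : ℕ) (G : Type*) [Group G] : (Cfsg.pCore p G).Normal :=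
  Subgroup.sSup_normal _ fun _ h => h.1

/-- If `x` has order prime to `p`, centralises the `p`-element `z` and maps `q` to `z * q`,
then it fixes `q`. -/
theorem commute_of_stabilises {x q z : G} (hx : (orderOf x).Coprime p) {k : ℕ}
    (hz : z ^ p ^ k = 1) (hxz : Commute x z) (hq : x * q * x⁻¹ = z * q) : Commute x q := by
  have hn : ∀ n : ℕ, x ^ n * q * (x ^ n)⁻¹ = z ^ n * q := by
    intro n
    induction n with
    | zero => simp
    | succ n ih =>
      calc x ^ (n + 1) * q * (x ^ (n + 1))⁻¹ = x * (x ^ n * q * (x ^ n)⁻¹) * x⁻¹ := by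
            rw [pow_succ']; group
        _ = x * z ^ n * (x⁻¹ * (x * q * x⁻¹)) := by rw [ih]; group
        _ = z ^ n * x * (x⁻¹ * (z * q)) := by rw [hq, (hxz.pow_right n).eq]
        _ = z ^ (n + 1) * q := by rw [pow_succ]; group
  have h1 : z ^ orderOf x = 1 := by simpa [pow_orderOf_eq_one] using (hn (orderOf x)).symm
  have hd1 : orderOf z ∣ orderOf x := orderOf_dvd_of_pow_eq_one h1
  have hd2 : orderOf z ∣ p ^ k := orderOf_dvd_of_pow_eq_one hz
  have hz1 : z = 1 :=
    orderOf_eq_one_iff.mp (Nat.eq_one_of_dvd_coprimes (hx.pow_right k) hd1 hd2)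
  rw [hz1, one_mul] at hq
  exact mul_inv_eq_iff_eq_mul.mp hq

theorem isPGroup_of_coprime_elements [Finite G] [Fact p.Prime]
    (h : ∀ x : G, (orderOf x).Coprime p → x = 1) : IsPGroup p G := by
  intro g
  obtain ⟨k, hk⟩ := exists_pow_coprime (p := p) g
  exact ⟨k, h _ hk⟩

theorem pow_ppow_eq_one_of_mem {U : Subgroup G} (hU : IsPGroup p U) {z : G} (hz : z ∈ U) :
    ∃ k, z ^ p ^ k = 1 := by
  obtain ⟨k, hk⟩ := hU ⟨z, hz⟩
  exact ⟨k, congrArg Subtype.val hk⟩

theorem eq_one_of_coprime_of_mem {U : Subgroup G} (hU : IsPGroup p U) {x : G} (hx : x ∈ U)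
    (hc : (orderOf x).Coprime p) : x = 1 := by
  obtain ⟨k, hk⟩ := pow_ppow_eq_one_of_mem hU hx
  exact orderOf_eq_one_iff.mp
    (Nat.eq_one_of_dvd_coprimes (hc.pow_right k) dvd_rfl (orderOf_dvd_of_pow_eq_one hk))

theorem mem_pCore_of_subgroupOf {L U : Subgroup G} (hn : (U.subgroupOf L).Normal)
    (hU : IsPGroup p U) {x : G} (hxU : x ∈ U) (hxL : x ∈ L) :
    (⟨x, hxL⟩ : L) ∈ Cfsg.pCore p L :=
  Grp.le_pCore hn hU.comap_subtype hxU

/-- A subgroup normalised by `O_p(G)` inherits characteristic `p`. -/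
theorem charP_of_le_normalizer [Finite G] [Fact p.Prime] (hG : CharP' p G) (L : Subgroup G)
    (hL : Cfsg.pCore p G ≤ Subgroup.normalizer (L : Set G)) : CharP' p L := by
  set Q := Cfsg.pCore p G with hQ
  have hQn : Q.Normal := pCore_normal p G
  have := pCore_normal p L
  set C := Subgroup.centralizer (Cfsg.pCore p L : Set L) with hC
  have hQp : IsPGroup p Q := Grp.pCore_isPGroup
  have hint : ∀ z, z ∈ Q → (hz : z ∈ L) → (⟨z, hz⟩ : L) ∈ Cfsg.pCore p L := fun z hzQ hz =>
    mem_pCore_of_subgroupOf (hQn.subgroupOf L) hQp hzQ hz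
  have hCp : IsPGroup p C := by
    refine isPGroup_of_coprime_elements fun x hx => ?_
    have hxo : (orderOf ((x : L) : G)).Coprime p := by
      rw [Subgroup.orderOf_coe, Subgroup.orderOf_coe]; exact hx
    have hxQ : ((x : L) : G) ∈ Subgroup.centralizer (Q : Set G) := by
      rw [Subgroup.mem_centralizer_iff]
      intro q hq
      set xg : G := ((x : L) : G) with hxg
      set z := xg * q * xg⁻¹ * q⁻¹ with hz
      have hzQ : z ∈ Q := mul_mem (hQn.conj_mem q hq xg) (inv_mem hq)
      have hzL : z ∈ L := by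
        have : q * xg⁻¹ * q⁻¹ ∈ L :=
          (Subgroup.mem_normalizer_iff.mp (hL hq) xg⁻¹).mp (inv_mem (x : L).2)
        have h2 := mul_mem (x : L).2 this
        simpa [hz, hxg, mul_assoc] using h2
      obtain ⟨k, hk⟩ := pow_ppow_eq_one_of_mem hQp hzQ
      have hcomm : Commute xg z :=
        (congrArg Subtype.val (Subgroup.mem_centralizer_iff.mp x.2 _ (hint z hzQ hzL))).symm
      exact (commute_of_stabilises hxo hk hcomm (by rw [hz]; group)).eq.symm
    have h1 := eq_one_of_coprime_of_mem hQp (hG hxQ) hxo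
    exact Subtype.ext (Subtype.ext h1)
  exact Grp.le_pCore inferInstance hCp

theorem pCore_map_le_of_mulEquiv {H : Type*} [Group H] (e : G ≃* H) :
    (Cfsg.pCore p G).map e.toMonoidHom ≤ Cfsg.pCore p H := by
  rw [Cfsg.pCore, Subgroup.map_le_iff_le_comap]
  refine sSup_le fun N hN => Subgroup.map_le_iff_le_comap.mp ?_
  exact Grp.le_pCore (hN.1.map _ e.surjective) (hN.2.map _)

theorem charP_of_mulEquiv {H : Type*} [Group H] (e : G ≃* H) (hG : CharP' p G) : CharP' p H := by
  intro h hh
  have hc : e.symm h ∈ Subgroup.centralizer (Cfsg.pCore p G : Set G) := by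
    rw [Subgroup.mem_centralizer_iff]
    intro q hq
    have := Subgroup.mem_centralizer_iff.mp hh (e q)
      (pCore_map_le_of_mulEquiv e ⟨q, hq, rfl⟩)
    apply e.injective
    simpa using this
  exact pCore_map_le_of_mulEquiv e ⟨_, hG hc, e.apply_symm_apply h⟩

/-- Subnormal subgroups inherit characteristic `p`. -/
theorem charP_of_isSubnormal [Finite G] [Fact p.Prime] (hG : CharP' p G) {Y : Subgroup G}
    (hY : Y.IsSubnormal) : CharP' p Y := by
  induction hY with
  | top => exact charP_of_mulEquiv Subgroup.topEquiv.symm hG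
  | step H K hle _ hn ih =>
    have h1 : CharP' p ↥(H.subgroupOf K) :=
      charP_of_le_normalizer ih _ (by rw [Subgroup.normalizer_eq_top]; exact le_top)
    exact charP_of_mulEquiv (Subgroup.subgroupOfEquivOfLe hle) h1

/-- An extension by a `p`-group of a characteristic `p` group has characteristic `p`. -/
theorem charP_of_isPGroup_quotient [Finite G] [Fact p.Prime] (K : Subgroup G) [hK : K.Normal]
    (hq : IsPGroup p (G ⧸ K)) (hKc : CharP' p K) : CharP' p G := by
  have := pCore_normal p G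
  have := pCore_normal p K
  set C := Subgroup.centralizer (Cfsg.pCore p G : Set G) with hC
  have hCp : IsPGroup p C := by
    refine isPGroup_of_coprime_elements fun x hx => ?_
    have hxo : (orderOf (x : G)).Coprime p := by rwa [Subgroup.orderOf_coe]
    have hxK : (x : G) ∈ K := pResidual_le_of_isPGroup_quotient hq (mem_pResidual hxo)
    have hxc : (⟨x, hxK⟩ : K) ∈ Subgroup.centralizer (Cfsg.pCore p K : Set K) := by
      rw [Subgroup.mem_centralizer_iff]
      intro q hq'
      exact Subtype.ext (Subgroup.mem_centralizer_iff.mp x.2 _ (Grp.pCore_map_le K ⟨q, hq', rfl⟩))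
    have h1 := eq_one_of_coprime_of_mem (Grp.pCore_isPGroup (p := p)) (hKc hxc)
      (by rw [Subgroup.orderOf_mk]; exact hxo)
    exact Subtype.ext (Subtype.mk.inj h1)
  exact Grp.le_pCore inferInstance hCp

end Cfsg.Agent.Invol
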