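import Mathlib

/-!
# Quadratic elements, coprime abelian groups, minimal offenders

The key elementary fact: for odd `p` a quadratic element of automorphisms of an abelian `p`-group
commutes with every abelian group of automorphisms of order prime to `p` normalized by it.
-/

namespace Cfsg.Agent.Invol

variable {p : ℕ}

theorem pow_eq_one_add_of_sq_zero {R : Type*} [Ring R] {n : R} (hn : n * n = 0) (k : ℕ) :
    (1 + n) ^ k = 1 + k • n := by
  induction k with
  | zero => simp
  | succ k ih =>
    rw [pow_succ, ih, succ_nsmul, add_mul, one_mul, smul_mul_assoc, mul_add, mul_one, hn,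
      add_zero]
    abel

theorem eq_zero_of_two_nsmul {R : Type*} [Ring R] {e : ℕ} [hp : Fact p.Prime] (hp2 : p ≠ 2)
    (hR : ((p ^ e : ℕ) : R) = 0) {T : R} (h : T + T = 0) : T = 0 := by
  obtain ⟨r, hr⟩ := (hp.out.odd_of_ne_two hp2).pow (n := e)
  have h1 : ((p ^ e : ℕ) : R) * T = T := by
    rw [hr, Nat.cast_add, Nat.cast_mul, Nat.cast_one, add_mul, one_mul, Nat.cast_ofNat,
      two_mul, add_mul, ← mul_add, h, mul_zero, zero_add]
  rw [← h1, hR, zero_mul]

/-- The ring form of the quadratic lemma. -/
theorem quadratic_commute_ring {R : Type*} [Ring R] {e : ℕ} [hp : Fact p.Prime] (hp2 : p ≠ 2)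
    (hR : ((p ^ e : ℕ) : R) = 0) {a q q' : R} (hq : q * q' = 1) (ha : a * a = 0)
    (h1 : Commute q ((1 + a) * q * (1 - a))) (h2 : Commute q ((1 - a) * q * (1 + a)))
    (h3 : Commute ((1 + a) * q * (1 - a)) ((1 + a) * ((1 + a) * q * (1 - a)) * (1 - a)))
    (hk : ∃ k : ℕ, k.Coprime p ∧ ((1 + a) * q * (1 - a) * q') ^ k = 1)
    (hq' : q' * q = 1) : a * q = q * a := by
  set u := a * q - q * a with hu
  set w := a * q * a with hw
  have y1 : (1 + a) * q * (1 - a) = q + u - w := by rw [hu, hw]; noncomm_ring
  have y1' : (1 - a) * q * (1 + a) = q - u - w := by rw [hu, hw]; noncomm_ring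
  have y2 : (1 + a) * ((1 + a) * q * (1 - a)) * (1 - a) = q + (u + u) - (w + w + (w + w)) := by
    have : (1 + a) * ((1 + a) * q * (1 - a)) * (1 - a) = (1 + (a + a) + a * a) * q * (1 - (a + a) + a * a) := by
      noncomm_ring
    rw [this, ha, hu, hw]; noncomm_ring
  rw [y2, y1] at h3
  rw [y1] at h1 hk
  rw [y1'] at h2
  have key1 : q * u - u * q = q * w - w * q := by
    have := h1.eq
    rw [mul_sub, mul_add, sub_mul, add_mul] at this
    linear_combination (norm := noncomm_ring) this
  have key2 : -(q * u - u * q) = q * w - w * q := by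
    have := h2.eq
    rw [mul_sub, mul_sub, sub_mul, sub_mul] at this
    linear_combination (norm := noncomm_ring) this
  have hqw : q * w = w * q := by
    refine sub_eq_zero.mp (eq_zero_of_two_nsmul hp2 hR ?_)
    nth_rewrite 1 [← key1]
    rw [← key2, add_neg_cancel]
  have hqu : q * u = u * q := by
    rw [← sub_eq_zero, key1, sub_eq_zero, hqw]
  have huw0 : u * w = w * u := by
    have h := h3.eq
    refine sub_eq_zero.mp (eq_zero_of_two_nsmul hp2 hR ?_)
    have e1 : (q + u - w) * (q + (u + u) - (w + w + (w + w))) - (q + (u + u) - (w + w + (w + w))) * (q + u - w)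
        = (q * u - u * q) + (q * w - w * q) * (-3) - ((u * w - w * u) + (u * w - w * u)) := by
      noncomm_ring
    rw [h, sub_self, hqu, hqw, sub_self, sub_self, zero_mul, zero_add, zero_sub] at e1
    exact neg_eq_zero.mp e1.symm
  -- `u` and `w` multiply to zero
  have haqq : a * q * q - q * a * q - (q * a * q - q * q * a) = 0 := by
    have := hqu
    rw [hu, mul_sub, sub_mul] at this
    linear_combination (norm := noncomm_ring) -this
  have hauq : a * q * q * a = w * q + w * q := by
    have h := congrArg (fun T => a * T) haqq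
    simp only [mul_zero] at h
    have e : a * (a * q * q - q * a * q - (q * a * q - q * q * a)) =
        a * a * q * q - (a * q * a * q + a * q * a * q) + a * q * q * a := by noncomm_ring
    rw [e, ha, zero_mul, zero_mul, zero_sub, ← hw] at h
    exact (neg_add_eq_zero.mp h).symm
  have huu : u * u = 0 := by
    have e : u * u = a * q * a * q - a * q * q * a - q * (a * a) * q + q * (a * q * a) := by
      rw [hu]; noncomm_ring
    rw [e, hauq, ha, ← hw, mul_zero, zero_mul, sub_zero, hqw]
    abel
  have huw : u * w = 0 := by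
    have e : u * w = (a * q * a) * q * a - q * (a * a) * q * a := by rw [hu, hw]; noncomm_ring
    rw [e, ← hw, ← hqw, hw, ha, mul_zero, zero_mul, zero_mul, sub_zero,
      show q * (a * q * a) * a = q * (a * q) * (a * a) by noncomm_ring, ha, mul_zero]
  have hww : w * w = 0 := by
    rw [hw, show a * q * a * (a * q * a) = a * q * (a * a) * (q * a) by noncomm_ring, ha, mul_zero,
      zero_mul]
  set n := (u - w) * q' with hn
  have hcq : ∀ T : R, q * T = T * q → q' * T = T * q' := by
    intro T hT
    calc q' * T = q' * (T * (q * q')) := by rw [hq, mul_one]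
      _ = q' * (T * q) * q' := by noncomm_ring
      _ = q' * q * T * q' := by rw [← hT]; noncomm_ring
      _ = T * q' := by rw [hq', one_mul]
  have hnn : n * n = 0 := by
    rw [hn, show (u - w) * q' * ((u - w) * q') = (u - w) * (q' * (u - w)) * q' by noncomm_ring,
      hcq (u - w) (by rw [mul_sub, sub_mul, hqu, hqw]),
      show (u - w) * ((u - w) * q') * q' = (u * u - u * w - w * u + w * w) * q' * q' by noncomm_ring,
      ← huw0, huu, huw, hww]
    simp
  have hz : (q + u - w) * q' = 1 + n := by
    rw [hn, ← hq]; noncomm_ring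
  obtain ⟨k, hk, hk1⟩ := hk
  rw [hz, pow_eq_one_add_of_sq_zero hnn, add_eq_left, nsmul_eq_mul] at hk1
  have hn0 : n = 0 := by
    have hcop : IsCoprime (k : ℤ) ((p ^ e : ℕ) : ℤ) :=
      Nat.isCoprime_iff_coprime.mpr (hk.pow_right e)
    obtain ⟨s, t, hst⟩ := hcop
    have h4 := congrArg (fun z : ℤ => (z : R) * n) hst
    simp only [Int.cast_add, Int.cast_mul, Int.cast_natCast, Int.cast_one, one_mul, add_mul] at h4
    rw [mul_assoc, hk1, mul_zero, hR, mul_zero, zero_mul, add_zero] at h4
    exact h4.symm
  have huw' : u = w := by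
    have : (u - w) * q' * q = 0 := by rw [← hn, hn0, zero_mul]
    rw [mul_assoc, hq', mul_one, sub_eq_zero] at this
    exact this
  have hconj : (1 + a) * q * (1 - a) = q := by rw [y1, huw', add_sub_cancel_right]
  have hmul : (1 + a) * q * ((1 - a) * (1 + a)) = q * (1 + a) := by rw [← mul_assoc, hconj]
  rw [show (1 - a) * (1 + a) = 1 - a * a by noncomm_ring, ha, sub_zero, mul_one] at hmul
  linear_combination (norm := noncomm_ring) hmul

section Group

variable {V : Type*} [CommGroup V] {Z : Type*} [Group Z]

/-- An automorphism as an endomorphism of the additive group. -/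
noncomputable def autEnd (V : Type*) [CommGroup V] : MulAut V →* AddMonoid.End (Additive V) where
  toFun f := MonoidHom.toAdditive f.toMonoidHom
  map_one' := rfl
  map_mul' _ _ := rfl

theorem autEnd_apply (f : MulAut V) (v : V) :
    autEnd V f (Additive.ofMul v) = Additive.ofMul (f v) := rfl

theorem autEnd_injective : Function.Injective (autEnd V) := fun f g h =>
  MulEquiv.ext fun v => congrArg Additive.toMul (DFunLike.congr_fun h (Additive.ofMul v))

/-- For odd `p`: a quadratic automorphism `x` of an abelian `p`-group commutes with `q` if `q` commutes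
with its conjugates under `x` and `x q x⁻¹ q⁻¹` has order prime to `p`. -/
theorem quadratic_commute [Finite V] [hp : Fact p.Prime] (hp2 : p ≠ 2) (hV : IsPGroup p V)
    {x q : MulAut V} (hx : ∀ v : V, x (x v) * v = x v * x v)
    (h1 : Commute q (x * q * x⁻¹)) (h2 : Commute q (x⁻¹ * q * x))
    (h3 : Commute (x * q * x⁻¹) (x * (x * q * x⁻¹) * x⁻¹))
    (hk : ∃ k : ℕ, k.Coprime p ∧ (x * q * x⁻¹ * q⁻¹) ^ k = 1) : x * q = q * x := by
  obtain ⟨e, he⟩ := IsPGroup.iff_card.mp hV
  set f := autEnd V with hf
  have hR : ((p ^ e : ℕ) : AddMonoid.End (Additive V)) = 0 := by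
    refine AddMonoidHom.ext fun v => ?_
    change (p ^ e) • v = 0
    rw [← he, show Nat.card V = Nat.card (Additive V) from rfl]
    exact card_nsmul_eq_zero'
  set a := f x - 1 with ha'
  have hfx : f x = 1 + a := by rw [ha']; abel
  have ha : a * a = 0 := by
    refine AddMonoidHom.ext fun v => ?_
    have h := congrArg Additive.ofMul (hx v.toMul)
    simp only [ofMul_mul, ← autEnd_apply, ofMul_toMul, ← hf] at h
    change f x (f x v - v) - (f x v - v) = 0
    rw [map_sub]
    rw [← sub_eq_zero] at h
    rw [← h]; abel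
  have hfi : f x⁻¹ = 1 - a := by
    have e1 : f x⁻¹ * (1 + a) = 1 := by rw [← hfx, ← map_mul, inv_mul_cancel, map_one]
    calc f x⁻¹ = f x⁻¹ * (1 - a * a) := by rw [ha, sub_zero, mul_one]
      _ = f x⁻¹ * (1 + a) * (1 - a) := by
        rw [mul_assoc]; congr 1
        rw [mul_sub (1 + a), mul_one, add_mul, one_mul, sub_add_eq_sub_sub, add_sub_cancel_right]
      _ = 1 - a := by rw [e1, one_mul]
  have key := quadratic_commute_ring hp2 hR (a := a) (q := f q) (q' := f q⁻¹)
    (by rw [← map_mul, mul_inv_cancel, map_one]) ha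
    (by rw [← hfx, ← hfi, ← map_mul, ← map_mul]; exact h1.map f)
    (by rw [← hfx, ← hfi, ← map_mul, ← map_mul]; exact h2.map f)
    (by rw [← hfx, ← hfi, ← map_mul, ← map_mul, ← map_mul, ← map_mul]; exact h3.map f)
    (by
      obtain ⟨k, hk, hk1⟩ := hk
      refine ⟨k, hk, ?_⟩
      rw [← hfx, ← hfi, ← map_mul, ← map_mul, ← map_mul, ← map_pow, hk1, map_one])
    (by rw [← map_mul, inv_mul_cancel, map_one])
  apply autEnd_injective
  rw [map_mul, map_mul, ← hf, hfx, add_mul, mul_add, one_mul, mul_one, key]

end Group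

end Cfsg.Agent.Invol
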