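import Mathlib
import Cfsg.Prelude.Def_LocalEven
import Cfsg.Agent.Lib.Invol.Quadratic
import Cfsg.Agent.Lib.Invol.CharP

/-!
# A class of p-stable groups: p-group, abelian p'-group, p-group
-/

namespace Cfsg.Agent.Invol

universe u v

variable {p : ℕ}

/-- Data: normal `p`-subgroup `P`, normal `M ≥ P` with `M/P` abelian of order prime to `p`,
and `Y/M` a `p`-group. -/
structure IsPAbelData (p : ℕ) {Y : Type*} [Group Y] (P M : Subgroup Y) : Prop where
  pn : P.Normal
  mn : M.Normal
  le : P ≤ M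
  isP : IsPGroup p P
  comm : ∀ a ∈ M, ∀ b ∈ M, a * b * a⁻¹ * b⁻¹ ∈ P
  top : ∀ y : Y, ∃ n : ℕ, y ^ p ^ n ∈ M
  mid : ∀ m ∈ M, ∃ k : ℕ, k.Coprime p ∧ m ^ k ∈ P

/-- `Y` is a `p`-by-(abelian `p'`)-by-`p` group. -/
def IsPAbelP (p : ℕ) (Y : Type*) [Group Y] : Prop := ∃ P M : Subgroup Y, IsPAbelData p P M

theorem IsPAbelData.comap {X Y : Type*} [Group X] [Group Y] {P M : Subgroup Y}
    (h : IsPAbelData p P M) {f : X →* Y} (hf : Function.Injective f) :
    IsPAbelData p (P.comap f) (M.comap f) where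
  pn := h.pn.comap f
  mn := h.mn.comap f
  le := Subgroup.comap_mono h.le
  isP := h.isP.comap_of_injective f hf
  comm a ha b hb := by simpa using h.comm _ ha _ hb
  top y := by simpa using h.top (f y)
  mid m hm := by simpa using h.mid _ hm

theorem IsPAbelData.map {X Y : Type*} [Group X] [Group Y] {P M : Subgroup X}
    (h : IsPAbelData p P M) {f : X →* Y} (hf : Function.Surjective f) :
    IsPAbelData p (P.map f) (M.map f) where
  pn := h.pn.map f hf
  mn := h.mn.map f hf
  le := Subgroup.map_mono h.le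
  isP := h.isP.map f
  comm := by
    rintro _ ⟨a, ha, rfl⟩ _ ⟨b, hb, rfl⟩
    exact ⟨_, h.comm a ha b hb, by simp⟩
  top y := by
    obtain ⟨x, rfl⟩ := hf y
    obtain ⟨n, hn⟩ := h.top x
    exact ⟨n, _, hn, map_pow f _ _⟩
  mid := by
    rintro _ ⟨m, hm, rfl⟩
    obtain ⟨k, hk, hk'⟩ := h.mid m hm
    exact ⟨k, hk, _, hk', map_pow f _ _⟩

theorem IsPAbelP.of_injective {X Y : Type*} [Group X] [Group Y] (h : IsPAbelP p Y) {f : X →* Y}
    (hf : Function.Injective f) : IsPAbelP p X := by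
  obtain ⟨P, M, h⟩ := h
  exact ⟨_, _, h.comap hf⟩

theorem IsPAbelP.of_surjective {X Y : Type*} [Group X] [Group Y] (h : IsPAbelP p X) {f : X →* Y}
    (hf : Function.Surjective f) : IsPAbelP p Y := by
  obtain ⟨P, M, h⟩ := h
  exact ⟨_, _, h.map hf⟩

/-- An automorphism stabilising `W ≤ R` (trivial on `W` and on `R/W`) has order dividing `|R|`. -/
theorem pow_card_eq_one_of_stabilises {R : Type*} [Group R] [Finite R] {g : MulAut R}
    (W : Subgroup R) (h1 : ∀ w ∈ W, g w = w) (h2 : ∀ r, r⁻¹ * g r ∈ W) : g ^ Nat.card R = 1 := by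
  refine MulEquiv.ext fun r => ?_
  have hn : ∀ n : ℕ, (g ^ n) r = r * (r⁻¹ * g r) ^ n := by
    intro n
    induction n with
    | zero => simp
    | succ n ih =>
      rw [pow_succ', MulAut.mul_apply, ih, map_mul, map_pow, h1 _ (h2 r),
        pow_succ' (r⁻¹ * g r), ← mul_assoc r, mul_inv_cancel_left]
  rw [hn, pow_card_eq_one', mul_one]
  rfl

/-- Quadratic `x`: all commutators with `M` act as `p`-elements. -/
theorem comm_acts_pElement [hp : Fact p.Prime] (hp2 : p ≠ 2) {Z : Type v} [Group Z] [Finite Z]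
    {P M : Subgroup Z} (hd : IsPAbelData p P M) (x : Z) {m : Z} (hm : m ∈ M)
    (R : Type u) [Group R] [Finite R] (hR : IsPGroup p R) (α : Z →* MulAut R)
    (hx : ∀ r : R, α x (r⁻¹ * α x r) = r⁻¹ * α x r) :
    ∃ n : ℕ, α (x * m * x⁻¹ * m⁻¹) ^ p ^ n = 1 := by
  suffices key : ∀ N : ℕ, ∀ (R : Type u) [Group R] [Finite R], Nat.card R = N → IsPGroup p R →
      ∀ α : Z →* MulAut R, (∀ r : R, α x (r⁻¹ * α x r) = r⁻¹ * α x r) →
        ∃ n : ℕ, α (x * m * x⁻¹ * m⁻¹) ^ p ^ n = 1 from key _ R rfl hR α hx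
  intro N
  induction N using Nat.strong_induction_on with
  | _ N ih =>
  intro R _ _ hN hR α hx
  rcases subsingleton_or_nontrivial R with hsub | hnt
  · exact ⟨0, MulEquiv.ext fun r => Subsingleton.elim _ _⟩
  have := hd.pn
  let R₁ : Subgroup R :=
    { carrier := {r | r ∈ Subgroup.center R ∧ ∀ z ∈ P, α z r = r}
      mul_mem' := fun ha hb => ⟨mul_mem ha.1 hb.1, fun z hz => by rw [map_mul, ha.2 z hz, hb.2 z hz]⟩
      one_mem' := ⟨one_mem _, fun z _ => map_one _⟩
      inv_mem' := fun ha => ⟨inv_mem ha.1, fun z hz => by rw [map_inv, ha.2 z hz]⟩ }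
  have hcenter : ∀ (f : MulAut R) (r : R), r ∈ Subgroup.center R → f r ∈ Subgroup.center R := by
    intro f r hr
    rw [Subgroup.mem_center_iff] at hr ⊢
    intro s
    obtain ⟨t, rfl⟩ := f.surjective s
    rw [← map_mul, ← map_mul, hr t]
  have hinv : ∀ z : Z, ∀ r ∈ R₁, α z r ∈ R₁ := by
    intro z r hr
    refine ⟨hcenter _ _ hr.1, fun w hw => ?_⟩
    have h1 : z⁻¹ * w * z ∈ P := by simpa using hd.pn.conj_mem w hw z⁻¹
    have h2 := congrArg (α z) (hr.2 _ h1)
    rwa [map_mul, map_mul, map_inv, MulAut.mul_apply, MulAut.mul_apply, MulAut.apply_inv_self] at h2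
  have hR₁ : R₁ ≠ ⊥ := by
    have := hR.center_nontrivial
    let _ : MulAction P (Subgroup.center R) :=
      { smul := fun z r => ⟨α z r, hcenter _ _ r.2⟩
        one_smul := fun r => Subtype.ext (by change α ((1 : P) : Z) (r : R) = r; simp)
        mul_smul := fun z w r => Subtype.ext (by
          change α ((z * w : P) : Z) (r : R) = α (z : Z) (α (w : Z) (r : R))
          simp) }
    have hdvd : p ∣ Nat.card (Subgroup.center R) := by
      obtain ⟨k, hk⟩ := IsPGroup.iff_card.mp (hR.to_subgroup (Subgroup.center R))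
      have h1 : 1 < Nat.card (Subgroup.center R) := Finite.one_lt_card
      rw [hk] at h1 ⊢
      exact dvd_pow_self p (by rintro rfl; simp at h1)
    have h1 : (1 : Subgroup.center R) ∈ MulAction.fixedPoints P (Subgroup.center R) :=
      fun z => Subtype.ext (map_one (α (z : Z)))
    obtain ⟨u, hu, hne⟩ := hd.isP.exists_fixed_point_of_prime_dvd_card_of_fixed_point _ hdvd h1
    intro hbot
    have : (u : R) ∈ R₁ := ⟨u.2, fun z hz => congrArg Subtype.val (hu ⟨z, hz⟩)⟩
    rw [hbot, Subgroup.mem_bot] at this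
    exact hne (Subtype.ext this.symm)
  have hn : R₁.Normal := ⟨fun r hr g => by
    rwa [Subgroup.mem_center_iff.mp hr.1 g, mul_inv_cancel_right]⟩
  -- the action on `R₁`
  let _ : CommGroup R₁ :=
    { (inferInstance : Group R₁) with
      mul_comm := fun a b => Subtype.ext (Subgroup.mem_center_iff.mp b.2.1 (a : R)) }
  let β : Z →* MulAut R₁ :=
    { toFun := fun z =>
        { toFun := fun r => ⟨α z r, hinv z r r.2⟩
          invFun := fun r => ⟨α z⁻¹ r, hinv z⁻¹ r r.2⟩
          left_inv := fun r => Subtype.ext (by simp [map_inv])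
          right_inv := fun r => Subtype.ext (by simp [map_inv])
          map_mul' := fun r s => Subtype.ext (map_mul (α z) _ _) }
      map_one' := MulEquiv.ext fun r => Subtype.ext (by simp)
      map_mul' := fun z w => MulEquiv.ext fun r => Subtype.ext (by simp) }
  have hβ : ∀ (z : Z) (r : R₁), ((β z r : R₁) : R) = α z r := fun _ _ => rfl
  have hβP : ∀ z ∈ P, β z = 1 := fun z hz => MulEquiv.ext fun r => Subtype.ext (r.2.2 z hz)
  have hβM : ∀ a ∈ M, ∀ b ∈ M, Commute (β a) (β b) := fun a ha b hb => by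
    have := hβP _ (hd.comm a ha b hb)
    rw [map_mul, map_mul, map_mul, map_inv, map_inv, mul_inv_eq_one, mul_inv_eq_iff_eq_mul] at this
    exact this
  have hc1 : β (x * m * x⁻¹ * m⁻¹) = 1 := by
    have hMc : ∀ y : Z, ∀ a ∈ M, y * a * y⁻¹ ∈ M := fun y a ha => hd.mn.conj_mem a ha y
    have hcomm : β x * β m = β m * β x := by
      refine quadratic_commute hp2 (hR.to_subgroup R₁) ?_ ?_ ?_ ?_ ?_
      · intro r
        refine Subtype.ext ?_
        have h1 := hx (r : R)
        rw [map_mul, map_inv, inv_mul_eq_iff_eq_mul] at h1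
        change α x (α x r) * r = α x r * α x r
        have hc := (Subgroup.mem_center_iff.mp r.2.1)
        rw [h1, mul_assoc (α x r), mul_assoc, hc (α x r), inv_mul_cancel_left]
      · rw [← map_inv, ← map_mul, ← map_mul]
        exact hβM _ hm _ (hMc x m hm)
      · rw [← map_inv, ← map_mul, ← map_mul]
        refine hβM _ hm _ ?_
        simpa using hMc x⁻¹ m hm
      · rw [← map_inv, ← map_mul, ← map_mul, ← map_mul, ← map_mul]
        exact hβM _ (hMc x m hm) _ (hMc x _ (hMc x m hm))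
      · obtain ⟨k, hk, hk'⟩ := hd.mid _ (mul_mem (hMc x m hm) (inv_mem hm))
        refine ⟨k, hk, ?_⟩
        rw [← map_inv, ← map_inv, ← map_mul, ← map_mul, ← map_mul, ← map_pow, hβP _ hk']
    rw [map_mul, map_mul, map_mul, map_inv, map_inv, hcomm, mul_inv_cancel_right, mul_inv_cancel]
  -- the action on the quotient
  let γ : Z →* MulAut (R ⧸ R₁) :=
    { toFun := fun z => QuotientGroup.congr R₁ R₁ (α z) (le_antisymm
        (by rintro _ ⟨r, hr, rfl⟩; exact hinv z r hr)
        (fun r hr => ⟨α z⁻¹ r, hinv z⁻¹ r hr, by simp [map_inv]⟩))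
      map_one' := MulEquiv.ext fun q => by
        induction q using QuotientGroup.induction_on with
        | _ r => simp [QuotientGroup.congr_mk]
      map_mul' := fun z w => MulEquiv.ext fun q => by
        induction q using QuotientGroup.induction_on with
        | _ r => simp [QuotientGroup.congr_mk] }
  have hγ : ∀ (z : Z) (r : R), γ z (QuotientGroup.mk r) = QuotientGroup.mk (α z r) := fun _ _ => rfl
  have hcard : Nat.card (R ⧸ R₁) < N := by
    rw [← hN, ← Subgroup.index_eq_card, ← R₁.card_mul_index]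
    exact lt_mul_left (Nat.pos_of_ne_zero R₁.index_ne_zero_of_finite) ((Subgroup.one_lt_card_iff_ne_bot R₁).mpr hR₁)
  obtain ⟨n, hn'⟩ := ih _ hcard (R ⧸ R₁) rfl (hR.to_quotient R₁) γ (fun q => by
    induction q using QuotientGroup.induction_on with
    | _ r =>
      rw [hγ, ← QuotientGroup.mk_inv, ← QuotientGroup.mk_mul, hγ, hx r])
  set c := x * m * x⁻¹ * m⁻¹ with hc
  obtain ⟨e, he⟩ := IsPGroup.iff_card.mp hR
  refine ⟨n + e, ?_⟩
  rw [pow_add, pow_mul, ← he]
  refine pow_card_eq_one_of_stabilises R₁ (fun w hw => ?_) (fun r => ?_)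
  · have : β (c ^ p ^ n) = 1 := by rw [map_pow, hc1, one_pow]
    have h2 := congrArg Subtype.val (DFunLike.congr_fun this ⟨w, hw⟩)
    rw [hβ, map_pow] at h2
    exact h2
  · have : γ (c ^ p ^ n) = 1 := by rw [map_pow, hn']
    have h2 := DFunLike.congr_fun this (QuotientGroup.mk r)
    rw [hγ, MulAut.one_apply, map_pow] at h2
    exact QuotientGroup.eq.mp h2.symm

/-- A `p`-element centralising `M/P` lies in `O_p`. -/
theorem mem_pCore_of_comm [hp : Fact p.Prime] {Z : Type*} [Group Z] [Finite Z] {P M : Subgroup Z}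
    (hd : IsPAbelData p P M) {x : Z} {e : ℕ} (hxp : x ^ p ^ e = 1)
    (hx : ∀ m ∈ M, x * m * x⁻¹ * m⁻¹ ∈ P) : x ∈ Cfsg.pCore p Z := by
  have := hd.pn
  have := hd.mn
  have hφ : ∀ (z m : Z), z * m * z⁻¹ * m⁻¹ ∈ P ↔
      QuotientGroup.mk' P z * QuotientGroup.mk' P m = QuotientGroup.mk' P m * QuotientGroup.mk' P z := by
    intro z m
    rw [← QuotientGroup.eq_one_iff (N := P)]
    change QuotientGroup.mk' P (z * m * z⁻¹ * m⁻¹) = 1 ↔ _
    rw [map_mul, map_mul, map_mul, map_inv, map_inv, mul_inv_eq_one, mul_inv_eq_iff_eq_mul]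
  set D : Subgroup Z :=
    (Subgroup.centralizer ((M.map (QuotientGroup.mk' P) : Subgroup (Z ⧸ P)) : Set (Z ⧸ P))).comap
      (QuotientGroup.mk' P) with hDdef
  have hDn : D.Normal := by
    have : (M.map (QuotientGroup.mk' P)).Normal := hd.mn.map _ (QuotientGroup.mk'_surjective P)
    exact Subgroup.normal_comap _
  have hmemD : ∀ z, z ∈ D ↔ ∀ m ∈ M, z * m * z⁻¹ * m⁻¹ ∈ P := by
    intro z
    rw [hDdef, Subgroup.mem_comap, Subgroup.mem_centralizer_iff]
    constructor
    · intro h m hm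
      exact (hφ z m).mpr (h _ ⟨m, hm, rfl⟩).symm
    · rintro h _ ⟨m, hm, rfl⟩
      exact ((hφ z m).mp (h m hm)).symm
  have hMD : M ≤ D := fun a ha => (hmemD a).mpr fun b hb => hd.comm a ha b hb
  obtain ⟨S, hS⟩ := (IsPGroup.of_card (n := 0) (G := (⊥ : Subgroup D)) (by simp) : IsPGroup p (⊥ : Subgroup D)).exists_le_sylow
  have hPS : P.subgroupOf D ≤ S := by
    obtain ⟨T, hT⟩ := (hd.isP.comap_subtype (K := D)).exists_le_sylow
    obtain ⟨g, hg⟩ := MulAction.exists_smul_eq D T S
    rw [← hg]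
    intro a ha
    rw [Sylow.coe_subgroup_smul]
    refine Subgroup.mem_pointwise_smul_iff_inv_smul_mem.mpr (hT ?_)
    have : (P.subgroupOf D).Normal := hd.pn.subgroupOf D
    simpa using this.conj_mem a ha g⁻¹
  have hgen : M.subgroupOf D ⊔ (S : Subgroup D) = ⊤ := by
    rw [← Subgroup.index_eq_one]
    have h1 : ∀ y : D ⧸ M.subgroupOf D, ∃ n : ℕ, y ^ p ^ n = 1 := by
      intro y
      induction y using QuotientGroup.induction_on with
      | _ d =>
        obtain ⟨n, hn⟩ := hd.top d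
        exact ⟨n, (QuotientGroup.eq_one_iff _).mpr (by simpa [Subgroup.mem_subgroupOf] using hn)⟩
    obtain ⟨k, hk⟩ := IsPGroup.iff_card.mp (h1 : IsPGroup p (D ⧸ M.subgroupOf D))
    rw [← Subgroup.index_eq_card] at hk
    have h2 : (M.subgroupOf D ⊔ (S : Subgroup D)).index ∣ p ^ k :=
      hk ▸ Subgroup.index_dvd_of_le le_sup_left
    have h3 := Subgroup.index_dvd_of_le (le_sup_right : (S : Subgroup D) ≤ M.subgroupOf D ⊔ S)
    have hcop : (p ^ k).Coprime (S : Subgroup D).index :=
      Nat.Coprime.pow_left k (hp.out.coprime_iff_not_dvd.mpr S.not_dvd_index)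
    exact Nat.eq_one_of_dvd_coprimes hcop h2 h3
  have hSn : (S : Subgroup D).Normal := by
    rw [← Subgroup.normalizer_eq_top_iff, eq_top_iff, ← hgen]
    refine sup_le (fun a ha => Subgroup.mem_normalizer_iff.mpr fun s => ?_) Subgroup.le_normalizer
    have hmem : ∀ s : D, ∀ a ∈ M.subgroupOf D, a * s * a⁻¹ * s⁻¹ ∈ (S : Subgroup D) := by
      intro s a ha
      refine hPS ?_
      have h5 := inv_mem ((hmemD (s : Z)).mp s.2 (a : Z) ha)
      rw [Subgroup.mem_subgroupOf]
      simpa [mul_assoc] using h5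
    constructor
    · intro hs
      have := mul_mem (hmem s a ha) hs
      simpa [mul_assoc] using this
    · intro hs
      have h6 := mul_mem (inv_mem (hmem s a ha)) hs
      simpa [mul_assoc] using h6
  have hchar : (S : Subgroup D).Characteristic := S.characteristic_of_normal hSn
  have hn2 : ((S : Subgroup D).map D.subtype).Normal := ConjAct.normal_of_characteristic_of_normal
  have hxD : x ∈ D := (hmemD x).mpr hx
  obtain ⟨T, hT⟩ := (IsPGroup.of_card (n := 0) (G := (⊥ : Subgroup D)) (by simp) : IsPGroup p (⊥ : Subgroup D)).exists_le_sylow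
  have hxS : (⟨x, hxD⟩ : D) ∈ (S : Subgroup D) := by
    have hzp : IsPGroup p (Subgroup.zpowers (⟨x, hxD⟩ : D)) := by
      intro ⟨y, hy⟩
      obtain ⟨i, rfl⟩ := Subgroup.mem_zpowers_iff.mp hy
      refine ⟨e, Subtype.ext (Subtype.ext ?_)⟩
      push_cast
      rw [← zpow_natCast, ← zpow_mul, mul_comm, zpow_mul, zpow_natCast, hxp, one_zpow]
    obtain ⟨T', hT'⟩ := hzp.exists_le_sylow
    have : Unique (Sylow p D) := S.unique_of_normal hSn
    rw [Subsingleton.elim S T']
    exact hT' (Subgroup.mem_zpowers _)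
  exact Grp.le_pCore hn2 (S.isPGroup'.map _) ⟨_, hxS, rfl⟩

/-- Groups of the class are `p`-stable in the normalizer form for odd `p`. -/
theorem IsPAbelP.isNormalizerPStable [hp : Fact p.Prime] (hp2 : p ≠ 2) {Y : Type*} [Group Y] [Finite Y]
    (hY : IsPAbelP p Y) : Cfsg.IsNormalizerPStable p Y := by
  intro R hR g hg hquad
  set N := Subgroup.normalizer (R : Set Y) with hN
  set C := (Subgroup.centralizer (R : Set Y)).subgroupOf N with hC
  obtain ⟨P, M, hd⟩ : IsPAbelP p (N ⧸ C) :=
    (hY.of_injective N.subtype_injective).of_surjective (QuotientGroup.mk'_surjective C)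
  have hker : Subgroup.normalizerMonoidHom R = Subgroup.normalizerMonoidHom R := rfl
  let α : N ⧸ C →* MulAut R := QuotientGroup.lift C R.normalizerMonoidHom R.normalizerMonoidHom_ker.ge
  have hαinj : Function.Injective α := by
    rw [← MonoidHom.ker_eq_bot_iff, eq_bot_iff]
    intro q hq
    induction q using QuotientGroup.induction_on with
    | _ n =>
      rw [Subgroup.mem_bot, QuotientGroup.eq_one_iff]
      exact R.normalizerMonoidHom_ker.le hq
  have hαapply : ∀ (n : N) (r : R), ((α (QuotientGroup.mk n) r : R) : Y) = (n : Y) * r * (n : Y)⁻¹ :=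
    fun _ _ => rfl
  set x : N ⧸ C := QuotientGroup.mk ⟨g, hg⟩ with hx
  have hfix : ∀ r : R, α x (r⁻¹ * α x r) = r⁻¹ * α x r := by
    intro r
    refine Subtype.ext ?_
    rw [hx, hαapply]
    simp only [Subgroup.coe_mul, Subgroup.coe_inv, hαapply]
    have h1 : ((r : Y))⁻¹ * g * r * g⁻¹ ∈ ⁅R, Subgroup.zpowers g⁆ := by
      have := Subgroup.commutator_mem_commutator (inv_mem r.2) (Subgroup.mem_zpowers g)
      simpa [commutatorElement_def] using this
    have h2 := Subgroup.commutator_mem_commutator h1 (Subgroup.mem_zpowers g)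
    rw [hquad, Subgroup.mem_bot, commutatorElement_eq_one_iff_mul_comm] at h2
    have h3 := mul_inv_eq_iff_eq_mul.mpr h2.symm
    simpa [mul_assoc] using h3
  obtain ⟨e, he⟩ := IsPGroup.iff_card.mp hR
  have hxp : x ^ p ^ e = 1 := by
    apply hαinj
    rw [map_pow, map_one, ← he]
    refine MulEquiv.ext fun r => ?_
    have hn : ∀ n : ℕ, (α x ^ n) r = r * (r⁻¹ * α x r) ^ n := by
      intro n
      induction n with
      | zero => simp
      | succ n ih =>
        rw [pow_succ', MulAut.mul_apply, ih, map_mul, map_pow, hfix, pow_succ', ← mul_assoc r,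
          mul_inv_cancel_left]
    rw [hn, pow_card_eq_one', mul_one]
    rfl
  refine mem_pCore_of_comm hd hxp fun m hm => ?_
  obtain ⟨n, hn⟩ := comm_acts_pElement hp2 hd x hm R hR α hfix
  have hcM : x * m * x⁻¹ * m⁻¹ ∈ M := mul_mem (hd.mn.conj_mem m hm x) (inv_mem hm)
  obtain ⟨k, hk, hk'⟩ := hd.mid _ hcM
  have hc1 : (x * m * x⁻¹ * m⁻¹) ^ p ^ n = 1 := hαinj (by rw [map_pow, hn, map_one])
  obtain ⟨s, t, hst⟩ : IsCoprime (k : ℤ) ((p ^ n : ℕ) : ℤ) := Nat.isCoprime_iff_coprime.mpr (hk.pow_right n)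
  rw [← zpow_one (x * m * x⁻¹ * m⁻¹), ← hst, zpow_add, mul_comm s, zpow_mul, mul_comm t, zpow_mul,
    zpow_natCast, zpow_natCast, hc1, one_zpow, mul_one]
  exact zpow_mem hk' _

end Cfsg.Agent.Invol
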