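import Cfsg.Agent.Lib.Invol.Section
import Cfsg.Agent.Lib.Invol.PStableClass
import Cfsg.Agent.Lib.Transfer.Frobenius
import Cfsg.Agent.Lib.Grp.Coprime
import Cfsg.Agent.Lib.Grp.Cores

/-!
# The reduction for normal p-complement criteria of Thompson type
-/

set_option autoImplicit false

open scoped Pointwise

namespace Cfsg.Agent.Invol

universe u

variable {p : ℕ} {ι : Type*}

/-- For a family of functors: every `N_G(W_i(S))` has a normal `p`-complement. -/
def NormalizersNPC (p : ℕ) (W : ι → ∀ (Q : Type u) [Group Q], Subgroup Q) (G : Type u) [Group G] :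
    Prop :=
  ∀ (i : ι) (S : Sylow p G), Cfsg.HasNormalPComplement p
    ↥(Subgroup.normalizer (Cfsg.inducedFunctor (W i) (S : Subgroup G) : Set G))

/-- The minimal obstruction. -/
structure IsThompsonMinimal (p : ℕ) (W : ι → ∀ (Q : Type u) [Group Q], Subgroup Q) (X : Type u)
    [Group X] : Prop where
  notNPC : ¬ Cfsg.HasNormalPComplement p X
  data : ∃ M : Subgroup X, IsPAbelData p (Cfsg.pCore p X) M
  cent : Subgroup.centralizer (Cfsg.pCore p X : Set X) ≤ Cfsg.pCore p X
  maximal : ∀ (S : Sylow p X) (H : Subgroup X), (S : Subgroup X) ≤ H → H = S ∨ H = ⊤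
  norm : ∀ (i : ι) (S : Sylow p X),
    Subgroup.normalizer (Cfsg.inducedFunctor (W i) (S : Subgroup X) : Set X) = S

variable [hp : Fact p.Prime] {W : ι → ∀ (Q : Type u) [Group Q], Subgroup Q}

/-- Normal `p`-complements pass to normalizers in subgroups. -/
theorem hasNormalPComplement_normalizer_comap {G : Type u} [Group G] [Finite G] (H : Subgroup G)
    (A : Subgroup H)
    (h : Cfsg.HasNormalPComplement p ↥(Subgroup.normalizer (A.map H.subtype : Set G))) :
    Cfsg.HasNormalPComplement p ↥(Subgroup.normalizer (A : Set H)) := by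
  have hle := Subgroup.le_normalizer_map (H := A) H.subtype
  let f : Subgroup.normalizer (A : Set H) →* Subgroup.normalizer (A.map H.subtype : Set G) :=
    (H.subtype.comp (Subgroup.normalizer (A : Set H)).subtype).codRestrict _
      fun x => hle ⟨x, x.2, rfl⟩
  refine Transfer.hasNormalPComplement_of_injective f (fun x y hxy => ?_) h
  have h1 := congrArg Subtype.val hxy
  exact Subtype.ext (H.subtype_injective h1)

/-- One Sylow subgroup is enough. -/
theorem normalizersNPC_of_one (hW : ∀ i, Cfsg.IsCharPFunctor.{u} p (W i)) {G : Type u} [Group G]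
    [Finite G] (S : Sylow p G)
    (h : ∀ i, Cfsg.HasNormalPComplement p
      ↥(Subgroup.normalizer (Cfsg.inducedFunctor (W i) (S : Subgroup G) : Set G))) :
    NormalizersNPC p W G := by
  intro i T
  obtain ⟨g, rfl⟩ := MulAction.exists_smul_eq G S T
  have hmap : ((g • S : Sylow p G) : Subgroup G) =
      (S : Subgroup G).map (MulAut.conj g).toMonoidHom := rfl
  rw [hmap, inducedFunctor_conj (hW i) S.isPGroup']
  set A := Cfsg.inducedFunctor (W i) (S : Subgroup G)
  refine Transfer.hasNormalPComplement_mono (?_ : _ ≤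
    (Subgroup.normalizer (A : Set G)).map (MulAut.conj g).toMonoidHom)
    ((Transfer.hasNormalPComplement_congr ((MulAut.conj g).subgroupMap _)).mp (h i))
  exact (Subgroup.map_equiv_normalizer_eq A (MulAut.conj g)).ge

/-- A normal `p'`-subgroup does not disturb normalizers of `p`-subgroups. -/
theorem normalizer_map_le_of_coprime {G G' : Type u} [Group G] [Group G'] [Finite G] (f : G →* G')
    (hf : Function.Surjective f) (hker : (Nat.card f.ker).Coprime p) {A : Subgroup G}
    (hA : IsPGroup p A) :
    Subgroup.normalizer (A.map f : Set G') ≤ (Subgroup.normalizer (A : Set G)).map f := by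
  intro y hy
  obtain ⟨g, rfl⟩ := hf y
  set K := (A.map f).comap f with hK
  have hAK : A ≤ K := Subgroup.le_comap_map f A
  have hsyl : Grp.IsSylowIn p A K := by
    refine ⟨hAK, hA, ?_⟩
    have hKe : K = A ⊔ f.ker := by rw [hK, Subgroup.comap_map_eq]
    have h1 := Grp.card_mul_relIndex hAK
    have h2 := Grp.card_sup_dvd_mul (H := A) (N := f.ker)
      (by rw [Subgroup.normalizer_eq_top]; exact le_top)
    rw [← hKe, ← h1] at h2
    have h3 := Nat.dvd_of_mul_dvd_mul_left Nat.card_pos h2
    exact fun hd => hp.out.ne_one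
      ((Nat.coprime_self p).mp ((hker.coprime_dvd_left h3).coprime_dvd_left hd))
  have hg : MulAut.conj g • K = K := by
    rw [← Grp.mem_normalizer_iff_smul, hK, ← Subgroup.comap_normalizer_eq_of_surjective _ hf]
    exact hy
  obtain ⟨k, hk, hke⟩ := hsyl.conj (hsyl.smul hg)
  have hn : k⁻¹ * g ∈ Subgroup.normalizer (A : Set G) := by
    rw [Grp.mem_normalizer_iff_smul, map_mul, mul_smul, ← hke, smul_smul, ← map_mul,
      inv_mul_cancel, map_one, one_smul]
  obtain ⟨a, ha, hak⟩ := Subgroup.mem_map.mp (show f k ∈ A.map f from hk)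
  refine ⟨a * (k⁻¹ * g), mul_mem (Subgroup.le_normalizer ha) hn, ?_⟩
  rw [map_mul, map_mul, map_inv, hak, mul_inv_cancel_left]

omit hp in
/-- A normal complement to `S` with `S` maximal, on which `S` acts, is an abelian group. -/
theorem abelian_of_maximal [Fact p.Prime] {Y : Type u} [Group Y] [Finite Y] (S : Sylow p Y)
    (hmax : ∀ H : Subgroup Y, (S : Subgroup Y) ≤ H → H = S ∨ H = ⊤)
    (Q : Subgroup Y) [Q.Normal] (hQ : (Nat.card Q).Coprime p) :
    ∀ a ∈ Q, ∀ b ∈ Q, a * b = b * a := by
  rcases eq_or_ne Q ⊥ with rfl | hne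
  · intro a ha b _
    rw [Subgroup.mem_bot] at ha
    rw [ha, one_mul, mul_one]
  obtain ⟨n, hn⟩ := IsPGroup.iff_card.mp S.isPGroup'
  have hcop : (Nat.card (S : Subgroup Y)).Coprime (Nat.card Q) := by
    rw [hn]; exact Nat.Coprime.pow_left n hQ.symm
  have hdisj : ∀ D : Subgroup Y, D ≤ Q → D ≤ (S : Subgroup Y) → D = ⊥ := fun D h1 h2 =>
    le_bot_iff.mp ((le_inf h2 h1).trans (Grp.inf_eq_bot_of_coprime hcop).le)
  obtain ⟨q, hq, hqd⟩ := Nat.exists_prime_and_dvd
    (fun h => hne (Subgroup.card_eq_one.mp h) : Nat.card Q ≠ 1)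
  have := Fact.mk hq
  obtain ⟨X, hX, hSX⟩ := Grp.exists_invariant_sylow (S : Subgroup Y) Q
    (by rw [Subgroup.normalizer_eq_top]; exact le_top) hcop
    (Or.inl (have := S.isPGroup'.isNilpotent; inferInstance)) q
  have hXne : X ≠ ⊥ := by
    intro h
    have h2 := hX.2.2
    rw [h, Subgroup.relIndex_bot_left] at h2
    exact h2 hqd
  have hXtop : (S : Subgroup Y) ⊔ X = ⊤ := by
    rcases hmax _ (le_sup_left : (S : Subgroup Y) ≤ (S : Subgroup Y) ⊔ X) with h | h
    · exact absurd (hdisj X hX.1 (le_sup_right.trans h.le)) hXne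
    · exact h
  have hQX : Q ≤ X := by
    have h1 := Grp.card_sup_dvd_mul hSX
    rw [hXtop] at h1
    have h2 : Nat.card Q ∣ Nat.card (S : Subgroup Y) * Nat.card X :=
      ((Q.card_subgroup_dvd_card).trans (Subgroup.card_top (G := Y)).symm.dvd).trans h1
    exact (Subgroup.eq_of_le_of_card_ge hX.1
      (Nat.le_of_dvd Nat.card_pos (hcop.symm.dvd_of_dvd_mul_left h2))).ge
  have hQn : Group.IsNilpotent Q := (hX.2.1.to_le hQX).isNilpotent
  have hDQ : ⁅Q, Q⁆ ≤ Q := Subgroup.commutator_le_right Q Q
  rcases hmax _ (le_sup_left : (S : Subgroup Y) ≤ (S : Subgroup Y) ⊔ ⁅Q, Q⁆) with h | h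
  · have hD := hdisj _ hDQ (le_sup_right.trans h.le)
    rw [Subgroup.commutator_eq_bot_iff_le_centralizer] at hD
    exact fun a ha b hb => ((hD hb) a ha)
  · exfalso
    have h1 := Grp.card_sup_dvd_mul (H := (S : Subgroup Y)) (N := ⁅Q, Q⁆)
      (by rw [Subgroup.normalizer_eq_top]; exact le_top)
    rw [h] at h1
    have h2 : Nat.card Q ∣ Nat.card (S : Subgroup Y) * Nat.card ↥⁅Q, Q⁆ :=
      ((Q.card_subgroup_dvd_card).trans (Subgroup.card_top (G := Y)).symm.dvd).trans h1
    have h3 := (Subgroup.eq_of_le_of_card_ge hDQ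
      (Nat.le_of_dvd Nat.card_pos (hcop.symm.dvd_of_dvd_mul_left h2))).ge
    exact hne (Transfer.eq_bot_of_le_commutator hQn le_rfl h3)

/-- A group without normal `p`-complement in which all `N(W_i(S))` have one has a minimal
obstruction as a section. -/
theorem exists_thompsonMinimal [Nonempty ι] (hW : ∀ i, Cfsg.IsCharPFunctor.{u} p (W i))
    {G : Type u} [Group G] [Finite G] (hN : NormalizersNPC p W G)
    (hG : ¬ Cfsg.HasNormalPComplement p G) :
    ∃ (X : Type u) (_ : Group X) (_ : Finite X), IsSectionOf X G ∧ IsThompsonMinimal p W X := by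
  suffices key : ∀ N : ℕ, ∀ (G : Type u) [Group G] [Finite G], Nat.card G = N →
      NormalizersNPC p W G → ¬ Cfsg.HasNormalPComplement p G →
        ∃ (X : Type u) (_ : Group X) (_ : Finite X), IsSectionOf X G ∧ IsThompsonMinimal p W X from
    key _ G rfl hN hG
  intro N
  induction N using Nat.strong_induction_on with
  | _ N ih =>
  intro G _ _ hNcard hN hG
  by_contra hcon
  -- proper sections have normal p-complements
  have hsec : ∀ (Y : Type u) [Group Y] [Finite Y], IsSectionOf Y G → Nat.card Y < N →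
      NormalizersNPC p W Y → Cfsg.HasNormalPComplement p Y := by
    intro Y _ _ hY hlt hYN
    by_contra hYc
    obtain ⟨X, i1, i2, hX, hmin⟩ := ih _ hlt Y rfl hYN hYc
    exact hcon ⟨X, i1, i2, hX.trans hY, hmin⟩
  classical
  -- a `p`-subgroup with bad normalizer
  obtain ⟨U₀, hU₀p, hU₀1, hU₀N⟩ : ∃ U : Subgroup G, IsPGroup p U ∧ U ≠ ⊥ ∧
      ¬ Cfsg.HasNormalPComplement p ↥(Subgroup.normalizer (U : Set G)) := by
    have := mt Transfer.hasNormalPComplement_iff_local.mpr hG
    push Not at this
    exact this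
  let rk : Subgroup G → ℕ := fun U => (Nat.card ↥(Subgroup.normalizer (U : Set G))).factorization p
  obtain ⟨U, ⟨hUp, hU1, hUN⟩, hmax⟩ := Set.exists_max_image
    {U : Subgroup G | IsPGroup p U ∧ U ≠ ⊥ ∧
      ¬ Cfsg.HasNormalPComplement p ↥(Subgroup.normalizer (U : Set G))}
    (fun U => rk U * (Nat.card G + 1) + Nat.card U) (Set.toFinite _) ⟨U₀, hU₀p, hU₀1, hU₀N⟩
  have hgood : ∀ K : Subgroup G, IsPGroup p K → K ≠ ⊥ →
      (rk U < rk K ∨ rk U ≤ rk K ∧ Nat.card U < Nat.card K) →
      Cfsg.HasNormalPComplement p ↥(Subgroup.normalizer (K : Set G)) := by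
    intro K hK hK1 hlt
    by_contra hKN
    have h1 := hmax K ⟨hK, hK1, hKN⟩
    have h2 : Nat.card U ≤ Nat.card G := Subgroup.card_le_card_group U
    rcases hlt with hlt | ⟨hle, hlt⟩
    · have := Nat.mul_le_mul_right (Nat.card G + 1) hlt
      simp only [Nat.succ_mul] at this
      omega
    · have := Nat.mul_le_mul_right (Nat.card G + 1) hle
      omega
  have hrk : ∀ (K T : Subgroup G), IsPGroup p T → T ≤ Subgroup.normalizer (K : Set G) →
      Nat.card T ≤ p ^ rk K := by
    intro K T hT hTK
    obtain ⟨n, hn⟩ := IsPGroup.iff_card.mp hT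
    rw [hn]
    refine Nat.pow_le_pow_right hp.out.pos ?_
    rw [← hp.out.pow_dvd_iff_le_factorization Nat.card_pos.ne', ← hn]
    exact Subgroup.card_dvd_of_le hTK
  set NU := Subgroup.normalizer (U : Set G) with hNU
  have hUle : U ≤ NU := Subgroup.le_normalizer
  -- `U` is normal
  have hNtop : NU = ⊤ := by
    by_contra hne
    refine hUN (hsec NU (IsSectionOf.of_subgroup _) (hNcard ▸ Grp.card_lt_of_ne_top hne) ?_)
    intro i T
    refine hasNormalPComplement_normalizer_comap NU _ ?_
    rw [← inducedFunctor_map (hW i) T.isPGroup' NU.subtype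
      (fun x _ hx => NU.subtype_injective (hx.trans (map_one _).symm))]
    set T' := (T : Subgroup NU).map NU.subtype with hT'
    have hT'p : IsPGroup p T' := T.isPGroup'.map _
    have hT'card : Nat.card T' = p ^ rk U := by
      rw [hT', Subgroup.card_map_of_injective NU.subtype_injective, T.card_eq_multiplicity]
    obtain ⟨S, hTS⟩ := hT'p.exists_le_sylow
    rcases hTS.eq_or_lt with he | hlt
    · rw [he]; exact hN i S
    have hUT : U ≤ T' := by
      have hn : (U.subgroupOf NU).Normal := Subgroup.normal_in_normalizer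
      have h1 := (Grp.le_pCore hn hUp.comap_subtype).trans (Grp.pCore_le_sylow T)
      intro x hx
      exact ⟨⟨x, hUle hx⟩, h1 (show (⟨x, hUle hx⟩ : NU) ∈ U.subgroupOf NU from hx), rfl⟩
    have hT'1 : T' ≠ ⊥ := fun h => hU1 (le_bot_iff.mp (h ▸ hUT))
    refine hgood _ (hT'p.to_le (inducedFunctor_le _ _)) (inducedFunctor_ne_bot (hW i) hT'p hT'1)
      (Or.inl ?_)
    have hbig := Transfer.lt_inf_normalizer S hlt
    have hle := hrk (Cfsg.inducedFunctor (W i) T') ((S : Subgroup G) ⊓ Subgroup.normalizer (T' : Set G))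
      (S.isPGroup'.to_le inf_le_left)
      (inf_le_right.trans (normalizer_le_normalizer_inducedFunctor (hW i) hT'p))
    have hlt2 : Nat.card T' < Nat.card ↥((S : Subgroup G) ⊓ Subgroup.normalizer (T' : Set G)) :=
      lt_of_not_ge fun h => hbig.ne (Subgroup.eq_of_le_of_card_ge hbig.le h)
    rw [hT'card] at hlt2
    exact (Nat.pow_lt_pow_iff_right hp.out.one_lt).mp (hlt2.trans_le hle)
  have hUn : U.Normal := Subgroup.normalizer_eq_top_iff.mp hNtop
  have hrkU : rk U = (Nat.card G).factorization p := by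
    change (Nat.card NU).factorization p = _
    rw [hNtop, Subgroup.card_top]
  set P := Cfsg.pCore p G with hP
  have hPn : P.Normal := Grp.pCore_isNormal
  have hPp : IsPGroup p P := Grp.pCore_isPGroup
  have hUP : U = P := by
    refine le_antisymm (Grp.le_pCore hUn hUp) ?_
    by_contra hnle
    have hlt : U < P := lt_of_le_of_ne (Grp.le_pCore hUn hUp) fun h => hnle h.ge
    have h1 := hgood P hPp (fun h => hU1 (le_bot_iff.mp (h ▸ hlt.le))) (Or.inr ⟨by
      change rk U ≤ (Nat.card ↥(Subgroup.normalizer (P : Set G))).factorization p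
      rw [Subgroup.normalizer_eq_top, Subgroup.card_top, hrkU],
      lt_of_not_ge fun h => hlt.ne (Subgroup.eq_of_le_of_card_ge hlt.le h)⟩)
    rw [Subgroup.normalizer_eq_top] at h1
    exact hG ((Transfer.hasNormalPComplement_congr Subgroup.topEquiv).mp h1)
  have hP1 : P ≠ ⊥ := hUP ▸ hU1
  -- no normal `p'`-subgroups
  have hL : ∀ L : Subgroup G, L.Normal → (Nat.card L).Coprime p → L = ⊥ := by
    intro L hLn hLc
    by_contra hne
    set f := QuotientGroup.mk' L with hf
    have hfs : Function.Surjective f := QuotientGroup.mk'_surjective L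
    obtain ⟨S⟩ : Nonempty (Sylow p G) := inferInstance
    refine hG (Transfer.hasNormalPComplement_of_quotient L
      (fun hd => hp.out.ne_one (Nat.Coprime.eq_one_of_dvd hLc.symm hd))
      (hsec (G ⧸ L) (IsSectionOf.of_surjective f hfs) (hNcard ▸ Grp.card_quotient_lt hne) ?_))
    refine normalizersNPC_of_one hW (S.mapSurjective hfs) fun i => ?_
    have hinj : ∀ x ∈ (S : Subgroup G), f x = 1 → x = 1 := by
      intro x hx hfx
      have hxL : x ∈ L := (QuotientGroup.eq_one_iff x).mp hfx
      exact eq_one_of_coprime_of_mem S.isPGroup' hx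
        (hLc.coprime_dvd_left (L.orderOf_dvd_natCard hxL))
    have hker : (Nat.card f.ker).Coprime p := by rwa [QuotientGroup.ker_mk']
    rw [show ((S.mapSurjective hfs : Sylow p (G ⧸ L)) : Subgroup (G ⧸ L)) = (S : Subgroup G).map f
      from rfl, inducedFunctor_map (hW i) S.isPGroup' f hinj]
    exact Transfer.hasNormalPComplement_mono
      (normalizer_map_le_of_coprime f hfs hker (S.isPGroup'.to_le (inducedFunctor_le _ _)))
      (Transfer.hasNormalPComplement_of_surjective _ (f.subgroupMap_surjective _) (hN i S))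
  -- the quotient by `P`
  set f := QuotientGroup.mk' P with hf
  have hfs : Function.Surjective f := QuotientGroup.mk'_surjective P
  have hGP : Cfsg.HasNormalPComplement p (G ⧸ P) := by
    obtain ⟨S⟩ : Nonempty (Sylow p G) := inferInstance
    set S' := S.mapSurjective hfs with hS'
    have hS'e : (S' : Subgroup (G ⧸ P)) = (S : Subgroup G).map f := rfl
    rcases eq_or_ne (S' : Subgroup (G ⧸ P)) ⊥ with hb | hb
    · refine Transfer.hasNormalPComplement_of_not_dvd_card fun hd => ?_
      have := S'.not_dvd_index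
      rw [hb, Subgroup.index_bot] at this
      exact this hd
    refine hsec (G ⧸ P) (IsSectionOf.of_surjective f hfs) (hNcard ▸ Grp.card_quotient_lt hP1) ?_
    refine normalizersNPC_of_one hW S' fun i => ?_
    set A := Cfsg.inducedFunctor (W i) (S' : Subgroup (G ⧸ P)) with hA
    have hA1 : A ≠ ⊥ := inducedFunctor_ne_bot (hW i) S'.isPGroup' hb
    have hPS : P ≤ (S : Subgroup G) := Grp.pCore_le_sylow S
    have hcomap : (S' : Subgroup (G ⧸ P)).comap f = S := by
      rw [hS'e, Subgroup.comap_map_eq_self]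
      rwa [QuotientGroup.ker_mk']
    set K := A.comap f with hK
    have hKS : K ≤ (S : Subgroup G) := hcomap ▸ Subgroup.comap_mono (inducedFunctor_le _ _)
    have hPK : P < K := by
      refine lt_of_le_of_ne (fun x hx => ?_) fun he => hA1 ?_
      · change f x ∈ A
        rw [show f x = 1 from (QuotientGroup.eq_one_iff x).mpr hx]
        exact one_mem A
      · rw [← Subgroup.map_comap_eq_self_of_surjective hfs A, ← hK, ← he,
          Subgroup.map_eq_bot_iff, QuotientGroup.ker_mk']
    have hSK : (S : Subgroup G) ≤ Subgroup.normalizer (K : Set G) := by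
      rw [hK, ← Subgroup.comap_normalizer_eq_of_surjective _ hfs, ← hcomap]
      exact Subgroup.comap_mono
        ((normalizer_le_normalizer_inducedFunctor (hW i) S'.isPGroup').trans' Subgroup.le_normalizer)
    have hKN := hgood K (S.isPGroup'.to_le hKS) (fun h => hP1 (le_bot_iff.mp (h ▸ hPK.le)))
      (Or.inr ⟨by
        have h1 := hrk K S S.isPGroup' hSK
        rw [S.card_eq_multiplicity, ← hrkU] at h1
        exact (Nat.pow_le_pow_iff_right hp.out.one_lt).mp h1,
        hUP ▸ lt_of_not_ge fun h => hPK.ne (Subgroup.eq_of_le_of_card_ge hPK.le h)⟩)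
    rw [hK, ← Subgroup.comap_normalizer_eq_of_surjective _ hfs] at hKN
    refine Transfer.hasNormalPComplement_of_surjective (f.subgroupComap _) ?_ hKN
    rintro ⟨y, hy⟩
    obtain ⟨x, rfl⟩ := hfs y
    exact ⟨⟨x, hy⟩, rfl⟩
  set Q := Cfsg.pResidual p (G ⧸ P) with hQ
  have hQn : Q.Normal := Transfer.instNormalPResidual p
  have hQd : ¬ p ∣ Nat.card Q := Transfer.hasNormalPComplement_iff_not_dvd.mp hGP
  have hQc : (Nat.card Q).Coprime p := ((hp.out.coprime_iff_not_dvd).mpr hQd).symm
  obtain ⟨k, hk⟩ := Transfer.exists_pResidual_index (G := G ⧸ P) p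
  set M := Q.comap f with hM
  have hMn : M.Normal := hQn.comap f
  have htop : ∀ y : G, y ^ p ^ k ∈ M := by
    intro y
    have hMi : M.index = p ^ k := by
      rw [hM, Subgroup.index_comap_of_surjective _ hfs, hk]
    exact hMi ▸ M.pow_index_mem y
  -- overgroups of a Sylow subgroup
  have hover : ∀ (S : Sylow p G) (H : Subgroup G), (S : Subgroup G) ≤ H → H ≠ ⊤ →
      Cfsg.HasNormalPComplement p H := by
    intro S H hSH hH
    refine hsec H (IsSectionOf.of_subgroup _) (hNcard ▸ Grp.card_lt_of_ne_top hH) ?_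
    refine normalizersNPC_of_one hW (S.subtype hSH) fun i => ?_
    refine hasNormalPComplement_normalizer_comap H _ ?_
    rw [← inducedFunctor_map (hW i) (S.subtype hSH).isPGroup' H.subtype
      (fun x _ hx => H.subtype_injective (hx.trans (map_one _).symm)),
      show ((S.subtype hSH : Sylow p H) : Subgroup H) = (S : Subgroup G).subgroupOf H from rfl,
      Subgroup.map_subgroupOf_eq_of_le hSH]
    exact hN i S
  -- `C(P) ≤ P`
  have hcent : Subgroup.centralizer (P : Set G) ≤ P := by
    set C := Subgroup.centralizer (P : Set G) with hC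
    have hCn : C.Normal := Subgroup.normal_centralizer
    have hY : C ⊓ M ≤ P := by
      set Y := C ⊓ M with hY
      have hYn : Y.Normal := Subgroup.normal_inf_normal C M
      have hcen : ∀ z ∈ P.subgroupOf Y, ∀ y : Y, y * z = z * y := fun z hz y =>
        Subtype.ext ((Subgroup.mem_centralizer_iff.mp y.2.1 z hz).symm)
      have hidx : ¬ p ∣ (P.subgroupOf Y).index := by
        intro hd
        refine hQd (hd.trans ?_)
        let g : Y →* Q := (f.comp Y.subtype).codRestrict Q fun y => y.2.2
        have hg : g.ker = P.subgroupOf Y := by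
          ext y
          rw [MonoidHom.mem_ker, Subgroup.mem_subgroupOf, ← QuotientGroup.eq_one_iff (N := P)]
          exact Subtype.ext_iff
        rw [← hg, Subgroup.index_ker]
        exact Subgroup.card_subgroup_dvd_card _
      let T : Sylow p Y := (hPp.comap_subtype).toSylow hidx
      have hYN : Cfsg.HasNormalPComplement p Y := by
        refine Transfer.hasNormalPComplement_of_control T fun x hx y hy ⟨g, hg⟩ => ⟨1, one_mem _, ?_⟩
        rw [one_mul, inv_one, mul_one, ← hg, hcen x hx g, mul_inv_cancel_right]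
      have hR : (Cfsg.pResidual p Y).map Y.subtype = ⊥ := by
        have hchar := Transfer.pResidual_characteristic p Y
        refine hL _ ConjAct.normal_of_characteristic_of_normal ?_
        rw [Subgroup.card_map_of_injective Y.subtype_injective]
        exact ((hp.out.coprime_iff_not_dvd).mpr
          (Transfer.hasNormalPComplement_iff_not_dvd.mp hYN)).symm
      rw [Subgroup.map_eq_bot_iff_of_injective _ Y.subtype_injective] at hR
      obtain ⟨j, hj⟩ := Transfer.exists_pResidual_index (G := Y) p
      rw [hR, Subgroup.index_bot] at hj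
      exact Grp.le_pCore hYn (IsPGroup.of_card hj)
    refine Grp.le_pCore hCn fun c => ?_
    obtain ⟨n, hn⟩ := hPp ⟨(c : G) ^ p ^ k, hY ⟨pow_mem c.2 _, htop c⟩⟩
    refine ⟨k + n, Subtype.ext ?_⟩
    have h2 := congrArg Subtype.val hn
    rw [pow_add, pow_mul]
    simpa using h2
  -- maximality of Sylow subgroups
  have hmaxS : ∀ (S : Sylow p G) (H : Subgroup G), (S : Subgroup G) ≤ H → H = S ∨ H = ⊤ := by
    intro S H hSH
    by_contra hne
    push Not at hne
    have hH := hover S H hSH hne.2
    set R := Cfsg.pResidual p H with hR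
    have hRd : ¬ p ∣ Nat.card R := Transfer.hasNormalPComplement_iff_not_dvd.mp hH
    have hRn : R.Normal := Transfer.instNormalPResidual p
    have hPH : P ≤ H := (Grp.pCore_le_sylow S).trans hSH
    have hcop : (Nat.card R).Coprime (Nat.card (P.subgroupOf H)) := by
      obtain ⟨n, hn⟩ : ∃ n, Nat.card (P.subgroupOf H) = p ^ n :=
        IsPGroup.iff_card.mp (hPp.comap_subtype (K := H))
      rw [hn]
      exact Nat.Coprime.pow_right n ((hp.out.coprime_iff_not_dvd).mpr hRd).symm
    have hPn' : (P.subgroupOf H).Normal := hPn.subgroupOf H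
    have h1 := Grp.commute_of_coprime_normal hcop
    have hRb : R = ⊥ := by
      rw [eq_bot_iff]
      intro r hr
      have hrP : (r : G) ∈ P := hcent <| Subgroup.mem_centralizer_iff.mpr fun x hx =>
        congrArg Subtype.val (Subgroup.mem_centralizer_iff.mp (h1 hr) ⟨x, hPH hx⟩ hx)
      rw [← Grp.inf_eq_bot_of_coprime hcop]
      exact ⟨hr, hrP⟩
    obtain ⟨j, hj⟩ := Transfer.exists_pResidual_index (G := H) p
    rw [← hR, hRb, Subgroup.index_bot] at hj
    exact hne.1 (S.is_maximal' (IsPGroup.of_card hj) hSH)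
  refine hcon ⟨G, inferInstance, inferInstance, IsSectionOf.refl G, ⟨hG, ⟨M, ?_⟩, hcent, hmaxS, ?_⟩⟩
  · refine ⟨hPn, hMn, fun x hx => ?_, hPp, fun a ha b hb => ?_, fun y => ⟨k, htop y⟩,
      fun m hm => ⟨Nat.card Q, hQc, ?_⟩⟩
    · change f x ∈ Q
      rw [show f x = 1 from (QuotientGroup.eq_one_iff x).mpr hx]
      exact one_mem Q
    · obtain ⟨S⟩ : Nonempty (Sylow p G) := inferInstance
      have hab := abelian_of_maximal (S.mapSurjective hfs) (fun H hH => ?_) Q hQc (f a) ha (f b) hb
      · rw [← QuotientGroup.eq_one_iff]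
        change f (a * b * a⁻¹ * b⁻¹) = 1
        rw [map_mul, map_mul, map_mul, map_inv, map_inv, hab, mul_inv_cancel_right, mul_inv_cancel]
      rcases hmaxS S (H.comap f) (fun x hx => hH ⟨x, hx, rfl⟩) with h | h
      · left
        rw [← Subgroup.map_comap_eq_self_of_surjective hfs H, h]
        rfl
      · right
        rw [← Subgroup.map_comap_eq_self_of_surjective hfs H, h, ← MonoidHom.range_eq_map,
          MonoidHom.range_eq_top.mpr hfs]
    · rw [← QuotientGroup.eq_one_iff]
      exact congrArg Subtype.val (pow_card_eq_one' (x := (⟨f m, hm⟩ : Q)))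
  · intro i S
    rcases hmaxS S _ (Subgroup.le_normalizer.trans
      (normalizer_le_normalizer_inducedFunctor (hW i) S.isPGroup')) with h | h
    · exact h
    · have h1 := hN i S
      rw [h] at h1
      exact absurd ((Transfer.hasNormalPComplement_congr Subgroup.topEquiv).mp h1) hG

end Cfsg.Agent.Invol
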