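import Mathlib
import Cfsg.Agent.Lib.Invol.Basic
import Cfsg.Agent.Lib.Grp.Frattini

/-!
# 2-groups with a single involution

A finite 2-group with at most one involution is cyclic or has a cyclic subgroup of index two,
of order divisible by four, inverted by every element outside it.
-/

set_option linter.unusedSectionVars false

namespace Cfsg.Agent.OneInvol

variable {R : Type*} [Group R]

/-- A nilpotent finite group has a normal abelian subgroup containing its centralizer. -/
theorem exists_selfCentralizing_abelian [Finite R] [Group.IsNilpotent R] :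
    ∃ A : Subgroup R, A.Normal ∧ (∀ a ∈ A, ∀ b ∈ A, Commute a b) ∧
      ∀ x : R, (∀ a ∈ A, Commute a x) → x ∈ A := by
  let S := {A : Subgroup R // A.Normal ∧ ∀ a ∈ A, ∀ b ∈ A, Commute a b}
  have : Nonempty S := ⟨⟨⊥, inferInstance, fun a ha b _ => by
    rw [Subgroup.mem_bot.1 ha]; exact Commute.one_left b⟩⟩
  obtain ⟨⟨A, hAn, hAab⟩, hmax⟩ := Finite.exists_max fun A : S => Nat.card A.1
  refine ⟨A, hAn, hAab, fun x hx => ?_⟩
  by_contra hxA
  set C := Subgroup.centralizer (A : Set R) with hC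
  have hAC : A ≤ C := fun a ha => Subgroup.mem_centralizer_iff.2 fun b hb => (hAab a ha b hb).symm.eq
  set N := C.map (QuotientGroup.mk' A) with hN
  haveI : N.Normal := Subgroup.Normal.map inferInstance _ (QuotientGroup.mk'_surjective A)
  have hNb : N ≠ ⊥ := fun h => hxA ((QuotientGroup.eq_one_iff x).1 (Subgroup.mem_bot.1
    (h ▸ Subgroup.mem_map_of_mem (QuotientGroup.mk' A)
      (Subgroup.mem_centralizer_iff.2 fun a ha => (hx a ha).eq))))
  obtain ⟨⟨c', hc'⟩, hc0⟩ :=
    Subgroup.ne_bot_iff_exists_ne_one.1 (Cfsg.Agent.Grp.inf_center_ne_bot N hNb)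
  have hc1 : c' ≠ 1 := fun h => hc0 (Subtype.ext h)
  obtain ⟨⟨c, hcC, rfl⟩, hcz⟩ := hc'
  haveI : (Subgroup.zpowers (QuotientGroup.mk' A c)).Normal :=
    ⟨fun n hn g => by
      have hn' : n ∈ Subgroup.center (R ⧸ A) := Subgroup.zpowers_le.2 hcz hn
      rwa [Subgroup.mem_center_iff.1 hn' g, mul_inv_cancel_right]⟩
  set B := (Subgroup.zpowers (QuotientGroup.mk' A c)).comap (QuotientGroup.mk' A) with hB
  have hdec : ∀ y ∈ B, ∃ i : ℤ, ∃ a ∈ A, y = c ^ i * a := by
    intro y hy
    obtain ⟨i, hi⟩ := Subgroup.mem_zpowers_iff.1 (Subgroup.mem_comap.1 hy)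
    rw [← map_zpow, QuotientGroup.mk'_eq_mk'] at hi
    obtain ⟨a, ha, rfl⟩ := hi
    exact ⟨i, a, ha, rfl⟩
  have hcA : ∀ a ∈ A, Commute c a := fun a ha => (Subgroup.mem_centralizer_iff.1 hcC a ha).symm
  have hBab : ∀ u ∈ B, ∀ v ∈ B, Commute u v := by
    intro u hu v hv
    obtain ⟨i, a, ha, rfl⟩ := hdec u hu
    obtain ⟨j, b, hb, rfl⟩ := hdec v hv
    exact (((Commute.refl c).zpow_zpow i j).mul_right ((hcA b hb).zpow_left i)).mul_left
      (((hcA a ha).symm.zpow_right j).mul_right (hAab a ha b hb))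
  have hlt : Nat.card A < Nat.card B := by
    have hle : A ≤ B := fun a ha => by
      rw [hB, Subgroup.mem_comap,
        show QuotientGroup.mk' A a = 1 from (QuotientGroup.eq_one_iff a).2 ha]
      exact one_mem _
    refine lt_of_le_of_ne (Subgroup.card_le_of_le hle) fun he => ?_
    have heq := Subgroup.eq_of_le_of_card_ge hle he.ge
    exact hc1 ((QuotientGroup.eq_one_iff c).2
      (heq.symm ▸ (Subgroup.mem_zpowers (QuotientGroup.mk' A c) : c ∈ B)))
  exact absurd (hmax ⟨B, inferInstance, hBab⟩) (not_le.2 hlt)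

/-- An abelian 2-subgroup with at most one involution is cyclic. -/
theorem exists_zpowers_eq [Finite R] (hR : IsPGroup 2 R) {A : Subgroup R}
    (hab : ∀ a ∈ A, ∀ b ∈ A, Commute a b)
    (h : ∀ u v : R, orderOf u = 2 → orderOf v = 2 → u = v) :
    ∃ a ∈ A, A = Subgroup.zpowers a := by
  haveI : Fact (Nat.Prime 2) := ⟨Nat.prime_two⟩
  obtain ⟨⟨a, ha⟩, hmax⟩ := Finite.exists_max fun x : A => orderOf (x : R)
  refine ⟨a, ha, le_antisymm ?_ (Subgroup.zpowers_le.2 ha)⟩
  suffices key : ∀ k, ∀ x ∈ A, x ^ 2 ^ k = 1 → x ∈ Subgroup.zpowers a from fun x hx => by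
    obtain ⟨k, hk⟩ := hR x
    exact key k x hx hk
  intro k
  induction k with
  | zero => intro x _ hx; rw [pow_zero, pow_one] at hx; rw [hx]; exact one_mem _
  | succ k ih =>
    intro x hx hpow
    by_cases hx1 : x = 1
    · rw [hx1]; exact one_mem _
    have hord : 2 ∣ orderOf x := by
      obtain ⟨l, hl⟩ := hR.exists_orderOf_eq_pow x
      rcases Nat.eq_zero_or_pos l with rfl | hl0
      · exact absurd (orderOf_eq_one_iff.1 (by simpa using hl)) hx1
      · exact hl ▸ dvd_pow_self 2 hl0.ne'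
    obtain ⟨j, hj⟩ := mem_powers_iff_mem_zpowers.2
      (ih (x ^ 2) (pow_mem hx 2) (by rw [← pow_mul, ← pow_succ']; exact hpow))
    have hj' : a ^ j = x ^ 2 := hj
    rcases Nat.even_or_odd j with ⟨s, hs⟩ | hjodd
    · set y := x * (a ^ s)⁻¹ with hy
      have hy2 : y ^ 2 = 1 := by
        rw [hy, ((hab x hx _ (pow_mem ha s)).inv_right).mul_pow, inv_pow, ← pow_mul, mul_two, ← hs,
          hj', mul_inv_cancel]
      have hyA : y ∈ Subgroup.zpowers a := by
        by_cases hy1 : y = 1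
        · rw [hy1]; exact one_mem _
        have hyo : orderOf y = 2 := orderOf_eq_prime hy2 hy1
        by_cases ha1 : a = 1
        · exfalso
          have := hmax ⟨x, hx⟩
          simp only [ha1, orderOf_one] at this
          exact hx1 (orderOf_eq_one_iff.1 (le_antisymm this (orderOf_pos x)))
        obtain ⟨l, hl⟩ := hR.exists_orderOf_eq_pow a
        have hl0 : l ≠ 0 := by rintro rfl; exact ha1 (orderOf_eq_one_iff.1 (by simpa using hl))
        have : orderOf (a ^ (orderOf a / 2)) = 2 :=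
          orderOf_pow_orderOf_div (orderOf_pos a).ne' (hl ▸ dvd_pow_self 2 hl0)
        rw [h y _ hyo this]
        exact Subgroup.npow_mem_zpowers a _
      have : x = y * a ^ s := by rw [hy, inv_mul_cancel_right]
      rw [this]
      exact mul_mem hyA (Subgroup.npow_mem_zpowers a _)
    · exfalso
      obtain ⟨l, hl⟩ := hR.exists_orderOf_eq_pow a
      have h1 : orderOf (x ^ 2) = orderOf a := by
        rw [← hj']
        refine Nat.Coprime.orderOf_pow ?_
        rw [hl]
        exact Nat.Coprime.pow_left _ (Nat.coprime_two_left.2 hjodd)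
      have h2 : orderOf (x ^ 2) = orderOf x / 2 := by
        rw [orderOf_pow' x two_ne_zero, Nat.gcd_eq_right hord]
      have h3 : orderOf x ≤ orderOf a := hmax ⟨x, hx⟩
      have h4 := orderOf_pos x
      omega

/-- The powers of order four in a cyclic 2-subgroup. -/
theorem exists_order_four [Finite R] (hR : IsPGroup 2 R) {a w : R} (hw : w ∈ Subgroup.zpowers a)
    (hw2 : w ^ 2 ≠ 1) :
    4 ∣ orderOf a ∧ ∃ n : ℕ,
      w ^ n = a ^ (orderOf a / 4) ∨ w ^ n = (a ^ (orderOf a / 4))⁻¹ := by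
  haveI : Fact (Nat.Prime 2) := ⟨Nat.prime_two⟩
  obtain ⟨l, hl⟩ := hR.exists_orderOf_eq_pow w
  have hl2 : 2 ≤ l := by
    by_contra hlt
    refine hw2 (orderOf_dvd_iff_pow_eq_one.1 ?_)
    rw [hl]
    calc 2 ^ l ∣ 2 ^ 1 := pow_dvd_pow 2 (by omega)
      _ = 2 := pow_one 2
  have hw4 : 4 ∣ orderOf w := by
    rw [hl, show 4 = 2 ^ 2 by norm_num]
    exact pow_dvd_pow 2 hl2
  obtain ⟨i, hi⟩ := mem_powers_iff_mem_zpowers.2 hw
  have hi' : a ^ i = w := hi
  have hwa : orderOf w ∣ orderOf a := by rw [← hi']; exact orderOf_pow_dvd i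
  have ha4 : 4 ∣ orderOf a := hw4.trans hwa
  refine ⟨ha4, orderOf w / 4, ?_⟩
  set u := w ^ (orderOf w / 4) with hu
  have huo : orderOf u = 4 := orderOf_pow_orderOf_div (orderOf_pos w).ne' hw4
  set f := a ^ (orderOf a / 4) with hf
  have hfo : orderOf f = 4 := orderOf_pow_orderOf_div (orderOf_pos a).ne' ha4
  have hu' : u = a ^ (i * (orderOf w / 4)) := by rw [hu, ← hi', ← pow_mul]
  set e := i * (orderOf w / 4) with he
  have hdiv : orderOf a / 4 ∣ e := by
    have h4 : a ^ (e * 4) = 1 := by rw [pow_mul, ← hu', ← huo, pow_orderOf_eq_one]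
    have h5 := orderOf_dvd_of_pow_eq_one h4
    rw [← Nat.div_mul_cancel ha4] at h5
    exact Nat.dvd_of_mul_dvd_mul_right (by norm_num) h5
  obtain ⟨c, hc⟩ := hdiv
  have huf : u = f ^ c := by rw [hu', hf, ← pow_mul, hc]
  have hc4 : f ^ c = f ^ (c % 4) := by rw [← hfo, pow_mod_orderOf]
  rcases (by omega : c % 4 = 0 ∨ c % 4 = 1 ∨ c % 4 = 2 ∨ c % 4 = 3) with h | h | h | h
  · rw [huf, hc4, h, pow_zero, orderOf_one] at huo; norm_num at huo
  · left; rw [huf, hc4, h, pow_one]
  · exfalso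
    have : u ^ 2 = 1 := by
      rw [huf, hc4, h, ← pow_mul, show (2 * 2 : ℕ) = orderOf f by rw [hfo], pow_orderOf_eq_one]
    have := Nat.le_of_dvd two_pos (orderOf_dvd_of_pow_eq_one this)
    omega
  · right; rw [huf, hc4, h]
    refine eq_inv_of_mul_eq_one_left ?_
    rw [← pow_succ, show (3 : ℕ) + 1 = orderOf f by rw [hfo], pow_orderOf_eq_one]

/-- With a single involution, an element squaring into a self-centralizing cyclic normal subgroup
inverts it. -/
theorem conj_eq_inv [Finite R] (hR : IsPGroup 2 R)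
    (h : ∀ u v : R, orderOf u = 2 → orderOf v = 2 → u = v) {a : R}
    (hn : ∀ g : R, g * a * g⁻¹ ∈ Subgroup.zpowers a)
    (hself : ∀ g : R, Commute a g → g ∈ Subgroup.zpowers a)
    {x : R} (hx : x ∉ Subgroup.zpowers a) (hxx : x * x ∈ Subgroup.zpowers a) :
    x * a * x⁻¹ = a⁻¹ := by
  haveI : Fact (Nat.Prime 2) := ⟨Nat.prime_two⟩
  set A := Subgroup.zpowers a with hA
  have hcomm : ∀ u ∈ A, ∀ v ∈ A, Commute u v := fun u hu v hv => by
    obtain ⟨i, rfl⟩ := Subgroup.mem_zpowers_iff.1 hu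
    obtain ⟨j, rfl⟩ := Subgroup.mem_zpowers_iff.1 hv
    exact (Commute.refl a).zpow_zpow i j
  have hamem : a ∈ A := Subgroup.mem_zpowers a
  set b := x * a * x⁻¹ with hb
  have hbA : b ∈ A := hn x
  have hxb : x * b * x⁻¹ = a := by
    calc x * b * x⁻¹ = (x * x) * a * (x * x)⁻¹ := by rw [hb]; group
      _ = a := by rw [(hcomm _ hxx a hamem).eq, mul_inv_cancel_right]
  have hfix : ∀ u : R, x * u * x⁻¹ = u → ∀ n : ℕ, x * u ^ n * x⁻¹ = u ^ n := fun u hu n => by
    rw [← conj_pow, hu]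
  have hinv : ∀ u : R, x * u * x⁻¹ = u⁻¹ → ∀ n : ℕ, x * u ^ n * x⁻¹ = (u ^ n)⁻¹ := fun u hu n => by
    rw [← conj_pow, hu, inv_pow]
  have hsq1 : ∀ y : R, y ∉ A → y * y = 1 → orderOf y = 2 := fun y hy hy1 =>
    orderOf_eq_prime (by rw [pow_two]; exact hy1) fun h1 => hy (h1 ▸ one_mem A)
  set t := a⁻¹ * b with ht
  have htA : t ∈ A := mul_mem (inv_mem hamem) hbA
  have ht1 : t ≠ 1 := fun h1 => hx (hself x (by
    have : b = a := (inv_mul_eq_one.1 h1).symm
    exact (mul_inv_eq_iff_eq_mul.1 this).symm))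
  have ha4 : 4 ∣ orderOf a := by
    by_contra hna
    obtain ⟨l, hl⟩ := hR.exists_orderOf_eq_pow a
    have hl1 : l ≤ 1 := by
      by_contra hlt
      exact hna (hl ▸ (show 4 = 2 ^ 2 by norm_num) ▸ pow_dvd_pow 2 (by omega : 2 ≤ l))
    have hbo : orderOf b = orderOf a := by rw [hb, Invol.orderOf_conj_eq]
    rcases (by omega : l = 0 ∨ l = 1) with rfl | rfl
    · have h1 : a = 1 := orderOf_eq_one_iff.1 (by simpa using hl)
      exact ht1 (by rw [ht, hb, h1]; simp)
    · exact ht1 (by rw [ht, h b a (hbo.trans (by simpa using hl)) (by simpa using hl),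
        inv_mul_cancel])
  have hz : orderOf (a ^ (orderOf a / 2)) = 2 :=
    orderOf_pow_orderOf_div (orderOf_pos a).ne' ((show 2 ∣ 4 by norm_num).trans ha4)
  set z := a ^ (orderOf a / 2) with hzdef
  have hzA : z ∈ A := Subgroup.npow_mem_zpowers a _
  by_cases hfixed : ∃ w ∈ A, w ^ 2 ≠ 1 ∧ x * w * x⁻¹ = w
  · exfalso
    obtain ⟨w, hwA, hw2, hwx⟩ := hfixed
    set f := a ^ (orderOf a / 4) with hf
    have hfo : orderOf f = 4 := orderOf_pow_orderOf_div (orderOf_pos a).ne' ha4
    have hffix : x * f * x⁻¹ = f := by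
      obtain ⟨-, n, hn' | hn'⟩ := exists_order_four hR hwA hw2
      · rw [← hf] at hn'
        rw [← hn']; exact hfix w hwx n
      · rw [← hf] at hn'
        have := hfix w hwx n
        rw [hn', ← conj_inv, inv_inj] at this
        exact this
    have htx : x * t * x⁻¹ = t⁻¹ := by
      calc x * t * x⁻¹ = (x * a⁻¹ * x⁻¹) * (x * b * x⁻¹) := by rw [ht, conj_mul]
        _ = b⁻¹ * a := by rw [hxb, ← conj_inv]
        _ = t⁻¹ := by rw [ht, mul_inv_rev a⁻¹ b, inv_inv]
    have ht2 : t ^ 2 = 1 := by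
      by_contra ht2
      have hf2 : f⁻¹ = f := by
        obtain ⟨-, n, hn' | hn'⟩ := exists_order_four hR htA ht2
        · have := hinv t htx n
          rw [hn', hffix] at this
          exact this.symm
        · have := hinv t htx n
          rw [hn', inv_inv, ← conj_inv, hffix] at this
          exact this
      have : f ^ 2 = 1 := by rw [pow_two]; nth_rewrite 1 [← hf2]; exact inv_mul_cancel f
      have := Nat.le_of_dvd two_pos (orderOf_dvd_of_pow_eq_one this)
      omega
    have htz : t = z := h t z (orderOf_eq_prime ht2 ht1) hz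
    have hbz : b = a * z := by rw [← htz, ht, mul_inv_cancel_left]
    obtain ⟨l, hl⟩ := hR.exists_orderOf_eq_pow a
    have hl3 : 3 ≤ l := by
      by_contra hlt
      have hfa : f = a ∨ l < 2 := by
        rcases (by omega : l < 2 ∨ l = 2) with h' | rfl
        · exact .inr h'
        · left; rw [hf, hl]; norm_num
      rcases hfa with hfa | hfa
      · refine ht1 ?_
        rw [hfa, ← hb] at hffix
        rw [ht, hffix, inv_mul_cancel]
      · have := Nat.le_of_dvd (orderOf_pos a) ha4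
        rw [hl] at this
        have : 2 ^ l ≤ 2 ^ 1 := Nat.pow_le_pow_right (by norm_num) (by omega)
        omega
    obtain ⟨k, rfl⟩ : ∃ k, l = k + 3 := ⟨l - 3, by omega⟩
    have hord : orderOf a = 4 * (2 * 2 ^ k) := by rw [hl, pow_add]; ring
    have hm : orderOf a / 2 = 4 * 2 ^ k := by omega
    obtain ⟨j, hj⟩ := mem_powers_iff_mem_zpowers.2 hxx
    have hj' : a ^ j = x * x := hj
    have hxxb : x * (x * x) * x⁻¹ = x * x := by group
    have hjeven : Even j := by
      rw [← hj', ← conj_pow, ← hb, hbz, (hcomm a hamem z hzA).mul_pow, mul_eq_left] at hxxb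
      rw [even_iff_two_dvd, ← hz]
      exact orderOf_dvd_of_pow_eq_one hxxb
    obtain ⟨s, rfl⟩ := hjeven
    have ha2 : orderOf (a ^ 2) = 4 * 2 ^ k := by
      rw [orderOf_pow' a two_ne_zero, Nat.gcd_eq_right ((show 2 ∣ 4 by norm_num).trans ha4), hm]
    obtain ⟨i, hi⟩ := exists_pow_eq_self_of_coprime (x := a ^ 2) (n := 1 + 2 * 2 ^ k) (by
      rw [ha2, show 4 * 2 ^ k = 2 ^ (k + 2) by ring]
      exact Nat.Coprime.pow_right _ (Nat.coprime_two_right.2 ⟨2 ^ k, by ring⟩))
    set c := ((a ^ 2) ^ i)⁻¹ with hc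
    -- the element `a ^ e * x` squares to one
    have haz : a * b = (a ^ 2) ^ (1 + 2 * 2 ^ k) := by
      rw [hbz, hzdef, hm, ← pow_succ', ← pow_succ', ← pow_mul]
      congr 1
      ring
    set e := i * s with he
    set y := (a ^ e)⁻¹ * x with hy
    have hyA : y ∉ A := fun hyA => hx (by
      have := mul_mem (pow_mem hamem e) hyA
      rwa [hy, mul_inv_cancel_left] at this)
    have hy2 : y * y = 1 := by
      have h1 : (a * b) ^ e = a ^ (s + s) := by
        rw [haz, he, pow_mul, hi, ← pow_mul, two_mul]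
      calc y * y = (a ^ e)⁻¹ * (x * (a ^ e)⁻¹ * x⁻¹) * (x * x) := by rw [hy]; group
        _ = (a ^ e)⁻¹ * (b ^ e)⁻¹ * (x * x) := by rw [← conj_inv, ← conj_pow]
        _ = ((a * b) ^ e)⁻¹ * (x * x) := by
            rw [(hcomm a hamem b hbA).mul_pow, ← mul_inv_rev,
              (hcomm _ (pow_mem hamem e) _ (pow_mem hbA e)).eq]
        _ = 1 := by rw [h1, hj', inv_mul_cancel]
    exact hyA (h y z (hsq1 y hyA hy2) hz ▸ hzA)
  · push Not at hfixed
    set n := a * b with hn'
    have hnA : n ∈ A := mul_mem hamem hbA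
    have hnx : x * n * x⁻¹ = n := by
      calc x * n * x⁻¹ = (x * a * x⁻¹) * (x * b * x⁻¹) := by rw [hn']; group
        _ = n := by rw [hxb, ← hb, hn', (hcomm b hbA a hamem).eq]
    have hn2 : n ^ 2 = 1 := by
      by_contra hne
      exact hfixed n hnA hne hnx
    have hxx2 : (x * x) ^ 2 = 1 := by
      by_contra hne
      exact hfixed _ hxx hne (by group)
    have hxxz : x * x = z := h _ z (orderOf_eq_prime hxx2 fun h1 =>
      hx (h x z (hsq1 x hx h1) hz ▸ hzA)) hz
    by_contra hne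
    have hn1 : n ≠ 1 := fun h1 => hne (eq_inv_of_mul_eq_one_right h1)
    have hnz : n = z := h n z (orderOf_eq_prime hn2 hn1) hz
    have hyA : a * x ∉ A := fun hyA => hx (by
      have := mul_mem (inv_mem hamem) hyA
      rwa [inv_mul_cancel_left] at this)
    have hy2 : (a * x) * (a * x) = 1 := by
      calc (a * x) * (a * x) = a * (x * a * x⁻¹) * (x * x) := by group
        _ = z * z := by rw [← hb, ← hn', hnz, hxxz]
        _ = 1 := Invol.mul_self_of_orderOf_two hz
    exact hyA (h _ z (hsq1 _ hyA hy2) hz ▸ hzA)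

/-- A finite 2-group with at most one involution is cyclic, or generalised quaternion in shape. -/
theorem cyclic_or_quatShape [Finite R] (hR : IsPGroup 2 R)
    (h : ∀ u v : R, orderOf u = 2 → orderOf v = 2 → u = v) :
    IsCyclic R ∨ ∃ a : R, 4 ∣ orderOf a ∧ (Subgroup.zpowers a).index = 2 ∧
      ∀ x ∉ Subgroup.zpowers a, x * a * x⁻¹ = a⁻¹ := by
  haveI : Fact (Nat.Prime 2) := ⟨Nat.prime_two⟩
  haveI : Group.IsNilpotent R := hR.isNilpotent
  obtain ⟨A, hAn, hAab, hAself⟩ := exists_selfCentralizing_abelian (R := R)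
  obtain ⟨a, haA, rfl⟩ := exists_zpowers_eq hR hAab h
  have hn : ∀ g : R, g * a * g⁻¹ ∈ Subgroup.zpowers a := fun g => hAn.conj_mem a haA g
  have hself : ∀ g : R, Commute a g → g ∈ Subgroup.zpowers a := fun g hg => hAself g fun c hc => by
    obtain ⟨i, rfl⟩ := Subgroup.mem_zpowers_iff.1 hc
    exact hg.zpow_left i
  by_cases hall : ∀ x : R, x ∈ Subgroup.zpowers a
  · exact .inl ⟨⟨a, fun x => Subgroup.mem_zpowers_iff.1 (hall x)⟩⟩
  push Not at hall
  obtain ⟨x₀, hx₀⟩ := hall
  have key := fun x : R => conj_eq_inv hR h hn hself (x := x)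
  obtain ⟨x₁, hx₁, hx₁s⟩ : ∃ x ∉ Subgroup.zpowers a, x * x ∈ Subgroup.zpowers a := by
    by_contra hno
    push Not at hno
    have : ∀ k, ∀ x : R, x ^ 2 ^ k = 1 → x ∈ Subgroup.zpowers a := by
      intro k
      induction k with
      | zero => intro x hx; rw [pow_zero, pow_one] at hx; rw [hx]; exact one_mem _
      | succ k ih =>
        intro x hx
        by_contra hxA
        exact hno x hxA (by
          rw [← pow_two]; exact ih (x ^ 2) (by rw [← pow_mul, ← pow_succ']; exact hx))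
    obtain ⟨k, hk⟩ := hR x₀
    exact hx₀ (this k x₀ hk)
  have hinvx := key x₁ hx₁ hx₁s
  have ha4 : 4 ∣ orderOf a := by
    by_cases ha2 : a ^ 2 = 1
    · exfalso
      refine hx₁ (hself x₁ ?_)
      rw [inv_eq_of_mul_eq_one_right (show a * a = 1 by rw [← pow_two, ha2])] at hinvx
      exact (mul_inv_eq_iff_eq_mul.1 hinvx).symm
    · exact (exists_order_four hR (Subgroup.mem_zpowers a) ha2).1
  have hsq : ∀ y : R, y * y ∈ Subgroup.zpowers a := by
    have hstep : ∀ w : R, (w * w) * (w * w) ∈ Subgroup.zpowers a → w * w ∈ Subgroup.zpowers a := by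
      intro w hw
      by_contra hwA
      obtain ⟨r, hr⟩ := Subgroup.mem_zpowers_iff.1 (hn w)
      have h1 : a ^ (r * r) = a⁻¹ := by
        calc a ^ (r * r) = (w * a * w⁻¹) ^ r := by rw [zpow_mul, hr]
          _ = w * a ^ r * w⁻¹ := conj_zpow
          _ = w * (w * a * w⁻¹) * w⁻¹ := by rw [hr]
          _ = (w * w) * a * (w * w)⁻¹ := by group
          _ = a⁻¹ := key _ hwA hw
      have h2 : (orderOf a : ℤ) ∣ r * r + 1 := by
        rw [orderOf_dvd_iff_zpow_eq_one, zpow_add_one, h1, inv_mul_cancel]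
      have h3 : (4 : ℤ) ∣ r * r + 1 := dvd_trans (by exact_mod_cast ha4) h2
      have h4 : ((r * r + 1 : ℤ) : ZMod 4) = 0 := (ZMod.intCast_zmod_eq_zero_iff_dvd _ 4).2 h3
      push_cast at h4
      revert h4
      generalize (r : ZMod 4) = q
      revert q
      decide
    intro y
    obtain ⟨k, hk⟩ := hR y
    suffices ∀ k, ∀ y : R, (y * y) ^ 2 ^ k ∈ Subgroup.zpowers a → y * y ∈ Subgroup.zpowers a from
      this k y (by rw [← pow_two, ← pow_mul, mul_comm, pow_mul, hk, one_pow]; exact one_mem _)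
    intro k
    induction k with
    | zero => intro y hy; simpa using hy
    | succ k ih =>
      intro y hy
      refine hstep y (ih (y * y) ?_)
      rwa [← pow_two (y * y), ← pow_mul, ← pow_succ']
  refine .inr ⟨a, ha4, Subgroup.index_eq_two_iff.2 ⟨x₁, fun b => ?_⟩, fun x hx => key x hx (hsq x)⟩
  by_cases hb : b ∈ Subgroup.zpowers a
  · exact .inr ⟨hb, fun hm => hx₁ ((Subgroup.mul_mem_cancel_left _ hb).1 hm)⟩
  · refine .inl ⟨hself _ ?_, hb⟩
    have e1 := key b hb (hsq b)
    have : b * x₁ * a * (b * x₁)⁻¹ = a := by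
      calc b * x₁ * a * (b * x₁)⁻¹ = b * (x₁ * a * x₁⁻¹) * b⁻¹ := by group
        _ = (b * a * b⁻¹)⁻¹ := by rw [hinvx, conj_inv]
        _ = a := by rw [e1, inv_inv]
    exact (mul_inv_eq_iff_eq_mul.1 this).symm

end Cfsg.Agent.OneInvol
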