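import Mathlib
import Cfsg.Agent.Lib.Invol.Basic

/-!
# p-groups with one subgroup of order `p`, `p` odd
-/

namespace Cfsg.Agent.Invol

theorem dvd_sub_one_of_dvd_pow_sub_one {p n : ℕ} [hp : Fact p.Prime] (hp2 : p ≠ 2) {k : ℤ}
    (h : (p : ℤ) ^ (n + 1) ∣ k ^ p - 1) : (p : ℤ) ^ n ∣ k - 1 := by
  have hpz : Prime (p : ℤ) := Nat.prime_iff_prime_int.mp hp.out
  have h1 : (p : ℤ) ∣ k - 1 := by
    rw [← ZMod.intCast_eq_intCast_iff_dvd_sub]
    have h2 : ((1 : ℤ) : ZMod p) = ((k ^ p : ℤ) : ZMod p) :=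
      (ZMod.intCast_eq_intCast_iff_dvd_sub _ _ _).mpr ((dvd_pow_self (p : ℤ) n.succ_ne_zero).trans h)
    rw [Int.cast_pow, ZMod.pow_card] at h2
    exact h2
  obtain ⟨b, hb⟩ := h1
  obtain ⟨m, hm⟩ := odd_sq_dvd_geom_sum₂_sub (1 : ℤ) b (hp.out.odd_of_ne_two hp2)
  simp only [one_pow, mul_one] at hm
  have hk : (1 : ℤ) + p * b = k := by linarith
  rw [hk] at hm
  set S := ∑ i ∈ Finset.range p, k ^ i with hS
  have hgeom : (k - 1) * S = k ^ p - 1 := mul_geom_sum k p
  have hSp : S = p * (1 + p * m) := by linarith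
  rw [← hgeom, hSp, pow_succ, ← mul_assoc, mul_comm (k - 1) (p : ℤ), mul_assoc,
    mul_comm ((p : ℤ) ^ n) (p : ℤ)] at h
  have h3 : (p : ℤ) ^ n ∣ (k - 1) * (1 + p * m) := Int.dvd_of_mul_dvd_mul_left hpz.ne_zero h
  refine hpz.pow_dvd_of_dvd_mul_right n ?_ h3
  intro hd
  exact hpz.not_dvd_one ((dvd_add_left (dvd_mul_right _ _)).mp hd)

theorem mul_pow_of_central_comm {G : Type*} [Group G] {b x c : G} (hc : b * x = c * (x * b))
    (hcx : Commute c x) (hcb : Commute c b) (i : ℕ) :
    (b * x) ^ i = c ^ (∑ j ∈ Finset.range (i + 1), j) * (x ^ i * b ^ i) := by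
  have key : ∀ i : ℕ, b ^ i * x = c ^ i * (x * b ^ i) := by
    intro i
    induction i with
    | zero => simp
    | succ i ih =>
      rw [pow_succ' b, mul_assoc, ih, ← mul_assoc, ← (hcb.pow_left i).eq, mul_assoc, ← mul_assoc b x,
        hc, mul_assoc c, ← mul_assoc, ← pow_succ, mul_assoc x]
  induction i with
  | zero => simp
  | succ i ih =>
    rw [Finset.sum_range_succ _ (i + 1), pow_succ, ih, mul_assoc]
    have : x ^ i * b ^ i * (b * x) = c ^ (i + 1) * (x ^ (i + 1) * b ^ (i + 1)) := by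
      rw [mul_assoc, ← mul_assoc (b ^ i), ← pow_succ, key, ← mul_assoc, ← ((hcx.pow_pow (i + 1) i)).eq,
        mul_assoc, ← mul_assoc (x ^ i), ← pow_succ]
    rw [this, ← mul_assoc, ← pow_add]

/-- A `p`-group, `p` odd, in which all solutions of `y ^ p = 1` are powers of a central `z` is
cyclic. -/
theorem isCyclic_of_pow_eq_one_mem {P : Type*} [Group P] [Finite P] {p : ℕ} [hp : Fact p.Prime]
    (hP : IsPGroup p P) (hp2 : p ≠ 2) {z : P} (hz : z ∈ Subgroup.center P) (hzp : z ^ p = 1)
    (h : ∀ y : P, y ^ p = 1 → y ∈ Subgroup.zpowers z) : IsCyclic P := by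
  suffices key : ∀ n, ∀ K : Subgroup P, Nat.card K = n → ∃ a : P, K = Subgroup.zpowers a by
    obtain ⟨a, ha⟩ := key _ ⊤ rfl
    exact ⟨⟨a, fun x => by
      have : x ∈ Subgroup.zpowers a := ha ▸ Subgroup.mem_top x
      exact Subgroup.mem_zpowers_iff.mp this⟩⟩
  intro n
  induction n using Nat.strong_induction_on with
  | _ n ih =>
    intro K hn
    by_cases hK : K = ⊥
    · exact ⟨1, by rw [hK, Subgroup.zpowers_one_eq_bot]⟩
    have : Nontrivial K := K.nontrivial_iff_ne_bot.mpr hK
    obtain ⟨M, hM⟩ : ∃ M : Subgroup K, IsCoatom M := by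
      obtain ⟨M, hM, -⟩ := (eq_top_or_exists_le_coatom (⊥ : Subgroup K)).resolve_left bot_ne_top
      exact ⟨M, hM⟩
    have hKp := hP.to_subgroup K
    have hMlt : Nat.card (M.map K.subtype) < n := by
      rw [Subgroup.card_map_of_injective K.subtype_injective, ← hn]
      rcases (Nat.le_of_dvd Nat.card_pos (Subgroup.card_subgroup_dvd_card M)).lt_or_eq with h1 | h1
      · exact h1
      · exact absurd (Subgroup.eq_top_of_card_eq M h1) hM.1
    obtain ⟨a, ha⟩ := ih _ hMlt (M.map K.subtype) rfl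
    obtain ⟨b, hbM⟩ : ∃ b : K, b ∉ M := by
      by_contra h0
      push Not at h0
      exact hM.1 (eq_top_iff.mpr fun x _ => h0 x)
    have haM : a ∈ M.map K.subtype := ha ▸ Subgroup.mem_zpowers a
    obtain ⟨a', ha'M, ha'⟩ := haM
    have : M.Normal := Subgroup.NormalizerCondition.normal_of_coatom M
      (Group.normalizerCondition_of_isNilpotent (h := hKp.isNilpotent)) hM
    have hbp : b ^ p ∈ M := by
      obtain ⟨m, hm⟩ := IsPGroup.iff_card.1 (hKp.to_quotient M)
      have hle : M ⊔ Subgroup.zpowers (b ^ p) ≠ ⊤ := by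
        intro htop
        -- `b ^ p` generates modulo `M`, so `b` has order prime to `p` modulo `M`
        obtain ⟨s, hs, t, ht, hst⟩ := Subgroup.mem_sup_of_normal_left.mp (htop ▸ Subgroup.mem_top b :
          b ∈ M ⊔ Subgroup.zpowers (b ^ p))
        obtain ⟨j, rfl⟩ := Subgroup.mem_zpowers_iff.mp ht
        have hb1 : QuotientGroup.mk' M b ^ (1 - (p : ℤ) * j) = 1 := by
          have e1 := congrArg (QuotientGroup.mk' M) hst
          rw [map_mul, map_zpow, map_pow, show QuotientGroup.mk' M s = 1 from (QuotientGroup.eq_one_iff s).mpr hs,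
            one_mul, ← zpow_natCast, ← zpow_mul] at e1
          rw [zpow_sub, zpow_one, e1, mul_inv_cancel]
        obtain ⟨i, hi⟩ := (hKp.to_quotient M) (QuotientGroup.mk' M b)
        have hcop : IsCoprime ((p : ℤ) ^ i) (1 - (p : ℤ) * j) :=
          (IsCoprime.pow_left (⟨j, 1, by ring⟩ : IsCoprime (p : ℤ) (1 - (p : ℤ) * j)))
        obtain ⟨u, v, huv⟩ := hcop
        refine hbM ((QuotientGroup.eq_one_iff b).mp ?_)
        change QuotientGroup.mk' M b = 1
        rw [← zpow_one (QuotientGroup.mk' M b), ← huv, zpow_add, mul_comm u, zpow_mul, mul_comm v,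
          zpow_mul, hb1, one_zpow, mul_one, show ((p : ℤ) ^ i) = ((p ^ i : ℕ) : ℤ) by push_cast; rfl,
          zpow_natCast, hi, one_zpow]
      by_contra hb
      exact hle (hM.2 _ (lt_of_le_of_ne le_sup_left
        fun e => hb (e ▸ Subgroup.mem_sup_right (Subgroup.mem_zpowers _))))
    have hsup : M ⊔ Subgroup.zpowers b = ⊤ :=
      hM.2 _ (lt_of_le_of_ne le_sup_left fun e => hbM (e ▸ Subgroup.mem_sup_right (Subgroup.mem_zpowers _)))
    have hbpP : (b : P) ^ p ∈ Subgroup.zpowers a := ha ▸ ⟨b ^ p, hbp, rfl⟩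
    obtain ⟨j, hj⟩ := Subgroup.mem_zpowers_iff.mp hbpP
    by_cases hM0 : a = 1
    · refine ⟨(b : P), ?_⟩
      have h1 : (⊤ : Subgroup K).map K.subtype = Subgroup.zpowers (b : P) := by
        rw [← hsup, Subgroup.map_sup, ha, hM0, MonoidHom.map_zpowers, Subgroup.zpowers_one_eq_bot, bot_sup_eq]
        rfl
      rwa [← MonoidHom.range_eq_map, Subgroup.range_subtype] at h1
    obtain ⟨e, he⟩ := hP.exists_orderOf_eq_pow a
    by_cases hpj : (p : ℤ) ∣ j
    · exfalso
      obtain ⟨m, rfl⟩ := hpj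
      -- conjugation by `b`
      have hconj : (b : P) * a * (b : P)⁻¹ ∈ Subgroup.zpowers a := by
        rw [← ha]
        exact ⟨b * a' * b⁻¹, (inferInstance : M.Normal).conj_mem a' ha'M b, by simp [← ha']⟩
      obtain ⟨k, hk⟩ := Subgroup.mem_zpowers_iff.mp hconj
      have hkp : a ^ (k ^ p) = a := by
        have e1 : ∀ i : ℕ, a ^ (k ^ i) = (b : P) ^ i * a * ((b : P) ^ i)⁻¹ := by
          intro i
          induction i with
          | zero => simp
          | succ i hi =>
            calc a ^ (k ^ (i + 1)) = ((b : P) ^ i * a * ((b : P) ^ i)⁻¹) ^ k := by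
                  rw [← hi, ← zpow_mul, pow_succ]
              _ = (b : P) ^ i * ((b : P) * a * (b : P)⁻¹) * ((b : P) ^ i)⁻¹ := by rw [conj_zpow, hk]
              _ = _ := by rw [pow_succ]; group
        rw [e1 p, ← hj, ← zpow_add_one, ← zpow_neg, ← zpow_add]
        norm_num
      have hkk : (p : ℤ) ^ e ∣ k ^ p - 1 := by
        rw [show ((p : ℤ) ^ e) = ((p ^ e : ℕ) : ℤ) by push_cast; rfl, ← he, orderOf_dvd_iff_zpow_eq_one,
          zpow_sub, hkp, zpow_one, mul_inv_cancel]
      have hdiv : (p : ℤ) ^ e ∣ p * (k - 1) := by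
        rcases e with _ | e
        · exact ⟨p * (k - 1), by simp⟩
        · rw [pow_succ', mul_dvd_mul_iff_left (by exact_mod_cast hp.out.ne_zero)]
          exact dvd_sub_one_of_dvd_pow_sub_one hp2 hkk
      set x : P := a ^ (-m) with hx
      set c : P := (b : P) * x * (b : P)⁻¹ * x⁻¹ with hc
      have hcval : c = a ^ (-m * (k - 1)) := by
        rw [hc, hx, ← conj_zpow, ← hk, ← zpow_mul, ← zpow_neg, ← zpow_add]
        congr 1; ring
      have hcp : c ^ p = 1 := by
        rw [hcval, ← zpow_natCast, ← zpow_mul, ← orderOf_dvd_iff_zpow_eq_one, he]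
        obtain ⟨d, hd⟩ := hdiv
        exact ⟨-m * d, by push_cast; linear_combination (-m) * hd⟩
      have hcC : c ∈ Subgroup.center P := Subgroup.zpowers_le.mpr hz (h c hcp)
      have hcomm : ∀ g, Commute c g := fun g => ((Subgroup.mem_center_iff.mp hcC) g).symm
      have hbx : (b : P) * x = c * (x * b) := by rw [hc]; group
      have hy : ((b : P) * x) ^ p = 1 := by
        rw [mul_pow_of_central_comm hbx (hcomm x) (hcomm _)]
        have hdvd : p ∣ ∑ j ∈ Finset.range (p + 1), j := by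
          obtain ⟨r, hr⟩ := hp.out.odd_of_ne_two hp2
          refine ⟨r + 1, ?_⟩
          rw [Finset.sum_range_id, Nat.add_sub_cancel]
          exact Nat.div_eq_of_eq_mul_left two_pos (by subst hr; ring)
        obtain ⟨d, hd⟩ := hdvd
        rw [hd, pow_mul, hcp, one_pow, one_mul, hx, ← hj, ← zpow_natCast, ← zpow_mul, ← zpow_add]
        ring_nf
        simp
      have hzM : z ∈ M.map K.subtype := by
        obtain ⟨a0, ha0, ha0p⟩ : ∃ a0 ∈ Subgroup.zpowers a, a0 ≠ 1 ∧ a0 ^ p = 1 := by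
          have he0 : e ≠ 0 := by rintro rfl; exact hM0 (orderOf_eq_one_iff.mp (by simpa using he))
          obtain ⟨e', rfl⟩ := Nat.exists_eq_succ_of_ne_zero he0
          refine ⟨a ^ p ^ e', Subgroup.npow_mem_zpowers a _, ?_, ?_⟩
          · intro h1
            have := (orderOf_dvd_of_pow_eq_one h1)
            rw [he] at this
            have := (Nat.pow_dvd_pow_iff_le_right hp.out.one_lt).mp this
            omega
          · rw [← pow_mul, ← pow_succ, ← he, pow_orderOf_eq_one]
        have hzord : orderOf z = p := orderOf_eq_prime hzp (by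
          rintro rfl
          exact ha0p.1 (by simpa using h a0 ha0p.2))
        obtain ⟨i, hi⟩ := Subgroup.mem_zpowers_iff.mp (h a0 ha0p.2)
        have hi' : ¬ (p : ℤ) ∣ i := fun hd => ha0p.1 (by
          rw [← hi, ← orderOf_dvd_iff_zpow_eq_one, hzord]; exact hd)
        obtain ⟨u, v, huv⟩ := (Int.isCoprime_iff_gcd_eq_one.mpr ((Nat.prime_iff_prime_int.mp
          hp.out).coprime_iff_not_dvd.mpr hi' |> Int.isCoprime_iff_gcd_eq_one.mp))
        have : z = a0 ^ v := by
          rw [← hi, ← zpow_mul]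
          conv_lhs => rw [← zpow_one z, ← huv, zpow_add, mul_comm u, zpow_mul, zpow_natCast, hzp,
            one_zpow, one_mul, mul_comm v]
        rw [ha, this]
        exact zpow_mem ha0 v
      have hmem : (b : P) * x ∈ M.map K.subtype := Subgroup.zpowers_le.mpr hzM (h _ hy)
      have hxM : x ∈ M.map K.subtype := ha ▸ Subgroup.zpow_mem_zpowers a _
      have := (Subgroup.mul_mem_cancel_right _ hxM).mp hmem
      obtain ⟨b', hb', hbb⟩ := this
      exact hbM (Subtype.ext hbb ▸ hb')
    · refine ⟨(b : P), ?_⟩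
      obtain ⟨u, v, huv⟩ := (Nat.prime_iff_prime_int.mp hp.out).coprime_iff_not_dvd.mpr hpj |>.pow_left (m := e)
      have haz : a ∈ Subgroup.zpowers (b : P) := by
        have : a = ((b : P) ^ p) ^ v := by
          rw [← hj, ← zpow_mul]
          conv_lhs => rw [← zpow_one a, ← huv, zpow_add, mul_comm u, zpow_mul,
            show ((p : ℤ) ^ e) = ((p ^ e : ℕ) : ℤ) by push_cast; rfl, zpow_natCast, ← he,
            pow_orderOf_eq_one, one_zpow, one_mul, mul_comm v]
        rw [this]
        exact zpow_mem (pow_mem (Subgroup.mem_zpowers _) p) v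
      apply le_antisymm
      · have : (⊤ : Subgroup K).map K.subtype ≤ Subgroup.zpowers (b : P) := by
          rw [← hsup, Subgroup.map_sup, ha, MonoidHom.map_zpowers]
          exact sup_le (Subgroup.zpowers_le.mpr haz) le_rfl
        rwa [← MonoidHom.range_eq_map, Subgroup.range_subtype] at this
      · exact Subgroup.zpowers_le.mpr b.2

end Cfsg.Agent.Invol
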