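import Mathlib
import Cfsg.Prelude.Def_Involutions
import Cfsg.Agent.Lib.Invol.Basic
import Cfsg.Agent.Lib.Invol.Sylow

/-!
# Strongly embedded subgroups: characterisations
-/

namespace Cfsg.Agent.Invol

variable {G : Type*} [Group G] [Finite G]

theorem mem_inf_map_conj {H : Subgroup G} {g s : G} :
    s ∈ H ⊓ H.map (MulAut.conj g).toMonoidHom ↔ s ∈ H ∧ g⁻¹ * s * g ∈ H := by
  simp only [Subgroup.mem_inf, Subgroup.mem_map, MulEquiv.coe_toMonoidHom, MulAut.conj_apply]
  refine and_congr_right fun _ => ⟨?_, fun h => ⟨_, h, by group⟩⟩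
  rintro ⟨z, hz, rfl⟩
  simpa [mul_assoc] using hz

/-- A proper subgroup of even order is strongly embedded iff an element carrying an involution of
the subgroup into the subgroup lies in it. -/
theorem isStronglyEmbedded_iff {H : Subgroup G} (hH : H ≠ ⊤) (heven : Even (Nat.card H)) :
    Cfsg.IsStronglyEmbedded H ↔ ∀ t ∈ H, orderOf t = 2 → ∀ g : G, g⁻¹ * t * g ∈ H → g ∈ H := by
  constructor
  · rintro ⟨-, -, hodd⟩ t ht ht2 g hg
    by_contra hgH
    have h1 : Even (Nat.card ↥(H ⊓ H.map (MulAut.conj g).toMonoidHom)) :=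
      even_card_of_mem ht2 (mem_inf_map_conj.mpr ⟨ht, hg⟩)
    exact (Nat.not_even_iff_odd.mpr (hodd g hgH)) h1
  · intro h
    refine ⟨hH, heven, fun g hg => ?_⟩
    rw [← Nat.not_even_iff_odd]
    intro hev
    obtain ⟨t, ht, ht2⟩ := exists_orderOf_two_mem hev
    rw [mem_inf_map_conj] at ht
    exact hg (h t ht.1 ht2 g ht.2)

end Cfsg.Agent.Invol
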