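import Mathlib
import Cfsg.Agent.Lib.Invol.StronglyEmbedded

/-!
# Involutions interchanging two points of the coset space of a strongly embedded subgroup
-/

namespace Cfsg.Agent.Invol

variable {G : Type*} [Group G] [Finite G] {H : Subgroup G}

omit [Finite G] in
theorem smul_coset_eq_iff {t g : G} :
    t • (QuotientGroup.mk g : G ⧸ H) = QuotientGroup.mk g ↔ g⁻¹ * t * g ∈ H := by
  rw [MulAction.Quotient.smul_mk, eq_comm, QuotientGroup.eq, smul_eq_mul, mul_assoc]

theorem stronglyEmbedded_fix (hH : Cfsg.IsStronglyEmbedded H) {t : G} (ht : orderOf t = 2) {g h : G}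
    (hg : g⁻¹ * t * g ∈ H) (hh : h⁻¹ * t * h ∈ H) : g⁻¹ * h ∈ H := by
  have ho : orderOf (g⁻¹ * t * g) = 2 := by
    rw [← ht, ← Invol.orderOf_conj_eq g⁻¹ t, inv_inv]
  refine (isStronglyEmbedded_iff hH.1 hH.2.1).mp hH _ hg ho (g⁻¹ * h) ?_
  convert hh using 1; group

/-- An involution centralizing two others forces them to share their fixed point. -/
theorem even_mul_false (hH : Cfsg.IsStronglyEmbedded H) {s a : G} (hs : orderOf s = 2)
    (ha : orderOf a = 2) {g h : G} (hg : g⁻¹ * s * g ∈ H) (hh : h⁻¹ * a * h ∈ H)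
    (hne : g⁻¹ * h ∉ H) : Odd (orderOf (s * a)) := by
  refine Nat.not_even_iff_odd.mp fun he => hne ?_
  obtain ⟨r, hr⟩ := he
  set w := (s * a) ^ r with hw
  have hw2 : orderOf w = 2 := by
    have h0 := orderOf_pos (s * a)
    rw [hw, orderOf_pow, hr, Nat.gcd_eq_right ⟨2, by ring⟩, ← two_mul]
    exact Nat.mul_div_cancel _ (by omega)
  have h1 : s * w = w * s := by
    have h2 := mul_zpow_comm hs ha (r : ℤ)
    rwa [zpow_natCast, zpow_neg, zpow_natCast, inv_of_orderOf_two hw2] at h2
  have h3 : a * w = w * a := by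
    have ha' : a = s * (s * a) := y_eq hs
    have hcomm : (s * a) * w = w * (s * a) := (Commute.self_pow (s * a) r).eq
    calc a * w = s * ((s * a) * w) := by rw [← mul_assoc, ← ha']
      _ = (s * w) * (s * a) := by rw [hcomm, mul_assoc]
      _ = w * (s * (s * a)) := by rw [h1, mul_assoc]
      _ = w * a := by rw [← ha']
  have key : ∀ c b : G, orderOf c = 2 → b⁻¹ * c * b ∈ H → c * w = w * c → b⁻¹ * w * b ∈ H := by
    intro c b hc hb hcw
    have h4 : (w * b)⁻¹ * c * (w * b) ∈ H := by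
      convert hb using 1
      rw [mul_inv_rev, mul_assoc, ← mul_assoc c, hcw]
      group
    have h5 := stronglyEmbedded_fix hH hc hb h4
    rwa [mul_assoc]
  exact stronglyEmbedded_fix hH hw2 (key s g hs hg h1) (key a h ha hh h3)

/-- The involution of the dihedral group interchanging two involutions with different fixed points. -/
theorem exists_swap (hH : Cfsg.IsStronglyEmbedded H) {s a : G} (hs : orderOf s = 2)
    (ha : orderOf a = 2) {g h : G} (hg : g⁻¹ * s * g ∈ H) (hh : h⁻¹ * a * h ∈ H)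
    (hne : g⁻¹ * h ∉ H) :
    ∃ m : G, orderOf m = 2 ∧ m * s * m⁻¹ = a ∧ m • (QuotientGroup.mk g : G ⧸ H) = QuotientGroup.mk h := by
  obtain ⟨n, hn⟩ := even_mul_false hH hs ha hg hh hne
  set k := (s * a) ^ (n : ℤ) with hk
  have hka : k * s * k⁻¹ = a := by
    rw [hk, ← zpow_neg, mul_assoc, mul_zpow_comm hs ha, neg_neg, ← mul_assoc, ← zpow_add]
    have h1 : (s * a) ^ ((n : ℤ) + n) = (s * a)⁻¹ := by
      rw [eq_inv_iff_mul_eq_one, ← zpow_add_one, show (n : ℤ) + n + 1 = ((2 * n + 1 : ℕ) : ℤ) by push_cast; ring,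
        zpow_natCast, ← hn, pow_orderOf_eq_one]
    rw [h1, mul_inv_rev, mul_assoc, inv_mul_cancel, mul_one, inv_of_orderOf_two ha]
  have hss := mul_self_of_orderOf_two hs
  refine ⟨k * s, orderOf_two_iff.mpr ⟨?_, ?_⟩, ?_, ?_⟩
  · calc k * s * (k * s) = k * (s * k) * s := by group
      _ = k * (k⁻¹ * s) * s := by rw [hk, mul_zpow_comm hs ha, zpow_neg]
      _ = 1 := by rw [mul_inv_cancel_left, hss]
  · intro h1
    refine notMem_zpowers_mul hs ha ?_
    exact Subgroup.mem_zpowers_iff.mpr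
      ⟨(n : ℤ), (eq_inv_of_mul_eq_one_left h1).trans (inv_of_orderOf_two hs)⟩
  · rw [← hka]; group
  · rw [MulAction.Quotient.smul_mk, eq_comm, QuotientGroup.eq, smul_eq_mul]
    refine stronglyEmbedded_fix hH ha hh ?_
    convert hg using 1
    rw [← hka]
    calc (k * s * g)⁻¹ * (k * s * k⁻¹) * (k * s * g) = g⁻¹ * (s⁻¹ * s * s) * g := by group
      _ = g⁻¹ * s * g := by group

theorem isConj_involutions (hH : Cfsg.IsStronglyEmbedded H) {a b : G} (ha : orderOf a = 2)
    (hb : orderOf b = 2) : IsConj a b := by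
  obtain ⟨s, hsH, hs⟩ := exists_orderOf_two_mem hH.2.1
  obtain ⟨g, hg⟩ : ∃ g : G, g ∉ H := by
    by_contra hc
    push Not at hc
    exact hH.1 (top_le_iff.mp fun g _ => hc g)
  -- a conjugate of `s` outside `H`
  set c := g * s * g⁻¹ with hc
  have hc2 : orderOf c = 2 := by rw [hc, orderOf_conj_eq, hs]
  have hcH : c ∉ H := fun hm => hg (by
    have := stronglyEmbedded_fix hH hc2 (g := 1) (h := g) (by simpa using hm) (by rw [hc]; simpa [mul_assoc] using hsH)
    simpa using this)
  have key : ∀ t : G, orderOf t = 2 → IsConj t s := by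
    intro t ht
    have hout : ∀ t, orderOf t = 2 → t ∉ H → ∀ s, orderOf s = 2 → s ∈ H → IsConj s t := by
      intro t ht htH s hs hsH
      have hodd : Odd (orderOf (s * t)) := by
        refine Nat.not_even_iff_odd.mp fun he => htH ?_
        obtain ⟨r, hr⟩ := he
        set w := (s * t) ^ r with hw
        have hw2 : orderOf w = 2 := by
          have h0 := orderOf_pos (s * t)
          rw [hw, orderOf_pow, hr, Nat.gcd_eq_right ⟨2, by ring⟩, ← two_mul]
          exact Nat.mul_div_cancel _ (by omega)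
        have h1 : s * w = w * s := by
          have h2 := mul_zpow_comm hs ht (r : ℤ)
          rwa [zpow_natCast, zpow_neg, zpow_natCast, inv_of_orderOf_two hw2] at h2
        have hC := (isStronglyEmbedded_iff hH.1 hH.2.1).mp hH
        have hwH : w ∈ H := hC s hsH hs w (by rw [mul_assoc, h1, inv_mul_cancel_left]; exact hsH)
        refine hC w hwH hw2 t ?_
        have hcomm : (s * t) * w = w * (s * t) := (Commute.self_pow (s * t) r).eq
        have h3 : t * w = w * t := by
          calc t * w = s * ((s * t) * w) := by rw [← mul_assoc, ← y_eq hs]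
            _ = (s * w) * (s * t) := by rw [hcomm, mul_assoc]
            _ = w * (s * (s * t)) := by rw [h1, mul_assoc]
            _ = w * t := by rw [← y_eq hs]
        rw [mul_assoc, ← h3, inv_mul_cancel_left]
        exact hwH
      obtain ⟨n, hn⟩ := hodd
      refine isConj_iff.mpr ⟨(s * t) ^ (n : ℤ), ?_⟩
      rw [← zpow_neg, mul_assoc, mul_zpow_comm hs ht, neg_neg, ← mul_assoc, ← zpow_add]
      have h1 : (s * t) ^ ((n : ℤ) + n) = (s * t)⁻¹ := by
        rw [eq_inv_iff_mul_eq_one, ← zpow_add_one, show (n : ℤ) + n + 1 = ((2 * n + 1 : ℕ) : ℤ) by push_cast; ring,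
          zpow_natCast, ← hn, pow_orderOf_eq_one]
      rw [h1, mul_inv_rev, mul_assoc, inv_mul_cancel, mul_one, inv_of_orderOf_two ht]
    by_cases htH : t ∈ H
    · exact (hout c hc2 hcH t ht htH).trans (hout c hc2 hcH s hs hsH).symm
    · exact (hout t ht htH s hs hsH).symm
  exact (key a ha).trans (key b hb).symm

theorem exists_fixed (hH : Cfsg.IsStronglyEmbedded H) {t : G} (ht : orderOf t = 2) :
    ∃ g : G, g⁻¹ * t * g ∈ H := by
  obtain ⟨s, hsH, hs⟩ := exists_orderOf_two_mem hH.2.1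
  obtain ⟨g, hg⟩ := isConj_iff.mp (isConj_involutions hH hs ht)
  exact ⟨g, by rw [← hg]; simpa [mul_assoc] using hsH⟩

theorem card_swap_eq (hH : Cfsg.IsStronglyEmbedded H) (x y : G ⧸ H) (hxy : x ≠ y) :
    Nat.card {i : G // orderOf i = 2 ∧ i • x = y} = Nat.card {t : G // orderOf t = 2 ∧ t ∈ H} := by
  classical
  have := Fintype.ofFinite G
  have := Fintype.ofFinite (G ⧸ H)
  let I : Finset G := Finset.univ.filter fun t => orderOf t = 2
  let N : G ⧸ H → Finset G := fun z => I.filter fun i => i • x = z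
  let F : G ⧸ H → Finset G := fun z => I.filter fun i => i • z = z
  let J : Finset G := I.filter fun i => i ∈ H
  have hJ : ∀ z, (F z).card = J.card := by
    intro z
    obtain ⟨g, rfl⟩ := QuotientGroup.mk_surjective z
    refine Finset.card_bij' (fun i _ => g⁻¹ * i * g) (fun t _ => g * t * g⁻¹) ?_ ?_ ?_ ?_
    · intro i hi
      simp only [F, J, I, Finset.mem_filter, Finset.mem_univ, true_and] at hi ⊢
      exact ⟨by rw [← hi.1, ← orderOf_conj_eq g⁻¹ i, inv_inv], smul_coset_eq_iff.mp hi.2⟩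
    · intro t ht
      simp only [F, J, I, Finset.mem_filter, Finset.mem_univ, true_and] at ht ⊢
      exact ⟨by rw [orderOf_conj_eq, ht.1], smul_coset_eq_iff.mpr (by simpa [mul_assoc] using ht.2)⟩
    · intro i _; group
    · intro t _; group
  have hfix : ∀ i ∈ I, ∀ z z' : G ⧸ H, i • z = z → i • z' = z' → z = z' := by
    intro i hi z z' h1 h2
    obtain ⟨g, rfl⟩ := QuotientGroup.mk_surjective z
    obtain ⟨h, rfl⟩ := QuotientGroup.mk_surjective z'
    exact QuotientGroup.eq.mpr (stronglyEmbedded_fix hH (Finset.mem_filter.mp hi).2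
      (smul_coset_eq_iff.mp h1) (smul_coset_eq_iff.mp h2))
  have hle : ∀ z, J.card ≤ (N z).card := by
    intro z
    rcases eq_or_ne x z with rfl | hz
    · exact (hJ x).ge
    obtain ⟨g, rfl⟩ := QuotientGroup.mk_surjective x
    obtain ⟨h, rfl⟩ := QuotientGroup.mk_surjective z
    obtain ⟨s₀, hs₀H, hs₀⟩ := exists_orderOf_two_mem hH.2.1
    set v := h * s₀ * h⁻¹ with hv
    have hv2 : orderOf v = 2 := by rw [hv, orderOf_conj_eq, hs₀]
    have hne : g⁻¹ * h ∉ H := fun hm => hz (QuotientGroup.eq.mpr hm)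
    have hex : ∀ t ∈ F (QuotientGroup.mk g), ∃ m : G, orderOf m = 2 ∧ m * t * m⁻¹ = v ∧
        m • (QuotientGroup.mk g : G ⧸ H) = QuotientGroup.mk h := by
      intro t ht
      simp only [F, I, Finset.mem_filter, Finset.mem_univ, true_and] at ht
      exact exists_swap hH ht.1 hv2 (smul_coset_eq_iff.mp ht.2)
        (by rw [hv]; simpa [mul_assoc] using hs₀H) hne
    choose m hm1 hm2 hm3 using hex
    rw [← hJ (QuotientGroup.mk g)]
    refine Finset.card_le_card_of_injOn (fun t => if ht : t ∈ F (QuotientGroup.mk g) then m t ht else 1) ?_ ?_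
    · intro t ht
      simp only [dif_pos (Finset.mem_coe.mp ht), Finset.mem_coe, N, I, Finset.mem_filter, Finset.mem_univ,
        true_and]
      exact ⟨hm1 _ _, hm3 _ _⟩
    · intro t ht t' ht' he
      simp only [dif_pos (Finset.mem_coe.mp ht), dif_pos (Finset.mem_coe.mp ht')] at he
      have h2 := hm2 t' (Finset.mem_coe.mp ht')
      rw [← he] at h2
      exact mul_left_cancel (mul_right_cancel ((hm2 t (Finset.mem_coe.mp ht)).trans h2.symm))
  have hsum : ∑ _z : G ⧸ H, J.card = ∑ z : G ⧸ H, (N z).card := by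
    have h1 : I.card = ∑ z : G ⧸ H, (N z).card :=
      Finset.card_eq_sum_card_fiberwise (f := fun i => i • x) (fun i _ => Finset.mem_univ _)
    have hex : ∀ i ∈ I, ∃ z : G ⧸ H, i • z = z := fun i hi => by
      obtain ⟨g, hg⟩ := exists_fixed hH (Finset.mem_filter.mp hi).2
      exact ⟨QuotientGroup.mk g, smul_coset_eq_iff.mpr hg⟩
    choose φ hφ using hex
    have h2 : I.card = ∑ z : G ⧸ H, (F z).card := by
      rw [Finset.card_eq_sum_card_fiberwise (f := fun i => if hi : i ∈ I then φ i hi else x) (t := Finset.univ)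
        (fun i _ => Finset.mem_univ _)]
      refine Finset.sum_congr rfl fun z _ => congrArg Finset.card (Finset.filter_congr fun i hi => ?_)
      simp only [dif_pos hi]
      exact ⟨fun h => h ▸ hφ i hi, fun h => hfix i hi _ _ (hφ i hi) h⟩
    rw [← h1, h2]
    exact Finset.sum_congr rfl fun z _ => (hJ z).symm
  have := (Finset.sum_eq_sum_iff_of_le fun z _ => hle z).mp hsum y (Finset.mem_univ _)
  rw [Nat.card_eq_fintype_card, Fintype.card_subtype, Nat.card_eq_fintype_card, Fintype.card_subtype]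
  simp only [J, N, I, Finset.filter_filter] at this
  exact this.symm

theorem exists_conj_inf (hH : Cfsg.IsStronglyEmbedded H) {u s t : G} (hu : orderOf u = 2) (huH : u ∉ H)
    (hs : orderOf s = 2) (hsH : s ∈ H) (ht : orderOf t = 2) (htH : t ∈ H) :
    ∃ d ∈ H ⊓ H.map (MulAut.conj u).toMonoidHom, d * s * d⁻¹ = t := by
  have hv2 : orderOf (u * t * u⁻¹) = 2 := by rw [orderOf_conj_eq, ht]
  obtain ⟨m, hm2, hmc, hmx⟩ := exists_swap hH hs hv2 (g := 1) (h := u) (by simpa using hsH)
    (by simpa [mul_assoc] using htH) (by simpa using huH)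
  have huu := inv_of_orderOf_two hu
  rw [MulAction.Quotient.smul_mk, smul_eq_mul, mul_one, QuotientGroup.eq] at hmx
  refine ⟨u⁻¹ * m, mem_inf_map_conj.mpr ⟨?_, ?_⟩, ?_⟩
  · simpa using inv_mem hmx
  · have h1 : u⁻¹ * (u⁻¹ * m) * u = m⁻¹ * u := by
      have huu' : u⁻¹ * u⁻¹ = 1 := by rw [huu, mul_self_of_orderOf_two hu]
      rw [← mul_assoc, huu', one_mul, inv_of_orderOf_two hm2]
    rw [h1]
    exact hmx
  · calc u⁻¹ * m * s * (u⁻¹ * m)⁻¹ = u⁻¹ * (m * s * m⁻¹) * u := by group
      _ = t := by rw [hmc]; group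

end Cfsg.Agent.Invol
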