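import Cfsg.Agent.Lib.Invol.ZJElem
import Cfsg.Agent.Lib.Grp.Frattini
import Cfsg.Agent.Lib.Grp.GaschutzYen

/-!
The `ZJ`-theorem for the whole centre of the Thompson subgroup generated by elementary abelian
subgroups of largest order.
-/

set_option autoImplicit false
set_option linter.style.haveILetI false
set_option linter.unusedSectionVars false

open scoped Classical commutatorElement

namespace Cfsg.Agent.Invol

open Subgroup Fus

universe u

variable {G : Type u} [Group G]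

theorem mem_centerEl {p : ℕ} {R : Subgroup G} {x : G} :
    x ∈ centerThompsonOf p R ↔ x ∈ thompsonSubgroupOf p R ∧
      x ∈ Subgroup.centralizer (thompsonSubgroupOf p R : Set G) := Iff.rfl

theorem centerEl_le {p : ℕ} (R : Subgroup G) : centerThompsonOf p R ≤ R := fun _ hx =>
  thompsonEl_le R hx.1

theorem conj_mem_centerEl {p : ℕ} {R : Subgroup G} {g x : G}
    (hg : g ∈ Subgroup.normalizer (R : Set G)) (hx : x ∈ centerThompsonOf p R) :
    g * x * g⁻¹ ∈ centerThompsonOf p R := by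
  obtain ⟨h0, h1⟩ := hx
  refine ⟨conj_mem_thompsonEl hg h0, mem_centralizer_iff_commute.2 fun h hh => ?_⟩
  have h3 := mem_centralizer_iff_commute.1 h1 _ (conj_mem_thompsonEl (inv_mem hg) hh)
  calc h * (g * x * g⁻¹) = g * ((g⁻¹ * h * g⁻¹⁻¹) * x) * g⁻¹ := by group
    _ = g * (x * (g⁻¹ * h * g⁻¹⁻¹)) * g⁻¹ := by rw [h3]
    _ = g * x * g⁻¹ * h := by group

theorem normalizer_le_centerEl {p : ℕ} (R : Subgroup G) :
    Subgroup.normalizer (R : Set G) ≤ Subgroup.normalizer (centerThompsonOf p R : Set G) := fun g hg =>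
  mem_normalizer_of_forall (fun x hx => conj_mem_centerEl hg hx) fun x hx => by
    simpa using conj_mem_centerEl (inv_mem hg) hx

variable [Finite G] {p : ℕ} [Fact p.Prime]

/-- A normal `p`-subgroup meets `Z(J(D))` in a normal subgroup. -/
theorem inf_centerEl_normal (hp : p ≠ 2)
    (hst : ∀ (P : Subgroup G) [P.Normal], IsPGroup p P → IsPStableOn p P) (S : Sylow p G)
    {D : Subgroup G} (hD : IsStronglyClosed D (S : Subgroup G)) :
    ∀ (B : Subgroup G), B.Normal → IsPGroup p B → (B ⊓ centerThompsonOf p D).Normal := by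
  intro B
  induction hn : Nat.card B using Nat.strong_induction_on generalizing B with
  | _ n IH =>
  intro hBn hBp
  set Z := centerThompsonOf p D with hZ
  have hBS : B ≤ (S : Subgroup G) := hBp.le_sylow_of_normal S
  have hDn : ∀ s ∈ (S : Subgroup G), s ∈ Subgroup.normalizer (D : Set G) := by
    refine fun s hs => mem_normalizer_of_forall (fun x hx => hD.2 x hx s ?_) fun x hx => ?_
    · exact S.mul_mem (S.mul_mem hs (hD.1 hx)) (S.inv_mem hs)
    · have := hD.2 x hx s⁻¹ (by simpa using S.mul_mem (S.mul_mem (S.inv_mem hs) (hD.1 hx)) hs)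
      simpa using this
  set B₁ := Subgroup.normalClosure ((B ⊓ Z : Subgroup G) : Set G) with hB₁
  have hB₁B : B₁ ≤ B := Subgroup.normalClosure_le_normal fun x hx => hx.1
  have hB₁Z : B₁ ⊓ Z = B ⊓ Z :=
    le_antisymm (inf_le_inf_right _ hB₁B) (le_inf Subgroup.subset_normalClosure inf_le_right)
  rcases hB₁B.lt_or_eq with hlt | heq
  · rw [← hB₁Z]
    exact IH _ (hn ▸ card_lt_of_lt hlt) B₁ rfl inferInstance (hBp.to_le hB₁B)
  have hBD : B ≤ D := by
    rw [← heq, hB₁, Subgroup.normalClosure, Subgroup.closure_le]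
    intro y hy
    obtain ⟨x, hx, hxy⟩ := Group.mem_conjugatesOfSet_iff.1 hy
    obtain ⟨c, rfl⟩ := _root_.isConj_iff.1 hxy
    exact hD.2 x (centerEl_le D hx.2) c (hBS (hBn.conj_mem x hx.1 c))
  by_cases hB0 : B = ⊥
  · rw [hB0, bot_inf_eq]
    infer_instance
  haveI := hBn
  set Φ := (frattini B).map B.subtype with hΦ
  haveI hΦn : Φ.Normal := ConjAct.normal_of_characteristic_of_normal
  have hΦlt : Φ < B := by
    refine lt_of_le_of_ne (Subgroup.map_subtype_le _) fun e => ?_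
    haveI : Nontrivial B := (Subgroup.nontrivial_iff_ne_bot B).2 hB0
    obtain ⟨M₀, hM₀, -⟩ := (eq_top_or_exists_le_coatom (⊥ : Subgroup B)).resolve_left bot_ne_top
    refine hM₀.1 (top_le_iff.1 fun x _ => frattini_le_coatom hM₀ ?_)
    obtain ⟨y, hy, hyx⟩ := e.ge x.2
    exact Subtype.ext hyx ▸ hy
  have hB'Φ : ⁅B, B⁆ ≤ Φ := by
    refine Subgroup.commutator_le.2 fun x hx y hy => ⟨⁅(⟨x, hx⟩ : B), (⟨y, hy⟩ : B)⁆, ?_, rfl⟩
    exact Grp.pGroup_commutator_le_frattini hBp
      (Subgroup.commutator_mem_commutator (Subgroup.mem_top _) (Subgroup.mem_top _))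
  set M := Φ ⊓ Z with hM
  haveI hMn : M.Normal := IH _ (hn ▸ card_lt_of_lt hΦlt) _ rfl hΦn (hBp.to_le hΦlt.le)
  have hcomm : ∀ b ∈ B, ∀ z ∈ B ⊓ Z, ⁅b, z⁆ ∈ M := by
    refine fun b hb z hz => ⟨hB'Φ (Subgroup.commutator_mem_commutator hb hz.1), ?_⟩
    rw [commutatorElement_def]
    exact Z.mul_mem (conj_mem_centerEl (Subgroup.le_normalizer (hBD hb)) hz.2)
      (Z.inv_mem hz.2)
  let C₁ := sectionKernel B M
  haveI : (B.map (QuotientGroup.mk' M)).Normal := hBn.map _ (QuotientGroup.mk'_surjective M)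
  haveI : C₁.Normal := Subgroup.Normal.comap inferInstance _
  have hBC₁ : B ≤ C₁ := by
    rw [← heq, hB₁]
    refine Subgroup.normalClosure_le_normal fun z hz => Subgroup.mem_centralizer_iff.2 ?_
    rintro _ ⟨b, hb, rfl⟩
    have h := hcomm b hb z hz
    rw [← QuotientGroup.ker_mk' M, MonoidHom.mem_ker, map_commutatorElement,
      commutatorElement_eq_one_iff_mul_comm] at h
    exact h
  have hB'M : ⁅B, B⁆ ≤ M := by
    refine Subgroup.commutator_le.2 fun a ha b hb => ?_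
    show ⁅a, b⁆ ∈ M
    rw [← QuotientGroup.ker_mk' M, MonoidHom.mem_ker, map_commutatorElement,
      commutatorElement_eq_one_iff_mul_comm]
    exact mem_centralizer_iff_commute.1 (hBC₁ hb) _ (Subgroup.mem_map_of_mem _ ha)
  have hB'Z : ⁅B, B⁆ ≤ Z := hB'M.trans inf_le_right
  have hBC₂ : B ≤ Subgroup.centralizer ((⁅B, B⁆ : Subgroup G) : Set G) := by
    haveI : (Subgroup.centralizer ((⁅B, B⁆ : Subgroup G) : Set G)).Normal := inferInstance
    have hle : ((B ⊓ Z : Subgroup G) : Set G) ⊆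
        Subgroup.centralizer ((⁅B, B⁆ : Subgroup G) : Set G) := fun z hz =>
      mem_centralizer_iff_commute.2 fun h hh =>
        mem_centralizer_iff_commute.1 hz.2.2 h (hB'Z hh).1
    conv_lhs => rw [← heq, hB₁]
    exact Subgroup.normalClosure_le_normal hle
  -- `p`-th powers and the exponent of the derived subgroup
  have hBM : ∀ b ∈ B, ∀ m ∈ M, m * b = b * m := by
    have hle : B ≤ Subgroup.centralizer (M : Set G) := by
      conv_lhs => rw [← heq, hB₁]
      exact Subgroup.normalClosure_le_normal fun z hz =>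
        mem_centralizer_iff_commute.2 fun m hm => mem_centralizer_iff_commute.1 hz.2.2 m hm.2.1
    exact fun b hb m hm => mem_centralizer_iff_commute.1 (hle hb) m hm
  have hpowM : ∀ b ∈ B, b ^ p ∈ M := by
    set f := QuotientGroup.mk' M
    have hab : ∀ x ∈ B, ∀ y ∈ B, Commute (f x) (f y) := fun x hx y hy => by
      rw [commute_iff_eq, ← commutatorElement_eq_one_iff_mul_comm, ← map_commutatorElement]
      exact (QuotientGroup.eq_one_iff _).2 (hB'M (Subgroup.commutator_mem_commutator hx hy))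
    let K₀ : Subgroup G :=
      { carrier := {b | b ∈ B ∧ b ^ p ∈ M}
        one_mem' := ⟨one_mem _, by rw [one_pow]; exact one_mem _⟩
        mul_mem' := fun {x y} hx hy => ⟨mul_mem hx.1 hy.1, (QuotientGroup.eq_one_iff _).1 (by
          show f ((x * y) ^ p) = 1
          rw [map_pow, map_mul, (hab x hx.1 y hy.1).mul_pow, ← map_pow, ← map_pow,
            show f (x ^ p) = 1 from (QuotientGroup.eq_one_iff _).2 hx.2,
            show f (y ^ p) = 1 from (QuotientGroup.eq_one_iff _).2 hy.2, mul_one])⟩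
        inv_mem' := fun {x} hx => ⟨inv_mem hx.1, by rw [inv_pow]; exact inv_mem hx.2⟩ }
    haveI : K₀.Normal := ⟨fun x hx g => ⟨hBn.conj_mem x hx.1 g, by
      rw [conj_pow]; exact hMn.conj_mem _ hx.2 g⟩⟩
    have hle : B ≤ K₀ := by
      conv_lhs => rw [← heq, hB₁]
      refine Subgroup.normalClosure_le_normal fun z hz => ⟨hz.1, ?_, Z.pow_mem hz.2 p⟩
      exact ⟨⟨z, hz.1⟩ ^ p, Grp.pGroup_pow_mem_frattini hBp _, rfl⟩
    exact fun b hb => (hle hb).2
  have hcc : ∀ x ∈ B, ∀ y ∈ B, ∀ z ∈ B, Commute (x * y * x⁻¹ * y⁻¹) z := fun x hx y hy z hz =>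
    ((mem_centralizer_iff_commute.1 (hBC₂ hz)) _ (Subgroup.commutator_mem_commutator hx hy) :)
  have hB'exp : ∀ x ∈ B, ∀ y ∈ B, (x * y * x⁻¹ * y⁻¹) ^ p = 1 := by
    intro x hx y hy
    set c := x * y * x⁻¹ * y⁻¹ with hc
    have hcy : Commute c y := hcc x hx y hy y hy
    have h1 : (x * y * x⁻¹) ^ p = c ^ p * y ^ p := by
      rw [show x * y * x⁻¹ = c * y by rw [hc]; group, hcy.mul_pow]
    rw [conj_pow, ← hBM x hx _ (hpowM y hy), mul_inv_cancel_right] at h1
    exact mul_eq_right.1 h1.symm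
  set C := Subgroup.centralizer (B : Set G) with hC
  haveI : C.Normal := inferInstance
  haveI := Grp.pCore_isNormal (p := p) (G := G ⧸ C)
  set K := (pCore p (G ⧸ C)).comap (QuotientGroup.mk' C) with hK
  haveI hKn : K.Normal := inferInstance
  have hquad : ∀ A, IsMaxEl p D A → B ≤ Subgroup.normalizer (A : Set G) → A ≤ K := by
    intro A hA hBA a ha
    refine hst B hBp a (le_bot_iff.1 (Subgroup.commutator_le.2 fun u hu v hv => ?_))
    have hzA : Subgroup.zpowers a ≤ A := (Subgroup.zpowers_le).2 ha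
    have huA : u ∈ A := by
      refine (Subgroup.commutator_le.2 (fun x hx y hy => ?_) :
        ⁅B, Subgroup.zpowers a⁆ ≤ A) hu
      rw [commutatorElement_def]
      exact A.mul_mem ((Subgroup.mem_normalizer_iff.1 (hBA hx) y).1 (hzA hy))
        (A.inv_mem (hzA hy))
    rw [Subgroup.mem_bot, commutatorElement_eq_one_iff_mul_comm]
    exact hA.2.1.1 u huA v (hzA hv)
  set T := (S : Subgroup G) ⊓ K with hT
  have hTK : K ≤ T ⊔ C := by
    intro k hk
    let f : K →* pCore p (G ⧸ C) :=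
      ((QuotientGroup.mk' C).comp K.subtype).codRestrict _ fun x => x.2
    have hf : Function.Surjective f := by
      rintro ⟨q, hq⟩
      obtain ⟨g, rfl⟩ := QuotientGroup.mk'_surjective C q
      exact ⟨⟨g, hq⟩, rfl⟩
    obtain ⟨-, P, hP⟩ := isSylowOf_inf_normal S K
    have hPtop := (P.mapSurjective hf).is_maximal'
      ((Grp.pCore_isPGroup (p := p) (G := G ⧸ C)).to_subgroup ⊤) le_top
    obtain ⟨x, hx, hxk⟩ : f ⟨k, hk⟩ ∈ (P : Subgroup K).map f :=
      hPtop.le (Subgroup.mem_top _)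
    have hxT : (x : G) ∈ T := hP.le hx
    have hc : (x : G)⁻¹ * k ∈ C := QuotientGroup.eq.1 (congrArg Subtype.val hxk)
    rw [show k = (x : G) * ((x : G)⁻¹ * k) by group]
    exact mul_mem (Subgroup.mem_sup_left hxT) (Subgroup.mem_sup_right hc)
  have hGT : ∀ g : G, ∃ n ∈ Subgroup.normalizer (T : Set G), ∃ c ∈ C, g = n * c := fun g => by
    obtain ⟨-, P, hP⟩ := isSylowOf_inf_normal S K
    have h1 : Subgroup.normalizer (T : Set G) ⊔ K = ⊤ := by
      have hPT : (P : Subgroup K).map K.subtype = T := by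
        rw [hP, Subgroup.subgroupOf_map_subtype, inf_eq_left.2 (inf_le_right : T ≤ K)]
      rw [← hPT]
      exact Sylow.normalizer_sup_eq_top P
    have h2 : Subgroup.normalizer (T : Set G) ⊔ C = ⊤ := top_le_iff.1 (h1 ▸ sup_le le_sup_left
      (hTK.trans (sup_le_sup_right Subgroup.le_normalizer _)))
    obtain ⟨n, hn, c, hc, e⟩ := Subgroup.mem_sup_of_normal_right.1
      (show g ∈ Subgroup.normalizer (T : Set G) ⊔ C by rw [h2]; exact Subgroup.mem_top g)
    exact ⟨n, hn, c, hc, e.symm⟩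
  set D₁ := D ⊓ K with hD₁
  have hND₁ : Subgroup.normalizer (T : Set G) ≤ Subgroup.normalizer (D₁ : Set G) := by
    intro n hn
    have key : ∀ m ∈ Subgroup.normalizer (T : Set G), ∀ x ∈ D₁, m * x * m⁻¹ ∈ D₁ := by
      rintro m hm x ⟨hxD, hxK⟩
      have hxT := (Subgroup.mem_normalizer_iff.1 hm x).1 ⟨hD.1 hxD, hxK⟩
      exact ⟨hD.2 x hxD m hxT.1, hxT.2⟩
    refine mem_normalizer_of_forall (key n hn) fun x hx => ?_
    simpa using key n⁻¹ (inv_mem hn) x hx
  have hfin : ∀ z ∈ B ⊓ Z, ∀ c ∈ C, c * z * c⁻¹ = z := fun z hz c hc => by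
    rw [← mem_centralizer_iff_commute.1 hc z hz.1, mul_inv_cancel_right]
  by_cases hall : ∀ A, IsMaxEl p D A → A ≤ K
  · have hJ : thompsonSubgroupOf p D₁ = thompsonSubgroupOf p D := by
      refine le_antisymm (thompsonEl_le_of fun A hA => ?_) (thompsonEl_le_of fun A hA => ?_)
      · exact IsMaxEl.le_thompsonEl ⟨hA.1.trans inf_le_left, hA.2.1, fun A' hA' hc => by
          obtain ⟨hfin', hne⟩ : {A₀ : Subgroup G | A₀ ≤ D ∧ ((∀ x ∈ A₀, ∀ y ∈ A₀,
              x * y = y * x) ∧ ∀ x ∈ A₀, x ^ p = 1)}.Finite ∧ {A₀ : Subgroup G | A₀ ≤ D ∧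
              ((∀ x ∈ A₀, ∀ y ∈ A₀, x * y = y * x) ∧ ∀ x ∈ A₀, x ^ p = 1)}.Nonempty :=
            ⟨Set.toFinite _, A', hA', hc⟩
          obtain ⟨A₀, ⟨h1, h2⟩, h3⟩ :=
            Set.exists_max_image _ (fun H : Subgroup G => Nat.card H) hfin' hne
          have hA₀ : IsMaxEl p D A₀ := ⟨h1, h2, fun B' hB' hc' => h3 B' ⟨hB', hc'⟩⟩
          exact (h3 A' ⟨hA', hc⟩).trans (hA.2.2 A₀ (le_inf h1 (hall A₀ hA₀)) h2)⟩
      · exact IsMaxEl.le_thompsonEl ⟨le_inf hA.1 (hall A hA), hA.2.1,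
          fun A' hA' hc => hA.2.2 A' (hA'.trans inf_le_left) hc⟩
    refine ⟨fun z hz g => ?_⟩
    obtain ⟨n, hn', c, hc, rfl⟩ := hGT g
    rw [show n * c * z * (n * c)⁻¹ = n * (c * z * c⁻¹) * n⁻¹ by group, hfin z hz c hc]
    refine ⟨hBn.conj_mem z hz.1 n, ?_⟩
    have hZ₁ : Z = centerThompsonOf p D₁ := by simp only [hZ, centerThompsonOf, hJ]
    rw [hZ₁]
    exact conj_mem_centerEl (hND₁ hn') (hZ₁.le hz.2)
  push Not at hall
  exfalso
  obtain ⟨hsf, hsne⟩ : {A | IsMaxEl p D A ∧ ¬ A ≤ K}.Finite ∧ {A | IsMaxEl p D A ∧ ¬ A ≤ K}.Nonempty :=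
    ⟨Set.toFinite _, hall⟩
  obtain ⟨A₁, ⟨hA₁, hA₁K⟩, hmax⟩ :=
    Set.exists_max_image _ (fun A : Subgroup G => Nat.card ↥(A ⊓ B)) hsf hsne
  have hA₁B : ¬ B ≤ Subgroup.normalizer (A₁ : Set G) := fun h => hA₁K (hquad A₁ hA₁ h)
  obtain ⟨A', hA'D, hA'c0, hA'card, hlt, hA'N, -, -, hA'e, -⟩ := glauberman_replacement_exponent hp
    (S.2.to_le hD.1) hA₁.1 hBD
    (fun a _ => Subgroup.normalizer_eq_top B ▸ Subgroup.mem_top a) hA₁.2.1.1
    hcc
    (fun x hx y hy => by
      have h1 := hB'Z (Subgroup.commutator_mem_commutator hx hy)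
      exact hA₁.mem_of_commute (centerEl_le D h1) (hB'exp x hx y hy)
        fun a ha => mem_centralizer_iff_commute.1 h1.2 a (hA₁.le_thompsonEl ha)) hA₁B
  have hA'c : (∀ x ∈ A', ∀ y ∈ A', x * y = y * x) ∧ ∀ x ∈ A', x ^ p = 1 :=
    ⟨hA'c0, hA'e p ((Fact.out : p.Prime).eq_two_or_odd.resolve_left hp) hA₁.2.1.2⟩
  have hA' : IsMaxEl p D A' := ⟨hA'D, hA'c, fun A'' h1 h2 => (hA₁.2.2 A'' h1 h2).trans hA'card⟩
  have hA'K : A' ≤ K := by
    by_contra h
    exact absurd (hmax A' ⟨hA', h⟩) (not_le.2 (card_lt_of_lt hlt))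
  have hA'1 : IsMaxEl p D₁ A' := ⟨le_inf hA'D hA'K, hA'c,
    fun A'' h1 h2 => hA'.2.2 A'' (h1.trans inf_le_left) h2⟩
  have hJ₁ : thompsonSubgroupOf p D₁ ≤ thompsonSubgroupOf p D :=
    thompsonEl_le_of fun A hA => IsMaxEl.le_thompsonEl
      ⟨hA.1.trans inf_le_left, hA.2.1, fun A'' h1 h2 =>
        (hA'.2.2 A'' h1 h2).trans (hA.2.2 A' hA'1.1 hA'c)⟩
  have hND₁J : ∀ n ∈ Subgroup.normalizer (T : Set G), ∀ h ∈ thompsonSubgroupOf p D₁,
      n⁻¹ * h * n ∈ thompsonSubgroupOf p D := fun n hn h hh => by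
    have h1 := conj_mem_thompsonEl (inv_mem (hND₁ hn)) hh
    exact hJ₁ (by simpa using h1)
  -- `B` centralises `J(D₁)`, so its elements of order `p` normalize `A₁`
  have hBJ₁ : ∀ b ∈ B, ∀ h ∈ thompsonSubgroupOf p D₁, h * b = b * h := by
    have hle : B ≤ Subgroup.centralizer (thompsonSubgroupOf p D₁ : Set G) := by
      rw [← heq, hB₁, Subgroup.normalClosure, Subgroup.closure_le]
      intro y hy
      obtain ⟨z, hz, hzy⟩ := Group.mem_conjugatesOfSet_iff.1 hy
      obtain ⟨g, rfl⟩ := _root_.isConj_iff.1 hzy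
      obtain ⟨n, hn', c, hc, rfl⟩ := hGT g
      rw [show n * c * z * (n * c)⁻¹ = n * (c * z * c⁻¹) * n⁻¹ by group, hfin z hz c hc]
      refine mem_centralizer_iff_commute.2 fun h hh => ?_
      have h1 := mem_centralizer_iff_commute.1 hz.2.2 _ (hND₁J n hn' h hh)
      calc h * (n * z * n⁻¹) = n * ((n⁻¹ * h * n) * z) * n⁻¹ := by group
        _ = n * (z * (n⁻¹ * h * n)) * n⁻¹ := by rw [h1]
        _ = n * z * n⁻¹ * h := by group
    exact fun b hb h hh => mem_centralizer_iff_commute.1 (hle hb) h hh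
  have hlow : ∀ b ∈ B, b ^ p = 1 → b ∈ Subgroup.normalizer (A₁ : Set G) := fun b hb hbp =>
    hA'N (hA'.mem_of_commute (hBD hb) hbp fun a ha => hBJ₁ b hb a (hA'1.le_thompsonEl ha))
  -- the elements of order `p` of `B`
  have hodd : p ∣ p.choose 2 := (Fact.out : p.Prime).dvd_choose_self (by norm_num)
    (lt_of_le_of_ne (Fact.out : p.Prime).two_le (Ne.symm hp))
  have hmulp : ∀ x ∈ B, ∀ y ∈ B, (x * y) ^ p = x ^ p * y ^ p := fun x hx y hy => by
    obtain ⟨j, hj⟩ := hodd
    rw [Grp.mul_pow_class_two (c := y * x * y⁻¹ * x⁻¹) (by group) (hcc y hy x hx x hx)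
      (hcc y hy x hx y hy), hj, pow_mul, hB'exp y hy x hx, one_pow, one_mul]
  let B₀ : Subgroup G :=
    { carrier := {b | b ∈ B ∧ b ^ p = 1}
      one_mem' := ⟨one_mem _, one_pow p⟩
      mul_mem' := fun {x y} hx hy => ⟨mul_mem hx.1 hy.1, by
        rw [hmulp x hx.1 y hy.1, hx.2, hy.2, mul_one]⟩
      inv_mem' := fun {x} hx => ⟨inv_mem hx.1, by rw [inv_pow, hx.2, inv_one]⟩ }
  haveI hB₀n : B₀.Normal := ⟨fun x hx g => ⟨hBn.conj_mem x hx.1 g, by
    rw [conj_pow, hx.2, mul_one, mul_inv_cancel]⟩⟩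
  set C₀ := Subgroup.centralizer (B₀ : Set G) with hC₀
  haveI : C₀.Normal := inferInstance
  haveI := Grp.pCore_isNormal (p := p) (G := G ⧸ C₀)
  set L := (pCore p (G ⧸ C₀)).comap (QuotientGroup.mk' C₀) ⊓ sectionKernel B B₀ with hL
  haveI : (B.map (QuotientGroup.mk' B₀)).Normal := hBn.map _ (QuotientGroup.mk'_surjective B₀)
  haveI : (sectionKernel B B₀).Normal := Subgroup.Normal.comap inferInstance _
  haveI : L.Normal := Subgroup.normal_inf_normal _ _
  -- `A₁` lies in `L`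
  have hAL : A₁ ≤ L := by
    intro a ha
    have haM : ∀ m ∈ M, a * m = m * a := fun m hm =>
      mem_centralizer_iff_commute.1 hm.2.2 a (hA₁.le_thompsonEl ha)
    refine ⟨hst B₀ (hBp.to_le fun x hx => hx.1) a
      (le_bot_iff.1 (Subgroup.commutator_le.2 fun u hu v hv => ?_)), ?_⟩
    · have hzA : Subgroup.zpowers a ≤ A₁ := (Subgroup.zpowers_le).2 ha
      have huA : u ∈ A₁ := by
        refine (Subgroup.commutator_le.2 (fun x hx y hy => ?_) :
          ⁅B₀, Subgroup.zpowers a⁆ ≤ A₁) hu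
        rw [commutatorElement_def]
        exact A₁.mul_mem ((Subgroup.mem_normalizer_iff.1 (hlow x hx.1 hx.2) y).1 (hzA hy))
          (A₁.inv_mem (hzA hy))
      rw [Subgroup.mem_bot, commutatorElement_eq_one_iff_mul_comm]
      exact hA₁.2.1.1 u huA v (hzA hv)
    · refine Subgroup.mem_centralizer_iff.2 ?_
      rintro _ ⟨b, hb, rfl⟩
      have h1 : ⁅b, a⁆ ∈ B₀ := by
        have hb' : a * b⁻¹ * a⁻¹ ∈ B := hBn.conj_mem _ (inv_mem hb) a
        rw [show ⁅b, a⁆ = b * (a * b⁻¹ * a⁻¹) by rw [commutatorElement_def]; group]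
        refine ⟨mul_mem hb hb', ?_⟩
        rw [hmulp b hb _ hb', conj_pow, haM _ ((inv_pow b p).symm ▸ inv_mem (hpowM b hb)),
          mul_inv_cancel_right, inv_pow, mul_inv_cancel]
      rw [← QuotientGroup.ker_mk' B₀, MonoidHom.mem_ker, map_commutatorElement,
        commutatorElement_eq_one_iff_mul_comm] at h1
      exact h1
  -- `L` acts on `B` as a `p`-group
  refine hA₁K fun a ha => ?_
  refine Grp.le_pCore (Subgroup.Normal.map inferInstance _ (QuotientGroup.mk'_surjective C)) ?_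
    (Subgroup.mem_map_of_mem (QuotientGroup.mk' C) (hAL ha))
  rintro ⟨_, g, hg, rfl⟩
  obtain ⟨k, hk⟩ := (Grp.pCore_isPGroup (p := p) (G := G ⧸ C₀)) ⟨_, hg.1⟩
  refine ⟨k + 1, Subtype.ext ?_⟩
  rw [SubmonoidClass.coe_pow, OneMemClass.coe_one, ← map_pow, ← MonoidHom.mem_ker,
    QuotientGroup.ker_mk', pow_succ, pow_mul]
  set h := g ^ p ^ k with hh
  have hh0 : h ∈ C₀ := by
    rw [← QuotientGroup.ker_mk' C₀, MonoidHom.mem_ker, hh, map_pow]
    exact congrArg Subtype.val hk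
  have hhS : h ∈ sectionKernel B B₀ := pow_mem hg.2 _
  refine mem_centralizer_iff_commute.2 fun b hb => ?_
  set e := h * b * h⁻¹ * b⁻¹ with he
  have he0 : e ∈ B₀ := by
    rw [← QuotientGroup.ker_mk' B₀, MonoidHom.mem_ker, he, ← commutatorElement_def,
      map_commutatorElement, commutatorElement_eq_one_iff_mul_comm]
    exact ((Subgroup.mem_centralizer_iff.1 hhS) _ (Subgroup.mem_map_of_mem _ hb)).symm
  have hhe : h * e * h⁻¹ = e := by
    rw [← mem_centralizer_iff_commute.1 hh0 e he0, mul_inv_cancel_right]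
  have hpow : ∀ m : ℕ, h ^ m * b * (h ^ m)⁻¹ = e ^ m * b := by
    intro m
    induction m with
    | zero => simp
    | succ m ih =>
      calc h ^ (m + 1) * b * (h ^ (m + 1))⁻¹ = h * (h ^ m * b * (h ^ m)⁻¹) * h⁻¹ := by
            rw [pow_succ']; group
        _ = (h * e ^ m * h⁻¹) * (h * b * h⁻¹) := by rw [ih]; group
        _ = e ^ m * (e * b) := by
            rw [← conj_pow, hhe, show h * b * h⁻¹ = e * b from (inv_mul_cancel_right _ _).symm]
        _ = e ^ (m + 1) * b := by rw [pow_succ]; exact (mul_assoc _ _ _).symm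
  have h1 := hpow p
  rw [he0.2, one_mul] at h1
  exact (mul_inv_eq_iff_eq_mul.1 h1).symm

/-- Glauberman's `ZJ`-theorem with respect to a strongly closed subgroup. -/
theorem centerEl_normal (hp : p ≠ 2)
    (hc : Subgroup.centralizer (pCore p G : Set G) ≤ pCore p G)
    (hst : ∀ (P : Subgroup G) [P.Normal], IsPGroup p P → IsPStableOn p P) (S : Sylow p G)
    {D : Subgroup G} (hD : IsStronglyClosed D (S : Subgroup G)) :
    (centerThompsonOf p D).Normal := by
  haveI hQn := Grp.pCore_isNormal (p := p) (G := G)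
  have hQ := Grp.pCore_isPGroup (p := p) (G := G)
  have hle : centerThompsonOf p D ≤ pCore p G := by
    intro z hz
    have hq := hst (pCore p G) hQ z (le_bot_iff.1 (Subgroup.commutator_le.2 fun u hu v hv => ?_))
    · set C := Subgroup.centralizer (pCore p G : Set G)
      haveI := Grp.pCore_isNormal (p := p) (G := G ⧸ C)
      have hKp : IsPGroup p ((pCore p (G ⧸ C)).comap (QuotientGroup.mk' C)) :=
        Grp.pCore_isPGroup.comap_of_ker_isPGroup _ (by
          rw [QuotientGroup.ker_mk']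
          exact hQ.to_le hc)
      exact Grp.le_pCore inferInstance hKp hq
    · have hzZ : Subgroup.zpowers z ≤ centerThompsonOf p D := (Subgroup.zpowers_le).2 hz
      have huZ : u ∈ centerThompsonOf p D := by
        refine (Subgroup.commutator_le.2 (fun x hx y hy => ?_) :
          ⁅pCore p G, Subgroup.zpowers z⁆ ≤ centerThompsonOf p D) hu
        rw [commutatorElement_def]
        refine mul_mem (conj_mem_centerEl ?_ (hzZ hy)) (inv_mem (hzZ hy))
        have hxS : x ∈ (S : Subgroup G) := Grp.pCore_le_sylow S hx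
        refine mem_normalizer_of_forall (fun d hd => hD.2 d hd x
          (S.mul_mem (S.mul_mem hxS (hD.1 hd)) (S.inv_mem hxS))) fun d hd => ?_
        have := hD.2 d hd x⁻¹ (S.mul_mem (S.mul_mem (S.inv_mem hxS) (hD.1 hd))
          (S.inv_mem (S.inv_mem hxS)))
        simpa using this
      rw [Subgroup.mem_bot, commutatorElement_eq_one_iff_mul_comm]
      exact mem_centralizer_iff_commute.1 (hzZ hv).2 u huZ.1
  have h := inf_centerEl_normal hp hst S hD (pCore p G) hQn hQ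
  rwa [inf_eq_right.2 hle] at h


end Cfsg.Agent.Invol
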