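import Cfsg.Agent.Lib.Invol.StronglyClosedControl
import Cfsg.Agent.Lib.Invol.ZJCenter

/-!
The three functors `Z(J(R))`, `Z(J_e(R))`, `Ω₁Z(J_e(R))` and their control of strong fusion.
-/

set_option autoImplicit false
set_option linter.style.haveILetI false
set_option linter.unusedSectionVars false

open scoped Classical commutatorElement

namespace Cfsg.Agent.Invol

open Subgroup Fus

universe u

/-- The properties of the functor `R ↦ Z(J(R))` used in the arguments. -/
structure IsZJFunctor (p : ℕ) [Fact p.Prime]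
    (W : ∀ (G : Type u) [Group G], Subgroup G → Subgroup G) : Prop where
  le : ∀ {G : Type u} [Group G] [Finite G] (R : Subgroup G), W G R ≤ R
  map : ∀ {G H : Type u} [Group G] [Finite G] [Group H] [Finite H] (f : G →* H) (R : Subgroup G),
    (∀ x ∈ R, f x = 1 → x = 1) → (W G R).map f = W H (R.map f)
  ne_bot : ∀ {G : Type u} [Group G] [Finite G] {R : Subgroup G}, IsPGroup p R → R ≠ ⊥ → W G R ≠ ⊥
  normalizer_le : ∀ {G : Type u} [Group G] [Finite G] (R : Subgroup G),
    Subgroup.normalizer (R : Set G) ≤ Subgroup.normalizer (W G R : Set G)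
  normal : ∀ {G : Type u} [Group G] [Finite G], p ≠ 2 →
    Subgroup.centralizer (pCore p G : Set G) ≤ pCore p G →
    (∀ (V : Subgroup G) [V.Normal], IsPGroup p V → IsPStableOn p V) →
    ∀ (S : Sylow p G) {D : Subgroup G}, IsStronglyClosed D (S : Subgroup G) → (W G D).Normal

variable {p : ℕ} [Fact p.Prime]

theorem centerEl_map {G H : Type*} [Group G] [Finite G] [Group H] (f : G →* H) (R : Subgroup G)
    (hinj : ∀ x ∈ R, f x = 1 → x = 1) :
    (centerThompsonOf p R).map f = centerThompsonOf p (R.map f) := by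
  have hJ := thompsonEl_map f (n := p) hinj
  have hJR : thompsonSubgroupOf p R ≤ R := thompsonEl_le R
  have hinj2 : ∀ a ∈ R, ∀ b ∈ R, f a = f b → a = b := fun a ha b hb h =>
    mul_inv_eq_one.1 (hinj _ (R.mul_mem ha (R.inv_mem hb)) (by rw [map_mul, map_inv, h, mul_inv_cancel]))
  ext y
  constructor
  · rintro ⟨x, ⟨h0, h1⟩, rfl⟩
    refine ⟨hJ ▸ ⟨x, h0, rfl⟩, ?_⟩
    rw [← hJ]
    rintro _ ⟨h, hh, rfl⟩
    rw [← map_mul, ← map_mul, mem_centralizer_iff_commute.1 h1 h hh]
  · rintro ⟨h0, h1⟩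
    obtain ⟨x, hx, rfl⟩ : y ∈ (thompsonSubgroupOf p R).map f := hJ ▸ h0
    refine ⟨x, ⟨hx, mem_centralizer_iff_commute.2 fun h hh => ?_⟩, rfl⟩
    refine hinj2 _ (R.mul_mem (hJR hh) (hJR hx)) _ (R.mul_mem (hJR hx) (hJR hh)) ?_
    rw [map_mul, map_mul]
    exact mem_centralizer_iff_commute.1 h1 _ (hJ ▸ ⟨h, hh, rfl⟩)

theorem isZJFunctor_centerThompsonA :
    IsZJFunctor.{u} p (fun _ [Group _] R => centerThompsonAOf R) where
  le R := centerOmega_zero R ▸ centerOmega_le R
  map f R h := by simp only [← centerOmega_zero]; exact centerOmega_map f h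
  ne_bot hR h := by simp only [← centerOmega_zero]; exact centerOmega_ne_bot (Or.inl rfl) hR h
  normalizer_le R := by simp only [← centerOmega_zero]; exact normalizer_le_centerOmega R
  normal hp hc hst S _ hD := Fus.centerThompsonA_normal hp hc hst S hD

theorem isZJFunctor_centerOmega :
    IsZJFunctor.{u} p (fun _ [Group _] R => omegaOne p (centerThompsonOf p R)) where
  le R := centerOmega_le R
  map f R h := centerOmega_map f h
  ne_bot hR h := centerOmega_ne_bot (Or.inr rfl) hR h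
  normalizer_le R := normalizer_le_centerOmega R
  normal hp hc hst S _ hD := centerOmega_normal hp hc hst S hD

theorem isZJFunctor_centerEl :
    IsZJFunctor.{u} p (fun _ [Group _] R => centerThompsonOf p R) where
  le R := centerEl_le R
  map f R h := centerEl_map f R h
  ne_bot {_ _ _ R} hR h h0 := centerOmega_ne_bot (Or.inr rfl) hR h
    (le_bot_iff.1 fun x hx => h0 ▸ (mem_centerOmega.1 hx).1)
  normalizer_le R := normalizer_le_centerEl R
  normal hp hc hst S _ hD := centerEl_normal hp hc hst S hD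

variable {G : Type u} [Group G] [Finite G]

/-- The local step: in a group whose quotient by a normal `p'`-subgroup is constrained and stable, the
normalizer of `Ω₁Z(J_e(D))` (or `Z(J(D))`) controls strong fusion. -/
theorem zj_local_step {H : Type u} [Group H] [Finite H] (hp : p ≠ 2) {W : ∀ (G : Type u) [Group G], Subgroup G → Subgroup G} (hW : IsZJFunctor p W)
    (O : Subgroup H) [O.Normal] (hO : (Nat.card O).Coprime p)
    (hc : Subgroup.centralizer (pCore p (H ⧸ O) : Set (H ⧸ O)) ≤ pCore p (H ⧸ O))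
    (hst : ∀ (V : Subgroup (H ⧸ O)) [V.Normal], IsPGroup p V → IsPStableOn p V)
    (T : Sylow p H) {D : Subgroup H} (hD : IsStronglyClosed D (T : Subgroup H))
    {A : Set H} (hA : A ⊆ (T : Subgroup H)) {g : H}
    (hg : ∀ a ∈ A, g * a * g⁻¹ ∈ (T : Subgroup H)) :
    ∃ m ∈ Subgroup.normalizer (W H D : Set H), ∀ a ∈ A, m * a * m⁻¹ = g * a * g⁻¹ := by
  set f := QuotientGroup.mk' O with hf
  have hfs : Function.Surjective f := QuotientGroup.mk'_surjective O
  have hinj : ∀ x ∈ D, f x = 1 → x = 1 := fun x hx hfx =>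
    eq_one_of_coprime_of_mem T.isPGroup' (hD.1 hx)
      (hO.coprime_dvd_left (O.orderOf_dvd_natCard ((QuotientGroup.eq_one_iff x).mp hfx)))
  have hD' : IsStronglyClosed (D.map f) ((T.mapSurjective hfs : Sylow p (H ⧸ O)) : Subgroup (H ⧸ O)) :=
    stronglyClosed_map O T hD
  refine control_of_map_normal O hO T
    ((sylow_le_normalizer_stronglyClosed hD).trans (hW.normalizer_le D))
    ((hW.le D).trans hD.1) ?_ hA hg
  rw [hW.map f D hinj]
  exact hW.normal hp hc hst (T.mapSurjective hfs) hD'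

/-- The local step in a subgroup of the ambient group. -/
theorem zj_local_step_in (hp : p ≠ 2) {W : ∀ (G : Type u) [Group G], Subgroup G → Subgroup G} (hW : IsZJFunctor p W) {H : Subgroup G}
    (hc : Subgroup.centralizer (pCore p (H ⧸ pPrimeCore p H) : Set (H ⧸ pPrimeCore p H)) ≤
      pCore p (H ⧸ pPrimeCore p H))
    (hst : ∀ (V : Subgroup (H ⧸ pPrimeCore p H)) [V.Normal], IsPGroup p V → IsPStableOn p V)
    {T : Subgroup G} (hT : Grp.IsSylowIn p T H) {D : Subgroup G} (hDT : D ≤ T)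
    (hD : ∀ x ∈ D, ∀ h ∈ H, h * x * h⁻¹ ∈ T → h * x * h⁻¹ ∈ D)
    {A : Set G} (hA : A ⊆ T) {g : G} (hgH : g ∈ H) (hg : ∀ a ∈ A, g * a * g⁻¹ ∈ T) :
    ∃ m ∈ H, m ∈ Subgroup.normalizer (W G D : Set G) ∧
      ∀ a ∈ A, m * a * m⁻¹ = g * a * g⁻¹ := by
  obtain ⟨S, hS⟩ := Grp.isSylowIn_iff.mp hT
  have hmem : ∀ x : H, x ∈ (S : Subgroup H) ↔ (x : G) ∈ T := fun x => by
    rw [← hS]
    exact ⟨fun h => ⟨x, h, rfl⟩, fun ⟨y, hy, e⟩ => Subtype.ext e ▸ hy⟩
  have hD' : IsStronglyClosed (D.subgroupOf H) (S : Subgroup H) :=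
    ⟨fun x hx => (hmem x).2 (hDT hx), fun x hx h hy => hD x hx h h.2 ((hmem _).1 hy)⟩
  obtain ⟨m, hm, he⟩ := zj_local_step hp hW (pPrimeCore p H)
    (hO := Grp.pPrimeCore_coprime) hc hst S hD' (A := H.subtype ⁻¹' A)
    (fun x hx => (hmem x).2 (hA hx)) (g := ⟨g, hgH⟩) fun x hx => (hmem _).2 (hg _ hx)
  refine ⟨m, m.2, ?_, fun a ha => congrArg Subtype.val (he ⟨a, hT.1 (hA ha)⟩ ha)⟩
  have h1 := Subgroup.le_normalizer_map H.subtype ⟨m, hm, rfl⟩
  rwa [hW.map H.subtype _ (fun x _ hx => Subtype.ext hx), Subgroup.subgroupOf_map_subtype,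
    inf_eq_left.2 (hDT.trans hT.1)] at h1

/-- If all normalizers of nontrivial `p`-subgroups are constrained and `G` is stable, the centres
control strong fusion. -/
theorem zj_control_of_constrained (hp : p ≠ 2) {W : ∀ (G : Type u) [Group G], Subgroup G → Subgroup G} (hW : IsZJFunctor p W)
    (hst : IsNormalizerPStable p G) (P : Sylow p G)
    (hc : ∀ U : Subgroup G, U ≤ (P : Subgroup G) → U ≠ ⊥ →
      IsPConstrained p ↥(Subgroup.normalizer (U : Set G)))
    {D : Subgroup G} (hD : IsStronglyClosed D (P : Subgroup G))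
    {A : Set G} (hA : A ⊆ (P : Subgroup G)) {g : G} (hg : ∀ a ∈ A, g * a * g⁻¹ ∈ (P : Subgroup G)) :
    ∃ x ∈ Subgroup.normalizer (W G D : Set G), ∀ a ∈ A, x * a * x⁻¹ = g * a * g⁻¹ := by
  rcases eq_or_ne D ⊥ with rfl | hD1
  · refine ⟨g, ?_, fun _ _ => rfl⟩
    have : W G (⊥ : Subgroup G) = ⊥ := le_bot_iff.1 (hW.le _)
    rw [this]
    exact Subgroup.normalizer_eq_top (⊥ : Subgroup G) ▸ Subgroup.mem_top g
  have hcen : ∃ z ∈ D, z ≠ 1 ∧ ∀ s ∈ (P : Subgroup G), z * s = s * z := by
    haveI : Finite (P : Subgroup G) := inferInstance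
    haveI hDn : (D.subgroupOf (P : Subgroup G)).Normal :=
      (Subgroup.normal_subgroupOf_iff_le_normalizer hD.1).2 (sylow_le_normalizer_stronglyClosed hD)
    haveI : Group.IsNilpotent (P : Subgroup G) := P.isPGroup'.isNilpotent
    have hne : D.subgroupOf (P : Subgroup G) ≠ ⊥ := fun h => hD1 (le_bot_iff.1 fun x hx => by
      have : (⟨x, hD.1 hx⟩ : (P : Subgroup G)) ∈ D.subgroupOf (P : Subgroup G) := hx
      rw [h, Subgroup.mem_bot] at this
      exact congrArg Subtype.val this)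
    obtain ⟨z, ⟨hzD, hzc⟩, hz1⟩ := (Subgroup.bot_or_exists_ne_one _).resolve_left
      (Grp.inf_center_ne_bot _ hne)
    exact ⟨z, hzD, fun h => hz1 (Subtype.ext h),
      fun s hs => (congrArg Subtype.val (Subgroup.mem_center_iff.1 hzc ⟨s, hs⟩)).symm⟩
  obtain ⟨z, hzD, hz1, hzc⟩ := hcen
  have h := control_of_local_steps P (fun T => W G (D ⊓ T))
    (fun T _ => (hW.le _).trans inf_le_right)
    (fun T hT hZ => hW.ne_bot (P.isPGroup'.to_le (inf_le_left.trans hD.1))
      fun h => hz1 (Subgroup.mem_bot.1 (h ▸ ⟨hzD, hZ z (hD.1 hzD) hzc⟩)))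
    (fun T _ s hs => (hW.normalizer_le _)
      (Subgroup.mem_normalizer_iff.2 fun x =>
        and_congr (Subgroup.mem_normalizer_iff.1 (sylow_le_normalizer_stronglyClosed hD hs.1) x)
          (Subgroup.mem_normalizer_iff.1 hs.2 x)))
    (fun U hU hU1 g hg A hA hgA => by
      exact zj_local_step_in hp hW (Transfer.Transitivity.centralizer_pCore_quotient (hc U hU.1 hU1))
        (fun V _ hV => isPStableOn_quotient hst _ _ Grp.pPrimeCore_coprime V hV) hU.2
        inf_le_right (fun x hx h _ hy => ⟨hD.2 x hx.1 h hy.1, hy⟩) hA hg hgA) hA hg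
  simpa [inf_eq_left.2 hD.1] using h

/-- In a `Qd(p)`-free group, the centres control strong fusion. -/
theorem zj_control_of_free (hp : p ≠ 2) {W : ∀ (G : Type u) [Group G], Subgroup G → Subgroup G} (hW : IsZJFunctor p W)
    (hfree : ¬ Involves ↥(qd p) G) (P : Sylow p G)
    {D : Subgroup G} (hD : IsStronglyClosed D (P : Subgroup G))
    {A : Set G} (hA : A ⊆ (P : Subgroup G)) {g : G} (hg : ∀ a ∈ A, g * a * g⁻¹ ∈ (P : Subgroup G)) :
    ∃ x ∈ Subgroup.normalizer (W G D : Set G), ∀ a ∈ A, x * a * x⁻¹ = g * a * g⁻¹ := by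
  obtain ⟨y, hy, hye⟩ := control_kInf_of_free hp hfree P hA hg
  set U := inducedFunctor kInfLower (P : Subgroup G) with hU
  have hUP : U ≤ (P : Subgroup G) := inducedFunctor_le _ _
  have hK : IsCharPFunctor.{u} p (fun Q [Group Q] => kInfLower Q) := KInf.isCharPFunctor_kInfLower p
  have hPN : (P : Subgroup G) ≤ Subgroup.normalizer (U : Set G) :=
    Subgroup.le_normalizer.trans (normalizer_le_normalizer_inducedFunctor hK P.isPGroup')
  set H := Subgroup.normalizer (U : Set G) with hH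
  have hT : Grp.IsSylowIn p (P : Subgroup G) H :=
    ⟨hPN, P.isPGroup', fun hd =>
      P.not_dvd_index (hd.trans (Subgroup.relIndex_dvd_index_of_le hPN))⟩
  let SH : Sylow p H := (P.isPGroup'.comap_subtype (K := H)).toSylow fun hd =>
    P.not_dvd_index (hd.trans (Subgroup.relIndex_dvd_index_of_le hPN))
  haveI : (U.subgroupOf H).Normal := Subgroup.normal_in_normalizer
  haveI : Group.IsNilpotent (P : Subgroup G) := P.isPGroup'.isNilpotent
  have hc := centralizer_pCore_quotient_of_selfCentralizing SH (U.subgroupOf H)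
    (fun x hx => hUP hx) fun x hx => by
      have h2 : (⟨(x : G), hx.1⟩ : (P : Subgroup G)) ∈
          Subgroup.centralizer (kInfLower (P : Subgroup G) : Set (P : Subgroup G)) := by
        refine Subgroup.mem_centralizer_iff.2 fun q hq => Subtype.ext ?_
        have hqU : (q : G) ∈ U := ⟨q, hq, rfl⟩
        have h3 := congrArg Subtype.val (Subgroup.mem_centralizer_iff.1 hx.2
          ⟨(q : G), hPN (hUP hqU)⟩ hqU)
        simpa using h3
      exact ⟨_, KInf.centralizer_kInf_le.1 h2, rfl⟩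
  have hst : ∀ (V : Subgroup (H ⧸ pPrimeCore p H)) [V.Normal], IsPGroup p V → IsPStableOn p V :=
    fun V _ hV => Grp.Quad.isPStableOn_of_free hp (fun h => hfree
      ((isSectionOf_of_involves h).trans ((IsSectionOf.of_surjective _
        (QuotientGroup.mk'_surjective _)).trans (IsSectionOf.of_subgroup H))).involves) V hV
  obtain ⟨m, -, hm, he⟩ := zj_local_step_in hp hW hc hst hT hD.1 (fun x hx h _ hy => hD.2 x hx h hy)
    hA hy (fun a ha => by rw [hye a ha]; exact hg a ha)
  exact ⟨m, hm, fun a ha => (he a ha).trans (hye a ha)⟩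

end Cfsg.Agent.Invol
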