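import Mathlib
import Cfsg.Prelude.Def_LocalEven
import Cfsg.Prelude.Def_ConjugacyFunctors

/-!
# Sections, and functors on `p`-groups under maps
-/

set_option autoImplicit false

namespace Cfsg.Agent.Invol

universe u v w

/-- `X` is a section of `G`: an image of a subgroup of `G`. -/
def IsSectionOf (X : Type u) [Group X] (G : Type v) [Group G] : Prop :=
  ∃ (H : Subgroup G) (f : H →* X), Function.Surjective f

theorem IsSectionOf.refl (G : Type v) [Group G] : IsSectionOf G G :=
  ⟨⊤, (Subgroup.topEquiv (G := G)).toMonoidHom, fun x => ⟨⟨x, Subgroup.mem_top x⟩, rfl⟩⟩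

theorem IsSectionOf.of_subgroup {G : Type v} [Group G] (H : Subgroup G) : IsSectionOf H G :=
  ⟨H, MonoidHom.id H, Function.surjective_id⟩

theorem IsSectionOf.of_surjective {G : Type v} [Group G] {X : Type u} [Group X] (f : G →* X)
    (hf : Function.Surjective f) : IsSectionOf X G :=
  ⟨⊤, f.comp (Subgroup.topEquiv (G := G)).toMonoidHom,
    hf.comp fun x => ⟨⟨x, Subgroup.mem_top x⟩, rfl⟩⟩

theorem IsSectionOf.trans {G : Type v} [Group G] {X : Type u} [Group X] {Y : Type w} [Group Y]
    (hX : IsSectionOf X Y) (hY : IsSectionOf Y G) : IsSectionOf X G := by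
  obtain ⟨H, g, hg⟩ := hY
  obtain ⟨L, f, hf⟩ := hX
  let L' : Subgroup G := (L.comap g).map H.subtype
  let e : L.comap g ≃* L' := (L.comap g).equivMapOfInjective H.subtype H.subtype_injective
  refine ⟨L', (f.comp (g.subgroupComap L)).comp e.symm.toMonoidHom, ?_⟩
  refine (hf.comp ?_).comp e.symm.surjective
  rintro ⟨y, hy⟩
  obtain ⟨x, rfl⟩ := hg y
  exact ⟨⟨x, hy⟩, rfl⟩

theorem IsSectionOf.exists_quotient {G : Type v} [Group G] {X : Type u} [Group X]
    (hX : IsSectionOf X G) :
    ∃ (K R : Subgroup G) (_ : (R.subgroupOf K).Normal), Nonempty (K ⧸ R.subgroupOf K ≃* X) := by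
  obtain ⟨H, f, hf⟩ := hX
  have he : (f.ker.map H.subtype).subgroupOf H = f.ker :=
    Subgroup.comap_map_eq_self_of_injective H.subtype_injective _
  have hn : ((f.ker.map H.subtype).subgroupOf H).Normal := he.symm ▸ f.normal_ker
  exact ⟨H, _, hn, ⟨(QuotientGroup.quotientMulEquivOfEq he).trans
    (QuotientGroup.quotientKerEquivOfSurjective f hf)⟩⟩

theorem IsSectionOf.involves {G : Type v} [Group G] {X : Type u} [Group X]
    (hX : IsSectionOf X G) : Cfsg.Involves X G :=
  hX.exists_quotient

variable {p : ℕ} {W : ∀ (Q : Type u) [Group Q], Subgroup Q}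

theorem inducedFunctor_le {G : Type u} [Group G] (W : ∀ (Q : Type u) [Group Q], Subgroup Q)
    (P : Subgroup G) : Cfsg.inducedFunctor W P ≤ P :=
  Subgroup.map_subtype_le _

/-- `W` commutes with homomorphisms injective on the `p`-group. -/
theorem inducedFunctor_map (hW : Cfsg.IsCharPFunctor.{u} p W) {G G' : Type u} [Group G] [Group G']
    {P : Subgroup G} [Finite P] (hP : IsPGroup p P) (f : G →* G')
    (hf : ∀ x ∈ P, f x = 1 → x = 1) :
    Cfsg.inducedFunctor W (P.map f) = (Cfsg.inducedFunctor W P).map f := by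
  have hinj : Function.Injective (f.subgroupMap P) := by
    rw [injective_iff_map_eq_one]
    intro x hx
    exact Subtype.ext (hf x x.2 (congrArg Subtype.val hx))
  let e : P ≃* P.map f := MulEquiv.ofBijective (f.subgroupMap P) ⟨hinj, f.subgroupMap_surjective P⟩
  unfold Cfsg.inducedFunctor
  rw [← hW.2 P (P.map f) hP e, Subgroup.map_map, Subgroup.map_map]
  rfl

theorem inducedFunctor_ne_bot (hW : Cfsg.IsCharPFunctor.{u} p W) {G : Type u} [Group G] [Finite G]
    {P : Subgroup G} (hP : IsPGroup p P) (hne : P ≠ ⊥) : Cfsg.inducedFunctor W P ≠ ⊥ := by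
  rw [Cfsg.inducedFunctor, ne_eq, Subgroup.map_eq_bot_iff_of_injective _ P.subtype_injective]
  exact hW.1 P hP ((Subgroup.nontrivial_iff_ne_bot P).mpr hne)

/-- The normalizer of a `p`-subgroup normalizes the value of `W` on it. -/
theorem normalizer_le_normalizer_inducedFunctor (hW : Cfsg.IsCharPFunctor.{u} p W) {G : Type u}
    [Group G] [Finite G] {P : Subgroup G} (hP : IsPGroup p P) :
    Subgroup.normalizer (P : Set G) ≤
      Subgroup.normalizer (Cfsg.inducedFunctor W P : Set G) := by
  intro g hg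
  have hmap : P.map (MulAut.conj g).toMonoidHom = P := by
    ext x
    rw [Subgroup.mem_map]
    constructor
    · rintro ⟨y, hy, rfl⟩
      exact (Subgroup.mem_normalizer_iff.mp hg y).mp hy
    · intro hx
      exact ⟨g⁻¹ * x * g, (Subgroup.mem_normalizer_iff''.mp hg x).mp hx, by simp [mul_assoc]⟩
  have h := inducedFunctor_map hW hP (MulAut.conj g).toMonoidHom
    (fun x _ hx => (MulAut.conj g).injective (hx.trans (map_one _).symm))
  rw [hmap] at h
  rw [Subgroup.mem_normalizer_iff]
  intro x
  constructor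
  · intro hx
    rw [h]
    exact ⟨x, hx, rfl⟩
  · intro hx
    obtain ⟨y, hy, he⟩ := h.le hx
    rwa [← (MulAut.conj g).injective he]

theorem inducedFunctor_conj (hW : Cfsg.IsCharPFunctor.{u} p W) {G : Type u} [Group G] [Finite G]
    {P : Subgroup G} (hP : IsPGroup p P) (g : G) :
    Cfsg.inducedFunctor W (P.map (MulAut.conj g).toMonoidHom) =
      (Cfsg.inducedFunctor W P).map (MulAut.conj g).toMonoidHom :=
  inducedFunctor_map hW hP _ fun _ _ hx => (MulAut.conj g).injective (hx.trans (map_one _).symm)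

end Cfsg.Agent.Invol
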