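import Mathlib
import Cfsg.Prelude.Def_PLocal
import Cfsg.Prelude.Def_ConjugacyFunctors
import Cfsg.Agent.Lib.Invol.Section
import Cfsg.Agent.Lib.Grp.Frattini

/-!
# Glauberman's K-infinity subgroups
-/

set_option autoImplicit false

namespace Cfsg.Agent.Invol.KInf

universe u

open Subgroup (map subtype)

variable {P : Type*} [Group P]

open scoped commutatorElement

/-- The centre of a subgroup, as a subgroup. -/
def zen (B : Subgroup P) : Subgroup P := B ⊓ Subgroup.centralizer (B : Set P)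

theorem zen_def (B : Subgroup P) : B ⊓ Subgroup.centralizer (B : Set P) = zen B := rfl

theorem zen_le (B : Subgroup P) : zen B ≤ B := inf_le_left

theorem zen_le_centralizer (B : Subgroup P) : zen B ≤ Subgroup.centralizer (B : Set P) := inf_le_right

theorem zen_commutator (B : Subgroup P) : ⁅zen B, B⁆ = ⊥ :=
  Subgroup.commutator_eq_bot_iff_le_centralizer.mpr (zen_le_centralizer B)

theorem zen_abelian (B : Subgroup P) : ⁅zen B, zen B⁆ = ⊥ :=
  le_bot_iff.mp ((Subgroup.commutator_mono le_rfl (zen_le B)).trans (zen_commutator B).le)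

theorem zen_normal (B : Subgroup P) [B.Normal] : (zen B).Normal :=
  Subgroup.normal_inf_normal _ _

theorem commutator_le_left_of_le_normalizer {A B : Subgroup P}
    (h : B ≤ Subgroup.normalizer (A : Set P)) : ⁅A, B⁆ ≤ A := by
  rw [Subgroup.commutator_le]
  intro a ha b hb
  have h1 : b * a⁻¹ * b⁻¹ ∈ A := (Subgroup.mem_normalizer_iff.mp (h hb) a⁻¹).mp (A.inv_mem ha)
  have := A.mul_mem ha h1
  simpa [commutatorElement_def, mul_assoc] using this

theorem commutator_le_right_of_le_normalizer {A B : Subgroup P}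
    (h : A ≤ Subgroup.normalizer (B : Set P)) : ⁅A, B⁆ ≤ B :=
  (Subgroup.commutator_comm A B).trans_le (commutator_le_left_of_le_normalizer h)

theorem mem_classTwo_of_abelian {A : Subgroup P} (hA : ⁅A, A⁆ = ⊥) :
    A ∈ Cfsg.classTwoSubgroups P := by
  change ⁅A, A⁆ ≤ _
  rw [hA]
  exact bot_le

theorem upper_anti {R R' : Subgroup P} (h : R ≤ R') :
    Cfsg.kUpperStarFamily R' ⊆ Cfsg.kUpperStarFamily R :=
  fun _ hB => ⟨hB.1, (Subgroup.commutator_mono le_rfl h).trans hB.2⟩

theorem lower_anti {R R' : Subgroup P} (h : R ≤ R') :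
    Cfsg.kLowerStarFamily R' ⊆ Cfsg.kLowerStarFamily R :=
  fun _ hB => ⟨hB.1, h.trans hB.2.1, fun A hA hAR => hB.2.2 A hA (hAR.trans h)⟩

theorem kSeqOdd_succ (n : ℕ) :
    Cfsg.kSeqOdd P (n + 1) = sSup (Cfsg.kUpperStarFamily (Cfsg.kSeqEven P n)) := rfl

theorem kSeqEven_eq (n : ℕ) :
    Cfsg.kSeqEven P n = sSup (Cfsg.kLowerStarFamily (Cfsg.kSeqOdd P n)) := rfl

theorem kSeqEven_mono_of {n m : ℕ} (h : Cfsg.kSeqOdd P m ≤ Cfsg.kSeqOdd P n) :
    Cfsg.kSeqEven P n ≤ Cfsg.kSeqEven P m :=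
  sSup_le_sSup (lower_anti h)

theorem kSeqOdd_succ_le (n : ℕ) : Cfsg.kSeqOdd P (n + 1) ≤ Cfsg.kSeqOdd P n := by
  induction n with
  | zero => exact le_top
  | succ n ih => exact sSup_le_sSup (upper_anti (kSeqEven_mono_of ih))

theorem kSeqEven_le_succ (n : ℕ) : Cfsg.kSeqEven P n ≤ Cfsg.kSeqEven P (n + 1) :=
  kSeqEven_mono_of (kSeqOdd_succ_le n)

theorem kSeqOdd_antitone : Antitone (Cfsg.kSeqOdd P) := antitone_nat_of_succ_le kSeqOdd_succ_le

theorem kSeqEven_monotone : Monotone (Cfsg.kSeqEven P) := monotone_nat_of_le_succ kSeqEven_le_succ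

/-- The sequences become stationary. -/
theorem exists_stationary [Finite P] :
    ∃ n : ℕ, ∀ m, n ≤ m →
      Cfsg.kSeqEven P m = Cfsg.kInfLower P ∧ Cfsg.kSeqOdd P m = Cfsg.kInfUpper P := by
  obtain ⟨_, ⟨a, rfl⟩, ha⟩ := Set.exists_max_image (Set.range (Cfsg.kSeqEven P))
    (fun A => Nat.card A) (Set.toFinite _) (Set.range_nonempty _)
  obtain ⟨_, ⟨b, rfl⟩, hb⟩ := Set.exists_min_image (Set.range (Cfsg.kSeqOdd P))
    (fun A => Nat.card A) (Set.toFinite _) (Set.range_nonempty _)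
  have h1 : ∀ i j, a ≤ i → Cfsg.kSeqEven P j ≤ Cfsg.kSeqEven P i := by
    intro i j hi
    have he := Subgroup.eq_of_le_of_card_ge
      (kSeqEven_monotone (hi.trans (le_max_left i j))) (ha _ ⟨_, rfl⟩)
    exact (kSeqEven_monotone (le_max_right i j)).trans (he.ge.trans (kSeqEven_monotone hi))
  have h2 : ∀ i j, b ≤ i → Cfsg.kSeqOdd P i ≤ Cfsg.kSeqOdd P j := by
    intro i j hi
    have he := Subgroup.eq_of_le_of_card_ge
      (kSeqOdd_antitone (hi.trans (le_max_left i j))) (hb _ ⟨_, rfl⟩)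
    exact (kSeqOdd_antitone hi).trans (he.ge.trans (kSeqOdd_antitone (le_max_right i j)))
  exact ⟨max a b, fun m hm =>
    ⟨le_antisymm (le_iSup _ m) (iSup_le fun j => h1 m j ((le_max_left a b).trans hm)),
      le_antisymm (le_iInf fun j => h2 m j ((le_max_right a b).trans hm)) (iInf_le _ m)⟩⟩

/-- Abelian normal subgroups lie in every family. -/
theorem abelian_normal_mem {A : Subgroup P} [A.Normal] (hA : ⁅A, A⁆ = ⊥) (R : Subgroup P) :
    A ∈ Cfsg.kLowerStarFamily R ∧ A ∈ Cfsg.kUpperStarFamily R := by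
  have hz : A ≤ A ⊓ Subgroup.centralizer (A : Set P) :=
    le_inf le_rfl (Subgroup.commutator_eq_bot_iff_le_centralizer.mp hA)
  refine ⟨⟨mem_classTwo_of_abelian hA, ?_, fun A' _ _ _ _ _ => ?_⟩,
    ⟨mem_classTwo_of_abelian hA, ?_⟩⟩
  · rw [Subgroup.normalizer_eq_top]; exact le_top
  · exact (Subgroup.commutator_le_left A A').trans hz
  · exact (Subgroup.commutator_le_left A R).trans hz

theorem abelian_normal_le {A : Subgroup P} [A.Normal] (hA : ⁅A, A⁆ = ⊥) (n : ℕ) :
    A ≤ Cfsg.kSeqEven P n ∧ A ≤ Cfsg.kSeqOdd P n := by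
  refine ⟨le_sSup (abelian_normal_mem hA _).1, ?_⟩
  cases n with
  | zero => exact le_top
  | succ n => exact le_sSup (abelian_normal_mem hA _).2

theorem abelian_normal_le_kInf {A : Subgroup P} [A.Normal] (hA : ⁅A, A⁆ = ⊥) :
    A ≤ Cfsg.kInfLower P ∧ A ≤ Cfsg.kInfUpper P :=
  ⟨le_iSup_of_le 0 (abelian_normal_le hA 0).1, le_iInf fun n => (abelian_normal_le hA n).2⟩

theorem center_le_kInf : Subgroup.center P ≤ Cfsg.kInfLower P ∧ Subgroup.center P ≤ Cfsg.kInfUpper P :=
  abelian_normal_le_kInf (Subgroup.commutator_eq_bot_iff_le_centralizer.mpr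
    (Subgroup.center_le_centralizer _))

/-! ### Behaviour under injective maps -/

variable {X : Type*} [Group X] {f : X →* P}

theorem map_zen (hf : Function.Injective f) (B : Subgroup X) :
    (zen B).map f = zen (B.map f) := by
  refine le_antisymm ?_ ?_
  · rintro _ ⟨x, ⟨hx, hc⟩, rfl⟩
    refine ⟨⟨x, hx, rfl⟩, Subgroup.mem_centralizer_iff.mpr ?_⟩
    rintro _ ⟨y, hy, rfl⟩
    rw [← map_mul, ← map_mul, Subgroup.mem_centralizer_iff.mp hc y hy]
  · rintro _ ⟨⟨x, hx, rfl⟩, hc⟩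
    refine ⟨x, ⟨hx, Subgroup.mem_centralizer_iff.mpr fun y hy => hf ?_⟩, rfl⟩
    rw [map_mul, map_mul]
    exact Subgroup.mem_centralizer_iff.mp hc _ ⟨y, hy, rfl⟩

theorem map_classTwo (hf : Function.Injective f) (B : Subgroup X) :
    B.map f ∈ Cfsg.classTwoSubgroups P ↔ B ∈ Cfsg.classTwoSubgroups X := by
  change ⁅B.map f, B.map f⁆ ≤ Subgroup.centralizer (B.map f : Set P) ↔
    ⁅B, B⁆ ≤ Subgroup.centralizer (B : Set X)
  rw [← Subgroup.commutator_eq_bot_iff_le_centralizer,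
    ← Subgroup.commutator_eq_bot_iff_le_centralizer, ← Subgroup.map_commutator,
    ← Subgroup.map_commutator, Subgroup.map_eq_bot_iff_of_injective _ hf]

theorem map_le_normalizer (hf : Function.Injective f) (A B : Subgroup X) :
    A.map f ≤ Subgroup.normalizer (B.map f : Set P) ↔ A ≤ Subgroup.normalizer (B : Set X) := by
  constructor
  · intro h a ha
    refine Subgroup.mem_normalizer_iff.mpr fun b => ?_
    have := Subgroup.mem_normalizer_iff.mp (h ⟨a, ha, rfl⟩) (f b)
    rwa [← map_inv, ← map_mul, ← map_mul, Subgroup.mem_map_iff_mem hf,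
      Subgroup.mem_map_iff_mem hf] at this
  · intro h
    exact (Subgroup.map_mono h).trans (Subgroup.le_normalizer_map f)

theorem map_upper (hf : Function.Injective f) (B R : Subgroup X) :
    B.map f ∈ Cfsg.kUpperStarFamily (R.map f) ↔ B ∈ Cfsg.kUpperStarFamily R := by
  change (_ ∧ ⁅B.map f, R.map f⁆ ≤ zen (B.map f)) ↔ (_ ∧ ⁅B, R⁆ ≤ zen B)
  rw [map_classTwo hf, ← Subgroup.map_commutator, ← map_zen hf,
    Subgroup.map_le_map_iff_of_injective hf]

theorem map_lower (hf : Function.Injective f) (B R : Subgroup X) :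
    B.map f ∈ Cfsg.kLowerStarFamily (R.map f) ↔ B ∈ Cfsg.kLowerStarFamily R := by
  constructor
  · rintro ⟨h1, h2, h3⟩
    refine ⟨(map_classTwo hf B).mp h1, (map_le_normalizer hf R B).mp h2, fun A hA hAR hBA hc1 hc2 => ?_⟩
    have h := h3 (A.map f) ((map_classTwo hf A).mpr hA) (Subgroup.map_mono hAR)
      ((map_le_normalizer hf B A).mpr hBA)
      (by rw [← Subgroup.map_commutator, ← Subgroup.map_commutator, hc1, Subgroup.map_bot])
      (by rw [zen_def, ← map_zen hf, ← Subgroup.map_commutator, ← Subgroup.map_commutator,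
        ← zen_def, hc2, Subgroup.map_bot])
    rwa [zen_def, ← map_zen hf, ← Subgroup.map_commutator,
      Subgroup.map_le_map_iff_of_injective hf] at h
  · rintro ⟨h1, h2, h3⟩
    refine ⟨(map_classTwo hf B).mpr h1, (map_le_normalizer hf R B).mpr h2,
      fun A hA hAR hBA hc1 hc2 => ?_⟩
    obtain ⟨A, rfl⟩ : ∃ A' : Subgroup X, A'.map f = A :=
      ⟨A.comap f, Subgroup.map_comap_eq_self (hAR.trans (Subgroup.map_le_range f R))⟩
    rw [zen_def, ← map_zen hf, ← Subgroup.map_commutator, ← Subgroup.map_commutator,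
      Subgroup.map_eq_bot_iff_of_injective _ hf] at hc2
    rw [← Subgroup.map_commutator, ← Subgroup.map_commutator,
      Subgroup.map_eq_bot_iff_of_injective _ hf] at hc1
    rw [zen_def, ← map_zen hf, ← Subgroup.map_commutator,
      Subgroup.map_le_map_iff_of_injective hf]
    exact h3 A ((map_classTwo hf A).mp hA) ((Subgroup.map_le_map_iff_of_injective hf).mp hAR)
      ((map_le_normalizer hf B A).mp hBA) hc1 hc2

theorem upper_exists_preimage (hf : Function.Injective f) {R : Subgroup X} {B : Subgroup P}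
    (hB : B ∈ Cfsg.kUpperStarFamily (R.map f)) (hle : B ≤ f.range) :
    ∃ B' ∈ Cfsg.kUpperStarFamily R, B'.map f = B :=
  ⟨B.comap f, (map_upper hf _ R).mp (by rwa [Subgroup.map_comap_eq_self hle]),
    Subgroup.map_comap_eq_self hle⟩

theorem lower_exists_preimage (hf : Function.Injective f) {R : Subgroup X} {B : Subgroup P}
    (hB : B ∈ Cfsg.kLowerStarFamily (R.map f)) (hle : B ≤ f.range) :
    ∃ B' ∈ Cfsg.kLowerStarFamily R, B'.map f = B :=
  ⟨B.comap f, (map_lower hf _ R).mp (by rwa [Subgroup.map_comap_eq_self hle]),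
    Subgroup.map_comap_eq_self hle⟩

theorem map_sSup_le {s : Set (Subgroup X)} {K : Subgroup P} (h : ∀ B ∈ s, B.map f ≤ K) :
    (sSup s).map f ≤ K :=
  Subgroup.map_le_iff_le_comap.mpr (sSup_le fun B hB => Subgroup.map_le_iff_le_comap.mp (h B hB))

/-- If the range contains every term of the sequence after the first, the sequences interlace. -/
theorem interlace (hf : Function.Injective f)
    (hQ : ∀ n : ℕ, Cfsg.kSeqEven P n ≤ f.range ∧ Cfsg.kSeqOdd P (n + 1) ≤ f.range) (n : ℕ) :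
    (Cfsg.kSeqEven P n ≤ (Cfsg.kSeqEven X n).map f ∧
        (Cfsg.kSeqEven X n).map f ≤ Cfsg.kSeqEven P (n + 1)) ∧
      (Cfsg.kSeqOdd P (n + 2) ≤ (Cfsg.kSeqOdd X (n + 1)).map f ∧
        (Cfsg.kSeqOdd X (n + 1)).map f ≤ Cfsg.kSeqOdd P (n + 1)) := by
  have stepb : ∀ n, Cfsg.kSeqEven P n ≤ (Cfsg.kSeqEven X n).map f →
      (Cfsg.kSeqEven X n).map f ≤ Cfsg.kSeqEven P (n + 1) →
      Cfsg.kSeqOdd P (n + 2) ≤ (Cfsg.kSeqOdd X (n + 1)).map f ∧
        (Cfsg.kSeqOdd X (n + 1)).map f ≤ Cfsg.kSeqOdd P (n + 1) := by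
    intro n h1 h2
    constructor
    · refine sSup_le fun B hB => ?_
      obtain ⟨B', hB', rfl⟩ := upper_exists_preimage hf (upper_anti h2 hB)
        ((le_sSup hB : B ≤ Cfsg.kSeqOdd P (n + 1 + 1)).trans (hQ (n + 1)).2)
      exact Subgroup.map_mono (le_sSup hB')
    · exact map_sSup_le fun B' hB' => le_sSup (upper_anti h1 ((map_upper hf B' _).mpr hB'))
  induction n with
  | zero =>
    have h1 : Cfsg.kSeqEven P 0 ≤ (Cfsg.kSeqEven X 0).map f := by
      refine sSup_le fun B hB => ?_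
      obtain ⟨B', hB', rfl⟩ := lower_exists_preimage hf (R := ⊤)
        (lower_anti (R' := ⊤) le_top hB) ((le_sSup hB : B ≤ Cfsg.kSeqEven P 0).trans (hQ 0).1)
      exact Subgroup.map_mono (le_sSup hB')
    have h2 : (Cfsg.kSeqEven X 0).map f ≤ Cfsg.kSeqEven P 1 :=
      map_sSup_le fun B' hB' => le_sSup (lower_anti
        ((hQ 0).2.trans_eq f.range_eq_map) ((map_lower hf B' _).mpr hB'))
    exact ⟨⟨h1, h2⟩, stepb 0 h1 h2⟩
  | succ n ih =>
    have h1 : Cfsg.kSeqEven P (n + 1) ≤ (Cfsg.kSeqEven X (n + 1)).map f := by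
      refine sSup_le fun B hB => ?_
      obtain ⟨B', hB', rfl⟩ := lower_exists_preimage hf (lower_anti ih.2.2 hB)
        ((le_sSup hB : B ≤ Cfsg.kSeqEven P (n + 1)).trans (hQ (n + 1)).1)
      exact Subgroup.map_mono (le_sSup hB')
    have h2 : (Cfsg.kSeqEven X (n + 1)).map f ≤ Cfsg.kSeqEven P (n + 2) :=
      map_sSup_le fun B' hB' => le_sSup (lower_anti ih.2.1 ((map_lower hf B' _).mpr hB'))
    exact ⟨⟨h1, h2⟩, stepb (n + 1) h1 h2⟩

theorem map_kInf (hf : Function.Injective f)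
    (hQ : ∀ n : ℕ, Cfsg.kSeqEven P n ≤ f.range ∧ Cfsg.kSeqOdd P (n + 1) ≤ f.range) :
    (Cfsg.kInfLower X).map f = Cfsg.kInfLower P ∧ (Cfsg.kInfUpper X).map f = Cfsg.kInfUpper P := by
  constructor
  · rw [Cfsg.kInfLower, Subgroup.map_iSup]
    exact le_antisymm (iSup_le fun n => le_iSup_of_le (n + 1) (interlace hf hQ n).1.2)
      (iSup_le fun n => le_iSup_of_le n (interlace hf hQ n).1.1)
  · rw [Cfsg.kInfUpper, Subgroup.map_iInf _ hf]
    refine le_antisymm (le_iInf fun n => ?_) (le_iInf fun n => ?_)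
    · cases n with
      | zero => exact le_top
      | succ n => exact iInf_le_of_le (n + 1) (interlace hf hQ n).2.2
    · cases n with
      | zero =>
        exact (iInf_le_of_le 1 (hQ 0).2).trans_eq f.range_eq_map
      | succ n => exact iInf_le_of_le (n + 2) (interlace hf hQ n).2.1

theorem map_kInf_equiv (e : X ≃* P) :
    (Cfsg.kInfLower X).map e.toMonoidHom = Cfsg.kInfLower P ∧
      (Cfsg.kInfUpper X).map e.toMonoidHom = Cfsg.kInfUpper P :=
  map_kInf (f := e.toMonoidHom) e.injective fun n => by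
    rw [MonoidHom.range_eq_top.mpr e.surjective]
    exact ⟨le_top, le_top⟩

theorem isCharPFunctor_kInfLower (p : ℕ) [Fact p.Prime] :
    Cfsg.IsCharPFunctor.{u} p (fun Q [Group Q] => Cfsg.kInfLower Q) := by
  refine ⟨fun Q _ _ hQ _ => ?_, fun Q R _ _ _ _ e => (map_kInf_equiv e).1⟩
  exact fun h => (Subgroup.nontrivial_iff_ne_bot _).mp hQ.center_nontrivial
    (le_bot_iff.mp (center_le_kInf.1.trans h.le))

theorem isCharPFunctor_kInfUpper (p : ℕ) [Fact p.Prime] :
    Cfsg.IsCharPFunctor.{u} p (fun Q [Group Q] => Cfsg.kInfUpper Q) := by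
  refine ⟨fun Q _ _ hQ _ => ?_, fun Q R _ _ _ _ e => (map_kInf_equiv e).2⟩
  exact fun h => (Subgroup.nontrivial_iff_ne_bot _).mp hQ.center_nontrivial
    (le_bot_iff.mp (center_le_kInf.2.trans h.le))

/-! ### Elements acting cubically -/

/-- `g` acts quadratically on `A/Z(A)` and on `Z(A)`. -/
def IsQuadOn (A : Subgroup P) (g : P) : Prop :=
  ⁅⁅A, Subgroup.zpowers g⁆, Subgroup.zpowers g⁆ ≤ zen A ∧
    ⁅⁅zen A, Subgroup.zpowers g⁆, Subgroup.zpowers g⁆ = ⊥

/-- `g` acts cubically on `A/Z(A)` and quadratically on `Z(A)`. -/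
def IsCubicOn (A : Subgroup P) (g : P) : Prop :=
  ⁅⁅⁅A, Subgroup.zpowers g⁆, Subgroup.zpowers g⁆, Subgroup.zpowers g⁆ ≤ zen A ∧
    ⁅⁅zen A, Subgroup.zpowers g⁆, Subgroup.zpowers g⁆ = ⊥

theorem IsQuadOn.cubic {A : Subgroup P} [A.Normal] {g : P} (h : IsQuadOn A g) : IsCubicOn A g :=
  ⟨(Subgroup.commutator_mono h.1 le_rfl).trans
    (haveI := zen_normal A; Subgroup.commutator_le_left (zen A) _), h.2⟩

section

variable {T A : Subgroup P} [A.Normal]

/-- If quadratic elements lie in `T`, then `A` belongs to all lower families. -/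
theorem mem_lower (hAc : A ∈ Cfsg.classTwoSubgroups P) (hTA : ⁅T, A⁆ ≤ zen A)
    (hq : ∀ g : P, IsQuadOn A g → g ∈ T) (R : Subgroup P) : A ∈ Cfsg.kLowerStarFamily R := by
  refine ⟨hAc, by rw [Subgroup.normalizer_eq_top]; exact le_top, fun C hC _ hn hc1 hc2 => ?_⟩
  have hA1 : ⁅A, C⁆ ≤ C := commutator_le_right_of_le_normalizer hn
  have h2 : ⁅⁅A, C⁆, C⁆ ≤ zen A := by
    refine le_inf ((Subgroup.commutator_mono (Subgroup.commutator_le_left A C) le_rfl).trans
      (Subgroup.commutator_le_left A C)) ?_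
    refine (Subgroup.commutator_mono hA1 le_rfl).trans ?_
    rw [← Subgroup.commutator_eq_bot_iff_le_centralizer, Subgroup.commutator_comm]
    exact hc1
  have hCT : C ≤ T := fun g hg => by
    have hgz : Subgroup.zpowers g ≤ C := Subgroup.zpowers_le.mpr hg
    refine hq g ⟨(Subgroup.commutator_mono (Subgroup.commutator_mono le_rfl hgz) hgz).trans h2,
      le_bot_iff.mp ((Subgroup.commutator_mono (Subgroup.commutator_mono le_rfl hgz) hgz).trans hc2.le)⟩
  rw [Subgroup.commutator_comm]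
  exact (Subgroup.commutator_mono hCT le_rfl).trans hTA

theorem mem_upper (hAc : A ∈ Cfsg.classTwoSubgroups P) (hTA : ⁅T, A⁆ ≤ zen A) {R : Subgroup P}
    (hR : R ≤ T) : A ∈ Cfsg.kUpperStarFamily R :=
  ⟨hAc, (Subgroup.commutator_comm A R).trans_le ((Subgroup.commutator_mono hR le_rfl).trans hTA)⟩

omit [A.Normal] in
theorem isQuadOn_of_mem_upper {R B : Subgroup P} (hAR : A ≤ R)
    (hB : B ∈ Cfsg.kUpperStarFamily R) {g : P} (hg : g ∈ B) : IsQuadOn A g := by
  have hgz : Subgroup.zpowers g ≤ B := Subgroup.zpowers_le.mpr hg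
  have h1 : ∀ D : Subgroup P, D ≤ R → ⁅⁅D, Subgroup.zpowers g⁆, Subgroup.zpowers g⁆ = ⊥ := by
    intro D hD
    refine le_bot_iff.mp ((Subgroup.commutator_mono ?_ hgz).trans (zen_commutator B).le)
    rw [Subgroup.commutator_comm]
    exact (Subgroup.commutator_mono hgz hD).trans hB.2
  exact ⟨(h1 A hAR).trans_le bot_le, h1 _ ((zen_le A).trans hAR)⟩

theorem isCubicOn_of_mem_lower {R B : Subgroup P} (hAR : A ≤ R)
    (hB : B ∈ Cfsg.kLowerStarFamily R) {g : P} (hg : g ∈ B) : IsCubicOn A g := by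
  obtain ⟨hBc, hBn, hcond⟩ := hB
  have hgz : Subgroup.zpowers g ≤ B := Subgroup.zpowers_le.mpr hg
  have hzn := zen_normal A
  constructor
  · refine (Subgroup.commutator_mono (Subgroup.commutator_mono (Subgroup.commutator_mono le_rfl hgz)
      hgz) hgz).trans (le_trans (le_of_eq ?_) bot_le)
    refine le_bot_iff.mp ((Subgroup.commutator_mono (Subgroup.commutator_mono
      (commutator_le_right_of_le_normalizer (hAR.trans hBn)) le_rfl) le_rfl).trans ?_)
    exact (Subgroup.commutator_eq_bot_iff_le_centralizer.mpr hBc).le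
  · have h := hcond (zen A) (mem_classTwo_of_abelian (zen_abelian A)) ((zen_le A).trans hAR)
      (by rw [Subgroup.normalizer_eq_top]; exact le_top)
      (by rw [zen_abelian A, Subgroup.commutator_bot_right])
      (le_bot_iff.mp ((Subgroup.commutator_mono (Subgroup.commutator_le_right _ (zen A))
        le_rfl).trans (zen_abelian A).le))
    rw [Subgroup.commutator_comm] at h
    exact le_bot_iff.mp ((Subgroup.commutator_mono
      ((Subgroup.commutator_mono le_rfl hgz).trans h) hgz).trans (zen_commutator B).le)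

/-- With only the quadratic hypothesis: the odd terms after the first are in `T`. -/
theorem odd_le_of_quad (hAc : A ∈ Cfsg.classTwoSubgroups P) (hTA : ⁅T, A⁆ ≤ zen A)
    (hq : ∀ g : P, IsQuadOn A g → g ∈ T) (n : ℕ) :
    A ≤ Cfsg.kSeqEven P n ∧ Cfsg.kSeqOdd P (n + 1) ≤ T := by
  have hA : A ≤ Cfsg.kSeqEven P n := le_sSup (mem_lower hAc hTA hq _)
  exact ⟨hA, sSup_le fun B hB g hg => hq g (isQuadOn_of_mem_upper hA hB hg)⟩

/-- With the cubic hypothesis all terms after the first are in `T`. -/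
theorem terms_le_of_cubic (hAc : A ∈ Cfsg.classTwoSubgroups P) (hTA : ⁅T, A⁆ ≤ zen A)
    (hc : ∀ g : P, IsCubicOn A g → g ∈ T) (n : ℕ) :
    Cfsg.kSeqEven P n ≤ T ∧ Cfsg.kSeqOdd P (n + 1) ≤ T := by
  have hq : ∀ g : P, IsQuadOn A g → g ∈ T := fun g hg => hc g hg.cubic
  refine ⟨?_, (odd_le_of_quad hAc hTA hq n).2⟩
  have hodd : ∀ n : ℕ, A ≤ Cfsg.kSeqOdd P n := by
    intro n
    induction n with
    | zero => exact le_top
    | succ n ih =>
      exact le_sSup (mem_upper hAc hTA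
        (sSup_le fun B hB g hg => hc g (isCubicOn_of_mem_lower ih hB hg)))
  exact sSup_le fun B hB g hg => hc g (isCubicOn_of_mem_lower (hodd n) hB hg)

end

end Cfsg.Agent.Invol.KInf

namespace Cfsg.Agent.Invol.KInf

variable {P : Type*} [Group P]

open scoped commutatorElement

theorem commutator_sup_le {H K L D : Subgroup P} (hH : ⁅H, L⁆ ≤ D) (hK : ⁅K, L⁆ ≤ D)
    (hHD : H ≤ Subgroup.normalizer (D : Set P)) (hKD : K ≤ Subgroup.normalizer (D : Set P)) :
    ⁅H ⊔ K, L⁆ ≤ D := by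
  let E : Subgroup P :=
    { carrier := {y | y ∈ Subgroup.normalizer (D : Set P) ∧ ∀ l ∈ L, ⁅y, l⁆ ∈ D}
      mul_mem' := fun {y z} hy hz => ⟨mul_mem hy.1 hz.1, fun l hl => by
        have h : ⁅y * z, l⁆ = y * ⁅z, l⁆ * y⁻¹ * ⁅y, l⁆ := by
          simp only [commutatorElement_def]; group
        rw [h]
        exact mul_mem ((Subgroup.mem_normalizer_iff.mp hy.1 _).mp (hz.2 l hl)) (hy.2 l hl)⟩
      one_mem' := ⟨one_mem _, fun l _ => by simp⟩
      inv_mem' := fun {y} hy => ⟨inv_mem hy.1, fun l hl => by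
        have h : ⁅y⁻¹, l⁆ = y⁻¹ * ⁅y, l⁆⁻¹ * y := by simp only [commutatorElement_def]; group
        rw [h]
        exact (Subgroup.mem_normalizer_iff''.mp hy.1 _).mp (inv_mem (hy.2 l hl))⟩ }
  have hle : H ⊔ K ≤ E := sup_le
    (fun y hy => ⟨hHD hy, fun l hl => hH (Subgroup.commutator_mem_commutator hy hl)⟩)
    (fun y hy => ⟨hKD hy, fun l hl => hK (Subgroup.commutator_mem_commutator hy hl)⟩)
  exact Subgroup.commutator_le.mpr fun y hy l hl => (hle hy).2 l hl

/-- Enlarging a subgroup that does not contain its centralizer. -/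
theorem exists_extension [Group.IsNilpotent P] {B : Subgroup P}
    (hB : ¬ Subgroup.centralizer (B : Set P) ≤ B) :
    ∃ c ∈ Subgroup.centralizer (B : Set P), c ∉ B ∧
      ∀ n ∈ Subgroup.normalizer (B : Set P), ⁅c, n⁆ ∈ zen B := by
  set N := Subgroup.normalizer (B : Set P) with hN
  set C := Subgroup.centralizer (B : Set P) with hC
  have hBN : B ≤ N := Subgroup.le_normalizer
  have hCN : C ≤ N := Subgroup.centralizer_le_normalizer _
  have hBn : (B.subgroupOf N).Normal := Subgroup.normal_in_normalizer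
  set π := QuotientGroup.mk' (B.subgroupOf N) with hπ
  have hCn : (C.subgroupOf N).Normal := Subgroup.normal_subgroupOf_centralizer_normalizer (B : Set P)
  have hmap : ((C.subgroupOf N).map π).Normal := hCn.map _ (QuotientGroup.mk'_surjective _)
  have hne : (C.subgroupOf N).map π ≠ ⊥ := by
    rw [ne_eq, Subgroup.map_eq_bot_iff, hπ, QuotientGroup.ker_mk']
    intro h
    exact hB fun x hx => h (show (⟨x, hCN hx⟩ : N) ∈ C.subgroupOf N from hx)
  obtain ⟨q, ⟨⟨c, hc, rfl⟩, hq⟩, hq1⟩ := (Subgroup.bot_or_exists_ne_one _).resolve_left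
    (Grp.inf_center_ne_bot _ hne)
  refine ⟨(c : P), hc, fun h => hq1 ((QuotientGroup.eq_one_iff c).mpr h), fun n hn => ⟨?_, ?_⟩⟩
  · have h1 := Subgroup.mem_center_iff.mp hq (π ⟨n, hn⟩)
    have h2 : π ⁅c, (⟨n, hn⟩ : N)⁆ = 1 := by
      rw [map_commutatorElement, commutatorElement_eq_one_iff_mul_comm, h1]
    exact (QuotientGroup.eq_one_iff (N := B.subgroupOf N) ⁅c, (⟨n, hn⟩ : N)⁆).mp h2
  · rw [commutatorElement_def, mul_assoc, mul_assoc]
    refine mul_mem hc ?_
    rw [← mul_assoc]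
    exact hCn.conj_mem _ (inv_mem hc) ⟨n, hn⟩

/-- A maximal member of any of the families contains its centralizer. -/
theorem centralizer_le_of_maximal [Group.IsNilpotent P] {B : Subgroup P} {𝒦 : Set (Subgroup P)}
    (h𝒦 : 𝒦 = Cfsg.classTwoSubgroups P ∨ (∃ R, 𝒦 = Cfsg.kLowerStarFamily R) ∨
      ∃ R, 𝒦 = Cfsg.kUpperStarFamily R)
    (hB : B ∈ 𝒦) (hmax : ∀ C ∈ 𝒦, B ≤ C → C = B) : Subgroup.centralizer (B : Set P) ≤ B := by
  by_contra hcon
  obtain ⟨c, hc, hcB, hcomm⟩ := exists_extension hcon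
  set X := Subgroup.zpowers c with hX
  set B₁ := B ⊔ X with hB₁
  have hXC : X ≤ Subgroup.centralizer (B : Set P) := Subgroup.zpowers_le.mpr hc
  have hzz : zen B ≤ zen B₁ := by
    refine le_inf ((zen_le B).trans le_sup_left) ?_
    rw [Subgroup.le_centralizer_iff]
    refine sup_le ?_ ?_ <;> rw [Subgroup.le_centralizer_iff]
    · exact zen_le_centralizer B
    · exact (zen_le B).trans (Subgroup.le_centralizer_iff.mp hXC)
  have hBz : B ≤ Subgroup.normalizer (zen B : Set P) := by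
    refine le_trans ?_ (Subgroup.centralizer_le_normalizer _)
    exact Subgroup.le_centralizer_iff.mp (zen_le_centralizer B)
  have hXz : X ≤ Subgroup.normalizer (zen B : Set P) := by
    refine le_trans ?_ (Subgroup.centralizer_le_normalizer _)
    exact hXC.trans (Subgroup.centralizer_le (zen_le B))
  have hXR : ∀ R : Subgroup P, R ≤ Subgroup.normalizer (B : Set P) → ⁅X, R⁆ ≤ zen B := by
    intro R hR
    rw [Subgroup.commutator_le]
    intro y hy r hr
    let E : Subgroup P :=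
      { carrier := {y | y ∈ Subgroup.centralizer (B : Set P) ∧
          ∀ n ∈ Subgroup.normalizer (B : Set P), ⁅y, n⁆ ∈ zen B}
        mul_mem' := fun {y z} hy hz => ⟨mul_mem hy.1 hz.1, fun n hn => by
          have h : ⁅y * z, n⁆ = y * ⁅z, n⁆ * y⁻¹ * ⁅y, n⁆ := by
            simp only [commutatorElement_def]; group
          have h' := Subgroup.mem_centralizer_iff.mp hy.1 _ (zen_le B (hz.2 n hn))
          rw [h, ← h', mul_inv_cancel_right]
          exact mul_mem (hz.2 n hn) (hy.2 n hn)⟩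
        one_mem' := ⟨one_mem _, fun n _ => by simp⟩
        inv_mem' := fun {y} hy => ⟨inv_mem hy.1, fun n hn => by
          have h : ⁅y⁻¹, n⁆ = y⁻¹ * ⁅y, n⁆⁻¹ * y := by simp only [commutatorElement_def]; group
          have h' := Subgroup.mem_centralizer_iff.mp (inv_mem hy.1) _
            (zen_le B (inv_mem (hy.2 n hn)))
          rw [h, ← h', inv_mul_cancel_right]
          exact inv_mem (hy.2 n hn)⟩ }
    exact ((Subgroup.zpowers_le.mpr (show c ∈ E from ⟨hc, hcomm⟩)) hy).2 r (hR hr)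
  have hBne : B₁ ≠ B := fun h =>
    hcB (h.le (Subgroup.mem_sup_right (Subgroup.mem_zpowers c)))
  have hc2 : ∀ {B' : Subgroup P}, B' ∈ Cfsg.classTwoSubgroups P → B' = B →
      B₁ ∈ Cfsg.classTwoSubgroups P := by
    rintro B' hB' rfl
    have h1 : ⁅B', B'⁆ ≤ zen B' := le_inf (Subgroup.commutator_le_self B') hB'
    have h2 : ⁅X, X⁆ = ⊥ := by
      rw [Subgroup.commutator_eq_bot_iff_le_centralizer]
      intro a ha
      obtain ⟨i, rfl⟩ := Subgroup.mem_zpowers_iff.mp ha
      refine Subgroup.mem_centralizer_iff.mpr fun b hb => ?_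
      obtain ⟨j, rfl⟩ := Subgroup.mem_zpowers_iff.mp hb
      exact (Commute.zpow_zpow_self c j i).eq
    have h3 : ⁅B', X⁆ = ⊥ := by
      rw [Subgroup.commutator_comm, Subgroup.commutator_eq_bot_iff_le_centralizer]; exact hXC
    have h4 : ∀ D : Subgroup P, D = B' ∨ D = X → ⁅B₁, D⁆ ≤ zen B' := by
      rintro D (rfl | rfl)
      · exact commutator_sup_le h1 (by rw [Subgroup.commutator_comm, h3]; exact bot_le) hBz hXz
      · exact commutator_sup_le (by rw [h3]; exact bot_le) (by rw [h2]; exact bot_le) hBz hXz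
    refine le_trans ?_ (hzz.trans (zen_le_centralizer B₁))
    exact commutator_sup_le (by rw [Subgroup.commutator_comm]; exact h4 B' (Or.inl rfl))
      (by rw [Subgroup.commutator_comm]; exact h4 X (Or.inr rfl)) hBz hXz
  rcases h𝒦 with rfl | ⟨R, rfl⟩ | ⟨R, rfl⟩
  · exact hBne (hmax _ (hc2 hB rfl) le_sup_left)
  · obtain ⟨hBc, hBn, hcond⟩ := hB
    refine hBne (hmax _ ⟨hc2 hBc rfl, ?_, fun A hA hAR hn h1 h2 => ?_⟩ le_sup_left)
    · intro r hr
      have h : ⁅B₁, R⁆ ≤ B₁ := Subgroup.commutator_le.mpr fun y hy r hr => by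
        have hE : B₁ ≤ Subgroup.normalizer (B : Set P) :=
          sup_le Subgroup.le_normalizer (hXC.trans (Subgroup.centralizer_le_normalizer _))
        have h5 := commutator_sup_le (commutator_le_left_of_le_normalizer hBn)
          ((hXR R hBn).trans (zen_le B)) Subgroup.le_normalizer
          (hXC.trans (Subgroup.centralizer_le_normalizer _))
          (Subgroup.commutator_mem_commutator hy hr)
        exact Subgroup.mem_sup_left h5
      have h5 : ∀ s ∈ R, ∀ y ∈ B₁, s * y * s⁻¹ ∈ B₁ := fun s hs y hy => by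
        have h6 := B₁.mul_mem (B₁.inv_mem (h (Subgroup.commutator_mem_commutator hy hs))) hy
        simpa [commutatorElement_def, mul_assoc] using h6
      refine Subgroup.mem_normalizer_iff.mpr fun y => ⟨h5 r hr y, fun hy => ?_⟩
      simpa [mul_assoc] using h5 r⁻¹ (inv_mem hr) _ hy
    · refine (commutator_sup_le (hcond A hA hAR (le_sup_left.trans hn) ?_ ?_) ?_ hBz hXz).trans hzz
      · exact le_bot_iff.mp ((Subgroup.commutator_mono le_sup_left le_rfl).trans h1.le)
      · exact le_bot_iff.mp ((Subgroup.commutator_mono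
          (Subgroup.commutator_mono hzz le_rfl) le_rfl).trans h2.le)
      · exact hXR A (hAR.trans hBn)
  · obtain ⟨hBc, hcond⟩ := hB
    refine hBne (hmax _ ⟨hc2 hBc rfl, ?_⟩ le_sup_left)
    have hBn : R ≤ Subgroup.normalizer (B : Set P) := by
      intro r hr
      have h5 : ∀ s ∈ R, ∀ y ∈ B, s * y * s⁻¹ ∈ B := fun s hs y hy => by
        have h6 := B.mul_mem (B.inv_mem (zen_le B (hcond (Subgroup.commutator_mem_commutator hy hs)))) hy
        simpa [commutatorElement_def, mul_assoc] using h6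
      refine Subgroup.mem_normalizer_iff.mpr fun y => ⟨h5 r hr y, fun hy => ?_⟩
      simpa [mul_assoc] using h5 r⁻¹ (inv_mem hr) _ hy
    exact (commutator_sup_le hcond (hXR R hBn) hBz hXz).trans hzz

theorem centralizer_kInf_le [Finite P] [Group.IsNilpotent P] :
    Subgroup.centralizer (Cfsg.kInfLower P : Set P) ≤ Cfsg.kInfLower P ∧
      Subgroup.centralizer (Cfsg.kInfUpper P : Set P) ≤ Cfsg.kInfUpper P := by
  obtain ⟨m, hm⟩ := exists_stationary (P := P)
  have key : ∀ (𝒦 : Set (Subgroup P)), (⊥ : Subgroup P) ∈ 𝒦 →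
      (𝒦 = Cfsg.classTwoSubgroups P ∨ (∃ R, 𝒦 = Cfsg.kLowerStarFamily R) ∨
        ∃ R, 𝒦 = Cfsg.kUpperStarFamily R) →
      Subgroup.centralizer ((sSup 𝒦 : Subgroup P) : Set P) ≤ sSup 𝒦 := by
    intro 𝒦 hbot h
    obtain ⟨B, hB, hmax⟩ := Set.exists_max_image 𝒦 (fun B => Nat.card B) (Set.toFinite _) ⟨⊥, hbot⟩
    have := centralizer_le_of_maximal h hB fun C hC hle =>
      (Subgroup.eq_of_le_of_card_ge hle (hmax C hC)).symm
    exact (Subgroup.centralizer_le (le_sSup hB : B ≤ sSup 𝒦)).trans (this.trans (le_sSup hB))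
  have hb := fun R : Subgroup P => abelian_normal_mem (A := (⊥ : Subgroup P))
    (Subgroup.commutator_bot_left _) R
  constructor
  · rw [← (hm m le_rfl).1]
    exact key _ (hb _).1 (Or.inr (Or.inl ⟨_, rfl⟩))
  · rw [← (hm (m + 1) (Nat.le_succ m)).2]
    exact key _ (hb _).2 (Or.inr (Or.inr ⟨_, rfl⟩))

end Cfsg.Agent.Invol.KInf
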