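import Mathlib
import Cfsg.Agent.Lib.Grp.CoprimeAbelian
import Cfsg.Agent.Lib.Invol.Quadratic

/-!
# Offenders on abelian p-groups: reduction to a transvection
-/

namespace Cfsg.Agent.Invol

variable {V : Type*} [CommGroup V] [Finite V] {p : ℕ} [hp : Fact p.Prime]

/-- Fixed points of a group of automorphisms. -/
def autFix (S : Set (MulAut V)) : Subgroup V where
  carrier := {v | ∀ f ∈ S, f v = v}
  mul_mem' ha hb := fun f hf => by rw [map_mul, ha f hf, hb f hf]
  one_mem' := fun f _ => map_one f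
  inv_mem' ha := fun f hf => by rw [map_inv, ha f hf]

theorem mem_autFix {S : Set (MulAut V)} {v : V} : v ∈ autFix S ↔ ∀ f ∈ S, f v = v := Iff.rfl

theorem autFix_anti {S T : Set (MulAut V)} (h : S ⊆ T) : autFix T ≤ autFix S :=
  fun _ hv f hf => hv f (h hf)

/-- A `p`-group of automorphisms fixes a nontrivial element of every nontrivial invariant
subgroup of a `p`-group. -/
theorem exists_fixed_ne_one (hV : IsPGroup p V) {P : Subgroup (MulAut V)} (hP : IsPGroup p P)
    {D : Subgroup V} (hD : D ≠ ⊥) (hinv : ∀ f ∈ P, ∀ v ∈ D, f v ∈ D) :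
    ∃ u ∈ D, u ≠ 1 ∧ u ∈ autFix (P : Set (MulAut V)) := by
  let _ : MulAction P D :=
    { smul := fun f v => ⟨(f : MulAut V) v, hinv f f.2 v v.2⟩
      one_smul := fun v => rfl
      mul_smul := fun f g v => rfl }
  have hd : p ∣ Nat.card D := by
    obtain ⟨k, hk⟩ := IsPGroup.iff_card.mp (hV.to_subgroup D)
    have : Nontrivial D := D.nontrivial_iff_ne_bot.mpr hD
    have h1 : 1 < Nat.card D := Finite.one_lt_card
    rw [hk] at h1 ⊢
    exact dvd_pow_self p (by rintro rfl; simp at h1)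
  have h1 : (1 : D) ∈ MulAction.fixedPoints P D := fun f => Subtype.ext (map_one (f : MulAut V))
  obtain ⟨u, hu, hne⟩ := hP.exists_fixed_point_of_prime_dvd_card_of_fixed_point D hd h1
  exact ⟨u, u.2, fun h => hne (Subtype.ext h.symm), fun f hf => congrArg Subtype.val (hu ⟨f, hf⟩)⟩

/-- The map `v ↦ f v / v`. -/
def autDiff (f : MulAut V) : V →* V where
  toFun v := f v / v
  map_one' := by simp
  map_mul' v w := by rw [map_mul, mul_div_mul_comm]

theorem autDiff_apply (f : MulAut V) (v : V) : autDiff f v = f v / v := rfl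

theorem autDiff_invariant {f g : MulAut V} (h : Commute g f) :
    ∀ v ∈ (autDiff f).range, g v ∈ (autDiff f).range := by
  rintro _ ⟨v, rfl⟩
  refine ⟨g v, ?_⟩
  rw [autDiff_apply, autDiff_apply, map_div, show f (g v) = (f * g) v from rfl, ← h.eq]
  rfl

/-- `A × B` lemma for automorphisms of an abelian `p`-group. -/
theorem eq_one_of_fix_centralizer (hV : IsPGroup p V) {P : Subgroup (MulAut V)} (hP : IsPGroup p P)
    {c : MulAut V} {k : ℕ} (hk : k.Coprime p) (hck : c ^ k = 1) (hc : ∀ f ∈ P, Commute f c)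
    (hfix : ∀ v ∈ autFix (P : Set (MulAut V)), c v = v) : c = 1 := by
  by_contra hne
  have hD : (autDiff c).range ≠ ⊥ := by
    intro h
    refine hne (MulEquiv.ext fun v => ?_)
    have : autDiff c v ∈ (autDiff c).range := ⟨v, rfl⟩
    rw [h, Subgroup.mem_bot, autDiff_apply, div_eq_one] at this
    exact this
  obtain ⟨u, ⟨v, rfl⟩, hu1, hu⟩ := exists_fixed_ne_one hV hP hD (fun f hf => autDiff_invariant (hc f hf))
  set u := autDiff c v with hudef
  have hcu : c u = u := hfix u hu
  have hcv : c v = v * u := by rw [hudef, autDiff_apply, mul_div_cancel]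
  have hn : ∀ n : ℕ, (c ^ n) v = v * u ^ n := by
    intro n
    induction n with
    | zero => simp
    | succ n ih =>
      rw [pow_succ', MulAut.mul_apply, ih, map_mul, map_pow, hcu, hcv, pow_succ', mul_assoc]
  have huk : u ^ k = 1 := by simpa [hck] using (hn k).symm
  obtain ⟨e, he⟩ := hV u
  exact hu1 (orderOf_eq_one_iff.mp (Nat.eq_one_of_dvd_coprimes (hk.pow_right e)
    (orderOf_dvd_of_pow_eq_one huk) (orderOf_dvd_of_pow_eq_one he)))

/-- If every fixed point of `b ^ p` in an invariant subgroup `W` is fixed by the `p`-element `b`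
then `b` is trivial on `W`. -/
theorem fix_of_fix_pow (hV : IsPGroup p V) {b : MulAut V} (hb : IsPGroup p (Subgroup.zpowers b))
    {W : Subgroup V} (hW : ∀ v ∈ W, b v ∈ W) (h : ∀ v ∈ W, (b ^ p) v = v → b v = v) :
    ∀ v ∈ W, b v = v := by
  have hWz : ∀ f ∈ Subgroup.zpowers b, ∀ v ∈ W, f v ∈ W := by
    intro f hf v hv
    obtain ⟨n, rfl⟩ := (mem_powers_iff_mem_zpowers (x := b)).mpr hf
    dsimp only
    induction n with
    | zero => simpa using hv
    | succ n ih =>
      rw [pow_succ', MulAut.mul_apply]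
      exact hW _ (ih ⟨n, by simp⟩)
  by_contra hne
  push Not at hne
  obtain ⟨v₀, hv₀, hne⟩ := hne
  set D := W.map (autDiff b) with hD
  have hDW : D ≤ W := by
    rintro _ ⟨v, hv, rfl⟩
    exact div_mem (hW v hv) hv
  have hD1 : D ≠ ⊥ := fun h0 => hne (by
    have : autDiff b v₀ ∈ D := ⟨v₀, hv₀, rfl⟩
    rwa [h0, Subgroup.mem_bot, autDiff_apply, div_eq_one] at this)
  have hDinv : ∀ f ∈ Subgroup.zpowers b, ∀ x ∈ D, f x ∈ D := by
    rintro f hf _ ⟨v, hv, rfl⟩
    refine ⟨f v, hWz f hf v hv, ?_⟩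
    obtain ⟨n, rfl⟩ := Subgroup.mem_zpowers_iff.mp hf
    rw [autDiff_apply, autDiff_apply, map_div, show b ((b ^ n) v) = (b * b ^ n) v from rfl,
      (Commute.self_zpow b n).eq]
    rfl
  obtain ⟨u, hu, hu1, hfix⟩ := exists_fixed_ne_one hV hb hD1 hDinv
  -- an element of order `p` among them
  obtain ⟨e, he⟩ := hV u
  classical
  have hex : ∃ i, (u ^ p ^ i) = 1 := ⟨e, he⟩
  set i := Nat.find hex with hi
  have hi0 : i ≠ 0 := fun h0 => hu1 (by simpa [h0] using (hi ▸ Nat.find_spec hex : u ^ p ^ i = 1))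
  obtain ⟨j, hj⟩ := Nat.exists_eq_succ_of_ne_zero hi0
  set w := u ^ p ^ j with hw
  have hw1 : w ≠ 1 := Nat.find_min hex (show j < i by omega)
  have hwp : w ^ p = 1 := by
    rw [hw, ← pow_mul, ← pow_succ]
    have := Nat.find_spec hex
    rwa [← hi, hj] at this
  obtain ⟨v, hv, hvw⟩ : w ∈ D := pow_mem hu _
  have hbw : b w = w := by rw [hw, map_pow, hfix b (Subgroup.mem_zpowers b)]
  have hbv : b v = v * w := by rw [← hvw, autDiff_apply, mul_div_cancel]
  have hn : ∀ n : ℕ, (b ^ n) v = v * w ^ n := by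
    intro n
    induction n with
    | zero => simp
    | succ n ih =>
      rw [pow_succ', MulAut.mul_apply, ih, map_mul, map_pow, hbw, hbv, pow_succ', mul_assoc]
  have := h v hv (by rw [hn p, hwp, mul_one])
  rw [hbv] at this
  exact hw1 (mul_eq_left.mp this)

theorem autFix_top_of_bot : autFix ((⊥ : Subgroup (MulAut V)) : Set (MulAut V)) = ⊤ := by
  refine eq_top_iff.mpr fun v _ f hf => ?_
  rw [Subgroup.mem_bot.mp hf]
  rfl

theorem autFix_singleton_zpowers (b : MulAut V) :
    autFix ((Subgroup.zpowers b : Subgroup (MulAut V)) : Set (MulAut V)) = autFix {b} := by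
  refine le_antisymm (autFix_anti (by simp)) fun v hv f hf => ?_
  obtain ⟨n, rfl⟩ := (mem_powers_iff_mem_zpowers (x := b)).mpr hf
  dsimp only
  induction n with
  | zero => simp
  | succ n ih => rw [pow_succ', MulAut.mul_apply, ih ⟨n, by simp⟩, hv b rfl]

/-- An offender contained in an abelian group acting faithfully on a `p'`-group of automorphisms
contains a transvection. -/
theorem exists_transvection (hV : IsPGroup p V) (Q A : Subgroup (MulAut V)) [IsMulCommutative A]
    (hA : IsPGroup p A) (hAQ : A ≤ Subgroup.normalizer (Q : Set (MulAut V)))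
    (hQ : (Nat.card Q).Coprime p) (hfaith : ∀ a ∈ A, (∀ q ∈ Q, Commute a q) → a = 1)
    (hA1 : A ≠ ⊥) (hoff : Nat.card V ≤ Nat.card A * Nat.card (autFix (A : Set (MulAut V)))) :
    ∃ b ∈ A, orderOf b = p ∧ (autFix ({b} : Set (MulAut V))).index = p := by
  obtain ⟨B, ⟨hBA, hB1, hB⟩, hmin⟩ := Set.exists_min_image {B : Subgroup (MulAut V) | B ≤ A ∧ B ≠ ⊥ ∧
    Nat.card V ≤ Nat.card B * Nat.card (autFix (B : Set (MulAut V)))} (fun B => Nat.card B)
    (Set.toFinite _) ⟨A, le_rfl, hA1, hoff⟩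
  have hBp : IsPGroup p B := hA.to_le hBA
  have hcomm : ∀ a ∈ B, ∀ b ∈ B, Commute a b := fun a ha b hb =>
    congrArg Subtype.val ((inferInstance : IsMulCommutative A).is_comm.comm ⟨a, hBA ha⟩ ⟨b, hBA hb⟩)
  by_cases hBcard : Nat.card B = p
  · obtain ⟨b, hb⟩ := exists_prime_orderOf_dvd_card' (G := B) p (by rw [hBcard])
    have hbo : orderOf (b : MulAut V) = p := by rw [Subgroup.orderOf_coe, hb]
    have hBb : Subgroup.zpowers (b : MulAut V) = B :=
      Subgroup.eq_of_le_of_card_ge (Subgroup.zpowers_le.mpr b.2) (by rw [Nat.card_zpowers, hbo, hBcard])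
    rw [← hBb, autFix_singleton_zpowers, Nat.card_zpowers, hbo] at hB
    refine ⟨b, hBA b.2, hbo, ?_⟩
    obtain ⟨i, hi⟩ := hV.index (autFix ({(b : MulAut V)} : Set (MulAut V)))
    have h1 := (autFix ({(b : MulAut V)} : Set (MulAut V))).card_mul_index
    rw [← h1, Nat.mul_comm p, hi] at hB
    have h2 : p ^ i ≤ p ^ 1 := by
      rw [pow_one]; exact Nat.le_of_mul_le_mul_left hB Nat.card_pos
    have h3 : i ≠ 0 := by
      rintro rfl
      rw [pow_zero, Subgroup.index_eq_one] at hi
      have : (b : MulAut V) = 1 := MulEquiv.ext fun v =>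
        (show v ∈ autFix ({(b : MulAut V)} : Set (MulAut V)) from hi.symm ▸ Subgroup.mem_top v) _ rfl
      rw [this, orderOf_one] at hbo
      exact hp.out.ne_one hbo.symm
    rw [hi, show i = 1 by have := (Nat.pow_le_pow_iff_right hp.out.one_lt).mp h2; omega, pow_one]
  exfalso
  have hpB : p < Nat.card B := by
    obtain ⟨k, hk⟩ := IsPGroup.iff_card.mp hBp
    rcases k with _ | _ | k
    · exact absurd (Subgroup.card_eq_one.mp (by simpa using hk)) hB1
    · exact absurd (by simpa using hk) hBcard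
    · rw [hk]
      calc p = p ^ 1 := (pow_one p).symm
        _ < _ := Nat.pow_lt_pow_right hp.out.one_lt (by omega)
  -- cyclic over `B₀`
  have hcyc : ∀ B₀ : Subgroup (MulAut V), B₀ ≤ B → ∀ b ∈ B, B ≤ B₀ ⊔ Subgroup.zpowers b →
      ∀ v ∈ autFix (B₀ : Set (MulAut V)), ∀ f ∈ B, f v = v := by
    intro B₀ hB₀ b hb hgen v hv f hf
    by_cases hbB₀ : b ∈ B₀
    · exact hv f (sup_le le_rfl (Subgroup.zpowers_le.mpr hbB₀) (hgen hf))
    set B₁ := B₀ ⊔ Subgroup.zpowers (b ^ p) with hB₁
    have hB₁B : B₁ ≤ B := sup_le hB₀ (Subgroup.zpowers_le.mpr (pow_mem hb _))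
    have hwrite : ∀ g ∈ B, ∃ r < p, g * (b ^ r)⁻¹ ∈ B₁ := by
      intro g hg
      have hle : B₀ ⊔ Subgroup.zpowers b ≤ B₀.comap (MonoidHom.id _) ⊔ Subgroup.zpowers b := le_of_eq rfl
      have hcl : g ∈ Subgroup.closure ((B₀ : Set (MulAut V)) ∪ {b}) := by
        rw [Subgroup.closure_union, Subgroup.closure_eq, ← Subgroup.zpowers_eq_closure]
        exact hgen hg
      have key : ∃ n : ℤ, g * (b ^ n)⁻¹ ∈ B₁ ∧ g ∈ B := by
        induction hcl using Subgroup.closure_induction with
        | mem x hx =>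
          rcases hx with hx | rfl
          · exact ⟨0, by simpa using Subgroup.mem_sup_left hx, hB₀ hx⟩
          · exact ⟨1, by simp, hb⟩
        | one => exact ⟨0, by simp, one_mem B⟩
        | mul x y _ _ ihx ihy =>
          obtain ⟨n, hn, hxB⟩ := ihx (by
            first | assumption | exact (show x ∈ B from sup_le hB₀ (Subgroup.zpowers_le.mpr hb) (by
              rw [Subgroup.zpowers_eq_closure, ← Subgroup.closure_eq B₀, ← Subgroup.closure_union]
              assumption)))
          obtain ⟨m, hm, hyB⟩ := ihy (by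
            first | assumption | exact (show y ∈ B from sup_le hB₀ (Subgroup.zpowers_le.mpr hb) (by
              rw [Subgroup.zpowers_eq_closure, ← Subgroup.closure_eq B₀, ← Subgroup.closure_union]
              assumption)))
          refine ⟨n + m, ?_, mul_mem hxB hyB⟩
          have e : x * y * (b ^ (n + m))⁻¹ = (x * (b ^ n)⁻¹) * (y * (b ^ m)⁻¹) := by
            have hc := (hcomm y hyB _ (zpow_mem hb n)).inv_right
            calc x * y * (b ^ (n + m))⁻¹ = x * (y * (b ^ n)⁻¹) * (b ^ m)⁻¹ := by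
                  rw [add_comm, zpow_add, mul_inv_rev]; group
              _ = x * ((b ^ n)⁻¹ * y) * (b ^ m)⁻¹ := by rw [hc.eq]
              _ = _ := by group
          rw [e]
          exact mul_mem hn hm
        | inv x _ ihx =>
          obtain ⟨n, hn, hxB⟩ := ihx (by
            first | assumption | exact (show x ∈ B from sup_le hB₀ (Subgroup.zpowers_le.mpr hb) (by
              rw [Subgroup.zpowers_eq_closure, ← Subgroup.closure_eq B₀, ← Subgroup.closure_union]
              assumption)))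
          refine ⟨-n, ?_, inv_mem hxB⟩
          have e : x⁻¹ * (b ^ (-n))⁻¹ = (x * (b ^ n)⁻¹)⁻¹ := by
            rw [zpow_neg, inv_inv, mul_inv_rev, inv_inv]
            exact ((hcomm x hxB _ (zpow_mem hb n)).inv_left).eq
          rw [e]
          exact inv_mem hn
      obtain ⟨n, hn, -⟩ := key
      have hpz : (0 : ℤ) < p := by exact_mod_cast hp.out.pos
      refine ⟨(n % p).toNat, ?_, ?_⟩
      · have := Int.emod_lt_of_pos n hpz; have := Int.emod_nonneg n hpz.ne'; omega
      · have h0 : (((n % p).toNat : ℕ) : ℤ) = n % p := Int.toNat_of_nonneg (Int.emod_nonneg n hpz.ne')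
        rw [← zpow_natCast, h0]
        have e : (b ^ n)⁻¹ * b ^ ((p : ℤ) * (n / p)) = (b ^ (n % p))⁻¹ := by
          rw [← zpow_neg, ← zpow_add, ← zpow_neg]; congr 1
          have := Int.mul_ediv_add_emod n p; linarith
        rw [← e, ← mul_assoc]
        refine mul_mem hn (Subgroup.mem_sup_right ?_)
        rw [zpow_mul, zpow_natCast]
        exact Subgroup.zpow_mem_zpowers _ _
    have hB₁lt : Nat.card B ≤ p * Nat.card B₁ := by
      have hsurj : Function.Surjective (fun x : Fin p × B₁ => (⟨(x.2 : MulAut V) * b ^ (x.1 : ℕ),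
          mul_mem (hB₁B x.2.2) (pow_mem hb _)⟩ : B)) := by
        rintro ⟨g, hg⟩
        obtain ⟨r, hr, hgr⟩ := hwrite g hg
        exact ⟨(⟨r, hr⟩, ⟨_, hgr⟩), Subtype.ext (inv_mul_cancel_right g (b ^ r))⟩
      simpa [Nat.card_prod] using Nat.card_le_card_of_surjective _ hsurj
    have hne : B₁ ≠ B := by
      intro h1
      refine hbB₀ ?_
      have : b ∈ B₁ := h1 ▸ hb
      have hnorm : Subgroup.zpowers (b ^ p) ≤ Subgroup.normalizer (B₀ : Set (MulAut V)) := by
        rw [Subgroup.zpowers_le, Subgroup.mem_normalizer_iff]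
        intro a
        constructor
        · intro ha
          rwa [(hcomm _ (pow_mem hb p) a (hB₀ ha)).eq, mul_inv_cancel_right]
        · intro ha
          have h2 := (hcomm _ (inv_mem (pow_mem hb p)) _ (hB₀ ha)).eq
          have h3 : b ^ p * a * (b ^ p)⁻¹ = a := by
            have h4 : a = (b ^ p)⁻¹ * (b ^ p * a * (b ^ p)⁻¹) * b ^ p := by group
            rw [h2, inv_mul_cancel_right] at h4
            exact h4.symm
          rwa [h3] at ha
      have hset : ((B₁ : Subgroup (MulAut V)) : Set (MulAut V)) = _ :=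
        Subgroup.coe_mul_of_right_le_normalizer_left B₀ _ hnorm
      rw [← SetLike.mem_coe, hset] at this
      obtain ⟨s, hs, t, ht, hst⟩ := this
      obtain ⟨j, rfl⟩ := Subgroup.mem_zpowers_iff.mp ht
      have hmem : b ^ (1 - (p : ℤ) * j) ∈ B₀ := by
        rw [zpow_sub, zpow_one, zpow_mul, zpow_natCast]
        nth_rewrite 1 [← hst]
        dsimp only
        rwa [mul_inv_cancel_right]
      obtain ⟨i, hi⟩ := hBp ⟨b, hb⟩
      replace hi : b ^ p ^ i = 1 := congrArg Subtype.val hi
      obtain ⟨u, v', huv⟩ := (IsCoprime.pow_left (⟨j, 1, by ring⟩ : IsCoprime (p : ℤ) (1 - (p : ℤ) * j)) :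
        IsCoprime ((p : ℤ) ^ i) (1 - (p : ℤ) * j))
      rw [← zpow_one b, ← huv, zpow_add, mul_comm u, zpow_mul, mul_comm v', zpow_mul,
        show ((p : ℤ) ^ i) = ((p ^ i : ℕ) : ℤ) by push_cast; rfl, zpow_natCast, hi, one_zpow, one_mul]
      exact zpow_mem hmem _
    have hB₁card : Nat.card B₁ < Nat.card B :=
      lt_of_le_of_ne (Subgroup.card_le_of_le hB₁B) fun h => hne (Subgroup.eq_of_le_of_card_ge hB₁B h.ge)
    have hB₁1 : B₁ ≠ ⊥ := by
      intro h
      rw [h, Subgroup.card_bot, mul_one] at hB₁lt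
      omega
    have hfix : autFix (B₁ : Set (MulAut V)) = autFix (B : Set (MulAut V)) := by
      have hle : autFix (B : Set (MulAut V)) ≤ autFix (B₁ : Set (MulAut V)) := autFix_anti hB₁B
      refine (Subgroup.eq_of_le_of_card_ge hle ?_).symm
      by_contra hgt
      push Not at hgt
      obtain ⟨x, hx⟩ := IsPGroup.iff_card.mp (hV.to_subgroup (autFix (B : Set (MulAut V))))
      obtain ⟨y, hy⟩ := IsPGroup.iff_card.mp (hV.to_subgroup (autFix (B₁ : Set (MulAut V))))
      rw [hx, hy] at hgt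
      have hxy : x + 1 ≤ y := (Nat.pow_lt_pow_iff_right hp.out.one_lt).mp hgt
      have h2 : p * p ^ x ≤ p ^ y := by
        rw [← pow_succ']; exact Nat.pow_le_pow_right hp.out.pos hxy
      have hoff₁ : ¬ Nat.card V ≤ Nat.card B₁ * Nat.card (autFix (B₁ : Set (MulAut V))) := fun h =>
        absurd (hmin B₁ ⟨hB₁B.trans hBA, hB₁1, h⟩) (not_le.mpr hB₁card)
      refine hoff₁ (hB.trans ?_)
      rw [hx, hy]
      calc Nat.card B * p ^ x ≤ p * Nat.card B₁ * p ^ x := Nat.mul_le_mul_right _ hB₁lt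
        _ = Nat.card B₁ * (p * p ^ x) := by ring
        _ ≤ _ := Nat.mul_le_mul_left _ h2
    have hbz : IsPGroup p (Subgroup.zpowers b) := hBp.to_le (Subgroup.zpowers_le.mpr hb)
    have hbW : ∀ w ∈ autFix (B₀ : Set (MulAut V)), b w ∈ autFix (B₀ : Set (MulAut V)) := by
      intro w hw g hg
      rw [show g (b w) = (g * b) w from rfl, (hcomm g (hB₀ hg) b hb).eq, MulAut.mul_apply, hw g hg]
    have hb' : b v = v := fix_of_fix_pow hV hbz hbW (fun w hw hwp => by
      have : w ∈ autFix (B₁ : Set (MulAut V)) := by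
        intro g hg
        obtain ⟨r, rfl⟩ : ∃ r : MulAut V, r = g := ⟨g, rfl⟩
        have hclos : B₁ ≤ (MulAction.stabilizer (MulAut V) w) := sup_le
          (fun x hx => hw x hx) (Subgroup.zpowers_le.mpr hwp)
        exact hclos hg
      rw [hfix] at this
      exact this b hb) v hv
    have hstab : B₀ ⊔ Subgroup.zpowers b ≤ MulAction.stabilizer (MulAut V) v :=
      sup_le (fun x hx => hv x hx) (Subgroup.zpowers_le.mpr hb')
    exact hstab (hgen hf)
  -- downward induction
  have main : ∀ B₀ : Subgroup (MulAut V), B₀ ≤ B → ∀ c ∈ Q, (∀ f ∈ B₀, Commute f c) →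
      ∀ f ∈ B, Commute f c := by
    intro B₀
    induction B₀ using (wellFounded_gt (α := Subgroup (MulAut V))).induction with
    | _ B₀ ih =>
    intro hB₀ c hc hcB₀ f hf
    by_cases hex : ∃ b ∈ B, B ≤ B₀ ⊔ Subgroup.zpowers b
    · obtain ⟨b, hb, hgen⟩ := hex
      have hdQ : f * c * f⁻¹ * c⁻¹ ∈ Q :=
        mul_mem ((Subgroup.mem_normalizer_iff.mp (hAQ (hBA hf)) c).mp hc) (inv_mem hc)
      have hk := Nat.Coprime.coprime_dvd_left (Q.orderOf_dvd_natCard hdQ) hQ
      have hd1 : f * c * f⁻¹ * c⁻¹ = 1 := by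
        refine eq_one_of_fix_centralizer hV (hBp.to_le hB₀) hk (pow_orderOf_eq_one _) ?_ ?_
        · intro g hg
          have h1 : Commute g f := hcomm g (hB₀ hg) f hf
          exact ((h1.mul_right (hcB₀ g hg)).mul_right h1.inv_right).mul_right (hcB₀ g hg).inv_right
        · intro v hv
          have h1 : c⁻¹ v ∈ autFix (B₀ : Set (MulAut V)) := fun g hg => by
            rw [show g (c⁻¹ v) = (g * c⁻¹) v from rfl, (hcB₀ g hg).inv_right.eq, MulAut.mul_apply, hv g hg]
          have h2 : f⁻¹ (c⁻¹ v) = c⁻¹ v := hcyc B₀ hB₀ b hb hgen _ h1 f⁻¹ (inv_mem hf)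
          rw [MulAut.mul_apply, MulAut.mul_apply, MulAut.mul_apply, h2, show c (c⁻¹ v) = v from MulEquiv.apply_symm_apply c v, hcyc B₀ hB₀ b hb hgen v hv f hf]
      rw [commute_iff_eq, ← mul_inv_eq_iff_eq_mul, ← mul_inv_eq_one]
      exact hd1
    · push Not at hex
      set H := Subgroup.centralizer (B₀ : Set (MulAut V)) with hH
      have hBH : B ≤ H := fun x hx => Subgroup.mem_centralizer_iff.mpr fun y hy =>
        (hcomm y (hB₀ hy) x hx).eq
      have hn : (B₀.subgroupOf H).Normal := ⟨fun x hx y => by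
        rw [Subgroup.mem_subgroupOf] at hx ⊢
        have h1 : (y : MulAut V) * (x : MulAut V) * (y : MulAut V)⁻¹ = (x : MulAut V) := by
          rw [← Subgroup.mem_centralizer_iff.mp y.2 _ hx, mul_inv_cancel_right]
        simpa [h1] using hx⟩
      set π := QuotientGroup.mk' (B₀.subgroupOf H) with hπ
      set Bb := (B.subgroupOf H).map π with hBb
      set Kb := (Q.subgroupOf H).map π with hKb
      have : IsMulCommutative (B.subgroupOf H) := ⟨⟨fun x y =>
        Subtype.ext (Subtype.ext (hcomm _ x.2 _ y.2))⟩⟩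
      have hBbc : IsMulCommutative Bb := Subgroup.map_isMulCommutative _ _
      have hπ1 : ∀ x : H, π x = 1 → (x : MulAut V) ∈ B₀ := fun x hx => (QuotientGroup.eq_one_iff x).mp hx
      have hnc : ¬ IsCyclic Bb := by
        intro hcy
        obtain ⟨⟨_, b, hb, rfl⟩, hgen⟩ := hcy.exists_generator
        refine hex b hb fun g hg => ?_
        obtain ⟨i, hi⟩ := Subgroup.mem_zpowers_iff.mp (hgen ⟨π ⟨g, hBH hg⟩, ⟨_, hg, rfl⟩⟩)
        have hi' : π b ^ i = π ⟨g, hBH hg⟩ := by simpa using congrArg Subtype.val hi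
        have h1 : π ((b ^ i)⁻¹ * ⟨g, hBH hg⟩) = 1 := by rw [map_mul, map_inv, map_zpow, hi', inv_mul_cancel]
        have h2 := hπ1 _ h1
        rw [show g = ((b : MulAut V) ^ i) * ((((b ^ i)⁻¹ * ⟨g, hBH hg⟩ : H)) : MulAut V) by simp]
        exact mul_mem (Subgroup.mem_sup_right (Subgroup.zpow_mem_zpowers _ _)) (Subgroup.mem_sup_left h2)
      have hnorm : Bb ≤ Subgroup.normalizer (Kb : Set _) := by
        refine (Subgroup.map_mono ?_).trans (Subgroup.le_normalizer_map π)
        intro x hx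
        rw [Subgroup.mem_normalizer_iff]
        intro y
        simp only [Subgroup.mem_subgroupOf, Subgroup.coe_mul, Subgroup.coe_inv]
        exact Subgroup.mem_normalizer_iff.mp (hAQ (hBA hx)) _
      have hcop : (Nat.card Bb).Coprime (Nat.card Kb) := by
        obtain ⟨i, hi⟩ := IsPGroup.iff_card.mp ((hBp.comap_subtype (K := H)).map π)
        rw [hBb, show B.subgroupOf H = Subgroup.comap H.subtype B from rfl, hi]
        refine Nat.Coprime.pow_left i (Nat.Coprime.symm (Nat.Coprime.coprime_dvd_left ?_ hQ))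
        exact (Subgroup.card_map_dvd _ π).trans (Subgroup.card_comap_dvd_of_injective Q H.subtype H.subtype_injective)
      have hgenK := Grp.generated_by_centralizers Bb Kb hnc hnorm hcop
      have hKC : Kb ≤ Subgroup.centralizer (Bb : Set _) := by
        rw [← hgenK]
        refine iSup₂_le fun ab hab => ?_
        obtain ⟨⟨a, ha, rfl⟩, hane⟩ := hab
        rintro _ ⟨⟨k, hk, rfl⟩, hka⟩
        rw [Subgroup.mem_centralizer_iff]
        rintro _ ⟨g, hg, rfl⟩
        have hk1 : π (a * k * a⁻¹ * k⁻¹) = 1 := by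
          have := Subgroup.mem_centralizer_singleton_iff.mp hka
          rw [map_mul, map_mul, map_mul, map_inv, map_inv, ← this, mul_inv_cancel_right, mul_inv_cancel]
        have hmem := hπ1 _ hk1
        have hQm : ((a * k * a⁻¹ * k⁻¹ : H) : MulAut V) ∈ Q := by
          simp only [Subgroup.coe_mul, Subgroup.coe_inv]
          exact mul_mem ((Subgroup.mem_normalizer_iff.mp (hAQ (hBA ha)) _).mp hk) (inv_mem hk)
        have hone : ((a * k * a⁻¹ * k⁻¹ : H) : MulAut V) = 1 := by
          obtain ⟨i, hi⟩ := (hBp.to_le hB₀) ⟨_, hmem⟩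
          exact orderOf_eq_one_iff.mp (Nat.eq_one_of_dvd_coprimes
            ((Nat.Coprime.coprime_dvd_left (Q.orderOf_dvd_natCard hQm) hQ).pow_right i) dvd_rfl
            (orderOf_dvd_of_pow_eq_one (congrArg Subtype.val hi)))
        have hak : Commute (a : MulAut V) (k : MulAut V) := by
          rw [commute_iff_eq, ← mul_inv_eq_iff_eq_mul, ← mul_inv_eq_one]
          simpa using hone
        have hlt : B₀ < B₀ ⊔ Subgroup.zpowers (a : MulAut V) :=
          lt_of_le_of_ne le_sup_left fun e => hane ((QuotientGroup.eq_one_iff a).mpr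
            (show (a : MulAut V) ∈ B₀ from e.symm ▸ Subgroup.mem_sup_right (Subgroup.mem_zpowers _)))
        have hcommk : ∀ x ∈ B₀ ⊔ Subgroup.zpowers (a : MulAut V), Commute x (k : MulAut V) := by
          intro x hx
          have hle : B₀ ⊔ Subgroup.zpowers (a : MulAut V) ≤ Subgroup.centralizer {(k : MulAut V)} :=
            sup_le (fun y hy => Subgroup.mem_centralizer_singleton_iff.mpr
              (Subgroup.mem_centralizer_iff.mp k.2 y hy))
              (Subgroup.zpowers_le.mpr (Subgroup.mem_centralizer_singleton_iff.mpr hak.eq))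
          exact Subgroup.mem_centralizer_singleton_iff.mp (hle hx)
        have := ih _ hlt (sup_le hB₀ (Subgroup.zpowers_le.mpr ha)) k hk hcommk g hg
        rw [← map_mul, ← map_mul]
        exact congrArg π (Subtype.ext this.eq)
      have hcH : c ∈ H := Subgroup.mem_centralizer_iff.mpr fun y hy => (hcB₀ y hy).eq
      have h1 : π ⟨f, hBH hf⟩ * π ⟨c, hcH⟩ = π ⟨c, hcH⟩ * π ⟨f, hBH hf⟩ :=
        Subgroup.mem_centralizer_iff.mp (hKC ⟨⟨c, hcH⟩, hc, rfl⟩) _ ⟨⟨f, hBH hf⟩, hf, rfl⟩
      have h2 : π (⟨f, hBH hf⟩ * ⟨c, hcH⟩ * ⟨f, hBH hf⟩⁻¹ * ⟨c, hcH⟩⁻¹) = 1 := by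
        rw [map_mul, map_mul, map_mul, map_inv, map_inv, h1, mul_inv_cancel_right, mul_inv_cancel]
      have h3 := hπ1 _ h2
      have hQm : f * c * f⁻¹ * c⁻¹ ∈ Q :=
        mul_mem ((Subgroup.mem_normalizer_iff.mp (hAQ (hBA hf)) c).mp hc) (inv_mem hc)
      obtain ⟨i, hi⟩ := (hBp.to_le hB₀) ⟨_, h3⟩
      rw [commute_iff_eq, ← mul_inv_eq_iff_eq_mul, ← mul_inv_eq_one]
      exact orderOf_eq_one_iff.mp (Nat.eq_one_of_dvd_coprimes
        ((Nat.Coprime.coprime_dvd_left (Q.orderOf_dvd_natCard hQm) hQ).pow_right i) dvd_rfl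
        (orderOf_dvd_of_pow_eq_one (congrArg Subtype.val hi)))
  refine hB1 (eq_bot_iff.mpr fun f hf => Subgroup.mem_bot.mpr (hfaith f (hBA hf) fun q hq => ?_))
  exact main ⊥ bot_le q hq (fun g hg => by rw [Subgroup.mem_bot.mp hg]; exact Commute.one_left q) f hf

end Cfsg.Agent.Invol
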