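import Cfsg.Agent.Lib.Invol.Section
import Cfsg.Agent.Lib.Invol.Transvection
import Cfsg.Agent.Lib.Grp.Coprime

/-!
# Finding the symmetric group of degree four as a section
-/

set_option autoImplicit false

namespace Cfsg.Agent.Invol

open scoped Pointwise

/-- `U` of order four, `r` of order three fixed point free on it, `y` inverting up to `⟨r⟩`. -/
theorem isSectionOf_perm_four {X : Type*} [Group X] [Finite X] (U : Subgroup X)
    (hU : Nat.card U = 4) {r y : X} (hr : r ^ 3 = 1) (hrU : r ∈ Subgroup.normalizer (U : Set X))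
    (hfix : ∀ u ∈ U, r * u * r⁻¹ = u → u = 1)
    (hyr : y ∈ Subgroup.normalizer (Subgroup.zpowers r : Set X))
    (hyU : y ∈ Subgroup.normalizer (U : Set X)) (hy2 : ∀ u ∈ U, y ^ 2 * u = u * y ^ 2)
    (hy : ∃ u ∈ U, y * u ≠ u * y) :
    IsSectionOf (Equiv.Perm (Fin 4)) X := by
  set N : Subgroup X := Subgroup.closure {r, y} with hN
  have hrN : r ∈ N := Subgroup.subset_closure (by simp)
  have hyN : y ∈ N := Subgroup.subset_closure (by simp)
  have hNU : N ≤ Subgroup.normalizer (U : Set X) := by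
    rw [hN, Subgroup.closure_le]
    rintro a (rfl | rfl)
    · exact hrU
    · exact hyU
  have hNr : N ≤ Subgroup.normalizer (Subgroup.zpowers r : Set X) := by
    rw [hN, Subgroup.closure_le]
    rintro a (rfl | rfl)
    · exact Subgroup.le_normalizer (Subgroup.mem_zpowers _)
    · exact hyr
  have hcop : (Nat.card U).Coprime (Nat.card (Subgroup.zpowers r)) := by
    rw [hU, Nat.card_zpowers]
    exact Nat.Coprime.coprime_dvd_right (orderOf_dvd_of_pow_eq_one hr) (by norm_num)
  have hUN : U ⊓ N = ⊥ := by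
    rw [eq_bot_iff]
    rintro u ⟨hu, huN⟩
    refine Subgroup.mem_bot.mpr (hfix u hu ?_)
    have h1 : u * r * u⁻¹ * r⁻¹ ∈ U ⊓ Subgroup.zpowers r := by
      refine ⟨?_, (Subgroup.zpowers r).mul_mem
        ((Subgroup.mem_normalizer_iff.mp (hNr huN) r).mp (Subgroup.mem_zpowers r))
        ((Subgroup.zpowers r).inv_mem (Subgroup.mem_zpowers r))⟩
      have h2 : r * u⁻¹ * r⁻¹ ∈ U := (Subgroup.mem_normalizer_iff.mp hrU u⁻¹).mp (U.inv_mem hu)
      have := U.mul_mem hu h2
      simpa [mul_assoc] using this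
    rw [Grp.inf_eq_bot_of_coprime hcop, Subgroup.mem_bot, mul_inv_eq_one, mul_inv_eq_iff_eq_mul] at h1
    rw [← h1, mul_inv_cancel_right]
  set H : Subgroup X := N ⊔ U with hH
  have hcard : Nat.card H = Nat.card N * 4 := by
    have h1 := Grp.card_sup_mul_card_inf hNU
    rwa [inf_comm, hUN, Subgroup.card_bot, mul_one, hU] at h1
  set N' := N.subgroupOf H with hN'
  have hN'i : N'.index = 4 := by
    have h1 := Grp.card_mul_relIndex (le_sup_left : N ≤ H)
    exact Nat.eq_of_mul_eq_mul_left Nat.card_pos (h1.trans hcard)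
  set U' := U.subgroupOf H with hU'
  have hUn : U'.Normal :=
    Subgroup.normal_subgroupOf_of_le_normalizer (sup_le hNU Subgroup.le_normalizer)
  set D := N' ⊓ Subgroup.centralizer (U' : Set H) with hD
  have hDn : D.Normal := by
    rw [← Subgroup.normalizer_eq_top_iff, eq_top_iff]
    have hgen : N' ⊔ U' = ⊤ := by
      rw [← Subgroup.subgroupOf_sup le_sup_left le_sup_right]
      exact Subgroup.subgroupOf_self H
    rw [← hgen]
    refine sup_le ?_ ?_
    · refine le_trans (le_inf Subgroup.le_normalizer (fun a _ => ?_)) ?_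
        (b := Subgroup.normalizer (N' : Set H) ⊓ Subgroup.normalizer (Subgroup.centralizer (U' : Set H) : Set H))
      · rw [Subgroup.normalizer_eq_top_iff.mpr (Subgroup.normal_centralizer (H := U'))]
        exact Subgroup.mem_top a
      · exact Subgroup.inf_normalizer_le_normalizer_inf
    · intro u hu
      refine Subgroup.centralizer_le_normalizer _ (Subgroup.mem_centralizer_iff.mpr fun a ha => ?_)
      exact (Subgroup.mem_centralizer_iff.mp ha.2 u hu).symm
  have hker : N'.normalCore ≤ D := by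
    refine le_inf N'.normalCore_le fun a ha => Subgroup.mem_centralizer_iff.mpr fun u hu => ?_
    have h1 : u * a * u⁻¹ * a⁻¹ ∈ U' ⊓ N' := by
      refine ⟨?_, N'.mul_mem (N'.normalCore_le ((Subgroup.normalCore_normal N').conj_mem a ha u))
        (N'.inv_mem (N'.normalCore_le ha))⟩
      have := U'.mul_mem hu (hUn.conj_mem _ (U'.inv_mem hu) a)
      simpa [mul_assoc] using this
    have h2' : ((u * a * u⁻¹ * a⁻¹ : H) : X) ∈ U ⊓ N := h1
    rw [hUN] at h2'
    have h2 : ((u * a * u⁻¹ * a⁻¹ : H) : X) = 1 := Subgroup.mem_bot.mp h2'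
    have h3 : u * a * u⁻¹ * a⁻¹ = 1 := Subtype.ext h2
    rwa [mul_inv_eq_one, mul_inv_eq_iff_eq_mul] at h3
  have hUne : ∃ u ∈ U, u ≠ 1 := by
    obtain ⟨u, hu, -⟩ := hy
    by_contra h
    push Not at h
    have : U = ⊥ := eq_bot_iff.mpr fun a ha => Subgroup.mem_bot.mpr (h a ha)
    rw [this, Subgroup.card_bot] at hU
    omega
  have h6 : 6 ∣ D.relIndex N' := by
    have : (D.subgroupOf N').Normal := hDn.subgroupOf N'
    have hord : ∀ (q : ℕ), q.Prime → ∀ a : N', a ^ q ∈ D.subgroupOf N' → a ∉ D.subgroupOf N' →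
        q ∣ D.relIndex N' := by
      intro q hq a ha hna
      have h1 : orderOf (a : N' ⧸ D.subgroupOf N') = q := by
        have := Fact.mk hq
        refine orderOf_eq_prime ?_ ?_
        · rw [← QuotientGroup.mk_pow, QuotientGroup.eq_one_iff]; exact ha
        · rwa [ne_eq, QuotientGroup.eq_one_iff]
      exact h1 ▸ orderOf_dvd_natCard _
    have h3 : 3 ∣ D.relIndex N' := by
      refine hord 3 (by norm_num) ⟨⟨r, le_sup_left (α := Subgroup X) hrN⟩, hrN⟩ ?_ ?_
      · convert one_mem (D.subgroupOf N')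
        exact Subtype.ext (Subtype.ext hr)
      · rintro ⟨-, hc⟩
        obtain ⟨u, hu, hu1⟩ := hUne
        have h1 := congrArg Subtype.val
          (Subgroup.mem_centralizer_iff.mp hc ⟨u, le_sup_right (α := Subgroup X) hu⟩ hu)
        refine hu1 (hfix u hu ?_)
        exact mul_inv_eq_iff_eq_mul.mpr h1.symm
    have h2 : 2 ∣ D.relIndex N' := by
      refine hord 2 (by norm_num) ⟨⟨y, le_sup_left (α := Subgroup X) hyN⟩, hyN⟩ ?_ ?_
      · refine ⟨N'.pow_mem hyN 2, Subgroup.mem_centralizer_iff.mpr fun u hu => ?_⟩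
        refine Subtype.ext ?_
        exact (hy2 u hu).symm
      · rintro ⟨-, hc⟩
        obtain ⟨u, hu, hne⟩ := hy
        exact hne (congrArg Subtype.val
          (Subgroup.mem_centralizer_iff.mp hc ⟨u, le_sup_right (α := Subgroup X) hu⟩ hu)).symm
    exact Nat.Coprime.mul_dvd_of_dvd_of_dvd (by norm_num : (2 : ℕ).Coprime 3) h2 h3
  let f : H →* Equiv.Perm (H ⧸ N') := MulAction.toPermHom H (H ⧸ N')
  have hfker : f.ker = N'.normalCore := (Subgroup.normalCore_eq_ker N').symm
  have hperm : Nat.card (Equiv.Perm (H ⧸ N')) = 24 := by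
    rw [Nat.card_perm, ← Subgroup.index_eq_card, hN'i]; rfl
  have hrange : 24 ≤ Nat.card f.range := by
    rw [← Subgroup.index_ker, hfker]
    refine le_trans ?_ (Nat.le_of_dvd (Nat.pos_of_ne_zero Subgroup.index_ne_zero_of_finite)
      (Subgroup.index_dvd_of_le hker))
    rw [← Subgroup.relIndex_mul_index (show D ≤ N' from inf_le_left), hN'i]
    have : 0 < D.relIndex N' := Nat.pos_of_ne_zero Subgroup.index_ne_zero_of_finite
    have := Nat.le_of_dvd this h6
    omega
  have hsurj : Function.Surjective f := by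
    rw [← MonoidHom.range_eq_top]
    exact Subgroup.eq_top_of_le_card _ (hperm ▸ hrange)
  have hc4 : Nat.card (H ⧸ N') = 4 := by rw [← Subgroup.index_eq_card, hN'i]
  let e : (H ⧸ N') ≃ Fin 4 := Finite.equivFinOfCardEq hc4
  exact ⟨H, e.permCongrHom.toMonoidHom.comp f, e.permCongrHom.surjective.comp hsurj⟩

variable {V : Type*} [CommGroup V] [Finite V]

/-- An element of odd order inverted by a transvection, with fixed group of index at most four. -/
theorem card_autDiff_range_eq_four (hV : IsPGroup 2 V) {b z : MulAut V} {k : ℕ} (hk : k.Coprime 2)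
    (hzk : z ^ k = 1) (hz : z ≠ 1) (hbz : b * z * b⁻¹ = z⁻¹)
    (hidx : (autFix ({z} : Set (MulAut V))).index ≤ 4) :
    Nat.card (autDiff z).range = 4 ∧ z ^ 3 = 1 ∧
      (∀ u ∈ (autDiff z).range, z u = u → u = 1) ∧
      (∀ u ∈ (autDiff z).range, b u ∈ (autDiff z).range) ∧
      ∃ u ∈ (autDiff z).range, b u ≠ u := by
  set R := (autDiff z).range with hR
  have hker : (autDiff z).ker = autFix ({z} : Set (MulAut V)) := by
    ext v
    simp [MonoidHom.mem_ker, autDiff_apply, div_eq_one, mem_autFix]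
  have hzR : ∀ u ∈ R, z u ∈ R := autDiff_invariant (Commute.refl z)
  have hfree : ∀ u ∈ R, z u = u → u = 1 := by
    rintro _ ⟨v, rfl⟩ hu
    set w := autDiff z v with hw
    have hzv : z v = v * w := by rw [hw, autDiff_apply, mul_div_cancel]
    have hn : ∀ n : ℕ, (z ^ n) v = v * w ^ n := by
      intro n
      induction n with
      | zero => simp
      | succ n ih =>
        rw [pow_succ', MulAut.mul_apply, ih, map_mul, map_pow, hu, hzv, pow_succ', mul_assoc]
    have hwk : w ^ k = 1 := by simpa [hzk] using (hn k).symm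
    obtain ⟨n, hn'⟩ := hV w
    have h := pow_gcd_eq_one.mpr ⟨hwk, hn'⟩
    rwa [Nat.Coprime.gcd_eq_one (hk.pow_right n), pow_one] at h
  have hcard : Nat.card R ≤ 4 := by
    rw [hR, ← Subgroup.index_ker, hker]; exact hidx
  have hR1 : R ≠ ⊥ := by
    intro h
    refine hz (MulEquiv.ext fun v => ?_)
    have : autDiff z v ∈ R := ⟨v, rfl⟩
    rwa [h, Subgroup.mem_bot, autDiff_apply, div_eq_one] at this
  obtain ⟨u, hu, hu1⟩ := (Subgroup.bot_or_exists_ne_one R).resolve_left hR1
  have hne : ∀ u ∈ R, u ≠ 1 → z u ≠ u ∧ z (z u) ≠ u ∧ z (z u) ≠ z u ∧ z u ≠ 1 ∧ z (z u) ≠ 1 := by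
    intro u hu hu1
    have h1 : z u ≠ u := fun h => hu1 (hfree u hu h)
    have h2 : z u ≠ 1 := fun h => hu1 (z.injective (h.trans (map_one z).symm))
    refine ⟨h1, ?_, fun h => h1 (z.injective h), h2, fun h => h2 (z.injective (h.trans (map_one z).symm))⟩
    intro h
    obtain ⟨m, hm⟩ : Odd k := (Nat.coprime_two_right).mp hk
    have hit : ∀ i : ℕ, (z ^ (2 * i)) u = u := by
      intro i
      induction i with
      | zero => simp
      | succ i ih =>
        rw [show 2 * (i + 1) = 2 * i + 1 + 1 from by omega, pow_succ, pow_succ, MulAut.mul_apply,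
          MulAut.mul_apply, h, ih]
    refine h1 ?_
    have h3 : (z ^ k) u = z u := by rw [hm, pow_succ', MulAut.mul_apply, hit m]
    rw [hzk, MulAut.one_apply] at h3
    exact h3.symm
  have hset : ∀ u ∈ R, u ≠ 1 → Nat.card R = 4 ∧ ∀ a ∈ R, a = 1 ∨ a = u ∨ a = z u ∨ a = z (z u) := by
    intro u hu hu1
    obtain ⟨h1, h2, h3, h4, h5⟩ := hne u hu hu1
    have hinj : Function.Injective
        (![⟨1, one_mem R⟩, ⟨u, hu⟩, ⟨z u, hzR u hu⟩, ⟨z (z u), hzR _ (hzR u hu)⟩] : Fin 4 → R) := by
      intro i j hij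
      fin_cases i <;> fin_cases j <;> simp [Subtype.ext_iff] at hij ⊢ <;>
        first
          | rfl
          | exact absurd hij (Ne.symm hu1)
          | exact absurd hij hu1
          | exact absurd hij (Ne.symm h4)
          | exact absurd hij h4
          | exact absurd hij (Ne.symm h5)
          | exact absurd hij h5
          | exact absurd hij (Ne.symm h1)
          | exact absurd hij h1
          | exact absurd hij (Ne.symm h2)
          | exact absurd hij h2
          | exact absurd hij (Ne.symm h3)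
          | exact absurd hij h3
    have h44 : Nat.card R = 4 := by
      have := Nat.card_le_card_of_injective _ hinj
      rw [Nat.card_fin] at this
      omega
    refine ⟨h44, fun a ha => ?_⟩
    have hbij := (Nat.bijective_iff_injective_and_card _).mpr ⟨hinj, by rw [Nat.card_fin, h44]⟩
    obtain ⟨i, hi⟩ := hbij.2 ⟨a, ha⟩
    fin_cases i <;> simp [Subtype.ext_iff] at hi <;> simp [← hi]
  have h3R : ∀ w ∈ R, z (z (z w)) = w := by
    intro w hw
    rcases eq_or_ne w 1 with rfl | hw1
    · simp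
    obtain ⟨h1, h2, h3, h4, h5⟩ := hne w hw hw1
    rcases (hset w hw hw1).2 _ (hzR _ (hzR _ (hzR _ hw))) with h | h | h | h
    · exact absurd (z.injective (h.trans (map_one z).symm)) h5
    · exact h
    · exact absurd (z.injective h) h2
    · exact absurd (z.injective (z.injective h)) h1
  refine ⟨(hset u hu hu1).1, MulEquiv.ext fun v => ?_, hfree, ?_, ?_⟩
  · have h0 : autDiff z v ∈ R := ⟨v, rfl⟩
    set w := autDiff z v with hw
    have hzv : z v = v * w := by rw [hw, autDiff_apply, mul_div_cancel]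
    have hc3 : (z ^ 3) v = v * (w * z w * z (z w)) := by
      rw [pow_three, MulAut.mul_apply, MulAut.mul_apply, hzv, map_mul, hzv, map_mul, map_mul, hzv]
      simp only [mul_assoc]
    have hs : w * z w * z (z w) = 1 := by
      refine hfree _ (mul_mem (mul_mem h0 (hzR _ h0)) (hzR _ (hzR _ h0))) ?_
      rw [map_mul, map_mul, h3R w h0, mul_comm, mul_assoc]
    rw [hc3, hs, mul_one]
    rfl
  · rintro _ ⟨v, rfl⟩
    have hbz' : ∀ a : V, b (z a) = (z⁻¹) (b a) := fun a => by
      rw [← hbz]; simp [MulAut.mul_apply]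
    refine ⟨(z⁻¹) (b v)⁻¹, ?_⟩
    rw [autDiff_apply, autDiff_apply, map_div, hbz', map_inv, map_inv, MulAut.apply_inv_self,
      inv_div_inv]
  · by_contra h
    push Not at h
    obtain ⟨h1, h2, -⟩ := hne u hu hu1
    refine h2 ?_
    have h6 : b (z u) = (z⁻¹) (b u) := by rw [← hbz]; simp [MulAut.mul_apply]
    rw [h _ (hzR u hu), h u hu] at h6
    rw [h6, MulAut.apply_inv_self]

end Cfsg.Agent.Invol
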