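import Mathlib
import Cfsg.Prelude.Def_PLocal
import Cfsg.Agent.Lib.Invol.Section

/-!
# The abelian Thompson subgroup
-/

set_option autoImplicit false

namespace Cfsg.Agent.Invol

universe u

variable {P : Type*} [Group P] {Q : Type*} [Group Q]

theorem isMulCommutative_map (f : P →* Q) (A : Subgroup P) [IsMulCommutative A] :
    IsMulCommutative (A.map f) := by
  refine ⟨⟨fun a b => ?_⟩⟩
  obtain ⟨_, x, hx, rfl⟩ := a
  obtain ⟨_, y, hy, rfl⟩ := b
  refine Subtype.ext ?_
  change f x * f y = f y * f x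
  rw [← map_mul, ← map_mul]
  exact congrArg f (congrArg Subtype.val ((inferInstance : IsMulCommutative A).is_comm.comm ⟨x, hx⟩ ⟨y, hy⟩))

theorem isMulCommutative_iff_forall {A : Subgroup P} :
    IsMulCommutative A ↔ ∀ a ∈ A, ∀ b ∈ A, a * b = b * a :=
  ⟨fun h a ha b hb => congrArg Subtype.val (h.is_comm.comm ⟨a, ha⟩ ⟨b, hb⟩),
    fun h => ⟨⟨fun a b => Subtype.ext (h a a.2 b b.2)⟩⟩⟩

theorem isMulCommutative_zpowers (x : P) : IsMulCommutative (Subgroup.zpowers x) := by
  rw [isMulCommutative_iff_forall]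
  intro a ha b hb
  obtain ⟨i, rfl⟩ := Subgroup.mem_zpowers_iff.mp ha
  obtain ⟨j, rfl⟩ := Subgroup.mem_zpowers_iff.mp hb
  exact (Commute.zpow_zpow_self x i j).eq

theorem exists_maxAbelian (P : Type*) [Group P] [Finite P] :
    ∃ A, A ∈ Cfsg.maxAbelianSubgroups P := by
  obtain ⟨A, hA, hmax⟩ := Set.exists_max_image {A : Subgroup P | IsMulCommutative A}
    (fun A => Nat.card A) (Set.toFinite _) ⟨_, isMulCommutative_zpowers 1⟩
  exact ⟨A, hA, fun B hB => hmax B hB⟩

theorem thompsonSubgroupA_ne_bot [Finite P] [Nontrivial P] : Cfsg.thompsonSubgroupA P ≠ ⊥ := by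
  obtain ⟨A, hA⟩ := exists_maxAbelian P
  obtain ⟨x, hx⟩ := exists_ne (1 : P)
  intro h
  have h1 : A = ⊥ := le_bot_iff.mp (h ▸ le_sSup hA)
  have h2 := hA.2 _ (isMulCommutative_zpowers x)
  rw [h1, Subgroup.card_bot, Nat.card_zpowers] at h2
  exact hx (orderOf_eq_one_iff.mp (le_antisymm h2 (orderOf_pos x)))

theorem map_mem_maxAbelian [Finite P] (e : P ≃* Q) {A : Subgroup P}
    (hA : A ∈ Cfsg.maxAbelianSubgroups P) :
    A.map e.toMonoidHom ∈ Cfsg.maxAbelianSubgroups Q := by
  have := hA.1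
  refine ⟨isMulCommutative_map _ A, fun B hB => ?_⟩
  have h1 := hA.2 _ (isMulCommutative_map e.symm.toMonoidHom B)
  rwa [Subgroup.card_map_of_injective (f := e.symm.toMonoidHom) e.symm.injective,
    ← Subgroup.card_map_of_injective (f := e.toMonoidHom) (K := A) e.injective] at h1

theorem map_thompsonSubgroupA [Finite P] (e : P ≃* Q) :
    (Cfsg.thompsonSubgroupA P).map e.toMonoidHom = Cfsg.thompsonSubgroupA Q := by
  have : Finite Q := Finite.of_equiv P e.toEquiv
  refine le_antisymm ?_ (sSup_le fun B hB => ?_)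
  · rw [Subgroup.map_le_iff_le_comap]
    exact sSup_le fun A hA => Subgroup.map_le_iff_le_comap.mp (le_sSup (map_mem_maxAbelian e hA))
  · have h1 := le_sSup (map_mem_maxAbelian e.symm hB)
    intro x hx
    exact ⟨e.symm x, h1 ⟨x, hx, rfl⟩, e.apply_symm_apply x⟩

theorem isCharPFunctor_thompsonSubgroupA (p : ℕ) :
    Cfsg.IsCharPFunctor.{u} p (fun Q [Group Q] => Cfsg.thompsonSubgroupA Q) :=
  ⟨fun _ _ _ _ _ => thompsonSubgroupA_ne_bot, fun _ _ _ _ _ _ e => map_thompsonSubgroupA e⟩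

theorem isCharPFunctor_center (p : ℕ) [Fact p.Prime] :
    Cfsg.IsCharPFunctor.{u} p (fun Q [Group Q] => Subgroup.center Q) := by
  refine ⟨fun Q _ _ hQ hnt => ?_, fun Q R _ _ _ _ e => ?_⟩
  · exact (Subgroup.nontrivial_iff_ne_bot _).mp hQ.center_nontrivial
  · ext x
    constructor
    · rintro ⟨y, hy, rfl⟩
      refine Subgroup.mem_center_iff.mpr fun z => ?_
      obtain ⟨w, rfl⟩ := e.surjective z
      change e w * e y = e y * e w
      rw [← map_mul, ← map_mul, Subgroup.mem_center_iff.mp hy w]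
    · intro hx
      refine ⟨e.symm x, Subgroup.mem_center_iff.mpr fun w => e.injective ?_, e.apply_symm_apply x⟩
      rw [map_mul, map_mul, e.apply_symm_apply, Subgroup.mem_center_iff.mp hx]

theorem inducedFunctor_center {G : Type u} [Group G] (P : Subgroup G) :
    Cfsg.inducedFunctor (fun Q [Group Q] => Subgroup.center Q) P =
      P ⊓ Subgroup.centralizer (P : Set G) := by
  ext x
  constructor
  · rintro ⟨y, hy, rfl⟩
    exact ⟨y.2, Subgroup.mem_centralizer_iff.mpr fun z hz =>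
      congrArg Subtype.val (Subgroup.mem_center_iff.mp hy ⟨z, hz⟩)⟩
  · rintro ⟨hx, hc⟩
    exact ⟨⟨x, hx⟩, Subgroup.mem_center_iff.mpr fun z =>
      Subtype.ext (Subgroup.mem_centralizer_iff.mp hc z z.2), rfl⟩

theorem inducedFunctor_thompsonSubgroupA {G : Type u} [Group G] (P : Subgroup G) :
    Cfsg.inducedFunctor (fun Q [Group Q] => Cfsg.thompsonSubgroupA Q) P =
      Cfsg.thompsonSubgroupAOf P := rfl

end Cfsg.Agent.Invol
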