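import Cfsg.Agent.Lib.Invol.ThompsonReduction
import Cfsg.Agent.Lib.Invol.ThompsonJ
import Cfsg.Agent.Lib.Invol.SFour

/-!
# Thompson's normal p-complement theorem
-/

set_option autoImplicit false

open scoped Pointwise

namespace Cfsg.Agent.Invol

universe u

variable {p : ℕ} [hp : Fact p.Prime]

theorem hasNormalPComplement_of_isPGroup {X : Type*} [Group X] [Finite X] (h : IsPGroup p X) :
    Cfsg.HasNormalPComplement p X := by
  obtain ⟨n, hn⟩ := IsPGroup.iff_card.mp h
  refine Transfer.hasNormalPComplement_iff_exists.mpr ⟨⊥, inferInstance, ?_, n, ?_⟩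
  · rw [Subgroup.card_bot]; exact hp.out.not_dvd_one
  · rw [Subgroup.index_bot, hn]

theorem mem_normalizer_of_forall_mem {X : Type*} [Group X] [Finite X] {U : Subgroup X} {y : X}
    (h : ∀ u ∈ U, y * u * y⁻¹ ∈ U) : y ∈ Subgroup.normalizer (U : Set X) := by
  have he : U.map (MulAut.conj y).toMonoidHom = U := by
    refine Subgroup.eq_of_le_of_card_ge (by rintro _ ⟨u, hu, rfl⟩; exact h u hu) ?_
    rw [Subgroup.card_map_of_injective (f := (MulAut.conj y).toMonoidHom) (MulAut.conj y).injective]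
  refine Subgroup.mem_normalizer_iff.mpr fun u => ⟨h u, fun hu => ?_⟩
  obtain ⟨w, hw, hwe⟩ := he.symm.le hu
  rwa [← (MulAut.conj y).injective hwe]

/-- The two functors `Z` and `J`. -/
def zjFunctors : Bool → ∀ (Q : Type u) [Group Q], Subgroup Q
  | true => fun Q [Group Q] => Subgroup.center Q
  | false => fun Q [Group Q] => Cfsg.thompsonSubgroupA Q

theorem isCharPFunctor_zjFunctors : ∀ i, Cfsg.IsCharPFunctor.{u} p (zjFunctors i)
  | true => isCharPFunctor_center p
  | false => isCharPFunctor_thompsonSubgroupA p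

/-- In a minimal obstruction for `(Z, J)`: an offender yields a transvection, hence `p = 2` and a
symmetric group of degree four. -/
theorem zj_minimal_elim {X : Type u} [Group X] [Finite X]
    (hmin : IsThompsonMinimal p (zjFunctors.{u}) X) :
    p = 2 ∧ IsSectionOf (Equiv.Perm (Fin 4)) X := by
  obtain ⟨M, hd⟩ := hmin.data
  have hPn : (Cfsg.pCore p X).Normal := hd.pn
  set P := Cfsg.pCore p X with hP
  obtain ⟨S⟩ : Nonempty (Sylow p X) := inferInstance
  have hPS : P ≤ (S : Subgroup X) := Grp.pCore_le_sylow S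
  -- `Z(S)`
  have hZnorm : Subgroup.normalizer
      (((S : Subgroup X) ⊓ Subgroup.centralizer ((S : Subgroup X) : Set X) : Subgroup X) : Set X) = S := by
    rw [← inducedFunctor_center]; exact hmin.norm true S
  have hZC : (S : Subgroup X) ⊓ Subgroup.centralizer ((S : Subgroup X) : Set X) ≤
      P ⊓ Subgroup.centralizer (P : Set X) := fun z hz => by
    have h1 : z ∈ Subgroup.centralizer (P : Set X) := Subgroup.centralizer_le hPS hz.2
    exact ⟨hmin.cent h1, h1⟩
  set V : Subgroup X := P ⊓ Subgroup.centralizer (P : Set X) with hV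
  have hVn : V.Normal := by
    have : (Subgroup.centralizer (P : Set X)).Normal := Subgroup.normal_centralizer
    exact Subgroup.normal_inf_normal _ _
  have hVS : V ≤ (S : Subgroup X) := inf_le_left.trans hPS
  let _ : CommGroup V :=
    { (inferInstance : Group V) with
      mul_comm := fun a b => Subtype.ext (Subgroup.mem_centralizer_iff.mp b.2.2 a a.2.1) }
  have hVp : IsPGroup p V := hd.isP.to_le inf_le_left
  let α : X →* MulAut V := MulAut.conjNormal
  have hα : ∀ (g : X) (v : V), ((α g v : V) : X) = g * v * g⁻¹ := fun g v =>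
    MulAut.conjNormal_apply g v
  have hker : α.ker = P := by
    refine le_antisymm ?_ fun g hg => MulEquiv.ext fun v => Subtype.ext ?_
    · refine Grp.le_pCore α.normal_ker (S.isPGroup'.to_le ?_)
      rw [← hZnorm]
      refine le_trans (fun g hg => Subgroup.mem_centralizer_iff.mpr fun z hz => ?_)
        (Subgroup.centralizer_le_normalizer _)
      have h2 := congrArg Subtype.val (DFunLike.congr_fun (MonoidHom.mem_ker.mp hg) ⟨z, hZC hz⟩)
      rw [hα] at h2
      exact (mul_inv_eq_iff_eq_mul.mp h2).symm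
    · rw [hα]
      exact mul_inv_eq_iff_eq_mul.mpr (Subgroup.mem_centralizer_iff.mp v.2.2 g hg)
  -- a large abelian subgroup outside `P`
  obtain ⟨A₀, hA₀, hA₀P⟩ : ∃ A₀ ∈ Cfsg.maxAbelianSubgroups ↥(S : Subgroup X),
      ¬ A₀.map (S : Subgroup X).subtype ≤ P := by
    by_contra hcon
    push Not at hcon
    have hJn : (Cfsg.thompsonSubgroupAOf (S : Subgroup X)).Normal := by
      refine ⟨fun x hx g => ?_⟩
      suffices h : Cfsg.thompsonSubgroupAOf (S : Subgroup X) ≤
          (Cfsg.thompsonSubgroupAOf (S : Subgroup X)).comap (MulAut.conj g).toMonoidHom from h hx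
      rw [Cfsg.thompsonSubgroupAOf, Subgroup.map_le_iff_le_comap]
      refine sSup_le fun A hA a ha => ?_
      have := hA.1
      set B := (A.map (S : Subgroup X).subtype).map (MulAut.conj g).toMonoidHom with hB
      have hBP : B ≤ P := by
        rintro _ ⟨y, hy, rfl⟩
        exact hPn.conj_mem y (hcon A hA hy) g
      have hB₀ : B.subgroupOf (S : Subgroup X) ∈ Cfsg.maxAbelianSubgroups ↥(S : Subgroup X) := by
        refine ⟨isMulCommutative_iff_forall.mpr fun c hc e he => Subtype.ext ?_, fun C hC => ?_⟩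
        · have := isMulCommutative_map (MulAut.conj g).toMonoidHom (A.map (S : Subgroup X).subtype)
            (P := X) (Q := X)
          exact isMulCommutative_iff_forall.mp this _ hc _ he
        · refine (hA.2 C hC).trans (le_of_eq ?_)
          rw [Nat.card_congr (Subgroup.subgroupOfEquivOfLe (hBP.trans hPS)).toEquiv, hB,
            Subgroup.card_map_of_injective (f := (MulAut.conj g).toMonoidHom) (MulAut.conj g).injective,
            Subgroup.card_map_of_injective (S : Subgroup X).subtype_injective]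
      have hmem : MulAut.conj g (a : X) ∈ B := ⟨_, ⟨a, ha, rfl⟩, rfl⟩
      exact ⟨⟨_, hPS (hBP hmem)⟩, le_sSup hB₀ hmem, rfl⟩
    have h1 : Subgroup.normalizer (Cfsg.thompsonSubgroupAOf (S : Subgroup X) : Set X) = S :=
      hmin.norm false S
    rw [Subgroup.normalizer_eq_top_iff.mpr hJn] at h1
    refine hmin.notNPC (hasNormalPComplement_of_isPGroup fun g => ?_)
    obtain ⟨n, hn⟩ := S.isPGroup' ⟨g, h1.le (Subgroup.mem_top g)⟩
    exact ⟨n, by simpa using congrArg Subtype.val hn⟩
  set A := A₀.map (S : Subgroup X).subtype with hA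
  have hAS : A ≤ (S : Subgroup X) := Subgroup.map_subtype_le _
  have hAc : IsMulCommutative A := by
    have := hA₀.1
    exact isMulCommutative_map _ _
  have hAmax : ∀ C : Subgroup X, C ≤ (S : Subgroup X) → IsMulCommutative C →
      Nat.card C ≤ Nat.card A := by
    intro C hCS hC
    have h1 := hA₀.2 (C.subgroupOf (S : Subgroup X)) (isMulCommutative_iff_forall.mpr
      fun a ha b hb => Subtype.ext (isMulCommutative_iff_forall.mp hC _ ha _ hb))
    rwa [Nat.card_congr (Subgroup.subgroupOfEquivOfLe hCS).toEquiv,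
      ← Subgroup.card_map_of_injective (S : Subgroup X).subtype_injective (K := A₀)] at h1
  -- the offender inequality
  set Ab := A.map α with hAb
  have hoff : Nat.card V ≤ Nat.card Ab * Nat.card (autFix (Ab : Set (MulAut V))) := by
    set B := (A ⊓ P) ⊔ V with hB
    have hBc : IsMulCommutative B := by
      have h1 : A ⊓ P ≤ Subgroup.centralizer (((A ⊓ P : Subgroup X) : Set X) ∪ (V : Set X)) := by
        intro a ha
        refine Subgroup.mem_centralizer_iff.mpr ?_
        rintro c (hc | hc)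
        · exact isMulCommutative_iff_forall.mp hAc c hc.1 a ha.1
        · exact (Subgroup.mem_centralizer_iff.mp hc.2 a ha.2).symm
      have h2 : V ≤ Subgroup.centralizer (((A ⊓ P : Subgroup X) : Set X) ∪ (V : Set X)) := by
        intro v hv
        refine Subgroup.mem_centralizer_iff.mpr ?_
        rintro c (hc | hc)
        · exact Subgroup.mem_centralizer_iff.mp hv.2 c hc.2
        · exact Subgroup.mem_centralizer_iff.mp hv.2 c hc.1
      have h3 : B ≤ Subgroup.centralizer (((A ⊓ P : Subgroup X) : Set X) ∪ (V : Set X)) := sup_le h1 h2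
      rw [isMulCommutative_iff_forall]
      intro a ha b hb
      have h4 : B ≤ Subgroup.centralizer ({a} : Set X) := by
        refine sup_le ?_ ?_ <;> intro c hc <;> rw [Subgroup.mem_centralizer_singleton_iff]
        · exact Subgroup.mem_centralizer_iff.mp (h3 ha) c (Or.inl hc)
        · exact Subgroup.mem_centralizer_iff.mp (h3 ha) c (Or.inr hc)
      exact (Subgroup.mem_centralizer_singleton_iff.mp (h4 hb)).symm
    have h1 := hAmax B (sup_le (inf_le_left.trans hAS) hVS) hBc
    have h2 := Grp.card_sup_mul_card_inf (H := A ⊓ P) (N := V)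
      (by rw [Subgroup.normalizer_eq_top]; exact le_top)
    rw [← hB, inf_assoc, inf_eq_right.mpr (inf_le_left : V ≤ P)] at h2
    have h3 : Nat.card Ab * Nat.card ↥(A ⊓ P) = Nat.card A := by
      rw [← (α.comp A.subtype).ker.card_mul_index, Subgroup.index_ker, MonoidHom.range_comp,
        Subgroup.range_subtype, ← hAb, mul_comm]
      congr 1
      rw [← MonoidHom.comap_ker, hker, show P.comap A.subtype = P.subgroupOf A from rfl,
        ← Subgroup.inf_subgroupOf_left]
      exact (Nat.card_congr (Subgroup.subgroupOfEquivOfLe inf_le_left).toEquiv).symm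
    have h4 : Nat.card ↥(A ⊓ V) ≤ Nat.card (autFix (Ab : Set (MulAut V))) := by
      rw [← Subgroup.subgroupOf_map_subtype, Subgroup.card_map_of_injective V.subtype_injective]
      refine Subgroup.card_le_of_le fun v hv => ?_
      rintro _ ⟨a, ha, rfl⟩
      refine Subtype.ext ?_
      rw [hα]
      exact mul_inv_eq_iff_eq_mul.mpr (isMulCommutative_iff_forall.mp hAc a ha _ hv)
    have h5 : Nat.card ↥(A ⊓ P) * Nat.card V ≤
        Nat.card ↥(A ⊓ P) * (Nat.card Ab * Nat.card (autFix (Ab : Set (MulAut V)))) := by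
      rw [← h2, ← mul_assoc, mul_comm (Nat.card ↥(A ⊓ P)) (Nat.card Ab), h3]
      exact Nat.mul_le_mul h1 h4
    exact Nat.le_of_mul_le_mul_left h5 Nat.card_pos
  have hAbc : IsMulCommutative Ab := isMulCommutative_map α A
  have hAbp : IsPGroup p Ab := (S.isPGroup'.to_le hAS).map α
  have hcomm : ∀ a ∈ M, ∀ b ∈ M, Commute (α a) (α b) := by
    intro a ha b hb
    have h1 : α (a * b * a⁻¹ * b⁻¹) = 1 := MonoidHom.mem_ker.mp (hker.symm ▸ hd.comm a ha b hb)
    rwa [map_mul, map_mul, map_mul, map_inv, map_inv, mul_inv_eq_one, mul_inv_eq_iff_eq_mul] at h1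
  set Q := M.map α with hQdef
  have hQ : (Nat.card Q).Coprime p := by
    refine (hp.out.coprime_iff_not_dvd.mpr fun hdvd => ?_).symm
    obtain ⟨⟨_, m, hm, rfl⟩, hq⟩ := exists_prime_orderOf_dvd_card' (G := Q) p hdvd
    obtain ⟨k, hk, hkP⟩ := hd.mid m hm
    rw [← Subgroup.orderOf_coe] at hq
    have h1 : (α m) ^ k = 1 := by
      rw [← map_pow]; exact MonoidHom.mem_ker.mp (hker.symm ▸ hkP)
    have h2 : p ∣ k := hq ▸ orderOf_dvd_of_pow_eq_one h1
    exact hp.out.ne_one (hk.symm.eq_one_of_dvd h2)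
  have hAQ : Ab ≤ Subgroup.normalizer (Q : Set (MulAut V)) := by
    refine le_trans (Subgroup.map_mono (le_top (a := A)))
      (le_trans ?_ (Subgroup.le_normalizer_map (H := M) α))
    rw [Subgroup.normalizer_eq_top_iff.mpr hd.mn]
  have hfaith : ∀ a ∈ Ab, (∀ q ∈ Q, Commute a q) → a = 1 := by
    rintro _ ⟨x, hx, rfl⟩ hc
    obtain ⟨e, he⟩ := S.isPGroup' ⟨x, hAS hx⟩
    refine MonoidHom.mem_ker.mp (hker.symm ▸ mem_pCore_of_comm hd (x := x) (e := e)
      (by simpa using congrArg Subtype.val he) fun m hm => ?_)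
    rw [← hker, MonoidHom.mem_ker, map_mul, map_mul, map_mul, map_inv, map_inv,
      (hc _ ⟨m, hm, rfl⟩).eq, mul_inv_cancel_right, mul_inv_cancel]
  have hAb1 : Ab ≠ ⊥ := by
    rw [hAb, ne_eq, Subgroup.map_eq_bot_iff, hker]; exact hA₀P
  obtain ⟨b, hbA, hbo, hbi⟩ := exists_transvection hVp Q Ab hAbp hAQ hQ hfaith hAb1 hoff
  obtain ⟨x, hx, rfl⟩ := hbA
  set b := α x with hb
  have hb1 : b ≠ 1 := fun h => hp.out.ne_one (by rw [← hbo, h, orderOf_one])
  have hkerD : (autDiff b).ker = autFix ({b} : Set (MulAut V)) := by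
    ext v
    simp [MonoidHom.mem_ker, autDiff_apply, div_eq_one, mem_autFix]
  have hDfix : ∀ v : V, b (autDiff b v) = autDiff b v := by
    intro v
    have hcard : Nat.card (autDiff b).range = p := by rw [← Subgroup.index_ker, hkerD, hbi]
    have hne : (autDiff b).range ≠ ⊥ := fun h => by
      rw [h, Subgroup.card_bot] at hcard; exact hp.out.ne_one hcard.symm
    have hzp : IsPGroup p (Subgroup.zpowers b) :=
      IsPGroup.of_card (n := 1) (by rw [Nat.card_zpowers, hbo, pow_one])
    obtain ⟨u, hu, hu1, hufix⟩ := exists_fixed_ne_one hVp hzp hne (fun f hf => by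
      obtain ⟨i, rfl⟩ := Subgroup.mem_zpowers_iff.mp hf
      exact autDiff_invariant ((Commute.refl b).zpow_left i))
    have hgen : (autDiff b).range = Subgroup.zpowers u := by
      refine (Subgroup.eq_of_le_of_card_ge (Subgroup.zpowers_le.mpr hu) ?_).symm
      rw [hcard, Nat.card_zpowers]
      rcases (Nat.dvd_prime hp.out).mp (hcard ▸ Subgroup.orderOf_dvd_natCard _ hu) with h | h
      · exact absurd (orderOf_eq_one_iff.mp h) hu1
      · exact h.ge
    obtain ⟨i, hi⟩ := Subgroup.mem_zpowers_iff.mp (hgen.le ⟨v, rfl⟩)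
    rw [← hi, map_zpow, hufix b (Subgroup.mem_zpowers b)]
  obtain ⟨_, ⟨m, hm, rfl⟩, hqb⟩ : ∃ q ∈ Q, ¬ Commute b q := by
    by_contra h
    push Not at h
    exact hb1 (hfaith b ⟨x, hx, rfl⟩ h)
  set q := α m with hq
  have hMc : ∀ y : X, ∀ a ∈ M, y * a * y⁻¹ ∈ M := fun y a ha => hd.mn.conj_mem a ha y
  have hp2 : p = 2 := by
    by_contra hp2
    refine hqb (quadratic_commute hp2 hVp (fun v => ?_) ?_ ?_ ?_ ?_)
    · have h1 := hDfix v
      rw [autDiff_apply, map_div, div_eq_div_iff_mul_eq_mul] at h1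
      exact h1
    · rw [hb, hq, ← map_inv, ← map_mul, ← map_mul]
      exact hcomm _ hm _ (hMc x m hm)
    · rw [hb, hq, ← map_inv, ← map_mul, ← map_mul]
      exact hcomm _ hm _ (by simpa using hMc x⁻¹ m hm)
    · rw [hb, hq, ← map_inv, ← map_mul, ← map_mul, ← map_mul, ← map_mul]
      exact hcomm _ (hMc x m hm) _ (hMc x _ (hMc x m hm))
    · obtain ⟨k, hk, hk'⟩ := hd.mid _ (mul_mem (hMc x m hm) (inv_mem hm))
      refine ⟨k, hk, ?_⟩
      rw [hb, hq, ← map_inv, ← map_inv, ← map_mul, ← map_mul, ← map_mul, ← map_pow]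
      exact MonoidHom.mem_ker.mp (hker.symm ▸ hk')
  refine ⟨hp2, ?_⟩
  subst hp2
  -- the symmetric group of degree four
  have hb2 : b * b = 1 := by rw [← pow_two, ← hbo, pow_orderOf_eq_one]
  have hbinv : b⁻¹ = b := inv_eq_of_mul_eq_one_right hb2
  set m₀ := x * m * x⁻¹ * m⁻¹ with hm₀
  have hm₀M : m₀ ∈ M := mul_mem (hMc x m hm) (inv_mem hm)
  set z := α m₀ with hzdef
  have hz : z = b * q * b⁻¹ * q⁻¹ := by
    rw [hzdef, hm₀, hb, hq, map_mul, map_mul, map_mul, map_inv, map_inv]
  have hz1 : z ≠ 1 := by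
    rw [hz, ne_eq, mul_inv_eq_one, mul_inv_eq_iff_eq_mul]; exact hqb
  have hbz : b * z * b⁻¹ = z⁻¹ := by
    rw [hz, hbinv, mul_inv_rev, mul_inv_rev, mul_inv_rev, inv_inv, hbinv]
    simp only [← mul_assoc, hb2, one_mul]
  have hzk : z ^ Nat.card Q = 1 := by
    have h1 : (⟨z, ⟨m₀, hm₀M, rfl⟩⟩ : Q) ^ Nat.card Q = 1 := pow_card_eq_one'
    exact congrArg Subtype.val h1
  have hidx : (autFix ({z} : Set (MulAut V))).index ≤ 4 := by
    set F := autFix ({b} : Set (MulAut V)) with hF
    have hle : F ⊓ F.map q.toMonoidHom ≤ autFix ({z} : Set (MulAut V)) := by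
      rintro v ⟨hv, w, hw, rfl⟩ f rfl
      have h1 : b w = w := hw b rfl
      have h2 : b (q w) = q w := hv b rfl
      change z (q w) = q w
      rw [hz, hbinv, MulAut.mul_apply, MulAut.mul_apply, MulAut.mul_apply, MulAut.inv_apply_self, h1,
        h2]
    have hne : (F ⊓ F.map q.toMonoidHom).index ≠ 0 := Subgroup.index_ne_zero_of_finite
    refine (Nat.le_of_dvd (Nat.pos_of_ne_zero hne) (Subgroup.index_dvd_of_le hle)).trans
      ((Subgroup.index_inf_le).trans ?_)
    rw [show (F.map q.toMonoidHom).index = F.index from Subgroup.index_map_equiv F q, hF, hbi]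
  obtain ⟨hR4, hz3, hfree, hbR, u₀, hu₀, hu₀b⟩ :=
    card_autDiff_range_eq_four hVp hQ hzk hz1 hbz hidx
  set R := (autDiff z).range with hR
  have hzR : ∀ (i : ℕ), ∀ u ∈ R, (z ^ i) u ∈ R := by
    intro i
    exact fun u hu => autDiff_invariant ((Commute.refl z).pow_left i) u hu
  obtain ⟨e, he⟩ := IsPGroup.iff_card.mp hd.isP
  set r := m₀ ^ 2 ^ e with hr
  have hαr : α r = z ^ 2 ^ e := by rw [hr, map_pow]
  have hr3 : r ^ 3 = 1 := by
    have h1 : m₀ ^ 3 ∈ P := by rw [← hker, MonoidHom.mem_ker, map_pow]; exact hz3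
    rw [hr, ← pow_mul, mul_comm, pow_mul]
    have h2 : (⟨_, h1⟩ : P) ^ Nat.card P = 1 := pow_card_eq_one'
    rw [he] at h2
    exact congrArg Subtype.val h2
  obtain ⟨j, hj⟩ := exists_pow_eq_self_of_coprime (x := z) (n := 2 ^ e)
    (Nat.Coprime.coprime_dvd_right (orderOf_dvd_of_pow_eq_one hz3)
      ((by norm_num : (2 : ℕ).Coprime 3).pow_left e))
  set L := (Subgroup.zpowers z).comap α with hL
  have hrL : Subgroup.zpowers r ≤ L := by
    rw [Subgroup.zpowers_le, hL, Subgroup.mem_comap, hαr]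
    exact pow_mem (Subgroup.mem_zpowers z) _
  have hLe : L = Subgroup.zpowers r ⊔ P := by
    rw [← hker, ← Subgroup.comap_map_eq, MonoidHom.map_zpowers, hαr, hL]
    refine congrArg _ (le_antisymm (Subgroup.zpowers_le.mpr ?_)
      (Subgroup.zpowers_le.mpr (pow_mem (Subgroup.mem_zpowers z) _)))
    have h3 := pow_mem (Subgroup.mem_zpowers (z ^ 2 ^ e)) j
    rwa [hj] at h3
  have h33 : Fact (Nat.Prime 3) := ⟨by norm_num⟩
  have hsyl : Grp.IsSylowIn 3 (Subgroup.zpowers r) L := by
    refine ⟨hrL, ?_, fun hd3 => ?_⟩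
    · intro a
      obtain ⟨i, hi⟩ := Subgroup.mem_zpowers_iff.mp a.2
      refine ⟨1, Subtype.ext ?_⟩
      push_cast
      rw [← hi, ← zpow_natCast, ← zpow_mul, mul_comm, zpow_mul]
      simp [hr3]
    · have h1 := Grp.card_mul_relIndex hrL
      have h2 := Grp.card_sup_dvd_mul (H := Subgroup.zpowers r) (N := P)
        (by rw [Subgroup.normalizer_eq_top]; exact le_top)
      rw [← hLe, ← h1] at h2
      have h3 := hd3.trans (Nat.dvd_of_mul_dvd_mul_left Nat.card_pos h2)
      rw [he] at h3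
      have := (Nat.prime_dvd_prime_iff_eq (by norm_num) Nat.prime_two).mp
        ((by norm_num : Nat.Prime 3).dvd_of_dvd_pow h3)
      omega
  have hxL : MulAut.conj x • L = L := by
    rw [← Grp.mem_normalizer_iff_smul]
    refine mem_normalizer_of_forall_mem fun l hl => ?_
    obtain ⟨i, hi⟩ := Subgroup.mem_zpowers_iff.mp (show α l ∈ Subgroup.zpowers z from hl)
    change α (x * l * x⁻¹) ∈ Subgroup.zpowers z
    rw [map_mul, map_mul, map_inv, ← hi, ← hb, ← MulAut.conj_apply, map_zpow, MulAut.conj_apply,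
      hbz]
    exact zpow_mem (inv_mem (Subgroup.mem_zpowers z)) i
  obtain ⟨l, hl, hle⟩ := hsyl.conj (hsyl.smul hxL)
  set y := l⁻¹ * x with hy
  have hyr : y ∈ Subgroup.normalizer (Subgroup.zpowers r : Set X) := by
    rw [Grp.mem_normalizer_iff_smul, hy, map_mul, mul_smul, ← hle, smul_smul, ← map_mul,
      inv_mul_cancel, map_one, one_smul]
  obtain ⟨i, hi⟩ : ∃ i : ℕ, z ^ i = (α l)⁻¹ :=
    mem_powers_iff_mem_zpowers.mpr (inv_mem (show α l ∈ Subgroup.zpowers z from hl))
  have hαy : α y = z ^ i * b := by rw [hy, map_mul, map_inv, hi]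
  set U := R.map V.subtype with hU
  have hconj : ∀ (g : X), (∀ u ∈ R, α g u ∈ R) → g ∈ Subgroup.normalizer (U : Set X) := by
    intro g hg
    refine mem_normalizer_of_forall_mem ?_
    rintro _ ⟨u, hu, rfl⟩
    exact ⟨_, hg u hu, hα g u⟩
  have hy2 : z ^ i * b * (z ^ i * b) = 1 := by
    have h1 : b * z ^ i * b⁻¹ = (z ^ i)⁻¹ := by
      rw [← MulAut.conj_apply, map_pow, MulAut.conj_apply, hbz, inv_pow]
    rw [hbinv] at h1
    rw [mul_assoc, ← mul_assoc b, h1, mul_inv_cancel]
  refine isSectionOf_perm_four U (by rw [hU, Subgroup.card_map_of_injective V.subtype_injective, hR4])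
    hr3 (hconj r (fun u hu => by rw [hαr]; exact hzR _ u hu)) ?_ hyr
    (hconj y (fun u hu => by rw [hαy]; exact hzR i _ (hbR u hu))) ?_ ?_
  · rintro _ ⟨u, hu, rfl⟩ h
    have h1 : (z ^ 2 ^ e) u = u := Subtype.ext (by rw [← hαr, hα]; exact h)
    have h2 : z u = u := by
      have h3 : ∀ n : ℕ, ((z ^ 2 ^ e) ^ n) u = u := by
        intro n
        induction n with
        | zero => simp
        | succ n ih => rw [pow_succ', MulAut.mul_apply, ih, h1]
      have := h3 j
      rwa [hj] at this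
    rw [hfree u hu h2]
    rfl
  · rintro _ ⟨u, hu, rfl⟩
    have h1 : α (y ^ 2) u = u := by
      rw [map_pow, hαy, pow_two, hy2, MulAut.one_apply]
    have h2 := congrArg Subtype.val h1
    rw [hα] at h2
    exact mul_inv_eq_iff_eq_mul.mp h2
  · by_contra h
    push Not at h
    have h1 : ∀ u ∈ R, (z ^ i) (b u) = u := by
      intro u hu
      have h2 := h (u : X) ⟨u, hu, rfl⟩
      have h3 : α y u = u := Subtype.ext (by rw [hα]; exact mul_inv_eq_iff_eq_mul.mpr h2)
      rwa [hαy] at h3
    refine hu₀b ?_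
    have hu1 : u₀ = 1 := by
      have hbz' : b (z u₀) = (z⁻¹) (b u₀) := by rw [← hbz]; simp [MulAut.mul_apply]
      have h2 := h1 (z u₀) (autDiff_invariant (Commute.refl z) u₀ hu₀)
      rw [hbz', ← MulAut.mul_apply, ((Commute.refl z).pow_left i).inv_right.eq, MulAut.mul_apply,
        h1 u₀ hu₀] at h2
      have h3 : z (z u₀) = u₀ := by rw [← h2, MulAut.apply_inv_self]
      have h4 : (z ^ 3) u₀ = u₀ := by rw [hz3, MulAut.one_apply]
      rw [pow_three, MulAut.mul_apply, MulAut.mul_apply, h3] at h4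
      exact hfree u₀ hu₀ h4
    rw [hu1, map_one]

end Cfsg.Agent.Invol
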