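import Cfsg.Agent.Lib.Invol.NilpotentAction
import Cfsg.Agent.Lib.Invol.ThompsonComplement
import Cfsg.Agent.Lib.Grp.Coprime
import Cfsg.Agent.Lib.Grp.Cores

/-!
# Subgroups normalized by `M` are normal in `G`
-/

set_option autoImplicit false

open scoped Pointwise commutatorElement

namespace Cfsg.Agent.Invol

variable {G : Type*} [Group G] [Finite G] {p : ℕ} [hp : Fact p.Prime]

/-- The elements acting on every chief factor inside `T` with degree `p - 1`. -/
def nilpSet (p : ℕ) (T : Subgroup G) : Set G :=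
  {g | ∀ U V : Subgroup G, Cfsg.IsChiefFactor U V → U ≤ T →
    Cfsg.iterCommutator U (Subgroup.zpowers g) (p - 1) ≤ V}

omit [Finite G] hp in
theorem conj_mem_nilpSet {T : Subgroup G} {g : G} (hg : g ∈ nilpSet p T) (h : G) :
    h * g * h⁻¹ ∈ nilpSet p T := by
  intro U V hUV hUT
  have hmap : ∀ N : Subgroup G, N.Normal → N.map (MulAut.conj h).toMonoidHom = N := fun N hN => by
    rw [Grp.map_conj_eq_smul, ← Grp.mem_normalizer_iff_smul, Subgroup.normalizer_eq_top_iff.mpr hN]
    exact Subgroup.mem_top h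
  have h1 := Subgroup.map_mono (f := (MulAut.conj h).toMonoidHom) (hg U V hUV hUT)
  rw [iterCommutator_map, MonoidHom.map_zpowers, hmap U hUV.2.1, hmap V hUV.2.2.1] at h1
  exact h1

omit hp in
theorem inv_mem_nilpSet {T : Subgroup G} {g : G} (hg : g ∈ nilpSet p T) :
    g⁻¹ ∈ nilpSet p T := fun U V hUV hUT => by
  rw [iterCommutator_inv]; exact hg U V hUV hUT

/-- A weakly closed generating set fixes only the coset `M`. -/
theorem fix_only_coset (S : Sylow p G) {M : Subgroup G} (hSM : (S : Subgroup G) ≤ M)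
    {Λ₀ : Set G} (hinv : ∀ g ∈ Λ₀, ∀ h : G, h * g * h⁻¹ ∈ Λ₀)
    (hN : Subgroup.normalizer (Subgroup.closure (Λ₀ ∩ (S : Set G)) : Set G) ≤ M) :
    ∀ h : G, (∀ l ∈ Λ₀ ∩ (S : Set G), h⁻¹ * l * h ∈ M) → h ∈ M := by
  intro h hh
  set E := Subgroup.closure (Λ₀ ∩ (S : Set G)) with hE
  have hES : E ≤ (S : Subgroup G) := (Subgroup.closure_le _).mpr fun l hl => hl.2
  set E' := E.map (MulAut.conj h⁻¹).toMonoidHom with hE'
  have hE'M : E' ≤ M := by
    rw [hE', hE, MonoidHom.map_closure, Subgroup.closure_le]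
    rintro _ ⟨l, hl, rfl⟩
    simpa using hh l hl
  obtain ⟨T, hT⟩ := (((S.isPGroup'.to_le hES).map (MulAut.conj h⁻¹).toMonoidHom).comap_subtype
    (K := M) : IsPGroup p (E'.subgroupOf M)).exists_le_sylow
  obtain ⟨m, hm⟩ := MulAction.exists_smul_eq M T (S.subtype hSM)
  have hmap : E.map (MulAut.conj ((m : G) * h⁻¹)).toMonoidHom = E := by
    refine Subgroup.eq_of_le_of_card_ge ?_ (le_of_eq ?_)
    · rw [hE, MonoidHom.map_closure]
      refine Subgroup.closure_mono ?_
      rintro _ ⟨l, hl, rfl⟩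
      refine ⟨hinv l hl.1 _, ?_⟩
      have h1 : MulAut.conj h⁻¹ l ∈ E' := ⟨l, Subgroup.subset_closure hl, rfl⟩
      have h2 : m * ⟨_, hE'M h1⟩ * m⁻¹ ∈ ((S.subtype hSM : Sylow p M) : Subgroup M) := by
        rw [← hm]
        exact ⟨_, hT (show (⟨_, hE'M h1⟩ : M) ∈ E'.subgroupOf M from h1), by simp⟩
      have h3 : (m : G) * (MulAut.conj h⁻¹ l) * (m : G)⁻¹ ∈ (S : Subgroup G) := h2
      show _ ∈ (S : Subgroup G)
      simpa [mul_assoc] using h3
    · rw [Subgroup.card_map_of_injective (f := (MulAut.conj _).toMonoidHom) (MulAut.conj _).injective]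
  have h5 : (m : G) * h⁻¹ ∈ Subgroup.normalizer (E : Set G) := by
    rw [Grp.mem_normalizer_iff_smul, ← Grp.map_conj_eq_smul]
    exact hmap
  simpa using inv_mem (mul_mem (inv_mem m.2) (hN h5))

/-- If elements of a weakly closed generating set act with degree `p - 1` on the chief factors
inside `T`, then every `R ≤ T` with `[T,T] ≤ R` and `[T,M] ≤ R` is normal. -/
theorem normal_of_nilpotent_action {T R M : Subgroup G} [T.Normal] (hTp : IsPGroup p T)
    (hRT : R ≤ T) (hTT : ⁅T, T⁆ ≤ R) (hTM : ⁅T, M⁆ ≤ R) (hM : ¬ p ∣ M.index)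
    {Λ : Set G} (hΛ : Λ ⊆ nilpSet p T) (hΛM : Λ ⊆ M) (hΛp : IsPGroup p (Subgroup.closure Λ))
    (hfix : ∀ h : G, (∀ l ∈ Λ, h⁻¹ * l * h ∈ M) → h ∈ M) : R.Normal := by
  have hRn : (R.subgroupOf T).Normal := by
    refine ⟨fun x hx t => ?_⟩
    have h1 := R.mul_mem (hTT (Subgroup.commutator_mem_commutator t.2 x.2)) hx
    rw [Subgroup.mem_subgroupOf]
    simpa [commutatorElement_def] using h1
  let π : T →* T ⧸ R.subgroupOf T := QuotientGroup.mk' _
  let _ : CommGroup (T ⧸ R.subgroupOf T) :=
    { (inferInstance : Group (T ⧸ R.subgroupOf T)) with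
      mul_comm := fun a b => by
        induction a using QuotientGroup.induction_on with
        | _ a =>
          induction b using QuotientGroup.induction_on with
          | _ b =>
            rw [← QuotientGroup.mk_mul, ← QuotientGroup.mk_mul, QuotientGroup.eq,
              Subgroup.mem_subgroupOf]
            have h1 := hTT (Subgroup.commutator_mem_commutator (inv_mem b.2) (inv_mem a.2))
            simpa [commutatorElement_def, mul_assoc] using h1 }
  let cj : G → T →* T := fun g =>
    { toFun := fun t => ⟨g⁻¹ * t * g, by simpa using (inferInstance : T.Normal).conj_mem t t.2 g⁻¹⟩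
      map_one' := by ext; simp
      map_mul' := fun a b => by ext; simp [mul_assoc] }
  let D : G → T → T ⧸ R.subgroupOf T := fun g t => π (cj g t) / π t
  have hDmul : ∀ g s t, D g (s * t) = D g s * D g t := fun g s t => by
    simp only [D, map_mul, mul_div_mul_comm]
  suffices key : ∀ (g : G) (t : T), D g t = 1 by
    refine ⟨fun x hx g => ?_⟩
    have h1 := key g⁻¹ ⟨x, hRT hx⟩
    have h2 : π ⟨x, hRT hx⟩ = 1 := (QuotientGroup.eq_one_iff _).mpr hx
    simp only [D, h2, div_one] at h1
    have h3 := (QuotientGroup.eq_one_iff _).mp h1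
    rw [Subgroup.mem_subgroupOf] at h3
    simpa [cj] using h3
  suffices key : ∀ n : ℕ, ∀ X : Subgroup G, Nat.card X = n → X.Normal → (hX : X ≤ T) →
      ∀ (g x : G) (hx : x ∈ X), D g ⟨x, hX hx⟩ = 1 from
    fun g t => key _ T rfl inferInstance le_rfl g t t.2
  intro n
  induction n using Nat.strong_induction_on with
  | _ n ih =>
  intro X hn hXn hXT
  rcases eq_or_ne X ⊥ with rfl | hne
  · intro g x hx
    have : (⟨x, hXT hx⟩ : T) = 1 := Subtype.ext (Subgroup.mem_bot.mp hx)
    rw [this]; simp [D]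
  obtain ⟨Y, hY⟩ := exists_chief_below hXn hne
  have hYn : Y.Normal := hY.2.2.1
  have hYlt : Nat.card Y < n := hn ▸ lt_of_not_ge fun h =>
    hY.1.ne (Subgroup.eq_of_le_of_card_ge hY.1.le h)
  have hDY : ∀ (g y : G) (hy : y ∈ Y), D g ⟨y, hXT (hY.1.le hy)⟩ = 1 :=
    ih _ hYlt Y rfl hYn (hY.1.le.trans hXT)
  obtain ⟨hab, hexp⟩ := chief_elementary hY (hTp.to_le hXT)
  let A : AddSubgroup (X → Additive (T ⧸ R.subgroupOf T)) :=
    { carrier := {a | (∀ x y : X, a (x * y) = a x + a y) ∧ ∀ x : X, (x : G) ∈ Y → a x = 0}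
      add_mem' := fun {a b} ha hb => ⟨fun x y => by
          change a (x * y) + b (x * y) = (a x + b x) + (a y + b y)
          rw [ha.1, hb.1, add_add_add_comm],
        fun x hx => by change a x + b x = 0; rw [ha.2 x hx, hb.2 x hx, add_zero]⟩
      zero_mem' := ⟨fun _ _ => (add_zero 0).symm, fun _ _ => rfl⟩
      neg_mem' := fun {a} ha => ⟨fun x y => by
          change -a (x * y) = -a x + -a y
          rw [ha.1, neg_add],
        fun x hx => by change -a x = 0; rw [ha.2 x hx, neg_zero]⟩ }
  let cX : G → X → X := fun g x => ⟨g⁻¹ * x * g, by simpa using hXn.conj_mem x x.2 g⁻¹⟩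
  have cX_mul : ∀ g x y, cX g (x * y) = cX g x * cX g y := fun g x y =>
    Subtype.ext (by simp [cX, mul_assoc])
  have cX_Y : ∀ g (x : X), (x : G) ∈ Y → ((cX g x : X) : G) ∈ Y := fun g x hx => by
    simpa [cX] using hYn.conj_mem _ hx g⁻¹
  let _ : DistribMulAction G A :=
    { smul := fun g a => ⟨fun x => a.1 (cX g x),
        fun x y => by change a.1 (cX g (x * y)) = _; rw [cX_mul]; exact a.2.1 _ _,
        fun x hx => a.2.2 _ (cX_Y g x hx)⟩
      one_smul := fun a => Subtype.ext (funext fun x =>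
        congrArg a.1 (Subtype.ext (by simp [cX])))
      mul_smul := fun g h a => Subtype.ext (funext fun x =>
        congrArg a.1 (Subtype.ext (by simp [cX, mul_assoc])))
      smul_zero := fun g => rfl
      smul_add := fun g a b => rfl }
  have hsmul : ∀ (g : G) (a : A) (x : X), (g • a).1 x = a.1 (cX g x) := fun _ _ _ => rfl
  have hone : ∀ a : A, a.1 1 = 0 := fun a => a.2.2 1 (one_mem Y)
  have hlist : ∀ (a : A) (L : List X), a.1 L.prod = (L.map a.1).sum := by
    intro a L
    induction L with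
    | nil => simpa using hone a
    | cons b L ihL => rw [List.prod_cons, List.map_cons, List.sum_cons, a.2.1, ihL]
  let c : G → A := fun g => ⟨fun x => Additive.ofMul (D g ⟨x, hXT x.2⟩),
    fun x y => congrArg Additive.ofMul (hDmul g ⟨x, hXT x.2⟩ ⟨y, hXT y.2⟩),
    fun x hx => congrArg Additive.ofMul (hDY g x hx)⟩
  have hzero : ∀ g, c g = 0 := by
    refine cocycle_eq_zero (p := p) M hM Λ hΛM hΛp hfix (fun l hl a => ?_) (fun a => ?_) c
      (fun g h => ?_) (fun m hm => ?_)
    · refine Subtype.ext (funext fun x => ?_)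
      rw [AddSubgroup.val_finsetSum, Finset.sum_apply]
      simp only [hsmul]
      change _ = (0 : Additive (T ⧸ R.subgroupOf T))
      have h1 := prod_conj_mem (p := p) hab hexp (inv_mem_nilpSet (hΛ hl) X Y hY hXT) x.2
      set L := (List.range p).map fun i => cX (l ^ i) x with hL
      have h2 : (L.prod : G) ∈ Y := by
        rw [SubmonoidClass.coe_list_prod, hL, List.map_map]
        simpa [Function.comp_def, cX, mul_assoc] using h1
      have h3 := hlist a L
      rw [a.2.2 _ h2, hL, List.map_map] at h3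
      rw [h3, ← List.sum_toFinset _ (List.nodup_range), List.toFinset_range]
      rfl
    · refine Subtype.ext (funext fun x => ?_)
      rw [AddSubgroup.coe_nsmul]
      change p • a.1 x = 0
      have h1 : a.1 (x ^ p) = p • a.1 x := by
        generalize p = k
        induction k with
        | zero => simpa using hone a
        | succ k ihk => rw [pow_succ, a.2.1, ihk, succ_nsmul]
      rw [← h1]
      exact a.2.2 _ (by rw [SubgroupClass.coe_pow]; exact hexp x x.2)
    · refine Subtype.ext (funext fun x => ?_)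
      change Additive.ofMul (D (g * h) ⟨x, _⟩) =
        Additive.ofMul (D g ⟨x, _⟩) + Additive.ofMul (D h ⟨(cX g x : X), _⟩)
      rw [← ofMul_mul]
      refine congrArg Additive.ofMul ?_
      simp only [D]
      have h1 : cj (g * h) ⟨x, hXT x.2⟩ = cj h ⟨(cX g x : X), hXT (cX g x).2⟩ := by
        ext; simp [cj, cX, mul_assoc]
      have h2 : cj g ⟨x, hXT x.2⟩ = ⟨(cX g x : X), hXT (cX g x).2⟩ := by
        ext; simp [cj, cX]
      rw [h1, h2, mul_comm, div_mul_div_cancel]
    · refine Subtype.ext (funext fun x => ?_)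
      change Additive.ofMul (D m ⟨x, _⟩) = Additive.ofMul 1
      refine congrArg Additive.ofMul ?_
      rw [div_eq_one]
      refine (QuotientGroup.eq.mpr ?_)
      rw [Subgroup.mem_subgroupOf]
      have h1 := hTM (Subgroup.commutator_mem_commutator (hXT x.2) (M.inv_mem hm))
      have h2 : ((x : G))⁻¹ * ⁅(x : G), m⁻¹⁆ * (x : G) ∈ R := by
        have h4 := hTT (Subgroup.commutator_mem_commutator (inv_mem (hXT x.2))
          ((Subgroup.commutator_le_left T M) (Subgroup.commutator_mem_commutator (hXT x.2) (M.inv_mem hm))))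
        have h5 := R.mul_mem h4 h1
        simpa [commutatorElement_def, mul_assoc] using h5
      simpa [cj, commutatorElement_def, mul_assoc] using h2
  intro g x hx
  exact congrArg (fun a : A => a.1 ⟨x, hx⟩) (hzero g)

end Cfsg.Agent.Invol
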