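import Mathlib
import Cfsg.Prelude.Def_LocalEven
import Cfsg.Agent.Lib.Invol.CharP
import Cfsg.Agent.Lib.Invol.NilpotentNormal

/-!
# Transport along isomorphisms
-/

set_option autoImplicit false

namespace Cfsg.Agent.Invol

variable {Q X : Type*} [Group Q] [Group X] {p : ℕ}

theorem map_pCore_equiv [Finite Q] [Fact p.Prime] (e : Q ≃* X) :
    (Cfsg.pCore p Q).map e.toMonoidHom = Cfsg.pCore p X := by
  have : Finite X := Finite.of_equiv Q e.toEquiv
  refine le_antisymm (Grp.le_pCore (Grp.pCore_isNormal.map _ e.surjective) (Grp.pCore_isPGroup.map _)) ?_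
  intro x hx
  refine ⟨e.symm x, ?_, e.apply_symm_apply x⟩
  exact Grp.le_pCore (N := (Cfsg.pCore p X).map e.symm.toMonoidHom)
    (Grp.pCore_isNormal.map _ e.symm.surjective) (Grp.pCore_isPGroup.map _)
    ⟨x, hx, rfl⟩

theorem centralizer_pCore_transport [Finite Q] [Fact p.Prime] (e : Q ≃* X)
    (h : Subgroup.centralizer (Cfsg.pCore p X : Set X) ≤ Cfsg.pCore p X) :
    Subgroup.centralizer (Cfsg.pCore p Q : Set Q) ≤ Cfsg.pCore p Q := by
  intro x hx
  have h1 : e x ∈ Cfsg.pCore p X := h <| Subgroup.mem_centralizer_iff.mpr fun y hy => by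
    obtain ⟨z, hz, rfl⟩ := (map_pCore_equiv e).ge hy
    change e z * e x = e x * e z
    rw [← map_mul, ← map_mul, Subgroup.mem_centralizer_iff.mp hx z hz]
  obtain ⟨z, hz, hze⟩ := (map_pCore_equiv e).ge h1
  rwa [← e.injective hze]

theorem isChiefFactor_comap (e : Q ≃* X) {U V : Subgroup X} (h : Cfsg.IsChiefFactor U V) :
    Cfsg.IsChiefFactor (U.comap e.toMonoidHom) (V.comap e.toMonoidHom) := by
  obtain ⟨hlt, hU, hV, hmin⟩ := h
  refine ⟨(Subgroup.comap_lt_comap_of_surjective e.surjective).mpr hlt, hU.comap _, hV.comap _,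
    fun N hN h1 h2 => ?_⟩
  have h3 := hmin (N.map e.toMonoidHom) (hN.map _ e.surjective)
    (fun v hv => ⟨e.symm v, h1 (show e (e.symm v) ∈ V by rwa [e.apply_symm_apply]),
      e.apply_symm_apply v⟩)
    (Subgroup.map_le_iff_le_comap.mpr h2)
  rcases h3 with h3 | h3
  · left
    rw [← h3, Subgroup.comap_map_eq_self_of_injective (f := e.toMonoidHom) e.injective]
  · right
    rw [← h3, Subgroup.comap_map_eq_self_of_injective (f := e.toMonoidHom) e.injective]

theorem map_mem_nilpSet (e : Q ≃* X) {T : Subgroup Q} {g : Q} (hg : g ∈ nilpSet p T) :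
    e g ∈ nilpSet p (T.map e.toMonoidHom) := by
  intro U V hUV hUT
  have h1 := hg _ _ (isChiefFactor_comap e hUV) (by
    rw [← Subgroup.comap_map_eq_self_of_injective (f := e.toMonoidHom) e.injective T]
    exact Subgroup.comap_mono hUT)
  have h2 := Subgroup.map_mono (f := e.toMonoidHom) h1
  rw [iterCommutator_map, Subgroup.map_comap_eq_self_of_surjective e.surjective,
    Subgroup.map_comap_eq_self_of_surjective e.surjective, MonoidHom.map_zpowers] at h2
  exact h2

end Cfsg.Agent.Invol
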