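import Mathlib
import Cfsg.Prelude.Def_ConjugacyFunctors
import Cfsg.Prelude.Def_LocalEven
import Cfsg.Agent.Lib.Fus.QdGroup
import Cfsg.Agent.Lib.Invol.Section
import Cfsg.Agent.Lib.Invol.ThompsonJ
import Cfsg.Agent.Lib.Invol.ThompsonComplement
import Cfsg.Agent.Lib.Invol.KInfinity
import Cfsg.Agent.Lib.Invol.Transport

/-!
# No characteristic subgroup functor controls strong fusion in `Qd(p)`

Also: the functor `P ↦ Z(J(P))`.
-/

set_option autoImplicit false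
set_option linter.style.haveILetI false

open Matrix
open scoped Pointwise

namespace Cfsg.Agent.Invol.QdFusion

universe u

variable {p : ℕ} [hp : Fact p.Prime]

local notation "SL2" => Matrix.SpecialLinearGroup (Fin 2) (ZMod p)
local notation "F2" => Multiplicative (Fin 2 → ZMod p)
local notation "Q3" => Cfsg.qd p

/-- Upper unipotent. -/
def upS (t : ZMod p) : SL2 := ⟨!![1, t; 0, 1], by simp [Matrix.det_fin_two]⟩

/-- Lower unipotent. -/
def lowS (t : ZMod p) : SL2 := ⟨!![1, 0; t, 1], by simp [Matrix.det_fin_two]⟩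

/-- A representative of the Weyl element. -/
def weylS : SL2 := ⟨!![0, -1; 1, 0], by simp [Matrix.det_fin_two]⟩

/-- The upper triangular subgroup. -/
def borelS (p : ℕ) : Subgroup (Matrix.SpecialLinearGroup (Fin 2) (ZMod p)) where
  carrier := {g | g.1 1 0 = 0}
  one_mem' := rfl
  mul_mem' := by
    intro a b ha hb
    simp only [Set.mem_ofPred_eq] at ha hb ⊢
    simp [Matrix.mul_apply, Fin.sum_univ_two, ha, hb]
  inv_mem' := by
    intro a ha
    simp only [Set.mem_ofPred_eq] at ha ⊢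
    simp [Matrix.SpecialLinearGroup.coe_inv, Matrix.adjugate_fin_two, ha]

/-- The Borel subgroup of `Qd(p)`. -/
def qdB (p : ℕ) : Subgroup (Cfsg.qd p) := (borelS p).comap (Fus.qdBlock p)

/-- The upper unitriangular subgroup. -/
def qdT (p : ℕ) : Subgroup (Cfsg.qd p) where
  carrier := {x | x.1.1 0 0 = 1 ∧ x.1.1 1 0 = 0 ∧ x.1.1 1 1 = 1}
  one_mem' := ⟨rfl, rfl, rfl⟩
  mul_mem' := by
    rintro a b ⟨a0, a1, a2⟩ ⟨b0, b1, b2⟩
    obtain ⟨c0, c1, c2⟩ := Fus.qd_apply a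
    obtain ⟨d0, d1, d2⟩ := Fus.qd_apply b
    simp [Matrix.mul_apply, Fin.sum_univ_three, a0, a1, a2, b0, b1, b2, d0, d1]
  inv_mem' := by
    rintro a ⟨a0, a1, a2⟩
    obtain ⟨c0, c1, c2⟩ := Fus.qd_apply a
    simp [Matrix.SpecialLinearGroup.coe_inv, Matrix.adjugate_fin_three, a0, a1, a2, c0, c1, c2]

theorem mem_qdT_iff_block {x : Q3} :
    x ∈ qdT p ↔ ∃ t, Fus.qdBlock p x = upS t := by
  constructor
  · rintro ⟨a0, a1, a2⟩
    exact ⟨x.1.1 0 1, Subtype.ext (by rw [Fus.qdBlock_coe, a0, a1, a2]; rfl)⟩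
  · rintro ⟨t, ht⟩
    have h : ∀ i j, (Fus.qdBlock p x).1 i j = (upS t).1 i j := fun i j => by rw [ht]
    exact ⟨h 0 0, h 1 0, h 1 1⟩

theorem qdT_le_qdB : qdT p ≤ qdB p := fun _ hx => hx.2.1

theorem trans_mem_qdT (v : F2) : Fus.qdTrans p v ∈ qdT p :=
  mem_qdT_iff_block.mpr ⟨0, (Fus.qdBlock_trans v).trans (Subtype.ext Matrix.one_fin_two)⟩

theorem lift_up_mem_qdT (t : ZMod p) : Fus.qdLift p (upS t) ∈ qdT p :=
  mem_qdT_iff_block.mpr ⟨t, Fus.qdBlock_lift _⟩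

theorem ker_le_qdT : (Fus.qdBlock p).ker ≤ qdT p := fun x hx => by
  obtain ⟨v, rfl⟩ := Fus.mem_ker_qdBlock.mp hx
  exact trans_mem_qdT v

theorem sl2_decomp {g : SL2} (hc : g.1 1 0 ≠ 0) :
    g = upS ((g.1 0 0 - 1) / g.1 1 0) * lowS (g.1 1 0) * upS ((g.1 1 1 - 1) / g.1 1 0) := by
  have hdet : g.1 0 0 * g.1 1 1 - g.1 0 1 * g.1 1 0 = 1 := by
    have := g.2; rwa [Matrix.det_fin_two] at this
  apply Subtype.ext
  show g.1 = (upS ((g.1 0 0 - 1) / g.1 1 0)).1 * (lowS (g.1 1 0)).1 * (upS ((g.1 1 1 - 1) / g.1 1 0)).1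
  simp only [upS, lowS]
  ext i j
  fin_cases i <;> fin_cases j <;> simp [Matrix.mul_apply, Fin.sum_univ_two, hc]
  · field_simp
    linear_combination -hdet
  · field_simp
    ring

theorem lowS_pow (t : ZMod p) (n : ℕ) : lowS t ^ n = lowS ((n : ZMod p) * t) := by
  induction n with
  | zero => rw [pow_zero, Nat.cast_zero, zero_mul]; exact Subtype.ext Matrix.one_fin_two
  | succ n ih =>
    rw [pow_succ, ih]
    refine Subtype.ext ?_
    show (lowS ((n : ZMod p) * t)).1 * (lowS t).1 = _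
    simp only [lowS]
    ext i j
    fin_cases i <;> fin_cases j <;> simp [Matrix.mul_apply, Fin.sum_univ_two, add_mul]

/-- A proper subgroup containing `T` lies in the Borel subgroup. -/
theorem eq_top_or_le_qdB {H : Subgroup Q3} (hH : qdT p ≤ H) : H = ⊤ ∨ H ≤ qdB p := by
  refine or_iff_not_imp_right.mpr fun hB => ?_
  obtain ⟨g, hgH, hgB⟩ := SetLike.not_le_iff_exists.mp hB
  set I := H.map (Fus.qdBlock p) with hI
  have hup : ∀ t, upS t ∈ I := fun t => ⟨_, hH (lift_up_mem_qdT t), Fus.qdBlock_lift _⟩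
  set g' := Fus.qdBlock p g with hg'
  have hc : g'.1 1 0 ≠ 0 := hgB
  have hlowc : lowS (g'.1 1 0) ∈ I := by
    have h1 : g' ∈ I := ⟨g, hgH, rfl⟩
    rw [sl2_decomp hc] at h1
    exact (I.mul_mem_cancel_left (hup _)).mp ((I.mul_mem_cancel_right (hup _)).mp h1)
  have hlow : ∀ t, lowS t ∈ I := fun t => by
    have h1 := I.pow_mem hlowc (t / g'.1 1 0).val
    rwa [lowS_pow, ZMod.natCast_zmod_val, div_mul_cancel₀ t hc] at h1
  have hall : ∀ x : SL2, x ∈ I := fun x => by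
    by_cases hx : x.1 1 0 = 0
    · have h1 : (x * lowS 1).1 1 0 ≠ 0 := by
        have hdet : x.1 0 0 * x.1 1 1 - x.1 0 1 * x.1 1 0 = 1 := by
          have := x.2; rwa [Matrix.det_fin_two] at this
        have he : (x * lowS 1).1 1 0 = x.1 1 1 := by
          show (HMul.hMul (α := Matrix (Fin 2) (Fin 2) (ZMod p)) x.1 (lowS 1).1) 1 0 = _
          simp [lowS, Matrix.mul_apply, Fin.sum_univ_two, hx]
        rw [he]
        intro h; rw [hx, h] at hdet; simp at hdet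
      refine (I.mul_mem_cancel_right (hlow 1)).mp ?_
      rw [sl2_decomp h1]
      exact I.mul_mem (I.mul_mem (hup _) (hlow _)) (hup _)
    · rw [sl2_decomp hx]; exact I.mul_mem (I.mul_mem (hup _) (hlow _)) (hup _)
  refine eq_top_iff.mpr fun x _ => ?_
  obtain ⟨y, hy, hyx⟩ := hall (Fus.qdBlock p x)
  have h1 : x * y⁻¹ ∈ (Fus.qdBlock p).ker := by
    rw [MonoidHom.mem_ker, map_mul, map_inv, hyx, mul_inv_cancel]
  simpa using H.mul_mem (hH (ker_le_qdT h1)) hy

theorem isPGroup_qdT : IsPGroup p (qdT p) := by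
  have hker : IsPGroup p (Fus.qdBlock p).ker := by
    have h : (Fus.qdBlock p).ker = (Fus.qdTrans p).range := SetLike.ext fun _ => Fus.mem_ker_qdBlock
    rw [h, MonoidHom.range_eq_map]
    exact ((Fus.isPGroup_vec p).to_subgroup _).map _
  have hI : IsPGroup p ((qdT p).map (Fus.qdBlock p)) := by
    rintro ⟨_, x, hx, rfl⟩
    obtain ⟨t, ht⟩ := mem_qdT_iff_block.mp hx
    refine ⟨1, Subtype.ext ?_⟩
    simp only [pow_one, SubmonoidClass.coe_pow, OneMemClass.coe_one, ht]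
    have hn : ∀ n : ℕ, upS t ^ n = upS ((n : ZMod p) * t) := by
      intro n
      induction n with
      | zero => rw [pow_zero, Nat.cast_zero, zero_mul]; exact Subtype.ext Matrix.one_fin_two
      | succ n ih =>
        rw [pow_succ, ih]
        refine Subtype.ext ?_
        show (upS ((n : ZMod p) * t)).1 * (upS t).1 = _
        simp only [upS]
        ext i j
        fin_cases i <;> fin_cases j <;> simp [Matrix.mul_apply, Fin.sum_univ_two, add_mul, add_comm]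
    rw [hn, ZMod.natCast_self, zero_mul]
    exact Subtype.ext Matrix.one_fin_two.symm
  exact (hI.comap_of_ker_isPGroup _ hker).to_le (Subgroup.le_comap_map _ _)

theorem borel_pow_apply {g : SL2} (hg : g.1 1 0 = 0) (n : ℕ) : (g ^ n).1 0 0 = g.1 0 0 ^ n := by
  induction n with
  | zero => simp
  | succ n ih =>
    rw [pow_succ, pow_succ]
    show ((g ^ n).1 * g.1) 0 0 = _
    rw [Matrix.mul_apply, Fin.sum_univ_two, hg, mul_zero, add_zero, ih]

/-- A `p`-element of the Borel subgroup lies in `T`. -/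
theorem mem_qdT_of_qdB {x : Q3} (hx : x ∈ qdB p) {k : ℕ} (hk : x ^ p ^ k = 1) : x ∈ qdT p := by
  have hb : (Fus.qdBlock p x).1 1 0 = 0 := hx
  have h1 := borel_pow_apply hb (p ^ k)
  rw [← map_pow, hk, map_one, ZMod.pow_card_pow] at h1
  have ha : x.1.1 0 0 = 1 := by
    have : (1 : SL2).1 0 0 = 1 := rfl
    rw [this] at h1
    exact h1.symm
  have hd : (Fus.qdBlock p x).1.det = 1 := (Fus.qdBlock p x).2
  rw [Matrix.det_fin_two, hb, mul_zero, sub_zero] at hd
  have h00 : (Fus.qdBlock p x).1 0 0 = x.1.1 0 0 := rfl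
  rw [h00, ha, one_mul] at hd
  exact ⟨ha, hb, hd⟩

theorem weyl_conj_up (t : ZMod p) : weylS * upS t * (weylS : SL2)⁻¹ = lowS (-t) := by
  rw [mul_inv_eq_iff_eq_mul]
  refine Subtype.ext ?_
  show (weylS (p := p)).1 * (upS t).1 = (lowS (-t)).1 * (weylS (p := p)).1
  simp only [weylS, upS, lowS]
  ext i j
  fin_cases i <;> fin_cases j <;> simp [Matrix.mul_apply, Fin.sum_univ_two]

/-- A normal subgroup contained in `T` lies in the translations. -/
theorem block_eq_one_of_normal {U : Subgroup Q3} (hUn : U.Normal) (hU : U ≤ qdT p) {x : Q3} (hx : x ∈ U) :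
    Fus.qdBlock p x = 1 := by
  obtain ⟨t, ht⟩ := mem_qdT_iff_block.mp (hU hx)
  obtain ⟨s, hs⟩ := mem_qdT_iff_block.mp (hU (hUn.conj_mem x hx (Fus.qdLift p weylS)))
  rw [map_mul, map_mul, map_inv, Fus.qdBlock_lift, ht, weyl_conj_up] at hs
  have h1 : (lowS (-t) : SL2).1 1 0 = (upS s : SL2).1 1 0 := by rw [hs]
  simp [lowS, upS] at h1
  rw [ht, h1]
  exact Subtype.ext Matrix.one_fin_two.symm

/-- A normal subgroup contained in `T` is trivial or the translation group. -/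
theorem trans_mem_of_normal {U : Subgroup Q3} (hUn : U.Normal) (hU : U ≤ qdT p) (hne : U ≠ ⊥)
    (w : F2) : Fus.qdTrans p w ∈ U := by
  obtain ⟨x, hx, hx1⟩ := Subgroup.ne_bot_iff_exists_ne_one.mp hne |> fun ⟨x, hx⟩ => (⟨x.1, x.2, fun h => hx (Subtype.ext h)⟩ : ∃ y, y ∈ U ∧ y ≠ 1)
  obtain ⟨v, rfl⟩ := Fus.mem_ker_qdBlock.mp (block_eq_one_of_normal hUn hU hx)
  set M : Subgroup F2 := U.comap (Fus.qdTrans p) with hM
  have hact : ∀ (g : SL2) (u : F2), u ∈ M → Fus.matAct g u ∈ M := fun g u hu => by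
    have := hUn.conj_mem _ hu (Fus.qdLift p g)
    rwa [Fus.qdTrans_conj, Fus.qdBlock_lift] at this
  have hv : v ∈ M := hx
  have hv1 : v ≠ 1 := fun h => hx1 (by rw [h, map_one])
  have e0 : ∀ a : ZMod p, a ≠ 0 → Multiplicative.ofAdd ![a, 0] ∈ M → ∀ u : F2, u ∈ M := by
    intro a ha ham u
    have hline : ∀ b : ZMod p, Multiplicative.ofAdd ![b, 0] ∈ M := fun b => by
      have h1 := M.pow_mem ham (b / a).val
      rwa [← ofAdd_nsmul, show (b / a).val • ![a, 0] = ![b, 0] by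
        ext i
        fin_cases i
        · simp [div_mul_cancel₀ b ha]
        · simp] at h1
    have hline' : ∀ b : ZMod p, Multiplicative.ofAdd ![0, b] ∈ M := fun b => by
      have h1 := hact weylS _ (hline b)
      rwa [show Fus.matAct weylS (Multiplicative.ofAdd ![b, 0]) = Multiplicative.ofAdd ![0, b] by
        refine congrArg Multiplicative.ofAdd ?_
        ext i
        fin_cases i <;> simp [weylS, Matrix.mulVec, dotProduct, Fin.sum_univ_two]] at h1
    have h2 := M.mul_mem (hline (u.toAdd 0)) (hline' (u.toAdd 1))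
    rwa [show Multiplicative.ofAdd ![u.toAdd 0, 0] * Multiplicative.ofAdd ![0, u.toAdd 1] = u by
      refine Multiplicative.toAdd.injective ?_
      ext i
      fin_cases i <;> simp] at h2
  by_cases h1 : v.toAdd 1 = 0
  · have h0 : v.toAdd 0 ≠ 0 := fun h0 => hv1 (Multiplicative.toAdd.injective (by
      ext i
      fin_cases i <;> simp [h0, h1]))
    refine e0 _ h0 ?_ w
    rwa [show Multiplicative.ofAdd ![v.toAdd 0, 0] = v by
      refine Multiplicative.toAdd.injective ?_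
      ext i
      fin_cases i <;> simp [h1]]
  · refine e0 _ h1 ?_ w
    rw [show Multiplicative.ofAdd ![v.toAdd 1, 0] = Fus.matAct (upS 1) v * v⁻¹ by
      refine Multiplicative.toAdd.injective ?_
      ext i
      fin_cases i <;> simp [Fus.matAct, upS, Matrix.mulVec, dotProduct, Fin.sum_univ_two]]
    exact M.mul_mem (hact _ _ hv) (M.inv_mem hv)

theorem qdT_ext {x y : qdT p} (h01 : x.1.1.1 0 1 = y.1.1.1 0 1) (h02 : x.1.1.1 0 2 = y.1.1.1 0 2)
    (h12 : x.1.1.1 1 2 = y.1.1.1 1 2) : x = y := by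
  obtain ⟨a0, a1, a2⟩ := x.2
  obtain ⟨c0, c1, c2⟩ := Fus.qd_apply x.1
  obtain ⟨b0, b1, b2⟩ := y.2
  obtain ⟨d0, d1, d2⟩ := Fus.qd_apply y.1
  refine Subtype.ext (Subtype.ext (Subtype.ext ?_))
  ext i j
  fin_cases i <;> fin_cases j <;> simp_all

theorem qdT_mul (x y : qdT p) :
    (x * y).1.1.1 0 1 = x.1.1.1 0 1 + y.1.1.1 0 1 ∧
    (x * y).1.1.1 0 2 = x.1.1.1 0 2 + y.1.1.1 0 2 + x.1.1.1 0 1 * y.1.1.1 1 2 ∧
    (x * y).1.1.1 1 2 = x.1.1.1 1 2 + y.1.1.1 1 2 := by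
  obtain ⟨a0, a1, a2⟩ := x.2
  obtain ⟨b0, b1, b2⟩ := y.2
  obtain ⟨d0, d1, d2⟩ := Fus.qd_apply y.1
  refine ⟨?_, ?_, ?_⟩ <;>
    simp [Matrix.mul_apply, Fin.sum_univ_three, a0, a1, a2, b0, b1, b2, d0, d1, d2] <;> ring

/-- The automorphism of `T` exchanging the two maximal abelian normal subgroups. -/
def flip (p : ℕ) [Fact p.Prime] (x : qdT p) : qdT p :=
  ⟨⟨⟨!![1, -x.1.1.1 1 2, x.1.1.1 0 1 * x.1.1.1 1 2 - x.1.1.1 0 2; 0, 1, -x.1.1.1 0 1; 0, 0, 1],
    by simp [Matrix.det_fin_three]⟩, Subgroup.subset_closure ⟨rfl, rfl, rfl⟩⟩, ⟨rfl, rfl, rfl⟩⟩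

theorem flip_apply (x : qdT p) : (flip p x).1.1.1 0 1 = -x.1.1.1 1 2 ∧
    (flip p x).1.1.1 0 2 = x.1.1.1 0 1 * x.1.1.1 1 2 - x.1.1.1 0 2 ∧
    (flip p x).1.1.1 1 2 = -x.1.1.1 0 1 := ⟨rfl, rfl, rfl⟩

/-- The flip as an automorphism. -/
def flipEquiv (p : ℕ) [Fact p.Prime] : qdT p ≃* qdT p where
  toFun := flip p
  invFun := flip p
  left_inv x := by
    obtain ⟨a, b, c⟩ := flip_apply (flip p x)
    obtain ⟨a', b', c'⟩ := flip_apply x
    refine qdT_ext ?_ ?_ ?_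
    · rw [a, c', neg_neg]
    · rw [b, a', b', c']; ring
    · rw [c, a', neg_neg]
  right_inv x := by
    obtain ⟨a, b, c⟩ := flip_apply (flip p x)
    obtain ⟨a', b', c'⟩ := flip_apply x
    refine qdT_ext ?_ ?_ ?_
    · rw [a, c', neg_neg]
    · rw [b, a', b', c']; ring
    · rw [c, a', neg_neg]
  map_mul' x y := by
    obtain ⟨a, b, c⟩ := flip_apply (x * y)
    obtain ⟨a1, b1, c1⟩ := flip_apply x
    obtain ⟨a2, b2, c2⟩ := flip_apply y
    obtain ⟨m1, m2, m3⟩ := qdT_mul x y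
    obtain ⟨n1, n2, n3⟩ := qdT_mul (flip p x) (flip p y)
    refine qdT_ext ?_ ?_ ?_
    · rw [a, n1, a1, a2, m3]; ring
    · rw [b, n2, b1, b2, m1, m2, m3, a1, c2]; ring
    · rw [c, n3, c1, c2, m1]; ring

/-- The normalizer of a characteristic subgroup of `T` fixes the line of `Z(T)`. -/
theorem normalizer_le_qdB {U : Subgroup Q3} (hU : U ≤ qdT p) (hne : U ≠ ⊥)
    (hinv : ∀ (α : qdT p ≃* qdT p) (u : qdT p), (u : Q3) ∈ U → (α u : Q3) ∈ U) :
    Subgroup.normalizer (U : Set Q3) ≤ qdB p := by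
  have hTN : qdT p ≤ Subgroup.normalizer (U : Set Q3) := fun t ht =>
    mem_normalizer_of_forall_mem fun u hu => hinv (MulAut.conj (⟨t, ht⟩ : qdT p)) ⟨u, hU hu⟩ hu
  refine (eq_top_or_le_qdB hTN).resolve_left fun htop => ?_
  have hUn : U.Normal := Subgroup.normalizer_eq_top_iff.mp htop
  have h1 := hinv (flipEquiv p) ⟨_, trans_mem_qdT (Multiplicative.ofAdd ![0, 1])⟩
    (trans_mem_of_normal hUn hU hne _)
  have h2 := block_eq_one_of_normal hUn hU h1
  have h3 : (Fus.qdBlock p (flipEquiv p ⟨_, trans_mem_qdT (Multiplicative.ofAdd ![0, 1])⟩ : Q3)).1 0 1 = 0 := by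
    rw [h2]; rfl
  exact one_ne_zero (neg_eq_zero.mp h3 : (1 : ZMod p) = 0)

theorem qdT_sylow : ∃ S : Sylow p Q3, (S : Subgroup Q3) = qdT p := by
  obtain ⟨S, hS⟩ := (isPGroup_qdT (p := p)).exists_le_sylow
  refine ⟨S, le_antisymm (fun s hs => ?_) hS⟩
  have hpe : ∀ x ∈ (S : Subgroup Q3), x ∈ qdB p → x ∈ qdT p := fun x hx hxB => by
    obtain ⟨k, hk⟩ := S.isPGroup' ⟨x, hx⟩
    exact mem_qdT_of_qdB hxB (k := k) (by simpa using congrArg Subtype.val hk)
  by_contra hsT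
  have htop : (S : Subgroup Q3) = ⊤ :=
    (eq_top_or_le_qdB hS).resolve_right fun h => hsT (hpe s hs (h hs))
  have hnil : Group.IsNilpotent Q3 := by
    have : IsPGroup p Q3 := (S.isPGroup'.of_equiv (MulEquiv.subgroupCongr htop)).of_equiv Subgroup.topEquiv
    exact this.isNilpotent
  have hne : qdT p ≠ ⊤ := fun h => hsT (h ▸ Subgroup.mem_top s)
  have hlt := normalizerCondition_of_isNilpotent (qdT p) (lt_top_iff_ne_top.mpr hne)
  rcases eq_top_or_le_qdB (Subgroup.le_normalizer (H := qdT p)) with h | h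
  · have h1 := (mem_qdT_iff_block.mp ((Subgroup.normalizer_eq_top_iff.mp h).conj_mem _
      (lift_up_mem_qdT 1) (Fus.qdLift p weylS)))
    obtain ⟨t, ht⟩ := h1
    rw [map_mul, map_mul, map_inv, Fus.qdBlock_lift, Fus.qdBlock_lift, weyl_conj_up] at ht
    have h2 : (lowS (-1) : SL2).1 1 0 = (upS t : SL2).1 1 0 := by rw [ht]
    simp [lowS, upS] at h2
  · exact hlt.not_ge fun x hx => hpe x (htop ▸ Subgroup.mem_top x) (h hx)

/-- In a copy of `Qd(p)` some line is preserved by the normalizers of all functor values on a Sylow subgroup,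
although fusion in `O_p` moves it. -/
theorem exists_line {X : Type u} [Group X] [Finite X] (φ : Q3 ≃* X) (T₁ : Sylow p X) :
    ∃ (L : Set X) (z g : X), z ∈ L ∧ z ∈ Cfsg.pCore p X ∧ g * z * g⁻¹ ∈ Cfsg.pCore p X ∧
      g * z * g⁻¹ ∉ L ∧ ∀ W : ∀ (Q : Type u) [Group Q], Subgroup Q, Cfsg.IsCharPFunctor.{u} p W →
        ∀ n ∈ Subgroup.normalizer (Cfsg.inducedFunctor W (T₁ : Subgroup X) : Set X),
          ∀ l ∈ L, n * l * n⁻¹ ∈ L := by
  obtain ⟨S, hS⟩ := qdT_sylow (p := p)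
  obtain ⟨x, hx⟩ := MulAction.exists_smul_eq X (S.mapSurjective (f := φ.toMonoidHom) φ.surjective) T₁
  let ψ : Q3 ≃* X := φ.trans (MulAut.conj x)
  have hψ : (qdT p).map ψ.toMonoidHom = (T₁ : Subgroup X) := by
    rw [← hS, ← hx, Sylow.coe_subgroup_smul, ← Grp.map_conj_eq_smul]
    show _ = ((S : Subgroup Q3).map φ.toMonoidHom).map (MulAut.conj x).toMonoidHom
    rw [Subgroup.map_map]
    rfl
  let e0 : F2 := Multiplicative.ofAdd ![1, 0]
  refine ⟨ψ '' {y | ∃ v : F2, v.toAdd 1 = 0 ∧ y = Fus.qdTrans p v}, ψ (Fus.qdTrans p e0),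
    ψ (Fus.qdLift p weylS), ⟨_, ⟨e0, by simp [e0], rfl⟩, rfl⟩, ?_, ?_, ?_, ?_⟩
  · rw [← map_pCore_equiv ψ]
    exact ⟨_, Grp.le_pCore (Fus.qdBlock p).normal_ker (isPGroup_qdT.to_le ker_le_qdT) (Fus.qdBlock_trans e0), rfl⟩
  · rw [← map_inv, ← map_mul, ← map_mul, ← map_pCore_equiv ψ]
    exact ⟨_, Grp.le_pCore (Fus.qdBlock p).normal_ker (isPGroup_qdT.to_le ker_le_qdT)
      ((Fus.qdBlock p).normal_ker.conj_mem _ (Fus.qdBlock_trans e0) _), rfl⟩
  · rintro ⟨_, ⟨v, hv, rfl⟩, he⟩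
    rw [← map_inv, ← map_mul, ← map_mul, Fus.qdTrans_conj, Fus.qdBlock_lift] at he
    have h1 := congrArg (fun u : F2 => u.toAdd 1) (Fus.qdTrans_injective (ψ.injective he))
    simp [Fus.matAct, weylS, e0, hv, Matrix.mulVec, dotProduct, Fin.sum_univ_two] at h1
  · intro W hW n hn
    obtain ⟨m, rfl⟩ := ψ.surjective n
    set U := (Cfsg.inducedFunctor W (T₁ : Subgroup X)).comap ψ.toMonoidHom with hUdef
    have hm : m ∈ Subgroup.normalizer (U : Set Q3) := by
      rw [hUdef, ← Subgroup.comap_normalizer_eq_of_surjective _ ψ.surjective]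
      exact hn
    have hUT : U ≤ qdT p := by
      rw [← Subgroup.comap_map_eq_self_of_injective (f := ψ.toMonoidHom) ψ.injective (qdT p), hψ]
      exact Subgroup.comap_mono (inducedFunctor_le _ _)
    have hUne : U ≠ ⊥ := by
      intro h
      refine inducedFunctor_ne_bot hW T₁.isPGroup' (fun hb => ?_) ?_
      · have : Fus.qdTrans p e0 = 1 := ψ.injective (by
          rw [map_one, ← Subgroup.mem_bot, ← hb, ← hψ]
          exact ⟨_, trans_mem_qdT e0, rfl⟩)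
        have h2 := congrArg (fun u : F2 => u.toAdd 0) (Fus.qdTrans_injective (this.trans (map_one _).symm))
        simp [e0] at h2
      · rw [← Subgroup.map_comap_eq_self_of_surjective (f := ψ.toMonoidHom) ψ.surjective (Cfsg.inducedFunctor W (T₁ : Subgroup X)), ← hUdef, h,
          Subgroup.map_bot]
    have hmB := normalizer_le_qdB hUT hUne (fun α u hu => ?_) hm
    swap
    · let e : qdT p ≃* (T₁ : Subgroup X) := (ψ.subgroupMap (qdT p)).trans (MulEquiv.subgroupCongr hψ)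
      obtain ⟨w, hw, hwe⟩ := hu
      have hwu : w = e u := Subtype.ext hwe
      refine ⟨e (α u), ?_, rfl⟩
      have h1 := hW.2 _ _ T₁.isPGroup' ((e.symm.trans α).trans e)
      rw [← h1]
      exact ⟨w, hw, by rw [hwu]; simp⟩
    rintro _ ⟨_, ⟨v, hv, rfl⟩, rfl⟩
    refine ⟨m * Fus.qdTrans p v * m⁻¹, ⟨_, ?_, Fus.qdTrans_conj m v⟩, by simp⟩
    show ((Fus.qdBlock p m).1 *ᵥ v.toAdd) 1 = 0
    simp [Matrix.mulVec, dotProduct, Fin.sum_univ_two, show (Fus.qdBlock p m).1 1 0 = 0 from hmB, hv]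

theorem not_controlsStrongFusion {X : Type u} [Group X] [Finite X] (φ : Q3 ≃* X) (T₁ : Sylow p X)
    {W : ∀ (Q : Type u) [Group Q], Subgroup Q} (hW : Cfsg.IsCharPFunctor.{u} p W) :
    ¬ Cfsg.ControlsStrongFusion p (Cfsg.inducedFunctor W (T₁ : Subgroup X)) := by
  obtain ⟨L, z, g, hzL, hzO, hgO, hgL, hpres⟩ := exists_line φ T₁
  rintro ⟨T, -, hT⟩
  obtain ⟨-, h⟩ := hT {z} (Set.singleton_subset_iff.mpr (Grp.pCore_le_sylow T hzO))
  obtain ⟨n, hn, he⟩ := h g (by rintro _ ⟨_, rfl, rfl⟩; exact Grp.pCore_le_sylow T hgO)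
  exact hgL (by rw [he z rfl]; exact hpres W hW n hn z hzL)

theorem not_familyControlsStrongFusionIn {X : Type u} [Group X] [Finite X] (φ : Q3 ≃* X)
    {𝓦 : Set (∀ (Q : Type u) [Group Q], Subgroup Q)} (h𝓦 : ∀ W ∈ 𝓦, Cfsg.IsCharPFunctor.{u} p W) :
    ¬ Cfsg.FamilyControlsStrongFusionIn p ((fun W => Cfsg.inducedFunctor (G := X) W) '' 𝓦) ⊤ := by
  rintro ⟨T, -, hTp, hTi, hT⟩
  rw [Subgroup.relIndex_top_right] at hTi
  obtain ⟨T₁, hT₁⟩ : ∃ T₁ : Sylow p X, (T₁ : Subgroup X) = T := ⟨hTp.toSylow hTi, rfl⟩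
  obtain ⟨L, z, g, hzL, hzO, hgO, hgL, hpres⟩ := exists_line φ T₁
  obtain ⟨n, c, hc0, hcs, -, hce⟩ := hT {z} g (Subgroup.mem_top g)
    (by rintro _ rfl; exact hT₁ ▸ Grp.pCore_le_sylow T₁ hzO)
    (by rintro _ ⟨_, rfl, rfl⟩; exact hT₁ ▸ Grp.pCore_le_sylow T₁ hgO)
  have key : ∀ i : Fin (n + 1), c i * z * (c i)⁻¹ ∈ L := by
    intro i
    induction i using Fin.induction with
    | zero => simpa [hc0] using hzL
    | succ i ih =>
      obtain ⟨_, ⟨W, hW, rfl⟩, hx⟩ := hcs i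
      have h1 := hpres W (h𝓦 W hW) _ (hT₁ ▸ hx.2) _ ih
      simpa [mul_assoc] using h1
  exact hgL (hce z rfl ▸ key _)

end Cfsg.Agent.Invol.QdFusion

namespace Cfsg.Agent.Invol

universe u v w

/-- Involvement and the section predicate agree. -/
theorem isSectionOf_of_involves {G : Type v} [Group G] {X : Type u} [Group X]
    (h : Cfsg.Involves X G) : IsSectionOf X G := by
  obtain ⟨K, R, hR, ⟨e⟩⟩ := h
  exact ⟨K, e.toMonoidHom.comp (QuotientGroup.mk' _), e.surjective.comp (QuotientGroup.mk'_surjective _)⟩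

theorem exists_sectionMulEquiv_of_involves {G : Type v} [Group G] {X : Type u} [Group X]
    (h : Cfsg.Involves X G) :
    ∃ (K R : Subgroup G) (_ : (R.subgroupOf K).Normal), Nonempty (X ≃* K ⧸ R.subgroupOf K) := by
  obtain ⟨K, R, hR, ⟨e⟩⟩ := h
  exact ⟨K, R, hR, ⟨e.symm⟩⟩

/-- The functor `Q ↦ Z(J(Q))`. -/
def centerThompsonFunctor (Q : Type u) [Group Q] : Subgroup Q :=
  KInf.zen (Cfsg.thompsonSubgroupA Q)

theorem inducedFunctor_centerThompson {G : Type u} [Group G] (P : Subgroup G) :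
    Cfsg.inducedFunctor centerThompsonFunctor P = Cfsg.centerThompsonAOf P :=
  KInf.map_zen P.subtype_injective _

theorem isCharPFunctor_centerThompson (p : ℕ) [Fact p.Prime] :
    Cfsg.IsCharPFunctor.{u} p centerThompsonFunctor := by
  refine ⟨fun Q _ _ hQ _ hbot => ?_, fun Q R _ _ _ _ e => ?_⟩
  · have hJ : Cfsg.thompsonSubgroupA Q ≠ ⊥ := thompsonSubgroupA_ne_bot
    haveI := (Subgroup.nontrivial_iff_ne_bot _).mpr hJ
    obtain ⟨⟨z, hz⟩, hz1⟩ := Subgroup.ne_bot_iff_exists_ne_one.mp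
      ((Subgroup.nontrivial_iff_ne_bot _).mp (hQ.to_subgroup (Cfsg.thompsonSubgroupA Q)).center_nontrivial)
    refine hz1 (Subtype.ext (Subtype.ext ?_))
    have h1 : (z : Q) ∈ centerThompsonFunctor Q := ⟨z.2, Subgroup.mem_centralizer_iff.mpr fun y hy =>
      congrArg Subtype.val (Subgroup.mem_center_iff.mp hz ⟨y, hy⟩)⟩
    rw [hbot] at h1
    exact h1
  · show (KInf.zen (Cfsg.thompsonSubgroupA Q)).map e.toMonoidHom = KInf.zen (Cfsg.thompsonSubgroupA R)
    rw [KInf.map_zen e.injective, map_thompsonSubgroupA e]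

end Cfsg.Agent.Invol
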