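import Mathlib
import Cfsg.Prelude.Def_TwoFusion
import Cfsg.Agent.Lib.Invol.Sylow

/-!
# Isolated involutions
-/

namespace Cfsg.Agent.Invol

variable {G : Type*} [Group G] [Finite G] {z : G}

/-- Two commuting conjugates of an isolated involution are equal. -/
theorem conj_eq_of_commute (hz : Cfsg.IsIsolatedInvolution z) {g h : G}
    (hc : Commute (g * z * g⁻¹) (h * z * h⁻¹)) : g * z * g⁻¹ = h * z * h⁻¹ := by
  have h1 : Commute z (g⁻¹ * h * z * (g⁻¹ * h)⁻¹) := by
    have := hc.map (MulAut.conj g⁻¹).toMonoidHom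
    simpa [mul_assoc] using this
  have h2 := hz.2 _ h1
  calc g * z * g⁻¹ = g * (g⁻¹ * h * z * (g⁻¹ * h)⁻¹) * g⁻¹ := by rw [h2]
    _ = h * z * h⁻¹ := by group

/-- The product of two conjugates of an isolated involution has odd order. -/
theorem odd_orderOf_conj_mul (hz : Cfsg.IsIsolatedInvolution z) (g h : G) :
    Odd (orderOf (g * z * g⁻¹ * (h * z * h⁻¹))) := by
  set s := g * z * g⁻¹ with hs
  set t := h * z * h⁻¹ with ht
  have hs2 : orderOf s = 2 := by rw [hs, orderOf_conj_eq, hz.1]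
  have ht2 : orderOf t = 2 := by rw [ht, orderOf_conj_eq, hz.1]
  obtain ⟨a, b, hb, hab⟩ := Nat.exists_eq_two_pow_mul_odd (orderOf_pos (s * t)).ne'
  obtain ⟨d, -, hd, hord⟩ := exists_conj_two_part hs2 ht2 hab hb
  set w := (s * t) ^ b with hw
  have hinv : s * w * s⁻¹ = w⁻¹ := by rw [hw, ← conj_pow, conj_mul_eq_inv hs2 ht2, inv_pow]
  rcases Nat.eq_zero_or_pos a with rfl | ha
  · rw [hab]; simpa using hb
  exfalso
  rcases Nat.lt_or_ge a 2 with ha1 | ha1
  · have hw2 : w * w = 1 := by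
      have : a = 1 := by omega
      subst this
      exact mul_self_of_orderOf_two (by simpa using hord)
    have hwinv : w⁻¹ = w := inv_eq_of_mul_eq_one_right hw2
    have hcomm : Commute s (s * w) := by
      refine (Commute.refl s).mul_right ?_
      rw [hwinv] at hinv
      exact mul_inv_eq_iff_eq_mul.mp hinv
    have heq : d * t * d⁻¹ = (d * h) * z * (d * h)⁻¹ := by rw [ht]; group
    rw [← hd, heq, hs] at hcomm
    have := conj_eq_of_commute hz hcomm
    rw [← hs, ← heq, hd, left_eq_mul] at this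
    rw [this, orderOf_one] at hord
    exact (Nat.one_lt_two_pow ha.ne').ne hord
  · -- conjugate `s` by an element of order four of `⟨w⟩`
    set w1 := w ^ 2 ^ (a - 2) with hw1
    have hord1 : orderOf w1 = 4 := by
      rw [hw1, orderOf_pow' _ (by positivity), hord,
        Nat.gcd_eq_right (pow_dvd_pow 2 (by omega)), Nat.pow_div (by omega) (by norm_num),
        show a - (a - 2) = 2 by omega]
    have hinv1 : s * w1 * s⁻¹ = w1⁻¹ := by rw [hw1, ← conj_pow, hinv, inv_pow]
    have hconj : w1 * s * w1⁻¹ = w1 ^ 2 * s := by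
      have hss := mul_self_of_orderOf_two hs2
      rw [← hinv1, inv_of_orderOf_two hs2, sq]
      simp [← mul_assoc, mul_assoc _ s s, hss]
    have hw22 : orderOf (w1 ^ 2) = 2 := by
      rw [orderOf_pow' _ two_ne_zero, hord1]; rfl
    have hcomm : Commute s (w1 ^ 2 * s) := by
      refine Commute.mul_right ?_ (Commute.refl s)
      have h2 : s * w1 ^ 2 * s⁻¹ = w1 ^ 2 := by
        rw [← conj_pow, hinv1, inv_pow, inv_of_orderOf_two hw22]
      exact mul_inv_eq_iff_eq_mul.mp h2
    have heq : w1 * s * w1⁻¹ = (w1 * g) * z * (w1 * g)⁻¹ := by rw [hs]; group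
    rw [← hconj, heq, hs] at hcomm
    have := conj_eq_of_commute hz hcomm
    rw [← hs, ← heq, hconj, right_eq_mul] at this
    exact ne_one_of_orderOf_two hw22 this

/-- An element of odd order with square in a subgroup lies in the subgroup. -/
theorem mem_of_sq_mem {N : Subgroup G} {k : G} (hk : Odd (orderOf k)) (h : k * k ∈ N) : k ∈ N := by
  obtain ⟨m, hm⟩ := hk
  have : k = (k * k) ^ (m + 1) := by
    have h1 := pow_orderOf_eq_one k
    rw [hm] at h1
    rw [← sq, ← pow_mul, show 2 * (m + 1) = 2 * m + 1 + 1 by ring, pow_succ, h1, one_mul]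
  rw [this]
  exact pow_mem h _

/-- An element of odd order inverted by `z` carrying `z` to its conjugate `g z g⁻¹`. -/
theorem exists_odd_inverted (hz : Cfsg.IsIsolatedInvolution z) (g : G) :
    ∃ k : G, Odd (orderOf k) ∧ z * k * z⁻¹ = k⁻¹ ∧ k * z * k⁻¹ = g * z * g⁻¹ ∧
      k ∈ Subgroup.zpowers (z * (g * z * g⁻¹)) := by
  have hu : orderOf (g * z * g⁻¹) = 2 := by rw [orderOf_conj_eq, hz.1]
  have hodd : Odd (orderOf (z * (g * z * g⁻¹))) := by
    simpa using odd_orderOf_conj_mul hz 1 g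
  obtain ⟨m, hm⟩ := hodd
  refine ⟨(z * (g * z * g⁻¹)) ^ (m : ℤ), ?_, ?_, ?_, Subgroup.zpow_mem_zpowers _ _⟩
  · refine Odd.of_dvd_nat ⟨m, hm⟩ ?_
    rw [zpow_natCast]
    exact orderOf_pow_dvd m
  · rw [conj_mul_zpow_eq_inv hz.1 hu, zpow_neg]
  · conv_rhs => rw [y_eq' hz.1 hu]
    rw [← zpow_neg, mul_assoc, mul_zpow_comm hz.1 hu, neg_neg, ← mul_assoc, ← zpow_add]
    congr 1
    rw [← orderOf_dvd_sub_iff_zpow_eq_zpow, hm]
    exact ⟨1, by push_cast; ring⟩

theorem zpowers_mul_le_closure (x y : G) :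
    Subgroup.zpowers (x * y) ≤ Subgroup.closure ({x, y} : Set G) :=
  Subgroup.zpowers_le.mpr (mul_mem left_mem_closure_pair right_mem_closure_pair)

end Cfsg.Agent.Invol
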