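import Cfsg.Agent.Lib.Invol.BrauerSuzuki
import Cfsg.Agent.Lib.Invol.Isolated
import Cfsg.Prelude.Def_TwoFusion

/-!
# Glauberman's Z*-theorem
-/

open scoped ComplexConjugate

set_option linter.unusedSectionVars false
set_option linter.style.haveILetI false

namespace Cfsg.Agent.ZStar

open Cfsg Cfsg.Agent.Block

universe u

variable {G : Type u} [Group G] [Finite G] {M : Ideal AlgInt}

/-- An element of the odd core of the centralizer does not move the values in the principal
block. -/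
theorem value_eq_of_core [Fintype G] (hM : IsPModular 2 M) {z : G}
    (hz : ∃ k : ℕ, orderOf z = 2 ^ k) {s : Subgroup.centralizer ({z} : Set G)}
    (hs : s ∈ pPrimeCore 2 (Subgroup.centralizer ({z} : Set G))) {χ : IrrCharacter G}
    (hχ : χ ∈ principalBlock M G) : (χ : G → ℂ) (z * (s : G)) = (χ : G → ℂ) z := by
  classical
  haveI : Fact (Nat.Prime 2) := ⟨Nat.prime_two⟩
  cases nonempty_fintype (Subgroup.centralizer ({z} : Set G))
  obtain ⟨k, hk⟩ := hz
  haveI := Grp.pPrimeCore_isNormal (p := 2) (G := Subgroup.centralizer ({z} : Set G))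
  have hK := Grp.pPrimeCore_not_dvd (p := 2) (G := Subgroup.centralizer ({z} : Set G))
  have hsy : ¬ 2 ∣ orderOf s := fun hd =>
    hK (hd.trans (by rw [← Subgroup.orderOf_mk s hs]; exact orderOf_dvd_natCard _))
  have hP : IsPGroup 2 (Subgroup.zpowers z) :=
    IsPGroup.of_card (n := k) (by rw [Nat.card_zpowers, hk])
  have hdef : ∀ ξ : IrrCharacter (Subgroup.centralizer ({z} : Set G)),
      InducedBlockDefined M (Subgroup.centralizer ({z} : Set G))
        (blockOf M (ξ : Subgroup.centralizer ({z} : Set G) → ℂ)) := fun ξ => by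
    refine inducedBlockDefined_brauer hM hP (Subgroup.zpowers_le.2 (centralizer_self_mem z)) ?_ ?_
      (isPBlock_blockOf ξ)
    · exact Subgroup.centralizer_le (Set.singleton_subset_iff.2 (Subgroup.mem_zpowers z))
    · exact fun c hc => BS.mem_normalizer_of_conj_le fun w hw => by
        obtain ⟨i, rfl⟩ := Subgroup.mem_zpowers_iff.1 hw
        have hcz : Commute c z := Subgroup.mem_centralizer_singleton_iff.1 hc
        rw [(hcz.zpow_right i).eq, mul_inv_cancel_right]
        exact hw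
  have e1 := value_eq_sum_inducing hM ⟨k, hk⟩ (isPBlock_principalBlock (G := G)) hsy χ
  have e2 := value_eq_sum_inducing hM ⟨k, hk⟩ (isPBlock_principalBlock (G := G))
    (y := (1 : Subgroup.centralizer ({z} : Set G))) (by simp) χ
  rw [if_pos hχ] at e1 e2
  rw [← e1, show (χ : G → ℂ) z = (χ : G → ℂ) (z * ((1 : Subgroup.centralizer ({z} : Set G)) : G)) by
    rw [OneMemClass.coe_one, mul_one], ← e2]
  refine Finset.sum_congr rfl fun ξ hξ => ?_
  have hb : ξ ∈ principalBlock M (Subgroup.centralizer ({z} : Set G)) := by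
    rw [← (principal_third_main hM (hdef ξ)).1 (Finset.mem_filter.1 hξ).2]
    exact mem_blockOf_self hM ξ
  rw [principal_ker_of_coprime hM hK hb hs]

variable {t : G}

/-- Fusion of elements centralizing an isolated involution happens in its centralizer. -/
theorem exists_fusion (ht : IsIsolatedInvolution t) {x y h : G} (hxt : Commute x t)
    (hyt : Commute y t) (hh : h * x * h⁻¹ = y) :
    ∃ c : G, Commute c t ∧ c * x * c⁻¹ = y := by
  obtain ⟨k, -, -, hk, hkz⟩ := Invol.exists_odd_inverted ht h⁻¹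
  have hxt' : Commute x (h⁻¹ * t * h⁻¹⁻¹) := by
    have := hyt.map (MulAut.conj h⁻¹).toMonoidHom
    simp only [MulEquiv.coe_toMonoidHom, MulAut.conj_apply] at this
    rw [show h⁻¹ * y * h⁻¹⁻¹ = x by rw [← hh]; group] at this
    exact this
  obtain ⟨i, hi⟩ := Subgroup.mem_zpowers_iff.1 hkz
  have hkx : Commute x k := hi ▸ (hxt.mul_right hxt').zpow_right i
  refine ⟨h * k, ?_, ?_⟩
  · refine mul_inv_eq_iff_eq_mul.1 ?_
    calc h * k * t * (h * k)⁻¹ = h * (k * t * k⁻¹) * h⁻¹ := by group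
      _ = t := by rw [hk]; group
  · calc h * k * x * (h * k)⁻¹ = h * (k * x * k⁻¹) * h⁻¹ := by group
      _ = y := by rw [← hkx.eq, mul_inv_cancel_right, hh]

/-- The values on `t` times a conjugate of `u` in the principal block are constant. -/
theorem value_const [Fintype G] (hM : IsPModular 2 M) (ht : IsIsolatedInvolution t)
    (hnc : ∀ z : G, orderOf z = 2 → z ∉ Subgroup.center G)
    (ih : ∀ H : Subgroup G, H ≠ ⊤ → ∀ htH : t ∈ H, ∀ h : H,
      (⟨t, htH⟩ : H) * h * (⟨t, htH⟩ : H)⁻¹ * h⁻¹ ∈ pPrimeCore 2 H)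
    {u : G} (hu : orderOf u = 2) (htu : Commute t u) (hne : u ≠ t) {χ : IrrCharacter G}
    (hχ : χ ∈ principalBlock M G) (g : G) :
    (χ : G → ℂ) (t * (g * u * g⁻¹)) = (χ : G → ℂ) (t * u) := by
  haveI : Fact (Nat.Prime 2) := ⟨Nat.prime_two⟩
  set v := g * u * g⁻¹ with hv
  have hv2 : orderOf v = 2 := by rw [hv, Invol.orderOf_conj_eq, hu]
  have hnconj : ∀ d : G, d * v * d⁻¹ ≠ t := fun d he => by
    have h1 : (d * g)⁻¹ * t * ((d * g)⁻¹)⁻¹ = u := by rw [← he, hv]; group
    exact hne (h1 ▸ ht.2 (d * g)⁻¹ (by rw [h1]; exact htu))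
  obtain ⟨a, b, hb, hab⟩ := Nat.exists_eq_two_pow_mul_odd (orderOf_pos (t * v)).ne'
  obtain ⟨d, -, hd, hord⟩ := Invol.exists_conj_two_part ht.1 hv2 hab hb
  have ha : a ≠ 0 := fun h0 => hnconj d (by
    rw [h0, pow_zero, orderOf_eq_one_iff] at hord
    rw [hd, hord, mul_one])
  have htt := Invol.mul_self_of_orderOf_two ht.1
  have hinv := Invol.conj_mul_eq_inv ht.1 hv2
  -- the central involution of the dihedral group
  set z := ((t * v) ^ b) ^ 2 ^ (a - 1) with hz
  have hz2 : orderOf z = 2 := by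
    rw [hz, orderOf_pow' _ (by positivity), hord, Nat.gcd_eq_right (pow_dvd_pow 2 (by omega)),
      Nat.pow_div (by omega) two_pos, show a - (a - 1) = 1 by omega, pow_one]
  have htz : Commute t z := by
    refine mul_inv_eq_iff_eq_mul.1 ?_
    rw [hz, ← conj_pow, ← conj_pow, hinv, inv_pow, inv_pow, ← hz, Invol.inv_of_orderOf_two hz2]
  have hvz : Commute v z := by
    have h1 : Commute (t * v) z := ((Commute.refl (t * v)).pow_right b).pow_right _
    have h2 := htz.mul_left h1
    rwa [← mul_assoc, htt, one_mul] at h2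
  set H := Subgroup.centralizer ({z} : Set G) with hH
  have hHtop : H ≠ ⊤ := fun he => hnc z hz2 (Subgroup.mem_center_iff.2 fun x =>
    Subgroup.mem_centralizer_singleton_iff.1 (he ▸ Subgroup.mem_top x : x ∈ H))
  have htH : t ∈ H := Subgroup.mem_centralizer_singleton_iff.2 htz.eq
  have hvH : v ∈ H := Subgroup.mem_centralizer_singleton_iff.2 hvz.eq
  set T : H := ⟨t, htH⟩
  set V : H := ⟨v, hvH⟩
  have hsq := ih H hHtop htH V
  have hcs : ((T * V * T⁻¹ * V⁻¹ : H) : G) = (t * v) ^ 2 := by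
    simp only [T, V, Subgroup.coe_mul, Subgroup.coe_inv, Invol.inv_of_orderOf_two ht.1,
      Invol.inv_of_orderOf_two hv2, pow_two, mul_assoc]
  have hodd : ¬ 2 ∣ orderOf ((t * v) ^ 2) := by
    rw [← hcs, Subgroup.orderOf_coe]
    exact fun hd' => Grp.pPrimeCore_not_dvd (p := 2) (G := H)
      (hd'.trans (by rw [← Subgroup.orderOf_mk _ hsq]; exact orderOf_dvd_natCard _))
  have ha1 : a = 1 := by
    by_contra hne1
    refine hodd ?_
    rw [orderOf_pow' _ two_ne_zero, hab,
      Nat.gcd_eq_right (dvd_mul_of_dvd_left (dvd_pow_self 2 ha) b),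
      show 2 ^ a * b = 2 * (2 * (2 ^ (a - 2) * b)) by
        rw [← mul_assoc, ← mul_assoc, ← pow_two, ← pow_add, show 2 + (a - 2) = a by omega],
      Nat.mul_div_cancel_left _ two_pos]
    exact dvd_mul_right 2 _
  subst ha1
  obtain ⟨j, rfl⟩ := hb
  have hzb : z = (t * v) ^ (2 * j + 1) := by rw [hz]; simp
  set s : H := ((T * V * T⁻¹ * V⁻¹) ^ j)⁻¹
  have hsG : (s : G) = ((t * v) ^ (2 * j))⁻¹ := by
    simp only [s, Subgroup.coe_inv, Subgroup.coe_pow, hcs, ← pow_mul]
  have hzs : z * (s : G) = t * v := by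
    rw [hsG, hzb, pow_succ', mul_assoc, mul_inv_cancel, mul_one]
  have hval := value_eq_of_core (z := z) hM ⟨1, by rw [hz2, pow_one]⟩ (s := s)
    (inv_mem (pow_mem hsq j)) hχ
  rw [hzs] at hval
  -- `z` is conjugate to `t * u`
  have hd' : d * v * d⁻¹ = t * z := by rw [hd, hzb]
  obtain ⟨c, hct, hcu⟩ := exists_fusion ht (x := u) (y := t * z) (h := d * g) htu.symm
    (((Commute.refl t).mul_left htz.symm))
    (by rw [← hd', hv]; group)
  have hzc : z = c * (t * u) * c⁻¹ := by
    calc z = t * (t * z) := by rw [← mul_assoc, htt, one_mul]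
      _ = t * (c * u * c⁻¹) := by rw [hcu]
      _ = c * (t * u) * c⁻¹ := by
        rw [← mul_assoc, ← mul_assoc, ← hct.eq]; group
  rw [hval, hzc]
  exact irr_classFun χ (t * u) c

/-- Either `t` lies in a proper normal subgroup, or some subgroup of index two avoids `t` and
`t * u`. -/
theorem exists_index_two (hM : IsPModular 2 M) (ht : IsIsolatedInvolution t)
    (hnc : ∀ z : G, orderOf z = 2 → z ∉ Subgroup.center G)
    (ih : ∀ H : Subgroup G, H ≠ ⊤ → ∀ htH : t ∈ H, ∀ h : H,
      (⟨t, htH⟩ : H) * h * (⟨t, htH⟩ : H)⁻¹ * h⁻¹ ∈ pPrimeCore 2 H)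
    (hmax : ∀ K : Subgroup G, K.Normal → t ∈ K → K = ⊤)
    {u : G} (hu : orderOf u = 2) (htu : Commute t u) (hne : u ≠ t) :
    ∃ K : Subgroup G, K.index = 2 ∧ t ∉ K ∧ t * u ∉ K := by
  classical
  cases nonempty_fintype G
  haveI : Fact (Nat.Prime 2) := ⟨Nat.prime_two⟩
  have htt := Invol.mul_self_of_orderOf_two ht.1
  have hv1 : t * u ≠ 1 := fun he => hne (by
    rw [eq_inv_of_mul_eq_one_right he, Invol.inv_of_orderOf_two ht.1])
  have hv2 : orderOf (t * u) = 2 := orderOf_eq_prime (by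
    rw [htu.mul_pow, pow_two, pow_two, htt, Invol.mul_self_of_orderOf_two hu, one_mul]) hv1
  have hvt : Commute t (t * u) := (Commute.refl t).mul_right htu
  have hvne : t * u ≠ t := fun he => Invol.ne_one_of_orderOf_two hu (mul_eq_left.1 he)
  have hprod : ∀ w : G, orderOf w = 2 → Commute t w → w ≠ t → ∀ χ ∈ principalBlock M G,
      (χ : G → ℂ) (t * w) * (χ : G → ℂ) 1 = (χ : G → ℂ) t * (χ : G → ℂ) w := by
    intro w hw htw hwne χ hχ
    have h1 := sum_mul_conj χ t w
    simp only [value_const hM ht hnc ih hw htw hwne hχ, Finset.sum_const, Finset.card_univ,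
      ← Nat.card_eq_fintype_card, nsmul_eq_mul] at h1
    have hG : (Nat.card G : ℂ) ≠ 0 := Nat.cast_ne_zero.2 Nat.card_pos.ne'
    have h1d := irr_one_ne_zero χ
    field_simp at h1
    linear_combination h1
  -- the column of `t * u`
  set S := Finset.univ.filter (fun χ : IrrCharacter G => χ ∈ principalBlock M G) with hS
  have horth : ∑ χ ∈ S, (χ : G → ℂ) (t * u) * (χ : G → ℂ) 1 = 0 := by
    have h := principal_pElem_orth hM (y := t * u) (x := 1) ⟨1, by rw [hv2, pow_one]⟩ ⟨0, by simp⟩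
      (fun hc => hv1 (isConj_one_left.1 hc))
    rw [finsum_mem_block] at h
    rw [← h]
    exact Finset.sum_congr rfl fun χ _ => by rw [charDeg_spec' χ, Complex.conj_natCast]
  obtain ⟨χ, hχS, hχv, hχK⟩ : ∃ χ ∈ S, (χ : G → ℂ) (t * u) ≠ 0 ∧
      (χ : G → ℂ) (t * u) ≠ (χ : G → ℂ) 1 := by
    by_contra hno
    push Not at hno
    have hval : ∀ χ ∈ S, (χ : G → ℂ) (t * u) * (χ : G → ℂ) 1 =
        ((if (χ : G → ℂ) (t * u) = 0 then 0 else charDegree (χ : G → ℂ) ^ 2 : ℕ) : ℂ) := by
      intro χ hχ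
      split_ifs with h0
      · rw [h0]; simp
      · rw [hno χ hχ h0, charDeg_spec' χ]; push_cast; ring
    rw [Finset.sum_congr rfl hval, ← Nat.cast_sum, Nat.cast_eq_zero, Finset.sum_eq_zero_iff] at horth
    have := horth (trivialIrr G) (Finset.mem_filter.2 ⟨Finset.mem_univ _, trivial_mem_principalBlock hM⟩)
    rw [if_neg (show ((trivialIrr G : IrrCharacter G) : G → ℂ) (t * u) ≠ 0 from one_ne_zero),
      show ((trivialIrr G : IrrCharacter G) : G → ℂ) = fun _ => (1 : ℂ) from rfl, charDeg_trivial]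
      at this
    norm_num at this
  have hχB := (Finset.mem_filter.1 hχS).2
  have e1 := hprod u hu htu hne χ hχB
  have e2 := hprod (t * u) hv2 hvt hvne χ hχB
  rw [← mul_assoc, htt, one_mul] at e2
  have hsq : (χ : G → ℂ) t ^ 2 = (χ : G → ℂ) 1 ^ 2 := by
    refine mul_left_cancel₀ hχv ?_
    linear_combination -(χ : G → ℂ) 1 * e1 - (χ : G → ℂ) t * e2
  have hker : ∀ g : G, (χ : G → ℂ) (t * g * t⁻¹ * g⁻¹) = (χ : G → ℂ) 1 := by
    obtain ⟨n, ρ, hρ⟩ := irr_isChar χ
    intro g
    have hn : ‖ρ.character t‖ = ‖ρ.character 1‖ := by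
      have := congrArg norm hsq
      rw [norm_pow, norm_pow] at this
      rw [hρ]
      exact (pow_left_inj₀ (norm_nonneg _) (norm_nonneg _) two_ne_zero).1 this
    rw [Representation.char_one, Complex.norm_natCast] at hn
    obtain ⟨c, hc⟩ := (Cfsg.Agent.Char.norm_character_eq_iff ρ t).1 hn
    rw [← hρ, Representation.char_one, Cfsg.Agent.Char.character_eq_finrank_iff]
    have hcomm : ρ t * ρ g = ρ g * ρ t := by rw [hc]; ext x; simp
    rw [← Module.End.one_eq_id]
    calc ρ (t * g * t⁻¹ * g⁻¹) = ρ t * ρ g * ρ (t⁻¹ * g⁻¹) := by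
          rw [← map_mul, ← map_mul]; congr 1; group
      _ = ρ g * ρ t * ρ (t⁻¹ * g⁻¹) := by rw [hcomm]
      _ = 1 := by
          rw [← map_mul, ← map_mul, show g * t * (t⁻¹ * g⁻¹) = 1 by group, map_one]
  set K := Cfsg.Agent.Char.charKer (irr_isChar χ) with hK
  haveI : K.Normal := Cfsg.Agent.Char.charKer_normal _
  have hvK : t * u ∉ K := fun h => hχK ((Cfsg.Agent.Char.mem_charKer _).1 h)
  have hKtop : K ≠ ⊤ := fun h => hvK (h ▸ Subgroup.mem_top _)
  have htK : t ∉ K := fun h => hKtop (hmax K inferInstance h)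
  set L := K ⊔ Subgroup.zpowers t with hL
  have hLn : L.Normal := by
    refine ⟨fun x hx g => ?_⟩
    obtain ⟨k, hk, w, hw, rfl⟩ := Subgroup.mem_sup_of_normal_left.1 hx
    obtain ⟨i, rfl⟩ := Subgroup.mem_zpowers_iff.1 hw
    have hgt : g * t * g⁻¹ ∈ L := by
      have h1 : t * g * t⁻¹ * g⁻¹ ∈ K := (Cfsg.Agent.Char.mem_charKer _).2 (hker g)
      rw [show g * t * g⁻¹ = t⁻¹ * (t * g * t⁻¹ * g⁻¹) * t * t by
        rw [Invol.inv_of_orderOf_two ht.1]
        simp [mul_assoc, ← mul_assoc t t, htt]]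
      have htL : t ∈ L := Subgroup.mem_sup_right (Subgroup.mem_zpowers t)
      exact mul_mem (mul_mem (mul_mem (inv_mem htL) (Subgroup.mem_sup_left h1)) htL) htL
    rw [conj_mul.symm, ← conj_zpow]
    exact mul_mem (Subgroup.mem_sup_left (Subgroup.Normal.conj_mem inferInstance k hk g))
      (zpow_mem hgt i)
  have hLtop := hmax L hLn (Subgroup.mem_sup_right (Subgroup.mem_zpowers t))
  refine ⟨K, ?_, htK, hvK⟩
  rw [Subgroup.index_eq_two_iff]
  refine ⟨t, fun g => ?_⟩
  obtain ⟨k, hk, w, hw, rfl⟩ := Subgroup.mem_sup_of_normal_left.1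
    (hLtop ▸ Subgroup.mem_top g : g ∈ L)
  obtain ⟨i, rfl⟩ := Subgroup.mem_zpowers_iff.1 hw
  have hi : t ^ i = 1 ∨ t ^ i = t := by
    rw [← zpow_mod_orderOf, ht.1]
    rcases Int.emod_two_eq_zero_or_one i with e | e <;> simp [e]
  rcases hi with e | e <;> rw [e]
  · exact .inr ⟨by rwa [mul_one], fun h => htK (by
      rw [mul_one] at h; exact (Subgroup.mul_mem_cancel_left _ hk).1 h)⟩
  · exact .inl ⟨by rw [mul_assoc, htt, mul_one]; exact hk,
      fun h => htK ((Subgroup.mul_mem_cancel_left _ hk).1 h)⟩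

/-- Two subgroups of index two give a third. -/
theorem exists_third {K₁ K₂ : Subgroup G} (h₁ : K₁.index = 2) (h₂ : K₂.index = 2) (hne : K₁ ≠ K₂)
    {x : G} (hx₁ : x ∉ K₁) (hx₂ : x ∉ K₂) : ∃ L : Subgroup G, L.Normal ∧ x ∈ L ∧ L ≠ ⊤ := by
  let L : Subgroup G :=
    { carrier := {g | g ∈ K₁ ↔ g ∈ K₂}
      one_mem' := iff_of_true (one_mem _) (one_mem _)
      mul_mem' := fun {a b} ha hb => by
        simp only [Set.mem_setOf_eq] at ha hb ⊢
        rw [Subgroup.mul_mem_iff_of_index_two h₁, Subgroup.mul_mem_iff_of_index_two h₂, ha, hb]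
      inv_mem' := fun {a} ha => by
        simp only [Set.mem_setOf_eq] at ha ⊢
        rw [K₁.inv_mem_iff, K₂.inv_mem_iff, ha] }
  have n1 : K₁.Normal := Subgroup.normal_of_index_eq_two h₁
  have n2 : K₂.Normal := Subgroup.normal_of_index_eq_two h₂
  refine ⟨L, ⟨fun a ha g => ?_⟩, iff_of_false hx₁ hx₂, fun htop => hne ?_⟩
  · show g * a * g⁻¹ ∈ K₁ ↔ g * a * g⁻¹ ∈ K₂
    exact ⟨fun h => n2.conj_mem a (ha.1 (by simpa [mul_assoc] using n1.conj_mem _ h g⁻¹)) g,
      fun h => n1.conj_mem a (ha.2 (by simpa [mul_assoc] using n2.conj_mem _ h g⁻¹)) g⟩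
  · ext g
    exact (htop ▸ Subgroup.mem_top g : g ∈ L)

/-- Glauberman's Z*-theorem. -/
theorem commutator_mem_oddCore : ∀ (n : ℕ) (G : Type u) [Group G] [Finite G], Nat.card G = n →
    ∀ t : G, IsIsolatedInvolution t → ∀ g : G, t * g * t⁻¹ * g⁻¹ ∈ pPrimeCore 2 G := by
  intro n
  induction n using Nat.strong_induction_on with
  | _ n ih =>
    intro G _ _ hn t ht g
    haveI : Fact (Nat.Prime 2) := ⟨Nat.prime_two⟩
    have htinv := Invol.inv_of_orderOf_two ht.1
    have hsub : ∀ H : Subgroup G, H ≠ ⊤ → ∀ htH : t ∈ H, ∀ h : H,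
        (⟨t, htH⟩ : H) * h * (⟨t, htH⟩ : H)⁻¹ * h⁻¹ ∈ pPrimeCore 2 H := by
      intro H hH htH h
      refine ih _ ?_ H rfl ⟨t, htH⟩ ⟨by rw [Subgroup.orderOf_mk]; exact ht.1, fun x hx => ?_⟩ h
      · rw [← hn]
        rcases (Nat.le_of_dvd Nat.card_pos (Subgroup.card_subgroup_dvd_card H)).lt_or_eq with h1 | h1
        · exact h1
        · exact absurd (Subgroup.eq_top_of_card_eq H h1) hH
      · exact Subtype.ext (ht.2 x (hx.map H.subtype))
    -- the product of `t` with a conjugate
    have hodd : ∀ x : G, Odd (orderOf (t * (x * t * x⁻¹))) := fun x => by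
      simpa using Invol.odd_orderOf_conj_mul ht 1 x
    have hcomm : ∀ x : G, t * x * t⁻¹ * x⁻¹ = t * (x * t * x⁻¹) := fun x => by rw [htinv]; group
    -- a proper normal subgroup containing `t`
    by_cases hK : ∃ K : Subgroup G, K.Normal ∧ t ∈ K ∧ K ≠ ⊤
    · obtain ⟨K, hKn, htK, hKtop⟩ := hK
      have hwK : g * t * g⁻¹ ∈ K := hKn.conj_mem t htK g
      have h1 := Subgroup.mem_map_of_mem K.subtype (hsub K hKtop htK ⟨_, hwK⟩)
      rw [Grp.pPrimeCore_map_eq] at h1
      have h2 : t * (g * t * g⁻¹) * (t * (g * t * g⁻¹)) ∈ pPrimeCore 2 G := by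
        have := h1.1
        have hwi : (g * t * g⁻¹)⁻¹ = g * t * g⁻¹ := by rw [conj_inv, htinv]
        simp only [Subgroup.coe_subtype, Subgroup.coe_mul, Subgroup.coe_inv, htinv, hwi] at this
        simpa [mul_assoc] using this
      rw [hcomm]
      exact Invol.mem_of_sq_mem (hodd g) h2
    have hmax : ∀ K : Subgroup G, K.Normal → t ∈ K → K = ⊤ := fun K hKn htK =>
      by_contra fun hne => hK ⟨K, hKn, htK, hne⟩
    by_cases htc : t ∈ Subgroup.center G
    · rw [← Subgroup.mem_center_iff.1 htc g, mul_inv_cancel_right, mul_inv_cancel]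
      exact one_mem _
    -- a central involution
    by_cases hc : ∃ z : G, orderOf z = 2 ∧ z ∈ Subgroup.center G
    · obtain ⟨z, hz, hzc⟩ := hc
      set Z := Subgroup.zpowers z with hZ
      haveI hZn : Z.Normal := ⟨fun x hx y => by
        rw [Subgroup.mem_center_iff.1 (Subgroup.zpowers_le.2 hzc hx) y, mul_inv_cancel_right]
        exact hx⟩
      have htZ : QuotientGroup.mk' Z t ≠ 1 := fun he => htc
        (Subgroup.zpowers_le.2 hzc ((QuotientGroup.eq_one_iff t).1 he))
      have hiso : IsIsolatedInvolution (QuotientGroup.mk' Z t) := by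
        refine ⟨orderOf_eq_prime (by rw [← map_pow, pow_two, Invol.mul_self_of_orderOf_two ht.1,
          map_one]) htZ, fun x hx => ?_⟩
        obtain ⟨x, rfl⟩ := QuotientGroup.mk'_surjective Z x
        have hsq : QuotientGroup.mk' Z (t * (x * t * x⁻¹)) ^ 2 = 1 := by
          rw [map_mul, show QuotientGroup.mk' Z (x * t * x⁻¹) =
            QuotientGroup.mk' Z x * QuotientGroup.mk' Z t * (QuotientGroup.mk' Z x)⁻¹ by
              rw [map_mul, map_mul, map_inv], hx.mul_pow, ← map_pow, conj_pow, ← map_pow, pow_two,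
            Invol.mul_self_of_orderOf_two ht.1, map_one, mul_one, mul_inv_cancel, one_mul]
        have h1 : QuotientGroup.mk' Z (t * (x * t * x⁻¹)) = 1 :=
          orderOf_eq_one_iff.1 (Nat.eq_one_of_dvd_coprimes (Nat.coprime_two_right.2 (hodd x))
            (orderOf_map_dvd _ _) (orderOf_dvd_of_pow_eq_one hsq))
        rw [map_mul, map_mul, map_mul, map_inv, mul_eq_one_iff_inv_eq] at h1
        rw [← h1, ← map_inv, htinv]
      have hlt : Nat.card (G ⧸ Z) < n := by
        rw [← hn, Subgroup.card_eq_card_quotient_mul_card_subgroup Z, hZ, Nat.card_zpowers, hz]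
        have := Nat.card_pos (α := G ⧸ Subgroup.zpowers z)
        omega
      have h1 := ih _ hlt (G ⧸ Z) rfl _ hiso (QuotientGroup.mk' Z g)
      rw [← map_inv, ← map_inv, ← map_mul, ← map_mul, ← map_mul] at h1
      set L := (pPrimeCore 2 (G ⧸ Z)).comap (QuotientGroup.mk' Z) with hL
      haveI : (pPrimeCore 2 (G ⧸ Z)).Normal := Grp.pPrimeCore_isNormal
      haveI : L.Normal := Subgroup.Normal.comap inferInstance _
      have hZL : Z ≤ L := fun x hx => by
        rw [hL, Subgroup.mem_comap, show QuotientGroup.mk' Z x = 1 from (QuotientGroup.eq_one_iff x).2 hx]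
        exact one_mem _
      have hcardL : Nat.card L = 2 * Nat.card (pPrimeCore 2 (G ⧸ Z)) := by
        have hidx : L.index = (pPrimeCore 2 (G ⧸ Z)).index :=
          Subgroup.index_comap_of_surjective _ (QuotientGroup.mk'_surjective Z)
        have e1 := L.card_mul_index
        have e2 := (pPrimeCore 2 (G ⧸ Z)).card_mul_index
        have e3 := Subgroup.card_eq_card_quotient_mul_card_subgroup Z
        rw [hidx] at e1
        rw [show Nat.card Z = 2 by rw [hZ, Nat.card_zpowers, hz]] at e3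
        refine Nat.eq_of_mul_eq_mul_right
          (Nat.pos_of_ne_zero (pPrimeCore 2 (G ⧸ Z)).index_ne_zero_of_finite) ?_
        rw [e1, mul_assoc, e2, e3, mul_comm]
      have hP : IsPGroup 2 (Z.subgroupOf L) :=
        (IsPGroup.of_card (n := 1) (by rw [hZ, Nat.card_zpowers, hz, pow_one])).of_equiv
          (Subgroup.subgroupOfEquivOfLe hZL).symm
      have hPc : Nat.card (Z.subgroupOf L) = 2 := by
        rw [Nat.card_congr (Subgroup.subgroupOfEquivOfLe hZL).toEquiv, hZ, Nat.card_zpowers, hz]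
      have hPi : ¬ 2 ∣ (Z.subgroupOf L).index := by
        have e := (Z.subgroupOf L).card_mul_index
        rw [hPc, hcardL] at e
        rw [Nat.eq_of_mul_eq_mul_left two_pos e]
        exact Grp.pPrimeCore_not_dvd
      let P : Sylow 2 L := hP.toSylow hPi
      have hPcard : Nat.card (P : Subgroup L) = 2 := by
        rw [show (P : Subgroup L) = Z.subgroupOf L from IsPGroup.toSylow_coe _ _, hPc]
      haveI : IsCyclic P := isCyclic_of_prime_card (p := 2) hPcard
      have hmin : (Nat.card L).minFac = 2 := (Nat.minFac_eq_two_iff _).2 (hcardL ▸ dvd_mul_right 2 _)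
      have hN := IsCyclic.normalizer_le_centralizer hmin (P := P) inferInstance
      set N := (MonoidHom.transferSylow P hN).ker with hNdef
      have hNidx : N.index = 2 :=
        (MonoidHom.ker_transferSylow_isComplement' P hN).symm.index_eq_card.trans hPcard
      have hNle : N ≤ pPrimeCore 2 L := Grp.le_pPrimeCore inferInstance
        (Nat.coprime_two_right.2 (Nat.odd_iff.2 (Nat.two_dvd_ne_zero.1
          (MonoidHom.not_dvd_card_ker_transferSylow P hN))))
      set x : L := ⟨t * g * t⁻¹ * g⁻¹, h1⟩ with hx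
      have hx2 : x * x ∈ pPrimeCore 2 L := hNle (Subgroup.mul_self_mem_of_index_two hNidx x)
      have h3 := Subgroup.mem_map_of_mem L.subtype hx2
      rw [Grp.pPrimeCore_map_eq] at h3
      exact Invol.mem_of_sq_mem (hcomm g ▸ hodd g) h3.1
    push Not at hc
    -- a second involution commuting with `t`
    by_cases hu : ∃ u : G, orderOf u = 2 ∧ Commute t u ∧ u ≠ t
    · obtain ⟨u, hu2, htu, hne⟩ := hu
      exfalso
      obtain ⟨M, hM⟩ := Cfsg.Agent.Char.exists_isPModular 2 Nat.prime_two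
      obtain ⟨K₁, hi₁, ht₁, hv₁⟩ := exists_index_two hM ht hc hsub hmax hu2 htu hne
      have htt := Invol.mul_self_of_orderOf_two ht.1
      have hv2 : orderOf (t * u) = 2 := orderOf_eq_prime (by
        rw [htu.mul_pow, pow_two, pow_two, htt, Invol.mul_self_of_orderOf_two hu2, one_mul])
        fun he => hne (by rw [eq_inv_of_mul_eq_one_right he, htinv])
      obtain ⟨K₂, hi₂, ht₂, hu₂⟩ := exists_index_two hM ht hc hsub hmax hv2
        ((Commute.refl t).mul_right htu)
        (fun he => Invol.ne_one_of_orderOf_two hu2 (mul_eq_left.1 he))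
      rw [← mul_assoc, htt, one_mul] at hu₂
      have hu₁ : u ∈ K₁ := by
        by_contra hn'
        exact hv₁ ((Subgroup.mul_mem_iff_of_index_two hi₁).2 (iff_of_false ht₁ hn'))
      obtain ⟨L, hLn, htL, hLtop⟩ := exists_third hi₁ hi₂ (fun he => hu₂ (he ▸ hu₁)) ht₁ ht₂
      exact hLtop (hmax L hLn htL)
    push Not at hu
    have h2 : BS.TwoRankOne G := by
      obtain ⟨P, hP⟩ := (Invol.isPGroup_zpowers (p := 2) (n := 1)
        (by rw [ht.1, pow_one])).exists_le_sylow
      refine BS.twoRankOne_of_sylow P fun a ha b hb ha2 hb2 => ?_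
      have htP : t ∈ (P : Subgroup G) := hP (Subgroup.mem_zpowers t)
      have htcen : ∀ p ∈ (P : Subgroup G), Commute t p := by
        haveI : Nontrivial (P : Subgroup G) := ⟨⟨⟨t, htP⟩, 1, fun he =>
          Invol.ne_one_of_orderOf_two ht.1 (congrArg Subtype.val he)⟩⟩
        haveI := P.isPGroup'.center_nontrivial
        obtain ⟨w, hw⟩ := exists_prime_orderOf_dvd_card' (G := Subgroup.center (P : Subgroup G)) 2
          (by
            obtain ⟨k, hk⟩ := IsPGroup.iff_card.1 (P.isPGroup'.to_subgroup (Subgroup.center (P : Subgroup G)))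
            rcases Nat.eq_zero_or_pos k with rfl | hk0
            · have := Finite.one_lt_card (α := Subgroup.center (P : Subgroup G))
              omega
            · exact hk ▸ dvd_pow_self 2 hk0.ne')
        have hw2 : orderOf ((w : (P : Subgroup G)) : G) = 2 := by
          rw [Subgroup.orderOf_coe, Subgroup.orderOf_coe, hw]
        have hwt : Commute t ((w : (P : Subgroup G)) : G) :=
          congrArg Subtype.val (Subgroup.mem_center_iff.1 w.2 ⟨t, htP⟩)
        intro p hp
        rw [← hu _ hw2 hwt]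
        exact (congrArg Subtype.val (Subgroup.mem_center_iff.1 w.2 ⟨p, hp⟩)).symm
      rw [hu a ha2 (htcen a ha), hu b hb2 (htcen b hb)]
    exact BS.commutator_mem_oddCore _ G rfl h2 t ht.1 g

/-- Glauberman's Z*-theorem. -/
theorem exists_odd_normal {G : Type u} [Group G] [Finite G] {t : G} (ht : IsIsolatedInvolution t) :
    ∃ N : Subgroup G, N.Normal ∧ Odd (Nat.card N) ∧ ∀ g : G, t * g * t⁻¹ * g⁻¹ ∈ N :=
  ⟨pPrimeCore 2 G, Grp.pPrimeCore_isNormal, BS.odd_iff_coprime_two.2 Grp.pPrimeCore_coprime,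
    commutator_mem_oddCore _ G rfl t ht⟩

/-- An involution isolated in a Sylow subgroup is isolated. -/
theorem isIsolated_of_sylow {G : Type u} [Group G] [Finite G] {P : Sylow 2 G} {t : G}
    (htP : t ∈ P) (ht : orderOf t = 2) (hiso : ∀ g : G, g * t * g⁻¹ ∈ P → g * t * g⁻¹ = t) :
    IsIsolatedInvolution t := by
  haveI : Fact (Nat.Prime 2) := ⟨Nat.prime_two⟩
  refine ⟨ht, fun g hg => ?_⟩
  by_contra hne
  have hg2 : orderOf (g * t * g⁻¹) = 2 := by rw [Invol.orderOf_conj_eq, ht]
  have hord : orderOf (t * (g * t * g⁻¹)) = 2 ^ 1 := by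
    rw [pow_one]
    refine orderOf_eq_prime ?_ fun he => hne ?_
    · rw [hg.mul_pow, pow_two, pow_two, Invol.mul_self_of_orderOf_two ht,
        Invol.mul_self_of_orderOf_two hg2, one_mul]
    · rw [eq_inv_of_mul_eq_one_right he, Invol.inv_of_orderOf_two ht]
  exact hne (Invol.eq_of_isolated htP hiso (Invol.isPGroup_closure_pair ht hg2 hord)
    Invol.left_mem_closure_pair Invol.right_mem_closure_pair)

end Cfsg.Agent.ZStar
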