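import Mathlib

/-!
Field coordinates for a regular commutative group of automorphisms of an elementary abelian 2-group, and
the shape of a bilinear map equivariant for such coordinates.
-/

set_option autoImplicit false

namespace Cfsg.Agent.Invol.TypeA

set_option maxHeartbeats 1000000 in
/-- A commutative group `K` regular on the non-trivial elements of an elementary abelian `2`-group `V` of order
`2 ^ n` is the multiplicative group of a field structure on `V`. -/
theorem exists_coord {V K : Type*} [Group V] [Finite V] [Group K] (act : K →* MulAut V)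
    (hcomm : ∀ a b : K, a * b = b * a) (hexp : ∀ v : V, v * v = 1) (n : ℕ) (hn : n ≠ 0)
    (hcard : Nat.card V = 2 ^ n)
    (hreg : ∀ x y : V, x ≠ 1 → y ≠ 1 → ∃! k : K, act k x = y) :
    ∃ (φ : V → GaloisField 2 n) (u : K →* (GaloisField 2 n)ˣ), Function.Bijective φ ∧ Function.Bijective u ∧
      (∀ a b : V, φ (a * b) = φ a + φ b) ∧ ∀ k v, φ (act k v) = (u k : GaloisField 2 n) * φ v := by
  classical
  let instC : CommGroup V :=
    { (inferInstance : Group V) with
      mul_comm := fun a b => by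
        have h := hexp (a * b)
        have ha := inv_eq_of_mul_eq_one_left (hexp a)
        have hb := inv_eq_of_mul_eq_one_left (hexp b)
        rw [← inv_eq_of_mul_eq_one_left h, mul_inv_rev, ha, hb] }
  have hnt : 1 < Nat.card V := by rw [hcard]; exact Nat.one_lt_two_pow hn
  obtain ⟨v₀, hv₀⟩ : ∃ v₀ : V, v₀ ≠ 1 := by
    haveI := (Finite.one_lt_card_iff_nontrivial.1 hnt)
    exact exists_ne 1
  let rep : K →* AddMonoid.End (Additive V) :=
    { toFun := fun k => MonoidHom.toAdditive (act k).toMonoidHom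
      map_one' := by ext v; simp; rfl
      map_mul' := fun a b => by ext v; simp; rfl }
  have hrep : ∀ k v, rep k (Additive.ofMul v) = Additive.ofMul (act k v) := fun k v => rfl
  let R : Subring (AddMonoid.End (Additive V)) := Subring.closure (Set.range rep)
  have hRc : ∀ r ∈ R, ∀ k, r * rep k = rep k * r := by
    intro r hr k
    induction hr using Subring.closure_induction with
    | mem x hx => obtain ⟨l, rfl⟩ := hx; rw [← map_mul, ← map_mul, hcomm]
    | zero => rw [zero_mul, mul_zero]
    | one => rw [one_mul, mul_one]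
    | add x y _ _ hx hy => rw [add_mul, mul_add, hx, hy]
    | neg x _ hx => exact (show Commute x (rep k) from hx).neg_left.eq
    | mul x y _ _ hx hy => rw [mul_assoc, hy, ← mul_assoc, hx, mul_assoc]
  set w₀ : Additive V := Additive.ofMul v₀ with hw₀
  have horb : ∀ w : Additive V, w ≠ 0 → ∃ k : K, rep k w₀ = w := by
    intro w hw
    obtain ⟨k, hk, -⟩ := hreg v₀ (Additive.toMul w) hv₀ (fun h => hw (by rw [← ofMul_toMul w, h]; rfl))
    exact ⟨k, by rw [hw₀, hrep, hk, ofMul_toMul]⟩
  have hinj : ∀ r ∈ R, r w₀ = 0 → r = 0 := by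
    intro r hr h0
    ext w
    by_cases hw : w = 0
    · rw [hw, map_zero]; rfl
    obtain ⟨k, rfl⟩ := horb w hw
    show (r * rep k) w₀ = 0
    rw [hRc r hr k]
    show rep k (r w₀) = 0
    rw [h0, map_zero]
  have hmemR : ∀ k, rep k ∈ R := fun k => Subring.subset_closure ⟨k, rfl⟩
  have hsplit : ∀ r ∈ R, r ≠ 0 → ∃ k, r = rep k := by
    intro r hr hne
    obtain ⟨k, hk⟩ := horb (r w₀) fun h => hne (hinj r hr h)
    refine ⟨k, (sub_eq_zero.1 (hinj _ (sub_mem hr (hmemR k)) ?_))⟩
    show r w₀ - rep k w₀ = 0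
    rw [hk, sub_self]
  let ev : R → Additive V := fun r => (r : AddMonoid.End (Additive V)) w₀
  have hev : Function.Bijective ev := by
    constructor
    · intro a b hab
      refine Subtype.ext (sub_eq_zero.1 (hinj _ (sub_mem a.2 b.2) ?_))
      show (a : AddMonoid.End (Additive V)) w₀ - (b : AddMonoid.End (Additive V)) w₀ = 0
      exact sub_eq_zero.2 hab
    · intro w
      by_cases hw : w = 0
      · exact ⟨0, by rw [hw]; rfl⟩
      obtain ⟨k, hk⟩ := horb w hw
      exact ⟨⟨rep k, hmemR k⟩, hk⟩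
  haveI : Finite R := Finite.of_injective ev hev.1
  have hcR : ∀ a b : R, a * b = b * a := by
    intro a b
    apply Subtype.ext
    by_cases ha : (b : AddMonoid.End (Additive V)) = 0
    · simp [ha]
    obtain ⟨k, hk⟩ := hsplit b b.2 ha
    show (a : AddMonoid.End (Additive V)) * b = b * a
    rw [hk]
    exact hRc a a.2 k
  have hw₀0 : w₀ ≠ 0 := fun h => hv₀ (by simpa [hw₀] using h)
  have hfield : IsField R := by
    refine ⟨⟨0, 1, fun h => hw₀0 ?_⟩, hcR, fun {a} ha => ?_⟩
    · exact (congrArg ev h).symm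
    obtain ⟨k, hk⟩ := hsplit a a.2 fun h => ha (Subtype.ext h)
    refine ⟨⟨rep k⁻¹, hmemR _⟩, Subtype.ext ?_⟩
    show (a : AddMonoid.End (Additive V)) * rep k⁻¹ = 1
    rw [hk, ← map_mul, mul_inv_cancel, map_one]
  letI : Field R := hfield.toField
  letI : Fintype R := Fintype.ofFinite R
  letI : Fintype (GaloisField 2 n) := Fintype.ofFinite _
  have hcR' : Fintype.card R = Fintype.card (GaloisField 2 n) := by
    rw [← Nat.card_eq_fintype_card, ← Nat.card_eq_fintype_card, GaloisField.card 2 n hn, ← hcard,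
      Nat.card_congr (Equiv.ofBijective ev hev)]
    exact Nat.card_congr Additive.toMul
  let e : R ≃+* GaloisField 2 n := FiniteField.ringEquivOfCardEq hcR'
  let E := Equiv.ofBijective ev hev
  let u₀ : K →* GaloisField 2 n :=
    (e : R →* GaloisField 2 n).comp { toFun := fun k => ⟨rep k, hmemR k⟩, map_one' := Subtype.ext (map_one rep),
                                      map_mul' := fun a b => Subtype.ext (map_mul rep a b) }
  refine ⟨fun v => e (E.symm (Additive.ofMul v)), u₀.toHomUnits, ?_, ?_, ?_, ?_⟩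
  · exact e.bijective.comp (E.symm.bijective.comp Additive.ofMul.bijective)
  · constructor
    · intro a b hab
      have h1 : rep a = rep b := congrArg Subtype.val (e.injective (congrArg Units.val hab))
      obtain ⟨c, -, hc⟩ := hreg v₀ (act a v₀) hv₀ (by simpa using hv₀)
      rw [hc a rfl, hc b]
      exact congrArg Additive.toMul (DFunLike.congr_fun h1.symm w₀)
    · intro x
      have hne : e.symm (x : GaloisField 2 n) ≠ 0 := by simp
      obtain ⟨k, hk⟩ := hsplit _ (e.symm (x : GaloisField 2 n)).2 fun h => hne (Subtype.ext h)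
      refine ⟨k, Units.ext ?_⟩
      show e ⟨rep k, hmemR k⟩ = (x : GaloisField 2 n)
      rw [show (⟨rep k, hmemR k⟩ : R) = e.symm (x : GaloisField 2 n) from Subtype.ext hk.symm, e.apply_symm_apply]
  · intro a b
    show e (E.symm _) = e (E.symm _) + e (E.symm _)
    rw [← map_add]
    refine congrArg e (E.injective ?_)
    rw [E.apply_symm_apply]
    show Additive.ofMul a + Additive.ofMul b = ev (E.symm (Additive.ofMul a)) + ev (E.symm (Additive.ofMul b))
    rw [show ∀ w, ev (E.symm w) = w from E.apply_symm_apply, show ∀ w, ev (E.symm w) = w from E.apply_symm_apply]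
  · intro k v
    show e (E.symm (Additive.ofMul (act k v))) = e ⟨rep k, hmemR k⟩ * e (E.symm (Additive.ofMul v))
    rw [← map_mul]
    refine congrArg e (E.injective ?_)
    rw [E.apply_symm_apply]
    show Additive.ofMul (act k v) = rep k (ev (E.symm (Additive.ofMul v)))
    rw [show ∀ w, ev (E.symm w) = w from E.apply_symm_apply, hrep]

variable {F : Type*} [Field F] [Finite F] [CharP F 2]

theorem exists_expansion (L : F → F) (hL : ∀ a b, L (a + b) = L a + L b) :
    ∃ c : (F ≃+* F) → F, ∃ s : Finset (F ≃+* F), ∀ y, L y = ∑ σ ∈ s, c σ * σ y := by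
  classical
  letI : Algebra (ZMod 2) F := ZMod.algebra _ 2
  haveI : Module.Finite (ZMod 2) F := Module.Finite.of_finite
  let ι : (F ≃ₐ[ZMod 2] F) → (F →ₗ[ZMod 2] F) := fun σ => σ.toAlgHom.toLinearMap
  have hli : LinearIndependent F ι :=
    (linearIndependent_toLinearMap (ZMod 2) F F).comp (fun σ : F ≃ₐ[ZMod 2] F => σ.toAlgHom)
      fun a b h => AlgEquiv.ext fun x => DFunLike.congr_fun h x
  have hcard : Fintype.card (F ≃ₐ[ZMod 2] F) = Module.finrank F (F →ₗ[ZMod 2] F) := by
    rw [Module.finrank_linearMap_self, ← Nat.card_eq_fintype_card]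
    exact IsGalois.card_aut_eq_finrank (ZMod 2) F
  haveI : Nonempty (F ≃ₐ[ZMod 2] F) := ⟨AlgEquiv.refl⟩
  have hspan := hli.span_eq_top_of_card_eq_finrank hcard
  let L' : F →ₗ[ZMod 2] F := (AddMonoidHom.mk' L hL).toZModLinearMap 2
  have hmem : L' ∈ Submodule.span F (Set.range ι) := hspan ▸ Submodule.mem_top
  obtain ⟨c, hc⟩ := (Submodule.mem_span_range_iff_exists_fun F).1 hmem
  let emb : (F ≃ₐ[ZMod 2] F) ↪ (F ≃+* F) :=
    ⟨fun σ => σ.toRingEquiv, fun a b h => AlgEquiv.ext fun x => DFunLike.congr_fun h x⟩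
  refine ⟨Function.extend emb c 0, Finset.univ.map emb, fun y => ?_⟩
  have h := DFunLike.congr_fun hc y
  rw [LinearMap.sum_apply] at h
  rw [Finset.sum_map, show L y = L' y from rfl, ← h]
  refine Finset.sum_congr rfl fun σ _ => ?_
  rw [emb.injective.extend_apply]
  rfl

/-- A non-zero alternating bi-additive map on `F` that is multiplied by `χ a` when both arguments are multiplied by
`a` forces `χ = σ · τ` for two distinct field automorphisms. -/
theorem exists_factor (β : F → F → F) (hl : ∀ x x' y, β (x + x') y = β x y + β x' y)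
    (hr : ∀ x y y', β x (y + y') = β x y + β x y') (hd : ∀ x, β x x = 0) (χ : F → F)
    (heq : ∀ a x y, β (a * x) (a * y) = χ a * β x y) (hne : ∃ x y, β x y ≠ 0) :
    ∃ σ τ : F ≃+* F, σ ≠ τ ∧ ∀ a, χ a = σ a * τ a := by
  classical
  obtain ⟨c, s, hc⟩ := exists_expansion (β 1) (hr 1)
  have hL : ∃ y, β 1 y ≠ 0 := by
    by_contra h
    push Not at h
    obtain ⟨x, y, hxy⟩ := hne
    by_cases hx : x = 0
    · refine hxy ?_
      have h1 := hl 0 0 y
      rw [add_zero, CharTwo.add_self_eq_zero] at h1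
      rw [hx, h1]
    · refine hxy ?_
      have h2 := heq x 1 (x⁻¹ * y)
      rw [mul_one, ← mul_assoc, mul_inv_cancel₀ hx, one_mul, h, mul_zero] at h2
      exact h2
  obtain ⟨y₁, hy₁⟩ := hL
  have hχmul : ∀ a b, χ (a * b) = χ a * χ b := by
    intro a b
    refine mul_right_cancel₀ hy₁ ?_
    have h1 := heq (a * b) 1 y₁
    rw [mul_assoc a b 1, mul_assoc a b y₁, heq, heq] at h1
    rw [← h1, mul_assoc]
  have hχ0 : χ 0 = 0 := by
    have h1 := heq 0 1 y₁
    rw [zero_mul, zero_mul, hd] at h1
    exact (mul_eq_zero.1 h1.symm).resolve_right hy₁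
  have hχ1 : χ 1 = 1 := by
    have h1 := heq 1 1 y₁
    rw [one_mul, one_mul] at h1
    exact mul_right_cancel₀ hy₁ (by rw [one_mul]; exact h1.symm)
  let g : (F ≃+* F) → F → F := fun σ a => χ a * (σ a)⁻¹
  have hexp : ∀ x y, β x y = ∑ σ ∈ s, (c σ * g σ x) * σ y := by
    intro x y
    by_cases hx : x = 0
    · subst hx
      have h1 := hl 0 0 y
      rw [add_zero, CharTwo.add_self_eq_zero] at h1
      simp [g, hχ0, h1]
    · have h2 := heq x 1 (x⁻¹ * y)
      rw [mul_one, ← mul_assoc, mul_inv_cancel₀ hx, one_mul, hc, Finset.mul_sum] at h2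
      rw [h2]
      refine Finset.sum_congr rfl fun σ _ => ?_
      simp only [g, map_mul, map_inv₀]
      ring
  have hindep : LinearIndependent F (fun σ : F ≃+* F => (σ : F → F)) :=
    (linearIndependent_monoidHom F F).comp (fun σ : F ≃+* F => (σ.toRingHom : F →* F))
      fun a b h => RingEquiv.ext fun x => DFunLike.congr_fun h x
  have hadd : ∀ σ ∈ s, c σ ≠ 0 → ∀ x x', g σ (x + x') = g σ x + g σ x' := by
    intro σ hσ hσc x x'
    have h0 : ∑ ρ ∈ s, (c ρ * (g ρ (x + x') - g ρ x - g ρ x')) • (ρ : F → F) = 0 := by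
      funext y
      simp only [Finset.sum_apply, Pi.smul_apply, smul_eq_mul, Pi.zero_apply, mul_sub, sub_mul,
        Finset.sum_sub_distrib]
      rw [← hexp, ← hexp, ← hexp, hl]
      ring
    have h1 := linearIndependent_iff'.1 hindep s _ h0 σ hσ
    rcases mul_eq_zero.1 h1 with h2 | h2
    · exact absurd h2 hσc
    · linear_combination h2
  have hfac : ∀ σ ∈ s, c σ ≠ 0 → ∃ τ : F ≃+* F, ∀ a, χ a = σ a * τ a := by
    intro σ hσ hσc
    let τ : F →+* F :=
      { toFun := g σ
        map_one' := by simp [g, hχ1]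
        map_mul' := fun a b => by simp only [g, hχmul, map_mul, mul_inv]; ring
        map_zero' := by simp [g, hχ0]
        map_add' := hadd σ hσ hσc }
    refine ⟨RingEquiv.ofBijective τ (Finite.injective_iff_bijective.1 τ.injective), fun a => ?_⟩
    show χ a = σ a * (χ a * (σ a)⁻¹)
    by_cases ha : a = 0
    · simp [ha, hχ0]
    · field_simp [(map_ne_zero σ).2 ha]
  obtain ⟨σ, hσ, hσc⟩ : ∃ σ ∈ s, c σ ≠ 0 := by
    by_contra h
    push Not at h
    refine hy₁ ?_
    rw [hc, Finset.sum_eq_zero]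
    intro σ hσ
    rw [h σ hσ, zero_mul]
  obtain ⟨σ', hσ', hne', hσc'⟩ : ∃ σ' ∈ s, σ' ≠ σ ∧ c σ' ≠ 0 := by
    by_contra h
    push Not at h
    have h1 := hd 1
    rw [hc, Finset.sum_eq_single σ (fun ρ hρ hρσ => by rw [h ρ hρ hρσ, zero_mul]) (fun h2 => absurd hσ h2),
      map_one, mul_one] at h1
    exact hσc h1
  obtain ⟨τ, hτ⟩ := hfac σ hσ hσc
  obtain ⟨τ', hτ'⟩ := hfac σ' hσ' hσc'
  by_cases h1 : σ = τ
  · refine ⟨σ', τ', fun h2 => hne' (RingEquiv.ext fun a => ?_), hτ'⟩
    have h3 := (hτ' a).symm.trans (hτ a)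
    rw [← h1, ← h2, ← sub_eq_zero] at h3
    rw [← sub_eq_zero]
    refine eq_zero_of_pow_eq_zero (n := 2) ?_
    rw [CharTwo.sub_eq_add] at h3 ⊢
    rw [CharTwo.add_sq]
    linear_combination h3
  · exact ⟨σ, τ, h1, hτ⟩

/-- The multiplier of such a map is never the identity. -/
theorem pairing_zero (β : F → F → F) (hl : ∀ x x' y, β (x + x') y = β x y + β x' y)
    (hr : ∀ x y y', β x (y + y') = β x y + β x y') (hd : ∀ x, β x x = 0)
    (heq : ∀ a x y, β (a * x) (a * y) = a * β x y) : ∀ x y, β x y = 0 := by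
  by_contra h
  push Not at h
  obtain ⟨σ, τ, hne, hmul⟩ := exists_factor β hl hr hd id heq h
  refine hne (RingEquiv.ext fun a => ?_)
  have h1 := hmul (a + 1)
  have h2 := hmul a
  simp only [id_eq, map_add, map_one] at h1 h2
  rw [← CharTwo.add_eq_zero]
  linear_combination -h1 + h2

end Cfsg.Agent.Invol.TypeA
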