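import Mathlib
import Cfsg.Prelude.Def_LieRecognition
import Cfsg.Agent.Lib.Invol.RegularCoord

/-!
Suzuki 2-groups whose order is the square of the order of the centre (Higman's type A).
-/

set_option autoImplicit false

namespace Cfsg.Agent.Invol.TypeA

variable {P : Type*} [Group P]

/-- the commutator used throughout -/
def cm (x y : P) : P := x * y * x⁻¹ * y⁻¹

theorem cm_eq_one_iff {x y : P} : cm x y = 1 ↔ x * y = y * x := by
  rw [cm, mul_inv_eq_one, mul_inv_eq_iff_eq_mul]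

theorem cm_mul_left {x y g : P} (h : cm y g ∈ Subgroup.center P) : cm (x * y) g = cm x g * cm y g := by
  have h1 : cm (x * y) g = x * cm y g * x⁻¹ * cm x g := by simp only [cm]; group
  rw [h1, Subgroup.mem_center_iff.1 h x, mul_inv_cancel_right]
  exact (Subgroup.mem_center_iff.1 h (cm x g)).symm

theorem cm_mul_right {x g h : P} (hc : cm x h ∈ Subgroup.center P) : cm x (g * h) = cm x g * cm x h := by
  have h1 : cm x (g * h) = cm x g * (g * cm x h * g⁻¹) := by simp only [cm]; group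
  rw [h1, Subgroup.mem_center_iff.1 hc g, mul_inv_cancel_right]

theorem map_cm (f : P ≃* P) (x y : P) : f (cm x y) = cm (f x) (f y) := by simp [cm]

theorem cm_pow_left {x g : P} (h : cm x g ∈ Subgroup.center P) (m : ℕ) : cm (x ^ m) g = cm x g ^ m := by
  induction m with
  | zero => simp [cm]
  | succ m ih => rw [pow_succ, cm_mul_left h, ih, ← pow_succ]

theorem cm_sq_right {x y : P} (h : cm x y ∈ Subgroup.center P) : cm x y * cm x y = cm x (y * y) :=
  (cm_mul_right h).symm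

/-- The standing hypotheses: all involutions are central and a commutative group of automorphisms is
regular on them. -/
structure Setting (P : Type*) [Group P] (K : Subgroup (MulAut P)) (n : ℕ) (F : Type*) [Field F]
    (ω : P → F) (u : K →* Fˣ) : Prop where
  fin : Finite P
  pgroup : IsPGroup 2 P
  central : ∀ t : P, t * t = 1 → t ∈ Subgroup.center P
  comm : ∀ a b : K, a * b = b * a
  regular : ∀ x y : P, x ≠ 1 → x * x = 1 → y ≠ 1 → y * y = 1 → ∃! k : K, (k : MulAut P) x = y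
  card_inv : Nat.card {t : P // t * t = 1} = 2 ^ n
  two_le : 2 ≤ n
  add : ∀ x y : P, x * x = 1 → y * y = 1 → ω (x * y) = ω x + ω y
  equiv : ∀ (k : K) (x : P), x * x = 1 → ω ((k : MulAut P) x) = (u k : F) * ω x
  inj : ∀ x y : P, x * x = 1 → y * y = 1 → ω x = ω y → x = y
  surj : ∀ v : F, ∃ x : P, x * x = 1 ∧ ω x = v
  bij : Function.Bijective u

variable {K : Subgroup (MulAut P)} {n : ℕ} {F : Type*} [Field F] {ω : P → F} {u : K →* Fˣ}

theorem Setting.omega_one (S : Setting P K n F ω u) : ω (1 : P) = 0 := by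
  have h := S.add 1 1 (one_mul 1) (one_mul 1)
  rw [one_mul] at h
  linear_combination -h

theorem Setting.omega_eq_zero (S : Setting P K n F ω u) {x : P} (hx : x * x = 1) : ω x = 0 ↔ x = 1 :=
  ⟨fun h => S.inj x 1 hx (one_mul 1) (h.trans S.omega_one.symm), fun h => h ▸ S.omega_one⟩

theorem Setting.omega_pow (S : Setting P K n F ω u) (hP : ∀ v : F, v + v = 0) {x : P} (hx : x * x = 1) :
    ω (x⁻¹) = ω x := by
  rw [inv_eq_of_mul_eq_one_left hx]

/-- An abelian `K`-invariant subgroup containing every involution. -/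
structure HomAb (K : Subgroup (MulAut P)) (A : Subgroup P) : Prop where
  comm : ∀ a ∈ A, ∀ b ∈ A, a * b = b * a
  inv : ∀ (k : K), ∀ a ∈ A, (k : MulAut P) a ∈ A
  invol : ∀ t : P, t * t = 1 → t ∈ A

/-- exponent exactly `2 ^ f` -/
structure ExpEq (A : Subgroup P) (f : ℕ) : Prop where
  pos : 1 ≤ f
  le : ∀ a ∈ A, a ^ 2 ^ f = 1
  ne : ∃ a ∈ A, a ^ 2 ^ (f - 1) ≠ 1

theorem exists_expEq (S : Setting P K n F ω u) {A : Subgroup P} (hA : HomAb K A) : ∃ f, ExpEq A f := by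
  classical
  haveI := S.fin
  have hex : ∃ f, ∀ a ∈ A, a ^ 2 ^ f = 1 := by
    obtain ⟨m, hm⟩ := IsPGroup.iff_card.1 S.pgroup
    exact ⟨m, fun a _ => by rw [← hm]; exact pow_card_eq_one'⟩
  have hsp := Nat.find_spec hex
  have h0 : Nat.find hex ≠ 0 := by
    intro h
    obtain ⟨x, hx, hxv⟩ := S.surj 1
    have h1 := hsp x (hA.invol x hx)
    rw [h, pow_zero, pow_one] at h1
    rw [h1, S.omega_one] at hxv
    exact zero_ne_one hxv
  refine ⟨Nat.find hex, Nat.one_le_iff_ne_zero.2 h0, hsp, ?_⟩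
  have h1 := Nat.find_min hex (m := Nat.find hex - 1) (by omega)
  push Not at h1
  exact h1

theorem top_power_sq {A : Subgroup P} {f : ℕ} (hf : ExpEq A f) {a : P} (ha : a ∈ A) :
    a ^ 2 ^ (f - 1) * a ^ 2 ^ (f - 1) = 1 := by
  have := hf.pos
  rw [← pow_add, ← two_mul, ← pow_succ', show f - 1 + 1 = f by omega]
  exact hf.le a ha

theorem exists_root (S : Setting P K n F ω u) {A : Subgroup P} (hA : HomAb K A) {f : ℕ} (hf : ExpEq A f)
    {j : ℕ} (hj : j < f) {z : P} (hz : z * z = 1) : ∃ a ∈ A, a ^ 2 ^ j = z := by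
  by_cases hz1 : z = 1
  · exact ⟨1, one_mem _, by rw [one_pow, hz1]⟩
  obtain ⟨a, ha, hne⟩ := hf.ne
  set b := a ^ 2 ^ (f - 1 - j) with hb
  have hbj : b ^ 2 ^ j = a ^ 2 ^ (f - 1) := by
    rw [hb, ← pow_mul, ← pow_add, show f - 1 - j + j = f - 1 by omega]
  obtain ⟨k, hk, -⟩ := S.regular _ z hne (top_power_sq hf ha) hz1 hz
  exact ⟨(k : MulAut P) b, hA.inv k b (A.pow_mem ha _), by rw [← map_pow, hbj, hk]⟩

theorem exists_power_of_le (S : Setting P K n F ω u) {A : Subgroup P} (hA : HomAb K A) {f : ℕ}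
    (hf : ExpEq A f) : ∀ m, m ≤ f → ∀ b ∈ A, b ^ 2 ^ m = 1 → ∃ a ∈ A, b = a ^ 2 ^ (f - m)
  | 0, _, b, _, hb => ⟨1, one_mem _, by rw [one_pow]; simpa using hb⟩
  | m + 1, hm, b, hbA, hb => by
    have hz : b ^ 2 ^ m * b ^ 2 ^ m = 1 := by rw [← pow_add, ← two_mul, ← pow_succ']; exact hb
    obtain ⟨c, hc, hcz⟩ := exists_root S hA hf (j := f - 1) (by omega) hz
    set c' := c ^ 2 ^ (f - (m + 1)) with hc'
    have hc'm : c' ^ 2 ^ m = b ^ 2 ^ m := by
      rw [hc', ← pow_mul, ← pow_add, show f - (m + 1) + m = f - 1 by omega, hcz]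
    have hcomm : Commute c'⁻¹ b := (hA.comm _ (A.inv_mem (A.pow_mem hc _)) _ hbA)
    obtain ⟨a, ha, hae⟩ := exists_power_of_le S hA hf m (by omega) (c'⁻¹ * b) (A.mul_mem (A.inv_mem (A.pow_mem hc _)) hbA)
      (by rw [hcomm.mul_pow, inv_pow, hc'm, inv_mul_cancel])
    refine ⟨c * a ^ 2, A.mul_mem hc (A.pow_mem ha _), ?_⟩
    have hca : Commute c (a ^ 2) := hA.comm _ hc _ (A.pow_mem ha _)
    rw [hca.mul_pow, ← pow_mul, ← pow_succ', show f - (m + 1) + 1 = f - m by omega, ← hae, ← hc',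
      mul_inv_cancel_left]

theorem ker_le_of_sub (S : Setting P K n F ω u) {A Z : Subgroup P} (hA : HomAb K A) (hZ : HomAb K Z)
    (hZA : Z ≤ A) {e : ℕ} (he : ExpEq Z e) : ∀ m, m ≤ e → ∀ b ∈ A, b ^ 2 ^ m = 1 → b ∈ Z
  | 0, _, b, _, hb => by simp only [pow_zero, pow_one] at hb; rw [hb]; exact one_mem _
  | m + 1, hm, b, hbA, hb => by
    have hz : b ^ 2 ^ m * b ^ 2 ^ m = 1 := by rw [← pow_add, ← two_mul, ← pow_succ']; exact hb
    obtain ⟨c, hc, hcz⟩ := exists_root S hZ he (j := m) (by omega) hz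
    have hcomm : Commute c⁻¹ b := (hA.comm _ (A.inv_mem (hZA hc)) _ hbA)
    have h1 := ker_le_of_sub S hA hZ hZA he m (by omega) (c⁻¹ * b) (A.mul_mem (A.inv_mem (hZA hc)) hbA)
      (by rw [hcomm.mul_pow, inv_pow, hcz, inv_mul_cancel])
    have h2 := Z.mul_mem hc h1
    rwa [mul_inv_cancel_left] at h2

theorem card_eq (S : Setting P K n F ω u) {A : Subgroup P} (hA : HomAb K A) {f : ℕ} (hf : ExpEq A f) :
    Nat.card A = (2 ^ n) ^ f := by
  haveI := S.fin
  letI : CommGroup A := { (inferInstance : Group A) with mul_comm := fun a b => Subtype.ext (hA.comm a a.2 b b.2) }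
  suffices h : ∀ j, j ≤ f → Nat.card (powMonoidHom (2 ^ j) : A →* A).ker = (2 ^ n) ^ j by
    rw [← h f le_rfl, show (powMonoidHom (2 ^ f) : A →* A).ker = ⊤ from ?_, Subgroup.card_top]
    rw [eq_top_iff]
    intro a _
    exact Subtype.ext (hf.le a a.2)
  intro j
  induction j with
  | zero =>
    intro _
    rw [pow_zero, pow_zero, Subgroup.card_eq_one]
    rw [eq_bot_iff]
    intro a ha
    rw [MonoidHom.mem_ker, powMonoidHom_apply, pow_one] at ha
    rw [ha]; exact one_mem _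
  | succ j ih =>
    intro hj
    let g : (powMonoidHom (2 ^ (j + 1)) : A →* A).ker →* A :=
      (powMonoidHom (2 ^ j) : A →* A).comp (Subgroup.subtype _)
    have hrange : (g.range : Set A) = {t : A | (t : P) * t = 1} := by
      ext t
      constructor
      · rintro ⟨⟨a, ha⟩, rfl⟩
        rw [MonoidHom.mem_ker, powMonoidHom_apply, pow_succ, pow_mul, pow_two] at ha
        exact congrArg Subtype.val ha
      · intro ht
        obtain ⟨a, ha, hae⟩ := exists_root S hA hf (j := j) (by omega) ht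
        refine ⟨⟨⟨a, ha⟩, ?_⟩, Subtype.ext hae⟩
        rw [MonoidHom.mem_ker, powMonoidHom_apply, pow_succ, pow_mul, pow_two]
        refine Subtype.ext ?_
        show a ^ 2 ^ j * a ^ 2 ^ j = 1
        rw [hae]; exact ht
    have hker : Nat.card g.ker = Nat.card (powMonoidHom (2 ^ j) : A →* A).ker := by
      refine Nat.card_congr
        { toFun := fun x => ⟨x.1.1, x.2⟩
          invFun := fun x => ⟨⟨x.1, ?_⟩, x.2⟩
          left_inv := fun x => rfl
          right_inv := fun x => rfl }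
      rw [MonoidHom.mem_ker, powMonoidHom_apply, pow_succ, pow_mul]
      have h1 := x.2
      rw [MonoidHom.mem_ker, powMonoidHom_apply] at h1
      rw [h1, one_pow]
    have hr : Nat.card g.range = 2 ^ n := by
      rw [← S.card_inv]
      have h1 : ∀ t : A, t ∈ g.range ↔ (t : P) * t = 1 := fun t => Set.ext_iff.1 hrange t
      exact Nat.card_congr
        { toFun := fun x => ⟨x.1.1, (h1 x.1).1 x.2⟩
          invFun := fun t => ⟨⟨t.1, hA.invol t.1 t.2⟩, (h1 _).2 t.2⟩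
          left_inv := fun x => rfl
          right_inv := fun x => rfl }
    rw [pow_succ (2 ^ n) j, ← ih (by omega), ← hker, ← hr, ← Subgroup.index_ker g, Subgroup.card_mul_index]

/-- Equivariant alternating pairing between two groups whose coordinates carry the same action vanishes. -/
theorem pairing_vanish [CharP F 2] (S : Setting P K n F ω u) (W₁ W₂ : Subgroup P) (h₁ : ∀ (k : K), ∀ x ∈ W₁, (k : MulAut P) x ∈ W₁)
    (h₂ : ∀ (k : K), ∀ x ∈ W₂, (k : MulAut P) x ∈ W₂) (π₁ π₂ : P → F)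
    (a₁ : ∀ x ∈ W₁, ∀ y ∈ W₁, π₁ (x * y) = π₁ x + π₁ y) (a₂ : ∀ x ∈ W₂, ∀ y ∈ W₂, π₂ (x * y) = π₂ x + π₂ y)
    (e₁ : ∀ (k : K), ∀ x ∈ W₁, π₁ ((k : MulAut P) x) = (u k : F) * π₁ x)
    (e₂ : ∀ (k : K), ∀ x ∈ W₂, π₂ ((k : MulAut P) x) = (u k : F) * π₂ x)
    (s₁ : ∀ v, ∃ x ∈ W₁, π₁ x = v) (s₂ : ∀ v, ∃ x ∈ W₂, π₂ x = v)
    (hc : ∀ x ∈ W₁, ∀ y ∈ W₂, cm x y ∈ Subgroup.center P ∧ cm x y * cm x y = 1)
    (k₁ : ∀ x ∈ W₁, π₁ x = 0 → ∀ y ∈ W₂, cm x y = 1) (k₂ : ∀ y ∈ W₂, π₂ y = 0 → ∀ x ∈ W₁, cm x y = 1)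
    (hd : ∀ x ∈ W₁, ∀ y ∈ W₂, π₁ x = π₂ y → cm x y = 1) : ∀ x ∈ W₁, ∀ y ∈ W₂, cm x y = 1 := by
  haveI := S.fin
  haveI : Finite F := Finite.of_surjective ω fun v => (S.surj v).imp fun x h => h.2
  choose r₁ hr₁ hp₁ using s₁
  choose r₂ hr₂ hp₂ using s₂
  have hzero : ∀ (W : Subgroup P) (π : P → F), (∀ x ∈ W, ∀ y ∈ W, π (x * y) = π x + π y) → ∀ x ∈ W, π x⁻¹ = π x := by
    intro W π a x hx
    have h0 := a 1 W.one_mem 1 W.one_mem
    rw [one_mul] at h0
    have h1 := a x hx x⁻¹ (W.inv_mem hx)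
    rw [mul_inv_cancel] at h1
    have h2 : π 1 = 0 := by linear_combination -h0
    rw [h2] at h1
    exact (CharTwo.add_eq_zero.1 h1.symm).symm
  let β : F → F → F := fun v w => ω (cm (r₁ v) (r₂ w))
  have heval : ∀ x ∈ W₁, ∀ y ∈ W₂, ω (cm x y) = β (π₁ x) (π₂ y) := by
    intro x hx y hy
    have hdx : π₁ (x * (r₁ (π₁ x))⁻¹) = 0 := by
      rw [a₁ _ hx _ (W₁.inv_mem (hr₁ _)), hzero W₁ π₁ a₁ _ (hr₁ _), hp₁, CharTwo.add_self_eq_zero]
    have hdy : π₂ (y * (r₂ (π₂ y))⁻¹) = 0 := by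
      rw [a₂ _ hy _ (W₂.inv_mem (hr₂ _)), hzero W₂ π₂ a₂ _ (hr₂ _), hp₂, CharTwo.add_self_eq_zero]
    have e1 : cm x y = cm (r₁ (π₁ x)) y := by
      conv_lhs => rw [show x = x * (r₁ (π₁ x))⁻¹ * r₁ (π₁ x) from (inv_mul_cancel_right _ _).symm]
      rw [cm_mul_left (hc _ (hr₁ _) _ hy).1, k₁ _ (W₁.mul_mem hx (W₁.inv_mem (hr₁ _))) hdx _ hy, one_mul]
    have e2 : cm (r₁ (π₁ x)) y = cm (r₁ (π₁ x)) (r₂ (π₂ y)) := by
      conv_lhs => rw [show y = y * (r₂ (π₂ y))⁻¹ * r₂ (π₂ y) from (inv_mul_cancel_right _ _).symm]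
      rw [cm_mul_right (hc _ (hr₁ _) _ (hr₂ _)).1, k₂ _ (W₂.mul_mem hy (W₂.inv_mem (hr₂ _))) hdy _ (hr₁ _),
        one_mul]
    rw [e1, e2]
  have hl : ∀ v v' w, β (v + v') w = β v w + β v' w := by
    intro v v' w
    have h := heval _ (W₁.mul_mem (hr₁ v) (hr₁ v')) _ (hr₂ w)
    rw [a₁ _ (hr₁ v) _ (hr₁ v'), hp₁, hp₁, hp₂, cm_mul_left (hc _ (hr₁ v') _ (hr₂ w)).1,
      S.add _ _ (hc _ (hr₁ v) _ (hr₂ w)).2 (hc _ (hr₁ v') _ (hr₂ w)).2] at h
    exact h.symm
  have hr : ∀ v w w', β v (w + w') = β v w + β v w' := by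
    intro v w w'
    have h := heval _ (hr₁ v) _ (W₂.mul_mem (hr₂ w) (hr₂ w'))
    rw [a₂ _ (hr₂ w) _ (hr₂ w'), hp₂, hp₂, hp₁, cm_mul_right (hc _ (hr₁ v) _ (hr₂ w')).1,
      S.add _ _ (hc _ (hr₁ v) _ (hr₂ w)).2 (hc _ (hr₁ v) _ (hr₂ w')).2] at h
    exact h.symm
  have hdiag : ∀ v, β v v = 0 := by
    intro v
    show ω _ = 0
    rw [hd _ (hr₁ v) _ (hr₂ v) (by rw [hp₁, hp₂]), S.omega_one]
  have hequi : ∀ a v w, β (a * v) (a * w) = a * β v w := by
    intro a v w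
    by_cases ha : a = 0
    · simp only [ha, zero_mul]; exact hdiag 0
    obtain ⟨k, hk⟩ := S.bij.2 (Units.mk0 a ha)
    have hka : (u k : F) = a := by rw [hk]; rfl
    have h := heval _ (h₁ k _ (hr₁ v)) _ (h₂ k _ (hr₂ w))
    rw [e₁ k _ (hr₁ v), e₂ k _ (hr₂ w), hp₁, hp₂, ← map_cm, S.equiv k _ (hc _ (hr₁ v) _ (hr₂ w)).2, hka] at h
    exact h.symm
  intro x hx y hy
  refine (S.omega_eq_zero (hc x hx y hy).2).1 ?_
  rw [heval x hx y hy]
  exact pairing_zero β hl hr hdiag hequi _ _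

/-- The centre has exponent two. -/
theorem center_sq [CharP F 2] (S : Setting P K n F ω u) (hna : ∃ x y : P, x * y ≠ y * x)
    (hcard : Nat.card P = Nat.card (Subgroup.center P) ^ 2) : ∀ z ∈ Subgroup.center P, z * z = 1 := by
  classical
  haveI := S.fin
  set Z := Subgroup.center P with hZdef
  have hZinv : ∀ (k : K), ∀ z ∈ Z, (k : MulAut P) z ∈ Z := by
    intro k z hz
    rw [hZdef, Subgroup.mem_center_iff] at hz ⊢
    intro g
    obtain ⟨g', rfl⟩ := (k : MulAut P).surjective g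
    rw [← map_mul, hz, map_mul]
  have hZ : HomAb K Z := ⟨fun a ha b _ => (Subgroup.mem_center_iff.1 ha b).symm, hZinv, S.central⟩
  obtain ⟨e, he⟩ := exists_expEq S hZ
  by_contra hcon
  have he2 : 2 ≤ e := by
    by_contra h
    refine hcon fun z hz => ?_
    have h1 := he.le z hz
    rw [show e = 1 by have := he.pos; omega, pow_one, pow_two] at h1
    exact h1
  let Good : Subgroup P → Prop := fun A => Z ≤ A ∧ HomAb K A ∧ ∀ a ∈ A, ∀ g, cm a g ∈ Z
  have hZgood : Good Z := ⟨le_rfl, hZ, fun a ha g => by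
    rw [cm_eq_one_iff.2 (Subgroup.mem_center_iff.1 ha g).symm]; exact one_mem _⟩
  obtain ⟨A, -, ⟨hZA, hA, hAZ⟩, hmax⟩ :
      ∃ A, Z ≤ A ∧ Good A ∧ ∀ B, Good B → A ≤ B → B = A := by
    obtain ⟨A, hA1, hA2⟩ := Set.Finite.exists_le_maximal (Set.toFinite {B : Subgroup P | Good B}) hZgood
    exact ⟨A, hA1, hA2.1, fun B hB hle => le_antisymm (hA2.2 hB hle) hle⟩
  obtain ⟨f, hf⟩ := exists_expEq S hA
  have hef : e ≤ f := by
    by_contra h
    obtain ⟨z, hz, hne⟩ := he.ne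
    refine hne ?_
    rw [show e - 1 = f + (e - 1 - f) by omega, pow_add, pow_mul, hf.le z (hZA hz), one_pow]
  have hcardA := card_eq S hA hf
  have hcardZ := card_eq S hZ he
  have hAne : A ≠ ⊤ := by
    intro h
    obtain ⟨x, y, hxy⟩ := hna
    exact hxy (hA.comm x (h ▸ Subgroup.mem_top x) y (h ▸ Subgroup.mem_top y))
  have hfe : f < 2 * e := by
    have h1 : Nat.card A < Nat.card P := by
      refine lt_of_le_of_ne (Subgroup.card_le_card_group A) fun h => hAne ?_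
      exact Subgroup.eq_top_of_card_eq A h
    rw [hcard, hcardA, hcardZ, ← pow_mul (2 ^ n) e 2] at h1
    by_contra h
    exact absurd (Nat.pow_le_pow_right (Nat.two_pow_pos n) (show e * 2 ≤ f by omega)) (not_le.2 h1)
  haveI hAn : A.Normal := ⟨fun a ha g => by
    rw [show g * a * g⁻¹ = (cm a g)⁻¹ * a by simp only [cm]; group]
    exact A.mul_mem (A.inv_mem (hZA (hAZ a ha g))) ha⟩
  have hcmbil : ∀ a ∈ A, ∀ g, cm a g ∈ Subgroup.center P := hAZ
  let W : Subgroup P :=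
    { carrier := {y | y * y ∈ A ∧ ∀ g, cm y g ∈ A}
      one_mem' := ⟨by simp, fun g => by simp [cm]⟩
      mul_mem' := by
        intro x y hx hy
        refine ⟨?_, fun g => ?_⟩
        · rw [show x * y * (x * y) = x * cm y x * x⁻¹ * (x * x) * (y * y) by simp only [cm]; group]
          exact A.mul_mem (A.mul_mem (hAn.conj_mem _ (hy.2 x) x) hx.1) hy.1
        · rw [show cm (x * y) g = x * cm y g * x⁻¹ * cm x g by simp only [cm]; group]
          exact A.mul_mem (hAn.conj_mem _ (hy.2 g) x) (hx.2 g)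
      inv_mem' := by
        intro x hx
        refine ⟨?_, fun g => ?_⟩
        · rw [show x⁻¹ * x⁻¹ = (x * x)⁻¹ by group]; exact A.inv_mem hx.1
        · rw [show cm x⁻¹ g = x⁻¹ * (cm x g)⁻¹ * x by simp only [cm]; group]
          exact hAn.conj_mem' _ (A.inv_mem (hx.2 g)) x }
  have hAW : A ≤ W := fun a ha => ⟨A.mul_mem ha ha, fun g => hZA (hAZ a ha g)⟩
  have hWinv : ∀ (k : K), ∀ y ∈ W, (k : MulAut P) y ∈ W := by
    intro k y hy
    refine ⟨by rw [← map_mul]; exact hA.inv k _ hy.1, fun g => ?_⟩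
    obtain ⟨g', rfl⟩ := (k : MulAut P).surjective g
    rw [← map_cm]; exact hA.inv k _ (hy.2 g')
  obtain ⟨y₀, hy₀W, hy₀A⟩ : ∃ y ∈ W, y ∉ A := by
    haveI hnt : Nontrivial (P ⧸ A) := by
      rw [← Finite.one_lt_card_iff_nontrivial, ← Subgroup.index_eq_card]
      exact Nat.lt_of_le_of_ne (Nat.one_le_iff_ne_zero.2 A.index_ne_zero_of_finite)
        fun h => hAne (Subgroup.index_eq_one.1 h.symm)
    haveI : Fact (Nat.Prime 2) := ⟨Nat.prime_two⟩
    have hQ := S.pgroup.to_quotient A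
    obtain ⟨m, hm⟩ := IsPGroup.iff_card.1 (hQ.to_subgroup (Subgroup.center (P ⧸ A)))
    have hnc := hQ.center_nontrivial
    have h2 : 2 ∣ Nat.card (Subgroup.center (P ⧸ A)) := by
      have := Finite.one_lt_card_iff_nontrivial.2 hnc
      rcases m with _ | m
      · omega
      · exact hm ▸ dvd_pow_self 2 m.succ_ne_zero
    obtain ⟨⟨c, hc⟩, hord⟩ := exists_prime_orderOf_dvd_card' 2 h2
    obtain ⟨y, rfl⟩ := QuotientGroup.mk_surjective c
    rw [Subgroup.orderOf_mk] at hord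
    refine ⟨y, ⟨?_, fun g => ?_⟩, fun hy => ?_⟩
    · rw [← QuotientGroup.eq_one_iff, QuotientGroup.mk_mul, ← pow_two, ← hord, pow_orderOf_eq_one]
    · rw [← QuotientGroup.eq_one_iff]
      simp only [cm, QuotientGroup.mk_mul, QuotientGroup.mk_inv]
      rw [← Subgroup.mem_center_iff.1 hc (g : P ⧸ A)]
      group
    · rw [(QuotientGroup.eq_one_iff y).2 hy, orderOf_one] at hord
      omega
  have hsqA : ∀ y ∈ W, ∀ a ∈ A, cm a y * cm a y = 1 := fun y hy a ha => by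
    rw [cm_sq_right (hcmbil a ha y), cm_eq_one_iff.2 (hA.comm a ha _ hy.1)]
  let ψ : P → F := fun y => ω ((y * y) ^ 2 ^ (f - 1))
  let π : P → F := fun a => ω (a ^ 2 ^ (f - 1))
  have hπadd : ∀ a ∈ A, ∀ b ∈ A, π (a * b) = π a + π b := fun a ha b hb => by
    show ω _ = _
    rw [(show Commute a b from hA.comm a ha b hb).mul_pow, S.add _ _ (top_power_sq hf ha) (top_power_sq hf hb)]
  have hπ0 : ∀ a ∈ A, π a = 0 → ∃ b ∈ A, a = b * b := by
    intro a ha h0
    obtain ⟨b, hb, hbe⟩ := exists_power_of_le S hA hf (f - 1) (by omega) a ha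
      ((S.omega_eq_zero (top_power_sq hf ha)).1 h0)
    exact ⟨b, hb, by rw [hbe, show f - (f - 1) = 1 by have := hf.pos; omega, pow_one, pow_two]⟩
  have hψmem : ∀ y ∈ W, ψ y = π (y * y) := fun y _ => rfl
  have hψadd : ∀ x ∈ W, ∀ y ∈ W, ψ (x * y) = ψ x + ψ y := by
    intro x hx y hy
    have hxy : x * y * (x * y) = x * cm y x * x⁻¹ * (x * x) * (y * y) := by simp only [cm]; group
    have hc : cm y x ∈ A := hy.2 x
    have hc' : x * cm y x * x⁻¹ ∈ A := hAn.conj_mem _ hc x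
    suffices h0 : π (x * cm y x * x⁻¹) = 0 by
      show π (x * y * (x * y)) = π (x * x) + π (y * y)
      rw [hxy, hπadd _ (A.mul_mem hc' hx.1) _ hy.1, hπadd _ hc' _ hx.1, h0, zero_add]
    show ω _ = 0
    rw [conj_pow, show cm y x ^ 2 ^ (f - 1) = 1 from ?_, mul_one, mul_inv_cancel, S.omega_one]
    have h1 : cm (y * y) x = y * cm y x * y⁻¹ * cm y x := by simp only [cm]; group
    have hw : cm (cm y x) y * cm (cm y x) y = 1 := hsqA y hy _ hc
    have hω : cm (y * y) x * cm (y * y) x = 1 := hsqA x hx _ hy.1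
    by_cases hf3 : 3 ≤ f
    · have h4 : cm y x ^ 4 = 1 := by
        have h2 : y * cm y x * y⁻¹ = (cm (cm y x) y)⁻¹ * cm y x := by
          generalize cm y x = c; simp only [cm]; group
        have hcen := Subgroup.inv_mem _ (hcmbil _ hc y)
        have hc2 : cm y x * cm y x = cm (cm y x) y * cm (y * y) x := by
          rw [h1, h2]; group
        have hcen2 := hcmbil _ hc y
        rw [show (4 : ℕ) = 2 * 2 from rfl, pow_mul, pow_two, pow_two, hc2]
        calc cm (cm y x) y * cm (y * y) x * (cm (cm y x) y * cm (y * y) x)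
            = cm (cm y x) y * (cm (y * y) x * cm (cm y x) y) * cm (y * y) x := by group
          _ = cm (cm y x) y * (cm (cm y x) y * cm (y * y) x) * cm (y * y) x := by
              rw [Subgroup.mem_center_iff.1 hcen2 (cm (y * y) x)]
          _ = cm (cm y x) y * cm (cm y x) y * (cm (y * y) x * cm (y * y) x) := by group
          _ = 1 := by rw [hw, hω, one_mul]
      obtain ⟨d, hd⟩ : (4 : ℕ) ∣ 2 ^ (f - 1) := ⟨2 ^ (f - 3), by
        rw [show (4 : ℕ) = 2 ^ 2 from rfl, ← pow_add, show 2 + (f - 3) = f - 1 by omega]⟩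
      rw [hd, pow_mul, h4, one_pow]
    · have hf2 : f = 2 := by omega
      have hAZ' : ∀ a ∈ A, a ∈ Z := fun a ha =>
        ker_le_of_sub S hA hZ hZA he e le_rfl a ha (by rw [show e = f by omega]; exact hf.le a ha)
      have hcc : cm y x * cm y x = cm (y * y) x := (cm_mul_left (hAZ' _ hc)).symm
      rw [hf2, show 2 - 1 = 1 from rfl, pow_one, pow_two, hcc]
      exact cm_eq_one_iff.2 (Subgroup.mem_center_iff.1 (hAZ' _ hy.1) x).symm
  have hπequiv : ∀ (k : K), ∀ a ∈ A, π ((k : MulAut P) a) = (u k : F) * π a := fun k a ha => by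
    show ω _ = _
    rw [← map_pow, S.equiv k _ (top_power_sq hf ha)]
  have hψequiv : ∀ (k : K), ∀ y ∈ W, ψ ((k : MulAut P) y) = (u k : F) * ψ y := fun k y hy => by
    show π (_ * _) = _
    rw [← map_mul]
    exact hπequiv k _ hy.1
  have hψinj : ∀ y ∈ W, ψ y = 0 → y ∈ A := by
    intro y hy h0
    obtain ⟨b, hb, hbe⟩ := hπ0 _ hy.1 h0
    have hbi := A.inv_mem hb
    have hc1 := hcmbil _ hbi y
    have hc2 : cm b⁻¹ y * cm b⁻¹ y = 1 := hsqA y hy _ hbi
    have hsq : b⁻¹ * y * (b⁻¹ * y) = (cm b⁻¹ y)⁻¹ := by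
      rw [show b⁻¹ * y * (b⁻¹ * y) = b⁻¹ * b⁻¹ * (b * (cm b⁻¹ y)⁻¹ * b⁻¹) * (y * y) by simp only [cm]; group, hbe,
        Subgroup.mem_center_iff.1 (inv_mem hc1) b, mul_inv_cancel_right,
        Subgroup.mem_center_iff.1 (inv_mem hc1) (b⁻¹ * b⁻¹)]
      group
    obtain ⟨v, hv, hve⟩ := exists_root S hZ he (j := 1) (by omega) (z := (cm b⁻¹ y)⁻¹)
      (by rw [← mul_inv_rev, hc2, inv_one])
    rw [pow_one, pow_two] at hve
    have hinv : v⁻¹ * (b⁻¹ * y) * (v⁻¹ * (b⁻¹ * y)) = 1 := by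
      rw [mul_assoc v⁻¹, ← mul_assoc (b⁻¹ * y) v⁻¹, Subgroup.mem_center_iff.1 (inv_mem hv) (b⁻¹ * y),
        mul_assoc v⁻¹, hsq, ← hve]
      group
    have h3 := A.mul_mem hb (A.mul_mem (hZA hv) (hA.invol _ hinv))
    rwa [mul_inv_cancel_left, mul_inv_cancel_left] at h3
  have hψsurj : ∀ v, ∃ y ∈ W, ψ y = v := by
    intro v
    by_cases hv : v = 0
    · exact ⟨1, W.one_mem, by simp [ψ, hv, S.omega_one]⟩
    have hne : ψ y₀ ≠ 0 := fun h => hy₀A (hψinj _ hy₀W h)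
    obtain ⟨k, hk⟩ := S.bij.2 (Units.mk0 (v / ψ y₀) (div_ne_zero hv hne))
    exact ⟨(k : MulAut P) y₀, hWinv k _ hy₀W, by rw [hψequiv k _ hy₀W, hk, Units.val_mk0, div_mul_cancel₀ _ hne]⟩
  have hπsurj : ∀ v, ∃ a ∈ A, π a = v := fun v => by
    obtain ⟨y, hy, h⟩ := hψsurj v
    exact ⟨y * y, hy.1, h⟩
  have hAWc : ∀ a ∈ A, ∀ y ∈ W, cm a y = 1 := by
    refine pairing_vanish S A W hA.inv hWinv π ψ hπadd hψadd hπequiv hψequiv hπsurj hψsurj
      (fun a ha y hy => ⟨hcmbil a ha y, hsqA y hy a ha⟩) ?_ ?_ ?_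
    · intro a ha h0 y hy
      obtain ⟨b, hb, rfl⟩ := hπ0 a ha h0
      rw [cm_mul_left (hcmbil b hb y), hsqA y hy b hb]
    · intro y hy h0 a ha
      exact cm_eq_one_iff.2 (hA.comm a ha y (hψinj y hy h0))
    · intro a ha y hy heq
      have h1 : π (a⁻¹ * (y * y)) = 0 := by
        have h2 := hπadd _ ha _ (A.mul_mem (A.inv_mem ha) hy.1)
        rw [mul_inv_cancel_left, ← hψmem y hy, ← heq] at h2
        linear_combination -h2
      obtain ⟨b, hb, hbe⟩ := hπ0 _ (A.mul_mem (A.inv_mem ha) hy.1) h1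
      have h2 : y * y = a * (b * b) := by rw [← hbe, mul_inv_cancel_left]
      have h3 : cm (y * y) y = 1 := cm_eq_one_iff.2 (mul_assoc y y y)
      rw [h2, cm_mul_left (hcmbil _ (A.mul_mem hb hb) y), cm_mul_left (hcmbil b hb y), hsqA y hy b hb,
        mul_one] at h3
      exact h3
  have hWZ : ∀ y ∈ W, ∀ g, cm y g ∈ Z := by
    intro y hy g
    have hc : cm y g ∈ A := hy.2 g
    have h1 : cm (y * y) g = cm y g * cm y g := by
      have h2 : cm (y * y) g = y * cm y g * y⁻¹ * cm y g := by simp only [cm]; group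
      rw [h2, ← cm_eq_one_iff.1 (hAWc _ hc y hy), mul_inv_cancel_right]
    have h3 : (y * y) ^ 2 ^ (f - e) ∈ Z := ker_le_of_sub S hA hZ hZA he e le_rfl _ (A.pow_mem hy.1 _)
      (by rw [← pow_mul, ← pow_add, show f - e + e = f by omega]; exact hf.le _ hy.1)
    have h4 : cm (y * y) g ^ 2 ^ (f - e) = 1 := by
      rw [← cm_pow_left (hcmbil _ hy.1 g), cm_eq_one_iff.2 (Subgroup.mem_center_iff.1 h3 g).symm]
    refine ker_le_of_sub S hA hZ hZA he e le_rfl _ hc ?_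
    obtain ⟨d, hd⟩ : 2 * 2 ^ (f - e) ∣ 2 ^ e := by rw [← pow_succ']; exact pow_dvd_pow 2 (by omega)
    rw [hd, pow_mul, pow_mul, pow_two, ← h1, h4, one_pow]
  have hsqW : ∀ y ∈ W, ∀ x ∈ W, cm y x * cm y x = 1 := fun y hy x hx => by
    rw [← cm_mul_left (hWZ y hy x)]
    exact hAWc _ hy.1 x hx
  have hWcomm : ∀ x ∈ W, ∀ y ∈ W, cm x y = 1 := by
    refine pairing_vanish S W W hWinv hWinv ψ ψ hψadd hψadd hψequiv hψequiv hψsurj hψsurj
      (fun x hx y hy => ⟨hWZ x hx y, hsqW x hx y hy⟩) ?_ ?_ ?_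
    · intro x hx h0 y hy
      exact hAWc x (hψinj x hx h0) y hy
    · intro y hy h0 x hx
      exact cm_eq_one_iff.2 (cm_eq_one_iff.1 (hAWc y (hψinj y hy h0) x hx)).symm
    · intro x hx y hy heq
      have h1 : ψ (y⁻¹ * x) = 0 := by
        have h2 := hψadd _ hy _ (W.mul_mem (W.inv_mem hy) hx)
        rw [mul_inv_cancel_left, ← heq] at h2
        linear_combination -h2
      have h3 := cm_eq_one_iff.1 (hAWc _ (hψinj _ (W.mul_mem (W.inv_mem hy) hx) h1) y hy)
      rw [cm_eq_one_iff]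
      calc x * y = y * (y⁻¹ * x * y) := by group
        _ = y * (y * (y⁻¹ * x)) := by rw [h3]
        _ = y * x := by group
  have hWgood : Good W := ⟨hZA.trans hAW,
    ⟨fun x hx y hy => cm_eq_one_iff.1 (hWcomm x hx y hy), hWinv, fun t ht => hAW (hA.invol t ht)⟩, hWZ⟩
  exact hy₀A (hmax W hWgood hAW ▸ hy₀W)

end Cfsg.Agent.Invol.TypeA
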