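import Mathlib
import Cfsg.Agent.Lib.Invol.ZStar
import Cfsg.Agent.Lib.Grp.Coprime

/-!
# Factorisations with respect to an isolated involution
-/

namespace Cfsg.Agent.Invol

open Cfsg Cfsg.Agent.Grp
open scoped Pointwise

variable {G : Type*} [Group G] [Finite G] {z : G}

theorem odd_oddCore : Odd (Nat.card (pPrimeCore 2 G)) :=
  BS.odd_iff_coprime_two.2 (Grp.pPrimeCore_coprime (p := 2))

theorem odd_orderOf_of_mem_core {x : G} (hx : x ∈ pPrimeCore 2 G) : Odd (orderOf x) :=
  Odd.of_dvd_nat odd_oddCore (by rw [← Subgroup.orderOf_mk x hx]; exact orderOf_dvd_natCard _)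

theorem isolated_commutator_mem (hz : IsIsolatedInvolution z) (g : G) :
    z * g * z⁻¹ * g⁻¹ ∈ pPrimeCore 2 G :=
  ZStar.commutator_mem_oddCore _ G rfl z hz g

/-- An isolated involution normalizes every subgroup containing the odd core. -/
theorem isolated_normalizes_of_core_le (hz : IsIsolatedInvolution z) {H : Subgroup G}
    (hH : pPrimeCore 2 G ≤ H) : z ∈ Subgroup.normalizer (H : Set G) := by
  rw [Subgroup.mem_normalizer_iff]
  intro w
  have hc := hH (isolated_commutator_mem hz w)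
  constructor
  · intro h
    have := mul_mem hc h
    rwa [inv_mul_cancel_right] at this
  · intro h
    have := mul_mem (inv_mem hc) h
    rwa [show (z * w * z⁻¹ * w⁻¹)⁻¹ * (z * w * z⁻¹) = w by group] at this

/-- Odd-order elements inverted by an isolated involution lie in the odd core. -/
theorem mem_core_of_inverted (hz : IsIsolatedInvolution z) {k : G} (hk : Odd (orderOf k))
    (hi : z * k * z⁻¹ = k⁻¹) : k ∈ pPrimeCore 2 G := by
  refine mem_of_sq_mem hk ?_
  have := inv_mem (isolated_commutator_mem hz k)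
  rwa [hi, ← mul_inv_rev, inv_inv] at this

omit [Finite G] in
theorem eq_of_sq_eq {k l : G} (hk : Odd (orderOf k)) (hl : Odd (orderOf l))
    (h : k * k = l * l) : k = l := by
  obtain ⟨m, hm⟩ := hk.mul hl
  have hroot : ∀ x : G, orderOf x ∣ orderOf k * orderOf l → x = (x * x) ^ (m + 1) := by
    intro x hx
    rw [← sq, ← pow_mul, show 2 * (m + 1) = 2 * m + 1 + 1 by ring, pow_succ, ← hm,
      orderOf_dvd_iff_pow_eq_one.1 hx, one_mul]
  rw [hroot k (dvd_mul_right _ _), hroot l (dvd_mul_left _ _), h]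

omit [Finite G] in
theorem conj_of_inverted {k : G} (hi : z * k * z⁻¹ = k⁻¹) : k * z * k⁻¹ = k * k * z := by
  have h : z * k⁻¹ * z⁻¹ = k := by rw [← conj_inv, hi, inv_inv]
  calc k * z * k⁻¹ = k * (z * k⁻¹ * z⁻¹) * z := by group
    _ = k * k * z := by rw [h]

omit [Finite G] in
/-- An odd-order element inverted by `z` is determined by the conjugate of `z` it gives. -/
theorem inverted_inj {k l : G} (hk : Odd (orderOf k)) (hl : Odd (orderOf l))
    (hki : z * k * z⁻¹ = k⁻¹) (hli : z * l * z⁻¹ = l⁻¹)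
    (h : k * z * k⁻¹ = l * z * l⁻¹) : k = l := by
  rw [conj_of_inverted hki, conj_of_inverted hli] at h
  exact eq_of_sq_eq hk hl (mul_right_cancel h)

theorem isolated_exists_factor (hz : IsIsolatedInvolution z) (g : G) :
    ∃ k : G, Odd (orderOf k) ∧ z * k * z⁻¹ = k⁻¹ ∧ k ∈ pPrimeCore 2 G ∧
      k⁻¹ * g ∈ Subgroup.centralizer ({z} : Set G) := by
  obtain ⟨k, hko, hki, hk, -⟩ := exists_odd_inverted hz g
  refine ⟨k, hko, hki, mem_core_of_inverted hz hko hki, Subgroup.mem_centralizer_singleton_iff.2 ?_⟩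
  calc k⁻¹ * g * z = k⁻¹ * (g * z * g⁻¹) * g := by group
    _ = z * (k⁻¹ * g) := by rw [← hk]; group

theorem isolated_card (hz : IsIsolatedInvolution z) :
    Nat.card G = Nat.card (Subgroup.centralizer ({z} : Set G)) *
      Nat.card {k : G // Odd (orderOf k) ∧ z * k * z⁻¹ = k⁻¹} := by
  rw [mul_comm, ← Nat.card_prod]
  symm
  refine Nat.card_eq_of_bijective (fun p => (p.1 : G) * (p.2 : G)) ⟨?_, fun g => ?_⟩
  · rintro ⟨⟨k, hk, hki⟩, ⟨c, hc⟩⟩ ⟨⟨l, hl, hli⟩, ⟨d, hd⟩⟩ h
    simp only at h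
    have hc' := Subgroup.mem_centralizer_singleton_iff.1 hc
    have hd' := Subgroup.mem_centralizer_singleton_iff.1 hd
    have hkl : k = l := inverted_inj hk hl hki hli <| by
      calc k * z * k⁻¹ = (k * c) * z * (k * c)⁻¹ := by
            rw [mul_inv_rev, mul_assoc k c z, hc', ← mul_assoc k z c]; group
        _ = l * z * l⁻¹ := by
            rw [h, mul_inv_rev, mul_assoc l d z, hd', ← mul_assoc l z d]; group
    subst hkl
    simp only [mul_right_inj] at h
    subst h
    rfl
  · obtain ⟨k, hk, hki, -, hc⟩ := isolated_exists_factor hz g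
    exact ⟨⟨⟨k, hk, hki⟩, ⟨_, hc⟩⟩, mul_inv_cancel_left k g⟩

/-- Every subgroup of odd prime power order normalized by an isolated involution lies in a Sylow
subgroup normalized by it. -/
theorem exists_isolated_invariant_sylow (hz : IsIsolatedInvolution z) {p : ℕ} [Fact p.Prime]
    (hp : p ≠ 2) {Q : Subgroup G} (hQ : IsPGroup p Q)
    (hzQ : z ∈ Subgroup.normalizer (Q : Set G)) :
    ∃ P : Sylow p G, Q ≤ (P : Subgroup G) ∧ z ∈ Subgroup.normalizer ((P : Subgroup G) : Set G) := by
  obtain ⟨P, hP⟩ := hQ.exists_le_sylow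
  have := Grp.pPrimeCore_isNormal (p := 2) (G := G)
  set K := (P : Subgroup G) ⊔ pPrimeCore 2 G with hK
  have hodd : Odd (Nat.card K) := by
    obtain ⟨k, hk⟩ := IsPGroup.iff_card.1 P.isPGroup'
    refine Odd.of_dvd_nat ((Nat.Prime.odd_of_ne_two (Fact.out) hp).pow (n := k) |>.mul (odd_oddCore (G := G))) ?_
    have e := Subgroup.relIndex_mul_relIndex ⊥ (pPrimeCore 2 G) K bot_le le_sup_right
    rw [Subgroup.relIndex_bot_left, Subgroup.relIndex_bot_left, hK, Subgroup.relIndex_sup_right] at e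
    rw [← hk, hK, ← e, mul_comm]
    exact Nat.mul_dvd_mul_right (Subgroup.relIndex_dvd_card _ _) _
  have hAK : Subgroup.zpowers z ≤ Subgroup.normalizer (K : Set G) :=
    Subgroup.zpowers_le.2 (isolated_normalizes_of_core_le hz le_sup_right)
  have hcop : (Nat.card (Subgroup.zpowers z)).Coprime (Nat.card K) := by
    rw [Nat.card_zpowers, hz.1]
    exact Nat.coprime_two_left.2 hodd
  have hsolv : Group.IsSolvable (Subgroup.zpowers z) ∨ Group.IsSolvable K := .inl inferInstance
  obtain ⟨X, hX, hXz, hQX⟩ := Grp.exists_invariant_sylow_ge _ K hAK hcop hsolv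
    (hP.trans le_sup_left) hQ (Subgroup.zpowers_le.2 hzQ)
  have hcard : Nat.card X = Nat.card (P : Subgroup G) := by
    have h1 : Grp.IsSylowIn p (P : Subgroup G) K := ⟨le_sup_left, P.isPGroup',
      fun h => P.not_dvd_index (h.trans (Subgroup.relIndex_dvd_index_of_le le_sup_left))⟩
    obtain ⟨c, -, hc⟩ := hX.conj h1
    rw [← hc, card_conj_smul]
  refine ⟨Sylow.ofCard X (hcard.trans P.card_eq_multiplicity), ?_, ?_⟩
  · exact hQX
  · exact hXz (Subgroup.mem_zpowers z)

end Cfsg.Agent.Invol
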