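import Mathlib
import Cfsg.Agent.Lib.Invol.IsolatedFactor

/-!
# Involutions acting on subgroups of odd order, fixed points of `p`-groups
-/

set_option autoImplicit false
set_option linter.unusedSectionVars false

namespace Cfsg.Agent.Invol

variable {G : Type*} [Group G] [Finite G]

/-- An involution normalizing a subgroup of odd order splits it into fixed and inverted elements. -/
theorem card_fixed_mul_inverted {z : G} (hz : z * z = 1) (P : Subgroup G)
    (hP : Odd (Nat.card P)) (hzP : z ∈ Subgroup.normalizer (P : Set G)) :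
    Nat.card P = Nat.card ↥(P ⊓ Subgroup.centralizer ({z} : Set G)) *
      Nat.card {x : G // x ∈ P ∧ z * x * z⁻¹ = x⁻¹} := by
  have hodd : ∀ x ∈ P, Odd (orderOf x) := fun x hx =>
    Odd.of_dvd_nat hP (by rw [← Subgroup.orderOf_mk x hx]; exact orderOf_dvd_natCard _)
  have hzi : z⁻¹ = z := inv_eq_of_mul_eq_one_right hz
  rw [mul_comm, ← Nat.card_prod]
  symm
  refine Nat.card_eq_of_bijective (fun p => ⟨(p.1 : G) * p.2, mul_mem p.1.2.1 p.2.2.1⟩) ⟨?_, ?_⟩
  · rintro ⟨⟨k, hk, hki⟩, ⟨c, hcP, hc⟩⟩ ⟨⟨l, hl, hli⟩, ⟨d, hdP, hd⟩⟩ h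
    simp only [Subtype.mk.injEq] at h
    have hc' := Subgroup.mem_centralizer_singleton_iff.1 hc
    have hd' := Subgroup.mem_centralizer_singleton_iff.1 hd
    obtain rfl : k = l := inverted_inj (hodd k hk) (hodd l hl) hki hli <| by
      calc k * z * k⁻¹ = (k * c) * z * (k * c)⁻¹ := by
            rw [mul_inv_rev, mul_assoc k c z, hc', ← mul_assoc k z c]; group
        _ = l * z * l⁻¹ := by
            rw [h, mul_inv_rev, mul_assoc l d z, hd', ← mul_assoc l z d]; group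
    simp only [mul_right_inj] at h
    subst h
    rfl
  · rintro ⟨x, hx⟩
    obtain ⟨j, hj⟩ := id hP
    set w := x * (z * x⁻¹ * z⁻¹) with hw
    have hwP : w ∈ P := mul_mem hx ((Subgroup.mem_normalizer_iff.1 hzP _).1 (inv_mem hx))
    set k := w ^ (j + 1) with hk
    have hwi : z * w * z⁻¹ = w⁻¹ := by
      calc z * w * z⁻¹ = z * x * z⁻¹ * ((z * z) * x⁻¹ * (z * z)⁻¹) := by rw [hw]; group
        _ = w⁻¹ := by rw [hz, hw]; group
    have hki : z * k * z⁻¹ = k⁻¹ := by rw [hk, ← conj_pow, hwi, inv_pow]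
    have hkk : k * k = w := by
      rw [hk, ← pow_add, show j + 1 + (j + 1) = 2 * j + 1 + 1 by ring, pow_succ, ← hj,
        orderOf_dvd_iff_pow_eq_one.1 (by rw [← Subgroup.orderOf_mk w hwP]; exact orderOf_dvd_natCard _),
        one_mul]
    have hc : k⁻¹ * x ∈ Subgroup.centralizer ({z} : Set G) := by
      rw [Subgroup.mem_centralizer_singleton_iff]
      have e : k * z * k⁻¹ = x * z * x⁻¹ := by
        rw [conj_of_inverted hki, hkk, hw, hzi]
        simp [mul_assoc, hz]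
      calc k⁻¹ * x * z = k⁻¹ * (x * z * x⁻¹) * x := by group
        _ = z * (k⁻¹ * x) := by rw [← e]; group
    exact ⟨⟨⟨k, pow_mem hwP _, hki⟩, ⟨_, show k⁻¹ * x ∈ P from mul_mem (inv_mem (pow_mem hwP _)) hx, hc⟩⟩,
      Subtype.ext (mul_inv_cancel_left k x)⟩

variable {p : ℕ} [hp : Fact p.Prime]

/-- A `p`-subgroup acting on a set containing `1` of cardinality divisible by `p` fixes a further
element. -/
theorem exists_conj_fixed {Q : Subgroup G} (hQ : IsPGroup p Q) {J : Set G} (h1 : (1 : G) ∈ J)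
    (hinv : ∀ q ∈ Q, ∀ j ∈ J, q * j * q⁻¹ ∈ J) (hdvd : p ∣ Nat.card J) :
    ∃ j ∈ J, j ≠ 1 ∧ ∀ q ∈ Q, q * j = j * q := by
  let _ : MulAction Q J :=
    { smul := fun q j => ⟨(q : G) * j * (q : G)⁻¹, hinv q q.2 j j.2⟩
      one_smul := fun j => Subtype.ext (by
        show ((1 : Q) : G) * j * ((1 : Q) : G)⁻¹ = j
        simp)
      mul_smul := fun a b j => Subtype.ext (by
        show ((a * b : Q) : G) * j * ((a * b : Q) : G)⁻¹
          = (a : G) * ((b : G) * j * (b : G)⁻¹) * (a : G)⁻¹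
        simp [mul_assoc]) }
  have hfix : (⟨1, h1⟩ : J) ∈ MulAction.fixedPoints Q J := fun q => Subtype.ext (by
    show (q : G) * 1 * (q : G)⁻¹ = 1
    simp)
  obtain ⟨b, hb, hne⟩ := hQ.exists_fixed_point_of_prime_dvd_card_of_fixed_point J hdvd hfix
  refine ⟨b, b.2, fun h => hne (Subtype.ext h.symm), fun q hq => ?_⟩
  have h2 : q * (b : G) * q⁻¹ = b := congrArg Subtype.val (hb ⟨q, hq⟩)
  exact mul_inv_eq_iff_eq_mul.1 h2

/-- A power of a nontrivial element of a `p`-subgroup has order `p`. -/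
theorem exists_pow_order_eq {P : Subgroup G} (hP : IsPGroup p P) {c : G} (hc : c ∈ P) (hc1 : c ≠ 1) :
    ∃ k : ℕ, c ^ k ≠ 1 ∧ (c ^ k) ^ p = 1 := by
  obtain ⟨n, hn⟩ := (IsPGroup.iff_orderOf.1 hP) ⟨c, hc⟩
  rw [Subgroup.orderOf_mk] at hn
  have hn0 : 1 ≤ n := Nat.one_le_iff_ne_zero.2 fun h => hc1 (orderOf_eq_one_iff.1 (by rw [hn, h, pow_zero]))
  refine ⟨p ^ (n - 1), fun h => ?_, ?_⟩
  · have h2 := hn ▸ orderOf_dvd_of_pow_eq_one h
    have := (Nat.pow_dvd_pow_iff_le_right hp.out.one_lt).1 h2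
    omega
  · rw [← pow_mul, ← pow_succ, show n - 1 + 1 = n by omega, ← hn, pow_orderOf_eq_one]

/-- Adjoining a commuting element of order `p` to an elementary abelian subgroup. -/
theorem exists_elementary_sup {E : Subgroup G} (hab : ∀ a ∈ E, ∀ b ∈ E, a * b = b * a)
    (hexp : ∀ a ∈ E, a ^ p = 1) {c : G} (hc : c ^ p = 1) (hcE : ∀ a ∈ E, a * c = c * a) (hne : c ∉ E) :
    ∃ E' : Subgroup G, (∀ a ∈ E', ∀ b ∈ E', a * b = b * a) ∧ (∀ a ∈ E', a ^ p = 1) ∧ c ∈ E' ∧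
      E ≤ E' ∧ p * Nat.card E ≤ Nat.card E' := by
  have hcomm : ∀ u ∈ (E : Set G) ∪ {c}, ∀ v ∈ (E : Set G) ∪ {c}, u * v = v * u := by
    rintro u (hu | rfl) v (hv | rfl)
    · exact hab u hu v hv
    · exact hcE u hu
    · exact (hcE v hv).symm
    · rfl
  set E' := Subgroup.closure ((E : Set G) ∪ {c})
  have := Subgroup.isMulCommutative_closure hcomm
  have hab' : ∀ a ∈ E', ∀ b ∈ E', a * b = b * a := fun a ha b hb =>
    congrArg Subtype.val (IsMulCommutative.is_comm.comm (⟨a, ha⟩ : E') ⟨b, hb⟩)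
  have hexp' : ∀ a ∈ E', a ^ p = 1 := by
    intro a ha
    induction ha using Subgroup.closure_induction with
    | mem x hx =>
      rcases hx with hx | hx
      · exact hexp x hx
      · rw [Set.mem_singleton_iff] at hx; rw [hx]; exact hc
    | one => simp
    | mul x y hx hy ihx ihy => rw [(show Commute x y from hab' x hx y hy).mul_pow, ihx, ihy, one_mul]
    | inv x _ ih => rw [inv_pow, ih, inv_one]
  have hEE : E ≤ E' := fun a ha => Subgroup.subset_closure (Or.inl ha)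
  have hcE' : c ∈ E' := Subgroup.subset_closure (Or.inr rfl)
  refine ⟨E', hab', hexp', hcE', hEE, ?_⟩
  obtain ⟨m, hm⟩ := IsPGroup.iff_card.1
    (show IsPGroup p E' from fun a => ⟨1, Subtype.ext (by rw [pow_one]; exact hexp' a a.2)⟩)
  obtain ⟨l, hl⟩ := IsPGroup.iff_card.1
    (show IsPGroup p E from fun a => ⟨1, Subtype.ext (by rw [pow_one]; exact hexp a a.2)⟩)
  have hlt : Nat.card E < Nat.card E' := by
    refine lt_of_le_of_ne (Subgroup.card_le_of_le hEE) fun h => hne ?_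
    rw [Subgroup.eq_of_le_of_card_ge hEE h.ge]
    exact hcE'
  rw [hm, hl] at hlt ⊢
  rw [← pow_succ']
  exact Nat.pow_le_pow_right hp.out.pos ((Nat.pow_lt_pow_iff_right hp.out.one_lt).1 hlt)

/-- A `p`-element normalizing an elementary abelian group of order at most `p²` acts quadratically. -/
theorem quadratic_of_card_le_sq {Ω : Subgroup G} (hab : ∀ a ∈ Ω, ∀ b ∈ Ω, a * b = b * a)
    (hexp : ∀ a ∈ Ω, a ^ p = 1) (hcard : Nat.card Ω ≤ p ^ 2) {x : G} (hx : IsPGroup p (Subgroup.zpowers x))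
    (hxΩ : ∀ a ∈ Ω, x * a * x⁻¹ ∈ Ω) :
    ∀ a ∈ Ω, x * (x * a * x⁻¹ * a⁻¹) * x⁻¹ = x * a * x⁻¹ * a⁻¹ := by
  intro a ha
  by_contra hne
  let f : Ω →* G :=
    { toFun := fun w => x * w * x⁻¹ * (w : G)⁻¹
      map_one' := by simp
      map_mul' := fun v w => by
        have h1 : (v : G) * (x * w * x⁻¹ * (w : G)⁻¹) = (x * w * x⁻¹ * (w : G)⁻¹) * v :=
          hab v v.2 _ (mul_mem (hxΩ w w.2) (inv_mem w.2))
        calc x * (v * w : Ω) * x⁻¹ * ((v * w : Ω) : G)⁻¹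
            = x * v * x⁻¹ * ((x * w * x⁻¹ * (w : G)⁻¹) * (v : G)⁻¹) := by
              rw [Subgroup.coe_mul]; group
          _ = x * v * x⁻¹ * ((v : G)⁻¹ * ((v : G) * (x * w * x⁻¹ * (w : G)⁻¹)) * (v : G)⁻¹) := by group
          _ = x * v * x⁻¹ * (v : G)⁻¹ * (x * w * x⁻¹ * (w : G)⁻¹) := by rw [h1]; group }
  have hfa : f ⟨a, ha⟩ = x * a * x⁻¹ * a⁻¹ := rfl
  have hrange : f.range ≤ Ω := by
    rintro _ ⟨w, rfl⟩
    exact mul_mem (hxΩ w w.2) (inv_mem w.2)
  have hinvx : ∀ b ∈ f.range, x * b * x⁻¹ ∈ f.range := by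
    rintro _ ⟨w, rfl⟩
    refine ⟨⟨_, hxΩ w w.2⟩, ?_⟩
    show x * (x * w * x⁻¹) * x⁻¹ * (x * (w : G) * x⁻¹)⁻¹ = x * (x * w * x⁻¹ * (w : G)⁻¹) * x⁻¹
    group
  have hgen : ∀ (J : Subgroup G), (∀ b ∈ J, x * b * x⁻¹ ∈ J) →
      ∀ q ∈ Subgroup.zpowers x, ∀ b ∈ J, q * b * q⁻¹ ∈ J := by
    intro J hJ q hq b hb
    have hnorm : Subgroup.zpowers x ≤ Subgroup.normalizer (J : Set G) := Subgroup.zpowers_le.2 (by
      rw [Grp.mem_normalizer_iff_smul]
      refine Subgroup.eq_of_le_of_card_ge ?_ (Grp.card_conj_smul _ _).ge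
      intro w hw
      rw [Subgroup.mem_pointwise_smul_iff_inv_smul_mem] at hw
      have := hJ _ hw
      simpa [MulAut.smul_def, mul_assoc] using this)
    exact (Subgroup.mem_normalizer_iff.1 (hnorm hq) b).1 hb
  have hdvd : ∀ J : Subgroup G, J ≤ Ω → J ≠ ⊥ → p ∣ Nat.card J := by
    intro J hJ hJ1
    obtain ⟨m, hm⟩ := IsPGroup.iff_card.1
      (show IsPGroup p J from fun b => ⟨1, Subtype.ext (by rw [pow_one]; exact hexp b (hJ b.2))⟩)
    rw [hm]
    refine dvd_pow_self p fun h => hJ1 ?_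
    rw [h, pow_zero] at hm
    exact Subgroup.card_eq_one.1 hm
  have hR1 : f.range ≠ ⊥ := fun h => hne (by
    have h1 : x * a * x⁻¹ * a⁻¹ = 1 := Subgroup.mem_bot.1 (h ▸ ⟨⟨a, ha⟩, hfa⟩)
    rw [h1]; group)
  obtain ⟨b, hb, hb1, hbx⟩ := exists_conj_fixed hx (one_mem f.range)
    (hgen _ hinvx) (hdvd _ hrange hR1)
  have hker : f.ker ≠ ⊥ := fun h => hb1 (by
    have h2 : (⟨b, hrange hb⟩ : Ω) ∈ f.ker := by
      show x * b * x⁻¹ * b⁻¹ = 1
      rw [hbx x (Subgroup.mem_zpowers x)]; group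
    rw [h, Subgroup.mem_bot] at h2
    exact congrArg Subtype.val h2)
  have hcr : Nat.card f.range ≤ p := by
    have e1 : Nat.card f.ker * Nat.card f.range = Nat.card Ω := by
      rw [← Subgroup.index_ker f]
      exact Subgroup.card_mul_index _
    have e2 : p ≤ Nat.card f.ker := by
      have h3 := hdvd (f.ker.map Ω.subtype) (Subgroup.map_subtype_le _)
        (fun h => hker ((Subgroup.map_eq_bot_iff_of_injective _ Ω.subtype_injective).1 h))
      rw [Subgroup.card_map_of_injective Ω.subtype_injective] at h3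
      exact Nat.le_of_dvd Nat.card_pos h3
    have e3 : p * Nat.card f.range ≤ p * p := by
      calc p * Nat.card f.range ≤ Nat.card f.ker * Nat.card f.range := Nat.mul_le_mul_right _ e2
        _ ≤ p ^ 2 := e1 ▸ hcard
        _ = p * p := sq p
    exact Nat.le_of_mul_le_mul_left e3 hp.out.pos
  have hR : f.range = Subgroup.zpowers b := by
    refine (Subgroup.eq_of_le_of_card_ge (Subgroup.zpowers_le.2 hb) ?_).symm
    rw [Nat.card_zpowers, orderOf_eq_prime (hexp b (hrange hb)) hb1]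
    exact hcr
  have hm : f ⟨a, ha⟩ ∈ f.range := ⟨_, rfl⟩
  rw [hR, Subgroup.mem_zpowers_iff] at hm
  obtain ⟨i, hi⟩ := hm
  refine hne ?_
  rw [← hfa, ← hi, ← conj_zpow, mul_inv_eq_iff_eq_mul.2 (hbx x (Subgroup.mem_zpowers x))]

end Cfsg.Agent.Invol
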