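import Mathlib
import Cfsg.Prelude.Def_ConjugacyFunctors
import Cfsg.Agent.Lib.Invol.Section
import Cfsg.Agent.Lib.Invol.CharP
import Cfsg.Agent.Lib.Transfer.Alperin
import Cfsg.Agent.Lib.Grp.Coprime
import Cfsg.Agent.Lib.Grp.Cores

/-!
# General tools for control by conjugacy functors: tame subgroups and chains
-/

set_option autoImplicit false

open scoped Pointwise

namespace Cfsg.Agent.Invol

universe u

variable {G : Type*} [Group G] [Finite G] {p : ℕ} [hp : Fact p.Prime]

/-- `D ≤ P` and `N_P(D)` is a Sylow subgroup of `N_G(D)`. -/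
def Tame (P : Sylow p G) (D : Subgroup G) : Prop :=
  D ≤ (P : Subgroup G) ∧
    Grp.IsSylowIn p ((P : Subgroup G) ⊓ Subgroup.normalizer (D : Set G)) (Subgroup.normalizer (D : Set G))

/-- Alperin's theorem as an induction principle. -/
theorem alperin_induct (P : Sylow p G) (R : Set G → G → Prop) (hone : ∀ A, R A 1)
    (hmul : ∀ (A : Set G) (x y : G), R A x → R ((fun a => x * a * x⁻¹) '' A) y → R A (y * x))
    (hstep : ∀ (D : Subgroup G), Tame P D → ∀ n ∈ Subgroup.normalizer (D : Set G),
      ∀ A : Set G, A ⊆ D → R A n)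
    {A : Set G} {g : G} (hA : A ⊆ (P : Subgroup G))
    (hgA : (fun a => g * a * g⁻¹) '' A ⊆ (P : Subgroup G)) : R A g := by
  have hch := Transfer.alperin P A g⁻¹ hA (by simpa using hgA)
  suffices key : ∀ (B : Set G) (k : G), Transfer.AlperinChain P B k → R B k⁻¹ by
    simpa using key A g⁻¹ hch
  intro B k h
  induction h with
  | nil B => simpa using hone B
  | @cons B Q x y hT hB _ ih =>
    rw [mul_inv_rev]
    refine hmul B x⁻¹ y⁻¹ ?_ (by simpa using ih)
    refine hstep ((P : Subgroup G) ⊓ (Q : Subgroup G)) ⟨inf_le_left, inf_le_right,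
      P.isPGroup'.to_le inf_le_left, hT.2.1⟩ _ (inv_mem hT.1) B hB

omit hp in
theorem card_closure_image (A : Set G) (g : G) :
    Nat.card (Subgroup.closure ((fun a => g * a * g⁻¹) '' A)) = Nat.card (Subgroup.closure A) := by
  rw [show (fun a => g * a * g⁻¹) = ⇑(MulAut.conj g).toMonoidHom from rfl,
    ← MonoidHom.map_closure,
    Subgroup.card_map_of_injective (f := (MulAut.conj g).toMonoidHom) (MulAut.conj g).injective]

/-- Alperin's induction for sets generating more than `m` elements: only big steps are needed. -/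
theorem alperin_induct_big (P : Sylow p G) (R : Set G → G → Prop) (hone : ∀ A, R A 1)
    (hmul : ∀ (A : Set G) (x y : G), R A x → R ((fun a => x * a * x⁻¹) '' A) y → R A (y * x))
    (m : ℕ)
    (hstep : ∀ (D : Subgroup G), Tame P D → m < Nat.card D →
      ∀ n ∈ Subgroup.normalizer (D : Set G), ∀ A : Set G, A ⊆ D → R A n)
    {A : Set G} {g : G} (hA : A ⊆ (P : Subgroup G))
    (hgA : (fun a => g * a * g⁻¹) '' A ⊆ (P : Subgroup G))
    (hm : m < Nat.card (Subgroup.closure A)) : R A g :=
  alperin_induct P (fun A g => m < Nat.card (Subgroup.closure A) → R A g) (fun A _ => hone A)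
    (fun A x y h1 h2 hA => hmul A x y (h1 hA) (h2 (by rwa [card_closure_image])))
    (fun D hD n hn A hAD hA => hstep D hD
      (hA.trans_le (Subgroup.card_le_of_le ((Subgroup.closure_le D).mpr hAD))) n hn A hAD) hA hgA hm

/-- Every subgroup of a Sylow subgroup has a tame conjugate. -/
theorem exists_tame_conj (P : Sylow p G) {U : Subgroup G} (hU : U ≤ (P : Subgroup G)) :
    ∃ h : G, Tame P (U.map (MulAut.conj h).toMonoidHom) ∧
      ((P : Subgroup G) ⊓ Subgroup.normalizer (U : Set G)).map (MulAut.conj h).toMonoidHom ≤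
        (P : Subgroup G) ⊓ Subgroup.normalizer (U.map (MulAut.conj h).toMonoidHom : Set G) := by
  set N := Subgroup.normalizer (U : Set G) with hN
  set X := (P : Subgroup G) ⊓ N with hX
  have hXp : IsPGroup p (X.subgroupOf N) := (P.isPGroup'.to_le inf_le_left).comap_subtype
  obtain ⟨T, hT⟩ := hXp.exists_le_sylow
  set T' := (T : Subgroup N).map N.subtype with hT'
  have hTs : Grp.IsSylowIn p T' N := Grp.isSylowIn_iff.mpr ⟨T, rfl⟩
  have hXT : X ≤ T' := by
    intro x hx
    exact ⟨⟨x, hx.2⟩, hT (show (⟨x, hx.2⟩ : N) ∈ X.subgroupOf N from hx), rfl⟩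
  obtain ⟨S, hS⟩ := hTs.2.1.exists_le_sylow
  obtain ⟨h, hh⟩ := MulAction.exists_smul_eq G S P
  refine ⟨h, ?_⟩
  have hTP : T'.map (MulAut.conj h).toMonoidHom ≤ (P : Subgroup G) := by
    rw [← hh]
    exact Subgroup.map_mono hS
  have hNmap : Subgroup.normalizer (U.map (MulAut.conj h).toMonoidHom : Set G) =
      N.map (MulAut.conj h).toMonoidHom :=
    (Subgroup.map_equiv_normalizer_eq U (MulAut.conj h)).symm
  have hle : T'.map (MulAut.conj h).toMonoidHom ≤
      (P : Subgroup G) ⊓ Subgroup.normalizer (U.map (MulAut.conj h).toMonoidHom : Set G) :=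
    le_inf hTP (hNmap ▸ Subgroup.map_mono hTs.1)
  refine ⟨⟨?_, inf_le_right, P.isPGroup'.to_le inf_le_left, fun hd => hTs.2.2 ?_⟩,
    (Subgroup.map_mono hXT).trans hle⟩
  · exact (Subgroup.map_mono ((le_inf hU Subgroup.le_normalizer).trans hXT)).trans hTP
  · have h1 := hd.trans (Subgroup.relIndex_dvd_of_le_left _ hle)
    rwa [hNmap, Subgroup.relIndex_map_map_of_injective T' N (MulAut.conj h).injective] at h1

/-- The normalizer of a tame subgroup: facts about `T = N_P(D)`. -/
theorem Tame.le_inf {P : Sylow p G} {D : Subgroup G} (h : Tame P D) :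
    D ≤ (P : Subgroup G) ⊓ Subgroup.normalizer (D : Set G) :=
  _root_.le_inf h.1 Subgroup.le_normalizer

theorem Tame.card_le {P : Sylow p G} {D : Subgroup G} (h : Tame P D) :
    Nat.card D ≤ Nat.card ↥((P : Subgroup G) ⊓ Subgroup.normalizer (D : Set G)) :=
  Subgroup.card_le_of_le h.le_inf

omit [Finite G] hp in
theorem mem_normalizer_inf_centralizer {U : Subgroup G} {g : G}
    (hg : g ∈ Subgroup.centralizer (U : Set G)) : g ∈ Subgroup.normalizer (U : Set G) :=
  Subgroup.centralizer_le_normalizer _ hg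

theorem isConjugacyFunctor_induced {H : Type u} [Group H] [Finite H]
    {W : ∀ (Q : Type u) [Group Q], Subgroup Q} (hW : Cfsg.IsCharPFunctor.{u} p W) :
    Cfsg.IsConjugacyFunctor p (Cfsg.inducedFunctor (G := H) W) :=
  fun _ hP => ⟨inducedFunctor_le _ _, inducedFunctor_ne_bot hW hP, inducedFunctor_conj hW hP⟩

omit [Finite G] hp in
theorem conjFunctor_normalizer_le {W : Subgroup G → Subgroup G} (hW : Cfsg.IsConjugacyFunctor p W)
    {P : Subgroup G} (hP : IsPGroup p P) :
    Subgroup.normalizer (P : Set G) ≤ Subgroup.normalizer (W P : Set G) := by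
  intro g hg
  have hmap : P.map (MulAut.conj g).toMonoidHom = P := by
    rw [Grp.map_conj_eq_smul]
    exact Grp.mem_normalizer_iff_smul.mp hg
  have h := (hW P hP).2.2 g
  rw [hmap, Grp.map_conj_eq_smul] at h
  exact Grp.mem_normalizer_iff_smul.mpr h.symm

/-- The normalizer in `P` of a proper `T < P` is bigger, and it normalizes the value of `W` on `T`. -/
theorem card_lt_card_inf_normalizer (P : Sylow p G) {W : Subgroup G → Subgroup G}
    (hW : Cfsg.IsConjugacyFunctor p W) {T : Subgroup G} (hT : T < (P : Subgroup G)) :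
    Nat.card T < Nat.card ↥((P : Subgroup G) ⊓ Subgroup.normalizer (W T : Set G)) := by
  have h1 := Transfer.lt_inf_normalizer P hT
  have h2 : (P : Subgroup G) ⊓ Subgroup.normalizer (T : Set G) ≤
      (P : Subgroup G) ⊓ Subgroup.normalizer (W T : Set G) :=
    inf_le_inf_left _ (conjFunctor_normalizer_le hW (P.isPGroup'.to_le hT.le))
  exact lt_of_not_ge fun h => (h1.trans_le h2).ne (Subgroup.eq_of_le_of_card_ge (h1.le.trans h2) h)

end Cfsg.Agent.Invol
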