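import Mathlib
import Cfsg.Prelude.Def_LocalEven
import Cfsg.Agent.Lib.Grp.Solvable

/-!
# Nilpotent actions of degree `p - 1` and the vanishing of cocycles
-/

set_option autoImplicit false

open scoped commutatorElement

namespace Cfsg.Agent.Invol

variable {p : ℕ} [hp : Fact p.Prime]

theorem C_dvd_sub_one_pow_sub_geom :
    Polynomial.C (p : ℤ) ∣
      ((Polynomial.X - 1 : Polynomial ℤ) ^ (p - 1) - ∑ i ∈ Finset.range p, Polynomial.X ^ i) := by
  have h0 : ((Polynomial.X - 1 : Polynomial (ZMod p)) ^ (p - 1)) =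
      ∑ i ∈ Finset.range p, Polynomial.X ^ i := by
    have hne : (Polynomial.X - 1 : Polynomial (ZMod p)) ≠ 0 := by
      rw [← map_one (Polynomial.C (R := ZMod p))]; exact Polynomial.X_sub_C_ne_zero 1
    refine mul_left_cancel₀ hne ?_
    rw [← pow_succ', Nat.sub_add_cancel hp.out.one_le, mul_geom_sum, sub_pow_char_of_commute]
    · rw [one_pow]
    · exact Commute.one_right _
  rw [Polynomial.C_dvd_iff_dvd_coeff]
  intro i
  rw [← ZMod.intCast_zmod_eq_zero_iff_dvd]
  have h1 := congrArg (fun q : Polynomial (ZMod p) => q.coeff i) (sub_eq_zero.mpr h0)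
  simp only [Polynomial.coeff_zero] at h1
  rw [← h1, ← eq_intCast (Int.castRingHom (ZMod p)), ← Polynomial.coeff_map]
  simp [Polynomial.map_sum]

/-- In a ring killed by `p`, `(x - 1)^(p-1) = 1 + x + ... + x^(p-1)`. -/
theorem sum_pow_eq_sub_one_pow {R : Type*} [Ring R] (hR : (p : R) = 0) (x : R) :
    ∑ i ∈ Finset.range p, x ^ i = (x - 1) ^ (p - 1) := by
  obtain ⟨q, hq⟩ := C_dvd_sub_one_pow_sub_geom (p := p)
  have h := congrArg (Polynomial.aeval x) hq
  simp only [map_sub, map_pow, map_sum, map_mul, Polynomial.aeval_X, map_one, Polynomial.aeval_C,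
    map_natCast, hR, zero_mul] at h
  exact (sub_eq_zero.mp h).symm

/-- Iterated commutators of a subgroup with `⟨g⟩` contain the iterated element commutators. -/
theorem iterate_commutator_mem {G : Type*} [Group G] {X : Subgroup G} {g u : G} (hu : u ∈ X) :
    ∀ n : ℕ, (fun a => g * a * g⁻¹ * a⁻¹)^[n] u ∈
      Cfsg.iterCommutator X (Subgroup.zpowers g) n
  | 0 => hu
  | n + 1 => by
    rw [Function.iterate_succ_apply']
    change _ ∈ ⁅Cfsg.iterCommutator X (Subgroup.zpowers g) n, Subgroup.zpowers g⁆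
    rw [Subgroup.commutator_comm]
    exact Subgroup.commutator_mem_commutator (Subgroup.mem_zpowers g) (iterate_commutator_mem hu n)

theorem iterCommutator_map {G H : Type*} [Group G] [Group H] (f : G →* H) (X L : Subgroup G) :
    ∀ n : ℕ, (Cfsg.iterCommutator X L n).map f = Cfsg.iterCommutator (X.map f) (L.map f) n
  | 0 => rfl
  | n + 1 => by
    change (⁅Cfsg.iterCommutator X L n, L⁆).map f = _
    rw [Subgroup.map_commutator, iterCommutator_map f X L n]
    rfl

theorem iterCommutator_mono {G : Type*} [Group G] {X X' L L' : Subgroup G} (hX : X ≤ X')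
    (hL : L ≤ L') : ∀ n : ℕ, Cfsg.iterCommutator X L n ≤ Cfsg.iterCommutator X' L' n
  | 0 => hX
  | n + 1 => Subgroup.commutator_mono (iterCommutator_mono hX hL n) hL

theorem iterCommutator_inv {G : Type*} [Group G] (X : Subgroup G) (g : G) (n : ℕ) :
    Cfsg.iterCommutator X (Subgroup.zpowers g⁻¹) n = Cfsg.iterCommutator X (Subgroup.zpowers g) n := by
  rw [Subgroup.zpowers_inv]

theorem prod_conj_eq_one {Q : Type*} [Group Q] {V : Subgroup Q} [hV : V.Normal]
    (hab : ∀ a ∈ V, ∀ b ∈ V, a * b = b * a) (hexp : ∀ a ∈ V, a ^ p = 1) {g : Q}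
    (hg : Cfsg.iterCommutator V (Subgroup.zpowers g) (p - 1) = ⊥) {u : Q} (hu : u ∈ V) :
    ((List.range p).map fun i => g ^ i * u * (g ^ i)⁻¹).prod = 1 := by
  let _ : CommGroup V :=
    { (inferInstance : Group V) with mul_comm := fun a b => Subtype.ext (hab a a.2 b b.2) }
  let c : V →* V :=
    { toFun := fun a => ⟨g * a * g⁻¹, hV.conj_mem a a.2 g⟩
      map_one' := by ext; simp
      map_mul' := fun a b => by ext; simp [mul_assoc] }
  let φ : AddMonoid.End (Additive V) := MonoidHom.toAdditive c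
  have hR : (p : AddMonoid.End (Additive V)) = 0 := by
    refine DFunLike.ext _ _ fun a => ?_
    change ((p : AddMonoid.End (Additive V))) a = (0 : Additive V)
    rw [AddMonoid.End.natCast_apply]
    exact Additive.toMul.injective (Subtype.ext (by
      rw [toMul_nsmul, SubmonoidClass.coe_pow]; exact hexp _ (Additive.toMul a).2))
  have hsub : ∀ (n : ℕ) (a : Additive V),
      (((φ - 1) ^ n) a).toMul.1 = (fun b => g * b * g⁻¹ * b⁻¹)^[n] a.toMul.1 := by
    intro n
    induction n with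
    | zero => intro a; rfl
    | succ n ih =>
      intro a
      rw [pow_succ', Function.iterate_succ_apply', ← ih a]
      change ((φ (((φ - 1) ^ n) a)) - ((φ - 1) ^ n) a).toMul.1 = _
      rw [toMul_sub, div_eq_mul_inv]
      rfl
  have hzero : ((φ - 1) ^ (p - 1)) (Additive.ofMul (⟨u, hu⟩ : V)) = 0 := by
    refine Additive.toMul.injective (Subtype.ext ?_)
    rw [hsub]
    have h1 := iterate_commutator_mem (g := g) hu (p - 1)
    rw [hg, Subgroup.mem_bot] at h1
    exact h1
  rw [← sum_pow_eq_sub_one_pow hR φ] at hzero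
  have hkey : ∀ n : ℕ, ((∑ i ∈ Finset.range n, φ ^ i) (Additive.ofMul (⟨u, hu⟩ : V))).toMul.1 =
      ((List.range n).map fun i => g ^ i * u * (g ^ i)⁻¹).prod := by
    intro n
    induction n with
    | zero => rfl
    | succ n ih =>
      rw [Finset.sum_range_succ, List.range_succ, List.map_append, List.prod_append, List.map_singleton,
        List.prod_singleton, ← ih]
      change (((∑ i ∈ Finset.range n, φ ^ i) _) + ((φ ^ n) _)).toMul.1 = _
      rw [toMul_add, Subgroup.coe_mul]
      congr 1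
      clear ih hzero
      induction n with
      | zero => simp
      | succ n ih =>
        rw [pow_succ' φ, pow_succ' g, mul_inv_rev]
        change g * (((φ ^ n) (Additive.ofMul (⟨u, hu⟩ : V))).toMul.1) * g⁻¹ = _
        rw [ih]; group
  have h2 := hkey p
  rw [hzero] at h2
  exact h2.symm

/-- On an elementary abelian section with `[X, g; p-1] ≤ Y` the product of the conjugates of each
element under `1, g, …, g^(p-1)` lies in `Y`. -/
theorem prod_conj_mem {G : Type*} [Group G] {X Y : Subgroup G} [X.Normal] [Y.Normal]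
    (hab : ∀ a ∈ X, ∀ b ∈ X, a * b * a⁻¹ * b⁻¹ ∈ Y) (hexp : ∀ a ∈ X, a ^ p ∈ Y) {g : G}
    (hg : Cfsg.iterCommutator X (Subgroup.zpowers g) (p - 1) ≤ Y) {u : G} (hu : u ∈ X) :
    ((List.range p).map fun i => g ^ i * u * (g ^ i)⁻¹).prod ∈ Y := by
  set π := QuotientGroup.mk' Y with hπ
  have hn : (X.map π).Normal := Subgroup.Normal.map inferInstance _ (QuotientGroup.mk'_surjective Y)
  rw [← QuotientGroup.eq_one_iff (N := Y)]
  change π _ = 1
  rw [map_list_prod, List.map_map]
  have h := prod_conj_eq_one (p := p) (V := X.map π) ?_ ?_ (g := π g) ?_ (u := π u) ⟨u, hu, rfl⟩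
  · rw [← h]
    congr 1
  · rintro _ ⟨a, ha, rfl⟩ _ ⟨b, hb, rfl⟩
    have h1 : π (a * b * a⁻¹ * b⁻¹) = 1 := (QuotientGroup.eq_one_iff _).mpr (hab a ha b hb)
    rwa [map_mul, map_mul, map_mul, map_inv, map_inv, mul_inv_eq_one, mul_inv_eq_iff_eq_mul] at h1
  · rintro _ ⟨a, ha, rfl⟩
    rw [← map_pow]
    exact (QuotientGroup.eq_one_iff _).mpr (hexp a ha)
  · rw [← MonoidHom.map_zpowers, ← iterCommutator_map, Subgroup.map_eq_bot_iff, hπ,
      QuotientGroup.ker_mk']
    exact hg

/-- A chief factor that is a `p`-group is elementary abelian. -/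
theorem chief_elementary {G : Type*} [Group G] [Finite G] {X Y : Subgroup G}
    (h : Cfsg.IsChiefFactor X Y) (hX : IsPGroup p X) :
    (∀ a ∈ X, ∀ b ∈ X, a * b * a⁻¹ * b⁻¹ ∈ Y) ∧ ∀ a ∈ X, a ^ p ∈ Y := by
  obtain ⟨hlt, hXn, hYn, hmin⟩ := h
  set π := QuotientGroup.mk' Y with hπ
  have hs : Function.Surjective π := QuotientGroup.mk'_surjective Y
  have hn : (X.map π).Normal := hXn.map _ hs
  have hp' : IsPGroup p (X.map π) := hX.map π
  have hne : X.map π ≠ ⊥ := by
    rw [ne_eq, Subgroup.map_eq_bot_iff, hπ, QuotientGroup.ker_mk']; exact hlt.not_ge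
  obtain ⟨hab, q, hq, hexp⟩ := Grp.minimal_normal_solvable (N := X.map π)
    (have := hp'.isNilpotent; inferInstance) hne (fun M hM hMle => by
      rcases hmin (M.comap π) (hM.comap π) (fun y hy => by
        change π y ∈ M
        rw [show π y = 1 from (QuotientGroup.eq_one_iff y).mpr hy]; exact one_mem M)
        (fun y hy => by
          obtain ⟨x, hx, hxy⟩ := hMle hy
          have : x⁻¹ * y ∈ Y := QuotientGroup.eq.mp hxy
          simpa using mul_mem hx (hlt.le this)) with h | h
      · left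
        rw [← Subgroup.map_comap_eq_self_of_surjective hs M, h, Subgroup.map_eq_bot_iff, hπ,
          QuotientGroup.ker_mk']
      · right
        rw [← Subgroup.map_comap_eq_self_of_surjective hs M, h])
  obtain ⟨y, hy, hy1⟩ := (Subgroup.bot_or_exists_ne_one _).resolve_left hne
  have hqp : q = p := by
    have := Fact.mk hq
    have h1 : orderOf y = q := orderOf_eq_prime (hexp y hy) hy1
    obtain ⟨n, hn⟩ := (IsPGroup.iff_orderOf.mp hp') ⟨y, hy⟩
    rw [Subgroup.orderOf_mk, h1] at hn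
    exact (Nat.prime_dvd_prime_iff_eq hq hp.out).mp (hq.dvd_of_dvd_pow (n := n) (by rw [← hn]))
  subst hqp
  refine ⟨fun a ha b hb => ?_, fun a ha => ?_⟩
  · have h1 : π a * π b = π b * π a :=
      congrArg Subtype.val (hab.is_comm.comm ⟨π a, ⟨a, ha, rfl⟩⟩ ⟨π b, ⟨b, hb, rfl⟩⟩)
    rw [← QuotientGroup.eq_one_iff]
    change π (a * b * a⁻¹ * b⁻¹) = 1
    rw [map_mul, map_mul, map_mul, map_inv, map_inv, h1, mul_inv_cancel_right, mul_inv_cancel]
  · rw [← QuotientGroup.eq_one_iff]
    exact hexp _ ⟨a, ha, rfl⟩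

/-- A nontrivial normal subgroup has a chief factor on top. -/
theorem exists_chief_below {G : Type*} [Group G] [Finite G] {X : Subgroup G} (hX : X.Normal)
    (hne : X ≠ ⊥) : ∃ Y : Subgroup G, Cfsg.IsChiefFactor X Y := by
  obtain ⟨Y, ⟨hYn, hlt⟩, hmax⟩ := Set.exists_max_image {Y : Subgroup G | Y.Normal ∧ Y < X}
    (fun Y => Nat.card Y) (Set.toFinite _) ⟨⊥, inferInstance, bot_lt_iff_ne_bot.mpr hne⟩
  refine ⟨Y, hlt, hX, hYn, fun N hN h1 h2 => ?_⟩
  rcases h2.eq_or_lt with h | h
  · exact Or.inr h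
  · exact Or.inl (Subgroup.eq_of_le_of_card_ge h1 (hmax N ⟨hN, h⟩)).symm

/-! ### Orbit sums -/

section

variable {H α 𝒜 : Type*} [Group H] [AddCommGroup 𝒜] [MulAction H α] [DistribMulAction H 𝒜]

theorem orbit_sum_zero {g : H} {e : ℕ} (hge : g ^ p ^ e = 1)
    (hsum : ∀ a : 𝒜, ∑ i ∈ Finset.range p, g ^ i • a = 0) {f : α → 𝒜}
    (hf : ∀ x, f (g • x) = g • f x) (s : Finset α) (hs : ∀ x ∈ s, g • x ∈ s)
    (hfree : ∀ x ∈ s, g • x ≠ x) : ∑ x ∈ s, f x = 0 := by
  classical
  suffices key : ∀ s : Finset α, (∀ x ∈ s, g • x ∈ s) → (∀ x ∈ s, g • x ≠ x) → ∑ x ∈ s, f x = 0 from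
    key s hs hfree
  intro s
  induction s using Finset.strongInductionOn with
  | _ s ih =>
  intro hs hfree
  rcases s.eq_empty_or_nonempty with rfl | ⟨x, hx⟩
  · simp
  set n := Function.minimalPeriod (g • ·) x with hn
  have hper : ∀ k : ℕ, ((g • ·) : α → α)^[k] x = g ^ k • x := by
    intro k; rw [smul_iterate]
  have hperiodic : Function.IsPeriodicPt (g • ·) (p ^ e) x := by
    rw [Function.IsPeriodicPt, Function.IsFixedPt, hper, hge, one_smul]
  obtain ⟨k, -, hk⟩ := (Nat.dvd_prime_pow hp.out).mp hperiodic.minimalPeriod_dvd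
  rw [← hn] at hk
  have hnx : g ^ n • x = x := by
    rw [← hper]; exact Function.iterate_minimalPeriod
  obtain ⟨k, rfl⟩ : ∃ k', k = k' + 1 := by
    refine Nat.exists_eq_succ_of_ne_zero fun h0 => hfree x hx ?_
    rw [hk, h0, pow_zero, pow_one] at hnx
    exact hnx
  set O := (Finset.range n).image (fun i => g ^ i • x) with hO
  have hOs : O ⊆ s := by
    intro y hy
    obtain ⟨i, -, rfl⟩ := Finset.mem_image.mp hy
    clear hy
    induction i with
    | zero => simpa using hx
    | succ i ih => rw [pow_succ', mul_smul]; exact hs _ ih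
  have hmem : ∀ i : ℕ, g ^ i • x ∈ O := by
    intro i
    refine Finset.mem_image.mpr ⟨i % n, Finset.mem_range.mpr (Nat.mod_lt _ ?_), ?_⟩
    · rw [hk]; exact pow_pos hp.out.pos _
    · have := Function.IsPeriodicPt.const_mul
        (show Function.IsPeriodicPt (g • ·) n x from Function.isPeriodicPt_minimalPeriod _ x) (i / n)
      rw [Function.IsPeriodicPt, Function.IsFixedPt, hper] at this
      conv_rhs => rw [← Nat.mod_add_div i n, pow_add, mul_smul, mul_comm n, this]
  have hinj : Set.InjOn (fun i => g ^ i • x) (Finset.range n : Set ℕ) := by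
    intro i hi j hj hij
    have h1 : ((g • ·) : α → α)^[i] x = ((g • ·) : α → α)^[j] x := by rw [hper, hper]; exact hij
    exact (Function.iterate_eq_iterate_iff_of_lt_minimalPeriod
      (by simpa [hn] using hi) (by simpa [hn] using hj)).mp h1
  have hOsum : ∑ y ∈ O, f y = 0 := by
    rw [hO, Finset.sum_image hinj]
    have hfp : ∀ i : ℕ, f (g ^ i • x) = g ^ i • f x := by
      intro i
      induction i with
      | zero => simp
      | succ i ih => rw [pow_succ', mul_smul, hf, ih, mul_smul]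
    simp only [hfp]
    rw [hk, pow_succ]
    have key : ∀ m : ℕ, ∑ i ∈ Finset.range (m * p), g ^ i • f x = 0 := by
      intro m
      induction m with
      | zero => simp
      | succ m ih =>
        rw [Nat.succ_mul, Finset.sum_range_add, ih, zero_add]
        simp only [pow_add, mul_smul]
        rw [← Finset.smul_sum, hsum, smul_zero]
    exact key _
  have hxO : x ∈ O := by simpa using hmem 0
  rw [← Finset.sum_sdiff hOs, hOsum, add_zero]
  refine ih _ (Finset.sdiff_ssubset hOs ⟨x, hxO⟩) (fun y hy => ?_)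
    (fun y hy => hfree y (Finset.mem_sdiff.mp hy).1)
  obtain ⟨hys, hyO⟩ := Finset.mem_sdiff.mp hy
  refine Finset.mem_sdiff.mpr ⟨hs y hys, fun hgy => hyO ?_⟩
  obtain ⟨i, -, hi⟩ := Finset.mem_image.mp hgy
  have hpe : g * g ^ (p ^ e - 1) = 1 := by
    rw [← pow_succ', Nat.sub_add_cancel (Nat.one_le_pow _ _ hp.out.pos), hge]
  have h2 : y = g ^ (p ^ e - 1) • (g ^ i • x) := by
    rw [hi, ← mul_smul, (Commute.self_pow g _).symm.eq, hpe, one_smul]
  rw [h2, ← mul_smul, ← pow_add]
  exact hmem _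

end

/-- A cocycle vanishing on `M` vanishes, when `M` has index prime to `p` and contains a
`p`-group `⟨Λ⟩` fixing only the coset `M`, every member of which has norm zero on the module. -/
theorem cocycle_eq_zero {G : Type*} [Group G] [Finite G] {𝒜 : Type*} [AddCommGroup 𝒜]
    [DistribMulAction G 𝒜] (M : Subgroup G) (hM : ¬ p ∣ M.index) (Λ : Set G) (hΛM : Λ ⊆ M)
    (hΛp : IsPGroup p (Subgroup.closure Λ))
    (hfix : ∀ h : G, (∀ l ∈ Λ, h⁻¹ * l * h ∈ M) → h ∈ M)
    (hsum : ∀ l ∈ Λ, ∀ a : 𝒜, ∑ i ∈ Finset.range p, l ^ i • a = 0)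
    (hpa : ∀ a : 𝒜, p • a = 0) (c : G → 𝒜) (hc : ∀ g h, c (g * h) = c g + g • c h)
    (hcM : ∀ m ∈ M, c m = 0) : ∀ g, c g = 0 := by
  classical
  set E := Subgroup.closure Λ with hE
  let _ : Fintype (G ⧸ M) := Fintype.ofFinite _
  let f : G ⧸ M → 𝒜 := fun q => Quotient.liftOn' q c fun a b hab => by
    have h : a⁻¹ * b ∈ M := QuotientGroup.leftRel_apply.mp hab
    have h2 := hc a (a⁻¹ * b)
    rw [mul_inv_cancel_left, hcM _ h, smul_zero, add_zero] at h2
    exact h2.symm
  have hfmk : ∀ h : G, f (QuotientGroup.mk h) = c h := fun _ => rfl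
  have hgq : ∀ (g : G) (q : G ⧸ M), f (g • q) = c g + g • f q := by
    intro g q
    induction q using QuotientGroup.induction_on with
    | _ h =>
      change f (QuotientGroup.mk (g * h)) = _
      rw [hfmk, hfmk, hc]
  have hEM : E ≤ M := (Subgroup.closure_le M).mpr hΛM
  have hzero : ∀ s : Finset (G ⧸ M), (∀ e ∈ E, ∀ q ∈ s, e • q ∈ s) →
      (QuotientGroup.mk (1 : G) : G ⧸ M) ∉ s → ∑ q ∈ s, f q = 0 := by
    intro s
    induction s using Finset.strongInductionOn with
    | _ s ih =>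
    intro hs h1
    rcases s.eq_empty_or_nonempty with rfl | ⟨q, hq⟩
    · simp
    set O := (Finset.univ : Finset (G ⧸ M)).filter (fun r => ∃ e ∈ E, e • q = r) with hO
    have hOs : O ⊆ s := by
      intro r hr
      obtain ⟨e, he, rfl⟩ := (Finset.mem_filter.mp hr).2
      exact hs e he q hq
    have hqO : q ∈ O := Finset.mem_filter.mpr ⟨Finset.mem_univ _, 1, one_mem E, one_smul _ q⟩
    obtain ⟨h, rfl⟩ := QuotientGroup.mk_surjective q
    set St := (M.map (MulAut.conj h).toMonoidHom).subgroupOf E with hSt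
    have hmemSt : ∀ e : E, e ∈ St ↔ h⁻¹ * (e : G) * h ∈ M := by
      intro e
      rw [hSt, Subgroup.mem_subgroupOf]
      constructor
      · rintro ⟨m, hm, hme⟩
        rw [← hme]
        simpa [mul_assoc] using hm
      · exact fun hm => ⟨_, hm, by simp [mul_assoc]⟩
    have hSt : St ≠ ⊤ := by
      intro htop
      refine h1 ?_
      have hh : h ∈ M := hfix h fun l hl =>
        (hmemSt ⟨l, Subgroup.subset_closure hl⟩).mp (htop ▸ Subgroup.mem_top _)
      rwa [show (QuotientGroup.mk (1 : G) : G ⧸ M) = QuotientGroup.mk h from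
        QuotientGroup.eq.mpr (by simpa using hh)]
    obtain ⟨E₁, hE₁, hle⟩ := (eq_top_or_exists_le_coatom St).resolve_left hSt
    have := hΛp.isNilpotent
    have hE₁n : E₁.Normal := Subgroup.NormalizerCondition.normal_of_coatom _ Group.normalizerCondition_of_isNilpotent hE₁
    obtain ⟨l, hl, hlE⟩ : ∃ l, ∃ hl : l ∈ Λ, (⟨l, Subgroup.subset_closure hl⟩ : E) ∉ E₁ := by
      by_contra hcon
      push Not at hcon
      refine hE₁.1 (Subgroup.map_injective E.subtype_injective ?_)
      rw [← MonoidHom.range_eq_map, Subgroup.range_subtype]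
      refine le_antisymm (Subgroup.map_subtype_le _) ((Subgroup.closure_le _).mpr fun l hl => ?_)
      exact ⟨_, hcon l hl, rfl⟩
    obtain ⟨e, he⟩ := hΛp ⟨l, Subgroup.subset_closure hl⟩
    have hOsum : ∑ r ∈ O, f r = 0 := by
      refine orbit_sum_zero (e := e) (g := l) (by simpa using congrArg Subtype.val he)
        (hsum l hl) (fun r => ?_) O (fun r hr => ?_) (fun r hr hfixr => ?_)
      · rw [hgq, hcM l (hΛM hl), zero_add]
      · obtain ⟨e', he', rfl⟩ := (Finset.mem_filter.mp hr).2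
        exact Finset.mem_filter.mpr ⟨Finset.mem_univ _, l * e',
          mul_mem (Subgroup.subset_closure hl) he', mul_smul _ _ _⟩
      · obtain ⟨e', he', rfl⟩ := (Finset.mem_filter.mp hr).2
        refine hlE ?_
        have h2 : QuotientGroup.mk (l * (e' * h)) = (QuotientGroup.mk (e' * h) : G ⧸ M) := hfixr
        have h3 := QuotientGroup.eq.mp h2.symm
        have h4 : (⟨e', he'⟩ : E)⁻¹ * ⟨l, Subgroup.subset_closure hl⟩ * ⟨e', he'⟩ ∈ E₁ := by
          refine hle ((hmemSt _).mpr ?_)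
          simpa [mul_assoc] using h3
        convert hE₁n.conj_mem _ h4 ⟨e', he'⟩ using 1
        group
    rw [← Finset.sum_sdiff hOs, hOsum, add_zero]
    refine ih _ (Finset.sdiff_ssubset hOs ⟨_, hqO⟩) (fun e' he' r hr => ?_)
      (fun hm => h1 (Finset.mem_sdiff.mp hm).1)
    obtain ⟨hrs, hrO⟩ := Finset.mem_sdiff.mp hr
    refine Finset.mem_sdiff.mpr ⟨hs e' he' r hrs, fun hm => hrO ?_⟩
    obtain ⟨e'', he'', hee⟩ := (Finset.mem_filter.mp hm).2
    refine Finset.mem_filter.mpr ⟨Finset.mem_univ _, e'⁻¹ * e'', mul_mem (inv_mem he') he'', ?_⟩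
    rw [mul_smul, hee, inv_smul_smul]
  have hσ : ∑ q : G ⧸ M, f q = 0 := by
    rw [← Finset.add_sum_erase _ _ (Finset.mem_univ (QuotientGroup.mk (1 : G) : G ⧸ M)), hfmk,
      hcM 1 (one_mem M), zero_add]
    refine hzero _ (fun e he q hq => ?_) (Finset.notMem_erase _ _)
    refine Finset.mem_erase.mpr ⟨fun h => (Finset.mem_erase.mp hq).1 ?_, Finset.mem_univ _⟩
    rw [← inv_smul_smul e q, h]
    change (QuotientGroup.mk (e⁻¹ * 1) : G ⧸ M) = _
    exact QuotientGroup.eq.mpr (by simpa using hEM he)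
  intro g
  have h1 : ∑ q : G ⧸ M, f (g • q) = 0 :=
    (Equiv.sum_comp (MulAction.toPerm g : Equiv.Perm (G ⧸ M)) f).trans hσ
  simp only [hgq, Finset.sum_add_distrib, ← Finset.smul_sum, hσ, smul_zero, add_zero,
    Finset.sum_const, Finset.card_univ] at h1
  rw [← Nat.card_eq_fintype_card, ← Subgroup.index_eq_card] at h1
  obtain ⟨a, b, hab⟩ : IsCoprime (M.index : ℤ) (p : ℤ) :=
    Nat.isCoprime_iff_coprime.mpr (hp.out.coprime_iff_not_dvd.mpr hM).symm
  rw [← one_zsmul (c g), ← hab, add_zsmul, mul_zsmul, mul_zsmul, natCast_zsmul, natCast_zsmul,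
    h1, hpa (c g), zsmul_zero, zsmul_zero, add_zero]

end Cfsg.Agent.Invol
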