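import Cfsg.Agent.Lib.Invol.FunctorControl
import Cfsg.Agent.Lib.Invol.ThompsonReduction
import Cfsg.Agent.Lib.Invol.NilpotentAction
import Cfsg.Agent.Lib.Transfer.Fusion
import Cfsg.Agent.Lib.Transfer.Elements

/-!
# Control of transfer by families of conjugacy functors
-/

set_option autoImplicit false

open scoped Pointwise commutatorElement

namespace Cfsg.Agent.Invol

universe u

section

variable {G : Type*} [Group G]

/-- The subgroup generated by the `T ∩ N(W T)'`. -/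
def Foc (𝒲 : Set (Subgroup G → Subgroup G)) (T : Subgroup G) : Subgroup G :=
  ⨆ W ∈ 𝒲, T ⊓ ⁅Subgroup.normalizer (W T : Set G), Subgroup.normalizer (W T : Set G)⁆

theorem foc_le_left (𝒲 : Set (Subgroup G → Subgroup G)) (T : Subgroup G) : Foc 𝒲 T ≤ T :=
  iSup₂_le fun _ _ => inf_le_left

theorem foc_le_commutator (𝒲 : Set (Subgroup G → Subgroup G)) (T : Subgroup G) :
    Foc 𝒲 T ≤ ⁅(⊤ : Subgroup G), ⊤⁆ :=
  iSup₂_le fun _ _ => inf_le_right.trans (Subgroup.commutator_mono le_top le_top)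

theorem le_foc {𝒲 : Set (Subgroup G → Subgroup G)} {T : Subgroup G} {W : Subgroup G → Subgroup G}
    (hW : W ∈ 𝒲) :
    T ⊓ ⁅Subgroup.normalizer (W T : Set G), Subgroup.normalizer (W T : Set G)⁆ ≤ Foc 𝒲 T :=
  le_iSup_of_le W (le_iSup_of_le hW le_rfl)

theorem foc_map_le {H : Type*} [Group H] (f : H →* G) {𝒲 : Set (Subgroup H → Subgroup H)}
    {𝒲' : Set (Subgroup G → Subgroup G)} {T : Subgroup H}
    (hcomp : ∀ W ∈ 𝒲, ∃ W' ∈ 𝒲', W' (T.map f) = (W T).map f) :
    (Foc 𝒲 T).map f ≤ Foc 𝒲' (T.map f) := by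
  rw [Subgroup.map_le_iff_le_comap]
  refine iSup₂_le fun W hW => ?_
  obtain ⟨W', hW', he⟩ := hcomp W hW
  rw [← Subgroup.map_le_iff_le_comap]
  refine le_trans ((Subgroup.map_inf_le _ _ f).trans (inf_le_inf le_rfl ?_)) (le_foc hW')
  rw [Subgroup.map_commutator, he]
  exact Subgroup.commutator_mono (Subgroup.le_normalizer_map f) (Subgroup.le_normalizer_map f)

variable [Finite G] {p : ℕ} [hp : Fact p.Prime]

/-- An element of a Sylow subgroup, central, in the derived subgroup, lies in `S'`. -/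
theorem mem_commutator_of_central (S : Sylow p G) {z : G} (hz : z ∈ (S : Subgroup G))
    (hzc : z ∈ Subgroup.center G) (hzG : z ∈ commutator G) :
    z ∈ ⁅(S : Subgroup G), (S : Subgroup G)⁆ := by
  let φ : (S : Subgroup G) →* Abelianization (S : Subgroup G) := Abelianization.of
  have hcent : ∀ (k : ℕ) (g₀ : G), g₀⁻¹ * z ^ k * g₀ ∈ (S : Subgroup G) →
      g₀⁻¹ * z ^ k * g₀ = z ^ k := fun k g₀ _ => by
    rw [mul_assoc, ← Subgroup.mem_center_iff.1 (pow_mem hzc k) g₀, inv_mul_cancel_left]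
  have h1 : MonoidHom.transfer φ z = 1 :=
    Abelianization.commutator_subset_ker (MonoidHom.transfer φ) hzG
  rw [MonoidHom.transfer_eq_pow _ _ hcent] at h1
  have h2 := (QuotientGroup.eq_one_iff _).mp h1
  have h3 : z ^ (S : Subgroup G).index ∈ ⁅(S : Subgroup G), (S : Subgroup G)⁆ := by
    have h4 : ((commutator ↥(S : Subgroup G)).map (S : Subgroup G).subtype) =
        ⁅(S : Subgroup G), (S : Subgroup G)⁆ := by
      rw [commutator_def, Subgroup.map_commutator, ← MonoidHom.range_eq_map, Subgroup.range_subtype]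
    rw [← h4]
    exact ⟨_, h2, rfl⟩
  refine Transfer.mem_of_pow_mem h3 ?_
  obtain ⟨k, hk⟩ := S.isPGroup' ⟨z, hz⟩
  refine Nat.Coprime.coprime_dvd_left (orderOf_dvd_of_pow_eq_one
    (show z ^ p ^ k = 1 by simpa using congrArg Subtype.val hk)) ?_
  exact (hp.out.coprime_iff_not_dvd.2 S.not_dvd_index).pow_left k

/-- If `[T₀, G] ≤ F`, `S' ≤ F ≤ S`, then `T₀ ∩ G' ≤ F`. -/
theorem inf_commutator_le_of_commutator_le (S : Sylow p G) {T₀ F : Subgroup G} [hT : T₀.Normal]
    (hT₀ : T₀ ≤ (S : Subgroup G)) (hS' : ⁅(S : Subgroup G), (S : Subgroup G)⁆ ≤ F)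
    (hTG : ⁅T₀, (⊤ : Subgroup G)⁆ ≤ F) : T₀ ⊓ ⁅(⊤ : Subgroup G), ⊤⁆ ≤ F := by
  rintro z ⟨hz, hzG⟩
  set R₀ := ⁅T₀, (⊤ : Subgroup G)⁆ with hR₀
  have hn : R₀.Normal := Subgroup.commutator_normal T₀ ⊤
  set π := QuotientGroup.mk' R₀ with hπ
  have hs : Function.Surjective π := QuotientGroup.mk'_surjective R₀
  have hc : π z ∈ Subgroup.center (G ⧸ R₀) := by
    refine Subgroup.mem_center_iff.mpr fun q => ?_
    obtain ⟨g, rfl⟩ := hs q
    have h : π ⁅z, g⁆ = 1 := (QuotientGroup.eq_one_iff _).mpr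
      (Subgroup.commutator_mem_commutator hz (Subgroup.mem_top g))
    rw [map_commutatorElement, commutatorElement_eq_one_iff_mul_comm] at h
    exact h.symm
  have hG : π z ∈ commutator (G ⧸ R₀) := by
    rw [commutator_def, ← Subgroup.map_top_of_surjective π hs, ← Subgroup.map_commutator]
    exact ⟨z, hzG, rfl⟩
  have h := mem_commutator_of_central (S.mapSurjective hs) (z := π z) ⟨z, hT₀ hz, rfl⟩ hc hG
  change π z ∈ ⁅(S : Subgroup G).map π, (S : Subgroup G).map π⁆ at h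
  rw [← Subgroup.map_commutator] at h
  obtain ⟨w, hw, hwz⟩ := h
  have h2 : w⁻¹ * z ∈ R₀ := QuotientGroup.eq.mp hwz
  simpa using mul_mem (hS' hw) (hTG h2)

theorem commutator_le_normalizer_of_le {S N : Subgroup G} (h : S ≤ N) :
    ⁅S, S⁆ ≤ S ⊓ ⁅N, N⁆ :=
  le_inf (Subgroup.commutator_le_self S) (Subgroup.commutator_mono h h)

theorem sylow_commutator_le_foc {𝒲 : Set (Subgroup G → Subgroup G)} (h𝒲 : 𝒲.Nonempty)
    (hconj : ∀ W ∈ 𝒲, Cfsg.IsConjugacyFunctor p W) (S : Sylow p G) :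
    ⁅(S : Subgroup G), (S : Subgroup G)⁆ ≤ Foc 𝒲 (S : Subgroup G) := by
  obtain ⟨W, hW⟩ := h𝒲
  exact (commutator_le_normalizer_of_le (Subgroup.le_normalizer.trans
    (conjFunctor_normalizer_le (hconj W hW) S.isPGroup'))).trans (le_foc hW)

/-- With `O_p(G) = 1`, control in the normalizers of the nontrivial `p`-subgroups is enough. -/
theorem transfer_skeleton (P : Sylow p G) (𝒲 : Set (Subgroup G → Subgroup G))
    (hne : 𝒲.Nonempty) (hconj : ∀ W ∈ 𝒲, Cfsg.IsConjugacyFunctor p W)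
    (hT₀ : Cfsg.pCore p G = ⊥)
    (hloc : ∀ D : Subgroup G, IsPGroup p D → Subgroup.normalizer (D : Set G) ≠ ⊤ →
      ∀ T : Subgroup G, Grp.IsSylowIn p T (Subgroup.normalizer (D : Set G)) →
        T ⊓ ⁅Subgroup.normalizer (D : Set G), Subgroup.normalizer (D : Set G)⁆ ≤ Foc 𝒲 T) :
    (P : Subgroup G) ⊓ ⁅(⊤ : Subgroup G), ⊤⁆ ≤ Foc 𝒲 (P : Subgroup G) := by
  set F := Foc 𝒲 (P : Subgroup G) with hF
  have hnn : ∀ D : Subgroup G, IsPGroup p D → D ≠ ⊥ → Subgroup.normalizer (D : Set G) ≠ ⊤ := by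
    intro D hD hne h
    exact hne (le_bot_iff.mp (hT₀ ▸ Grp.le_pCore (Subgroup.normalizer_eq_top_iff.mp h) hD))
  let R : Set G → G → Prop := fun A g => ∀ a ∈ A, a⁻¹ * (g * a * g⁻¹) ∈ F
  have hone : ∀ A, R A 1 := fun A a _ => by simp
  have hmul : ∀ (A : Set G) (x y : G), R A x → R ((fun a => x * a * x⁻¹) '' A) y → R A (y * x) := by
    intro A x y h1 h2 a ha
    have h := mul_mem (h1 a ha) (h2 _ ⟨a, ha, rfl⟩)
    simpa [mul_assoc] using h
  let Ψ : Subgroup G → Prop := fun D =>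
    ((P : Subgroup G) ⊓ Subgroup.normalizer (D : Set G)) ⊓
      ⁅Subgroup.normalizer (D : Set G), Subgroup.normalizer (D : Set G)⁆ ≤ F
  have hΨR : ∀ D : Subgroup G, Tame P D → Ψ D →
      ∀ n ∈ Subgroup.normalizer (D : Set G), ∀ A : Set G, A ⊆ D → R A n := by
    intro D hD h n hn A hA a ha
    have haN : a ∈ Subgroup.normalizer (D : Set G) := Subgroup.le_normalizer (hA ha)
    have h1 : n * a * n⁻¹ ∈ D := (Subgroup.mem_normalizer_iff.mp hn a).mp (hA ha)
    have h2 := mul_mem (inv_mem (hA ha)) h1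
    refine h ⟨hD.le_inf h2, ?_⟩
    have h3 := Subgroup.commutator_mem_commutator (inv_mem haN) hn
    simpa [commutatorElement_def, mul_assoc] using h3
  have main : ∀ j : ℕ, ∀ D : Subgroup G, Tame P D → D ≠ ⊥ →
      Nat.card (P : Subgroup G) <
        Nat.card ↥((P : Subgroup G) ⊓ Subgroup.normalizer (D : Set G)) + j → Ψ D := by
    intro j
    induction j with
    | zero =>
      intro D _ _ h
      have := Subgroup.card_le_of_le
        (inf_le_left : (P : Subgroup G) ⊓ Subgroup.normalizer (D : Set G) ≤ P)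
      omega
    | succ j ih =>
      intro D hD hD1 _
      set N := Subgroup.normalizer (D : Set G) with hN
      set T := (P : Subgroup G) ⊓ N with hT
      have hTp : IsPGroup p T := P.isPGroup'.to_le inf_le_left
      refine le_trans (hloc D (P.isPGroup'.to_le hD.1) (hnn D (P.isPGroup'.to_le hD.1) hD1) T hD.2)
        (iSup₂_le fun W hW => ?_)
      rcases eq_or_lt_of_le (inf_le_left : T ≤ (P : Subgroup G)) with he | hlt
      · rw [show T = (P : Subgroup G) from he]; exact le_foc hW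
      set U := W T with hU
      have hT1 : T ≠ ⊥ := fun h => hD1 (le_bot_iff.mp (h ▸ hD.le_inf))
      have hU1 : U ≠ ⊥ := (hconj W hW T hTp).2.1 hT1
      have hUT : U ≤ T := (hconj W hW T hTp).1
      set X := (P : Subgroup G) ⊓ Subgroup.normalizer (U : Set G) with hX
      have hTX : Nat.card T < Nat.card X := card_lt_card_inf_normalizer P (hconj W hW) hlt
      obtain ⟨h, hU', hXle⟩ := exists_tame_conj P (hUT.trans inf_le_left : U ≤ (P : Subgroup G))
      have hUne : U.map (MulAut.conj h).toMonoidHom ≠ ⊥ := by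
        rwa [ne_eq, Subgroup.map_eq_bot_iff_of_injective _ (MulAut.conj h).injective]
      have hΨU : Ψ (U.map (MulAut.conj h).toMonoidHom) := by
        refine ih _ hU' hUne ?_
        have h1 := Subgroup.card_le_of_le hXle
        rw [Subgroup.card_map_of_injective (f := (MulAut.conj h).toMonoidHom) (MulAut.conj h).injective,
          ← hX] at h1
        omega
      rintro y ⟨hyT, hyN⟩
      have hyX : y ∈ X := ⟨inf_le_left (a := (P : Subgroup G)) hyT,
        Subgroup.le_normalizer.trans (conjFunctor_normalizer_le (hconj W hW) hTp) hyT⟩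
      have hR : R (X : Set G) h := by
        refine alperin_induct_big P R hone hmul (Nat.card T) (fun D' hD' hlt' => ?_)
          (fun a ha => ha.1) (by rintro _ ⟨a, ha, rfl⟩; exact (hXle ⟨a, ha, rfl⟩).1)
          (by rwa [Subgroup.closure_eq])
        refine hΨR D' hD' (ih D' hD' ?_ ?_)
        · rintro rfl
          rw [Subgroup.card_bot] at hlt'
          have : 0 < Nat.card T := Nat.card_pos
          omega
        · have := hD'.card_le
          omega
      have hy' : h * y * h⁻¹ ∈ F := by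
        refine hΨU ⟨hXle ⟨y, hyX, rfl⟩, ?_⟩
        have hmap : Subgroup.normalizer (U.map (MulAut.conj h).toMonoidHom : Set G) =
            (Subgroup.normalizer (U : Set G)).map (MulAut.conj h).toMonoidHom :=
          (Subgroup.map_equiv_normalizer_eq U (MulAut.conj h)).symm
        rw [hmap, ← Subgroup.map_commutator]
        exact ⟨y, hyN, rfl⟩
      have h2 := mul_mem hy' (inv_mem (hR y hyX))
      simpa [mul_assoc] using h2
  rw [inf_comm, ← commutator_def]
  refine Transfer.commutator_inf_sylow_le P fun x hx u hu => ?_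
  by_cases hx1 : x = 1
  · subst hx1; simp
  have h1 : 1 < Nat.card (Subgroup.closure ({x} : Set G)) := by
    rw [← Subgroup.zpowers_eq_closure, Nat.card_zpowers]
    exact lt_of_le_of_ne (orderOf_pos x) fun h => hx1 (orderOf_eq_one_iff.mp h.symm)
  refine alperin_induct_big P R hone hmul 1 (fun D hD hlt => ?_) (Set.singleton_subset_iff.mpr hx)
    (by rintro _ ⟨a, rfl, rfl⟩; exact hu) h1 x rfl
  refine hΨR D hD (main (Nat.card (P : Subgroup G) + 1) D hD ?_ (by omega))
  rintro rfl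
  simp at hlt

end

/-! ### Families of functors on all groups -/

variable {p : ℕ} [hp : Fact p.Prime]

/-- The conjugacy functors induced on `G`. -/
def ind (𝓦 : Set (∀ (Q : Type u) [Group Q], Subgroup Q)) (G : Type u) [Group G] :
    Set (Subgroup G → Subgroup G) :=
  (fun W => Cfsg.inducedFunctor (G := G) W) '' 𝓦

/-- `𝓦` controls transfer in `G`. -/
def TransferCtrl (p : ℕ) (𝓦 : Set (∀ (Q : Type u) [Group Q], Subgroup Q)) (G : Type u) [Group G] :
    Prop :=
  ∀ S : Sylow p G, (S : Subgroup G) ⊓ ⁅(⊤ : Subgroup G), ⊤⁆ ≤ Foc (ind 𝓦 G) (S : Subgroup G)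

variable {𝓦 : Set (∀ (Q : Type u) [Group Q], Subgroup Q)}

theorem isConjugacyFunctor_ind (h𝓦 : ∀ W ∈ 𝓦, Cfsg.IsCharPFunctor.{u} p W) {G : Type u} [Group G]
    [Finite G] : ∀ W ∈ ind 𝓦 G, Cfsg.IsConjugacyFunctor p W := by
  rintro _ ⟨W, hW, rfl⟩
  exact isConjugacyFunctor_induced (h𝓦 W hW)

theorem foc_ind_map_le (h𝓦 : ∀ W ∈ 𝓦, Cfsg.IsCharPFunctor.{u} p W) {H G : Type u} [Group H]
    [Finite H] [Group G] (f : H →* G) {T : Subgroup H} (hT : IsPGroup p T)
    (hf : ∀ x ∈ T, f x = 1 → x = 1) :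
    (Foc (ind 𝓦 H) T).map f ≤ Foc (ind 𝓦 G) (T.map f) := by
  refine foc_map_le f ?_
  rintro _ ⟨W, hW, rfl⟩
  exact ⟨_, ⟨W, hW, rfl⟩, inducedFunctor_map (h𝓦 W hW) hT f hf⟩

/-- Control in a subgroup. -/
theorem TransferCtrl.le_foc_of_sylowIn (h𝓦 : ∀ W ∈ 𝓦, Cfsg.IsCharPFunctor.{u} p W) {G : Type u}
    [Group G] [Finite G] {H : Subgroup G} (hH : TransferCtrl p 𝓦 H) {T : Subgroup G}
    (hT : Grp.IsSylowIn p T H) : T ⊓ ⁅H, H⁆ ≤ Foc (ind 𝓦 G) T := by
  obtain ⟨S, rfl⟩ := Grp.isSylowIn_iff.mp hT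
  refine le_trans ?_ (foc_ind_map_le h𝓦 H.subtype S.isPGroup'
    (fun x _ hx => H.subtype_injective (hx.trans (map_one _).symm)))
  refine le_trans ?_ (Subgroup.map_mono (hH S))
  rw [Subgroup.map_inf _ _ H.subtype H.subtype_injective, Subgroup.map_commutator,
    ← MonoidHom.range_eq_map, Subgroup.range_subtype]

theorem transferCtrl_of_one (h𝓦 : ∀ W ∈ 𝓦, Cfsg.IsCharPFunctor.{u} p W) {G : Type u} [Group G]
    [Finite G] (S : Sylow p G)
    (h : (S : Subgroup G) ⊓ ⁅(⊤ : Subgroup G), ⊤⁆ ≤ Foc (ind 𝓦 G) (S : Subgroup G)) :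
    TransferCtrl p 𝓦 G := by
  intro T
  obtain ⟨g, rfl⟩ := MulAction.exists_smul_eq G S T
  have hmap : ((g • S : Sylow p G) : Subgroup G) =
      (S : Subgroup G).map (MulAut.conj g).toMonoidHom := rfl
  rw [hmap]
  refine le_trans ?_ (foc_ind_map_le h𝓦 (MulAut.conj g).toMonoidHom S.isPGroup'
    (fun x _ hx => (MulAut.conj g).injective (hx.trans (map_one _).symm)))
  refine le_trans ?_ (Subgroup.map_mono h)
  rw [Subgroup.map_inf _ _ _ (MulAut.conj g).injective, Subgroup.map_commutator,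
    Subgroup.map_top_of_surjective (MulAut.conj g).toMonoidHom (MulAut.conj g).surjective]

theorem familyControlsTransferIn_iff (h𝓦 : ∀ W ∈ 𝓦, Cfsg.IsCharPFunctor.{u} p W) {G : Type u}
    [Group G] [Finite G] :
    Cfsg.FamilyControlsTransferIn p (ind 𝓦 G) ⊤ ↔ TransferCtrl p 𝓦 G := by
  constructor
  · rintro ⟨T, -, hTp, hTi, he⟩
    rw [Subgroup.relIndex_top_right] at hTi
    refine transferCtrl_of_one h𝓦 (hTp.toSylow hTi) ?_
    simp only [top_inf_eq] at he
    exact he.le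
  · intro h
    obtain ⟨S⟩ : Nonempty (Sylow p G) := inferInstance
    refine ⟨S, le_top, S.isPGroup', by rw [Subgroup.relIndex_top_right]; exact S.not_dvd_index,
      le_antisymm ?_ ?_⟩
    · simp only [top_inf_eq]; exact h S
    · simp only [top_inf_eq]
      exact le_inf (foc_le_left _ _) (foc_le_commutator _ _)

end Cfsg.Agent.Invol
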