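import Mathlib
import Cfsg.Agent.Lib.Invol.FunctorControl
import Cfsg.Agent.Lib.Invol.TransferControl
import Cfsg.Agent.Lib.Invol.ThompsonReduction

/-!
# Chains of conjugations by normalizers of functor values
-/

set_option autoImplicit false

namespace Cfsg.Agent.Invol

variable {G : Type*} [Group G] {𝒲 : Set (Subgroup G → Subgroup G)} {P : Subgroup G}

/-- The products of admissible steps keeping the images of `A` inside `P`. -/
inductive Reach (𝒲 : Set (Subgroup G → Subgroup G)) (P : Subgroup G) (A : Set G) : G → Prop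
  | one : Reach 𝒲 P A 1
  | step {c x : G} : Reach 𝒲 P A c → (∃ W ∈ 𝒲, x ∈ Subgroup.normalizer (W P : Set G)) →
      (∀ a ∈ A, x * c * a * (x * c)⁻¹ ∈ P) → Reach 𝒲 P A (x * c)

/-- The map induced by `g` on `A` is reached by a chain. -/
def Chn (𝒲 : Set (Subgroup G → Subgroup G)) (P : Subgroup G) (A : Set G) (g : G) : Prop :=
  ∃ c, Reach 𝒲 P A c ∧ ∀ a ∈ A, c * a * c⁻¹ = g * a * g⁻¹

theorem Reach.mono {A B : Set G} (h : A ⊆ B) {c : G} (hc : Reach 𝒲 P B c) : Reach 𝒲 P A c := by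
  induction hc with
  | one => exact .one
  | step _ hx hxa ih => exact ih.step hx fun a ha => hxa a (h ha)

theorem Reach.mem {A : Set G} (hA : A ⊆ P) {c : G} (hc : Reach 𝒲 P A c) :
    ∀ a ∈ A, c * a * c⁻¹ ∈ P := by
  induction hc with
  | one => intro a ha; simpa using hA ha
  | step _ _ hxa _ => exact hxa

theorem Reach.comp {A : Set G} {c d : G} (hc : Reach 𝒲 P A c)
    (hd : Reach 𝒲 P ((fun a => c * a * c⁻¹) '' A) d) : Reach 𝒲 P A (d * c) := by
  induction hd with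
  | one => simpa using hc
  | @step d x _ hx hxa ih =>
    rw [mul_assoc]
    refine ih.step hx fun a ha => ?_
    have := hxa _ ⟨a, ha, rfl⟩
    simpa [mul_assoc] using this

theorem chn_one (A : Set G) : Chn 𝒲 P A 1 := ⟨1, .one, fun _ _ => rfl⟩

theorem chn_of_fixed {A : Set G} {g : G} (h : ∀ a ∈ A, g * a * g⁻¹ = a) : Chn 𝒲 P A g :=
  ⟨1, .one, fun a ha => by rw [h a ha]; simp⟩

theorem Chn.mono {A B : Set G} (h : A ⊆ B) {g : G} (hg : Chn 𝒲 P B g) : Chn 𝒲 P A g := by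
  obtain ⟨c, hc, he⟩ := hg
  exact ⟨c, hc.mono h, fun a ha => he a (h ha)⟩

theorem Chn.congr {A : Set G} {g g' : G} (h : ∀ a ∈ A, g * a * g⁻¹ = g' * a * g'⁻¹)
    (hg : Chn 𝒲 P A g) : Chn 𝒲 P A g' := by
  obtain ⟨c, hc, he⟩ := hg
  exact ⟨c, hc, fun a ha => (he a ha).trans (h a ha)⟩

theorem Chn.mem {A : Set G} (hA : A ⊆ P) {g : G} (hg : Chn 𝒲 P A g) :
    ∀ a ∈ A, g * a * g⁻¹ ∈ P := by
  obtain ⟨c, hc, he⟩ := hg
  exact fun a ha => he a ha ▸ hc.mem hA a ha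

theorem Chn.comp {A : Set G} {x y : G} (hx : Chn 𝒲 P A x)
    (hy : Chn 𝒲 P ((fun a => x * a * x⁻¹) '' A) y) : Chn 𝒲 P A (y * x) := by
  obtain ⟨c, hc, he⟩ := hx
  obtain ⟨d, hd, hde⟩ := hy
  have himg : (fun a => x * a * x⁻¹) '' A = (fun a => c * a * c⁻¹) '' A :=
    Set.image_congr fun a ha => (he a ha).symm
  refine ⟨d * c, hc.comp (himg ▸ hd), fun a ha => ?_⟩
  calc d * c * a * (d * c)⁻¹ = d * (c * a * c⁻¹) * d⁻¹ := by group
    _ = d * (x * a * x⁻¹) * d⁻¹ := by rw [he a ha]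
    _ = y * (x * a * x⁻¹) * y⁻¹ := hde _ ⟨a, ha, rfl⟩
    _ = y * x * a * (y * x)⁻¹ := by group

theorem chn_step {A : Set G} {x : G} (hx : ∃ W ∈ 𝒲, x ∈ Subgroup.normalizer (W P : Set G))
    (hxA : ∀ a ∈ A, x * a * x⁻¹ ∈ P) : Chn 𝒲 P A x :=
  ⟨x * 1, Reach.one.step hx (by simpa using hxA), fun a _ => by simp⟩

/-- Every step of a chain has a property closed under composition: so has the chain. -/
theorem Reach.induct_steps {A : Set G} (hA : A ⊆ P) {c : G} (hc : Reach 𝒲 P A c)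
    {R : Set G → G → Prop} (hone : ∀ A, R A 1)
    (hmul : ∀ (A : Set G) (x y : G), R A x → R ((fun a => x * a * x⁻¹) '' A) y → R A (y * x))
    (hstep : ∀ (B : Set G) (x : G), B ⊆ P → (∃ W ∈ 𝒲, x ∈ Subgroup.normalizer (W P : Set G)) →
      (∀ b ∈ B, x * b * x⁻¹ ∈ P) → R B x) : R A c := by
  induction hc with
  | one => exact hone A
  | @step c x hc hx hxa ih =>
    refine hmul A c x ih (hstep _ x ?_ hx ?_)
    · rintro _ ⟨a, ha, rfl⟩; exact hc.mem hA a ha
    · rintro _ ⟨a, ha, rfl⟩; simpa [mul_assoc] using hxa a ha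

theorem Reach.map {H : Type*} [Group H] (f : H →* G) {𝒲' : Set (Subgroup H → Subgroup H)}
    {T : Subgroup H} (h : ∀ W' ∈ 𝒲', ∃ W ∈ 𝒲, W (T.map f) = (W' T).map f) {A : Set H} {c : H}
    (hc : Reach 𝒲' T A c) : Reach 𝒲 (T.map f) (f '' A) (f c) := by
  induction hc with
  | one => rw [map_one]; exact .one
  | @step c x _ hx hxa ih =>
    rw [map_mul]
    obtain ⟨W', hW', hxN⟩ := hx
    obtain ⟨W, hW, hWe⟩ := h W' hW'
    refine ih.step ⟨W, hW, ?_⟩ ?_
    · rw [hWe]; exact Subgroup.le_normalizer_map f ⟨x, hxN, rfl⟩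
    · rintro _ ⟨a, ha, rfl⟩
      exact ⟨x * c * a * (x * c)⁻¹, hxa a ha, by simp⟩

universe u

/-- `𝓦` controls strong fusion in `X`. -/
def FusCtrl (p : ℕ) (𝓦 : Set (∀ (Q : Type u) [Group Q], Subgroup Q)) (X : Type u) [Group X] : Prop :=
  ∀ (S : Sylow p X) (A : Set X) (h : X), A ⊆ (S : Subgroup X) →
    (∀ a ∈ A, h * a * h⁻¹ ∈ (S : Subgroup X)) → Chn (ind 𝓦 X) (S : Subgroup X) A h

variable {p : ℕ} [hp : Fact p.Prime] {𝓦 : Set (∀ (Q : Type u) [Group Q], Subgroup Q)}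
  (h𝓦 : ∀ W ∈ 𝓦, Cfsg.IsCharPFunctor.{u} p W)

include h𝓦 in
/-- Chains are carried by homomorphisms injective on the Sylow subgroup. -/
theorem chn_ind_map {H X : Type u} [Group H] [Finite H] [Group X] (f : H →* X) {T : Subgroup H}
    (hT : IsPGroup p T) (hf : ∀ x ∈ T, f x = 1 → x = 1) {A : Set H} {g : H}
    (hg : Chn (ind 𝓦 H) T A g) : Chn (ind 𝓦 X) (T.map f) (f '' A) (f g) := by
  obtain ⟨c, hc, he⟩ := hg
  refine ⟨f c, hc.map f ?_, ?_⟩
  · rintro _ ⟨W, hW, rfl⟩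
    exact ⟨_, ⟨W, hW, rfl⟩, inducedFunctor_map (h𝓦 W hW) hT f hf⟩
  · rintro _ ⟨a, ha, rfl⟩
    simp only [← map_inv, ← map_mul, he a ha]

include h𝓦 in
theorem fusCtrl_of_one {X : Type u} [Group X] [Finite X] (S : Sylow p X)
    (h : ∀ (A : Set X) (g : X), A ⊆ (S : Subgroup X) → (∀ a ∈ A, g * a * g⁻¹ ∈ (S : Subgroup X)) →
      Chn (ind 𝓦 X) (S : Subgroup X) A g) : FusCtrl p 𝓦 X := by
  intro T A g hA hgA
  obtain ⟨k, rfl⟩ := MulAction.exists_smul_eq X S T
  set φ := (MulAut.conj k).toMonoidHom with hφ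
  have hmap : ((k • S : Sylow p X) : Subgroup X) = (S : Subgroup X).map φ := rfl
  rw [hmap] at hA hgA ⊢
  have h1 := h ((fun a => k⁻¹ * a * k) '' A) (k⁻¹ * g * k) ?_ ?_
  · have h2 := chn_ind_map h𝓦 φ S.isPGroup' (fun x _ hx => (MulAut.conj k).injective (hx.trans (map_one _).symm)) h1
    have hA' : φ '' ((fun a => k⁻¹ * a * k) '' A) = A := by
      rw [← Set.image_comp]
      convert Set.image_id A
      simp [hφ, mul_assoc]
    have hg' : φ (k⁻¹ * g * k) = g := by simp [hφ, mul_assoc]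
    rwa [hA', hg'] at h2
  · rintro _ ⟨a, ha, rfl⟩
    obtain ⟨s, hs, hsa⟩ := hA ha
    rw [← hsa]
    simpa [hφ, mul_assoc] using hs
  · rintro _ ⟨a, ha, rfl⟩
    obtain ⟨s, hs, hsa⟩ := hgA a ha
    have he : k⁻¹ * g * k * (k⁻¹ * a * k) * (k⁻¹ * g * k)⁻¹ = s := by
      have hsa' : k * s * k⁻¹ = g * a * g⁻¹ := hsa
      calc k⁻¹ * g * k * (k⁻¹ * a * k) * (k⁻¹ * g * k)⁻¹ = k⁻¹ * (g * a * g⁻¹) * k := by group
        _ = s := by rw [← hsa']; group
    rw [he]; exact hs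

include h𝓦 in
theorem fusCtrl_of_mulEquiv {Q X : Type u} [Group Q] [Group X] [Finite Q] [Finite X] (e : Q ≃* X)
    (h : FusCtrl p 𝓦 Q) : FusCtrl p 𝓦 X := by
  intro S A g hA hgA
  set T := S.mapSurjective (f := e.symm.toMonoidHom) e.symm.surjective with hT
  have hTS : (T : Subgroup _).map e.toMonoidHom = (S : Subgroup X) := by
    change ((S : Subgroup X).map e.symm.toMonoidHom).map e.toMonoidHom = _
    rw [Subgroup.map_map]
    convert Subgroup.map_id (S : Subgroup X)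
    ext x; simp
  have hmem : ∀ x, x ∈ (S : Subgroup X) → e.symm x ∈ (T : Subgroup Q) := fun x hx => ⟨x, hx, rfl⟩
  have h1 := h T (e.symm '' A) (e.symm g)
    (by rintro _ ⟨a, ha, rfl⟩; exact hmem _ (hA ha))
    (by rintro _ ⟨a, ha, rfl⟩; rw [← map_inv, ← map_mul, ← map_mul]; exact hmem _ (hgA a ha))
  have h2 := chn_ind_map h𝓦 e.toMonoidHom T.isPGroup'
    (fun x _ hx => e.injective (hx.trans (map_one _).symm)) h1
  rw [hTS, ← Set.image_comp] at h2
  simpa using h2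

include h𝓦 in
/-- Control in a subgroup, seen in the whole group. -/
theorem FusCtrl.chn_of_sylowIn {X : Type u} [Group X] [Finite X] {H : Subgroup X} (hH : FusCtrl p 𝓦 H)
    {T : Subgroup X} (hT : Grp.IsSylowIn p T H) {A : Set X} {g : X} (hg : g ∈ H) (hA : A ⊆ T)
    (hgA : ∀ a ∈ A, g * a * g⁻¹ ∈ T) : Chn (ind 𝓦 X) T A g := by
  obtain ⟨S, rfl⟩ := Grp.isSylowIn_iff.mp hT
  have hmem : ∀ {x : H}, (x : X) ∈ (S : Subgroup H).map H.subtype → x ∈ (S : Subgroup H) := by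
    rintro x ⟨y, hy, hyx⟩
    rwa [← H.subtype_injective hyx]
  have h1 := hH S (H.subtype ⁻¹' A) ⟨g, hg⟩ (fun x hx => hmem (hA hx)) (fun x hx => hmem (hgA _ hx))
  have h2 := chn_ind_map h𝓦 H.subtype S.isPGroup'
    (fun x _ hx => H.subtype_injective (hx.trans (map_one _).symm)) h1
  rw [Set.image_preimage_eq_of_subset (fun a ha => ⟨⟨a, Subgroup.map_subtype_le _ (hA ha)⟩, rfl⟩)] at h2
  exact h2

include h𝓦 in
theorem familyControlsStrongFusionIn_iff {X : Type u} [Group X] [Finite X] :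
    Cfsg.FamilyControlsStrongFusionIn p (ind 𝓦 X) ⊤ ↔ FusCtrl p 𝓦 X := by
  constructor
  · rintro ⟨T, -, hTp, hTi, hT⟩
    rw [Subgroup.relIndex_top_right] at hTi
    refine fusCtrl_of_one h𝓦 (hTp.toSylow hTi) fun A g hA hgA => ?_
    obtain ⟨n, c, hc0, hcs, hcm, hce⟩ := hT A g (Subgroup.mem_top g) hA (Set.image_subset_iff.mpr hgA)
    refine ⟨c (Fin.last n), ?_, hce⟩
    suffices key : ∀ i, Reach (ind 𝓦 X) T A (c i) from key _
    intro i
    induction i using Fin.induction with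
    | zero => rw [hc0]; exact .one
    | succ i ih =>
      obtain ⟨W, hW, hx⟩ := hcs i
      have h1 := ih.step (x := c i.succ * (c i.castSucc)⁻¹) ⟨W, hW, hx.2⟩ (fun a ha => by
        rw [inv_mul_cancel_right]; exact hcm i.succ ⟨a, ha, rfl⟩)
      rwa [inv_mul_cancel_right] at h1
  · intro h
    obtain ⟨S⟩ : Nonempty (Sylow p X) := inferInstance
    refine ⟨S, le_top, S.isPGroup', by rw [Subgroup.relIndex_top_right]; exact S.not_dvd_index, ?_⟩
    intro A g _ hA hgA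
    obtain ⟨d, hd, hde⟩ := h S A g hA (fun a ha => hgA ⟨a, ha, rfl⟩)
    suffices key : ∃ (n : ℕ) (c : Fin (n + 1) → X), c 0 = 1 ∧
        (∀ i : Fin n, ∃ W ∈ ind 𝓦 X,
          c i.succ * (c i.castSucc)⁻¹ ∈ ⊤ ⊓ Subgroup.normalizer ((W (S : Subgroup X) : Subgroup X) : Set X)) ∧
        (∀ i : Fin (n + 1), (fun a => c i * a * (c i)⁻¹) '' A ⊆ (S : Subgroup X)) ∧ c (Fin.last n) = d by
      obtain ⟨n, c, h0, h1, h2, h3⟩ := key
      exact ⟨n, c, h0, h1, h2, h3 ▸ hde⟩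
    clear hde hgA
    induction hd with
    | one => exact ⟨0, fun _ => 1, rfl, Fin.elim0, fun _ => by simpa using hA, rfl⟩
    | @step c₀ x _ hx hxa ih =>
      obtain ⟨n, c, h0, h1, h2, h3⟩ := ih
      refine ⟨n + 1, Fin.snoc c (x * c₀), ?_, ?_, ?_, Fin.snoc_last _ _⟩
      · rw [show (0 : Fin (n + 1 + 1)) = (0 : Fin (n + 1)).castSucc from rfl, Fin.snoc_castSucc, h0]
      · intro i
        induction i using Fin.lastCases with
        | last =>
          obtain ⟨W, hW, hxN⟩ := hx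
          refine ⟨W, hW, Subgroup.mem_top _, ?_⟩
          rw [Fin.snoc_castSucc, Fin.succ_last, Fin.snoc_last, h3, mul_inv_cancel_right]
          exact hxN
        | cast i =>
          rw [Fin.snoc_castSucc, ← Fin.castSucc_succ, Fin.snoc_castSucc]
          exact h1 i
      · intro i
        induction i using Fin.lastCases with
        | last => rw [Fin.snoc_last]; exact Set.image_subset_iff.mpr hxa
        | cast i => rw [Fin.snoc_castSucc]; exact h2 i

include h𝓦 in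
theorem controlsStrongFusion_of_fusCtrl {W : ∀ (Q : Type u) [Group Q], Subgroup Q} {X : Type u}
    [Group X] [Finite X] (hWm : 𝓦 = {W}) (h : FusCtrl p 𝓦 X) (S : Sylow p X) :
    Cfsg.ControlsStrongFusion p (Cfsg.inducedFunctor W (S : Subgroup X)) := by
  subst hWm
  refine ⟨S, inducedFunctor_le _ _, fun A hA => ⟨hA, fun g hg => ?_⟩⟩
  obtain ⟨c, hc, he⟩ := h S A g hA (fun a ha => hg ⟨a, ha, rfl⟩)
  refine ⟨c, ?_, fun a ha => (he a ha).symm⟩
  clear he hg
  induction hc with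
  | one => exact one_mem _
  | step _ hx _ ih =>
    obtain ⟨_, ⟨W', hW', rfl⟩, hxN⟩ := hx
    rw [Set.mem_singleton_iff] at hW'
    subst hW'
    exact mul_mem hxN ih

end Cfsg.Agent.Invol
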