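import Cfsg.Agent.Lib.Invol.TransferControl
import Cfsg.Agent.Lib.Invol.ThompsonComplement

/-!
# Minimal failures of control of transfer
-/

set_option autoImplicit false

open scoped Pointwise commutatorElement

namespace Cfsg.Agent.Invol

universe u

variable {p : ℕ} [hp : Fact p.Prime] {𝓦 : Set (∀ (Q : Type u) [Group Q], Subgroup Q)}
  (h𝓦 : ∀ W ∈ 𝓦, Cfsg.IsCharPFunctor.{u} p W) (hne : 𝓦.Nonempty)
  {G : Type u} [Group G] [Finite G]

include h𝓦 hne in
theorem sylow_commutator_le (S : Sylow p G) :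
    ⁅(S : Subgroup G), (S : Subgroup G)⁆ ≤ Foc (ind 𝓦 G) (S : Subgroup G) :=
  sylow_commutator_le_foc (hne.image _) (isConjugacyFunctor_ind h𝓦) S

include h𝓦 hne in
theorem sylow_le_normalizer_foc (S : Sylow p G) :
    (S : Subgroup G) ≤ Subgroup.normalizer (Foc (ind 𝓦 G) (S : Subgroup G) : Set G) := by
  intro s hs
  refine mem_normalizer_of_forall_mem fun x hx => ?_
  have h1 : s * x * s⁻¹ * x⁻¹ ∈ Foc (ind 𝓦 G) (S : Subgroup G) :=
    sylow_commutator_le h𝓦 hne S (Subgroup.commutator_mem_commutator hs (foc_le_left _ _ hx))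
  simpa using mul_mem h1 hx

include h𝓦 in
/-- A proper overgroup of a Sylow subgroup contributes only to `F`. -/
theorem inf_commutator_le_foc_of_overgroup
    (hsub : ∀ H : Subgroup G, H ≠ ⊤ → TransferCtrl p 𝓦 H) (S : Sylow p G) {H : Subgroup G}
    (hSH : (S : Subgroup G) ≤ H) (hH : H ≠ ⊤) :
    (S : Subgroup G) ⊓ ⁅H, H⁆ ≤ Foc (ind 𝓦 G) (S : Subgroup G) :=
  (hsub H hH).le_foc_of_sylowIn h𝓦 ⟨hSH, S.isPGroup', fun hd =>
    S.not_dvd_index (hd.trans (Subgroup.relIndex_dvd_index_of_le hSH))⟩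

include h𝓦 in
/-- A normal `p'`-subgroup may be factored out. -/
theorem transferCtrl_of_coprime_quotient (L : Subgroup G) [L.Normal]
    (hL : (Nat.card L).Coprime p) (h : TransferCtrl p 𝓦 (G ⧸ L)) : TransferCtrl p 𝓦 G := by
  obtain ⟨S⟩ : Nonempty (Sylow p G) := inferInstance
  refine transferCtrl_of_one h𝓦 S ?_
  set f := QuotientGroup.mk' L with hf
  have hfs : Function.Surjective f := QuotientGroup.mk'_surjective L
  have hinj : ∀ x ∈ (S : Subgroup G), f x = 1 → x = 1 := fun x hx hfx =>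
    eq_one_of_coprime_of_mem S.isPGroup' hx
      (hL.coprime_dvd_left (L.orderOf_dvd_natCard ((QuotientGroup.eq_one_iff x).mp hfx)))
  have hker : (Nat.card f.ker).Coprime p := by rwa [QuotientGroup.ker_mk']
  have key : Foc (ind 𝓦 (G ⧸ L)) ((S : Subgroup G).map f) ≤
      (Foc (ind 𝓦 G) (S : Subgroup G)).map f := by
    refine iSup₂_le ?_
    rintro _ ⟨W, hW, rfl⟩
    dsimp only
    rw [inducedFunctor_map (h𝓦 W hW) S.isPGroup' f hinj]
    set U := Cfsg.inducedFunctor W (S : Subgroup G) with hU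
    set N := Subgroup.normalizer (U : Set G) with hN
    have hSN : (S : Subgroup G) ≤ N :=
      Subgroup.le_normalizer.trans (normalizer_le_normalizer_inducedFunctor (h𝓦 W hW) S.isPGroup')
    have hle : ⁅Subgroup.normalizer (U.map f : Set (G ⧸ L)), Subgroup.normalizer (U.map f : Set (G ⧸ L))⁆ ≤
        ⁅N, N⁆.map f := by
      rw [Subgroup.map_commutator]
      exact Subgroup.commutator_mono
        (normalizer_map_le_of_coprime f hfs hker (S.isPGroup'.to_le (inducedFunctor_le _ _)))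
        (normalizer_map_le_of_coprime f hfs hker (S.isPGroup'.to_le (inducedFunctor_le _ _)))
    rintro _ ⟨⟨s, hs, rfl⟩, h2⟩
    obtain ⟨m, hm, hms⟩ := hle h2
    refine ⟨s, le_foc (𝒲 := ind 𝓦 G) (W := Cfsg.inducedFunctor W) ⟨W, hW, rfl⟩ ⟨hs, ?_⟩, rfl⟩
    set n := Nat.card ↥(L ⊓ N) with hn
    have hlN : m⁻¹ * s ∈ L ⊓ N :=
      ⟨QuotientGroup.eq.mp hms, N.mul_mem (N.inv_mem (Subgroup.commutator_le_self N hm)) (hSN hs)⟩
    refine Transfer.mem_of_pow_mem (n := n) ?_ ?_
    · have hl1 : (⟨m⁻¹ * s, hlN.2⟩ : N) ^ n = 1 := by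
        refine Subtype.ext ?_
        have h3 : (⟨m⁻¹ * s, hlN⟩ : ↥(L ⊓ N)) ^ n = 1 := pow_card_eq_one'
        simpa using congrArg Subtype.val h3
      have hnm : (⁅N, N⁆.subgroupOf N).Normal := by
        refine Subgroup.normal_subgroupOf_of_le_normalizer fun g hg => mem_normalizer_of_forall_mem
          fun x hx => ?_
        have h4 : ⁅N, N⁆.map (MulAut.conj g).toMonoidHom ≤ ⁅N, N⁆ := by
          rw [Subgroup.map_commutator]
          have h5 : N.map (MulAut.conj g).toMonoidHom ≤ N := by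
            rintro _ ⟨y, hy, rfl⟩
            exact N.mul_mem (N.mul_mem hg hy) (N.inv_mem hg)
          exact Subgroup.commutator_mono h5 h5
        exact h4 ⟨x, hx, rfl⟩
      have he : (QuotientGroup.mk (⟨s, hSN hs⟩ : N) : N ⧸ ⁅N, N⁆.subgroupOf N) =
          QuotientGroup.mk ⟨m⁻¹ * s, hlN.2⟩ := by
        refine QuotientGroup.eq.mpr ?_
        rw [Subgroup.mem_subgroupOf]
        have h6 := (Subgroup.normal_subgroupOf_iff (Subgroup.commutator_le_self N)).mp hnm
          m⁻¹ s⁻¹ (inv_mem hm) (N.inv_mem (hSN hs))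
        simpa [mul_assoc] using h6
      have h7 : (QuotientGroup.mk ((⟨s, hSN hs⟩ : N) ^ n) : N ⧸ ⁅N, N⁆.subgroupOf N) = 1 := by
        rw [QuotientGroup.mk_pow, he, ← QuotientGroup.mk_pow, hl1, QuotientGroup.mk_one]
      exact (QuotientGroup.eq_one_iff (N := ⁅N, N⁆.subgroupOf N) ((⟨s, hSN hs⟩ : N) ^ n)).mp h7
    · obtain ⟨k, hk⟩ := S.isPGroup' ⟨s, hs⟩
      refine Nat.Coprime.coprime_dvd_left (orderOf_dvd_of_pow_eq_one
        (show s ^ p ^ k = 1 by simpa using congrArg Subtype.val hk)) ?_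
      exact ((hL.coprime_dvd_left (Subgroup.card_dvd_of_le inf_le_left)).symm).pow_left k
  rintro s ⟨hs, hsG⟩
  have hmem : f s ∈ Foc (ind 𝓦 (G ⧸ L)) ((S : Subgroup G).map f) := by
    refine h (S.mapSurjective hfs) ⟨⟨s, hs, rfl⟩, ?_⟩
    rw [← Subgroup.map_top_of_surjective f hfs, ← Subgroup.map_commutator]
    exact ⟨s, hsG, rfl⟩
  obtain ⟨t, ht, hts⟩ := key hmem
  have h1 : s = t := by
    have := hinj (s * t⁻¹) (mul_mem hs (inv_mem (foc_le_left _ _ ht)))
      (by rw [map_mul, map_inv, hts, mul_inv_cancel])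
    exact mul_inv_eq_one.mp this
  rwa [h1]

include h𝓦 hne in
/-- It is enough to control `O_p(G) ∩ G'`. -/
theorem transferCtrl_of_pCore_inf_le
    (hsub : ∀ H : Subgroup G, H ≠ ⊤ → TransferCtrl p 𝓦 H)
    (hquot : ∀ (R : Subgroup G) [R.Normal], R ≠ ⊥ → TransferCtrl p 𝓦 (G ⧸ R))
    (S : Sylow p G)
    (hT : Cfsg.pCore p G ⊓ ⁅(⊤ : Subgroup G), ⊤⁆ ≤ Foc (ind 𝓦 G) (S : Subgroup G)) :
    TransferCtrl p 𝓦 G := by
  refine transferCtrl_of_one h𝓦 S ?_
  set F := Foc (ind 𝓦 G) (S : Subgroup G) with hF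
  set T₀ := Cfsg.pCore p G with hT₀
  have hTn : T₀.Normal := Grp.pCore_isNormal
  rcases eq_or_ne T₀ ⊥ with h0 | h0
  · exact transfer_skeleton S _ (hne.image _) (isConjugacyFunctor_ind h𝓦) h0
      fun D _ hD T hT => (hsub _ hD).le_foc_of_sylowIn h𝓦 hT
  set f := QuotientGroup.mk' T₀ with hf
  have hfs : Function.Surjective f := QuotientGroup.mk'_surjective T₀
  have hTS : T₀ ≤ (S : Subgroup G) := Grp.pCore_le_sylow S
  rintro s ⟨hs, hsG⟩
  rcases eq_or_ne ((S : Subgroup G).map f) ⊥ with hb | hb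
  · refine hT ⟨?_, hsG⟩
    have h1 : f s ∈ (S : Subgroup G).map f := ⟨s, hs, rfl⟩
    rw [hb, Subgroup.mem_bot] at h1
    exact (QuotientGroup.eq_one_iff s).mp h1
  have hcomap : ((S : Subgroup G).map f).comap f = S := by
    rw [Subgroup.comap_map_eq_self]
    rwa [QuotientGroup.ker_mk']
  have key : Foc (ind 𝓦 (G ⧸ T₀)) ((S : Subgroup G).map f) ≤ F.map f := by
    refine iSup₂_le ?_
    rintro _ ⟨W, hW, rfl⟩
    have hp' : IsPGroup p ((S : Subgroup G).map f) := S.isPGroup'.map f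
    set U := Cfsg.inducedFunctor W ((S : Subgroup G).map f) with hU
    set N := Subgroup.normalizer (U : Set (G ⧸ T₀)) with hN
    have hSN : (S : Subgroup G) ≤ N.comap f := by
      rw [← hcomap]
      exact Subgroup.comap_mono
        (Subgroup.le_normalizer.trans (normalizer_le_normalizer_inducedFunctor (h𝓦 W hW) hp'))
    have hNne : N.comap f ≠ ⊤ := by
      intro h
      have hN' : N = ⊤ := by
        rw [← Subgroup.map_comap_eq_self_of_surjective hfs N, h, Subgroup.map_top_of_surjective f hfs]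
      have hn : (U.comap f).Normal := (Subgroup.normalizer_eq_top_iff.mp hN').comap f
      have hUS : U.comap f ≤ (S : Subgroup G) := hcomap ▸ Subgroup.comap_mono (inducedFunctor_le _ _)
      refine inducedFunctor_ne_bot (h𝓦 W hW) hp' hb ?_
      change U = ⊥
      rw [← Subgroup.map_comap_eq_self_of_surjective hfs U, Subgroup.map_eq_bot_iff,
        QuotientGroup.ker_mk']
      exact Grp.le_pCore hn (S.isPGroup'.to_le hUS)
    rintro _ ⟨⟨t, ht, rfl⟩, h2⟩
    change f t ∈ ⁅N, N⁆ at h2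
    rw [← Subgroup.map_comap_eq_self_of_surjective hfs N, ← Subgroup.map_commutator] at h2
    obtain ⟨m, hm, hmt⟩ := h2
    have hmS : m ∈ (S : Subgroup G) := hcomap ▸ (show f m ∈ (S : Subgroup G).map f from ⟨t, ht, hmt.symm⟩)
    exact ⟨m, inf_commutator_le_foc_of_overgroup h𝓦 hsub S hSN hNne ⟨hmS, hm⟩, hmt⟩
  have hmem : f s ∈ Foc (ind 𝓦 (G ⧸ T₀)) ((S : Subgroup G).map f) := by
    refine hquot T₀ h0 (S.mapSurjective hfs) ⟨⟨s, hs, rfl⟩, ?_⟩
    rw [← Subgroup.map_top_of_surjective f hfs, ← Subgroup.map_commutator]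
    exact ⟨s, hsG, rfl⟩
  obtain ⟨t, ht, hts⟩ := key hmem
  have h1 : t⁻¹ * s ∈ T₀ := QuotientGroup.eq.mp hts
  have h2 : t⁻¹ * s ∈ F := hT ⟨h1, Subgroup.mul_mem _
    (Subgroup.inv_mem _ (foc_le_commutator _ _ ht)) hsG⟩
  simpa using mul_mem ht h2

/-- Frattini argument with a normal subgroup. -/
theorem exists_mul_mem_normalizer {K : Subgroup G} [K.Normal] {X : Subgroup G}
    (hX : Grp.IsSylowIn p X K) (g : G) :
    ∃ c ∈ K, ∃ n ∈ Subgroup.normalizer (X : Set G), g = c * n := by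
  have hgK : MulAut.conj g • K = K := by
    rw [← Grp.mem_normalizer_iff_smul, Subgroup.normalizer_eq_top]; exact Subgroup.mem_top g
  obtain ⟨c, hc, hce⟩ := hX.conj (hX.smul hgK)
  refine ⟨c, hc, c⁻¹ * g, ?_, by group⟩
  rw [Grp.mem_normalizer_iff_smul, map_mul, mul_smul, ← hce, smul_smul, ← map_mul,
    inv_mul_cancel, map_one, one_smul]

include h𝓦 hne in
/-- The structure of a minimal failure of control of transfer. -/
theorem transfer_minimal
    (hsub : ∀ H : Subgroup G, H ≠ ⊤ → TransferCtrl p 𝓦 H)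
    (hquot : ∀ (R : Subgroup G) [R.Normal], R ≠ ⊥ → TransferCtrl p 𝓦 (G ⧸ R))
    (hG : ¬ TransferCtrl p 𝓦 G) (S : Sylow p G) :
    Cfsg.pPrimeCore p G = ⊥ ∧
      Subgroup.centralizer (Cfsg.pCore p G : Set G) ≤ Cfsg.pCore p G ∧
      Subgroup.normalizer
          ((Foc (ind 𝓦 G) (S : Subgroup G) ⊓ Cfsg.pCore p G : Subgroup G) : Set G) ≠ ⊤ ∧
      ∀ H : Subgroup G, (S : Subgroup G) ≤ H → H ≠ ⊤ →
        (H ≤ Subgroup.normalizer
          ((Foc (ind 𝓦 G) (S : Subgroup G) ⊓ Cfsg.pCore p G : Subgroup G) : Set G) ∧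
          ⁅Cfsg.pCore p G, H⁆ ≤ Foc (ind 𝓦 G) (S : Subgroup G) ⊓ Cfsg.pCore p G) := by
  set T₀ := Cfsg.pCore p G with hT₀
  set F := Foc (ind 𝓦 G) (S : Subgroup G) with hF
  have hTn : T₀.Normal := Grp.pCore_isNormal
  have hTS : T₀ ≤ (S : Subgroup G) := Grp.pCore_le_sylow S
  have hS' : ⁅(S : Subgroup G), (S : Subgroup G)⁆ ≤ F := sylow_commutator_le h𝓦 hne S
  have hfail : ¬ ⁅T₀, (⊤ : Subgroup G)⁆ ≤ F := fun h =>
    hG (transferCtrl_of_pCore_inf_le h𝓦 hne hsub hquot S
      (inf_commutator_le_of_commutator_le S hTS hS' h))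
  have hover : ∀ H : Subgroup G, (S : Subgroup G) ≤ H → H ≠ ⊤ → ⁅T₀, H⁆ ≤ F ⊓ T₀ := by
    intro H hSH hH
    have h1 : ⁅T₀, H⁆ ≤ T₀ := Subgroup.commutator_le_left T₀ H
    exact le_inf ((le_inf (h1.trans hTS) (Subgroup.commutator_mono (hTS.trans hSH) le_rfl)).trans
      (inf_commutator_le_foc_of_overgroup h𝓦 hsub S hSH hH)) h1
  have hL : Cfsg.pPrimeCore p G = ⊥ := by
    by_contra h
    have : (Cfsg.pPrimeCore p G).Normal := Grp.pPrimeCore_isNormal
    exact hG (transferCtrl_of_coprime_quotient h𝓦 _ Grp.pPrimeCore_coprime (hquot _ h))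
  have hstep : ∀ C : Subgroup G, C.Normal → (∀ c ∈ C, ∀ t ∈ T₀, ⁅t, c⁆ ∈ F ⊓ T₀) →
      (∀ X : Subgroup G, Grp.IsSylowIn p X C → X ≤ (S : Subgroup G) →
        (S : Subgroup G) ≤ Subgroup.normalizer (X : Set G) →
        Subgroup.normalizer (X : Set G) ≠ ⊤) → False := by
    intro C hC hcomm hX
    set X := (S : Subgroup G) ⊓ C with hXdef
    have hXs : Grp.IsSylowIn p X C := ⟨inf_le_right, S.isPGroup'.to_le inf_le_left, by
      rw [hXdef, Subgroup.inf_relIndex_right]; exact Grp.sylow_inf_normal_relIndex S C⟩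
    have hSX : (S : Subgroup G) ≤ Subgroup.normalizer (X : Set G) := fun s hs =>
      mem_normalizer_of_forall_mem fun x hx =>
        ⟨(S : Subgroup G).mul_mem ((S : Subgroup G).mul_mem hs hx.1) ((S : Subgroup G).inv_mem hs),
          hC.conj_mem x hx.2 s⟩
    have hN := hover _ hSX (hX X hXs inf_le_left hSX)
    refine hfail ((Subgroup.commutator_le).mpr fun t ht g _ => ?_)
    obtain ⟨c, hc, n, hn, rfl⟩ := exists_mul_mem_normalizer hXs g
    have h1 : ⁅t, c * n⁆ = ⁅t, c⁆ * (c * ⁅t, n⁆ * c⁻¹) := by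
      simp only [commutatorElement_def]; group
    have h2 : ⁅t, n⁆ ∈ F ⊓ T₀ := hN (Subgroup.commutator_mem_commutator ht hn)
    have h3 : c * ⁅t, n⁆ * c⁻¹ ∈ F := by
      have h4 := (hcomm c hc _ (inv_mem h2.2)).1
      have h5 := mul_mem h2.1 h4
      simpa [commutatorElement_def, mul_assoc] using h5
    rw [h1]
    exact mul_mem (hcomm c hc t ht).1 h3
  have hcent : Subgroup.centralizer (T₀ : Set G) ≤ T₀ := by
    by_contra hc
    set C := Subgroup.centralizer (T₀ : Set G) with hC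
    have hCn : C.Normal := Subgroup.normal_centralizer
    refine hstep C hCn (fun c hc t ht => ?_) (fun X hXs hXS hSX htop => ?_)
    · rw [commutatorElement_eq_one_iff_mul_comm.mpr (Subgroup.mem_centralizer_iff.mp hc t ht)]
      exact one_mem _
    · have hXn : X.Normal := Subgroup.normalizer_eq_top_iff.mp htop
      have hXT : X ≤ T₀ := Grp.le_pCore hXn hXs.2.1
      set Y := C with hY
      have hcen : ∀ z ∈ X.subgroupOf Y, ∀ y : Y, y * z = z * y := fun z hz y =>
        Subtype.ext ((Subgroup.mem_centralizer_iff.mp y.2 z (hXT hz)).symm)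
      let U : Sylow p Y := hXs.2.1.comap_subtype.toSylow hXs.2.2
      have hYN : Cfsg.HasNormalPComplement p Y := by
        refine Transfer.hasNormalPComplement_of_control U
          fun x hx y _ ⟨g, hg⟩ => ⟨1, one_mem _, ?_⟩
        rw [one_mul, inv_one, mul_one, ← hg, hcen x hx g, mul_inv_cancel_right]
      have hR : (Cfsg.pResidual p Y).map Y.subtype = ⊥ := by
        have hchar := Transfer.pResidual_characteristic p Y
        refine le_bot_iff.mp (hL ▸ Grp.le_pPrimeCore ConjAct.normal_of_characteristic_of_normal ?_)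
        rw [Subgroup.card_map_of_injective Y.subtype_injective]
        exact ((hp.out.coprime_iff_not_dvd).mpr
          (Transfer.hasNormalPComplement_iff_not_dvd.mp hYN)).symm
      rw [Subgroup.map_eq_bot_iff_of_injective _ Y.subtype_injective] at hR
      obtain ⟨j, hj⟩ := Transfer.exists_pResidual_index (G := Y) p
      rw [hR, Subgroup.index_bot] at hj
      exact hc (Grp.le_pCore hCn (IsPGroup.of_card hj))
  have hnorm : ∀ H : Subgroup G, ⁅T₀, H⁆ ≤ F ⊓ T₀ →
      H ≤ Subgroup.normalizer ((F ⊓ T₀ : Subgroup G) : Set G) := by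
    intro H h g hg
    refine mem_normalizer_of_forall_mem fun x hx => ?_
    have h1 := mul_mem hx (h (Subgroup.commutator_mem_commutator (inv_mem hx.2) hg))
    simpa [commutatorElement_def, mul_assoc] using h1
  refine ⟨hL, hcent, fun htop => ?_, fun H hSH hH => ⟨hnorm H (hover H hSH hH), hover H hSH hH⟩⟩
  have hRn : (F ⊓ T₀).Normal := Subgroup.normalizer_eq_top_iff.mp htop
  set π := QuotientGroup.mk' (F ⊓ T₀) with hπ
  have hTπ : (T₀.map π).Normal := hTn.map π (QuotientGroup.mk'_surjective _)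
  set C := (Subgroup.centralizer (T₀.map π : Set (G ⧸ (F ⊓ T₀)))).comap π with hCdef
  have hmemC : ∀ c, c ∈ C ↔ ∀ t ∈ T₀, ⁅t, c⁆ ∈ F ⊓ T₀ := by
    intro c
    rw [hCdef, Subgroup.mem_comap, Subgroup.mem_centralizer_iff]
    constructor
    · intro h t ht
      rw [← QuotientGroup.eq_one_iff]
      change π ⁅t, c⁆ = 1
      rw [map_commutatorElement, commutatorElement_eq_one_iff_mul_comm]
      exact h _ ⟨t, ht, rfl⟩
    · rintro h _ ⟨t, ht, rfl⟩
      rw [← commutatorElement_eq_one_iff_mul_comm, ← map_commutatorElement]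
      exact (QuotientGroup.eq_one_iff _).mpr (h t ht)
  have hCn : C.Normal := by
    have : (Subgroup.centralizer (T₀.map π : Set (G ⧸ (F ⊓ T₀)))).Normal := Subgroup.normal_centralizer
    exact Subgroup.normal_comap π
  have hSne : (S : Subgroup G) ≠ ⊤ := by
    intro h
    refine hfail (le_trans ?_ hS')
    rw [h]
    exact Subgroup.commutator_mono le_top le_rfl
  have hSC : (S : Subgroup G) ≤ C := fun s hs =>
    (hmemC s).mpr fun t ht => hover _ le_rfl hSne (Subgroup.commutator_mem_commutator ht hs)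
  refine hstep C hCn (fun c hc => (hmemC c).mp hc) (fun X hXs hXS _ hXtop => hfail ?_)
  -- the Sylow subgroup of `C` is `S`; if it is normal, `G` centralizes `T₀` modulo `F`
  have hXS' : X = S := le_antisymm hXS (le_of_eq (hXs.eq_of_le hXS hSC S.isPGroup').symm)
  have hSn : (S : Subgroup G).Normal := hXS' ▸ Subgroup.normalizer_eq_top_iff.mp hXtop
  obtain ⟨W, hW⟩ := hne
  have hNtop : Subgroup.normalizer (Cfsg.inducedFunctor W (S : Subgroup G) : Set G) = ⊤ :=
    top_le_iff.mp ((Subgroup.normalizer_eq_top_iff.mpr hSn).ge.trans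
      (normalizer_le_normalizer_inducedFunctor (h𝓦 W hW) S.isPGroup'))
  refine le_trans ?_ (le_foc ⟨W, hW, rfl⟩)
  rw [hNtop]
  exact le_inf ((Subgroup.commutator_le_left T₀ ⊤).trans hTS) (Subgroup.commutator_mono le_top le_rfl)

end Cfsg.Agent.Invol
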