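import Mathlib
import Cfsg.Agent.Lib.Invol.FusionChain
import Cfsg.Agent.Lib.Invol.TransferMinimal
import Cfsg.Agent.Lib.Invol.Transport
import Cfsg.Agent.Lib.Transfer.Frobenius

/-!
# Control of strong fusion from the constrained sections
-/

set_option autoImplicit false
set_option linter.style.haveILetI false

open scoped Pointwise commutatorElement

namespace Cfsg.Agent.Invol

universe u

variable {p : ℕ} [hp : Fact p.Prime] {𝓦 : Set (∀ (Q : Type u) [Group Q], Subgroup Q)}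
  (h𝓦 : ∀ W ∈ 𝓦, Cfsg.IsCharPFunctor.{u} p W)

omit hp in
theorem closure_conj_le {X : Type*} [Group X] {A : Set X} {Q : Subgroup X} {g : X}
    (h : ∀ a ∈ A, g * a * g⁻¹ ∈ Q) : (Subgroup.closure A).map (MulAut.conj g).toMonoidHom ≤ Q := by
  rw [MonoidHom.map_closure, Subgroup.closure_le]
  rintro _ ⟨a, ha, rfl⟩
  exact h a ha

/-- A `p`-subgroup of `H` is conjugate in `H` into a Sylow subgroup of `H`. -/
theorem exists_conj_into {X : Type*} [Group X] [Finite X] {T Q H : Subgroup X}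
    (hT : Grp.IsSylowIn p T H) (hQH : Q ≤ H) (hQ : IsPGroup p Q) :
    ∃ d ∈ H, ∀ q ∈ Q, d * q * d⁻¹ ∈ T := by
  obtain ⟨S, hS⟩ := (hQ.comap_subtype (K := H) : IsPGroup p (Q.subgroupOf H)).exists_le_sylow
  obtain ⟨d, hd, hdT⟩ := (Grp.isSylowIn_iff.mpr ⟨S, rfl⟩ :
    Grp.IsSylowIn p ((S : Subgroup H).map H.subtype) H).conj hT
  refine ⟨d, hd, fun q hq => ?_⟩
  rw [← hdT, ← Grp.map_conj_eq_smul]
  exact ⟨q, ⟨⟨q, hQH hq⟩, hS (show (⟨q, hQH hq⟩ : H) ∈ Q.subgroupOf H from hq), rfl⟩, rfl⟩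

section step

variable {X : Type u} [Group X] [Finite X]

include h𝓦 in
/-- Overgroups of the Sylow subgroup other than `X` are controlled. -/
theorem chn_of_overgroup (hsub : ∀ H : Subgroup X, H ≠ ⊤ → FusCtrl p 𝓦 H) (P : Sylow p X)
    {H : Subgroup X} (hPH : (P : Subgroup X) ≤ H) (hH : H ≠ ⊤) {A : Set X} {g : X} (hg : g ∈ H)
    (hA : A ⊆ (P : Subgroup X)) (hgA : ∀ a ∈ A, g * a * g⁻¹ ∈ (P : Subgroup X)) :
    Chn (ind 𝓦 X) (P : Subgroup X) A g :=
  (hsub H hH).chn_of_sylowIn h𝓦 ⟨hPH, P.isPGroup', fun hd =>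
    P.not_dvd_index (hd.trans (Subgroup.relIndex_dvd_index_of_le hPH))⟩ hg hA hgA

include h𝓦 in
/-- The case `O_p(X) = 1`. -/
theorem fusCtrl_of_pCore_eq_bot (hsub : ∀ H : Subgroup X, H ≠ ⊤ → FusCtrl p 𝓦 H)
    (hT : Cfsg.pCore p X = ⊥) : FusCtrl p 𝓦 X := by
  intro P
  have hne : ∀ D : Subgroup X, D ≤ (P : Subgroup X) → D ≠ ⊥ →
      Subgroup.normalizer (D : Set X) ≠ ⊤ := fun D hD hD1 h =>
    hD1 (le_bot_iff.mp (hT ▸ Grp.le_pCore (Subgroup.normalizer_eq_top_iff.mp h) (P.isPGroup'.to_le hD)))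
  have good : ∀ k (D : Subgroup X), Tame P D → D ≠ ⊥ →
      Nat.card (P : Subgroup X) - Nat.card ↥((P : Subgroup X) ⊓ Subgroup.normalizer (D : Set X)) = k →
      ∀ n ∈ Subgroup.normalizer (D : Set X), ∀ A : Set X,
        A ⊆ ((P : Subgroup X) ⊓ Subgroup.normalizer (D : Set X) : Subgroup X) →
        (∀ a ∈ A, n * a * n⁻¹ ∈ (P : Subgroup X) ⊓ Subgroup.normalizer (D : Set X)) →
        Chn (ind 𝓦 X) (P : Subgroup X) A n := by
    intro k
    induction k using Nat.strong_induction_on with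
    | _ k ih =>
    intro D hD hD1 hk n hn A hA hnA
    set H := Subgroup.normalizer (D : Set X) with hH
    set T := (P : Subgroup X) ⊓ H with hTdef
    obtain ⟨c, hc, he⟩ := (hsub H (hne D hD.1 hD1)).chn_of_sylowIn h𝓦 hD.2 hn hA hnA
    refine Chn.congr he ?_
    refine hc.induct_steps hA (R := fun B x => Chn (ind 𝓦 X) (P : Subgroup X) B x)
      chn_one (fun B x y h1 h2 => h1.comp h2) fun B x hB hx hxB => ?_
    obtain ⟨_, ⟨W, hW, rfl⟩, hxN⟩ := hx
    rcases (inf_le_left : T ≤ (P : Subgroup X)).eq_or_lt with hTP | hTP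
    · exact chn_step ⟨_, ⟨W, hW, rfl⟩, by rw [← hTP]; exact hxN⟩ fun b hb => hTP ▸ hxB b hb
    set U := Cfsg.inducedFunctor W T with hU
    have hUP : U ≤ (P : Subgroup X) := (inducedFunctor_le _ _).trans hTP.le
    have hUne : U ≠ ⊥ := inducedFunctor_ne_bot (h𝓦 W hW) (P.isPGroup'.to_le hTP.le)
      (fun h => hD1 (le_bot_iff.mp (h ▸ hD.le_inf)))
    obtain ⟨h0, hU', hle⟩ := exists_tame_conj P hUP
    set S1 := (P : Subgroup X) ⊓ Subgroup.normalizer (U : Set X) with hS1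
    have hlt : Nat.card T < Nat.card S1 :=
      card_lt_card_inf_normalizer P (isConjugacyFunctor_induced (h𝓦 W hW)) hTP
    have hTS1 : T ≤ S1 := le_inf hTP.le
      (Subgroup.le_normalizer.trans (normalizer_le_normalizer_inducedFunctor (h𝓦 W hW) (P.isPGroup'.to_le hTP.le)))
    set U' := U.map (MulAut.conj h0).toMonoidHom with hU'def
    set S2 := (P : Subgroup X) ⊓ Subgroup.normalizer (U' : Set X) with hS2
    have hcard2 : Nat.card S1 ≤ Nat.card S2 := by
      rw [← Subgroup.card_map_of_injective (f := (MulAut.conj h0).toMonoidHom) (MulAut.conj h0).injective (K := S1)]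
      exact Subgroup.card_le_of_le hle
    have hcard3 : Nat.card S2 ≤ Nat.card (P : Subgroup X) := Subgroup.card_le_of_le inf_le_left
    have hbig : ∀ (B : Set X) (g : X), B ⊆ (P : Subgroup X) → (∀ b ∈ B, g * b * g⁻¹ ∈ (P : Subgroup X)) →
        Nat.card T < Nat.card (Subgroup.closure B) → Chn (ind 𝓦 X) (P : Subgroup X) B g := by
      intro B g hB hgB hm
      refine alperin_induct_big P (fun B g => Chn (ind 𝓦 X) (P : Subgroup X) B g) chn_one
        (fun B x y h1 h2 => h1.comp h2) _ (fun E hE hEc e he B hBE => ?_) hB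
        (Set.image_subset_iff.mpr hgB) hm
      have hEne : E ≠ ⊥ := fun h => by
        subst h
        rw [Subgroup.card_bot] at hEc
        exact absurd hEc (Nat.not_lt.mpr Nat.card_pos)
      have hEc' := hE.card_le
      have hE3 : Nat.card ↥((P : Subgroup X) ⊓ Subgroup.normalizer (E : Set X)) ≤ Nat.card (P : Subgroup X) :=
        Subgroup.card_le_of_le inf_le_left
      exact ih _ (by rw [← hk]; change _ - _ < _ - Nat.card T; omega) E hE hEne rfl e he B
        (fun b hb => hE.le_inf (hBE hb))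
        (fun b hb => hE.le_inf ((Subgroup.mem_normalizer_iff.mp he b).mp (hBE hb)))
    have hS1im : ∀ s ∈ S1, h0 * s * h0⁻¹ ∈ S2 := fun s hs => hle ⟨s, hs, rfl⟩
    have hin : Chn (ind 𝓦 X) (P : Subgroup X) B h0 :=
      (hbig (S1 : Set X) h0 (fun s hs => hs.1) (fun s hs => (hS1im s hs).1)
        (by rwa [Subgroup.closure_eq])).mono fun b hb => hTS1 (hB hb)
    have hout : Chn (ind 𝓦 X) (P : Subgroup X) ((S1.map (MulAut.conj h0).toMonoidHom : Subgroup X) : Set X) h0⁻¹ := by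
      refine hbig _ _ (fun s hs => (hle hs).1) ?_ ?_
      · rintro _ ⟨s, hs, rfl⟩
        show h0⁻¹ * (h0 * s * h0⁻¹) * h0⁻¹⁻¹ ∈ (P : Subgroup X)
        rw [show h0⁻¹ * (h0 * s * h0⁻¹) * h0⁻¹⁻¹ = s by group]; exact hs.1
      · rwa [Subgroup.closure_eq, Subgroup.card_map_of_injective (f := (MulAut.conj h0).toMonoidHom)
          (MulAut.conj h0).injective]
    set B' := (fun b => h0 * b * h0⁻¹) '' B with hB'
    have hmid : Chn (ind 𝓦 X) (P : Subgroup X) B' (h0 * x * h0⁻¹) := by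
      refine ih _ (by rw [← hk]; change _ - Nat.card S2 < _ - Nat.card T; omega) U' hU'
        (fun h => hUne ((Subgroup.map_eq_bot_iff_of_injective _ (MulAut.conj h0).injective).mp h)) rfl _ ?_ B' ?_ ?_
      · rw [hU'def, ← Subgroup.map_equiv_normalizer_eq U (MulAut.conj h0)]
        exact ⟨x, hxN, rfl⟩
      · rintro _ ⟨b, hb, rfl⟩; exact hS1im b (hTS1 (hB hb))
      · rintro _ ⟨b, hb, rfl⟩
        show h0 * x * h0⁻¹ * (h0 * b * h0⁻¹) * (h0 * x * h0⁻¹)⁻¹ ∈ S2
        rw [show h0 * x * h0⁻¹ * (h0 * b * h0⁻¹) * (h0 * x * h0⁻¹)⁻¹ = h0 * (x * b * x⁻¹) * h0⁻¹ by group]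
        exact hS1im _ (hTS1 (hxB b hb))
    have h3 := (hin.comp hmid).comp (hout.mono (A := (fun a => h0 * x * h0⁻¹ * h0 * a * (h0 * x * h0⁻¹ * h0)⁻¹) '' B) ?_)
    · simpa [mul_assoc] using h3
    · rintro _ ⟨b, hb, rfl⟩
      exact ⟨x * b * x⁻¹, hTS1 (hxB b hb), by simp [mul_assoc]⟩
  intro A g hA hgA
  refine alperin_induct P (fun B g => Chn (ind 𝓦 X) (P : Subgroup X) B g) chn_one
    (fun B x y h1 h2 => h1.comp h2) (fun D hD n hn B hBD => ?_) hA (Set.image_subset_iff.mpr hgA)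
  rcases eq_or_ne D ⊥ with rfl | hD1
  · exact chn_of_fixed fun b hb => by rw [Subgroup.mem_bot.mp (hBD hb)]; simp
  · exact good _ D hD hD1 rfl n hn B (fun b hb => hD.le_inf (hBD hb))
      (fun b hb => hD.le_inf ((Subgroup.mem_normalizer_iff.mp hn b).mp (hBD hb)))

include h𝓦 in
/-- A normal `p'`-subgroup may be factored out. -/
theorem fusCtrl_of_coprime_quotient (L : Subgroup X) [L.Normal] (hL : (Nat.card L).Coprime p)
    (h : FusCtrl p 𝓦 (X ⧸ L)) : FusCtrl p 𝓦 X := by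
  intro P A g hA hgA
  set f := QuotientGroup.mk' L with hf
  have hfs : Function.Surjective f := QuotientGroup.mk'_surjective L
  have hinj : ∀ x ∈ (P : Subgroup X), f x = 1 → x = 1 := fun x hx hfx =>
    eq_one_of_coprime_of_mem P.isPGroup' hx
      (hL.coprime_dvd_left (L.orderOf_dvd_natCard ((QuotientGroup.eq_one_iff x).mp hfx)))
  have hker : (Nat.card f.ker).Coprime p := by rwa [QuotientGroup.ker_mk']
  obtain ⟨cb, hcb, hceq⟩ := h (P.mapSurjective hfs) (f '' A) (f g)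
    (by rintro _ ⟨a, ha, rfl⟩; exact ⟨a, hA ha, rfl⟩)
    (by rintro _ ⟨a, ha, rfl⟩; exact ⟨_, hgA a ha, by simp⟩)
  suffices key : ∃ c, Reach (ind 𝓦 X) (P : Subgroup X) A c ∧
      ∀ a ∈ A, f (c * a * c⁻¹) = cb * f a * cb⁻¹ by
    obtain ⟨c, hc, hce⟩ := key
    refine ⟨c, hc, fun a ha => ?_⟩
    have h1 : f (c * a * c⁻¹) = f (g * a * g⁻¹) := by
      rw [hce a ha, hceq (f a) ⟨a, ha, rfl⟩, map_mul, map_mul, map_inv]
    exact mul_inv_eq_one.mp (hinj _ (mul_mem (hc.mem hA a ha) (inv_mem (hgA a ha)))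
      (by rw [map_mul, map_inv, h1, mul_inv_cancel]))
  clear hceq
  induction hcb with
  | one => exact ⟨1, .one, fun a _ => by simp⟩
  | @step c₀ x₀ _ hx hxa ih =>
    obtain ⟨c, hc, hce⟩ := ih
    obtain ⟨_, ⟨W, hW, rfl⟩, hxN⟩ := hx
    set U := Cfsg.inducedFunctor W (P : Subgroup X) with hU
    have hxN' : x₀ ∈ (Subgroup.normalizer (U : Set X)).map f := by
      refine normalizer_map_le_of_coprime f hfs hker (P.isPGroup'.to_le (inducedFunctor_le _ _)) ?_
      rw [← inducedFunctor_map (h𝓦 W hW) P.isPGroup' f hinj]; exact hxN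
    obtain ⟨x, hxU, rfl⟩ := hxN'
    set N := Subgroup.normalizer (U : Set X) with hN
    set H := ((P : Subgroup X).map f).comap f ⊓ N with hH
    have hPN : (P : Subgroup X) ≤ N :=
      Subgroup.le_normalizer.trans (normalizer_le_normalizer_inducedFunctor (h𝓦 W hW) P.isPGroup')
    have hPH : (P : Subgroup X) ≤ H := le_inf (Subgroup.le_comap_map _ _) hPN
    set Q := (Subgroup.closure A).map (MulAut.conj (x * c)).toMonoidHom with hQ
    have hQp : IsPGroup p Q := (P.isPGroup'.to_le ((Subgroup.closure_le _).mpr hA)).map _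
    have hQH : Q ≤ H := closure_conj_le fun a ha => by
      refine ⟨?_, ?_⟩
      · show f (x * c * a * (x * c)⁻¹) ∈ (P : Subgroup X).map f
        have h2 : f x * c₀ * f a * (f x * c₀)⁻¹ ∈ (P : Subgroup X).map f := hxa (f a) ⟨a, ha, rfl⟩
        have h3 : f (x * c * a * (x * c)⁻¹) = f x * f (c * a * c⁻¹) * (f x)⁻¹ := by simp [mul_assoc]
        rw [h3, hce a ha]
        simpa [mul_assoc] using h2
      · have h4 := N.mul_mem (N.mul_mem hxU (hPN (hc.mem hA a ha))) (N.inv_mem hxU)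
        simpa [mul_assoc] using h4
    obtain ⟨d, hd, hdQ⟩ := exists_conj_into ⟨hPH, P.isPGroup', fun hd =>
      P.not_dvd_index (hd.trans (Subgroup.relIndex_dvd_index_of_le hPH))⟩ hQH hQp
    obtain ⟨hd1, hd2⟩ := hd
    rw [Subgroup.comap_map_eq, QuotientGroup.ker_mk'] at hd1
    obtain ⟨s, hs, l, hl, rfl⟩ := Subgroup.mem_sup_of_normal_right.mp hd1
    have hlN : l ∈ N := by simpa using N.mul_mem (N.inv_mem (hPN hs)) hd2
    refine ⟨(l * x) * c, hc.step ⟨_, ⟨W, hW, rfl⟩, N.mul_mem hlN hxU⟩ fun a ha => ?_, fun a ha => ?_⟩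
    · have h5 := hdQ _ (show MulAut.conj (x * c) a ∈ Q from ⟨a, Subgroup.subset_closure ha, rfl⟩)
      have h6 := (P : Subgroup X).mul_mem ((P : Subgroup X).mul_mem ((P : Subgroup X).inv_mem hs) h5) hs
      simpa [mul_assoc] using h6
    · have hl1 : f l = 1 := (QuotientGroup.eq_one_iff l).mpr hl
      calc f (l * x * c * a * (l * x * c)⁻¹) = f x * f (c * a * c⁻¹) * (f x)⁻¹ := by
            simp [hl1, mul_assoc]
        _ = f x * c₀ * f a * (f x * c₀)⁻¹ := by rw [hce a ha]; simp [mul_assoc]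

include h𝓦 in
/-- The case `C(O_p(X)) ≰ O_p(X)`. -/
theorem fusCtrl_of_centralizer_not_le (hne : 𝓦.Nonempty)
    (hsub : ∀ H : Subgroup X, H ≠ ⊤ → FusCtrl p 𝓦 H)
    (hquot : ∀ (R : Subgroup X) [R.Normal], R ≠ ⊥ → FusCtrl p 𝓦 (X ⧸ R))
    (hL : Cfsg.pPrimeCore p X = ⊥) (hT : Cfsg.pCore p X ≠ ⊥)
    (hC : ¬ Subgroup.centralizer (Cfsg.pCore p X : Set X) ≤ Cfsg.pCore p X) : FusCtrl p 𝓦 X := by
  intro P
  set T₀ := Cfsg.pCore p X with hT₀
  haveI hTn : T₀.Normal := Grp.pCore_isNormal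
  have hT0P : T₀ ≤ (P : Subgroup X) := Grp.pCore_le_sylow P
  by_cases hPn : (P : Subgroup X).Normal
  · intro A g _ hgA
    obtain ⟨W, hW⟩ := hne
    refine chn_step ⟨_, ⟨W, hW, rfl⟩, ?_⟩ hgA
    refine normalizer_le_normalizer_inducedFunctor (h𝓦 W hW) P.isPGroup' ?_
    rw [Subgroup.normalizer_eq_top_iff.mpr hPn]; exact Subgroup.mem_top g
  have hover := fun {H : Subgroup X} (h1 : (P : Subgroup X) ≤ H) (h2 : H ≠ ⊤) {A : Set X} {g : X} =>
    chn_of_overgroup h𝓦 hsub P h1 h2 (A := A) (g := g)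
  set C := Subgroup.centralizer (T₀ : Set X) with hCdef
  haveI hCn : C.Normal := Subgroup.normal_centralizer
  set P₁ := (P : Subgroup X) ⊓ C with hP₁
  have hP₁s : Grp.IsSylowIn p P₁ C :=
    ⟨inf_le_right, P.isPGroup'.to_le inf_le_left, by
      rw [hP₁, Subgroup.inf_relIndex_right]; exact Grp.sylow_inf_normal_relIndex P C⟩
  have hP₁n : Subgroup.normalizer (P₁ : Set X) ≠ ⊤ := by
    intro h
    have hP₁T : P₁ ≤ T₀ := Grp.le_pCore (Subgroup.normalizer_eq_top_iff.mp h) (P.isPGroup'.to_le inf_le_left)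
    obtain ⟨Q, hQ⟩ := Grp.isSylowIn_iff.mp hP₁s
    have hcen : ∀ x : C, ∀ q ∈ (Q : Subgroup C), q * x = x * q := fun x q hq => Subtype.ext (by
      exact Subgroup.mem_centralizer_iff.mp x.2 _ (hP₁T (hQ ▸ ⟨q, hq, rfl⟩)))
    have hNPC : Cfsg.HasNormalPComplement p C := by
      rw [Transfer.hasNormalPComplement_iff_frobeniusCondition Q]
      intro R hR x _ _ q hq
      exact hcen x q (hR hq)
    obtain ⟨N, hN, hNd, k, hk⟩ := Transfer.hasNormalPComplement_iff_exists.mp hNPC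
    have h1 : N ≤ Cfsg.pPrimeCore p C :=
      Grp.le_pPrimeCore hN ((Fact.out : p.Prime).coprime_iff_not_dvd.mpr hNd).symm
    have h2 : (Cfsg.pPrimeCore p C).map C.subtype ≤ Cfsg.pPrimeCore p X :=
      Grp.le_pPrimeCore inferInstance (by
        rw [Subgroup.card_map_of_injective C.subtype_injective]; exact Grp.pPrimeCore_coprime)
    rw [hL, le_bot_iff, Subgroup.map_eq_bot_iff_of_injective _ C.subtype_injective] at h2
    rw [h2, le_bot_iff] at h1
    rw [h1, Subgroup.index_bot] at hk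
    exact hC (Grp.le_pCore hCn (IsPGroup.of_card hk))
  by_cases hK : C ⊔ (P : Subgroup X) = ⊤
  swap
  · -- a factorisation `X = N(P ∩ C) C`
    intro A g hA hgA
    obtain ⟨c, hc, n, hn, rfl⟩ := exists_mul_mem_normalizer hP₁s g
    set c' := n⁻¹ * c * n with hc'
    have hc'C : c' ∈ C := by simpa [hc'] using hCn.conj_mem c hc n⁻¹
    set N := Subgroup.normalizer (P₁ : Set X) with hN
    have hPN : (P : Subgroup X) ≤ N := fun s hs => mem_normalizer_of_forall_mem fun y hy =>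
      ⟨(P : Subgroup X).mul_mem ((P : Subgroup X).mul_mem hs hy.1) ((P : Subgroup X).inv_mem hs),
        hCn.conj_mem y hy.2 s⟩
    set Q := (Subgroup.closure A).map (MulAut.conj c').toMonoidHom with hQ
    have hQp : IsPGroup p Q := (P.isPGroup'.to_le ((Subgroup.closure_le _).mpr hA)).map _
    set K := C ⊔ (P : Subgroup X) with hKdef
    have hc'K : c' ∈ K := le_sup_left (b := (P : Subgroup X)) hc'C
    have hQH : Q ≤ K ⊓ N := closure_conj_le fun a ha =>
      ⟨K.mul_mem (K.mul_mem hc'K (le_sup_right (a := C) (hA ha))) (K.inv_mem hc'K), by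
        have h1 := N.mul_mem (N.mul_mem (N.inv_mem hn) (hPN (hgA a ha))) hn
        simpa [hc', mul_assoc] using h1⟩
    have hPH : (P : Subgroup X) ≤ K ⊓ N := le_inf le_sup_right hPN
    obtain ⟨d, hd, hdQ⟩ := exists_conj_into ⟨hPH, P.isPGroup', fun hd =>
      P.not_dvd_index (hd.trans (Subgroup.relIndex_dvd_index_of_le hPH))⟩ hQH hQp
    have hy : ∀ a ∈ A, d * c' * a * (d * c')⁻¹ ∈ (P : Subgroup X) := fun a ha => by
      have := hdQ _ (show MulAut.conj c' a ∈ Q from ⟨a, Subgroup.subset_closure ha, rfl⟩)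
      simpa [mul_assoc] using this
    have he : n * d⁻¹ * (d * c') = c * n := by simp [hc', mul_assoc]
    rw [← he]
    refine (hover (le_sup_right : (P : Subgroup X) ≤ K) hK (K.mul_mem hd.1 hc'K) hA hy).comp
      (hover hPN hP₁n (N.mul_mem hn (N.inv_mem hd.2)) ?_ ?_)
    · rintro _ ⟨a, ha, rfl⟩; exact hy a ha
    · rintro _ ⟨a, ha, rfl⟩
      have := hgA a ha
      rw [← he] at this
      simpa [mul_assoc] using this
  -- `X = C P`
  have hXC : ∀ x : X, ∃ k : ℕ, x ^ p ^ k ∈ C := by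
    intro x
    obtain ⟨c, hc, s, hs, hx⟩ := Subgroup.mem_sup_of_normal_left.mp (hK ▸ Subgroup.mem_top x)
    obtain ⟨k, hk⟩ := P.isPGroup' ⟨s, hs⟩
    refine ⟨k, ?_⟩
    rw [← QuotientGroup.eq_one_iff, QuotientGroup.mk_pow, ← hx, QuotientGroup.mk_mul,
      (QuotientGroup.eq_one_iff c).mpr hc, one_mul, ← QuotientGroup.mk_pow]
    rw [show s ^ p ^ k = 1 by simpa using congrArg Subtype.val hk, QuotientGroup.mk_one]
  set f := QuotientGroup.mk' T₀ with hf
  have hfs : Function.Surjective f := QuotientGroup.mk'_surjective T₀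
  have hcomap : ((P : Subgroup X).map f).comap f = P := by
    rw [Subgroup.comap_map_eq_self]
    rwa [QuotientGroup.ker_mk']
  have hPb : (P : Subgroup X).map f ≠ ⊥ := by
    intro hb
    rw [Subgroup.map_eq_bot_iff, hf, QuotientGroup.ker_mk'] at hb
    exact hPn (le_antisymm hb hT0P ▸ hTn)
  intro A g hA hgA
  refine Chn.mono (Set.subset_union_left (t := (T₀ : Set X))) ?_
  refine alperin_induct P (fun B n => (T₀ : Set X) ⊆ B → Chn (ind 𝓦 X) (P : Subgroup X) B n)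
    (fun B _ => chn_one B) (fun B x y h1 h2 hB => (h1 hB).comp (h2 fun t ht => ⟨x⁻¹ * t * x,
      hB (by simpa using hTn.conj_mem t ht x⁻¹), by group⟩))
    (fun D hD n hn B hBD hTB => ?_) (Set.union_subset hA hT0P) ?_ Set.subset_union_right
  swap
  · rintro _ ⟨a, ha | ha, rfl⟩
    · exact hgA a ha
    · exact hT0P (hTn.conj_mem a ha g)
  have hTD : T₀ ≤ D := fun t ht => hBD (hTB ht)
  refine Chn.mono hBD ?_
  obtain ⟨cb, hcb, hceq⟩ := hquot T₀ hT (P.mapSurjective hfs) (f '' (D : Set X)) (f n)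
    (by rintro _ ⟨a, ha, rfl⟩; exact ⟨a, hD.1 ha, rfl⟩)
    (by rintro _ ⟨a, ha, rfl⟩
        exact ⟨n * a * n⁻¹, hD.1 ((Subgroup.mem_normalizer_iff.mp hn a).mp ha), by simp⟩)
  have key : ∀ E : Set X, E ⊆ (P : Subgroup X) → ∀ cb,
      Reach (ind 𝓦 (X ⧸ T₀)) ((P : Subgroup X).map f) (f '' E) cb →
      ∃ y, Chn (ind 𝓦 X) (P : Subgroup X) E y ∧ ∀ a ∈ E, f (y * a * y⁻¹) = cb * f a * cb⁻¹ := by
    intro E hE cb hcb
    induction hcb with
    | one => exact ⟨1, chn_one E, fun a _ => by simp⟩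
    | @step c₀ x₀ _ hx hxa ih =>
      obtain ⟨y, hy, hye⟩ := ih
      obtain ⟨_, ⟨W, hW, rfl⟩, hxN⟩ := hx
      obtain ⟨x, rfl⟩ := hfs x₀
      have hp' : IsPGroup p ((P : Subgroup X).map f) := P.isPGroup'.map f
      set U := Cfsg.inducedFunctor W ((P : Subgroup X).map f) with hU
      set N := Subgroup.normalizer (U : Set (X ⧸ T₀)) with hN
      have hPN : (P : Subgroup X) ≤ N.comap f := by
        rw [← hcomap]
        exact Subgroup.comap_mono
          (Subgroup.le_normalizer.trans (normalizer_le_normalizer_inducedFunctor (h𝓦 W hW) hp'))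
      have hNne : N.comap f ≠ ⊤ := by
        intro h
        have hN' : N = ⊤ := by
          rw [← Subgroup.map_comap_eq_self_of_surjective hfs N, h, Subgroup.map_top_of_surjective f hfs]
        have hn : (U.comap f).Normal := (Subgroup.normalizer_eq_top_iff.mp hN').comap f
        have hUP : U.comap f ≤ (P : Subgroup X) := hcomap ▸ Subgroup.comap_mono (inducedFunctor_le _ _)
        refine inducedFunctor_ne_bot (h𝓦 W hW) hp' hPb ?_
        change U = ⊥
        rw [← Subgroup.map_comap_eq_self_of_surjective hfs U, Subgroup.map_eq_bot_iff,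
          QuotientGroup.ker_mk']
        exact Grp.le_pCore hn (P.isPGroup'.to_le hUP)
      have hmap : ∀ a ∈ E, f (x * y * a * (x * y)⁻¹) = f x * c₀ * f a * (f x * c₀)⁻¹ := fun a ha => by
        calc f (x * y * a * (x * y)⁻¹) = f x * f (y * a * y⁻¹) * (f x)⁻¹ := by simp [mul_assoc]
          _ = f x * c₀ * f a * (f x * c₀)⁻¹ := by rw [hye a ha]; simp [mul_assoc]
      refine ⟨x * y, hy.comp (hover hPN hNne hxN ?_ ?_), hmap⟩
      · rintro _ ⟨a, ha, rfl⟩; exact hy.mem hE a ha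
      · rintro _ ⟨a, ha, rfl⟩
        have h1 : x * y * a * (x * y)⁻¹ ∈ ((P : Subgroup X).map f).comap f := by
          show f (x * y * a * (x * y)⁻¹) ∈ (P : Subgroup X).map f
          rw [hmap a ha]; exact hxa (f a) ⟨a, ha, rfl⟩
        rw [hcomap] at h1
        simpa [mul_assoc] using h1
  obtain ⟨g₁, hg₁, hg₁e⟩ := key (D : Set X) hD.1 cb hcb
  set N := Subgroup.normalizer (D : Set X) with hN
  have hsame : ∀ a ∈ D, f (g₁ * a * g₁⁻¹) = f (n * a * n⁻¹) := fun a ha => by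
    rw [hg₁e a ha, hceq (f a) ⟨a, ha, rfl⟩]; simp
  have hmemD : ∀ a ∈ D, g₁ * a * g₁⁻¹ ∈ D := fun a ha => by
    have h1 : (n * a * n⁻¹)⁻¹ * (g₁ * a * g₁⁻¹) ∈ T₀ := QuotientGroup.eq.mp (hsame a ha).symm
    have h2 := D.mul_mem ((Subgroup.mem_normalizer_iff.mp hn a).mp ha) (hTD h1)
    rwa [mul_inv_cancel_left] at h2
  have hg₁N : g₁ ∈ N := mem_normalizer_of_forall_mem hmemD
  let St : Subgroup N :=
    { carrier := {y | ∀ a ∈ D, f ((y : X) * a * (y : X)⁻¹) = f a}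
      mul_mem' := fun {y z} hy hz a ha => by
        calc f (((y * z : N) : X) * a * ((y * z : N) : X)⁻¹)
            = f ((y : X) * ((z : X) * a * (z : X)⁻¹) * (y : X)⁻¹) := by simp [mul_assoc]
          _ = f ((z : X) * a * (z : X)⁻¹) := hy _ ((Subgroup.mem_normalizer_iff.mp z.2 a).mp ha)
          _ = f a := hz a ha
      one_mem' := fun a _ => by simp
      inv_mem' := fun {y} hy a ha => by
        have h1 := hy _ ((Subgroup.mem_normalizer_iff''.mp y.2 a).mp ha)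
        rw [show (y : X) * ((y : X)⁻¹ * a * y) * (y : X)⁻¹ = a by group] at h1
        simpa using h1.symm }
  haveI hStn : St.Normal := ⟨fun y hy z a ha => by
    have h1 := hy _ ((Subgroup.mem_normalizer_iff''.mp z.2 a).mp ha)
    calc f (((z * y * z⁻¹ : N) : X) * a * ((z * y * z⁻¹ : N) : X)⁻¹)
        = f z * f ((y : X) * ((z : X)⁻¹ * a * z) * (y : X)⁻¹) * (f z)⁻¹ := by simp [mul_assoc]
      _ = f a := by rw [h1]; simp [mul_assoc]⟩
  set CD := (Subgroup.centralizer (D : Set X)).subgroupOf N with hCD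
  haveI hCDn : CD.Normal := by
    refine ⟨fun y hy z => Subgroup.mem_centralizer_iff.mpr fun a ha => ?_⟩
    have ha' := (Subgroup.mem_normalizer_iff''.mp z.2 a).mp ha
    have h1 : (z : X)⁻¹ * a * z * (y : X) = (y : X) * ((z : X)⁻¹ * a * z) :=
      Subgroup.mem_centralizer_iff.mp hy _ ha'
    calc a * ((z * y * z⁻¹ : N) : X) = z * (((z : X)⁻¹ * a * z) * y) * (z : X)⁻¹ := by simp [mul_assoc]
      _ = _ := by rw [h1]; simp [mul_assoc]
  set PN := ((P : Subgroup X) ⊓ N).subgroupOf N with hPN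
  obtain ⟨SP, hSP⟩ : ∃ SP : Sylow p N, (SP : Subgroup N) = PN :=
    ⟨((P.isPGroup'.to_le inf_le_left).comap_subtype (K := N)).toSylow hD.2.2.2, rfl⟩
  have hcop : ∀ y : N, y ∈ St → (orderOf y).Coprime p → y ∈ CD := by
    intro y hy hyp
    rw [← Subgroup.orderOf_coe] at hyp
    obtain ⟨k, hk⟩ := hXC y
    have hyC : (y : X) ∈ C := by
      obtain ⟨j, hj⟩ := exists_pow_eq_self_of_coprime (hyp.symm.pow_left k)
      rw [← hj]; exact C.pow_mem hk j
    refine Subgroup.mem_centralizer_iff.mpr fun a ha => ?_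
    set z := (y : X) * a * (y : X)⁻¹ * a⁻¹ with hz
    have hzT : z ∈ T₀ := by
      rw [← QuotientGroup.eq_one_iff]
      show f z = 1
      rw [hz, map_mul, hy a ha, map_inv, mul_inv_cancel]
    obtain ⟨j, hj⟩ := (Grp.pCore_isPGroup (p := p) (G := X)) ⟨z, hzT⟩
    exact (commute_of_stabilises hyp (z := z) (k := j) (by simpa using congrArg Subtype.val hj)
      (Subgroup.mem_centralizer_iff.mp hyC z hzT).symm (by rw [hz]; group)).symm.eq
  haveI : (CD ⊓ St).Normal := inferInstance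
  have hSs : Grp.IsSylowIn p (PN ⊓ St) St :=
    ⟨inf_le_right, hSP ▸ SP.isPGroup'.to_le inf_le_left, by
      rw [Subgroup.inf_relIndex_right, ← hSP]; exact Grp.sylow_inf_normal_relIndex SP St⟩
  have hStle : St ≤ (PN ⊓ St) ⊔ (CD ⊓ St) := by
    refine Grp.le_of_forall_sylow (sup_le inf_le_right inf_le_right) fun q hq => ?_
    rcases eq_or_ne q p with rfl | hqp
    · exact ⟨_, hSs, le_sup_left⟩
    obtain ⟨Y, hY⟩ := Grp.exists_isSylowIn q St
    refine ⟨Y, hY, fun y hy => le_sup_right (a := PN ⊓ St) ⟨hcop y (hY.1 hy) ?_, hY.1 hy⟩⟩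
    obtain ⟨j, hj⟩ := hY.2.1 ⟨y, hy⟩
    refine Nat.Coprime.coprime_dvd_left
      (orderOf_dvd_of_pow_eq_one (x := y) (n := q ^ j) (by simpa using congrArg Subtype.val hj))
      (((Nat.coprime_primes hq.out (Fact.out : p.Prime)).mpr hqp).pow_left j)
  set y : N := ⟨g₁⁻¹ * n, N.mul_mem (N.inv_mem hg₁N) hn⟩ with hy
  have hySt : y ∈ St := fun a ha => by
    calc f ((y : X) * a * (y : X)⁻¹) = (f g₁)⁻¹ * f (n * a * n⁻¹) * f g₁ := by simp [hy, mul_assoc]
      _ = f a := by rw [← hsame a ha]; simp [mul_assoc]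
  obtain ⟨t, ht, z, hz, htz⟩ := Subgroup.mem_sup_of_normal_right.mp (hStle hySt)
  have htN : ∀ a ∈ D, (t : X) * a * (t : X)⁻¹ ∈ D := fun a ha =>
    (Subgroup.mem_normalizer_iff.mp t.2 a).mp ha
  have he : ∀ a ∈ D, g₁ * t * a * (g₁ * t)⁻¹ = n * a * n⁻¹ := fun a ha => by
    have hza : (z : X) * a * (z : X)⁻¹ = a := by
      have h1 : a * (z : X) = (z : X) * a := Subgroup.mem_centralizer_iff.mp hz.1 a ha
      rw [← h1, mul_inv_cancel_right]
    have hn' : n = g₁ * t * z := by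
      rw [mul_assoc, ← Subgroup.coe_mul, htz]; simp [hy]
    calc g₁ * t * a * (g₁ * t)⁻¹ = g₁ * t * ((z : X) * a * (z : X)⁻¹) * (g₁ * t)⁻¹ := by rw [hza]
      _ = n * a * n⁻¹ := by rw [hn']; group
  refine Chn.congr he (Chn.comp ?_ (hg₁.mono ?_))
  · obtain ⟨W, hW⟩ := hne
    refine chn_step ⟨_, ⟨W, hW, rfl⟩, ?_⟩ fun a ha => hD.1 (htN a ha)
    exact normalizer_le_normalizer_inducedFunctor (h𝓦 W hW) P.isPGroup'
      (Subgroup.le_normalizer ht.1.1)
  · rintro _ ⟨a, ha, rfl⟩; exact htN a ha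

end step

end Cfsg.Agent.Invol

namespace Cfsg.Agent.Invol

universe u

variable {p : ℕ} [hp : Fact p.Prime] {𝓦 : Set (∀ (Q : Type u) [Group Q], Subgroup Q)}
  (h𝓦 : ∀ W ∈ 𝓦, Cfsg.IsCharPFunctor.{u} p W) (hne : 𝓦.Nonempty)

include h𝓦 hne in
/-- Control of strong fusion in the constrained sections gives it in all sections. -/
theorem fusCtrl_of_local {G : Type u} [Group G] [Finite G]
    (hloc : ∀ (X : Type u) [Group X] [Finite X], IsSectionOf X G →
      Subgroup.centralizer (Cfsg.pCore p X : Set X) ≤ Cfsg.pCore p X → FusCtrl p 𝓦 X) :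
    ∀ (X : Type u) [Group X] [Finite X], IsSectionOf X G → FusCtrl p 𝓦 X := by
  suffices key : ∀ n : ℕ, ∀ (X : Type u) [Group X] [Finite X], Nat.card X = n → IsSectionOf X G →
      FusCtrl p 𝓦 X from fun X _ _ h => key _ X rfl h
  intro n
  induction n using Nat.strong_induction_on with
  | _ n ih =>
  intro X _ _ hX hsec
  have hsub : ∀ H : Subgroup X, H ≠ ⊤ → FusCtrl p 𝓦 H := fun H hH =>
    ih _ (hX ▸ Grp.card_lt_of_ne_top hH) H rfl ((IsSectionOf.of_subgroup H).trans hsec)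
  have hquot : ∀ (R : Subgroup X) [R.Normal], R ≠ ⊥ → FusCtrl p 𝓦 (X ⧸ R) := fun R _ hR =>
    ih _ (hX ▸ Grp.card_quotient_lt hR) (X ⧸ R) rfl
      ((IsSectionOf.of_surjective _ (QuotientGroup.mk'_surjective R)).trans hsec)
  haveI : (Cfsg.pPrimeCore p X).Normal := Grp.pPrimeCore_isNormal
  by_cases hL : Cfsg.pPrimeCore p X = ⊥
  swap
  · exact fusCtrl_of_coprime_quotient h𝓦 _ Grp.pPrimeCore_coprime (hquot _ hL)
  by_cases hT : Cfsg.pCore p X = ⊥
  · exact fusCtrl_of_pCore_eq_bot h𝓦 hsub hT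
  by_cases hC : Subgroup.centralizer (Cfsg.pCore p X : Set X) ≤ Cfsg.pCore p X
  · exact hloc X hsec hC
  · exact fusCtrl_of_centralizer_not_le h𝓦 hne hsub hquot hL hT hC

include h𝓦 in
/-- Hypotheses on the quotients `K/R` are hypotheses on all sections. -/
theorem fusCtrl_of_sections {G : Type u} [Group G] [Finite G]
    (h : ∀ (K R : Subgroup G) [(R.subgroupOf K).Normal],
      Subgroup.centralizer ((Cfsg.pCore p (↥K ⧸ R.subgroupOf K) : Subgroup (↥K ⧸ R.subgroupOf K)) :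
        Set (↥K ⧸ R.subgroupOf K)) ≤ Cfsg.pCore p (↥K ⧸ R.subgroupOf K) →
      FusCtrl p 𝓦 (↥K ⧸ R.subgroupOf K))
    (X : Type u) [Group X] [Finite X] (hX : IsSectionOf X G)
    (hC : Subgroup.centralizer (Cfsg.pCore p X : Set X) ≤ Cfsg.pCore p X) : FusCtrl p 𝓦 X := by
  obtain ⟨K, R, hR, ⟨e⟩⟩ := hX.exists_quotient
  exact fusCtrl_of_mulEquiv h𝓦 e (h K R (centralizer_pCore_transport e hC))

end Cfsg.Agent.Invol
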