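import Mathlib
import Cfsg.Agent.Lib.Grp.Frattini
import Cfsg.Agent.Lib.Invol.PStableClass

/-!
# Critical subgroups of `p`-groups
-/

set_option autoImplicit false

open scoped commutatorElement

namespace Cfsg.Agent.Invol

/-- Thompson's critical subgroup. -/
theorem exists_critical {P : Type*} [Group P] [Finite P] {p : ℕ} [hp : Fact p.Prime]
    (hP : IsPGroup p P) : ∃ H : Subgroup P, H.Characteristic ∧
      ⁅H, (⊤ : Subgroup P)⁆ ≤ H ⊓ Subgroup.centralizer (H : Set P) ∧
      (∀ a ∈ H, a ^ p ∈ H ⊓ Subgroup.centralizer (H : Set P)) ∧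
      Subgroup.centralizer (H : Set P) ≤ H := by
  obtain ⟨D, ⟨hDc, hDab⟩, hmax⟩ := Set.exists_max_image
    {D : Subgroup P | D.Characteristic ∧ D ≤ Subgroup.centralizer (D : Set P)}
    (fun D => Nat.card D) (Set.toFinite _) ⟨⊥, inferInstance, bot_le⟩
  haveI := hDc
  set C := Subgroup.centralizer (D : Set P) with hC
  by_cases hCD : C ≤ D
  · have h1 : D ⊓ Subgroup.centralizer (D : Set P) = D := inf_eq_left.mpr hDab
    refine ⟨D, hDc, ?_, fun a ha => ?_, hCD⟩
    · rw [h1]; exact Subgroup.commutator_le_left D ⊤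
    · rw [h1]; exact D.pow_mem ha p
  have hDC : D ≤ C := hDab
  set π := QuotientGroup.mk' D with hπ
  have hs : Function.Surjective π := QuotientGroup.mk'_surjective D
  let H : Subgroup P :=
    { carrier := {x | x ∈ C ∧ x ^ p ∈ D ∧ π x ∈ Subgroup.center (P ⧸ D)}
      mul_mem' := fun {x y} hx hy => ⟨mul_mem hx.1 hy.1, by
        have hc : Commute (π x) (π y) := (Subgroup.mem_center_iff.mp hx.2.2 (π y)).symm
        rw [← QuotientGroup.eq_one_iff]
        show π ((x * y) ^ p) = 1
        rw [map_pow, map_mul, hc.mul_pow, ← map_pow, ← map_pow,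
          show π (x ^ p) = 1 from (QuotientGroup.eq_one_iff _).mpr hx.2.1,
          show π (y ^ p) = 1 from (QuotientGroup.eq_one_iff _).mpr hy.2.1, one_mul],
        by rw [map_mul]; exact mul_mem hx.2.2 hy.2.2⟩
      one_mem' := ⟨one_mem _, by simp, by simp⟩
      inv_mem' := fun {x} hx => ⟨inv_mem hx.1, by rw [inv_pow]; exact inv_mem hx.2.1,
        by rw [map_inv]; exact inv_mem hx.2.2⟩ }
  have hHmem : ∀ {x : P}, x ∈ H ↔ x ∈ C ∧ x ^ p ∈ D ∧ π x ∈ Subgroup.center (P ⧸ D) := Iff.rfl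
  have hHchar : H.Characteristic := by
    refine Subgroup.characteristic_iff_le_comap.mpr fun φ x hx => ?_
    obtain ⟨h1, h2, h3⟩ := hHmem.mp hx
    have hD' : D.comap φ.toMonoidHom = D := Subgroup.Characteristic.fixed inferInstance φ
    have hC' : C.comap φ.toMonoidHom = C := Subgroup.Characteristic.fixed inferInstance φ
    refine hHmem.mpr ⟨?_, ?_, ?_⟩
    · rw [← hC'] at h1; exact h1
    · rw [← hD'] at h2; simpa [map_pow] using h2
    · rw [Subgroup.mem_center_iff]
      intro z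
      obtain ⟨z, rfl⟩ := hs z
      obtain ⟨y, rfl⟩ := φ.surjective z
      have h4 : π ⁅y, x⁆ = 1 := by
        rw [map_commutatorElement, commutatorElement_eq_one_iff_mul_comm]
        exact Subgroup.mem_center_iff.mp h3 (π y)
      have h5 : ⁅y, x⁆ ∈ D.comap φ.toMonoidHom := by rw [hD']; exact (QuotientGroup.eq_one_iff _).mp h4
      have h6 : π ⁅φ y, φ x⁆ = 1 := by
        rw [← map_commutatorElement]
        exact (QuotientGroup.eq_one_iff _).mpr h5
      rw [map_commutatorElement, commutatorElement_eq_one_iff_mul_comm] at h6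
      exact h6
  have hDH : D ≤ H := fun x hx => hHmem.mpr ⟨hDC hx, D.pow_mem hx p, by
    rw [show π x = 1 from (QuotientGroup.eq_one_iff _).mpr hx]; exact one_mem _⟩
  -- every normal subgroup of `C` above `D` and different from it meets `H` outside `D`
  have hmeet : ∀ Q : Subgroup P, Q.Normal → Q ≤ C → ¬ Q ≤ D → ∃ x ∈ Q ⊔ D, x ∈ H ∧ x ∉ D := by
    intro Q hQ hQC hQD
    haveI := hQ
    have hn : (Q.map π).Normal := hQ.map _ hs
    haveI := hn
    have hne : Q.map π ≠ ⊥ := by
      rw [ne_eq, Subgroup.map_eq_bot_iff, hπ, QuotientGroup.ker_mk']; exact hQD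
    haveI : Nontrivial (Q.map π) := (Subgroup.nontrivial_iff_ne_bot _).mpr hne
    haveI := (hP.to_quotient D).isNilpotent
    obtain ⟨b, hb, hb1⟩ : ∃ b : P ⧸ D, b ∈ Q.map π ⊓ Subgroup.center (P ⧸ D) ∧ b ≠ 1 :=
      ((Subgroup.bot_or_exists_ne_one _).resolve_left
        (Grp.inf_center_ne_bot _ hne))
    obtain ⟨k, hk⟩ := (hP.to_quotient D) b
    obtain ⟨m, hm, hm'⟩ : ∃ m, b ^ p ^ m ≠ 1 ∧ b ^ p ^ (m + 1) = 1 := by
      induction k with
      | zero => simp at hk; exact absurd hk hb1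
      | succ k ih =>
        by_cases h : b ^ p ^ k = 1
        · exact ih h
        · exact ⟨k, h, hk⟩
    obtain ⟨x, hx, hxb⟩ := (show b ^ p ^ m ∈ Q.map π from pow_mem hb.1 _)
    refine ⟨x, le_sup_left (b := D) hx, hHmem.mpr ⟨hQC hx, ?_, ?_⟩, fun h => hm ?_⟩
    · rw [← QuotientGroup.eq_one_iff]
      show π (x ^ p) = 1
      rw [map_pow, hxb, ← pow_mul, ← pow_succ]; exact hm'
    · rw [hxb]; exact pow_mem hb.2 _
    · rw [← hxb]; exact (QuotientGroup.eq_one_iff _).mpr h
  haveI := hHchar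
  have hHC : H ≤ C := fun x hx => (hHmem.mp hx).1
  have hDz : D ≤ H ⊓ Subgroup.centralizer (H : Set P) := by
    refine le_inf hDH fun d hd => Subgroup.mem_centralizer_iff.mpr fun h hh => ?_
    exact (Subgroup.mem_centralizer_iff.mp (hHC hh) d hd).symm
  have hz : H ⊓ Subgroup.centralizer (H : Set P) = D := by
    refine (Subgroup.eq_of_le_of_card_ge hDz (hmax _ ⟨?_, ?_⟩)).symm
    · refine Subgroup.characteristic_iff_comap_eq.mpr fun φ => ?_
      rw [Subgroup.comap_inf, Subgroup.Characteristic.fixed (H := H) inferInstance φ,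
        Subgroup.Characteristic.fixed (H := Subgroup.centralizer (H : Set P)) inferInstance φ]
    · exact inf_le_right.trans (Subgroup.centralizer_le inf_le_left)
  refine ⟨H, hHchar, ?_, fun a ha => hz.symm ▸ (hHmem.mp ha).2.1, ?_⟩
  · rw [hz, Subgroup.commutator_le]
    intro h hh y _
    rw [← QuotientGroup.eq_one_iff]
    show π ⁅h, y⁆ = 1
    rw [map_commutatorElement, commutatorElement_eq_one_iff_mul_comm]
    exact (Subgroup.mem_center_iff.mp (hHmem.mp hh).2.2 (π y)).symm
  · by_contra hQH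
    set Q := Subgroup.centralizer (H : Set P) with hQ
    have hQC : Q ≤ C := Subgroup.centralizer_le hDH
    obtain ⟨x, hx, hxH, hxD⟩ := hmeet Q inferInstance hQC
      (fun h => hQH (h.trans hDH))
    refine hxD ?_
    have hDQ : D ≤ Q := hDz.trans inf_le_right
    rw [sup_eq_left.mpr hDQ] at hx
    rw [← hz]; exact ⟨hxH, hx⟩

/-- A `p'`-automorphism fixing a self-centralising characteristic subgroup is trivial. -/
theorem aut_eq_one_of_fixed {P : Type*} [Group P] [Finite P] {p : ℕ} [hp : Fact p.Prime]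
    (hP : IsPGroup p P) {H : Subgroup P} [H.Normal] (hC : Subgroup.centralizer (H : Set P) ≤ H)
    {a : MulAut P} (ha : (orderOf a).Coprime p) (h : ∀ x ∈ H, a x = x) : a = 1 := by
  have h2 : ∀ r, r⁻¹ * a r ∈ H := fun r => hC (Subgroup.mem_centralizer_iff.mpr fun y hy => by
    have h3 := h _ (Subgroup.Normal.conj_mem inferInstance y hy r)
    rw [map_mul, map_mul, map_inv, h y hy] at h3
    calc y * (r⁻¹ * a r) = r⁻¹ * (r * y * r⁻¹) * a r := by group
      _ = r⁻¹ * (a r * y * (a r)⁻¹) * a r := by rw [h3]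
      _ = r⁻¹ * a r * y := by group)
  have h1 := orderOf_dvd_of_pow_eq_one (pow_card_eq_one_of_stabilises H h h2)
  obtain ⟨n, hn⟩ := IsPGroup.iff_card.mp hP
  rw [hn] at h1
  exact orderOf_eq_one_iff.mp (Nat.eq_one_of_dvd_coprimes (ha.pow_right n) dvd_rfl h1)

end Cfsg.Agent.Invol
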