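import Mathlib
import Cfsg.Prelude.Def_LocalEven
import Cfsg.Agent.Lib.Invol.ThompsonComplement

/-!
# Invariant complements for subnormal subgroups acting on a minimal normal abelian subgroup
-/

set_option autoImplicit false

open scoped commutatorElement Pointwise

namespace Cfsg.Agent.Invol

variable {Q : Type*} [Group Q]

/-- `W` is a minimal nontrivial `L`-invariant subgroup of `V`. -/
def IsInvSimple (V L W : Subgroup Q) : Prop :=
  W ≠ ⊥ ∧ W ≤ V ∧ L ≤ Subgroup.normalizer (W : Set Q) ∧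
    ∀ M ≤ W, L ≤ Subgroup.normalizer (M : Set Q) → M = ⊥ ∨ M = W

/-- `V` is generated by its minimal `L`-invariant subgroups. -/
def IsSemisimple (V L : Subgroup Q) : Prop :=
  V ≤ ⨆ W ∈ {W | IsInvSimple V L W}, W

theorem le_normalizer_sup [Finite Q] {L A B : Subgroup Q} (hA : L ≤ Subgroup.normalizer (A : Set Q))
    (hB : L ≤ Subgroup.normalizer (B : Set Q)) :
    L ≤ Subgroup.normalizer ((A ⊔ B : Subgroup Q) : Set Q) := by
  intro l hl
  refine mem_normalizer_of_forall_mem ?_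
  suffices h : A ⊔ B ≤ (A ⊔ B).comap (MulAut.conj l).toMonoidHom from fun x hx => h hx
  exact sup_le (fun x hx => le_sup_left (b := B) ((Subgroup.mem_normalizer_iff.mp (hA hl) x).mp hx))
    (fun x hx => le_sup_right (a := A) ((Subgroup.mem_normalizer_iff.mp (hB hl) x).mp hx))

theorem le_normalizer_inf [Finite Q] {L A B : Subgroup Q} (hA : L ≤ Subgroup.normalizer (A : Set Q))
    (hB : L ≤ Subgroup.normalizer (B : Set Q)) :
    L ≤ Subgroup.normalizer ((A ⊓ B : Subgroup Q) : Set Q) := fun l hl =>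
  mem_normalizer_of_forall_mem fun x hx =>
    ⟨(Subgroup.mem_normalizer_iff.mp (hA hl) x).mp hx.1, (Subgroup.mem_normalizer_iff.mp (hB hl) x).mp hx.2⟩

theorem exists_mul_of_mem_sup {V A B : Subgroup Q} (hab : ∀ a ∈ V, ∀ b ∈ V, a * b = b * a)
    (hA : A ≤ V) (hB : B ≤ V) {x : Q} (hx : x ∈ A ⊔ B) : ∃ a ∈ A, ∃ b ∈ B, a * b = x := by
  let P : Subgroup Q :=
    { carrier := {x | ∃ a ∈ A, ∃ b ∈ B, a * b = x}
      mul_mem' := by
        rintro _ _ ⟨a, ha, b, hb, rfl⟩ ⟨a', ha', b', hb', rfl⟩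
        refine ⟨a * a', mul_mem ha ha', b * b', mul_mem hb hb', ?_⟩
        calc a * a' * (b * b') = a * (a' * b) * b' := by group
          _ = a * (b * a') * b' := by rw [hab a' (hA ha') b (hB hb)]
          _ = a * b * (a' * b') := by group
      one_mem' := ⟨1, one_mem _, 1, one_mem _, one_mul 1⟩
      inv_mem' := by
        rintro _ ⟨a, ha, b, hb, rfl⟩
        refine ⟨a⁻¹, inv_mem ha, b⁻¹, inv_mem hb, ?_⟩
        rw [hab _ (inv_mem (hA ha)) _ (inv_mem (hB hb)), mul_inv_rev] }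
  exact (sup_le (fun a ha => ⟨a, ha, 1, one_mem _, mul_one a⟩)
    (fun b hb => ⟨1, one_mem _, b, hb, one_mul b⟩) : A ⊔ B ≤ P) hx

theorem exists_invariant_complement [Finite Q] {V L M : Subgroup Q}
    (hab : ∀ a ∈ V, ∀ b ∈ V, a * b = b * a) (hss : IsSemisimple V L) (hM : M ≤ V)
    (hLM : L ≤ Subgroup.normalizer (M : Set Q)) :
    ∃ M' ≤ V, L ≤ Subgroup.normalizer (M' : Set Q) ∧ M ⊓ M' = ⊥ ∧ V ≤ M ⊔ M' := by
  obtain ⟨M', ⟨hM'V, hLM', hdis⟩, hmax⟩ := Set.exists_max_image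
    {M' : Subgroup Q | M' ≤ V ∧ L ≤ Subgroup.normalizer (M' : Set Q) ∧ M ⊓ M' = ⊥}
    (fun M' => Nat.card M') (Set.toFinite _)
    ⟨⊥, bot_le, by rw [Subgroup.normalizer_eq_top]; exact le_top, inf_bot_eq M⟩
  refine ⟨M', hM'V, hLM', hdis, hss.trans (iSup₂_le fun W hW => ?_)⟩
  obtain ⟨hW1, hWV, hLW, hWmin⟩ := hW
  rcases hWmin (W ⊓ (M ⊔ M')) inf_le_left (le_normalizer_inf hLW (le_normalizer_sup hLM hLM')) with h | h
  swap
  · exact h.ge.trans inf_le_right
  exfalso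
  have hdis' : M ⊓ (M' ⊔ W) = ⊥ := by
    refine (Subgroup.eq_bot_iff_forall _).mpr fun x hx => ?_
    obtain ⟨m', hm', w, hw, rfl⟩ := exists_mul_of_mem_sup hab hM'V hWV hx.2
    have h1 : w ∈ M ⊔ M' := by
      have := mul_mem (inv_mem (le_sup_right (a := M) hm')) (le_sup_left (b := M') hx.1)
      rwa [inv_mul_cancel_left] at this
    have hw1 : w = 1 := Subgroup.mem_bot.mp (h ▸ ⟨hw, h1⟩)
    subst hw1
    rw [mul_one] at hx ⊢
    exact Subgroup.mem_bot.mp (hdis ▸ ⟨hx.1, hm'⟩)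
  have hcard := hmax (M' ⊔ W) ⟨sup_le hM'V hWV, le_normalizer_sup hLM' hLW, hdis'⟩
  have heq := Subgroup.eq_of_le_of_card_ge (le_sup_left : M' ≤ M' ⊔ W) hcard
  have hWM' : W ≤ M ⊔ M' := (le_sup_right.trans heq.ge).trans le_sup_right
  exact hW1 (le_bot_iff.mp (h ▸ le_inf le_rfl hWM'))

theorem isSemisimple_top {V : Subgroup Q} (hV : V.Normal) (hne : V ≠ ⊥)
    (hmin : ∀ N : Subgroup Q, N.Normal → N ≤ V → N = ⊥ ∨ N = V) : IsSemisimple V ⊤ :=
  le_iSup₂_of_le V ⟨hne, le_rfl, by rw [Subgroup.normalizer_eq_top], fun M hM hn =>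
    hmin M (Subgroup.normalizer_eq_top_iff.mp (top_le_iff.mp hn)) hM⟩ le_rfl

/-- Semisimplicity passes to normal subgroups. -/
theorem IsSemisimple.normal [Finite Q] {V L L₁ : Subgroup Q} (hss : IsSemisimple V L) (hle : L₁ ≤ L)
    (hn : L ≤ Subgroup.normalizer (L₁ : Set Q)) : IsSemisimple V L₁ := by
  refine hss.trans (iSup₂_le fun W hW => ?_)
  obtain ⟨hW1, hWV, hLW, hWmin⟩ := hW
  set U := ⨆ W' ∈ {W' | IsInvSimple V L₁ W' ∧ W' ≤ W}, W' with hU
  have hUW : U ≤ W := iSup₂_le fun W' hW' => hW'.2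
  have hLU : L ≤ Subgroup.normalizer (U : Set Q) := by
    intro l hl
    refine mem_normalizer_of_forall_mem ?_
    suffices h : U ≤ U.comap (MulAut.conj l).toMonoidHom from fun x hx => h hx
    refine iSup₂_le fun W' hW' x hx => ?_
    obtain ⟨⟨h1, h2, h3, h4⟩, h5⟩ := hW'
    set φ := MulAut.conj l with hφ
    have hWl : W.map φ.toMonoidHom = W := by
      rw [hφ, Grp.map_conj_eq_smul, ← Grp.mem_normalizer_iff_smul]; exact hLW hl
    have hconj : ∀ M : Subgroup Q, L₁ ≤ Subgroup.normalizer (M : Set Q) →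
        ∀ k : Q, k ∈ L → L₁ ≤ Subgroup.normalizer ((M.map (MulAut.conj k).toMonoidHom : Subgroup Q) : Set Q) := by
      intro M hM k hk a ha
      refine mem_normalizer_of_forall_mem ?_
      rintro _ ⟨m, hm, rfl⟩
      have ha' : k⁻¹ * a * k ∈ L₁ := (Subgroup.mem_normalizer_iff''.mp (hn hk) a).mp ha
      refine ⟨(k⁻¹ * a * k) * m * (k⁻¹ * a * k)⁻¹, (Subgroup.mem_normalizer_iff.mp (hM ha') m).mp hm, ?_⟩
      simp [mul_assoc]
    have hsimple : IsInvSimple V L₁ (W'.map φ.toMonoidHom) := by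
      refine ⟨by rwa [ne_eq, Subgroup.map_eq_bot_iff_of_injective _ φ.injective],
        ((Subgroup.map_mono h5).trans hWl.le).trans hWV, hconj W' h3 l hl, fun M hM hM' => ?_⟩
      have h6 := h4 (M.map (MulAut.conj l⁻¹).toMonoidHom) (by
        rintro _ ⟨m, hm, rfl⟩
        obtain ⟨w, hw, rfl⟩ := hM hm
        simpa [hφ, mul_assoc] using hw) (hconj M hM' l⁻¹ (inv_mem hl))
      have hM2 : (M.map (MulAut.conj l⁻¹).toMonoidHom).map φ.toMonoidHom = M := by
        rw [Subgroup.map_map]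
        convert Subgroup.map_id M
        ext x; simp [hφ, mul_assoc]
      rcases h6 with h6 | h6
      · left; rw [← hM2, h6, Subgroup.map_bot]
      · right; rw [← hM2, h6]
    exact le_iSup₂_of_le (f := fun W' (_ : W' ∈ {W' | IsInvSimple V L₁ W' ∧ W' ≤ W}) => W')
      (W'.map φ.toMonoidHom) ⟨hsimple, (Subgroup.map_mono h5).trans hWl.le⟩ le_rfl ⟨x, hx, rfl⟩
  obtain ⟨W₁, ⟨hW₁, hW₁W, hL₁⟩, hW₁min⟩ := Set.exists_min_image
    {W' : Subgroup Q | W' ≠ ⊥ ∧ W' ≤ W ∧ L₁ ≤ Subgroup.normalizer (W' : Set Q)}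
    (fun W' => Nat.card W') (Set.toFinite _) ⟨W, hW1, le_rfl, hle.trans hLW⟩
  have hUne : U ≠ ⊥ := by
    refine fun h => hW₁ (le_bot_iff.mp (h ▸ le_iSup₂_of_le W₁ ⟨⟨hW₁, hW₁W.trans hWV, hL₁,
      fun M hM hM' => or_iff_not_imp_left.mpr fun hM1 =>
        Subgroup.eq_of_le_of_card_ge hM (hW₁min M ⟨hM1, hM.trans hW₁W, hM'⟩)⟩, hW₁W⟩ le_rfl))
  rcases hWmin U hUW hLU with h | h
  · exact absurd h hUne
  · exact h.ge.trans (iSup₂_le fun W' hW' =>
      le_iSup₂_of_le (f := fun W' (_ : W' ∈ {W' | IsInvSimple V L₁ W'}) => W') W' hW'.1 le_rfl)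

/-- Semisimplicity for all subgroups between two normal subgroups with `p`-group quotient. -/
theorem isSemisimple_of_pGroup_quotient [Finite Q] {p : ℕ} [Fact p.Prime] {V H K : Subgroup Q}
    [H.Normal] (hK : K.Normal) (hKp : IsPGroup p (K.map (QuotientGroup.mk' H)))
    (hV : V.Normal) (hne : V ≠ ⊥)
    (hmin : ∀ N : Subgroup Q, N.Normal → N ≤ V → N = ⊥ ∨ N = V) :
    ∀ L : Subgroup Q, H ≤ L → L ≤ K → IsSemisimple V L := by
  by_contra hcon
  push Not at hcon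
  obtain ⟨L, ⟨hHL, hLK, hL⟩, hmax⟩ := Set.exists_max_image
    {L : Subgroup Q | H ≤ L ∧ L ≤ K ∧ ¬ IsSemisimple V L} (fun L => Nat.card L) (Set.toFinite _) hcon
  rcases eq_or_ne L K with rfl | hne'
  · exact hL ((isSemisimple_top hV hne hmin).normal le_top (by rw [Subgroup.normalizer_eq_top_iff.mpr hK]))
  set π := QuotientGroup.mk' H with hπ
  haveI : Group.IsNilpotent (K.map π) := hKp.isNilpotent
  set L' := (L.map π).subgroupOf (K.map π) with hL'
  have hLpre : ∀ x ∈ K, π x ∈ L.map π → x ∈ L := by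
    intro x _ hx
    have h1 : x ∈ (L.map π).comap π := hx
    rwa [Subgroup.comap_map_eq_self (by rw [hπ, QuotientGroup.ker_mk']; exact hHL)] at h1
  have hlt : L' < ⊤ := by
    refine lt_top_iff_ne_top.mpr fun h => hne' (le_antisymm hLK fun x hx => hLpre x hx ?_)
    exact (h.ge (Subgroup.mem_top (⟨π x, ⟨x, hx, rfl⟩⟩ : K.map π)) :)
  obtain ⟨⟨_, ⟨y, hy, rfl⟩⟩, hyN, hyL⟩ := SetLike.exists_of_lt
    (Group.normalizerCondition_of_isNilpotent L' hlt)
  set N := Subgroup.normalizer (L : Set Q) ⊓ K with hN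
  have hLN : L ≤ N := le_inf Subgroup.le_normalizer hLK
  have hyN' : y ∈ N := by
    refine ⟨mem_normalizer_of_forall_mem fun x hx => ?_, hy⟩
    refine hLpre _ (mul_mem (mul_mem hy (hLK hx)) (inv_mem hy)) ?_
    have h1 := (Subgroup.mem_normalizer_iff.mp hyN ⟨π x, ⟨x, hLK hx, rfl⟩⟩).mp ⟨x, hx, rfl⟩
    rw [map_mul, map_mul, map_inv]
    exact h1
  have hyL' : y ∉ L := fun h => hyL ⟨y, h, rfl⟩
  have hlt' : L < N := lt_of_le_of_ne hLN fun h => hyL' (h ▸ hyN')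
  have hNss : IsSemisimple V N := by
    by_contra hN'
    exact (Set.Finite.card_lt_card (Set.toFinite (N : Set Q)) (SetLike.coe_ssubset_coe.mpr hlt')).not_ge
      (hmax N ⟨hHL.trans hLN, inf_le_right, hN'⟩)
  exact hL (hNss.normal hLN inf_le_left)

end Cfsg.Agent.Invol
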