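import Mathlib
import Cfsg.Agent.Lib.Invol.NilpotentAction
import Cfsg.Agent.Lib.Invol.KInfinity

/-!
# Degrees of nilpotent action: from a self-centralising subgroup to the whole `p`-group
-/

set_option autoImplicit false

open scoped commutatorElement

namespace Cfsg.Agent.Invol

variable {H : Type*} [Group H]

/-- `[g, x] = g x g⁻¹ x⁻¹`. -/
def cg (g x : H) : H := g * x * g⁻¹ * x⁻¹

theorem cg_iterate_map {H' : Type*} [Group H'] (f : H →* H') (g x : H) :
    ∀ n : ℕ, f ((cg g)^[n] x) = (cg (f g))^[n] (f x)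
  | 0 => rfl
  | n + 1 => by
    rw [Function.iterate_succ_apply', Function.iterate_succ_apply', ← cg_iterate_map f g x n]
    simp [cg]

theorem cg_iterate_eq_one_of_le {g x : H} {m n : ℕ} (hmn : m ≤ n) (h : (cg g)^[m] x = 1) :
    (cg g)^[n] x = 1 := by
  induction hmn with
  | refl => exact h
  | step _ ih => rw [Function.iterate_succ_apply', ih]; simp [cg]

theorem cg_iterate_conj (g x : H) :
    ∀ n : ℕ, (cg g)^[n] (g * x * g⁻¹) = g * (cg g)^[n] x * g⁻¹
  | 0 => rfl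
  | n + 1 => by
    rw [Function.iterate_succ_apply', Function.iterate_succ_apply', cg_iterate_conj g x n]
    simp only [cg]; group

theorem cg_iterate_conj_inv (g x : H) (n : ℕ) :
    (cg g)^[n] (g⁻¹ * x * g) = g⁻¹ * (cg g)^[n] x * g := by
  have h := cg_iterate_conj g (g⁻¹ * x * g) n
  rw [show g * (g⁻¹ * x * g) * g⁻¹ = x by group] at h
  rw [h]; group

theorem cg_mul {g a b : H} {B : Subgroup H} (hab : ∀ a ∈ B, ∀ b ∈ B, a * b = b * a)
    (hg : ∀ a ∈ B, g * a * g⁻¹ ∈ B) (ha : a ∈ B) (hb : b ∈ B) :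
    cg g (a * b) = cg g a * cg g b := by
  have h1 : cg g b ∈ B := mul_mem (hg b hb) (inv_mem hb)
  calc cg g (a * b) = g * a * g⁻¹ * cg g b * a⁻¹ := by simp only [cg]; group
    _ = g * a * g⁻¹ * (cg g b * a⁻¹) := by rw [mul_assoc]
    _ = g * a * g⁻¹ * (a⁻¹ * cg g b) := by rw [hab _ h1 _ (inv_mem ha)]
    _ = cg g a * cg g b := by simp only [cg]; group

theorem cg_iterate_mem {g : H} {B : Subgroup H} (hg : ∀ a ∈ B, g * a * g⁻¹ ∈ B) {a : H}
    (ha : a ∈ B) : ∀ n : ℕ, (cg g)^[n] a ∈ B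
  | 0 => ha
  | n + 1 => by
    rw [Function.iterate_succ_apply']
    exact mul_mem (hg _ (cg_iterate_mem hg ha n)) (inv_mem (cg_iterate_mem hg ha n))

theorem cg_iterate_mul {g a b : H} {B : Subgroup H} (hab : ∀ a ∈ B, ∀ b ∈ B, a * b = b * a)
    (hg : ∀ a ∈ B, g * a * g⁻¹ ∈ B) (ha : a ∈ B) (hb : b ∈ B) :
    ∀ n : ℕ, (cg g)^[n] (a * b) = (cg g)^[n] a * (cg g)^[n] b
  | 0 => rfl
  | n + 1 => by
    rw [Function.iterate_succ_apply', Function.iterate_succ_apply', Function.iterate_succ_apply',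
      cg_iterate_mul hab hg ha hb n, cg_mul hab hg (cg_iterate_mem hg ha n) (cg_iterate_mem hg hb n)]

theorem cg_iterate_inv {g a : H} {B : Subgroup H} (hab : ∀ a ∈ B, ∀ b ∈ B, a * b = b * a)
    (hg : ∀ a ∈ B, g * a * g⁻¹ ∈ B) (ha : a ∈ B) (n : ℕ) :
    (cg g)^[n] a⁻¹ = ((cg g)^[n] a)⁻¹ := by
  refine eq_inv_of_mul_eq_one_left ?_
  rw [← cg_iterate_mul hab hg (inv_mem ha) ha, inv_mul_cancel]
  exact cg_iterate_eq_one_of_le (Nat.zero_le n) rfl

/-- The degree of the action on commutators: if `g` has degree `i` on `X/Y` and `j` on `B`, it has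
degree `i + j - 1` on the maps `X/Y → B`. -/
theorem commute_iterate_cg {g : H} {U X Y B : Subgroup H}
    (hgU : ∀ a ∈ U, g * a * g⁻¹ ∈ U) (hgX : ∀ a ∈ X, g * a * g⁻¹ ∈ X)
    (hgX' : ∀ a ∈ X, g⁻¹ * a * g ∈ X)
    (hYinv : ∀ a, g * a * g⁻¹ ∈ Y → a ∈ Y) (hgB : ∀ a ∈ B, g * a * g⁻¹ ∈ B)
    (hab : ∀ a ∈ B, ∀ b ∈ B, a * b = b * a)
    (hUX : ∀ u ∈ U, ∀ x ∈ X, ⁅u, x⁆ ∈ B) (hUB : ∀ u ∈ U, ∀ b ∈ B, u * b = b * u)
    (hXB : ∀ x ∈ X, ∀ b ∈ B, x * b = b * x) (hUY : ∀ u ∈ U, ∀ y ∈ Y, ⁅u, y⁆ = 1)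
    {i j : ℕ} (hj : 1 ≤ j) (hi : ∀ x ∈ X, (cg g)^[i] x ∈ Y)
    (hjB : ∀ b ∈ B, (cg g)^[j] b = 1) :
    ∀ u ∈ U, ∀ x ∈ X, ⁅(cg g)^[i + j - 1] u, x⁆ = 1 := by
  let S : ℕ → H → Prop := fun R u => ∀ k ≤ i, ∀ y ∈ X, (cg g)^[k] y ∈ Y →
    (cg g)^[k + R - i] ⁅u, y⁆ = 1
  have hbase : ∀ u ∈ U, S (i + j - 1) u := by
    intro u hu k hk y hy hky
    rcases Nat.eq_zero_or_pos k with rfl | hk0
    · rw [hUY u hu y hky]
      exact cg_iterate_eq_one_of_le (Nat.zero_le _) rfl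
    · exact cg_iterate_eq_one_of_le (by omega) (hjB _ (hUX u hu y hy))
  have hstep : ∀ R, ∀ u ∈ U, S (R + 1) u → S R (cg g u) := by
    intro R u hu hS k hk x hx hkx
    have hcu : cg g u ∈ U := mul_mem (hgU u hu) (inv_mem hu)
    rcases Nat.eq_zero_or_pos k with rfl | hk0
    · rw [hUY _ hcu x hkx]
      exact cg_iterate_eq_one_of_le (Nat.zero_le _) rfl
    set y := g⁻¹ * x * g with hy
    have hyX : y ∈ X := hgX' x hx
    have hxy : x = g * y * g⁻¹ := by rw [hy]; group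
    have hcy : cg g y ∈ X := mul_mem (hgX y hyX) (inv_mem hyX)
    have hb : ⁅u, y⁆ ∈ B := hUX u hu y hyX
    have hb' : ⁅u, cg g y⁆ ∈ B := hUX u hu _ hcy
    have h1 : ⁅cg g u, x⁆ = cg g ⁅u, y⁆ * ⁅u, cg g y⁆⁻¹ := by
      set v := g * u * g⁻¹ with hv
      have hvU : v ∈ U := hgU u hu
      have e0 : cg g u = v * u⁻¹ := rfl
      have e1 : ⁅v * u⁻¹, x⁆ = v * ⁅u⁻¹, x⁆ * v⁻¹ * ⁅v, x⁆ := by
        simp only [commutatorElement_def]; group
      have e2 : v * ⁅u⁻¹, x⁆ * v⁻¹ = ⁅u⁻¹, x⁆ := by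
        rw [hUB v hvU _ (hUX _ (inv_mem hu) x hx), mul_inv_cancel_right]
      have e3 : ⁅u⁻¹, x⁆ = ⁅u, x⁆⁻¹ := by
        calc ⁅u⁻¹, x⁆ = u⁻¹ * ⁅u, x⁆⁻¹ * u := by simp only [commutatorElement_def]; group
          _ = ⁅u, x⁆⁻¹ * u⁻¹ * u := by rw [hUB _ (inv_mem hu) _ (inv_mem (hUX u hu x hx))]
          _ = _ := inv_mul_cancel_right _ _
      have e4 : ⁅v, x⁆ = g * ⁅u, y⁆ * g⁻¹ := by
        rw [hv, hxy]; simp only [commutatorElement_def]; group
      have e5 : ⁅u, x⁆ = ⁅u, cg g y⁆ * ⁅u, y⁆ := by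
        calc ⁅u, x⁆ = ⁅u, cg g y * y⁆ := by rw [hxy]; congr 1; simp only [cg]; group
          _ = ⁅u, cg g y⁆ * (cg g y * ⁅u, y⁆ * (cg g y)⁻¹) := by
            simp only [commutatorElement_def]; group
          _ = _ := by rw [hXB _ hcy _ hb, mul_inv_cancel_right]
      rw [e0, e1, e2, e3, e4, e5, mul_inv_rev]
      have e6 := hab (⁅u, y⁆⁻¹ * ⁅u, cg g y⁆⁻¹) (mul_mem (inv_mem hb) (inv_mem hb'))
        (g * ⁅u, y⁆ * g⁻¹) (hgB _ hb)
      rw [e6]
      simp only [cg, mul_assoc]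
    have hcb : cg g ⁅u, y⁆ ∈ B := mul_mem (hgB _ hb) (inv_mem hb)
    rw [h1, cg_iterate_mul hab hgB hcb (inv_mem hb'),
      cg_iterate_inv hab hgB hb']
    have hk1 : k - 1 + 1 = k := by omega
    have h2 : (cg g)^[k + R - i] (cg g ⁅u, y⁆) = 1 := by
      rw [← Function.iterate_succ_apply]
      refine cg_iterate_eq_one_of_le (by omega) (hS k hk y hyX ?_)
      exact hYinv _ (by rwa [← cg_iterate_conj, ← hxy])
    have h3 : (cg g)^[k + R - i] ⁅u, cg g y⁆ = 1 := by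
      refine cg_iterate_eq_one_of_le (by omega) (hS (k - 1) (by omega) _ hcy ?_)
      rw [← Function.iterate_succ_apply, Nat.succ_eq_add_one, hk1]
      exact hYinv _ (by rwa [← cg_iterate_conj, ← hxy])
    rw [h2, h3, inv_one, mul_one]
  have hit : ∀ n, ∀ u ∈ U, ∀ R, S (R + n) u → (cg g)^[n] u ∈ U ∧ S R ((cg g)^[n] u) := by
    intro n
    induction n with
    | zero => exact fun u hu R h => ⟨hu, h⟩
    | succ n ih =>
      intro u hu R h
      obtain ⟨h1, h2⟩ := ih u hu (R + 1) (by rwa [show R + 1 + n = R + (n + 1) by omega])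
      rw [Function.iterate_succ_apply']
      exact ⟨mul_mem (hgU _ h1) (inv_mem h1), hstep R _ h1 h2⟩
  intro u hu x hx
  obtain ⟨-, h⟩ := hit (i + j - 1) u hu 0 (by rw [Nat.zero_add]; exact hbase u hu)
  simpa using h i le_rfl x hx (hi x hx)

end Cfsg.Agent.Invol

namespace Cfsg.Agent.Invol

variable {G : Type*} [Group G] [Finite G]

/-- A degree given on elements gives the degree on subgroups. -/
theorem iterCommutator_le_of_forall {g : G} {U V : Subgroup G} [U.Normal] [V.Normal]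
    (hab : ∀ a ∈ U, ∀ b ∈ U, a * b * a⁻¹ * b⁻¹ ∈ V) {N : ℕ}
    (h : ∀ u ∈ U, (cg g)^[N] u ∈ V) : Cfsg.iterCommutator U (Subgroup.zpowers g) N ≤ V := by
  set π := QuotientGroup.mk' V with hπ
  have hs : Function.Surjective π := QuotientGroup.mk'_surjective V
  have hn : (U.map π).Normal := Subgroup.Normal.map inferInstance _ hs
  rw [← QuotientGroup.ker_mk' V, ← hπ, ← Subgroup.map_eq_bot_iff, iterCommutator_map,
    MonoidHom.map_zpowers, eq_bot_iff]
  have hB : ∀ a ∈ U.map π, ∀ b ∈ U.map π, a * b = b * a := by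
    rintro _ ⟨a, ha, rfl⟩ _ ⟨b, hb, rfl⟩
    have h1 : π (a * b * a⁻¹ * b⁻¹) = 1 := (QuotientGroup.eq_one_iff _).mpr (hab a ha b hb)
    rwa [map_mul, map_mul, map_mul, map_inv, map_inv, mul_inv_eq_one, mul_inv_eq_iff_eq_mul] at h1
  have hg : ∀ a ∈ U.map π, π g * a * (π g)⁻¹ ∈ U.map π := fun a ha => hn.conj_mem a ha _
  let E : ℕ → Subgroup (G ⧸ V) := fun r =>
    { carrier := {a | a ∈ U.map π ∧ (cg (π g))^[r] a = 1}
      mul_mem' := fun {a b} ha hb => ⟨mul_mem ha.1 hb.1, by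
        rw [cg_iterate_mul hB hg ha.1 hb.1, ha.2, hb.2, one_mul]⟩
      one_mem' := ⟨one_mem _, cg_iterate_eq_one_of_le (Nat.zero_le _) rfl⟩
      inv_mem' := fun {a} ha => ⟨inv_mem ha.1, by rw [cg_iterate_inv hB hg ha.1, ha.2, inv_one]⟩ }
  have hE : ∀ n ≤ N, Cfsg.iterCommutator (U.map π) (Subgroup.zpowers (π g)) n ≤ E (N - n) := by
    intro n
    induction n with
    | zero =>
      rintro - _ ⟨u, hu, rfl⟩
      exact ⟨⟨u, hu, rfl⟩, by rw [← cg_iterate_map, Nat.sub_zero]; exact (QuotientGroup.eq_one_iff _).mpr (h u hu)⟩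
    | succ n ih =>
      intro hn'
      refine Subgroup.commutator_le.mpr fun e he z hz => ?_
      obtain ⟨k, rfl⟩ := mem_powers_iff_mem_zpowers.mpr hz
      have he' := ih (by omega) he
      rw [commutatorElement_def, show e * π g ^ k * e⁻¹ * (π g ^ k)⁻¹ =
        (π g ^ k * e * (π g ^ k)⁻¹ * e⁻¹)⁻¹ by group]
      refine inv_mem ?_
      clear hz
      induction k with
      | zero => simpa using one_mem (E (N - (n + 1)))
      | succ k ihk =>
        set d := π g ^ k * e * (π g ^ k)⁻¹ * e⁻¹ with hd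
        have h1 : π g ^ (k + 1) * e * (π g ^ (k + 1))⁻¹ * e⁻¹ = π g * d * (π g)⁻¹ * cg (π g) e := by
          rw [hd, pow_succ']; simp only [cg]; group
        rw [h1]
        refine mul_mem ⟨hg _ ihk.1, ?_⟩ ⟨mul_mem (hg _ he'.1) (inv_mem he'.1), ?_⟩
        · rw [cg_iterate_conj, ihk.2, mul_one, mul_inv_cancel]
        · rw [← Function.iterate_succ_apply, Nat.succ_eq_add_one,
            show N - (n + 1) + 1 = N - n by omega]
          exact he'.2
  exact (hE N le_rfl).trans fun a ha => by simpa using ha.2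

variable {p : ℕ} [hp : Fact p.Prime]

/-- A normal `p`-subgroup centralises every chief factor that is a `p`-group. -/
theorem commutator_chief_le {X Y R : Subgroup G} (h : Cfsg.IsChiefFactor X Y)
    (hR : R.Normal) (hRp : IsPGroup p R) (hX : IsPGroup p X) : ⁅X, R⁆ ≤ Y := by
  obtain ⟨hlt, hXn, hYn, hmin⟩ := h
  have hn : (⁅X, R⁆ ⊔ Y).Normal := inferInstance
  rcases hmin _ hn le_sup_right (sup_le (Subgroup.commutator_le_left X R) hlt.le) with h | h
  · exact le_sup_left.trans h.le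
  exfalso
  set π := QuotientGroup.mk' Y with hπ
  have h1 : X.map π ≤ ⁅X.map π, R.map π⁆ := by
    conv_lhs => rw [← h, Subgroup.map_sup, Subgroup.map_commutator,
      (Subgroup.map_eq_bot_iff (f := π) _).mpr (QuotientGroup.ker_mk' Y).ge, sup_bot_eq]
  set L := X.map π ⊔ R.map π with hL
  have hXn' : (X.map π).Normal := hXn.map _ (QuotientGroup.mk'_surjective Y)
  have hRn' : (R.map π).Normal := hR.map _ (QuotientGroup.mk'_surjective Y)
  have hLp : IsPGroup p L := (hX.map π).to_sup_of_normal_right (hRp.map π)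
  have hLnil : Group.IsNilpotent L := hLp.isNilpotent
  have key : ∀ n, X.map π ≤ L.lowerCentralSeries n := by
    intro n
    induction n with
    | zero => exact le_sup_left
    | succ n ih => exact h1.trans (Subgroup.commutator_mono ih le_sup_right)
  obtain ⟨n, hn⟩ := (Subgroup.isNilpotent_iff_lowerCentralSeries (S := L)).mp hLnil
  have h3 : X.map π = ⊥ := le_bot_iff.mp ((key n).trans hn.le)
  rw [Subgroup.map_eq_bot_iff, hπ, QuotientGroup.ker_mk'] at h3
  exact hlt.not_ge h3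

/-- The degree on a chief factor is seen on any normal subgroup covering it. -/
theorem iterCommutator_le_of_inf {g : G} {U V R : Subgroup G} (hUV : Cfsg.IsChiefFactor U V)
    [R.Normal] (hR : ¬ U ⊓ R ≤ V) {N : ℕ}
    (h : Cfsg.iterCommutator (U ⊓ R) (Subgroup.zpowers g) N ≤ V) :
    Cfsg.iterCommutator U (Subgroup.zpowers g) N ≤ V := by
  obtain ⟨hlt, hUn, hVn, hmin⟩ := hUV
  have hsup : (U ⊓ R) ⊔ V = U := by
    rcases hmin ((U ⊓ R) ⊔ V) inferInstance le_sup_right (sup_le inf_le_left hlt.le) with h' | h'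
    · exact absurd (le_sup_left.trans h'.le) hR
    · exact h'
  set π := QuotientGroup.mk' V with hπ
  rw [← QuotientGroup.ker_mk' V, ← hπ, ← Subgroup.map_eq_bot_iff, iterCommutator_map] at h ⊢
  rw [← hsup, Subgroup.map_sup, (Subgroup.map_eq_bot_iff (f := π) V).mpr (QuotientGroup.ker_mk' V).ge,
    sup_bot_eq]
  exact h

theorem chief_inf {U V R : Subgroup G} (hUV : Cfsg.IsChiefFactor U V) [R.Normal]
    (hR : ¬ U ⊓ R ≤ V) : Cfsg.IsChiefFactor (U ⊓ R) (V ⊓ R) := by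
  obtain ⟨hlt, hUn, hVn, hmin⟩ := hUV
  refine ⟨lt_of_le_of_ne (inf_le_inf_right _ hlt.le) fun h => hR (h.ge.trans inf_le_left),
    inferInstance, inferInstance, fun N hN h1 h2 => ?_⟩
  rcases hmin (N ⊔ V) inferInstance le_sup_right (sup_le (h2.trans inf_le_left) hlt.le) with h | h
  · left
    exact le_antisymm (le_inf (le_sup_left.trans h.le) (h2.trans inf_le_right)) h1
  · right
    refine le_antisymm h2 fun x hx => ?_
    have hx' : x ∈ N ⊔ V := h.ge hx.1
    obtain ⟨a, ha, b, hb, rfl⟩ := (Subgroup.mem_sup_of_normal_right (s := N) (t := V)).mp hx'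
    refine mul_mem ha (h1 ⟨hb, ?_⟩)
    simpa using R.mul_mem (R.inv_mem (h2 ha).2) hx.2

/-- Degrees on the chief factors in `Q` and in `Z ⊇ [P,Q]` bound the degree on those in `P`. -/
theorem degree_of_selfCentralizing {P Q Z : Subgroup G} [P.Normal] [Q.Normal] [Z.Normal]
    (hP : IsPGroup p P) (hQP : Q ≤ P) (hZQ : Z ≤ Q) (hPQ : ⁅P, Q⁆ ≤ Z)
    (hC : P ⊓ Subgroup.centralizer (Q : Set G) ≤ Q) {g : G} {i j : ℕ} (hj : 1 ≤ j)
    (hQi : ∀ U V : Subgroup G, Cfsg.IsChiefFactor U V → U ≤ Q →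
      Cfsg.iterCommutator U (Subgroup.zpowers g) i ≤ V)
    (hZj : ∀ U V : Subgroup G, Cfsg.IsChiefFactor U V → U ≤ Z →
      Cfsg.iterCommutator U (Subgroup.zpowers g) j ≤ V) :
    ∀ U V : Subgroup G, Cfsg.IsChiefFactor U V → U ≤ P →
      Cfsg.iterCommutator U (Subgroup.zpowers g) (i + j - 1) ≤ V := by
  intro U V hUV hUP
  have hUn : U.Normal := hUV.2.1
  have hVn : V.Normal := hUV.2.2.1
  by_cases hUQ : U ⊓ Q ≤ V
  swap
  · refine iterCommutator_le_of_inf hUV hUQ ?_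
    refine le_trans ?_ ((hQi _ _ (chief_inf hUV hUQ) inf_le_right).trans inf_le_left)
    rw [show i + j - 1 = i + (j - 1) by omega]
    generalize j - 1 = d
    induction d with
    | zero => exact le_rfl
    | succ d ih =>
      have hUQn : (U ⊓ Q).Normal := inferInstance
      refine le_trans ?_ ih
      have hnorm : ∀ n, Subgroup.zpowers g ≤ Subgroup.normalizer
          (Cfsg.iterCommutator (U ⊓ Q) (Subgroup.zpowers g) n : Set G) := by
        intro n
        induction n with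
        | zero =>
          show Subgroup.zpowers g ≤ Subgroup.normalizer ((U ⊓ Q : Subgroup G) : Set G)
          rw [Subgroup.normalizer_eq_top_iff.mpr hUQn]
          exact le_top
        | succ n _ =>
          exact Subgroup.normalizer_commutator_ge_right (H₁ := Cfsg.iterCommutator (U ⊓ Q) (Subgroup.zpowers g) n) (H₂ := Subgroup.zpowers g)
      change ⁅Cfsg.iterCommutator (U ⊓ Q) (Subgroup.zpowers g) (i + d), Subgroup.zpowers g⁆ ≤ _
      exact KInf.commutator_le_left_of_le_normalizer (hnorm _)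
  obtain ⟨X, ⟨hXn, hXQ, hXV⟩, hXmin⟩ := Set.exists_min_image
    {X : Subgroup G | X.Normal ∧ X ≤ Q ∧ U ⊓ Subgroup.centralizer (X : Set G) ≤ V}
    (fun X => Nat.card X) (Set.toFinite _)
    ⟨Q, inferInstance, le_rfl, fun x hx => hUQ ⟨hx.1, hC ⟨hUP hx.1, hx.2⟩⟩⟩
  have hXne : X ≠ ⊥ := by
    rintro rfl
    refine hUV.1.not_ge fun x hx => hXV ⟨hx, ?_⟩
    exact Subgroup.mem_centralizer_iff.mpr fun y hy => by
      rw [Subgroup.mem_bot.mp hy, one_mul, mul_one]
  obtain ⟨Y, hXY⟩ := exists_chief_below hXn hXne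
  have hYn : Y.Normal := hXY.2.2.1
  have hU' : ¬ U ⊓ Subgroup.centralizer (Y : Set G) ≤ V := fun h =>
    (Set.Finite.card_lt_card (Set.toFinite (X : Set G)) (SetLike.coe_ssubset_coe.mpr hXY.1)).not_ge
      (hXmin Y ⟨hYn, hXY.1.le.trans hXQ, h⟩)
  set CY := Subgroup.centralizer (Y : Set G) with hCY
  have hCYn : CY.Normal := Subgroup.normal_centralizer
  obtain ⟨X', ⟨hX'n, hX'Z, hX'V⟩, hX'min⟩ := Set.exists_min_image
    {X' : Subgroup G | ∃ _ : X'.Normal, X' ≤ Z ∧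
      ¬ U ⊓ CY ⊓ (Subgroup.centralizer ((X.map (QuotientGroup.mk' X') : Subgroup (G ⧸ X')) :
        Set (G ⧸ X'))).comap (QuotientGroup.mk' X') ≤ V}
    (fun X' => Nat.card X') (Set.toFinite _)
    ⟨Z, inferInstance, le_rfl, fun h => hU' fun x hx => h ⟨hx, by
      refine Subgroup.mem_centralizer_iff.mpr ?_
      rintro _ ⟨y, hy, rfl⟩
      have h1 : QuotientGroup.mk' Z ⁅x, y⁆ = 1 := (QuotientGroup.eq_one_iff _).mpr
        (hPQ (Subgroup.commutator_mem_commutator (hUP hx.1) (hXQ hy)))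
      rw [map_commutatorElement, commutatorElement_eq_one_iff_mul_comm] at h1
      exact h1.symm⟩⟩
  set U'' := U ⊓ CY ⊓ (Subgroup.centralizer ((X.map (QuotientGroup.mk' X') : Subgroup (G ⧸ X')) :
        Set (G ⧸ X'))).comap (QuotientGroup.mk' X') with hU''
  have hU''n : U''.Normal := by
    have : (X.map (QuotientGroup.mk' X')).Normal := hXn.map _ (QuotientGroup.mk'_surjective _)
    have : (Subgroup.centralizer ((X.map (QuotientGroup.mk' X') : Subgroup (G ⧸ X')) :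
        Set (G ⧸ X'))).Normal := Subgroup.normal_centralizer
    infer_instance
  have hU''m : ∀ u ∈ U'', ∀ x ∈ X, ⁅u, x⁆ ∈ X' := by
    intro u hu x hx
    have h1 := Subgroup.mem_centralizer_iff.mp hu.2 _ ⟨x, hx, rfl⟩
    refine (QuotientGroup.eq_one_iff _).mp ?_
    show QuotientGroup.mk' X' ⁅u, x⁆ = 1
    rw [map_commutatorElement, commutatorElement_eq_one_iff_mul_comm]
    exact h1.symm
  have hX'ne : X' ≠ ⊥ := by
    rintro rfl
    refine hX'V fun u hu => hXV ⟨hu.1.1, Subgroup.mem_centralizer_iff.mpr fun x hx => ?_⟩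
    have h1 := hU''m u hu x hx
    rw [Subgroup.mem_bot, commutatorElement_eq_one_iff_mul_comm] at h1
    exact h1.symm
  obtain ⟨W, hX'W⟩ := exists_chief_below hX'n hX'ne
  have hWn : W.Normal := hX'W.2.2.1
  have hX'p : IsPGroup p X' := hP.to_le ((hX'Z.trans hZQ).trans hQP)
  obtain ⟨hX'ab, -⟩ := chief_elementary hX'W hX'p
  obtain ⟨hUab, -⟩ := chief_elementary hUV (hP.to_le hUP)
  have hWV : ∀ u ∈ U'', (∀ x ∈ X, ⁅u, x⁆ ∈ W) → u ∈ V := by
    intro u hu h
    by_contra huV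
    refine (Set.Finite.card_lt_card (Set.toFinite (X' : Set G)) (SetLike.coe_ssubset_coe.mpr hX'W.1)).not_ge
      (hX'min W ⟨hWn, hX'W.1.le.trans hX'Z, fun h' => huV (h' ⟨hu.1, ?_⟩)⟩)
    refine Subgroup.mem_centralizer_iff.mpr ?_
    rintro _ ⟨x, hx, rfl⟩
    have h1 : QuotientGroup.mk' W ⁅u, x⁆ = 1 := (QuotientGroup.eq_one_iff _).mpr (h x hx)
    rw [map_commutatorElement, commutatorElement_eq_one_iff_mul_comm] at h1
    exact h1.symm
  have hU''U : U ⊓ U'' = U'' := inf_eq_right.mpr (inf_le_left.trans inf_le_left)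
  refine iterCommutator_le_of_inf hUV (R := U'') (by rwa [hU''U]) ?_
  rw [hU''U]
  refine iterCommutator_le_of_forall (U := U'') (fun a ha b hb => hUab a ha.1.1 b hb.1.1) fun u hu => ?_
  have hmem : (cg g)^[i + j - 1] u ∈ U'' :=
    cg_iterate_mem (fun a ha => hU''n.conj_mem a ha g) hu _
  refine hWV _ hmem fun x hx => (QuotientGroup.eq_one_iff _).mp ?_
  show QuotientGroup.mk' W ⁅(cg g)^[i + j - 1] u, x⁆ = 1
  rw [map_commutatorElement, cg_iterate_map]
  set π := QuotientGroup.mk' W with hπ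
  have hs : Function.Surjective π := QuotientGroup.mk'_surjective W
  have hnU : (U''.map π).Normal := hU''n.map _ hs
  have hnX : (X.map π).Normal := hXn.map _ hs
  have hnY : (Y.map π).Normal := hYn.map _ hs
  have hnB : (X'.map π).Normal := hX'n.map _ hs
  refine commute_iterate_cg (g := π g) (U := U''.map π) (X := X.map π) (Y := Y.map π) (B := X'.map π)
    (fun a ha => hnU.conj_mem a ha _) (fun a ha => hnX.conj_mem a ha _)
    (fun a ha => by simpa using hnX.conj_mem a ha (π g)⁻¹)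
    (fun a ha => by simpa [mul_assoc] using hnY.conj_mem _ ha (π g)⁻¹)
    (fun a ha => hnB.conj_mem a ha _) ?_ ?_ ?_ ?_ ?_ hj ?_ ?_ (π u) ⟨u, hu, rfl⟩ (π x) ⟨x, hx, rfl⟩
  · rintro _ ⟨a, ha, rfl⟩ _ ⟨b, hb, rfl⟩
    have h1 : π (a * b * a⁻¹ * b⁻¹) = 1 := (QuotientGroup.eq_one_iff _).mpr (hX'ab a ha b hb)
    rwa [map_mul, map_mul, map_mul, map_inv, map_inv, mul_inv_eq_one, mul_inv_eq_iff_eq_mul] at h1
  · rintro _ ⟨a, ha, rfl⟩ _ ⟨b, hb, rfl⟩
    rw [← map_commutatorElement]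
    exact ⟨_, hU''m a ha b hb, rfl⟩
  · rintro _ ⟨a, ha, rfl⟩ _ ⟨b, hb, rfl⟩
    have h1 : π ⁅b, a⁆ = 1 := (QuotientGroup.eq_one_iff _).mpr
      (commutator_chief_le hX'W inferInstance hP hX'p (Subgroup.commutator_mem_commutator hb (hUP ha.1.1)))
    rw [map_commutatorElement, commutatorElement_eq_one_iff_mul_comm] at h1
    exact h1.symm
  · rintro _ ⟨a, ha, rfl⟩ _ ⟨b, hb, rfl⟩
    have h1 : π ⁅b, a⁆ = 1 := (QuotientGroup.eq_one_iff _).mpr
      (commutator_chief_le hX'W inferInstance hP hX'p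
        (Subgroup.commutator_mem_commutator hb (hQP (hXQ ha))))
    rw [map_commutatorElement, commutatorElement_eq_one_iff_mul_comm] at h1
    exact h1.symm
  · rintro _ ⟨a, ha, rfl⟩ _ ⟨b, hb, rfl⟩
    rw [← map_commutatorElement, commutatorElement_eq_one_iff_mul_comm.mpr
      (Subgroup.mem_centralizer_iff.mp ha.1.2 b hb).symm, map_one]
  · rintro _ ⟨a, ha, rfl⟩
    rw [← cg_iterate_map]
    exact ⟨_, hQi X Y hXY hXQ (iterate_commutator_mem ha i), rfl⟩
  · rintro _ ⟨a, ha, rfl⟩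
    rw [← cg_iterate_map]
    exact (QuotientGroup.eq_one_iff _).mpr (hZj X' W hX'W hX'Z (iterate_commutator_mem ha j))

end Cfsg.Agent.Invol
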