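import Mathlib
import Cfsg.Agent.Lib.Invol.CriticalDegree
import Cfsg.Agent.Lib.Grp.Cores

/-!
# The subgroup centralising all chief factors below a normal subgroup
-/

set_option autoImplicit false

open scoped commutatorElement

namespace Cfsg.Agent.Invol

variable {G : Type*} [Group G]

/-- The elements centralising every chief factor of `G` inside `X`. -/
def stab (X : Subgroup G) : Subgroup G where
  carrier := {g | ∀ U V : Subgroup G, Cfsg.IsChiefFactor U V → U ≤ X → ∀ u ∈ U, g * u * g⁻¹ * u⁻¹ ∈ V}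
  mul_mem' := by
    intro g h hg hh U V hUV hUX u hu
    have hV := hUV.2.2.1
    rw [show g * h * u * (g * h)⁻¹ * u⁻¹ = g * (h * u * h⁻¹ * u⁻¹) * g⁻¹ * (g * u * g⁻¹ * u⁻¹) by group]
    exact mul_mem (hV.conj_mem _ (hh U V hUV hUX u hu) g) (hg U V hUV hUX u hu)
  one_mem' := by
    intro U V _ _ u _
    simp
  inv_mem' := by
    intro g hg U V hUV hUX u hu
    have hV := hUV.2.2.1
    rw [show g⁻¹ * u * g⁻¹⁻¹ * u⁻¹ = g⁻¹ * (g * u * g⁻¹ * u⁻¹)⁻¹ * g⁻¹⁻¹ by group]
    exact hV.conj_mem _ (inv_mem (hg U V hUV hUX u hu)) _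

theorem mem_stab {X : Subgroup G} {g : G} : g ∈ stab X ↔ ∀ U V : Subgroup G,
    Cfsg.IsChiefFactor U V → U ≤ X → ∀ u ∈ U, g * u * g⁻¹ * u⁻¹ ∈ V := Iff.rfl

instance stab_normal (X : Subgroup G) : (stab X).Normal := ⟨fun g hg k => by
  intro U V hUV hUX u hu
  have h1 := hUV.2.2.1.conj_mem _ (hg U V hUV hUX (k⁻¹ * u * k) (by
    simpa using hUV.2.1.conj_mem u hu k⁻¹)) k
  simpa [mul_assoc] using h1⟩

theorem stab_anti {X Y : Subgroup G} (h : X ≤ Y) : stab Y ≤ stab X :=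
  fun _ hg U V hUV hUX => hg U V hUV (hUX.trans h)

theorem commutator_zpowers_le_iff {X : Subgroup G} {g : G} :
    (∀ U V : Subgroup G, Cfsg.IsChiefFactor U V → U ≤ X → ⁅U, Subgroup.zpowers g⁆ ≤ V) ↔ g ∈ stab X := by
  constructor
  · intro h U V hUV hUX u hu
    rw [← commutatorElement_def]
    refine h U V hUV hUX ?_
    rw [Subgroup.commutator_comm]
    exact Subgroup.commutator_mem_commutator (Subgroup.mem_zpowers g) hu
  · intro h U V hUV hUX
    rw [Subgroup.commutator_comm, Subgroup.commutator_le]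
    intro z hz u hu
    exact Subgroup.zpowers_le.mpr h hz U V hUV hUX u hu

variable [Finite G] {p : ℕ} [hp : Fact p.Prime]

/-- An element centralising the chief factors of a normal `p`-subgroup has a `p`-power centralising it. -/
theorem exists_pow_centralizes {X : Subgroup G} (hX : X.Normal) (hXp : IsPGroup p X) {g : G}
    (hg : g ∈ stab X) : ∃ k : ℕ, g ^ p ^ k ∈ Subgroup.centralizer (X : Set G) := by
  suffices key : ∀ n (Y : Subgroup G), Y.Normal → Y ≤ X → Nat.card Y = n →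
      ∃ k : ℕ, g ^ p ^ k ∈ Subgroup.centralizer (Y : Set G) from key _ X hX le_rfl rfl
  intro n
  induction n using Nat.strong_induction_on with
  | _ n ih =>
  intro Y hY hYX hcard
  rcases eq_or_ne Y ⊥ with rfl | hne
  · exact ⟨0, Subgroup.mem_centralizer_iff.mpr fun y hy => by
      rw [Subgroup.mem_bot.mp hy, one_mul, mul_one]⟩
  obtain ⟨W, hW⟩ := exists_chief_below hY hne
  obtain ⟨k, hk⟩ := ih _ (hcard ▸ Set.Finite.card_lt_card (Set.toFinite (Y : Set G))
    (SetLike.coe_ssubset_coe.mpr hW.1)) W hW.2.2.1 (hW.1.le.trans hYX) rfl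
  obtain ⟨m, hm⟩ := IsPGroup.iff_card.mp (hXp.to_le (hW.1.le.trans hYX))
  refine ⟨k + m, ?_⟩
  set h := g ^ p ^ k with hh
  have hgh : g ^ p ^ (k + m) = h ^ p ^ m := by rw [hh, ← pow_mul, ← pow_add]
  refine Subgroup.mem_centralizer_iff.mpr fun u hu => ?_
  set w := h * u * h⁻¹ * u⁻¹ with hw
  have hwW : w ∈ W := (stab X).pow_mem hg _ Y W hW hYX u hu
  have hhw : h * w * h⁻¹ = w := by
    rw [← Subgroup.mem_centralizer_iff.mp hk w hwW, mul_inv_cancel_right]
  have hit : ∀ j : ℕ, h ^ j * u * (h ^ j)⁻¹ = w ^ j * u := by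
    intro j
    induction j with
    | zero => simp
    | succ j ihj =>
      calc h ^ (j + 1) * u * (h ^ (j + 1))⁻¹ = h * (h ^ j * u * (h ^ j)⁻¹) * h⁻¹ := by
            rw [pow_succ']; group
        _ = h * (w ^ j * u) * h⁻¹ := by rw [ihj]
        _ = (h * w * h⁻¹) ^ j * (h * u * h⁻¹) := by rw [conj_pow]; group
        _ = w ^ (j + 1) * u := by rw [hhw, pow_succ, hw]; group
  have hw1 : w ^ p ^ m = 1 := by
    have h1 := orderOf_dvd_natCard (⟨w, hwW⟩ : W)
    rw [hm, Subgroup.orderOf_mk] at h1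
    exact orderOf_dvd_iff_pow_eq_one.mp h1
  have h2 := hit (p ^ m)
  rw [hw1, one_mul] at h2
  rw [hgh]
  calc u * h ^ p ^ m = h ^ p ^ m * u * (h ^ p ^ m)⁻¹ * h ^ p ^ m := by rw [h2]
    _ = h ^ p ^ m * u := inv_mul_cancel_right _ _

/-- If `C(T) ≤ T`, only elements of `T` centralise all chief factors in a self-centralising `A`. -/
theorem stab_le_pCore {A Z : Subgroup G} [A.Normal] [Z.Normal] (hA : A ≤ Cfsg.pCore p G) (hZA : Z ≤ A)
    (hTA : ⁅Cfsg.pCore p G, A⁆ ≤ Z) (hC : Cfsg.pCore p G ⊓ Subgroup.centralizer (A : Set G) ≤ A)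
    (hT : Subgroup.centralizer (Cfsg.pCore p G : Set G) ≤ Cfsg.pCore p G) :
    stab A ≤ Cfsg.pCore p G := by
  have hTn : (Cfsg.pCore p G).Normal := Grp.pCore_isNormal
  have hTp : IsPGroup p (Cfsg.pCore p G) := Grp.pCore_isPGroup
  refine Grp.le_pCore (stab_normal A) fun g => ?_
  have hg : (g : G) ∈ stab (Cfsg.pCore p G) := commutator_zpowers_le_iff.mp
    (degree_of_selfCentralizing (i := 1) (j := 1) hTp hA hZA hTA hC le_rfl
      (commutator_zpowers_le_iff.mpr g.2)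
      (fun U V hUV hUZ => commutator_zpowers_le_iff.mpr g.2 U V hUV (hUZ.trans hZA)))
  obtain ⟨k, hk⟩ := exists_pow_centralizes hTn hTp hg
  obtain ⟨m, hm⟩ := hTp ⟨_, hT hk⟩
  refine ⟨k + m, Subtype.ext ?_⟩
  have h1 := congrArg Subtype.val hm
  simp only [SubmonoidClass.coe_pow, OneMemClass.coe_one] at h1 ⊢
  rw [pow_add, pow_mul]; exact h1

end Cfsg.Agent.Invol
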