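import Mathlib
import Cfsg.Agent.Lib.Invol.KInfinity
import Cfsg.Agent.Lib.Invol.Section
import Cfsg.Agent.Lib.Invol.StabSeries
import Cfsg.Agent.Lib.Invol.Semisimple

/-!
# K-infinity subgroups that are not normal give elements acting cubically
-/

set_option autoImplicit false
set_option linter.style.haveILetI false

open scoped commutatorElement

namespace Cfsg.Agent.Invol.KInf

theorem map_isQuadOn {X P : Type*} [Group X] [Group P] {f : X →* P} (hf : Function.Injective f)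
    (A : Subgroup X) (g : X) : IsQuadOn (A.map f) (f g) ↔ IsQuadOn A g := by
  unfold IsQuadOn
  rw [← map_zen hf, ← MonoidHom.map_zpowers, ← Subgroup.map_commutator, ← Subgroup.map_commutator,
    ← Subgroup.map_commutator, ← Subgroup.map_commutator, Subgroup.map_le_map_iff_of_injective hf,
    Subgroup.map_eq_bot_iff_of_injective _ hf]

theorem map_isCubicOn {X P : Type*} [Group X] [Group P] {f : X →* P} (hf : Function.Injective f)
    (A : Subgroup X) (g : X) : IsCubicOn (A.map f) (f g) ↔ IsCubicOn A g := by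
  unfold IsCubicOn
  rw [← map_zen hf, ← MonoidHom.map_zpowers, ← Subgroup.map_commutator, ← Subgroup.map_commutator,
    ← Subgroup.map_commutator, ← Subgroup.map_commutator, ← Subgroup.map_commutator,
    Subgroup.map_le_map_iff_of_injective hf, Subgroup.map_eq_bot_iff_of_injective _ hf]

/-- A degree on the iterated commutator subgroups bounds the degree on every chief factor. -/
theorem iterCommutator_chief_le {G : Type*} [Group G] [Finite G] {A Z : Subgroup G} [Z.Normal]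
    {g : G} {n m : ℕ} (hA : Cfsg.iterCommutator A (Subgroup.zpowers g) n ≤ Z)
    (hZ : Cfsg.iterCommutator Z (Subgroup.zpowers g) m = ⊥) (hmn : m ≤ n)
    {U V : Subgroup G} (hUV : Cfsg.IsChiefFactor U V) (hUA : U ≤ A) :
    Cfsg.iterCommutator U (Subgroup.zpowers g) n ≤ V := by
  have hUn := hUV.2.1
  have hVn := hUV.2.2.1
  by_cases h : U ⊓ Z ≤ V
  · refine le_trans (le_inf ?_ ((iterCommutator_mono hUA le_rfl n).trans hA)) h
    clear hA hZ hmn
    induction n with
    | zero => exact le_rfl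
    | succ n ih => exact (Subgroup.commutator_mono ih le_rfl).trans (Subgroup.commutator_le_left U _)
  · refine iterCommutator_le_of_inf hUV h ?_
    have h1 := (iterCommutator_mono (inf_le_right : U ⊓ Z ≤ Z) (le_refl (Subgroup.zpowers g)) m).trans hZ.le
    obtain ⟨d, rfl⟩ := Nat.exists_eq_add_of_le hmn
    clear hA hmn
    refine le_trans (le_of_eq ?_) (bot_le : (⊥ : Subgroup G) ≤ V)
    induction d with
    | zero => exact le_bot_iff.mp h1
    | succ d ih =>
      change ⁅Cfsg.iterCommutator (U ⊓ Z) (Subgroup.zpowers g) (m + d), Subgroup.zpowers g⁆ = ⊥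
      rw [ih, Subgroup.commutator_bot_left]

variable {G : Type*} [Group G] [Finite G] {p : ℕ} [hp : Fact p.Prime]

/-- An element of a member `B` of a lower family acts quadratically on all chief factors in `A` as soon
as it centralises those in `A'`. -/
theorem quad_of_lower_member {A B : Subgroup G} [A.Normal] (hAp : IsPGroup p A)
    (hA2 : ⁅A, A⁆ ≤ zen A) (hAB : A ≤ Subgroup.normalizer (B : Set G))
    (hB2 : ⁅B, B⁆ ≤ Subgroup.centralizer (B : Set G))
    (hZB : ⁅zen B, A⁆ ≤ zen A)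
    (hcond : ∀ C : Subgroup G, C ≤ A → ⁅C, C⁆ ≤ Subgroup.centralizer (C : Set G) →
      B ≤ Subgroup.normalizer (C : Set G) → ⁅B, ⁅C, C⁆⁆ = ⊥ → ⁅⁅zen B, C⁆, C⁆ = ⊥ → ⁅B, C⁆ ≤ zen B)
    {b : G} (hb : b ∈ B) (hst : b ∈ stab ⁅A, A⁆) :
    ∀ U V : Subgroup G, Cfsg.IsChiefFactor U V → U ≤ A →
      ⁅⁅U, Subgroup.zpowers b⁆, Subgroup.zpowers b⁆ ≤ V := by
  set A' := ⁅A, A⁆ with hA'
  haveI hA'n : A'.Normal := inferInstance
  set H := Subgroup.centralizer (A' : Set G) with hH
  haveI hHn : H.Normal := Subgroup.normal_centralizer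
  set D := ⁅⁅A, B⁆, B⁆ with hD
  have hABB : ⁅A, B⁆ ≤ B := commutator_le_right_of_le_normalizer hAB
  have hDA : D ≤ A :=
    (Subgroup.commutator_mono (Subgroup.commutator_le_left A B) le_rfl).trans (Subgroup.commutator_le_left A B)
  have hDB : D ≤ ⁅B, B⁆ := Subgroup.commutator_mono hABB le_rfl
  have hA'A : A' ≤ A := hA2.trans (zen_le A)
  have hcA : ∀ x ∈ A', ∀ a ∈ A, a * x = x * a := fun x hx a ha =>
    Subgroup.mem_centralizer_iff.mp (zen_le_centralizer A (hA2 hx)) a ha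
  let E : Subgroup G :=
    { carrier := {m | m ∈ A ∧ ∀ a ∈ A, ⁅a, m⁆ ∈ Subgroup.centralizer (B : Set G)}
      mul_mem' := fun {m n} hm hn => ⟨mul_mem hm.1 hn.1, fun a ha => by
        have h1 : ⁅a, m * n⁆ = ⁅a, m⁆ * (m * ⁅a, n⁆ * m⁻¹) := by
          simp only [commutatorElement_def]; group
        rw [h1, hcA _ (Subgroup.commutator_mem_commutator ha hn.1) m hm.1, mul_inv_cancel_right]
        exact mul_mem (hm.2 a ha) (hn.2 a ha)⟩
      one_mem' := ⟨one_mem _, fun a _ => by rw [commutatorElement_one_right]; exact one_mem _⟩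
      inv_mem' := fun {m} hm => ⟨inv_mem hm.1, fun a ha => by
        have h1 : ⁅a, m⁻¹⁆ = m⁻¹ * ⁅a, m⁆⁻¹ * m := by simp only [commutatorElement_def]; group
        rw [h1, hcA _ (inv_mem (Subgroup.commutator_mem_commutator ha hm.1)) _ (inv_mem hm.1),
          inv_mul_cancel_right]
        exact inv_mem (hm.2 a ha)⟩ }
  have hDE : D ≤ E := fun d hd => ⟨hDA hd, fun a ha => Subgroup.mem_centralizer_iff.mpr fun x hx => by
    have hdc := Subgroup.mem_centralizer_iff.mp (hB2 (hDB hd))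
    have hxd : x * d = d * x := hdc x hx
    set β := ⁅x, a⁆ with hβ
    have hβB : β ∈ B := hABB (by
      rw [hβ, Subgroup.commutator_comm]; exact Subgroup.commutator_mem_commutator hx ha)
    have hβA : β ∈ A := Subgroup.commutator_le_right B A (Subgroup.commutator_mem_commutator hx ha)
    have hβd : β * d = d * β := hdc β hβB
    have hc : ⁅a, d⁆ ∈ A' := Subgroup.commutator_mem_commutator ha (hDA hd)
    have h1 : x * ⁅a, d⁆ * x⁻¹ = ⁅a, d⁆ := by
      calc x * ⁅a, d⁆ * x⁻¹ = ⁅β * a, x * d * x⁻¹⁆ := by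
            simp only [hβ, commutatorElement_def]; group
        _ = ⁅β * a, d⁆ := by rw [hxd, mul_inv_cancel_right]
        _ = β * ⁅a, d⁆ * β⁻¹ * ⁅β, d⁆ := by simp only [commutatorElement_def]; group
        _ = ⁅a, d⁆ := by
          rw [hcA _ hc β hβA, mul_inv_cancel_right, commutatorElement_eq_one_iff_mul_comm.mpr hβd, mul_one]
    rw [← mul_inv_eq_iff_eq_mul]; exact h1⟩
  have hEH : ∀ h ∈ H, ∀ m ∈ E, h * m * h⁻¹ ∈ E := fun h hh m hm => by
    refine ⟨(‹A.Normal›).conj_mem m hm.1 h, fun a ha => ?_⟩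
    have ha' : h⁻¹ * a * h ∈ A := by simpa using (‹A.Normal›).conj_mem a ha h⁻¹
    have h2 : ⁅a, h * m * h⁻¹⁆ = h * ⁅h⁻¹ * a * h, m⁆ * h⁻¹ := by
      simp only [commutatorElement_def]; group
    have h3 : ⁅h⁻¹ * a * h, m⁆ * h = h * ⁅h⁻¹ * a * h, m⁆ := Subgroup.mem_centralizer_iff.mp hh _
      (Subgroup.commutator_mem_commutator ha' hm.1)
    rw [h2, ← h3, mul_inv_cancel_right]
    exact hm.2 _ ha'
  set M := D ⊔ ⁅H, D⁆ with hM
  have hME : M ≤ E := sup_le hDE (Subgroup.commutator_le.mpr fun h hh d hd => by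
    rw [commutatorElement_def]; exact mul_mem (hEH h hh d (hDE hd)) (inv_mem (hDE hd)))
  have hMA : M ≤ A := fun m hm => (hME hm).1
  have hHM : H ≤ Subgroup.normalizer (M : Set G) := by
    intro h hh
    refine mem_normalizer_of_forall_mem ?_
    suffices hs : M ≤ M.comap (MulAut.conj h).toMonoidHom from fun x hx => hs hx
    refine sup_le (fun d hd => ?_) (fun x hx => le_sup_right (a := D) ?_)
    · show h * d * h⁻¹ ∈ M
      rw [show h * d * h⁻¹ = ⁅h, d⁆ * d by simp [commutatorElement_def]]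
      exact mul_mem (le_sup_right (a := D) (Subgroup.commutator_mem_commutator hh hd))
        (le_sup_left (b := ⁅H, D⁆) hd)
    · show h * x * h⁻¹ ∈ ⁅H, D⁆
      exact (Subgroup.mem_normalizer_iff.mp
        (Subgroup.normalizer_commutator_ge_left (H₁ := H) (H₂ := D) hh) x).mp hx
  have hBD : B ≤ Subgroup.normalizer (D : Set G) :=
    Subgroup.normalizer_commutator_ge_right (H₁ := ⁅A, B⁆) (H₂ := B)
  have hBM : B ≤ Subgroup.normalizer (M : Set G) := by
    refine le_normalizer_sup hBD fun x hx => ?_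
    rw [Grp.mem_normalizer_of_map_eq, Subgroup.map_commutator]
    congr 1
    · rw [Grp.map_conj_eq_smul, ← Grp.mem_normalizer_iff_smul, Subgroup.normalizer_eq_top_iff.mpr hHn]
      exact Subgroup.mem_top x
    · rw [Grp.map_conj_eq_smul, ← Grp.mem_normalizer_iff_smul]; exact hBD hx
  have hMB : ⁅B, M⁆ ≤ zen B := by
    refine hcond M hMA ?_ hBM ?_ ?_
    · exact ((Subgroup.commutator_mono hMA hMA).trans (hA2.trans (zen_le_centralizer A))).trans
        (Subgroup.centralizer_le hMA)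
    · rw [Subgroup.commutator_comm, Subgroup.commutator_eq_bot_iff_le_centralizer, Subgroup.commutator_le]
      exact fun a ha m hm => (hME hm).2 a (hMA ha)
    · refine le_bot_iff.mp ((Subgroup.commutator_mono
        ((Subgroup.commutator_mono le_rfl hMA).trans hZB) hMA).trans (zen_commutator A).le)
  have hbM : ∀ m ∈ M, cg b (cg b m) = 1 := fun m hm => by
    have h1 : cg b m ∈ zen B := hMB (Subgroup.commutator_mem_commutator hb hm)
    have h2 := Subgroup.mem_centralizer_iff.mp (zen_le_centralizer B h1) b hb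
    calc cg b (cg b m) = b * cg b m * b⁻¹ * (cg b m)⁻¹ := rfl
      _ = 1 := by rw [h2, mul_inv_cancel_right, mul_inv_cancel]
  set N0 := stab A' with hN0
  intro U V hUV hUA
  obtain ⟨hlt, hUn, hVn, hmin⟩ := hUV
  obtain ⟨hUab, -⟩ := chief_elementary ⟨hlt, hUn, hVn, hmin⟩ (hAp.to_le hUA)
  refine iterCommutator_le_of_forall (N := 2) hUab fun u hu => (QuotientGroup.eq_one_iff _).mp ?_
  show QuotientGroup.mk' V ((cg b)^[2] u) = 1
  set π := QuotientGroup.mk' V with hπ
  have hs : Function.Surjective π := QuotientGroup.mk'_surjective V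
  rw [cg_iterate_map]
  set Ū := U.map π with hŪ
  haveI hŪn : Ū.Normal := hUn.map _ hs
  haveI hHn' : (H.map π).Normal := hHn.map _ hs
  have habU : ∀ a ∈ Ū, ∀ c ∈ Ū, a * c = c * a := by
    rintro _ ⟨a, ha, rfl⟩ _ ⟨c, hc, rfl⟩
    have h1 : π (a * c * a⁻¹ * c⁻¹) = 1 := (QuotientGroup.eq_one_iff _).mpr (hUab a ha c hc)
    rwa [map_mul, map_mul, map_mul, map_inv, map_inv, mul_inv_eq_one, mul_inv_eq_iff_eq_mul] at h1
  have hne : Ū ≠ ⊥ := by
    rw [hŪ, ne_eq, Subgroup.map_eq_bot_iff, hπ, QuotientGroup.ker_mk']; exact hlt.not_ge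
  have hminU : ∀ N : Subgroup (G ⧸ V), N.Normal → N ≤ Ū → N = ⊥ ∨ N = Ū := by
    intro N hN hNU
    have hUcomap : Ū.comap π = U :=
      Subgroup.comap_map_eq_self (by rw [hπ, QuotientGroup.ker_mk']; exact hlt.le)
    rcases hmin (N.comap π) (hN.comap π) (fun y hy => by
        show π y ∈ N
        rw [show π y = 1 from (QuotientGroup.eq_one_iff y).mpr hy]; exact one_mem _)
      ((Subgroup.comap_mono hNU).trans hUcomap.le) with h | h
    · left
      rw [← Subgroup.map_comap_eq_self_of_surjective hs N, h, Subgroup.map_eq_bot_iff, hπ,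
        QuotientGroup.ker_mk']
    · right; rw [← Subgroup.map_comap_eq_self_of_surjective hs N, h]
  have hKp : IsPGroup p ((N0.map π).map (QuotientGroup.mk' (H.map π))) := by
    rintro ⟨_, ⟨_, ⟨g, hg, rfl⟩, rfl⟩⟩
    obtain ⟨k, hk⟩ := exists_pow_centralizes hA'n (hAp.to_le hA'A) hg
    refine ⟨k, Subtype.ext ?_⟩
    simp only [SubmonoidClass.coe_pow, OneMemClass.coe_one, ← map_pow]
    exact (QuotientGroup.eq_one_iff _).mpr ⟨_, hk, rfl⟩
  have hHN0 : H ≤ N0 := by
    intro h hh W W' hWW hWA x hx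
    rw [← Subgroup.mem_centralizer_iff.mp hh x (hWA hx)]
    simp
  set L := H ⊔ Subgroup.zpowers b with hL
  have hss : IsSemisimple Ū (L.map π) :=
    isSemisimple_of_pGroup_quotient (p := p) ((stab_normal A').map _ hs) hKp hŪn hne
      hminU _ (Subgroup.map_mono le_sup_left)
      (Subgroup.map_mono (sup_le hHN0 (Subgroup.zpowers_le.mpr hst)))
  have hLM : L ≤ Subgroup.normalizer ((M ⊓ U : Subgroup G) : Set G) :=
    le_normalizer_inf (sup_le hHM ((Subgroup.zpowers_le.mpr hb).trans hBM))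
      (by rw [Subgroup.normalizer_eq_top_iff.mpr hUn]; exact le_top)
  obtain ⟨M', hM'U, hLM', hdis, hsup⟩ := exists_invariant_complement habU hss
    (M := (M ⊓ U).map π) (Subgroup.map_mono inf_le_right)
    ((Subgroup.map_mono hLM).trans (Subgroup.le_normalizer_map π))
  obtain ⟨m, hm, m', hm', he⟩ := exists_mul_of_mem_sup habU (Subgroup.map_mono inf_le_right) hM'U
    (hsup (show π u ∈ Ū from ⟨u, hu, rfl⟩))
  have hgU : ∀ a ∈ Ū, π b * a * (π b)⁻¹ ∈ Ū := fun a ha => hŪn.conj_mem a ha _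
  rw [← he, cg_iterate_mul habU hgU (Subgroup.map_mono inf_le_right hm) (hM'U hm')]
  obtain ⟨m₀, hm₀, rfl⟩ := hm
  rw [← cg_iterate_map, show (cg b)^[2] m₀ = 1 from hbM m₀ hm₀.1, map_one, one_mul]
  obtain ⟨u', hu', rfl⟩ := hM'U hm'
  refine Subgroup.mem_bot.mp (hdis ▸ ⟨?_, ?_⟩)
  · rw [← cg_iterate_map]
    refine ⟨_, ⟨le_sup_left (b := ⁅H, D⁆) ?_, cg_iterate_mem (fun a ha => hUn.conj_mem a ha b) hu' 2⟩, rfl⟩
    show ⁅b, ⁅b, u'⁆⁆ ∈ ⁅⁅A, B⁆, B⁆
    rw [Subgroup.commutator_comm ⁅A, B⁆ B, Subgroup.commutator_comm A B]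
    exact Subgroup.commutator_mem_commutator hb (Subgroup.commutator_mem_commutator hb (hUA hu'))
  · have hbM' : π b ∈ Subgroup.normalizer (M' : Set (G ⧸ V)) :=
      hLM' ⟨b, le_sup_right (a := H) (Subgroup.mem_zpowers b), rfl⟩
    exact cg_iterate_mem (fun a ha => (Subgroup.mem_normalizer_iff.mp hbM' a).mp ha) hm' 2

/-- If a K-infinity subgroup is not normal there is an element outside `T` acting cubically, which
moreover has a quadratic nontrivial chief factor when `C(T) ≤ T`. -/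
theorem exists_cubic_element.{u} {G : Type u} [Group G] [Finite G] {p : ℕ} [Fact p.Prime]
    (S : Sylow p G) (A : Subgroup G) [A.Normal] (hAT : A ≤ Cfsg.pCore p G)
    (hA2 : ⁅A, A⁆ ≤ zen A) (hTA : ⁅Cfsg.pCore p G, A⁆ ≤ zen A)
    (hC : Cfsg.pCore p G ⊓ Subgroup.centralizer (A : Set G) ≤ A)
    (hK : ¬ (Cfsg.inducedFunctor Cfsg.kInfLower (S : Subgroup G)).Normal ∨
      ¬ (Cfsg.inducedFunctor Cfsg.kInfUpper (S : Subgroup G)).Normal) :
    ∃ g ∈ (S : Subgroup G), g ∉ Cfsg.pCore p G ∧ IsCubicOn A g ∧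
      (Subgroup.centralizer (Cfsg.pCore p G : Set G) ≤ Cfsg.pCore p G →
        ∃ U V : Subgroup G, Cfsg.IsChiefFactor U V ∧ U ≤ A ∧
          ⁅⁅U, Subgroup.zpowers g⁆, Subgroup.zpowers g⁆ ≤ V ∧ ¬ ⁅U, Subgroup.zpowers g⁆ ≤ V) := by
  set T := Cfsg.pCore p G with hT
  haveI hTn : T.Normal := Grp.pCore_isNormal
  have hTS : T ≤ (S : Subgroup G) := Grp.pCore_le_sylow S
  haveI hzn : (zen A).Normal := zen_normal A
  have hnt : ∀ g, g ∉ T → Subgroup.centralizer (T : Set G) ≤ T →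
      (∀ U V : Subgroup G, Cfsg.IsChiefFactor U V → U ≤ A →
        ⁅⁅U, Subgroup.zpowers g⁆, Subgroup.zpowers g⁆ ≤ V) →
      ∃ U V : Subgroup G, Cfsg.IsChiefFactor U V ∧ U ≤ A ∧
        ⁅⁅U, Subgroup.zpowers g⁆, Subgroup.zpowers g⁆ ≤ V ∧ ¬ ⁅U, Subgroup.zpowers g⁆ ≤ V := by
    intro g hg hCT hq
    by_contra hcon
    push Not at hcon
    exact hg (stab_le_pCore hAT (zen_le A) hTA hC hCT
      (commutator_zpowers_le_iff.mp fun U V hUV hUA => hcon U V hUV hUA (hq U V hUV hUA)))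
  by_cases hquad : ∃ g ∈ (S : Subgroup G), g ∉ T ∧ IsQuadOn A g
  · obtain ⟨g, hgS, hgT, hgq⟩ := hquad
    exact ⟨g, hgS, hgT, hgq.cubic, fun hCT => hnt g hgT hCT fun U V hUV hUA =>
      iterCommutator_chief_le (n := 2) (m := 2) hgq.1 hgq.2 le_rfl hUV hUA⟩
  push Not at hquad
  set σ := (S : Subgroup G).subtype with hσ
  have hσi : Function.Injective σ := Subgroup.subtype_injective _
  set A₁ := A.subgroupOf (S : Subgroup G) with hA₁
  set T₁ := T.subgroupOf (S : Subgroup G) with hT₁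
  have hA₁m : A₁.map σ = A := Subgroup.map_subgroupOf_eq_of_le (hAT.trans hTS)
  have hT₁m : T₁.map σ = T := Subgroup.map_subgroupOf_eq_of_le hTS
  have hAc : A₁ ∈ Cfsg.classTwoSubgroups (S : Subgroup G) := by
    refine (map_classTwo hσi A₁).mp ?_
    rw [hA₁m]; exact hA2.trans (zen_le_centralizer A)
  have hTA₁ : ⁅T₁, A₁⁆ ≤ zen A₁ := by
    rw [← Subgroup.map_le_map_iff_of_injective hσi, Subgroup.map_commutator, map_zen hσi, hA₁m, hT₁m]
    exact hTA
  have hq₁ : ∀ g, IsQuadOn A₁ g → g ∈ T₁ := fun g hg => by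
    by_contra hgT
    exact hquad g g.2 hgT (by rw [← hA₁m]; exact (map_isQuadOn hσi A₁ g).mpr hg)
  obtain ⟨n, hn⟩ : ∃ n, ¬ Cfsg.kSeqEven (S : Subgroup G) n ≤ T₁ := by
    by_contra hall
    push Not at hall
    set f := Subgroup.inclusion hTS with hf
    have hr : f.range = T₁ := Subgroup.inclusion_range hTS
    obtain ⟨h1, h2⟩ := map_kInf (f := f) (Subgroup.inclusion_injective hTS) fun n => by
      rw [hr]; exact ⟨hall n, (odd_le_of_quad hAc hTA₁ hq₁ n).2⟩
    have key : ∀ W : ∀ (Q : Type u) [Group Q], Subgroup Q, Cfsg.IsCharPFunctor.{u} p W →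
        (W T).map f = W (S : Subgroup G) → (Cfsg.inducedFunctor W (S : Subgroup G)).Normal := by
      intro W hW he
      have h3 : Cfsg.inducedFunctor W (S : Subgroup G) = Cfsg.inducedFunctor W T := by
        show (W (S : Subgroup G)).map σ = (W T).map T.subtype
        rw [← he, Subgroup.map_map]; rfl
      rw [h3]
      refine Subgroup.normalizer_eq_top_iff.mp (top_le_iff.mp ?_)
      refine le_trans ?_ (normalizer_le_normalizer_inducedFunctor hW (S.isPGroup'.to_le hTS))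
      rw [Subgroup.normalizer_eq_top_iff.mpr hTn]
    rcases hK with hK | hK
    · exact hK (key _ (isCharPFunctor_kInfLower p) h1)
    · exact hK (key _ (isCharPFunctor_kInfUpper p) h2)
  classical
  have hex : ∃ n, ¬ Cfsg.kSeqEven (S : Subgroup G) n ≤ T₁ := ⟨n, hn⟩
  obtain ⟨n, hn, hnmin⟩ : ∃ n, ¬ Cfsg.kSeqEven (S : Subgroup G) n ≤ T₁ ∧
      ∀ m < n, Cfsg.kSeqEven (S : Subgroup G) m ≤ T₁ :=
    ⟨Nat.find hex, Nat.find_spec hex, fun m hm => not_not.mp (Nat.find_min hex hm)⟩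
  have hAR : A₁ ≤ Cfsg.kSeqOdd (S : Subgroup G) n := by
    cases n with
    | zero => exact le_top
    | succ n => exact le_sSup (mem_upper hAc hTA₁ (hnmin n (Nat.lt_succ_self n)))
  obtain ⟨B₁, hB₁, hB₁T⟩ : ∃ B₁ ∈ Cfsg.kLowerStarFamily (Cfsg.kSeqOdd (S : Subgroup G) n),
      ¬ B₁ ≤ T₁ := by
    by_contra hall
    push Not at hall
    exact hn (sSup_le hall)
  obtain ⟨b, hb, hbT⟩ := SetLike.not_le_iff_exists.mp hB₁T
  set B := B₁.map σ with hB
  have hcub : IsCubicOn A (b : G) := by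
    rw [← hA₁m]; exact (map_isCubicOn hσi A₁ b).mpr (isCubicOn_of_mem_lower hAR hB₁ hb)
  refine ⟨b, b.2, hbT, hcub, fun hCT => ?_⟩
  have hA'z : ⁅A, A⁆ ≤ A := hA2.trans (zen_le A)
  by_cases hst : (b : G) ∈ stab ⁅A, A⁆
  swap
  · simp only [mem_stab] at hst
    push Not at hst
    obtain ⟨U, V, hUV, hUA', u, hu, huV⟩ := hst
    refine ⟨U, V, hUV, hUA'.trans hA'z, ?_, fun h => huV ?_⟩
    · exact ((Subgroup.commutator_mono (Subgroup.commutator_mono (hUA'.trans hA2) le_rfl) le_rfl).trans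
        hcub.2.le).trans bot_le
    · rw [← commutatorElement_def]
      exact h (by
        rw [Subgroup.commutator_comm]
        exact Subgroup.commutator_mem_commutator (Subgroup.mem_zpowers _) hu)
  refine hnt _ hbT hCT (quad_of_lower_member (B := B) (Grp.pCore_isPGroup.to_le hAT) hA2 ?_ ?_ ?_ ?_
    ⟨b, hb, rfl⟩ hst)
  · rw [hB, ← hA₁m]; exact (map_le_normalizer hσi A₁ B₁).mpr (hAR.trans hB₁.2.1)
  · exact (map_classTwo hσi B₁).mpr hB₁.1
  · refine le_trans (Subgroup.commutator_mono ?_ le_rfl) hTA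
    rw [hB, ← map_zen hσi, ← hT₁m]
    refine Subgroup.map_mono fun z hz => hq₁ z ?_
    have hzz : Subgroup.zpowers z ≤ zen B₁ := Subgroup.zpowers_le.mpr hz
    have hAB₁ : ⁅A₁, Subgroup.zpowers z⁆ ≤ B₁ :=
      (Subgroup.commutator_mono le_rfl (hzz.trans (zen_le B₁))).trans
        (commutator_le_right_of_le_normalizer (hAR.trans hB₁.2.1))
    have h0 : ⁅⁅A₁, Subgroup.zpowers z⁆, Subgroup.zpowers z⁆ = ⊥ :=
      le_bot_iff.mp ((Subgroup.commutator_mono hAB₁ hzz).trans
        ((Subgroup.commutator_comm _ _).trans_le (zen_commutator B₁).le))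
    exact ⟨h0.trans_le bot_le, le_bot_iff.mp ((Subgroup.commutator_mono
      (Subgroup.commutator_mono (zen_le A₁) le_rfl) le_rfl).trans h0.le)⟩
  · intro C hCA hC2 hBC hc1 hc2
    obtain ⟨C, rfl⟩ : ∃ C₁ : Subgroup (S : Subgroup G), C₁.map σ = C :=
      ⟨C.subgroupOf _, Subgroup.map_subgroupOf_eq_of_le (hCA.trans (hAT.trans hTS))⟩
    rw [hB, ← map_zen hσi, ← Subgroup.map_commutator, ← Subgroup.map_commutator,
      Subgroup.map_eq_bot_iff_of_injective _ hσi] at hc2
    rw [hB, ← Subgroup.map_commutator, ← Subgroup.map_commutator,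
      Subgroup.map_eq_bot_iff_of_injective _ hσi] at hc1
    rw [hB, ← map_zen hσi, ← Subgroup.map_commutator, Subgroup.map_le_map_iff_of_injective hσi]
    exact hB₁.2.2 C ((map_classTwo hσi C).mp hC2)
      (le_trans ((Subgroup.map_le_map_iff_of_injective hσi).mp (hA₁m.symm ▸ hCA)) hAR)
      ((map_le_normalizer hσi B₁ C).mp hBC) hc1 hc2

end Cfsg.Agent.Invol.KInf
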