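import Mathlib
import Cfsg.Agent.Lib.Invol.KInfCubic
import Cfsg.Agent.Lib.Invol.Critical

/-!
# Cubic elements from a critical subgroup of `O_p(G)`
-/

set_option autoImplicit false
set_option linter.style.haveILetI false

open scoped commutatorElement

namespace Cfsg.Agent.Invol

variable {G : Type*} [Group G] [Finite G] {p : ℕ} [hp : Fact p.Prime]

/-- A critical subgroup of a normal `p`-subgroup. -/
theorem exists_critical_normal {T : Subgroup G} [T.Normal] (hT : IsPGroup p T) :
    ∃ A : Subgroup G, A.Normal ∧ A ≤ T ∧ ⁅T, A⁆ ≤ KInf.zen A ∧ ⁅A, A⁆ ≤ KInf.zen A ∧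
      T ⊓ Subgroup.centralizer (A : Set G) ≤ A := by
  obtain ⟨H, hH, h1, -, h3⟩ := exists_critical hT
  haveI := hH
  set f := T.subtype with hf
  have hfi : Function.Injective f := T.subtype_injective
  have h2 : ⁅T, H.map f⁆ ≤ KInf.zen (H.map f) := by
    rw [← KInf.map_zen hfi, Subgroup.commutator_comm]
    refine le_of_eq_of_le ?_ (Subgroup.map_mono h1)
    rw [Subgroup.map_commutator, ← MonoidHom.range_eq_map, Subgroup.range_subtype]
  refine ⟨H.map f, inferInstance, Subgroup.map_subtype_le H, h2,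
    (Subgroup.commutator_mono (Subgroup.map_subtype_le H) le_rfl).trans h2, ?_⟩
  intro x hx
  refine ⟨⟨x, hx.1⟩, h3 ?_, rfl⟩
  exact Subgroup.mem_centralizer_iff.mpr fun y hy =>
    Subtype.ext (Subgroup.mem_centralizer_iff.mp hx.2 _ ⟨y, hy, rfl⟩)

omit hp in
/-- A minimal normal `p`-subgroup on which some element acts quadratically and nontrivially destroys
`p`-stability. -/
theorem not_isNormalizerPStable_of_quadratic [Fact p.Prime] {V : Subgroup G} [hV : V.Normal]
    (hVp : IsPGroup p V) (hmin : ∀ N : Subgroup G, N.Normal → N ≤ V → N = ⊥ ∨ N = V) {g : G}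
    (hq : ⁅⁅V, Subgroup.zpowers g⁆, Subgroup.zpowers g⁆ = ⊥)
    (hne : g ∉ Subgroup.centralizer (V : Set G)) : ¬ Cfsg.IsNormalizerPStable p G := by
  intro hst
  set N := Subgroup.normalizer (V : Set G) with hN
  have hgN : g ∈ N := by rw [hN, Subgroup.normalizer_eq_top]; exact Subgroup.mem_top g
  have h := hst V hVp g hgN hq
  set C := (Subgroup.centralizer (V : Set G)).subgroupOf N with hC
  set K := (Cfsg.pCore p (N ⧸ C)).comap (QuotientGroup.mk' C) with hK
  let φ : N →* MulAut V := (MulAut.conjNormal).comp N.subtype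
  have hφ : ∀ x ∈ C, φ x = 1 := fun x hx => MulEquiv.ext fun v => Subtype.ext (by
    show (x : G) * v * (x : G)⁻¹ = v
    have h1 : (v : G) * (x : G) = (x : G) * v := Subgroup.mem_centralizer_iff.mp hx v v.2
    rw [← h1, mul_inv_cancel_right])
  have hKp : IsPGroup p (K.map φ) := by
    rintro ⟨_, x, hx, rfl⟩
    obtain ⟨k, hk⟩ := Grp.pCore_isPGroup (p := p) (G := N ⧸ C) ⟨_, hx⟩
    refine ⟨k, Subtype.ext ?_⟩
    simp only [SubmonoidClass.coe_pow, OneMemClass.coe_one, ← map_pow]
    refine hφ _ ((QuotientGroup.eq_one_iff _).mp ?_)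
    have h1 := congrArg Subtype.val hk
    simp only [SubmonoidClass.coe_pow, OneMemClass.coe_one] at h1
    rw [QuotientGroup.mk_pow]
    exact h1
  have hVne : V ≠ ⊥ := fun h => hne (Subgroup.mem_centralizer_iff.mpr fun v hv => by
    rw [h] at hv; rw [Subgroup.mem_bot.mp hv, one_mul, mul_one])
  have hdvd : p ∣ Nat.card V := by
    obtain ⟨n, hn⟩ := IsPGroup.iff_card.mp hVp
    rcases Nat.eq_zero_or_pos n with rfl | hn0
    · exact absurd (Subgroup.card_eq_one.mp (by simpa using hn)) hVne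
    · exact hn ▸ dvd_pow_self p hn0.ne'
  have h1mem : (1 : V) ∈ MulAction.fixedPoints (K.map φ) V := fun a => map_one (a : MulAut V)
  obtain ⟨v, hv, hv1⟩ := hKp.exists_fixed_point_of_prime_dvd_card_of_fixed_point V hdvd h1mem
  have hKn : K.Normal := Grp.pCore_isNormal.comap _
  set F := V ⊓ Subgroup.centralizer ((K.map N.subtype : Subgroup G) : Set G) with hF
  have hFn : F.Normal := by
    have : (K.map N.subtype).Normal := by
      refine ⟨fun n hn x => ?_⟩
      obtain ⟨y, hy, rfl⟩ := hn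
      exact ⟨⟨x, by rw [hN, Subgroup.normalizer_eq_top]; exact Subgroup.mem_top x⟩ * y *
        (⟨x, by rw [hN, Subgroup.normalizer_eq_top]; exact Subgroup.mem_top x⟩)⁻¹, hKn.conj_mem y hy _, rfl⟩
    have : (Subgroup.centralizer ((K.map N.subtype : Subgroup G) : Set G)).Normal :=
      Subgroup.normal_centralizer
    infer_instance
  rcases hmin F hFn inf_le_left with hFb | hFb
  · refine hv1 (Subtype.ext (Subgroup.mem_bot.mp (hFb ▸ ⟨v.2, Subgroup.mem_centralizer_iff.mpr ?_⟩)).symm)
    rintro _ ⟨x, hx, rfl⟩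
    have h2 := congrArg Subtype.val (hv ⟨φ x, x, hx, rfl⟩)
    exact mul_inv_eq_iff_eq_mul.mp h2
  · refine hne (Subgroup.mem_centralizer_iff.mpr fun u hu => ?_)
    exact (Subgroup.mem_centralizer_iff.mp (hFb.ge hu).2 g ⟨⟨g, hgN⟩, h, rfl⟩).symm

end Cfsg.Agent.Invol
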