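import Mathlib
import Cfsg.Agent.Lib.Invol.Transport
import Cfsg.Agent.Lib.Invol.KInfCritical
import Cfsg.Agent.Lib.Invol.Section

/-!
# Transport of p-stability, and normality of the K-infinity subgroups
-/

set_option autoImplicit false
set_option linter.style.haveILetI false

namespace Cfsg.Agent.Invol

universe u

variable {p : ℕ} [hp : Fact p.Prime]

theorem isNormalizerPStable_of_mulEquiv {X Y : Type*} [Group X] [Group Y] [Finite X] (e : X ≃* Y)
    (h : Cfsg.IsNormalizerPStable p Y) : Cfsg.IsNormalizerPStable p X := by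
  have : Finite Y := Finite.of_equiv X e.toEquiv
  intro P hP g hg hq
  set N := Subgroup.normalizer (P : Set X) with hN
  set P' := P.map e.toMonoidHom with hP'
  set N' := Subgroup.normalizer (P' : Set Y) with hN'
  have hNN : N.map e.toMonoidHom = N' := Subgroup.map_equiv_normalizer_eq P e
  let eN : N ≃* N' := (Subgroup.equivMapOfInjective N e.toMonoidHom e.injective).trans (MulEquiv.subgroupCongr hNN)
  have hval : ∀ x : N, ((eN x : N') : Y) = e (x : X) := fun x => rfl
  set C := (Subgroup.centralizer (P : Set X)).subgroupOf N with hC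
  set C' := (Subgroup.centralizer (P' : Set Y)).subgroupOf N' with hC'
  have hCC : C.map eN.toMonoidHom = C' := by
    ext y
    obtain ⟨x, rfl⟩ := eN.surjective y
    constructor
    · rintro ⟨z, hz, hzx⟩
      rw [← eN.injective hzx]
      refine Subgroup.mem_centralizer_iff.mpr ?_
      rintro _ ⟨q, hq', rfl⟩
      show e q * ((eN z : N') : Y) = ((eN z : N') : Y) * e q
      rw [hval, ← map_mul, ← map_mul]
      exact congrArg e (Subgroup.mem_centralizer_iff.mp hz q hq')
    · intro hx
      refine ⟨x, Subgroup.mem_centralizer_iff.mpr fun q hq' => e.injective ?_, rfl⟩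
      have h1 : e q * ((eN x : N') : Y) = ((eN x : N') : Y) * e q :=
        Subgroup.mem_centralizer_iff.mp hx (e q) ⟨q, hq', rfl⟩
      rw [hval] at h1
      rw [map_mul, map_mul]; exact h1
  have hg' : e g ∈ N' := hNN ▸ ⟨g, hg, rfl⟩
  have hq' : ⁅⁅P', Subgroup.zpowers (e g)⁆, Subgroup.zpowers (e g)⁆ = ⊥ := by
    have : Subgroup.zpowers (e g) = (Subgroup.zpowers g).map e.toMonoidHom :=
      (MonoidHom.map_zpowers e.toMonoidHom g).symm
    rw [this, hP', ← Subgroup.map_commutator, ← Subgroup.map_commutator, hq, Subgroup.map_bot]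
  have h1 := h P' (hP.map _) (e g) hg' hq'
  let φ : N ⧸ C ≃* N' ⧸ C' := QuotientGroup.congr C C' eN hCC
  rw [← map_pCore_equiv φ] at h1
  obtain ⟨z, hz, hze⟩ := h1
  have h2 : φ (QuotientGroup.mk ⟨g, hg⟩) = QuotientGroup.mk ⟨e g, hg'⟩ := by
    show QuotientGroup.mk (eN ⟨g, hg⟩) = _
    rfl
  have h3 : z = QuotientGroup.mk ⟨g, hg⟩ := φ.injective (hze.trans h2.symm)
  rwa [← h3]

/-- In a group all of whose sections are p-stable both K-infinity subgroups are normal in the constrained
sections. -/
theorem kInf_normal_of_stable {G : Type u} [Group G] [Finite G]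
    (hst : ∀ (K R : Subgroup G) [(R.subgroupOf K).Normal],
      Cfsg.IsNormalizerPStable p (↥K ⧸ R.subgroupOf K))
    {X : Type u} [Group X] [Finite X] (hX : IsSectionOf X G)
    (hC : Subgroup.centralizer (Cfsg.pCore p X : Set X) ≤ Cfsg.pCore p X) (S : Sylow p X) :
    (Cfsg.inducedFunctor Cfsg.kInfLower (S : Subgroup X)).Normal ∧
      (Cfsg.inducedFunctor Cfsg.kInfUpper (S : Subgroup X)).Normal := by
  haveI hTn : (Cfsg.pCore p X).Normal := Grp.pCore_isNormal
  by_contra hcon
  obtain ⟨A, hAn, hAT, hTA, hA2, hA⟩ := exists_critical_normal (Grp.pCore_isPGroup (p := p) (G := X))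
  haveI := hAn
  obtain ⟨g, -, -, -, hq⟩ := KInf.exists_cubic_element S A hAT hA2 hTA hA (not_and_or.mp hcon)
  obtain ⟨U, V, hUV, hUA, hUq, hUn⟩ := hq hC
  obtain ⟨hlt, hUnorm, hVn, hmin⟩ := hUV
  set π := QuotientGroup.mk' V with hπ
  have hs : Function.Surjective π := QuotientGroup.mk'_surjective V
  haveI : (U.map π).Normal := hUnorm.map _ hs
  obtain ⟨K, R, hR, ⟨e⟩⟩ := ((IsSectionOf.of_surjective π hs).trans hX).exists_quotient
  refine not_isNormalizerPStable_of_quadratic (V := U.map π) (g := π g)
    ((Grp.pCore_isPGroup.to_le (hUA.trans hAT)).map π) (fun N hN hNU => ?_) ?_ ?_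
    (isNormalizerPStable_of_mulEquiv e.symm (hst K R))
  · have hUc : (U.map π).comap π = U :=
      Subgroup.comap_map_eq_self (by rw [hπ, QuotientGroup.ker_mk']; exact hlt.le)
    rcases hmin (N.comap π) (hN.comap π) (fun y hy => by
        show π y ∈ N
        rw [show π y = 1 from (QuotientGroup.eq_one_iff y).mpr hy]; exact one_mem _)
      ((Subgroup.comap_mono hNU).trans hUc.le) with h | h
    · left
      rw [← Subgroup.map_comap_eq_self_of_surjective hs N, h, Subgroup.map_eq_bot_iff, hπ,
        QuotientGroup.ker_mk']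
    · right; rw [← Subgroup.map_comap_eq_self_of_surjective hs N, h]
  · rw [← MonoidHom.map_zpowers, ← Subgroup.map_commutator, ← Subgroup.map_commutator,
      Subgroup.map_eq_bot_iff, hπ, QuotientGroup.ker_mk']
    exact hUq
  · intro hc
    refine hUn ?_
    rw [← QuotientGroup.ker_mk' V, ← hπ, ← Subgroup.map_eq_bot_iff, Subgroup.map_commutator,
      Subgroup.commutator_eq_bot_iff_le_centralizer, Subgroup.le_centralizer_iff, MonoidHom.map_zpowers,
      Subgroup.zpowers_le]
    exact hc

end Cfsg.Agent.Invol
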