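import Mathlib
import Cfsg.Agent.Lib.Invol.QdFusion
import Cfsg.Agent.Lib.Invol.FusionTheorem
import Cfsg.Agent.Lib.Invol.PStableTransport
import Cfsg.Agent.Lib.Grp.QuadraticGroup

/-!
# The least centric radical subgroup when no automizer has a section `SL(2,p)`
-/

set_option autoImplicit false
set_option linter.style.haveILetI false

open scoped Pointwise

namespace Cfsg.Agent.Invol

universe u

variable {G : Type u} [Group G] [Finite G] {p : ℕ} [hp : Fact p.Prime]

/-- Sylow subgroups meet normalized subgroups in Sylow subgroups. -/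
theorem isSylowIn_inf_of_normalized (P : Sylow p G) {H C : Subgroup G} (hPH : (P : Subgroup G) ≤ H)
    (hCH : C ≤ H) (hHC : H ≤ Subgroup.normalizer (C : Set G)) :
    Grp.IsSylowIn p ((P : Subgroup G) ⊓ C) C := by
  refine ⟨inf_le_right, P.isPGroup'.to_le inf_le_left, ?_⟩
  haveI : (C.subgroupOf H).Normal := (Subgroup.normal_subgroupOf_iff_le_normalizer hCH).mpr hHC
  let SH : Sylow p H := (P.isPGroup'.comap_subtype (K := H)).toSylow fun hd =>
    P.not_dvd_index (hd.trans (Subgroup.relIndex_dvd_index_of_le hPH))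
  have h := Grp.sylow_inf_normal_relIndex SH (C.subgroupOf H)
  rw [show (SH : Subgroup H) = (P : Subgroup G).subgroupOf H from rfl,
    ← Subgroup.relIndex_map_map_of_injective _ _ H.subtype_injective,
    Subgroup.map_subgroupOf_eq_of_le hPH, Subgroup.map_subgroupOf_eq_of_le hCH] at h
  rwa [Subgroup.inf_relIndex_right]

set_option maxHeartbeats 1000000 in
/-- `Qd(p)`-freeness. -/
theorem not_involves_qd_of_autSL2Free
    (hfree : ∀ Q : Subgroup G, IsPGroup p ↥Q → ¬ ∃ (H K : Subgroup G) (_ : (K.subgroupOf H).Normal),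
      Subgroup.centralizer (Q : Set G) ≤ K ∧ K ≤ H ∧ H ≤ Subgroup.normalizer (Q : Set G) ∧
      Nonempty ((↥H ⧸ K.subgroupOf H) ≃* Matrix.SpecialLinearGroup (Fin 2) (ZMod p))) :
    ¬ Cfsg.Involves ↥(Cfsg.qd p) G := by
  rintro ⟨K, R, hR, ⟨e⟩⟩
  let φ : K →* ↥(Cfsg.qd p) := e.toMonoidHom.comp (QuotientGroup.mk' _)
  have hφ : Function.Surjective φ := e.surjective.comp (QuotientGroup.mk'_surjective _)
  set V := (Fus.qdBlock p).ker with hV
  set KV := V.comap φ with hKV
  haveI : KV.Normal := (Fus.qdBlock p).normal_ker.comap φ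
  obtain ⟨S⟩ : Nonempty (Sylow p KV) := inferInstance
  set Q := ((S : Subgroup KV).map KV.subtype).map K.subtype with hQdef
  have hQp : IsPGroup p Q := (S.isPGroup'.map _).map _
  let fV : KV →* V := φ.subgroupComap V
  have hfV : Function.Surjective fV := by
    rintro ⟨y, hy⟩
    obtain ⟨x, rfl⟩ := hφ y
    exact ⟨⟨x, hy⟩, rfl⟩
  have hSV : (S : Subgroup KV).map fV = ⊤ := by
    have hVp : IsPGroup p V := (QdFusion.isPGroup_qdT).to_le QdFusion.ker_le_qdT
    exact ((S.mapSurjective hfV).is_maximal' (hVp.to_subgroup ⊤) le_top).symm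
  set L := Subgroup.normalizer ((S : Subgroup KV).map KV.subtype : Set K) with hL
  have hLtop : L ⊔ KV = ⊤ := Sylow.normalizer_sup_eq_top S
  let θ : L →* Matrix.SpecialLinearGroup (Fin 2) (ZMod p) := ((Fus.qdBlock p).comp φ).comp L.subtype
  have hθ : Function.Surjective θ := by
    intro g
    obtain ⟨y, rfl⟩ := Fus.qdBlock_surjective (p := p) g
    obtain ⟨x, rfl⟩ := hφ y
    obtain ⟨l, hl, c, hc, hx⟩ := Subgroup.mem_sup_of_normal_right.mp
      (show x ∈ L ⊔ KV from hLtop ▸ Subgroup.mem_top x)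
    refine ⟨⟨l, hl⟩, ?_⟩
    show Fus.qdBlock p (φ l) = _
    rw [← hx, map_mul, map_mul, show Fus.qdBlock p (φ c) = 1 from hc, mul_one]
  -- elements of `K` centralizing `Q` act trivially
  have hcen : ∀ l : K, (l : G) ∈ Subgroup.centralizer (Q : Set G) → Fus.qdBlock p (φ l) = 1 := by
    intro l hl
    refine Fus.eq_of_matAct_eq fun v => ?_
    rw [Fus.matAct_one]
    refine Fus.qdTrans_injective ?_
    rw [← Fus.qdTrans_conj]
    obtain ⟨s, hs, hse⟩ : (⟨Fus.qdTrans p v, Fus.qdBlock_trans v⟩ : V) ∈ (S : Subgroup KV).map fV := by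
      rw [hSV]; exact Subgroup.mem_top _
    have hse' : φ (s : K) = Fus.qdTrans p v := congrArg Subtype.val hse
    have h1 := Subgroup.mem_centralizer_iff.mp hl ((s : K) : G) ⟨(s : K), ⟨s, hs, rfl⟩, rfl⟩
    have h2 : (s : K) * l = l * (s : K) := Subtype.ext h1
    rw [← hse', ← map_mul, ← h2, map_mul, mul_inv_cancel_right]
  set CQ := Subgroup.centralizer (Q : Set G) with hCQ
  set H' := L.map K.subtype ⊔ CQ with hH'
  set K' := (θ.ker.map L.subtype).map K.subtype ⊔ CQ with hK'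
  have hLN : L.map K.subtype ≤ Subgroup.normalizer (Q : Set G) := Subgroup.le_normalizer_map K.subtype
  have hH'N : H' ≤ Subgroup.normalizer (Q : Set G) := sup_le hLN (Subgroup.centralizer_le_normalizer _)
  have hCn : ∀ x ∈ Subgroup.normalizer (Q : Set G), ∀ c ∈ CQ, x * c * x⁻¹ ∈ CQ := fun x hx c hc =>
    Subgroup.mem_centralizer_iff.mpr fun q hq => by
      have h1 := Subgroup.mem_centralizer_iff.mp hc _ ((Subgroup.mem_normalizer_iff''.mp hx q).mp hq)
      calc q * (x * c * x⁻¹) = x * (x⁻¹ * q * x * c) * x⁻¹ := by group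
        _ = x * (c * (x⁻¹ * q * x)) * x⁻¹ := by rw [h1]
        _ = x * c * x⁻¹ * q := by group
  have hK'H : K' ≤ H' := sup_le_sup_right (Subgroup.map_mono (Subgroup.map_subtype_le _)) _
  have hK'n : (K'.subgroupOf H').Normal := by
    refine (Subgroup.normal_subgroupOf_iff_le_normalizer hK'H).mpr (sup_le ?_ fun c hc => ?_)
    · rintro _ ⟨l, hl, rfl⟩
      refine mem_normalizer_of_forall_mem fun k hk => ?_
      have hmap : K' ≤ K'.comap (MulAut.conj (l : G)).toMonoidHom := by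
        refine sup_le ?_ fun c hc => Subgroup.mem_sup_right (hCn _ (hLN ⟨l, hl, rfl⟩) c hc)
        rintro _ ⟨_, ⟨w, hw, rfl⟩, rfl⟩
        set l' : L := ⟨l, hl⟩ with hl'
        have hw' : l' * w * l'⁻¹ ∈ θ.ker := θ.normal_ker.conj_mem w hw l'
        have he : (MulAut.conj (l : G)).toMonoidHom (K.subtype (L.subtype w)) =
            K.subtype (L.subtype (l' * w * l'⁻¹)) := by
          rw [map_mul, map_mul, map_inv, map_mul, map_mul, map_inv]; rfl
        show (MulAut.conj (l : G)).toMonoidHom (K.subtype (L.subtype w)) ∈ K'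
        rw [he]
        exact Subgroup.mem_sup_left (Subgroup.mem_map_of_mem _ (Subgroup.mem_map_of_mem _ hw'))
      exact hmap hk
    · exact Subgroup.le_normalizer (Subgroup.mem_sup_right hc)
  let f : L →* H' ⧸ K'.subgroupOf H' := (QuotientGroup.mk' _).comp
    ((K.subtype.comp L.subtype).codRestrict H' fun l => Subgroup.mem_sup_left ⟨l, l.2, rfl⟩)
  have hLC : L.map K.subtype ≤ Subgroup.normalizer (CQ : Set G) := fun x hx =>
    mem_normalizer_of_forall_mem (hCn x (hLN hx))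
  have hf : Function.Surjective f := by
    intro q
    induction q using QuotientGroup.induction_on with
    | _ y =>
      have hy : (y : G) ∈ L.map K.subtype ⊔ CQ := y.2
      obtain ⟨_, ⟨l, hl, rfl⟩, c, hc, he⟩ : ∃ a ∈ L.map K.subtype, ∃ c ∈ CQ, a * c = (y : G) := by
        rw [← SetLike.mem_coe, Subgroup.coe_mul_of_left_le_normalizer_right _ _ hLC] at hy
        exact hy
      refine ⟨⟨l, hl⟩, QuotientGroup.eq.mpr ?_⟩
      show (l : G)⁻¹ * (y : G) ∈ K'
      rw [← he, K.coe_subtype, inv_mul_cancel_left]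
      exact Subgroup.mem_sup_right hc
  have hker : f.ker = θ.ker := by
    ext l
    refine (QuotientGroup.eq_one_iff _).trans ⟨fun h => ?_, fun h => Subgroup.mem_sup_left ⟨_, ⟨l, h, rfl⟩, rfl⟩⟩
    have h' : ((l : K) : G) ∈ (θ.ker.map L.subtype).map K.subtype ⊔ CQ := h
    rw [← SetLike.mem_coe, Subgroup.coe_mul_of_left_le_normalizer_right _ _
      ((Subgroup.map_mono (Subgroup.map_subtype_le _)).trans hLC)] at h'
    obtain ⟨_, ⟨_, ⟨w, hw, rfl⟩, rfl⟩, c, hc, he⟩ := h'
    have hc' : ((w : K)⁻¹ * (l : K) : K).1 ∈ CQ := by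
      show (w : G)⁻¹ * (l : G) ∈ CQ
      rw [← he]
      simpa using hc
    have h1 := hcen _ hc'
    rw [map_mul, map_mul, map_inv, map_inv, show Fus.qdBlock p (φ (w : K)) = 1 from hw, inv_one, one_mul] at h1
    exact h1
  exact hfree Q hQp ⟨H', K', hK'n, le_sup_right, hK'H, hH'N,
    ⟨(QuotientGroup.quotientKerEquivOfSurjective f hf).symm.trans
      ((QuotientGroup.quotientMulEquivOfEq hker).trans (QuotientGroup.quotientKerEquivOfSurjective θ hθ))⟩⟩

/-- In a `Qd(p)`-free group, `p` odd, `N(K_∞(P))` controls strong fusion. -/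
theorem control_kInf_of_free (hodd : p ≠ 2) (hfree : ¬ Cfsg.Involves ↥(Cfsg.qd p) G) (P : Sylow p G)
    {A : Set G} (hA : A ⊆ (P : Subgroup G)) {g : G} (hg : ∀ a ∈ A, g * a * g⁻¹ ∈ (P : Subgroup G)) :
    ∃ x ∈ Subgroup.normalizer (Cfsg.inducedFunctor Cfsg.kInfLower (P : Subgroup G) : Set G),
      ∀ a ∈ A, x * a * x⁻¹ = g * a * g⁻¹ := by
  have hst : ∀ (K' R' : Subgroup G) [(R'.subgroupOf K').Normal],
      Cfsg.IsNormalizerPStable p (↥K' ⧸ R'.subgroupOf K') := fun K' R' _ =>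
    Grp.Quad.isNormalizerPStable_of_free hodd fun h => hfree ((isSectionOf_of_involves h).trans
      ((IsSectionOf.of_surjective _ (QuotientGroup.mk'_surjective _)).trans (IsSectionOf.of_subgroup K'))).involves
  have h𝓦 : ∀ W ∈ ({fun Q [Group Q] => Cfsg.kInfLower Q} : Set (∀ (Q : Type u) [Group Q], Subgroup Q)),
      Cfsg.IsCharPFunctor.{u} p W := by rintro _ rfl; exact KInf.isCharPFunctor_kInfLower p
  obtain ⟨c, hc, he⟩ := fusCtrl_of_local h𝓦 ⟨_, rfl⟩ (G := G) (fun X _ _ hX hC S B h _ hhB => by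
    refine chn_step ⟨_, ⟨_, rfl, rfl⟩, ?_⟩ hhB
    rw [Subgroup.normalizer_eq_top_iff.mpr (kInf_normal_of_stable hst hX hC S).1]
    exact Subgroup.mem_top h) G (IsSectionOf.refl G) P A g hA hg
  refine ⟨c, ?_, he⟩
  clear he
  induction hc with
  | one => exact one_mem _
  | step _ hx _ ih =>
    obtain ⟨_, ⟨W', hW', rfl⟩, hxN⟩ := hx
    rw [Set.mem_singleton_iff] at hW'
    subst hW'
    exact mul_mem hxN ih

theorem exists_pow_mem_of_relIndex {A X : Subgroup G} (hn : (A.subgroupOf X).Normal) {k : ℕ}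
    (hk : A.relIndex X = p ^ k) {x : G} (hx : x ∈ X) : x ^ p ^ k ∈ A := by
  have h1 : (QuotientGroup.mk' (A.subgroupOf X) ⟨x, hx⟩) ^ p ^ k = 1 := by
    rw [← hk, Subgroup.relIndex, Subgroup.index_eq_card]; exact pow_card_eq_one'
  rw [← map_pow] at h1
  exact (QuotientGroup.eq_one_iff ((⟨x, hx⟩ : X) ^ p ^ k)).mp h1

/-- When `N(U)` controls strong fusion for a self-centralizing `U` of `P`, there is a least centric
radical subgroup and its normalizer controls fusion. -/
theorem exists_least_centric_radical (P : Sylow p G) (U : Subgroup G) (hUP : U ≤ (P : Subgroup G))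
    (hPN : (P : Subgroup G) ≤ Subgroup.normalizer (U : Set G))
    (hcU : (P : Subgroup G) ⊓ Subgroup.centralizer (U : Set G) ≤ U)
    (hctl : ∀ A : Set G, A ⊆ (P : Subgroup G) → ∀ g : G, (∀ a ∈ A, g * a * g⁻¹ ∈ (P : Subgroup G)) →
      ∃ x ∈ Subgroup.normalizer (U : Set G), ∀ a ∈ A, x * a * x⁻¹ = g * a * g⁻¹)
    (cr : Subgroup G → Prop)
    (hcr : ∀ Q : Subgroup G, cr Q ↔ (Q ≤ (P : Subgroup G) ∧
      (∃ R : Sylow p ↥(Subgroup.centralizer (Q : Set G)),
        (R : Subgroup ↥(Subgroup.centralizer (Q : Set G))).map (Subgroup.centralizer (Q : Set G)).subtype = Q ⊓ Subgroup.centralizer (Q : Set G)) ∧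
      ∀ X : Subgroup G, X ≤ Subgroup.normalizer (Q : Set G) →
        (∀ n ∈ Subgroup.normalizer (Q : Set G), X.map (MulAut.conj n).toMonoidHom = X) →
        Q ⊔ Subgroup.centralizer (Q : Set G) ≤ X → (∃ k : ℕ, (Q ⊔ Subgroup.centralizer (Q : Set G)).relIndex X = p ^ k) →
        X = Q ⊔ Subgroup.centralizer (Q : Set G))) :
    ∃ Q : Subgroup G, cr Q ∧ (∀ R : Subgroup G, cr R → Q ≤ R) ∧
      (∀ x ∈ (P : Subgroup G), Q.map (MulAut.conj x).toMonoidHom = Q) ∧
      ∀ A : Subgroup G, A ≤ (P : Subgroup G) → ∀ g : G, A.map (MulAut.conj g).toMonoidHom ≤ (P : Subgroup G) →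
        ∃ h ∈ Subgroup.normalizer (Q : Set G), ∃ c ∈ Subgroup.centralizer (A : Set G), g = h * c := by
  classical
  set N := Subgroup.normalizer (U : Set G) with hN
  set ON := Cfsg.pPrimeCore p N with hON
  haveI hONn : ON.Normal := Grp.pPrimeCore_isNormal
  set f := QuotientGroup.mk' ON with hf
  have hfs : Function.Surjective f := QuotientGroup.mk'_surjective ON
  set KN := (Cfsg.pCore p (N ⧸ ON)).comap f with hKN
  haveI hKNn : KN.Normal := Grp.pCore_isNormal.comap f
  set O := ON.map N.subtype with hO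
  set K := KN.map N.subtype with hK
  set Q := (P : Subgroup G) ⊓ K with hQ
  have hON' : N ≤ Subgroup.normalizer (O : Set G) := fun n hn =>
    mem_normalizer_of_forall_mem (by rintro _ ⟨o, ho, rfl⟩; exact ⟨⟨n, hn⟩ * o * ⟨n, hn⟩⁻¹, hONn.conj_mem o ho _, rfl⟩)
  have hKn : ∀ n ∈ N, ∀ k ∈ K, n * k * n⁻¹ ∈ K := by
    rintro n hn _ ⟨k, hk, rfl⟩
    exact ⟨⟨n, hn⟩ * k * ⟨n, hn⟩⁻¹, hKNn.conj_mem k hk _, rfl⟩
  have hOK : O ≤ K := Subgroup.map_mono fun o ho => by
    show f o ∈ Cfsg.pCore p (N ⧸ ON)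
    rw [show f o = 1 from (QuotientGroup.eq_one_iff o).mpr ho]; exact one_mem _
  have hKN' : K ≤ N := Subgroup.map_subtype_le _
  have hOcop : (Nat.card O).Coprime p := by
    rw [hO, Subgroup.card_map_of_injective N.subtype_injective]; exact Grp.pPrimeCore_coprime
  have hOP : ∀ x ∈ O, x ∈ (P : Subgroup G) → x = 1 := fun x hx hxP =>
    eq_one_of_coprime_of_mem P.isPGroup' hxP (hOcop.coprime_dvd_left (O.orderOf_dvd_natCard hx))
  let PN : Sylow p N := (P.isPGroup'.comap_subtype (K := N)).toSylow fun hd =>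
    P.not_dvd_index (hd.trans (Subgroup.relIndex_dvd_index_of_le hPN))
  -- `K = O Q`
  have hKle : ∀ k ∈ K, ∃ o ∈ O, ∃ q ∈ Q, k = o * q := by
    rintro _ ⟨k, hk, rfl⟩
    have h1 : KN ≤ ON ⊔ (PN : Subgroup N) := by
      refine le_trans (Subgroup.comap_mono (Grp.pCore_le_sylow (PN.mapSurjective hfs))) ?_
      show ((PN : Subgroup N).map f).comap f ≤ _
      rw [Subgroup.comap_map_eq, QuotientGroup.ker_mk', sup_comm]
    obtain ⟨o, ho, s, hs, rfl⟩ := Subgroup.mem_sup_of_normal_left.mp (h1 hk)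
    have hsK : (s : G) ∈ K := by
      have := K.mul_mem (K.inv_mem (hOK ⟨o, ho, rfl⟩)) (⟨o * s, hk, rfl⟩ : N.subtype (o * s) ∈ K)
      simpa using this
    exact ⟨o, ⟨o, ho, rfl⟩, s, ⟨hs, hsK⟩, rfl⟩
  have hKpow : ∀ k ∈ K, ∃ n : ℕ, k ^ p ^ n ∈ O := by
    rintro _ ⟨k, hk, rfl⟩
    obtain ⟨n, hn⟩ := (Grp.pCore_isPGroup (p := p) (G := N ⧸ ON)) ⟨f k, hk⟩
    refine ⟨n, k ^ p ^ n, (QuotientGroup.eq_one_iff _).mp ?_, map_pow _ _ _⟩
    rw [QuotientGroup.mk_pow]
    exact congrArg Subtype.val hn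
  have hQP : Q ≤ (P : Subgroup G) := inf_le_left
  have hOQ : ∀ o ∈ O, ∀ D : Subgroup G, D ≤ (P : Subgroup G) → o ∈ Subgroup.normalizer (D : Set G) →
      o ∈ Subgroup.centralizer (D : Set G) := by
    intro o ho D hD hoN
    refine Subgroup.mem_centralizer_iff.mpr fun d hd => ?_
    have h1 : o * d * o⁻¹ * d⁻¹ ∈ (P : Subgroup G) :=
      mul_mem (hD ((Subgroup.mem_normalizer_iff.mp hoN d).mp hd)) (inv_mem (hD hd))
    have h2 : o * d * o⁻¹ * d⁻¹ ∈ O := by
      rw [show o * d * o⁻¹ * d⁻¹ = o * (d * o⁻¹ * d⁻¹) by group]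
      exact mul_mem ho ((Subgroup.mem_normalizer_iff.mp (hON' (hPN (hD hd))) _).mp (inv_mem ho))
    exact (mul_inv_eq_iff_eq_mul.mp (mul_inv_eq_one.mp (hOP _ h2 h1))).symm
  have hUQ : U ≤ Q := by
    refine le_inf hUP fun u hu => ⟨⟨u, hPN (hUP hu)⟩, ?_, rfl⟩
    have hUn : (U.subgroupOf N).Normal := Subgroup.normal_in_normalizer
    exact (Grp.le_pCore (hUn.map f hfs) (((P.isPGroup'.to_le hUP).comap_subtype (K := N)).map f))
      ⟨⟨u, hPN (hUP hu)⟩, (show (⟨u, hPN (hUP hu)⟩ : N) ∈ U.subgroupOf N from hu), rfl⟩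
  -- `C(U) ≤ K`
  have hCK : Subgroup.centralizer (U : Set G) ≤ K := by
    set C := Subgroup.centralizer (U : Set G) with hC
    have hCN : C ≤ N := Subgroup.centralizer_le_normalizer _
    intro c hc
    haveI hCn : (C.subgroupOf N).Normal := ⟨fun x hx n => Subgroup.mem_centralizer_iff.mpr fun u hu => by
      have h1 : (n : G)⁻¹ * u * n * (x : G) = (x : G) * ((n : G)⁻¹ * u * n) :=
        Subgroup.mem_centralizer_iff.mp hx _ ((Subgroup.mem_normalizer_iff''.mp n.2 u).mp hu)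
      calc u * ((n * x * n⁻¹ : N) : G) = n * ((n : G)⁻¹ * u * n * x) * (n : G)⁻¹ := by simp [mul_assoc]
        _ = _ := by rw [h1]; simp [mul_assoc]⟩
    set C' := C.subgroupOf N
    obtain ⟨SC, hSC⟩ := Grp.isSylowIn_iff.mp (show Grp.IsSylowIn p ((PN : Subgroup N) ⊓ C') C' from
      ⟨inf_le_right, PN.isPGroup'.to_le inf_le_left, by
        rw [Subgroup.inf_relIndex_right]; exact Grp.sylow_inf_normal_relIndex PN C'⟩)
    have hNPC : Cfsg.HasNormalPComplement p C' := by
      rw [Transfer.hasNormalPComplement_iff_frobeniusCondition SC]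
      intro D hD x _ _
      refine Subgroup.mem_centralizer_iff.mpr fun q hq => Subtype.ext (Subtype.ext ?_)
      have h1 : (q : N) ∈ (PN : Subgroup N) ⊓ C' := hSC ▸ ⟨q, hD hq, rfl⟩
      exact Subgroup.mem_centralizer_iff.mp x.2 _ (hcU ⟨h1.1, h1.2⟩)
    obtain ⟨M, hM, hMd, k, hk⟩ := Transfer.hasNormalPComplement_iff_exists.mp hNPC
    have h1 : M ≤ Cfsg.pPrimeCore p C' :=
      Grp.le_pPrimeCore hM ((Fact.out : p.Prime).coprime_iff_not_dvd.mpr hMd).symm
    have h2 : (Cfsg.pPrimeCore p C').map C'.subtype ≤ ON :=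
      Grp.le_pPrimeCore inferInstance (by
        rw [Subgroup.card_map_of_injective C'.subtype_injective]; exact Grp.pPrimeCore_coprime)
    have hp' : IsPGroup p (C'.map f) := by
      rintro ⟨_, x, hx, rfl⟩
      haveI := hM
      refine ⟨k, Subtype.ext ?_⟩
      simp only [SubmonoidClass.coe_pow, OneMemClass.coe_one, ← map_pow]
      refine (QuotientGroup.eq_one_iff _).mpr (h2 ⟨⟨x, hx⟩ ^ p ^ k, h1 ?_, rfl⟩)
      exact hk ▸ Subgroup.pow_index_mem M (⟨x, hx⟩ : C')
    exact ⟨⟨c, hCN hc⟩, Grp.le_pCore (hCn.map f hfs) hp' ⟨⟨c, hCN hc⟩, hc, rfl⟩, rfl⟩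
  have hPQ : (P : Subgroup G) ≤ Subgroup.normalizer (Q : Set G) := fun s hs =>
    mem_normalizer_of_forall_mem fun q hq => ⟨(P : Subgroup G).mul_mem ((P : Subgroup G).mul_mem hs hq.1) ((P : Subgroup G).inv_mem hs), hKn s (hPN hs) q hq.2⟩
  have hQctl : ∀ n ∈ Subgroup.normalizer (Q : Set G), n ∈ N := by
    intro n hn
    obtain ⟨x, hx, he⟩ := hctl (Q : Set G) hQP n fun a ha => hQP ((Subgroup.mem_normalizer_iff.mp hn a).mp ha)
    have h1 : x⁻¹ * n ∈ Subgroup.centralizer (U : Set G) := Subgroup.mem_centralizer_iff.mpr fun u hu => by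
      calc u * (x⁻¹ * n) = x⁻¹ * (x * u * x⁻¹) * n := by group
        _ = x⁻¹ * (n * u * n⁻¹) * n := by rw [he u (hUQ hu)]
        _ = x⁻¹ * n * u := by group
    simpa using mul_mem hx (hKN' (hCK h1))
  -- `N = O N(Q)`
  have hfrat : ∀ n ∈ N, ∃ o ∈ O, o * n ∈ Subgroup.normalizer (Q : Set G) := by
    intro n hn
    have hsyl : Grp.IsSylowIn p Q K :=
      isSylowIn_inf_of_normalized P hPN hKN' fun m hm => mem_normalizer_of_forall_mem (hKn m hm)
    have hnK : MulAut.conj n • K = K :=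
      Grp.mem_normalizer_iff_smul.mp (mem_normalizer_of_forall_mem (hKn n hn))
    obtain ⟨k, hk, hke⟩ := hsyl.conj (hsyl.smul hnK)
    obtain ⟨o, ho, q, hq, rfl⟩ := hKle k hk
    refine ⟨o⁻¹, inv_mem ho, ?_⟩
    have h1 : (o * q)⁻¹ * n ∈ Subgroup.normalizer (Q : Set G) := by
      rw [Grp.mem_normalizer_iff_smul, map_mul, mul_smul, ← hke, smul_smul, ← map_mul,
        inv_mul_cancel, map_one, one_smul]
    simpa [mul_assoc] using mul_mem (Subgroup.le_normalizer hq) h1
  refine ⟨Q, (hcr Q).mpr ⟨hQP, ?_, ?_⟩, fun R hR => ?_, fun x hx => ?_, fun A hA g hg => ?_⟩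
  · have hs := isSylowIn_inf_of_normalized P hPQ (Subgroup.centralizer_le_normalizer _)
      (fun n hn => mem_normalizer_of_forall_mem fun c hc => Subgroup.mem_centralizer_iff.mpr fun q hq => by
        have h1 := Subgroup.mem_centralizer_iff.mp hc _ ((Subgroup.mem_normalizer_iff''.mp hn q).mp hq)
        calc q * (n * c * n⁻¹) = n * (n⁻¹ * q * n * c) * n⁻¹ := by group
          _ = n * c * n⁻¹ * q := by rw [h1]; group)
    obtain ⟨S, hS⟩ := Grp.isSylowIn_iff.mp hs
    refine ⟨S, hS.trans (le_antisymm (fun z hz => ⟨?_, hz.2⟩) (inf_le_inf_right _ hQP))⟩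
    exact hUQ (hcU ⟨hz.1, Subgroup.centralizer_le hUQ hz.2⟩)
  · intro X hXN hXinv hQX ⟨k, hk⟩
    refine le_antisymm (fun x hx => ?_) hQX
    set D := Q ⊔ Subgroup.centralizer (Q : Set G) with hD
    have hDn : (D.subgroupOf X).Normal := (Subgroup.normal_subgroupOf_iff_le_normalizer hQX).mpr
      fun m hm => mem_normalizer_of_forall_mem fun d hd => by
        refine (?_ : D ≤ D.comap (MulAut.conj m).toMonoidHom) hd
        refine sup_le (fun q hq => Subgroup.mem_sup_left ((Subgroup.mem_normalizer_iff.mp (hXN hm) q).mp hq))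
          (fun c hc => Subgroup.mem_sup_right (Subgroup.mem_centralizer_iff.mpr fun q hq => ?_))
        have h1 := Subgroup.mem_centralizer_iff.mp hc _ ((Subgroup.mem_normalizer_iff''.mp (hXN hm) q).mp hq)
        show q * (m * c * m⁻¹) = m * c * m⁻¹ * q
        calc q * (m * c * m⁻¹) = m * (m⁻¹ * q * m * c) * m⁻¹ := by group
          _ = m * c * m⁻¹ * q := by rw [h1]; group
    have hDK : D ≤ K := sup_le inf_le_right ((Subgroup.centralizer_le hUQ).trans hCK)
    have hXN' : X ≤ N := fun y hy => hQctl y (hXN hy)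
    have hXK : X ≤ K := by
      intro y hy
      refine ⟨⟨y, hXN' hy⟩, Grp.le_pCore (N := (X.subgroupOf N).map f) ?_ ?_ ⟨⟨y, hXN' hy⟩, hy, rfl⟩, rfl⟩
      · refine ⟨fun z hz w => ?_⟩
        obtain ⟨x', hx', rfl⟩ := hz
        obtain ⟨n, rfl⟩ := hfs w
        obtain ⟨o, ⟨o', ho', rfl⟩, hon⟩ := hfrat n n.2
        have hmem : o' * n * x' * (o' * n)⁻¹ ∈ X.subgroupOf N := (hXinv _ hon).le ⟨(x' : G), hx', by simp [mul_assoc]⟩
        refine ⟨_, hmem, ?_⟩
        rw [map_mul, map_mul, map_inv, map_mul, show f o' = 1 from (QuotientGroup.eq_one_iff o').mpr ho', one_mul]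
      · rintro ⟨_, z, hz, rfl⟩
        obtain ⟨_, hzK, hze⟩ : (z : G) ^ p ^ k ∈ KN.map N.subtype := hDK (exists_pow_mem_of_relIndex hDn hk hz)
        obtain ⟨m, hm⟩ := hKpow _ (show (z : G) ^ p ^ k ∈ K from ⟨_, hzK, hze⟩)
        refine ⟨k + m, Subtype.ext ?_⟩
        simp only [SubmonoidClass.coe_pow, OneMemClass.coe_one, ← map_pow]
        refine (QuotientGroup.eq_one_iff _).mpr ?_
        obtain ⟨w, hw, hwe⟩ := hm
        have hzw : z ^ p ^ (k + m) = w := Subtype.ext (by rw [SubmonoidClass.coe_pow, pow_add, pow_mul]; exact hwe.symm)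
        exact hzw ▸ hw
    obtain ⟨o, ho, q, hq, rfl⟩ := hKle x (hXK hx)
    have hoN : o ∈ Subgroup.normalizer (Q : Set G) := by
      simpa using mul_mem (hXN hx) (inv_mem (Subgroup.le_normalizer hq))
    exact mul_mem (Subgroup.mem_sup_right (hOQ o ho Q hQP hoN)) (Subgroup.mem_sup_left hq)
  · -- minimality
    obtain ⟨hRP, hsy, hrad⟩ := (hcr R).mp hR
    set CR := Subgroup.centralizer (R : Set G) with hCR
    set D := R ⊔ CR with hD
    set NR := Subgroup.normalizer (R : Set G) with hNR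
    have hDn : ∀ m ∈ NR, ∀ d ∈ D, m * d * m⁻¹ ∈ D := fun m hm d hd => by
      refine (?_ : D ≤ D.comap (MulAut.conj m).toMonoidHom) hd
      refine sup_le (fun q hq => Subgroup.mem_sup_left ((Subgroup.mem_normalizer_iff.mp hm q).mp hq))
        (fun c hc => Subgroup.mem_sup_right (Subgroup.mem_centralizer_iff.mpr fun q hq => ?_))
      have h1 := Subgroup.mem_centralizer_iff.mp hc _ ((Subgroup.mem_normalizer_iff''.mp hm q).mp hq)
      show q * (m * c * m⁻¹) = m * c * m⁻¹ * q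
      calc q * (m * c * m⁻¹) = m * (m⁻¹ * q * m * c) * m⁻¹ := by group
        _ = m * c * m⁻¹ * q := by rw [h1]; group
    set Y := K ⊓ NR with hY
    have hDNR : D ≤ NR := sup_le Subgroup.le_normalizer (Subgroup.centralizer_le_normalizer _)
    set X := D ⊔ Y with hX
    have hYD : Y ≤ Subgroup.normalizer (D : Set G) := fun y hy => mem_normalizer_of_forall_mem (hDn y hy.2)
    have hXeq := hrad X (sup_le hDNR inf_le_right) (fun n hn => ?_) le_sup_left ?_
    rotate_left
    · refine Subgroup.eq_of_le_of_card_ge ?_ (Subgroup.card_map_of_injective (MulAut.conj n).injective).ge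
      refine Subgroup.map_le_iff_le_comap.mpr (sup_le (fun d hd => Subgroup.mem_sup_left (hDn n hn d hd)) fun y hy => ?_)
      obtain ⟨x, hx, he⟩ := hctl (R : Set G) hRP n fun a ha => hRP ((Subgroup.mem_normalizer_iff.mp hn a).mp ha)
      have hc : x⁻¹ * n ∈ CR := Subgroup.mem_centralizer_iff.mpr fun r hr => by
        calc r * (x⁻¹ * n) = x⁻¹ * (x * r * x⁻¹) * n := by group
          _ = x⁻¹ * (n * r * n⁻¹) * n := by rw [he r hr]
          _ = x⁻¹ * n * r := by group
      have hxR : x ∈ NR := by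
        simpa using mul_mem hn (inv_mem (hDNR (Subgroup.mem_sup_right hc)))
      set c := x⁻¹ * n with hcdef
      have hk : y⁻¹ * (c * y * c⁻¹) ∈ D := by
        rw [show y⁻¹ * (c * y * c⁻¹) = (y⁻¹ * c * y) * c⁻¹ by group]
        refine mul_mem ?_ (inv_mem (Subgroup.mem_sup_right hc))
        simpa using hDn y⁻¹ (inv_mem hy.2) c (Subgroup.mem_sup_right hc)
      show n * y * n⁻¹ ∈ X
      rw [show n * y * n⁻¹ = x * y * x⁻¹ * (x * (y⁻¹ * (c * y * c⁻¹)) * x⁻¹) by rw [hcdef]; group]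
      exact mul_mem (Subgroup.mem_sup_right ⟨hKn x hx y hy.1, NR.mul_mem (NR.mul_mem hxR hy.2) (NR.inv_mem hxR)⟩)
        (Subgroup.mem_sup_left (hDn x hxR _ hk))
    · haveI : (D.subgroupOf X).Normal := (Subgroup.normal_subgroupOf_iff_le_normalizer le_sup_left).mpr
        (sup_le Subgroup.le_normalizer hYD)
      have hp' : IsPGroup p (X ⧸ D.subgroupOf X) := fun z => by
        induction z using QuotientGroup.induction_on with
        | _ x =>
          have hx : (x : G) ∈ ((Y ⊔ D : Subgroup G) : Set G) := by rw [sup_comm]; exact x.2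
          rw [Subgroup.coe_mul_of_left_le_normalizer_right _ _ hYD] at hx
          obtain ⟨y, hy, d, hd, he⟩ := hx
          change y * d = (x : G) at he
          obtain ⟨n, hn⟩ := hKpow y hy.1
          refine ⟨n, ?_⟩
          let y' : X := ⟨y, Subgroup.mem_sup_right hy⟩
          have hy' : y'⁻¹ * x ∈ D.subgroupOf X := by
            show y⁻¹ * (x : G) ∈ D
            rw [← he, inv_mul_cancel_left]; exact hd
          rw [← (QuotientGroup.eq.mpr hy' : (y' : X ⧸ D.subgroupOf X) = x), ← QuotientGroup.mk_pow]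
          exact (QuotientGroup.eq_one_iff _).mpr (Subgroup.mem_sup_right (hOQ _ hn R hRP (pow_mem hy.2 _)))
      obtain ⟨n, hn⟩ := IsPGroup.iff_card.mp hp'
      refine ⟨n, ?_⟩
      rw [Subgroup.relIndex, Subgroup.index_eq_card]
      exact hn
    obtain ⟨S, hS⟩ := hsy
    -- `N_Q(R) ≤ R`
    have hNQ : ∀ q ∈ Q, q ∈ NR → q ∈ R := by
      intro q hq hqR
      have hqD : q ∈ D := hXeq ▸ Subgroup.mem_sup_right ⟨hq.2, hqR⟩
      have hRD : R ≤ Subgroup.normalizer (CR : Set G) := fun r hr => mem_normalizer_of_forall_mem fun c hc => by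
        have h1 := Subgroup.mem_centralizer_iff.mp hc r hr
        rw [← mul_inv_eq_iff_eq_mul.mpr h1] at hc
        simpa [h1, mul_assoc] using hc
      rw [← SetLike.mem_coe, hD, Subgroup.coe_mul_of_left_le_normalizer_right _ _ hRD] at hqD
      obtain ⟨r, hr, c, hc, rfl⟩ := hqD
      refine mul_mem hr ?_
      have hcP : c ∈ (P : Subgroup G) := by
        simpa using mul_mem (inv_mem (hRP hr)) hq.1
      have hle : (S : Subgroup CR) ≤ (P : Subgroup G).subgroupOf CR := fun s hs => by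
        have h1 : (s : G) ∈ R ⊓ CR := hS.le (Subgroup.mem_map_of_mem _ hs)
        exact hRP h1.1
      have heq := S.is_maximal' (P.isPGroup'.comap_subtype (K := CR)) hle
      have hcS : (⟨c, hc⟩ : CR) ∈ (S : Subgroup CR) := heq ▸ hcP
      have h1 : c ∈ R ⊓ CR := hS.le (Subgroup.mem_map_of_mem _ hcS)
      exact h1.1
    by_contra hQR
    set RQ := R ⊔ Q with hRQ
    haveI : Group.IsNilpotent RQ := (P.isPGroup'.to_le (sup_le hRP hQP)).isNilpotent
    have hlt : R.subgroupOf RQ < ⊤ := lt_top_iff_ne_top.mpr fun h =>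
      hQR ((le_sup_right (a := R)).trans (Subgroup.subgroupOf_eq_top.mp h))
    have h2 := Group.normalizerCondition_of_isNilpotent _ hlt
    obtain ⟨z, hz, hzR⟩ := SetLike.exists_of_lt h2
    have hzN : (z : G) ∈ NR := by
      rw [← Subgroup.subgroupOf_normalizer_eq (le_sup_left : R ≤ RQ)] at hz; exact hz
    have hzm : (z : G) ∈ ((R ⊔ Q : Subgroup G) : Set G) := z.2
    rw [Subgroup.coe_mul_of_left_le_normalizer_right _ _ (fun r hr => hPQ (hRP hr))] at hzm
    obtain ⟨r, hr, q, hq, he⟩ := hzm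
    change r * q = (z : G) at he
    refine hzR ?_
    show (z : G) ∈ R
    rw [← he]
    refine mul_mem hr (hNQ q hq ?_)
    have := mul_mem (inv_mem (Subgroup.le_normalizer hr)) hzN
    rwa [← he, inv_mul_cancel_left] at this
  · refine Subgroup.eq_of_le_of_card_ge ?_ (Subgroup.card_map_of_injective (MulAut.conj x).injective).ge
    rintro _ ⟨q, hq, rfl⟩
    exact (Subgroup.mem_normalizer_iff.mp (hPQ hx) q).mp hq
  · -- control of fusion
    obtain ⟨x, hx, hxe⟩ := hctl (A : Set G) hA g fun a ha => hg ⟨a, ha, rfl⟩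
    obtain ⟨o, ho, hn⟩ := hfrat x hx
    set n := o * x with hndef
    set B := A.map (MulAut.conj x).toMonoidHom with hB
    have hBP : B ≤ (P : Subgroup G) := by
      rintro _ ⟨a, ha, rfl⟩
      show x * a * x⁻¹ ∈ (P : Subgroup G)
      rw [hxe a ha]; exact hg ⟨a, ha, rfl⟩
    have hBO : B ≤ Subgroup.normalizer (O : Set G) := (hBP.trans hPN).trans hON'
    set H := (B ⊔ O) ⊓ Subgroup.normalizer (Q : Set G) with hH
    have hBH : B ≤ H := le_inf le_sup_left (hBP.trans hPQ)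
    have hsyl : Grp.IsSylowIn p B H := by
      refine ⟨hBH, P.isPGroup'.to_le hBP, fun hd => ?_⟩
      have h1 := hd.trans (Dvd.intro _ (Subgroup.relIndex_mul_relIndex B H (B ⊔ O) hBH inf_le_left))
      have h2 := Grp.card_sup_dvd_mul hBO
      rw [← Grp.card_mul_relIndex (le_sup_left : B ≤ B ⊔ O)] at h2
      exact hp.out.ne_one ((Nat.coprime_self p).mp
        ((hOcop.coprime_dvd_left (h1.trans (Nat.dvd_of_mul_dvd_mul_left Nat.card_pos h2)))))
    set A' := A.map (MulAut.conj n).toMonoidHom with hA'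
    have hA'H : A' ≤ H := by
      rintro _ ⟨a, ha, rfl⟩
      refine ⟨?_, Subgroup.mul_mem _ (Subgroup.mul_mem _ hn (hPQ (hA ha))) (Subgroup.inv_mem _ hn)⟩
      show o * x * a * (o * x)⁻¹ ∈ B ⊔ O
      rw [show o * x * a * (o * x)⁻¹ = o * (x * a * x⁻¹) * o⁻¹ by group]
      exact mul_mem (mul_mem (Subgroup.mem_sup_right ho) (Subgroup.mem_sup_left ⟨a, ha, rfl⟩))
        (inv_mem (Subgroup.mem_sup_right ho))
    obtain ⟨d, hd, hdA⟩ := exists_conj_into hsyl hA'H ((P.isPGroup'.to_le hA).map _)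
    have hdm : d ∈ ((B ⊔ O : Subgroup G) : Set G) := hd.1
    rw [Subgroup.coe_mul_of_left_le_normalizer_right _ _ hBO] at hdm
    obtain ⟨b, hb, o', ho', hde⟩ := hdm
    change b * o' = d at hde
    have ho'N : o' ∈ Subgroup.normalizer (Q : Set G) := by
      have := mul_mem (inv_mem (hPQ (hBP hb))) hd.2
      rwa [← hde, inv_mul_cancel_left] at this
    set m := o' * n with hm
    have hmN : m ∈ Subgroup.normalizer (Q : Set G) := mul_mem ho'N hn
    refine ⟨m, hmN, m⁻¹ * g, Subgroup.mem_centralizer_iff.mpr fun a ha => ?_, by group⟩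
    have h1 : d * (n * a * n⁻¹) * d⁻¹ ∈ B := hdA _ ⟨a, ha, rfl⟩
    have h2 : m * a * m⁻¹ ∈ B := by
      have := mul_mem (mul_mem (inv_mem hb) h1) hb
      rwa [show b⁻¹ * (d * (n * a * n⁻¹) * d⁻¹) * b = m * a * m⁻¹ by rw [← hde, hm]; group] at this
    have hxa : x * a * x⁻¹ ∈ B := ⟨a, ha, rfl⟩
    set w := o' * o with hw
    have hwO : w ∈ O := mul_mem ho' ho
    have h3 : w * (x * a * x⁻¹) * w⁻¹ = x * a * x⁻¹ := by
      have h4 : w * (x * a * x⁻¹) * w⁻¹ * (x * a * x⁻¹)⁻¹ ∈ O := by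
        rw [show w * (x * a * x⁻¹) * w⁻¹ * (x * a * x⁻¹)⁻¹ = w * ((x * a * x⁻¹) * w⁻¹ * (x * a * x⁻¹)⁻¹) by group]
        exact mul_mem hwO ((Subgroup.mem_normalizer_iff.mp (hBO hxa) _).mp (inv_mem hwO))
      refine mul_inv_eq_one.mp (hOP _ h4 (mul_mem (hBP ?_) (inv_mem (hBP hxa))))
      rwa [show w * (x * a * x⁻¹) * w⁻¹ = m * a * m⁻¹ by rw [hw, hm, hndef]; group]
    have h5 : m * a * m⁻¹ = g * a * g⁻¹ := by
      rw [← hxe a ha, ← h3, hw, hm, hndef]; group
    calc a * (m⁻¹ * g) = m⁻¹ * (m * a * m⁻¹) * g := by group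
      _ = m⁻¹ * g * a := by rw [h5]; group

end Cfsg.Agent.Invol
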