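import Cfsg.Agent.Lib.Invol.ZJElem
import Cfsg.Agent.Lib.Invol.LeastRadical
import Cfsg.Agent.Lib.Transfer.Transitivity

/-!
Control of strong fusion by the centres of the Thompson subgroups of a strongly closed subgroup.
-/

set_option autoImplicit false
set_option linter.style.haveILetI false
set_option linter.unusedSectionVars false

open scoped Classical commutatorElement

namespace Cfsg.Agent.Invol

open Subgroup Fus

universe u

variable {G : Type u} [Group G] [Finite G] {p : ℕ} [Fact p.Prime]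

theorem thompsonEl_zero (R : Subgroup G) :
    thompsonSubgroupOf 0 R = thompsonSubgroupAOf R :=
  le_antisymm (thompsonEl_le_of fun _ hA =>
      IsMaxAb.le_thompsonA ⟨hA.1, hA.2.1.1, fun B hB hc =>
        hA.2.2 B hB ⟨hc, fun x _ => pow_zero x⟩⟩)
    (thompsonA_le_of fun _ hA =>
      IsMaxEl.le_thompsonEl ⟨hA.1, ⟨hA.2.1, fun x _ => pow_zero x⟩, fun B hB hc =>
        hA.2.2 B hB hc.1⟩)

/-- The abelian version is the case `n = 0` of the elementary one. -/
theorem centerOmega_zero (R : Subgroup G) : centerOmega 0 R = centerThompsonAOf R := by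
  ext x
  rw [mem_centerOmega, thompsonEl_zero]
  exact ⟨fun h => h.1, fun h => ⟨h, pow_zero x⟩⟩

theorem IsMaxEl.exists_preimage {G' : Type*} [Group G'] (f : G →* G') {n : ℕ} {R : Subgroup G}
    (hinj : ∀ x ∈ R, f x = 1 → x = 1) {B : Subgroup G'} (hB : IsMaxEl n (R.map f) B) :
    ∃ A, IsMaxEl n R A ∧ A.map f = B := by
  have hinj' : Function.Injective (f.comp R.subtype) := (injective_iff_map_eq_one _).2
    fun x hx => Subtype.ext (hinj x x.2 hx)
  refine ⟨(B.comap (f.comp R.subtype)).map R.subtype, ?_, ?_⟩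
  swap
  · rw [Subgroup.map_map, Subgroup.map_comap_eq, inf_eq_right.2]
    rw [MonoidHom.range_comp, Subgroup.range_subtype]
    exact hB.1
  refine ⟨Subgroup.map_subtype_le _, ⟨?_, ?_⟩, fun C hC hc => ?_⟩
  · rintro _ ⟨a, ha, rfl⟩ _ ⟨b, hb, rfl⟩
    exact congrArg Subtype.val (hinj' (show f.comp R.subtype (a * b) = f.comp R.subtype (b * a) by
      rw [map_mul, map_mul]; exact hB.2.1.1 _ ha _ hb))
  · rintro _ ⟨a, ha, rfl⟩
    exact congrArg Subtype.val (hinj' (show f.comp R.subtype (a ^ n) = f.comp R.subtype 1 by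
      rw [map_pow, map_one]; exact hB.2.1.2 _ ha))
  · have h1 : Nat.card (C.map f) ≤ Nat.card B := by
      refine hB.2.2 _ (Subgroup.map_mono hC) ⟨?_, ?_⟩
      · rintro _ ⟨a, ha, rfl⟩ _ ⟨b, hb, rfl⟩
        rw [← map_mul, hc.1 a ha b hb, map_mul]
      · rintro _ ⟨a, ha, rfl⟩
        rw [← map_pow, hc.2 a ha, map_one]
    have h2 : C.map f = (C.subgroupOf R).map (f.comp R.subtype) := by
      rw [← Subgroup.map_map, Subgroup.subgroupOf_map_subtype, inf_eq_left.2 hC]
    have h3 : B = (B.comap (f.comp R.subtype)).map (f.comp R.subtype) := by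
      rw [Subgroup.map_comap_eq, inf_eq_right.2]
      rw [MonoidHom.range_comp, Subgroup.range_subtype]
      exact hB.1
    rw [h2, Subgroup.card_map_of_injective hinj',
      Nat.card_congr (Subgroup.subgroupOfEquivOfLe hC).toEquiv, h3,
      Subgroup.card_map_of_injective hinj'] at h1
    rwa [Subgroup.card_map_of_injective R.subtype_injective]

theorem thompsonEl_map {G' : Type*} [Group G'] (f : G →* G') {n : ℕ} {R : Subgroup G}
    (hinj : ∀ x ∈ R, f x = 1 → x = 1) :
    (thompsonSubgroupOf n R).map f = thompsonSubgroupOf n (R.map f) := by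
  refine le_antisymm (Subgroup.map_le_iff_le_comap.2 (thompsonEl_le_of fun A hA =>
    Subgroup.map_le_iff_le_comap.1 (hA.map f hinj).le_thompsonEl)) (thompsonEl_le_of fun B hB => ?_)
  obtain ⟨A, hA, rfl⟩ := IsMaxEl.exists_preimage f hinj hB
  exact Subgroup.map_mono hA.le_thompsonEl

theorem centerOmega_map {G' : Type*} [Group G'] (f : G →* G') {n : ℕ} {R : Subgroup G}
    (hinj : ∀ x ∈ R, f x = 1 → x = 1) : (centerOmega n R).map f = centerOmega n (R.map f) := by
  have hJ := thompsonEl_map f (n := n) hinj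
  have hJR : thompsonSubgroupOf n R ≤ R := thompsonEl_le R
  have hinj2 : ∀ a ∈ R, ∀ b ∈ R, f a = f b → a = b := fun a ha b hb h =>
    mul_inv_eq_one.1 (hinj _ (R.mul_mem ha (R.inv_mem hb)) (by rw [map_mul, map_inv, h, mul_inv_cancel]))
  ext y
  constructor
  · rintro ⟨x, hx, rfl⟩
    obtain ⟨⟨h0, h1⟩, h2⟩ := mem_centerOmega.1 hx
    refine mem_centerOmega.2 ⟨⟨hJ ▸ ⟨x, h0, rfl⟩, ?_⟩, by rw [← map_pow, h2, map_one]⟩
    rw [← hJ]
    rintro _ ⟨h, hh, rfl⟩
    rw [← map_mul, ← map_mul, mem_centralizer_iff_commute.1 h1 h hh]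
  · intro hy
    obtain ⟨⟨h0, h1⟩, h2⟩ := mem_centerOmega.1 hy
    obtain ⟨x, hx, rfl⟩ : y ∈ (thompsonSubgroupOf n R).map f := hJ ▸ h0
    refine ⟨x, mem_centerOmega.2 ⟨⟨hx, mem_centralizer_iff_commute.2 fun h hh => ?_⟩, ?_⟩, rfl⟩
    · refine hinj2 _ (R.mul_mem (hJR hh) (hJR hx)) _ (R.mul_mem (hJR hx) (hJR hh)) ?_
      rw [map_mul, map_mul]
      exact mem_centralizer_iff_commute.1 h1 _ (hJ ▸ ⟨h, hh, rfl⟩)
    · exact hinj _ (R.pow_mem (hJR hx) n) (by rw [map_pow, h2])

theorem centerOmega_ne_bot {n : ℕ} (hn : n = 0 ∨ n = p) {R : Subgroup G} (hR : IsPGroup p R)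
    (hne : R ≠ ⊥) : centerOmega n R ≠ ⊥ := by
  haveI : Nontrivial R := (Subgroup.nontrivial_iff_ne_bot R).2 hne
  haveI := hR.center_nontrivial
  have hZ : IsPGroup p (Subgroup.center R) := hR.to_subgroup _
  obtain ⟨k, hk, hcard⟩ := (IsPGroup.nontrivial_iff_card hZ).1 inferInstance
  obtain ⟨z, hz⟩ := exists_prime_orderOf_dvd_card' (G := Subgroup.center R) p
    (hcard ▸ dvd_pow_self p hk.ne')
  set x : G := ((z : R) : G) with hx
  have hxn : x ^ n = 1 := by
    rcases hn with rfl | rfl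
    · exact pow_zero x
    · rw [hx, ← SubmonoidClass.coe_pow, ← SubmonoidClass.coe_pow, ← hz, pow_orderOf_eq_one]
      rfl
  have hxc : ∀ r ∈ R, r * x = x * r := fun r hr =>
    congrArg Subtype.val (Subgroup.mem_center_iff.1 z.2 ⟨r, hr⟩)
  have hxJ : x ∈ thompsonSubgroupOf n R := by
    obtain ⟨hfin, hne'⟩ : {A : Subgroup G | A ≤ R ∧ ((∀ a ∈ A, ∀ b ∈ A, a * b = b * a) ∧
        ∀ a ∈ A, a ^ n = 1)}.Finite ∧ {A : Subgroup G | A ≤ R ∧ ((∀ a ∈ A, ∀ b ∈ A, a * b = b * a) ∧
        ∀ a ∈ A, a ^ n = 1)}.Nonempty := ⟨Set.toFinite _, ⊥, bot_le, by simp, by simp⟩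
    obtain ⟨A, ⟨hA1, hA2⟩, hA3⟩ :=
      Set.exists_max_image _ (fun A : Subgroup G => Nat.card A) hfin hne'
    have hA : IsMaxEl n R A := ⟨hA1, hA2, fun B hB hc => hA3 B ⟨hB, hc⟩⟩
    exact hA.le_thompsonEl (hA.mem_of_commute (z : R).2 hxn fun a ha => hxc a (hA1 ha))
  intro h
  have h1 : x ∈ centerOmega n R := mem_centerOmega.2
    ⟨⟨hxJ, mem_centralizer_iff_commute.2 fun r hr => hxc r (thompsonEl_le R hr)⟩, hxn⟩
  rw [h, Subgroup.mem_bot] at h1
  have h2 : z = 1 := Subtype.ext (Subtype.ext h1)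
  rw [h2, orderOf_one] at hz
  exact (Fact.out : p.Prime).ne_one hz.symm

theorem normalizer_le_centerOmega {n : ℕ} (R : Subgroup G) :
    Subgroup.normalizer (R : Set G) ≤ Subgroup.normalizer (centerOmega n R : Set G) := fun g hg =>
  mem_normalizer_of_forall (fun x hx => conj_mem_centerOmega hg hx) fun x hx => by
    simpa using conj_mem_centerOmega (inv_mem hg) hx

/-- The Sylow subgroup normalizes a strongly closed subgroup. -/
theorem sylow_le_normalizer_stronglyClosed {P D : Subgroup G} (hD : IsStronglyClosed D P) :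
    P ≤ Subgroup.normalizer (D : Set G) := fun s hs =>
  mem_normalizer_of_forall (fun x hx => hD.2 x hx s (P.mul_mem (P.mul_mem hs (hD.1 hx)) (P.inv_mem hs)))
    fun x hx => by
      have := hD.2 x hx s⁻¹ (P.mul_mem (P.mul_mem (P.inv_mem hs) (hD.1 hx)) (P.inv_mem (P.inv_mem hs)))
      simpa using this

/-- If a subgroup `V` of the Sylow subgroup `T` becomes normal modulo a normal `p'`-subgroup, then
`N(V)` controls strong fusion in `T`. -/
theorem control_of_map_normal {H : Type u} [Group H] [Finite H] (O : Subgroup H) [O.Normal]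
    (hO : (Nat.card O).Coprime p) (T : Sylow p H) {V : Subgroup H}
    (hTV : (T : Subgroup H) ≤ Subgroup.normalizer (V : Set H)) (hVT : V ≤ (T : Subgroup H))
    (hn : (V.map (QuotientGroup.mk' O)).Normal) {A : Set H} (hA : A ⊆ (T : Subgroup H)) {g : H}
    (hg : ∀ a ∈ A, g * a * g⁻¹ ∈ (T : Subgroup H)) :
    ∃ m ∈ Subgroup.normalizer (V : Set H), ∀ a ∈ A, m * a * m⁻¹ = g * a * g⁻¹ := by
  set f := QuotientGroup.mk' O with hf
  have hfs : Function.Surjective f := QuotientGroup.mk'_surjective O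
  have hinj : ∀ x ∈ (T : Subgroup H), f x = 1 → x = 1 := fun x hx hfx =>
    eq_one_of_coprime_of_mem T.isPGroup' hx
      (hO.coprime_dvd_left (O.orderOf_dvd_natCard ((QuotientGroup.eq_one_iff x).mp hfx)))
  obtain ⟨m, hm, hmg⟩ : f g ∈ (Subgroup.normalizer (V : Set H)).map f := by
    refine normalizer_map_le_of_coprime f hfs (by rwa [hf, QuotientGroup.ker_mk'])
      (T.isPGroup'.to_le hVT) ?_
    rw [Subgroup.normalizer_eq_top_iff.2 hn]
    exact Subgroup.mem_top _
  set N := Subgroup.normalizer (V : Set H)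
  set H' := ((T : Subgroup H) ⊔ O) ⊓ N with hH'
  have hTH : (T : Subgroup H) ≤ H' := le_inf le_sup_left hTV
  set Q := (Subgroup.closure A).map (MulAut.conj m).toMonoidHom with hQ
  have hQH : Q ≤ H' := closure_conj_le fun a ha => by
    refine ⟨?_, N.mul_mem (N.mul_mem hm (hTV (hA ha))) (N.inv_mem hm)⟩
    have h1 : f (m * a * m⁻¹) = f (g * a * g⁻¹) := by simp [hmg]
    have h2 := Subgroup.mem_sup_left (T := O) (hg a ha)
    rw [show m * a * m⁻¹ = (g * a * g⁻¹) * ((g * a * g⁻¹)⁻¹ * (m * a * m⁻¹)) by group]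
    refine mul_mem h2 (Subgroup.mem_sup_right ((QuotientGroup.eq_one_iff _).1 ?_))
    show f _ = 1
    rw [map_mul, map_inv, h1, inv_mul_cancel]
  obtain ⟨d, ⟨hd1, hd2⟩, hdQ⟩ := exists_conj_into ⟨hTH, T.isPGroup', fun hd =>
    T.not_dvd_index (hd.trans (Subgroup.relIndex_dvd_index_of_le hTH))⟩ hQH
      ((T.isPGroup'.to_le ((Subgroup.closure_le _).2 hA)).map _)
  obtain ⟨s, hs, o, ho, rfl⟩ := Subgroup.mem_sup_of_normal_right.1 hd1
  have hoN : o ∈ N := by
    rw [show o = s⁻¹ * (s * o) by group]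
    exact N.mul_mem (N.inv_mem (hTV hs)) hd2
  refine ⟨o * m, N.mul_mem hoN hm, fun a ha => ?_⟩
  have h1 : o * m * a * (o * m)⁻¹ ∈ (T : Subgroup H) := by
    have h2 : s * o * (m * a * m⁻¹) * (s * o)⁻¹ ∈ (T : Subgroup H) :=
      hdQ _ ⟨a, Subgroup.subset_closure ha, rfl⟩
    have h3 := (T : Subgroup H).mul_mem ((T : Subgroup H).mul_mem ((T : Subgroup H).inv_mem hs) h2) hs
    simpa [mul_assoc] using h3
  refine mul_inv_eq_one.1 (hinj _ (mul_mem h1 (inv_mem (hg a ha))) ?_)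
  rw [map_mul, map_inv, mul_inv_eq_one, map_mul, map_mul, map_mul, map_inv, map_mul,
    show f o = 1 from (QuotientGroup.eq_one_iff o).2 ho, one_mul, hmg, map_mul, map_mul, map_inv]

/-- A strongly closed subgroup stays strongly closed modulo a normal `p'`-subgroup. -/
theorem stronglyClosed_map {H : Type u} [Group H] [Finite H] (O : Subgroup H) [O.Normal]
    (T : Sylow p H) {D : Subgroup H}
    (hD : IsStronglyClosed D (T : Subgroup H)) :
    IsStronglyClosed (D.map (QuotientGroup.mk' O))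
      ((T : Subgroup H).map (QuotientGroup.mk' O)) := by
  set f := QuotientGroup.mk' O with hf
  refine ⟨Subgroup.map_mono hD.1, ?_⟩
  rintro _ ⟨x, hx, rfl⟩ hb hy
  obtain ⟨h, rfl⟩ := QuotientGroup.mk'_surjective O hb
  have hy' : h * x * h⁻¹ ∈ (T : Subgroup H) ⊔ O := by
    rw [← QuotientGroup.ker_mk' O, ← Subgroup.comap_map_eq]
    show f (h * x * h⁻¹) ∈ (T : Subgroup H).map f
    rwa [map_mul, map_mul, map_inv]
  obtain ⟨d, hd, hdy⟩ := exists_conj_into (Q := Subgroup.zpowers (h * x * h⁻¹))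
    (show Grp.IsSylowIn p (T : Subgroup H) ((T : Subgroup H) ⊔ O) from
      ⟨le_sup_left, T.isPGroup', fun hd =>
        T.not_dvd_index (hd.trans (Subgroup.relIndex_dvd_index_of_le le_sup_left))⟩)
    (Subgroup.zpowers_le.2 hy')
    (((T.isPGroup'.to_le hD.1).to_le (Subgroup.zpowers_le.2 hx)).map (MulAut.conj h).toMonoidHom |>.to_le
      (Subgroup.zpowers_le.2 ⟨x, Subgroup.mem_zpowers x, rfl⟩))
  obtain ⟨s, hs, o, ho, rfl⟩ := Subgroup.mem_sup_of_normal_right.1 hd
  have h1 : s * o * (h * x * h⁻¹) * (s * o)⁻¹ ∈ D := by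
    rw [show s * o * (h * x * h⁻¹) * (s * o)⁻¹ = (s * o * h) * x * (s * o * h)⁻¹ by group]
    refine hD.2 x hx _ ?_
    rw [show (s * o * h) * x * (s * o * h)⁻¹ = s * o * (h * x * h⁻¹) * (s * o)⁻¹ by group]
    exact hdy _ (Subgroup.mem_zpowers _)
  have h2 := (Subgroup.mem_normalizer_iff.1
    ((sylow_le_normalizer_stronglyClosed hD) ((T : Subgroup H).inv_mem hs)) _).1 h1
  refine ⟨_, h2, ?_⟩
  simp [hf, (QuotientGroup.eq_one_iff o).2 ho]
  group

/-- The local step: in a group whose quotient by a normal `p'`-subgroup is constrained and stable, the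
normalizer of `Ω₁Z(J_e(D))` (or `Z(J(D))`) controls strong fusion. -/
theorem local_step {H : Type u} [Group H] [Finite H] (hp : p ≠ 2) {n : ℕ} (hn : n = 0 ∨ n = p)
    (O : Subgroup H) [O.Normal] (hO : (Nat.card O).Coprime p)
    (hc : Subgroup.centralizer (pCore p (H ⧸ O) : Set (H ⧸ O)) ≤ pCore p (H ⧸ O))
    (hst : ∀ (V : Subgroup (H ⧸ O)) [V.Normal], IsPGroup p V → IsPStableOn p V)
    (T : Sylow p H) {D : Subgroup H} (hD : IsStronglyClosed D (T : Subgroup H))
    {A : Set H} (hA : A ⊆ (T : Subgroup H)) {g : H}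
    (hg : ∀ a ∈ A, g * a * g⁻¹ ∈ (T : Subgroup H)) :
    ∃ m ∈ Subgroup.normalizer (centerOmega n D : Set H), ∀ a ∈ A, m * a * m⁻¹ = g * a * g⁻¹ := by
  set f := QuotientGroup.mk' O with hf
  have hfs : Function.Surjective f := QuotientGroup.mk'_surjective O
  have hinj : ∀ x ∈ D, f x = 1 → x = 1 := fun x hx hfx =>
    eq_one_of_coprime_of_mem T.isPGroup' (hD.1 hx)
      (hO.coprime_dvd_left (O.orderOf_dvd_natCard ((QuotientGroup.eq_one_iff x).mp hfx)))
  have hD' : IsStronglyClosed (D.map f) ((T.mapSurjective hfs : Sylow p (H ⧸ O)) : Subgroup (H ⧸ O)) :=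
    stronglyClosed_map O T hD
  refine control_of_map_normal O hO T
    ((sylow_le_normalizer_stronglyClosed hD).trans (normalizer_le_centerOmega D))
    ((centerOmega_le D).trans hD.1) ?_ hA hg
  rw [centerOmega_map f hinj]
  rcases hn with rfl | rfl
  · rw [centerOmega_zero]
    exact Fus.centerThompsonA_normal hp hc hst (T.mapSurjective hfs) hD'
  · exact centerOmega_normal hp hc hst (T.mapSurjective hfs) hD'

/-- The local step in a subgroup of the ambient group. -/
theorem local_step_in (hp : p ≠ 2) {n : ℕ} (hn : n = 0 ∨ n = p) {H : Subgroup G}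
    (hc : Subgroup.centralizer (pCore p (H ⧸ pPrimeCore p H) : Set (H ⧸ pPrimeCore p H)) ≤
      pCore p (H ⧸ pPrimeCore p H))
    (hst : ∀ (V : Subgroup (H ⧸ pPrimeCore p H)) [V.Normal], IsPGroup p V → IsPStableOn p V)
    {T : Subgroup G} (hT : Grp.IsSylowIn p T H) {D : Subgroup G} (hDT : D ≤ T)
    (hD : ∀ x ∈ D, ∀ h ∈ H, h * x * h⁻¹ ∈ T → h * x * h⁻¹ ∈ D)
    {A : Set G} (hA : A ⊆ T) {g : G} (hgH : g ∈ H) (hg : ∀ a ∈ A, g * a * g⁻¹ ∈ T) :
    ∃ m ∈ H, m ∈ Subgroup.normalizer (centerOmega n D : Set G) ∧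
      ∀ a ∈ A, m * a * m⁻¹ = g * a * g⁻¹ := by
  obtain ⟨S, hS⟩ := Grp.isSylowIn_iff.mp hT
  have hmem : ∀ x : H, x ∈ (S : Subgroup H) ↔ (x : G) ∈ T := fun x => by
    rw [← hS]
    exact ⟨fun h => ⟨x, h, rfl⟩, fun ⟨y, hy, e⟩ => Subtype.ext e ▸ hy⟩
  have hD' : IsStronglyClosed (D.subgroupOf H) (S : Subgroup H) :=
    ⟨fun x hx => (hmem x).2 (hDT hx), fun x hx h hy => hD x hx h h.2 ((hmem _).1 hy)⟩
  obtain ⟨m, hm, he⟩ := local_step hp hn (pPrimeCore p H)
    (hO := Grp.pPrimeCore_coprime) hc hst S hD' (A := H.subtype ⁻¹' A)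
    (fun x hx => (hmem x).2 (hA hx)) (g := ⟨g, hgH⟩) fun x hx => (hmem _).2 (hg _ hx)
  refine ⟨m, m.2, ?_, fun a ha => congrArg Subtype.val (he ⟨a, hT.1 (hA ha)⟩ ha)⟩
  have h1 := Subgroup.le_normalizer_map H.subtype ⟨m, hm, rfl⟩
  rwa [centerOmega_map H.subtype (fun x _ hx => Subtype.ext hx), Subgroup.subgroupOf_map_subtype,
    inf_eq_left.2 (hDT.trans hT.1)] at h1

/-- Stability in normalizer form passes to quotients of subgroups by normal `p'`-subgroups. -/
theorem isPStableOn_quotient (hst : IsNormalizerPStable p G) (H : Subgroup G) (O : Subgroup H)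
    [O.Normal] (hO : (Nat.card O).Coprime p) (V : Subgroup (H ⧸ O)) [V.Normal] (hV : IsPGroup p V) :
    IsPStableOn p V := by
  intro a hq
  set f := QuotientGroup.mk' O with hf
  have hfs : Function.Surjective f := QuotientGroup.mk'_surjective O
  obtain ⟨S⟩ : Nonempty (Sylow p H) := inferInstance
  have hVS : V ≤ (S : Subgroup H).map f := hV.le_sylow_of_normal (S.mapSurjective hfs)
  set R := (S : Subgroup H) ⊓ V.comap f with hR
  have hRV : R.map f = V := by
    refine le_antisymm (Subgroup.map_le_iff_le_comap.2 inf_le_right) fun v hv => ?_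
    obtain ⟨s, hs, rfl⟩ := hVS hv
    exact ⟨s, ⟨hs, hv⟩, rfl⟩
  have hRp : IsPGroup p R := S.isPGroup'.to_le inf_le_left
  have hinj : ∀ x ∈ R, f x = 1 → x = 1 := fun x hx hfx =>
    eq_one_of_coprime_of_mem hRp hx
      (hO.coprime_dvd_left (O.orderOf_dvd_natCard ((QuotientGroup.eq_one_iff x).mp hfx)))
  have hsur : (Subgroup.normalizer (R : Set H)).map f = ⊤ := by
    refine top_le_iff.1 (le_trans ?_ (normalizer_map_le_of_coprime f hfs
      (by rwa [hf, QuotientGroup.ker_mk']) hRp))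
    rw [hRV, Subgroup.normalizer_eq_top]
  obtain ⟨g, hg, rfl⟩ : a ∈ (Subgroup.normalizer (R : Set H)).map f := hsur ▸ Subgroup.mem_top a
  have hq' : ⁅⁅R, Subgroup.zpowers g⁆, Subgroup.zpowers g⁆ = ⊥ := by
    have hle : ∀ {K : Subgroup H}, K ≤ R → ⁅K, Subgroup.zpowers g⁆ ≤ R := fun hK =>
      Subgroup.commutator_le.2 fun x hx y hy => by
        rw [commutatorElement_def, mul_assoc x y, mul_assoc x]
        refine R.mul_mem (hK hx) ?_
        exact (Subgroup.mem_normalizer_iff.1 (Subgroup.zpowers_le.2 hg hy) _).1 (R.inv_mem (hK hx))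
    refine le_bot_iff.1 fun x hx => Subgroup.mem_bot.2 (hinj x (hle (hle le_rfl) hx) ?_)
    have h1 := Subgroup.mem_map_of_mem f hx
    rwa [Subgroup.map_commutator, Subgroup.map_commutator, hRV, MonoidHom.map_zpowers, hq,
      Subgroup.mem_bot] at h1
  set R' := R.map H.subtype with hR'
  have hgN : (g : G) ∈ Subgroup.normalizer (R' : Set G) :=
    Subgroup.le_normalizer_map H.subtype ⟨g, hg, rfl⟩
  have hq'' : ⁅⁅R', Subgroup.zpowers (g : G)⁆, Subgroup.zpowers (g : G)⁆ = ⊥ := by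
    have e : Subgroup.zpowers (g : G) = (Subgroup.zpowers g).map H.subtype :=
      (MonoidHom.map_zpowers H.subtype g).symm
    rw [e, hR', ← Subgroup.map_commutator, ← Subgroup.map_commutator, hq', Subgroup.map_bot]
  set N := Subgroup.normalizer (R' : Set G) with hN
  set CR := (Subgroup.centralizer (R' : Set G)).subgroupOf N with hCR
  have h2 := hst R' (hRp.map _) g hgN hq''
  set C := Subgroup.centralizer (V : Set (H ⧸ O)) with hC
  set NR := Subgroup.normalizer (R : Set H) with hNR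
  let ι : NR →* N := (H.subtype.comp NR.subtype).codRestrict N fun x =>
    Subgroup.le_normalizer_map H.subtype ⟨(x : H), x.2, rfl⟩
  let φ : NR →* (H ⧸ O) ⧸ C := (QuotientGroup.mk' C).comp (f.comp NR.subtype)
  let ψ : NR →* N ⧸ CR := (QuotientGroup.mk' CR).comp ι
  set W := (pCore p (N ⧸ CR)).comap ψ with hW
  haveI : (pCore p (N ⧸ CR)).Normal := Grp.pCore_isNormal
  haveI : W.Normal := Subgroup.Normal.comap inferInstance ψ
  have hφs : Function.Surjective φ := by
    intro y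
    obtain ⟨z, rfl⟩ := QuotientGroup.mk'_surjective C y
    obtain ⟨x, hx, rfl⟩ : z ∈ NR.map f := hsur ▸ Subgroup.mem_top z
    exact ⟨⟨x, hx⟩, rfl⟩
  have hker : ψ.ker ≤ φ.ker := by
    intro x hx
    have hx' : ((x : H) : G) ∈ Subgroup.centralizer (R' : Set G) :=
      (QuotientGroup.eq_one_iff (ι x)).1 hx
    refine (QuotientGroup.eq_one_iff _).2 (Subgroup.mem_centralizer_iff.2 ?_)
    rw [← hRV]
    rintro _ ⟨r, hr, rfl⟩
    show f r * f (x : H) = f (x : H) * f r
    rw [← map_mul, ← map_mul]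
    exact congrArg f (Subtype.ext (Subgroup.mem_centralizer_iff.1 hx' _ ⟨r, hr, rfl⟩))
  have hp' : IsPGroup p (W.map φ) := by
    rintro ⟨_, w, hw, rfl⟩
    obtain ⟨k, hk⟩ := (Grp.pCore_isPGroup (p := p) (G := N ⧸ CR)) ⟨ψ w, hw⟩
    refine ⟨k, Subtype.ext ?_⟩
    rw [SubmonoidClass.coe_pow, OneMemClass.coe_one, ← map_pow, ← MonoidHom.mem_ker]
    exact hker (by rw [MonoidHom.mem_ker, map_pow]; exact congrArg Subtype.val hk)
  exact Grp.le_pCore (Subgroup.Normal.map inferInstance φ hφs) hp' ⟨⟨g, hg⟩, h2, rfl⟩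

/-- Control from local data. -/
theorem control_of_local_steps (P : Sylow p G) (W : Subgroup G → Subgroup G)
    (hWle : ∀ T : Subgroup G, T ≤ (P : Subgroup G) → W T ≤ T)
    (hWne : ∀ T : Subgroup G, T ≤ (P : Subgroup G) →
      (∀ x ∈ (P : Subgroup G), (∀ s ∈ (P : Subgroup G), x * s = s * x) → x ∈ T) → W T ≠ ⊥)
    (hWn : ∀ T : Subgroup G, T ≤ (P : Subgroup G) →
      (P : Subgroup G) ⊓ Subgroup.normalizer (T : Set G) ≤ Subgroup.normalizer (W T : Set G))
    (hloc : ∀ U : Subgroup G, Tame P U → U ≠ ⊥ → ∀ g ∈ Subgroup.normalizer (U : Set G), ∀ A : Set G,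
      A ⊆ ((P : Subgroup G) ⊓ Subgroup.normalizer (U : Set G) : Subgroup G) →
      (∀ a ∈ A, g * a * g⁻¹ ∈ (P : Subgroup G) ⊓ Subgroup.normalizer (U : Set G)) →
      ∃ m ∈ Subgroup.normalizer (U : Set G),
        m ∈ Subgroup.normalizer (W ((P : Subgroup G) ⊓ Subgroup.normalizer (U : Set G)) : Set G) ∧
        ∀ a ∈ A, m * a * m⁻¹ = g * a * g⁻¹)
    {A : Set G} (hA : A ⊆ (P : Subgroup G)) {g : G} (hg : ∀ a ∈ A, g * a * g⁻¹ ∈ (P : Subgroup G)) :
    ∃ x ∈ Subgroup.normalizer (W (P : Subgroup G) : Set G),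
      ∀ a ∈ A, x * a * x⁻¹ = g * a * g⁻¹ := by
  let Ctl : Set G → G → Prop := fun B y =>
    ∃ x ∈ Subgroup.normalizer (W (P : Subgroup G) : Set G), ∀ a ∈ B, x * a * x⁻¹ = y * a * y⁻¹
  have hone : ∀ B, Ctl B 1 := fun B => ⟨1, one_mem _, fun _ _ => rfl⟩
  have hmul : ∀ (B : Set G) (x y : G), Ctl B x → Ctl ((fun a => x * a * x⁻¹) '' B) y →
      Ctl B (y * x) := by
    rintro B x y ⟨x', hx', ex⟩ ⟨y', hy', ey⟩
    refine ⟨y' * x', mul_mem hy' hx', fun a ha => ?_⟩
    calc y' * x' * a * (y' * x')⁻¹ = y' * (x' * a * x'⁻¹) * y'⁻¹ := by group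
      _ = y * (x * a * x⁻¹) * y⁻¹ := by rw [ex a ha]; exact ey _ ⟨a, ha, rfl⟩
      _ = y * x * a * (y * x)⁻¹ := by group
  have good : ∀ k (U : Subgroup G), Tame P U → U ≠ ⊥ →
      Nat.card (P : Subgroup G) - Nat.card ↥((P : Subgroup G) ⊓ Subgroup.normalizer (U : Set G)) = k →
      ∀ n ∈ Subgroup.normalizer (U : Set G), ∀ B : Set G,
        B ⊆ ((P : Subgroup G) ⊓ Subgroup.normalizer (U : Set G) : Subgroup G) →
        (∀ a ∈ B, n * a * n⁻¹ ∈ (P : Subgroup G) ⊓ Subgroup.normalizer (U : Set G)) →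
        Ctl B n := by
    intro k
    induction k using Nat.strong_induction_on with
    | _ k ih =>
    intro U hU hU1 hk n hn B hB hnB
    obtain ⟨m, hm, hmW, he⟩ := hloc U hU hU1 n hn B hB hnB
    suffices h : Ctl B m by
      obtain ⟨x, hx, ex⟩ := h
      exact ⟨x, hx, fun a ha => (ex a ha).trans (he a ha)⟩
    set T := (P : Subgroup G) ⊓ Subgroup.normalizer (U : Set G) with hTdef
    rcases (inf_le_left : T ≤ (P : Subgroup G)).eq_or_lt with hTP | hTP
    · exact ⟨m, by rw [← hTP]; exact hmW, fun _ _ => rfl⟩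
    set V := W T with hV
    have hZT : ∀ x ∈ (P : Subgroup G), (∀ s ∈ (P : Subgroup G), x * s = s * x) → x ∈ T :=
      fun x hx hc => ⟨hx, Subgroup.centralizer_le_normalizer _
        (Subgroup.mem_centralizer_iff.2 fun u hu => (hc u (hU.1 hu)).symm)⟩
    have hVne : V ≠ ⊥ := hWne T hTP.le hZT
    obtain ⟨h0, hV', hle⟩ := exists_tame_conj P ((hWle T hTP.le).trans hTP.le)
    set S1 := (P : Subgroup G) ⊓ Subgroup.normalizer (V : Set G) with hS1
    have hlt : Nat.card T < Nat.card S1 :=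
      (Fus.card_lt_of_lt (Transfer.lt_inf_normalizer P hTP)).trans_le (Subgroup.card_le_of_le
        (le_inf inf_le_left (hWn T hTP.le)))
    have hTS1 : T ≤ S1 := le_inf hTP.le
      (fun t ht => hWn T hTP.le ⟨hTP.le ht, Subgroup.le_normalizer ht⟩)
    set V' := V.map (MulAut.conj h0).toMonoidHom with hV'def
    set S2 := (P : Subgroup G) ⊓ Subgroup.normalizer (V' : Set G) with hS2
    have hcard2 : Nat.card S1 ≤ Nat.card S2 := by
      rw [← Subgroup.card_map_of_injective (f := (MulAut.conj h0).toMonoidHom)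
        (MulAut.conj h0).injective (K := S1)]
      exact Subgroup.card_le_of_le hle
    have hcard3 : Nat.card S2 ≤ Nat.card (P : Subgroup G) := Subgroup.card_le_of_le inf_le_left
    have hbig : ∀ (B : Set G) (g : G), B ⊆ (P : Subgroup G) →
        (∀ b ∈ B, g * b * g⁻¹ ∈ (P : Subgroup G)) →
        Nat.card T < Nat.card (Subgroup.closure B) → Ctl B g := by
      intro B g hB hgB hm
      refine alperin_induct_big P Ctl hone hmul _ (fun E hE hEc e he B hBE => ?_) hB
        (Set.image_subset_iff.mpr hgB) hm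
      have hEne : E ≠ ⊥ := fun h => by
        subst h
        rw [Subgroup.card_bot] at hEc
        exact absurd hEc (Nat.not_lt.mpr Nat.card_pos)
      have hEc' := hE.card_le
      have hE3 : Nat.card ↥((P : Subgroup G) ⊓ Subgroup.normalizer (E : Set G)) ≤
        Nat.card (P : Subgroup G) := Subgroup.card_le_of_le inf_le_left
      exact ih _ (by rw [← hk]; change _ - _ < _ - Nat.card T; omega) E hE hEne rfl e he B
        (fun b hb => hE.le_inf (hBE hb))
        (fun b hb => hE.le_inf ((Subgroup.mem_normalizer_iff.mp he b).mp (hBE hb)))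
    have hS1im : ∀ s ∈ S1, h0 * s * h0⁻¹ ∈ S2 := fun s hs => hle ⟨s, hs, rfl⟩
    obtain ⟨x₁, hx₁, e₁⟩ := hbig (S1 : Set G) h0 (fun s hs => hs.1)
      (fun s hs => (hS1im s hs).1) (by rwa [Subgroup.closure_eq])
    obtain ⟨x₂, hx₂, e₂⟩ := ih _ (by rw [← hk]; change _ - Nat.card S2 < _ - Nat.card T; omega) V' hV'
        (fun h => hVne ((Subgroup.map_eq_bot_iff_of_injective _ (MulAut.conj h0).injective).mp h)) rfl
        (h0 * m * h0⁻¹)
        (by rw [hV'def, ← Subgroup.map_equiv_normalizer_eq V (MulAut.conj h0)]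
            exact ⟨m, hmW, rfl⟩)
        ((fun b => h0 * b * h0⁻¹) '' B)
        (by rintro _ ⟨b, hb, rfl⟩; exact hS1im b (hTS1 (hB hb)))
        (by rintro _ ⟨b, hb, rfl⟩
            rw [show h0 * m * h0⁻¹ * (h0 * b * h0⁻¹) * (h0 * m * h0⁻¹)⁻¹ =
              h0 * (m * b * m⁻¹) * h0⁻¹ by group, he b hb]
            exact hS1im _ (hTS1 (hnB b hb)))
    refine ⟨x₁⁻¹ * x₂ * x₁, mul_mem (mul_mem (inv_mem hx₁) hx₂) hx₁, fun b hb => ?_⟩
    have h3 : x₁ * (m * b * m⁻¹) * x₁⁻¹ = h0 * (m * b * m⁻¹) * h0⁻¹ :=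
      e₁ _ (hTS1 (by rw [he b hb]; exact hnB b hb))
    calc x₁⁻¹ * x₂ * x₁ * b * (x₁⁻¹ * x₂ * x₁)⁻¹
        = x₁⁻¹ * (x₂ * (x₁ * b * x₁⁻¹) * x₂⁻¹) * x₁ := by group
      _ = x₁⁻¹ * (h0 * (m * b * m⁻¹) * h0⁻¹) * x₁ := by
          rw [e₁ b (hTS1 (hB hb)), e₂ _ ⟨b, hb, rfl⟩]; group
      _ = m * b * m⁻¹ := by rw [← h3]; group
  refine alperin_induct P Ctl hone hmul (fun E hE n hn B hBE => ?_) hA
    (Set.image_subset_iff.mpr hg)
  rcases eq_or_ne E ⊥ with rfl | hE1
  · exact ⟨1, one_mem _, fun b hb => by rw [Subgroup.mem_bot.mp (hBE hb)]; simp⟩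
  · exact good _ E hE hE1 rfl n hn B (fun b hb => hE.le_inf (hBE hb))
      (fun b hb => hE.le_inf ((Subgroup.mem_normalizer_iff.mp hn b).mp (hBE hb)))

/-- If all normalizers of nontrivial `p`-subgroups are constrained and `G` is stable, the centres
control strong fusion. -/
theorem control_centerOmega_of_constrained (hp : p ≠ 2) {n : ℕ} (hn : n = 0 ∨ n = p)
    (hst : IsNormalizerPStable p G) (P : Sylow p G)
    (hc : ∀ U : Subgroup G, U ≤ (P : Subgroup G) → U ≠ ⊥ →
      IsPConstrained p ↥(Subgroup.normalizer (U : Set G)))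
    {D : Subgroup G} (hD : IsStronglyClosed D (P : Subgroup G))
    {A : Set G} (hA : A ⊆ (P : Subgroup G)) {g : G} (hg : ∀ a ∈ A, g * a * g⁻¹ ∈ (P : Subgroup G)) :
    ∃ x ∈ Subgroup.normalizer (centerOmega n D : Set G), ∀ a ∈ A, x * a * x⁻¹ = g * a * g⁻¹ := by
  rcases eq_or_ne D ⊥ with rfl | hD1
  · refine ⟨g, ?_, fun _ _ => rfl⟩
    have : centerOmega n (⊥ : Subgroup G) = ⊥ := le_bot_iff.1 (centerOmega_le _)
    rw [this]
    exact Subgroup.normalizer_eq_top (⊥ : Subgroup G) ▸ Subgroup.mem_top g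
  have hcen : ∃ z ∈ D, z ≠ 1 ∧ ∀ s ∈ (P : Subgroup G), z * s = s * z := by
    haveI : Finite (P : Subgroup G) := inferInstance
    haveI hDn : (D.subgroupOf (P : Subgroup G)).Normal :=
      (Subgroup.normal_subgroupOf_iff_le_normalizer hD.1).2 (sylow_le_normalizer_stronglyClosed hD)
    haveI : Group.IsNilpotent (P : Subgroup G) := P.isPGroup'.isNilpotent
    have hne : D.subgroupOf (P : Subgroup G) ≠ ⊥ := fun h => hD1 (le_bot_iff.1 fun x hx => by
      have : (⟨x, hD.1 hx⟩ : (P : Subgroup G)) ∈ D.subgroupOf (P : Subgroup G) := hx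
      rw [h, Subgroup.mem_bot] at this
      exact congrArg Subtype.val this)
    obtain ⟨z, ⟨hzD, hzc⟩, hz1⟩ := (Subgroup.bot_or_exists_ne_one _).resolve_left
      (Grp.inf_center_ne_bot _ hne)
    exact ⟨z, hzD, fun h => hz1 (Subtype.ext h),
      fun s hs => (congrArg Subtype.val (Subgroup.mem_center_iff.1 hzc ⟨s, hs⟩)).symm⟩
  obtain ⟨z, hzD, hz1, hzc⟩ := hcen
  have h := control_of_local_steps P (fun T => centerOmega n (D ⊓ T))
    (fun T _ => (centerOmega_le _).trans inf_le_right)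
    (fun T hT hZ => centerOmega_ne_bot hn (P.isPGroup'.to_le (inf_le_left.trans hD.1))
      fun h => hz1 (Subgroup.mem_bot.1 (h ▸ ⟨hzD, hZ z (hD.1 hzD) hzc⟩)))
    (fun T _ s hs => normalizer_le_centerOmega _
      (Subgroup.mem_normalizer_iff.2 fun x =>
        and_congr (Subgroup.mem_normalizer_iff.1 (sylow_le_normalizer_stronglyClosed hD hs.1) x)
          (Subgroup.mem_normalizer_iff.1 hs.2 x)))
    (fun U hU hU1 g hg A hA hgA => by
      exact local_step_in hp hn (Transfer.Transitivity.centralizer_pCore_quotient (hc U hU.1 hU1))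
        (fun V _ hV => isPStableOn_quotient hst _ _ Grp.pPrimeCore_coprime V hV) hU.2
        inf_le_right (fun x hx h _ hy => ⟨hD.2 x hx.1 h hy.1, hy⟩) hA hg hgA) hA hg
  simpa [inf_eq_left.2 hD.1] using h

/-- A normal self-centralizing `p`-subgroup of a Sylow subgroup makes the group constrained. -/
theorem centralizer_pCore_quotient_of_selfCentralizing {H : Type u} [Group H] [Finite H]
    (T : Sylow p H) (U : Subgroup H) [U.Normal] (hUT : U ≤ (T : Subgroup H))
    (hcU : (T : Subgroup H) ⊓ Subgroup.centralizer (U : Set H) ≤ U) :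
    Subgroup.centralizer (pCore p (H ⧸ pPrimeCore p H) : Set (H ⧸ pPrimeCore p H)) ≤
      pCore p (H ⧸ pPrimeCore p H) := by
  haveI : (pPrimeCore p H).Normal := Grp.pPrimeCore_isNormal
  set f := QuotientGroup.mk' (pPrimeCore p H) with hf
  have hfs : Function.Surjective f := QuotientGroup.mk'_surjective _
  have hUp : IsPGroup p U := T.isPGroup'.to_le hUT
  have h1 : U.map f ≤ pCore p (H ⧸ pPrimeCore p H) :=
    Grp.le_pCore (Subgroup.Normal.map inferInstance f hfs) (hUp.map f)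
  refine le_trans (Subgroup.centralizer_le h1) ?_
  rw [← Grp.map_centralizer_pGroup hUp]
  set C := Subgroup.centralizer (U : Set H) with hC
  haveI : C.Normal := inferInstance
  obtain ⟨SC, hSC⟩ := Grp.isSylowIn_iff.mp (show Grp.IsSylowIn p ((T : Subgroup H) ⊓ C) C from
    ⟨inf_le_right, T.isPGroup'.to_le inf_le_left, by
      rw [Subgroup.inf_relIndex_right]; exact Grp.sylow_inf_normal_relIndex T C⟩)
  have hNPC : Cfsg.HasNormalPComplement p C := by
    rw [Transfer.hasNormalPComplement_iff_frobeniusCondition SC]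
    intro Q hQ x _ _
    refine Subgroup.mem_centralizer_iff.mpr fun q hq => Subtype.ext ?_
    have h2 : (q : H) ∈ (T : Subgroup H) ⊓ C := hSC ▸ ⟨q, hQ hq, rfl⟩
    exact Subgroup.mem_centralizer_iff.mp x.2 _ (hcU h2)
  obtain ⟨M, hM, hMd, k, hk⟩ := Transfer.hasNormalPComplement_iff_exists.mp hNPC
  haveI := hM
  have h3 : M ≤ Cfsg.pPrimeCore p C :=
    Grp.le_pPrimeCore hM ((Fact.out : p.Prime).coprime_iff_not_dvd.mpr hMd).symm
  haveI : (Cfsg.pPrimeCore p C).Characteristic := inferInstance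
  have h4 : (Cfsg.pPrimeCore p C).map C.subtype ≤ pPrimeCore p H :=
    Grp.le_pPrimeCore inferInstance (by
      rw [Subgroup.card_map_of_injective C.subtype_injective]; exact Grp.pPrimeCore_coprime)
  refine Grp.le_pCore (Subgroup.Normal.map inferInstance f hfs) ?_
  rintro ⟨_, x, hx, rfl⟩
  refine ⟨k, Subtype.ext ?_⟩
  simp only [SubmonoidClass.coe_pow, OneMemClass.coe_one, ← map_pow]
  exact (QuotientGroup.eq_one_iff _).mpr
    (h4 ⟨⟨x, hx⟩ ^ p ^ k, h3 (hk ▸ Subgroup.pow_index_mem M (⟨x, hx⟩ : C)), rfl⟩)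

/-- In a `Qd(p)`-free group, the centres control strong fusion. -/
theorem control_centerOmega_of_free (hp : p ≠ 2) {n : ℕ} (hn : n = 0 ∨ n = p)
    (hfree : ¬ Involves ↥(qd p) G) (P : Sylow p G)
    {D : Subgroup G} (hD : IsStronglyClosed D (P : Subgroup G))
    {A : Set G} (hA : A ⊆ (P : Subgroup G)) {g : G} (hg : ∀ a ∈ A, g * a * g⁻¹ ∈ (P : Subgroup G)) :
    ∃ x ∈ Subgroup.normalizer (centerOmega n D : Set G), ∀ a ∈ A, x * a * x⁻¹ = g * a * g⁻¹ := by
  obtain ⟨y, hy, hye⟩ := control_kInf_of_free hp hfree P hA hg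
  set U := inducedFunctor kInfLower (P : Subgroup G) with hU
  have hUP : U ≤ (P : Subgroup G) := inducedFunctor_le _ _
  have hW : IsCharPFunctor.{u} p (fun Q [Group Q] => kInfLower Q) := KInf.isCharPFunctor_kInfLower p
  have hPN : (P : Subgroup G) ≤ Subgroup.normalizer (U : Set G) :=
    Subgroup.le_normalizer.trans (normalizer_le_normalizer_inducedFunctor hW P.isPGroup')
  set H := Subgroup.normalizer (U : Set G) with hH
  have hT : Grp.IsSylowIn p (P : Subgroup G) H :=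
    ⟨hPN, P.isPGroup', fun hd =>
      P.not_dvd_index (hd.trans (Subgroup.relIndex_dvd_index_of_le hPN))⟩
  let SH : Sylow p H := (P.isPGroup'.comap_subtype (K := H)).toSylow fun hd =>
    P.not_dvd_index (hd.trans (Subgroup.relIndex_dvd_index_of_le hPN))
  haveI : (U.subgroupOf H).Normal := Subgroup.normal_in_normalizer
  haveI : Group.IsNilpotent (P : Subgroup G) := P.isPGroup'.isNilpotent
  have hc := centralizer_pCore_quotient_of_selfCentralizing SH (U.subgroupOf H)
    (fun x hx => hUP hx) fun x hx => by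
      have h2 : (⟨(x : G), hx.1⟩ : (P : Subgroup G)) ∈
          Subgroup.centralizer (kInfLower (P : Subgroup G) : Set (P : Subgroup G)) := by
        refine Subgroup.mem_centralizer_iff.2 fun q hq => Subtype.ext ?_
        have hqU : (q : G) ∈ U := ⟨q, hq, rfl⟩
        have h3 := congrArg Subtype.val (Subgroup.mem_centralizer_iff.1 hx.2
          ⟨(q : G), hPN (hUP hqU)⟩ hqU)
        simpa using h3
      exact ⟨_, KInf.centralizer_kInf_le.1 h2, rfl⟩
  have hst : ∀ (V : Subgroup (H ⧸ pPrimeCore p H)) [V.Normal], IsPGroup p V → IsPStableOn p V :=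
    fun V _ hV => Grp.Quad.isPStableOn_of_free hp (fun h => hfree
      ((isSectionOf_of_involves h).trans ((IsSectionOf.of_surjective _
        (QuotientGroup.mk'_surjective _)).trans (IsSectionOf.of_subgroup H))).involves) V hV
  obtain ⟨m, -, hm, he⟩ := local_step_in hp hn hc hst hT hD.1 (fun x hx h _ hy => hD.2 x hx h hy)
    hA hy (fun a ha => by rw [hye a ha]; exact hg a ha)
  exact ⟨m, hm, fun a ha => (he a ha).trans (hye a ha)⟩

end Cfsg.Agent.Invol
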