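import Cfsg.Agent.Lib.Fus.ZJTheorem
import Cfsg.Agent.Lib.Invol.ReplacementExp

/-!
Glauberman's `ZJ`-theorem for strongly closed subgroups, with elementary abelian subgroups.
-/

set_option autoImplicit false
set_option linter.style.haveILetI false
set_option linter.unusedSectionVars false

open scoped Classical commutatorElement

namespace Cfsg.Agent.Invol

open Subgroup Fus

universe u

variable {G : Type u} [Group G]

/-- An elementary abelian subgroup of `R` of largest order. -/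
def IsMaxEl (p : ℕ) (R A : Subgroup G) : Prop :=
  A ≤ R ∧ ((∀ x ∈ A, ∀ y ∈ A, x * y = y * x) ∧ ∀ x ∈ A, x ^ p = 1) ∧
    ∀ B : Subgroup G, B ≤ R → ((∀ x ∈ B, ∀ y ∈ B, x * y = y * x) ∧ ∀ x ∈ B, x ^ p = 1) →
      Nat.card B ≤ Nat.card A

/-- `Ω₁(Z(J_e(R)))`. -/
abbrev centerOmega (p : ℕ) (R : Subgroup G) : Subgroup G :=
  omegaOne p (centerThompsonOf p R)

theorem isMaxEl_iff {p : ℕ} {R A : Subgroup G} :
    IsMaxEl p R A ↔ A ≤ R ∧ A.subgroupOf R ∈ maxElementaryAbelianSubgroups p R := by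
  refine ⟨fun ⟨h1, ⟨h2, h2'⟩, h3⟩ => ⟨h1, ⟨⟨⟨fun a b => ?_⟩⟩, fun a ha => ?_⟩, fun B hB => ?_⟩,
    fun ⟨h1, ⟨h2, h2'⟩, h3⟩ => ⟨h1, ⟨fun x hx y hy => ?_, fun x hx => ?_⟩, fun B hB hc => ?_⟩⟩
  · exact Subtype.ext (Subtype.ext (h2 _ a.2 _ b.2))
  · exact Subtype.ext (by rw [SubmonoidClass.coe_pow]; exact h2' _ ha)
  · rw [Nat.card_congr (Subgroup.subgroupOfEquivOfLe h1).toEquiv,
      ← Subgroup.card_map_of_injective R.subtype_injective (K := B)]
    refine h3 _ (Subgroup.map_subtype_le B) ⟨?_, ?_⟩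
    · rintro _ ⟨a, ha, rfl⟩ _ ⟨b, hb, rfl⟩
      exact congrArg (fun z : B => ((z : R) : G)) (hB.1.is_comm.comm ⟨a, ha⟩ ⟨b, hb⟩)
    · rintro _ ⟨a, ha, rfl⟩
      rw [← map_pow, hB.2 a ha, map_one]
  · exact congrArg (fun z : A.subgroupOf R => ((z : R) : G))
      (h2.is_comm.comm ⟨⟨x, h1 hx⟩, hx⟩ ⟨⟨y, h1 hy⟩, hy⟩)
  · exact congrArg Subtype.val (h2' ⟨x, h1 hx⟩ hx)
  · rw [← Nat.card_congr (Subgroup.subgroupOfEquivOfLe h1).toEquiv,
      ← Nat.card_congr (Subgroup.subgroupOfEquivOfLe hB).toEquiv]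
    exact h3 _ ⟨⟨⟨fun a b => Subtype.ext (Subtype.ext (hc.1 _ a.2 _ b.2))⟩⟩,
      fun a ha => Subtype.ext (by rw [SubmonoidClass.coe_pow]; exact hc.2 _ ha)⟩

theorem IsMaxEl.le_thompsonEl {p : ℕ} {R A : Subgroup G} (h : IsMaxEl p R A) :
    A ≤ thompsonSubgroupOf p R := by
  obtain ⟨h1, h2⟩ := isMaxEl_iff.1 h
  refine le_trans (le_of_eq ?_)
    (Subgroup.map_mono (f := R.subtype) (le_sSup h2 : A.subgroupOf R ≤ thompsonSubgroup p R))
  rw [Subgroup.subgroupOf_map_subtype, inf_eq_left.2 h1]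

theorem thompsonEl_le {p : ℕ} (R : Subgroup G) : thompsonSubgroupOf p R ≤ R :=
  Subgroup.map_subtype_le _

theorem thompsonEl_le_of {p : ℕ} {R K : Subgroup G} (h : ∀ A, IsMaxEl p R A → A ≤ K) :
    thompsonSubgroupOf p R ≤ K := by
  rw [thompsonSubgroupOf, Subgroup.map_le_iff_le_comap]
  refine sSup_le fun A hA => Subgroup.map_le_iff_le_comap.1 (h _ (isMaxEl_iff.2
    ⟨Subgroup.map_subtype_le A, ?_⟩))
  rwa [Subgroup.subgroupOf, Subgroup.comap_map_eq_self_of_injective R.subtype_injective]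

theorem mem_centerOmega {p : ℕ} {R : Subgroup G} {x : G} :
    x ∈ centerOmega p R ↔ (x ∈ thompsonSubgroupOf p R ∧
      x ∈ Subgroup.centralizer (thompsonSubgroupOf p R : Set G)) ∧ x ^ p = 1 := by
  refine ⟨fun hx => ?_, fun hx => Subgroup.subset_closure hx⟩
  let K : Subgroup G :=
    { carrier := {y | y ∈ centerThompsonOf p R ∧ y ^ p = 1}
      one_mem' := ⟨one_mem _, one_pow p⟩
      mul_mem' := fun {a b} ha hb => ⟨mul_mem ha.1 hb.1, by
        rw [(show Commute a b from mem_centralizer_iff_commute.1 hb.1.2 a ha.1.1).mul_pow,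
          ha.2, hb.2, mul_one]⟩
      inv_mem' := fun {a} ha => ⟨inv_mem ha.1, by rw [inv_pow, ha.2, inv_one]⟩ }
  exact ((Subgroup.closure_le K).2 fun y hy => hy : centerOmega p R ≤ K) hx

theorem IsMaxEl.map {G' : Type*} [Group G'] (f : G →* G') {p : ℕ} {R A : Subgroup G}
    (hinj : ∀ x ∈ R, f x = 1 → x = 1) (h : IsMaxEl p R A) : IsMaxEl p (R.map f) (A.map f) := by
  refine ⟨Subgroup.map_mono h.1, ⟨?_, ?_⟩, fun B hB hc => ?_⟩
  · rintro _ ⟨a, ha, rfl⟩ _ ⟨b, hb, rfl⟩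
    rw [← map_mul, h.2.1.1 a ha b hb, map_mul]
  · rintro _ ⟨a, ha, rfl⟩
    rw [← map_pow, h.2.1.2 a ha, map_one]
  · have hinj' : Function.Injective (f.comp R.subtype) := (injective_iff_map_eq_one _).2
      fun x hx => Subtype.ext (hinj x x.2 hx)
    set B₀ := (B.comap (f.comp R.subtype)).map R.subtype with hB₀
    have hA' : A.map f = (A.subgroupOf R).map (f.comp R.subtype) := by
      rw [← Subgroup.map_map, Subgroup.subgroupOf_map_subtype, inf_eq_left.2 h.1]
    have hB' : B = (B.comap (f.comp R.subtype)).map (f.comp R.subtype) := by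
      rw [Subgroup.map_comap_eq, inf_eq_right.2]
      rw [MonoidHom.range_comp, Subgroup.range_subtype]
      exact hB
    rw [hA', Subgroup.card_map_of_injective hinj',
      Nat.card_congr (Subgroup.subgroupOfEquivOfLe h.1).toEquiv, hB',
      Subgroup.card_map_of_injective hinj', ← Subgroup.card_map_of_injective R.subtype_injective]
    refine h.2.2 _ (Subgroup.map_subtype_le _) ⟨?_, ?_⟩
    · rintro _ ⟨a, ha, rfl⟩ _ ⟨b, hb, rfl⟩
      exact congrArg Subtype.val (hinj' (show f.comp R.subtype (a * b) = f.comp R.subtype (b * a) by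
        rw [map_mul, map_mul]; exact hc.1 _ ha _ hb))
    · rintro _ ⟨a, ha, rfl⟩
      exact congrArg Subtype.val (hinj' (show f.comp R.subtype (a ^ p) = f.comp R.subtype 1 by
        rw [map_pow, map_one]; exact hc.2 _ ha))

theorem IsMaxEl.conj {p : ℕ} {R A : Subgroup G} (h : IsMaxEl p R A) {g : G}
    (hg : g ∈ Subgroup.normalizer (R : Set G)) :
    IsMaxEl p R (A.map (MulAut.conj g).toMonoidHom) := by
  have h1 := h.map (MulAut.conj g).toMonoidHom fun x _ hx =>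
    (MulAut.conj g).injective (hx.trans (map_one _).symm)
  have h2 : R.map (MulAut.conj g).toMonoidHom = R := by
    rw [Grp.map_conj_eq_smul]
    exact Grp.mem_normalizer_iff_smul.mp hg
  rwa [h2] at h1

theorem conj_mem_thompsonEl {p : ℕ} {R : Subgroup G} {g x : G}
    (hg : g ∈ Subgroup.normalizer (R : Set G)) (hx : x ∈ thompsonSubgroupOf p R) :
    g * x * g⁻¹ ∈ thompsonSubgroupOf p R :=
  (thompsonEl_le_of (R := R) (K := (thompsonSubgroupOf p R).comap (MulAut.conj g).toMonoidHom)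
    fun _ hA _ hy => (hA.conj hg).le_thompsonEl ⟨_, hy, rfl⟩) hx

theorem conj_mem_centerOmega {p : ℕ} {R : Subgroup G} {g x : G}
    (hg : g ∈ Subgroup.normalizer (R : Set G)) (hx : x ∈ centerOmega p R) :
    g * x * g⁻¹ ∈ centerOmega p R := by
  obtain ⟨⟨h0, h1⟩, h2⟩ := mem_centerOmega.1 hx
  refine mem_centerOmega.2 ⟨⟨conj_mem_thompsonEl hg h0, mem_centralizer_iff_commute.2
    fun h hh => ?_⟩, by rw [conj_pow, h2, mul_one, mul_inv_cancel]⟩
  have h3 := mem_centralizer_iff_commute.1 h1 _ (conj_mem_thompsonEl (inv_mem hg) hh)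
  calc h * (g * x * g⁻¹) = g * ((g⁻¹ * h * g⁻¹⁻¹) * x) * g⁻¹ := by group
    _ = g * (x * (g⁻¹ * h * g⁻¹⁻¹)) * g⁻¹ := by rw [h3]
    _ = g * x * g⁻¹ * h := by group

theorem IsMaxEl.mem_of_commute [Finite G] {p : ℕ} {R A : Subgroup G} (h : IsMaxEl p R A) {x : G}
    (hx : x ∈ R) (hxp : x ^ p = 1) (hc : ∀ a ∈ A, a * x = x * a) : x ∈ A := by
  have hn : Subgroup.zpowers x ≤ Subgroup.centralizer (A : Set G) := by
    rw [Subgroup.zpowers_le]
    exact mem_centralizer_iff_commute.2 hc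
  set E := Subgroup.zpowers x ⊔ A with hE
  have hmem : ∀ y ∈ E, ∃ i : ℤ, ∃ a ∈ A, y = x ^ i * a := by
    intro y hy
    rw [hE, ← SetLike.mem_coe, Subgroup.coe_mul_of_left_le_normalizer_right _ _
      (hn.trans (Subgroup.centralizer_le_normalizer _))] at hy
    obtain ⟨_, ⟨i, rfl⟩, a, ha, rfl⟩ := hy
    exact ⟨i, a, ha, rfl⟩
  have hxa : ∀ i : ℤ, ∀ a ∈ A, Commute (x ^ i) a := fun i a ha =>
    (show Commute x a from (hc a ha).symm).zpow_left i
  have hle : E ≤ R := sup_le (Subgroup.zpowers_le.2 hx) h.1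
  have heq := Subgroup.eq_of_le_of_card_ge (H := A) (K := E) le_sup_right (h.2.2 E hle ⟨?_, ?_⟩)
  · exact heq ▸ Subgroup.mem_sup_left (Subgroup.mem_zpowers x)
  · intro u hu v hv
    obtain ⟨i, a, ha, rfl⟩ := hmem u hu
    obtain ⟨j, b, hb, rfl⟩ := hmem v hv
    exact (((Commute.zpow_zpow_self x i j).mul_right (hxa i b hb)).mul_left
      ((hxa j a ha).symm.mul_right (h.2.1.1 a ha b hb))).eq
  · intro u hu
    obtain ⟨i, a, ha, rfl⟩ := hmem u hu
    rw [(hxa i a ha).mul_pow, h.2.1.2 a ha, mul_one, ← zpow_natCast, ← zpow_mul,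
      mul_comm, zpow_mul, zpow_natCast, hxp, one_zpow]

theorem centerOmega_le_maxEl [Finite G] {p : ℕ} {R A : Subgroup G} (h : IsMaxEl p R A) :
    centerOmega p R ≤ A := fun x hx => by
  obtain ⟨⟨h0, h1⟩, h2⟩ := mem_centerOmega.1 hx
  exact h.mem_of_commute (thompsonEl_le R h0) h2
    fun a ha => mem_centralizer_iff_commute.1 h1 a (h.le_thompsonEl ha)

theorem centerOmega_le {p : ℕ} (R : Subgroup G) : centerOmega p R ≤ R := fun _ hx =>
  thompsonEl_le R (mem_centerOmega.1 hx).1.1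

variable [Finite G] {p : ℕ} [Fact p.Prime]

/-- A normal `p`-subgroup meets `Z(J(D))` in a normal subgroup. -/
theorem inf_centerOmega_normal (hp : p ≠ 2)
    (hst : ∀ (P : Subgroup G) [P.Normal], IsPGroup p P → IsPStableOn p P) (S : Sylow p G)
    {D : Subgroup G} (hD : IsStronglyClosed D (S : Subgroup G)) :
    ∀ (B : Subgroup G), B.Normal → IsPGroup p B → (B ⊓ centerOmega p D).Normal := by
  intro B
  induction hn : Nat.card B using Nat.strong_induction_on generalizing B with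
  | _ n IH =>
  intro hBn hBp
  set Z := centerOmega p D with hZ
  have hBS : B ≤ (S : Subgroup G) := hBp.le_sylow_of_normal S
  have hDn : ∀ s ∈ (S : Subgroup G), s ∈ Subgroup.normalizer (D : Set G) := by
    refine fun s hs => mem_normalizer_of_forall (fun x hx => hD.2 x hx s ?_) fun x hx => ?_
    · exact S.mul_mem (S.mul_mem hs (hD.1 hx)) (S.inv_mem hs)
    · have := hD.2 x hx s⁻¹ (by simpa using S.mul_mem (S.mul_mem (S.inv_mem hs) (hD.1 hx)) hs)
      simpa using this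
  set B₁ := Subgroup.normalClosure ((B ⊓ Z : Subgroup G) : Set G) with hB₁
  have hB₁B : B₁ ≤ B := Subgroup.normalClosure_le_normal fun x hx => hx.1
  have hB₁Z : B₁ ⊓ Z = B ⊓ Z :=
    le_antisymm (inf_le_inf_right _ hB₁B) (le_inf Subgroup.subset_normalClosure inf_le_right)
  rcases hB₁B.lt_or_eq with hlt | heq
  · rw [← hB₁Z]
    exact IH _ (hn ▸ card_lt_of_lt hlt) B₁ rfl inferInstance (hBp.to_le hB₁B)
  have hBD : B ≤ D := by
    rw [← heq, hB₁, Subgroup.normalClosure, Subgroup.closure_le]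
    intro y hy
    obtain ⟨x, hx, hxy⟩ := Group.mem_conjugatesOfSet_iff.1 hy
    obtain ⟨c, rfl⟩ := _root_.isConj_iff.1 hxy
    exact hD.2 x (centerOmega_le D hx.2) c (hBS (hBn.conj_mem x hx.1 c))
  by_cases hB0 : B = ⊥
  · rw [hB0, bot_inf_eq]
    infer_instance
  have hB'lt : ⁅B, B⁆ < B := lt_of_le_of_ne (Subgroup.commutator_le_self B)
    fun h => hB0 (eq_bot_of_commutator_eq hBp h)
  haveI := hBn
  have hB'n : (⁅B, B⁆).Normal := inferInstance
  set M := ⁅B, B⁆ ⊓ Z with hM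
  haveI hMn : M.Normal := IH _ (hn ▸ card_lt_of_lt hB'lt) _ rfl hB'n (hBp.to_le hB'lt.le)
  have hcomm : ∀ b ∈ B, ∀ z ∈ B ⊓ Z, ⁅b, z⁆ ∈ M := by
    refine fun b hb z hz => ⟨Subgroup.commutator_mem_commutator hb hz.1, ?_⟩
    rw [commutatorElement_def]
    exact Z.mul_mem (conj_mem_centerOmega (Subgroup.le_normalizer (hBD hb)) hz.2)
      (Z.inv_mem hz.2)
  let C₁ := sectionKernel B M
  haveI : (B.map (QuotientGroup.mk' M)).Normal := hBn.map _ (QuotientGroup.mk'_surjective M)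
  haveI : C₁.Normal := Subgroup.Normal.comap inferInstance _
  have hBC₁ : B ≤ C₁ := by
    rw [← heq, hB₁]
    refine Subgroup.normalClosure_le_normal fun z hz => Subgroup.mem_centralizer_iff.2 ?_
    rintro _ ⟨b, hb, rfl⟩
    have h := hcomm b hb z hz
    rw [← QuotientGroup.ker_mk' M, MonoidHom.mem_ker, map_commutatorElement,
      commutatorElement_eq_one_iff_mul_comm] at h
    exact h
  have hB'Z : ⁅B, B⁆ ≤ Z := by
    refine le_trans (Subgroup.commutator_le.2 fun a ha b hb => ?_) (inf_le_right : M ≤ Z)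
    show ⁅a, b⁆ ∈ M
    rw [← QuotientGroup.ker_mk' M, MonoidHom.mem_ker, map_commutatorElement,
      commutatorElement_eq_one_iff_mul_comm]
    exact mem_centralizer_iff_commute.1 (hBC₁ hb) _ (Subgroup.mem_map_of_mem _ ha)
  have hBC₂ : B ≤ Subgroup.centralizer ((⁅B, B⁆ : Subgroup G) : Set G) := by
    haveI : (Subgroup.centralizer ((⁅B, B⁆ : Subgroup G) : Set G)).Normal := inferInstance
    have hle : ((B ⊓ Z : Subgroup G) : Set G) ⊆
        Subgroup.centralizer ((⁅B, B⁆ : Subgroup G) : Set G) := fun z hz =>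
      mem_centralizer_iff_commute.2 fun h hh =>
        mem_centralizer_iff_commute.1 (mem_centerOmega.1 hz.2).1.2 h (mem_centerOmega.1 (hB'Z hh)).1.1
    conv_lhs => rw [← heq, hB₁]
    exact Subgroup.normalClosure_le_normal hle
  set C := Subgroup.centralizer (B : Set G) with hC
  haveI : C.Normal := inferInstance
  haveI := Grp.pCore_isNormal (p := p) (G := G ⧸ C)
  set K := (pCore p (G ⧸ C)).comap (QuotientGroup.mk' C) with hK
  haveI hKn : K.Normal := inferInstance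
  have hquad : ∀ A, IsMaxEl p D A → B ≤ Subgroup.normalizer (A : Set G) → A ≤ K := by
    intro A hA hBA a ha
    refine hst B hBp a (le_bot_iff.1 (Subgroup.commutator_le.2 fun u hu v hv => ?_))
    have hzA : Subgroup.zpowers a ≤ A := (Subgroup.zpowers_le).2 ha
    have huA : u ∈ A := by
      refine (Subgroup.commutator_le.2 (fun x hx y hy => ?_) :
        ⁅B, Subgroup.zpowers a⁆ ≤ A) hu
      rw [commutatorElement_def]
      exact A.mul_mem ((Subgroup.mem_normalizer_iff.1 (hBA hx) y).1 (hzA hy))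
        (A.inv_mem (hzA hy))
    rw [Subgroup.mem_bot, commutatorElement_eq_one_iff_mul_comm]
    exact hA.2.1.1 u huA v (hzA hv)
  set T := (S : Subgroup G) ⊓ K with hT
  have hTK : K ≤ T ⊔ C := by
    intro k hk
    let f : K →* pCore p (G ⧸ C) :=
      ((QuotientGroup.mk' C).comp K.subtype).codRestrict _ fun x => x.2
    have hf : Function.Surjective f := by
      rintro ⟨q, hq⟩
      obtain ⟨g, rfl⟩ := QuotientGroup.mk'_surjective C q
      exact ⟨⟨g, hq⟩, rfl⟩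
    obtain ⟨-, P, hP⟩ := isSylowOf_inf_normal S K
    have hPtop := (P.mapSurjective hf).is_maximal'
      ((Grp.pCore_isPGroup (p := p) (G := G ⧸ C)).to_subgroup ⊤) le_top
    obtain ⟨x, hx, hxk⟩ : f ⟨k, hk⟩ ∈ (P : Subgroup K).map f :=
      hPtop.le (Subgroup.mem_top _)
    have hxT : (x : G) ∈ T := hP.le hx
    have hc : (x : G)⁻¹ * k ∈ C := QuotientGroup.eq.1 (congrArg Subtype.val hxk)
    rw [show k = (x : G) * ((x : G)⁻¹ * k) by group]
    exact mul_mem (Subgroup.mem_sup_left hxT) (Subgroup.mem_sup_right hc)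
  have hGT : ∀ g : G, ∃ n ∈ Subgroup.normalizer (T : Set G), ∃ c ∈ C, g = n * c := fun g => by
    obtain ⟨-, P, hP⟩ := isSylowOf_inf_normal S K
    have h1 : Subgroup.normalizer (T : Set G) ⊔ K = ⊤ := by
      have hPT : (P : Subgroup K).map K.subtype = T := by
        rw [hP, Subgroup.subgroupOf_map_subtype, inf_eq_left.2 (inf_le_right : T ≤ K)]
      rw [← hPT]
      exact Sylow.normalizer_sup_eq_top P
    have h2 : Subgroup.normalizer (T : Set G) ⊔ C = ⊤ := top_le_iff.1 (h1 ▸ sup_le le_sup_left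
      (hTK.trans (sup_le_sup_right Subgroup.le_normalizer _)))
    obtain ⟨n, hn, c, hc, e⟩ := Subgroup.mem_sup_of_normal_right.1
      (show g ∈ Subgroup.normalizer (T : Set G) ⊔ C by rw [h2]; exact Subgroup.mem_top g)
    exact ⟨n, hn, c, hc, e.symm⟩
  set D₁ := D ⊓ K with hD₁
  have hND₁ : Subgroup.normalizer (T : Set G) ≤ Subgroup.normalizer (D₁ : Set G) := by
    intro n hn
    have key : ∀ m ∈ Subgroup.normalizer (T : Set G), ∀ x ∈ D₁, m * x * m⁻¹ ∈ D₁ := by
      rintro m hm x ⟨hxD, hxK⟩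
      have hxT := (Subgroup.mem_normalizer_iff.1 hm x).1 ⟨hD.1 hxD, hxK⟩
      exact ⟨hD.2 x hxD m hxT.1, hxT.2⟩
    refine mem_normalizer_of_forall (key n hn) fun x hx => ?_
    simpa using key n⁻¹ (inv_mem hn) x hx
  have hfin : ∀ z ∈ B ⊓ Z, ∀ c ∈ C, c * z * c⁻¹ = z := fun z hz c hc => by
    rw [← mem_centralizer_iff_commute.1 hc z hz.1, mul_inv_cancel_right]
  by_cases hall : ∀ A, IsMaxEl p D A → A ≤ K
  · have hJ : thompsonSubgroupOf p D₁ = thompsonSubgroupOf p D := by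
      refine le_antisymm (thompsonEl_le_of fun A hA => ?_) (thompsonEl_le_of fun A hA => ?_)
      · exact IsMaxEl.le_thompsonEl ⟨hA.1.trans inf_le_left, hA.2.1, fun A' hA' hc => by
          obtain ⟨hfin', hne⟩ : {A₀ : Subgroup G | A₀ ≤ D ∧ ((∀ x ∈ A₀, ∀ y ∈ A₀,
              x * y = y * x) ∧ ∀ x ∈ A₀, x ^ p = 1)}.Finite ∧ {A₀ : Subgroup G | A₀ ≤ D ∧
              ((∀ x ∈ A₀, ∀ y ∈ A₀, x * y = y * x) ∧ ∀ x ∈ A₀, x ^ p = 1)}.Nonempty :=
            ⟨Set.toFinite _, A', hA', hc⟩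
          obtain ⟨A₀, ⟨h1, h2⟩, h3⟩ :=
            Set.exists_max_image _ (fun H : Subgroup G => Nat.card H) hfin' hne
          have hA₀ : IsMaxEl p D A₀ := ⟨h1, h2, fun B' hB' hc' => h3 B' ⟨hB', hc'⟩⟩
          exact (h3 A' ⟨hA', hc⟩).trans (hA.2.2 A₀ (le_inf h1 (hall A₀ hA₀)) h2)⟩
      · exact IsMaxEl.le_thompsonEl ⟨le_inf hA.1 (hall A hA), hA.2.1,
          fun A' hA' hc => hA.2.2 A' (hA'.trans inf_le_left) hc⟩
    refine ⟨fun z hz g => ?_⟩
    obtain ⟨n, hn', c, hc, rfl⟩ := hGT g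
    rw [show n * c * z * (n * c)⁻¹ = n * (c * z * c⁻¹) * n⁻¹ by group, hfin z hz c hc]
    refine ⟨hBn.conj_mem z hz.1 n, ?_⟩
    have hZ₁ : Z = centerOmega p D₁ := by simp only [hZ, centerOmega, centerThompsonOf, hJ]
    rw [hZ₁]
    exact conj_mem_centerOmega (hND₁ hn') (hZ₁.le hz.2)
  push Not at hall
  exfalso
  obtain ⟨hsf, hsne⟩ : {A | IsMaxEl p D A ∧ ¬ A ≤ K}.Finite ∧ {A | IsMaxEl p D A ∧ ¬ A ≤ K}.Nonempty :=
    ⟨Set.toFinite _, hall⟩
  obtain ⟨A₁, ⟨hA₁, hA₁K⟩, hmax⟩ :=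
    Set.exists_max_image _ (fun A : Subgroup G => Nat.card ↥(A ⊓ B)) hsf hsne
  have hA₁B : ¬ B ≤ Subgroup.normalizer (A₁ : Set G) := fun h => hA₁K (hquad A₁ hA₁ h)
  obtain ⟨A', hA'D, hA'c0, hA'card, hlt, hA'N, -, -, hA'e, -⟩ := glauberman_replacement_exponent hp
    (S.2.to_le hD.1) hA₁.1 hBD
    (fun a _ => Subgroup.normalizer_eq_top B ▸ Subgroup.mem_top a) hA₁.2.1.1
    (fun x hx y hy z hz => ((mem_centralizer_iff_commute.1 (hBC₂ hz)) _
      (Subgroup.commutator_mem_commutator hx hy) :))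
    (fun x hx y hy => centerOmega_le_maxEl hA₁ (hB'Z
      (Subgroup.commutator_mem_commutator hx hy))) hA₁B
  have hA'c : (∀ x ∈ A', ∀ y ∈ A', x * y = y * x) ∧ ∀ x ∈ A', x ^ p = 1 :=
    ⟨hA'c0, hA'e p ((Fact.out : p.Prime).eq_two_or_odd.resolve_left hp) hA₁.2.1.2⟩
  have hA' : IsMaxEl p D A' := ⟨hA'D, hA'c, fun A'' h1 h2 => (hA₁.2.2 A'' h1 h2).trans hA'card⟩
  have hA'K : A' ≤ K := by
    by_contra h
    exact absurd (hmax A' ⟨hA', h⟩) (not_le.2 (card_lt_of_lt hlt))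
  have hA'1 : IsMaxEl p D₁ A' := ⟨le_inf hA'D hA'K, hA'c,
    fun A'' h1 h2 => hA'.2.2 A'' (h1.trans inf_le_left) h2⟩
  have hJ₁ : thompsonSubgroupOf p D₁ ≤ thompsonSubgroupOf p D :=
    thompsonEl_le_of fun A hA => IsMaxEl.le_thompsonEl
      ⟨hA.1.trans inf_le_left, hA.2.1, fun A'' h1 h2 =>
        (hA'.2.2 A'' h1 h2).trans (hA.2.2 A' hA'1.1 hA'c)⟩
  have hZZ₁ : Z ≤ centerOmega p D₁ := fun z hz =>
    mem_centerOmega.2 ⟨⟨hA'1.le_thompsonEl (centerOmega_le_maxEl hA' hz),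
      mem_centralizer_iff_commute.2 fun h hh =>
        mem_centralizer_iff_commute.1 (mem_centerOmega.1 hz).1.2 h (hJ₁ hh)⟩,
      (mem_centerOmega.1 hz).2⟩
  refine hA₁B (le_trans ?_ hA'N)
  refine le_trans ?_ (centerOmega_le_maxEl hA'1)
  rw [← heq, hB₁, Subgroup.normalClosure, Subgroup.closure_le]
  intro y hy
  obtain ⟨z, hz, hzy⟩ := Group.mem_conjugatesOfSet_iff.1 hy
  obtain ⟨g, rfl⟩ := _root_.isConj_iff.1 hzy
  obtain ⟨n, hn', c, hc, rfl⟩ := hGT g
  rw [show n * c * z * (n * c)⁻¹ = n * (c * z * c⁻¹) * n⁻¹ by group, hfin z hz c hc]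
  exact conj_mem_centerOmega (hND₁ hn') (hZZ₁ hz.2)

/-- Glauberman's `ZJ`-theorem with respect to a strongly closed subgroup. -/
theorem centerOmega_normal (hp : p ≠ 2)
    (hc : Subgroup.centralizer (pCore p G : Set G) ≤ pCore p G)
    (hst : ∀ (P : Subgroup G) [P.Normal], IsPGroup p P → IsPStableOn p P) (S : Sylow p G)
    {D : Subgroup G} (hD : IsStronglyClosed D (S : Subgroup G)) :
    (centerOmega p D).Normal := by
  haveI hQn := Grp.pCore_isNormal (p := p) (G := G)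
  have hQ := Grp.pCore_isPGroup (p := p) (G := G)
  have hle : centerOmega p D ≤ pCore p G := by
    intro z hz
    have hq := hst (pCore p G) hQ z (le_bot_iff.1 (Subgroup.commutator_le.2 fun u hu v hv => ?_))
    · set C := Subgroup.centralizer (pCore p G : Set G)
      haveI := Grp.pCore_isNormal (p := p) (G := G ⧸ C)
      have hKp : IsPGroup p ((pCore p (G ⧸ C)).comap (QuotientGroup.mk' C)) :=
        Grp.pCore_isPGroup.comap_of_ker_isPGroup _ (by
          rw [QuotientGroup.ker_mk']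
          exact hQ.to_le hc)
      exact Grp.le_pCore inferInstance hKp hq
    · have hzZ : Subgroup.zpowers z ≤ centerOmega p D := (Subgroup.zpowers_le).2 hz
      have huZ : u ∈ centerOmega p D := by
        refine (Subgroup.commutator_le.2 (fun x hx y hy => ?_) :
          ⁅pCore p G, Subgroup.zpowers z⁆ ≤ centerOmega p D) hu
        rw [commutatorElement_def]
        refine mul_mem (conj_mem_centerOmega ?_ (hzZ hy)) (inv_mem (hzZ hy))
        have hxS : x ∈ (S : Subgroup G) := Grp.pCore_le_sylow S hx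
        refine mem_normalizer_of_forall (fun d hd => hD.2 d hd x
          (S.mul_mem (S.mul_mem hxS (hD.1 hd)) (S.inv_mem hxS))) fun d hd => ?_
        have := hD.2 d hd x⁻¹ (S.mul_mem (S.mul_mem (S.inv_mem hxS) (hD.1 hd))
          (S.inv_mem (S.inv_mem hxS)))
        simpa using this
      rw [Subgroup.mem_bot, commutatorElement_eq_one_iff_mul_comm]
      exact mem_centralizer_iff_commute.1 (mem_centerOmega.1 (hzZ hv)).1.2 u (mem_centerOmega.1 huZ).1.1
  have h := inf_centerOmega_normal hp hst S hD (pCore p G) hQn hQ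
  rwa [inf_eq_right.2 hle] at h


end Cfsg.Agent.Invol
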