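import Cfsg.Prelude.Def_JComponents
import Cfsg.Agent.Lib.Invol.ZJElem
import Cfsg.Agent.Lib.Grp.Cores
import Cfsg.Agent.Lib.Grp.Subnormal
import Cfsg.Agent.Lib.Invol.StronglyClosedControl

/-!
Tools for the theory of `J(T)`-components: the action on a four-group (even and odd elements), elementary
abelian subgroups of largest order, conjugation of components, and odd elements of subnormal subgroups.
-/

set_option autoImplicit false

namespace Cfsg.Agent.Invol.JComp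

open Subgroup

variable {G : Type*} [Group G]

/-! ### Even elements on a four-group -/

/-- `x` normalizes `W` and acts on it either trivially or without nontrivial fixed point. -/
def Ev (W : Subgroup G) (x : G) : Prop :=
  x ∈ normalizer (W : Set G) ∧ (x ∈ centralizer (W : Set G) ∨ ∀ w ∈ W, x * w * x⁻¹ = w → w = 1)

theorem perm_ee : ∀ σ τ : Equiv.Perm (Fin 4), σ 0 = 0 → τ 0 = 0 → (σ = 1 ∨ ∀ a, σ a = a → a = 0) →
    (τ = 1 ∨ ∀ a, τ a = a → a = 0) → (σ * τ = 1 ∨ ∀ a, (σ * τ) a = a → a = 0) ∧ σ * τ = τ * σ ∧ (σ = 1 ∨ τ = 1 ∨ σ⁻¹ * τ = 1 ∨ σ * τ = 1) := by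
  decide

theorem perm_cube : ∀ σ : Equiv.Perm (Fin 4), σ 0 = 0 → (σ = 1 ∨ ∀ a, σ a = a → a = 0) → σ * σ * σ = 1 := by
  decide

theorem perm_commute : ∀ σ τ : Equiv.Perm (Fin 4), σ 0 = 0 → τ 0 = 0 → (σ = 1 ∨ ∀ a, σ a = a → a = 0) →
    τ * σ = σ * τ → σ = 1 ∨ (τ = 1 ∨ ∀ a, τ a = a → a = 0) := by
  decide

theorem perm_eo : ∀ σ τ : Equiv.Perm (Fin 4), σ 0 = 0 → τ 0 = 0 → (σ = 1 ∨ ∀ a, σ a = a → a = 0) →
    (τ = 1 ∨ ∀ a, τ a = a → a = 0) ∨ (τ * σ * τ⁻¹ * σ = 1 ∧ ¬ (σ * τ = 1 ∨ ∀ a, (σ * τ) a = a → a = 0)) := by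
  decide

theorem perm_sq : ∀ σ : Equiv.Perm (Fin 4), σ 0 = 0 → (σ = 1 ∨ ∀ a, σ a = a → a = 0) ∨ σ * σ = 1 := by
  decide

theorem perm_oo : ∀ σ τ : Equiv.Perm (Fin 4), σ 0 = 0 → τ 0 = 0 → (σ = 1 ∨ ∀ a, σ a = a → a = 0) ∨ (τ = 1 ∨ ∀ a, τ a = a → a = 0) ∨
    ((σ * τ = 1 ∨ ∀ a, (σ * τ) a = a → a = 0) ∧ ((∃ a, a ≠ 0 ∧ σ a = a ∧ τ a = a) → σ⁻¹ * τ = 1) ∧ (σ * τ = τ * σ → σ⁻¹ * τ = 1)) := by
  decide

theorem perm_invol : ∀ σ : Equiv.Perm (Fin 4), σ 0 = 0 → σ * σ = 1 →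
    σ = 1 ∨ ¬ ∀ a, σ a = a → a = 0 := by
  decide

/-- The action of the normalizer of a four-group on its four elements. -/
theorem exists_perm [Finite G] {W : Subgroup G} (h4 : Nat.card ↥W = 4) :
    ∃ φ : ↥(normalizer (W : Set G)) →* Equiv.Perm (Fin 4), ∃ e : ↥W ≃ Fin 4, e 1 = 0 ∧
      (∀ x a, φ x (e a) = e ⟨(x : G) * a * (x : G)⁻¹, (mem_normalizer_iff.1 x.2 a).1 a.2⟩) := by
  let e₀ : ↥W ≃ Fin 4 := Finite.equivFinOfCardEq h4
  let e : ↥W ≃ Fin 4 := e₀.trans (Equiv.swap (e₀ 1) 0)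
  refine ⟨{ toFun := fun x => e.permCongr (MulAut.toPerm _ (W.normalizerMonoidHom x)),
            map_one' := ?_, map_mul' := fun x y => ?_ }, e, by simp [e], fun x a => ?_⟩
  · ext a
    simp
  · ext a
    simp
  · simp only [MonoidHom.coe_mk, OneHom.coe_mk, Equiv.permCongr_apply, Equiv.symm_apply_apply]
    rfl

section
variable [Finite G] {W : Subgroup G}

/-- What is needed to transport the facts on permutations. -/
theorem exists_perm' (h4 : Nat.card ↥W = 4) :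
    ∃ φ : ↥(normalizer (W : Set G)) →* Equiv.Perm (Fin 4),
      (∀ x, φ x 0 = 0) ∧ (∀ x, φ x = 1 ↔ (x : G) ∈ centralizer (W : Set G)) ∧
      (∀ x, (∀ a, φ x a = a → a = 0) ↔ ∀ w ∈ W, (x : G) * w * (x : G)⁻¹ = w → w = 1) ∧
      (∀ x y : ↥(normalizer (W : Set G)), (∃ a, a ≠ 0 ∧ φ x a = a ∧ φ y a = a) ↔
        ∃ w ∈ W, w ≠ 1 ∧ (x : G) * w * (x : G)⁻¹ = w ∧ (y : G) * w * (y : G)⁻¹ = w) := by
  obtain ⟨φ, e, he, hφ⟩ := exists_perm h4
  have hfix : ∀ x a, φ x (e a) = e a ↔ (x : G) * a * (x : G)⁻¹ = a := fun x a => by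
    rw [hφ, e.apply_eq_iff_eq, Subtype.ext_iff]
  have hne : ∀ a : ↥W, e a = 0 ↔ (a : G) = 1 := fun a => by
    rw [← he, e.apply_eq_iff_eq, Subtype.ext_iff, OneMemClass.coe_one]
  refine ⟨φ, fun x => ?_, fun x => ⟨fun h => ?_, fun h => ?_⟩, fun x => ⟨fun h w hw hxw => ?_, fun h a ha => ?_⟩,
    fun x y => ⟨?_, ?_⟩⟩
  · rw [← he, (hfix x 1)]
    simp
  · refine mem_centralizer_iff.2 fun w hw => (mul_inv_eq_iff_eq_mul.1 ((hfix x ⟨w, hw⟩).1 ?_)).symm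
    rw [h]; rfl
  · ext a
    obtain ⟨a, rfl⟩ := e.surjective a
    rw [(hfix x a).2 (by rw [← mem_centralizer_iff.1 h a a.2]; group), Equiv.Perm.one_apply]
  · exact (hne ⟨w, hw⟩).1 (h _ ((hfix x ⟨w, hw⟩).2 hxw))
  · obtain ⟨a, rfl⟩ := e.surjective a
    exact (hne a).2 (h a a.2 ((hfix x a).1 ha))
  · rintro ⟨a, h0, h1, h2⟩
    obtain ⟨a, rfl⟩ := e.surjective a
    exact ⟨a, a.2, fun h => h0 ((hne a).2 h), (hfix x a).1 h1, (hfix y a).1 h2⟩
  · rintro ⟨w, hw, h0, h1, h2⟩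
    exact ⟨e ⟨w, hw⟩, fun h => h0 ((hne ⟨w, hw⟩).1 h), (hfix x _).2 h1, (hfix y _).2 h2⟩

theorem ev_iff_perm {φ : ↥(normalizer (W : Set G)) →* Equiv.Perm (Fin 4)}
    (h1 : ∀ x, φ x = 1 ↔ (x : G) ∈ centralizer (W : Set G))
    (h2 : ∀ x, (∀ a, φ x a = a → a = 0) ↔ ∀ w ∈ W, (x : G) * w * (x : G)⁻¹ = w → w = 1)
    (x : ↥(normalizer (W : Set G))) :
    (φ x = 1 ∨ ∀ a, φ x a = a → a = 0) ↔ Ev W (x : G) := by
  rw [h1, h2]
  exact ⟨fun h => ⟨x.2, h⟩, fun h => h.2⟩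

theorem Ev.one : Ev W 1 := ⟨one_mem _, Or.inl (one_mem _)⟩

theorem Ev.of_centralizer {x : G} (hx : x ∈ centralizer (W : Set G)) : Ev W x :=
  ⟨centralizer_le_normalizer _ hx, Or.inl hx⟩

theorem Ev.mul (h4 : Nat.card ↥W = 4) {x y : G} (hx : Ev W x) (hy : Ev W y) : Ev W (x * y) := by
  obtain ⟨φ, h0, h1, h2, -⟩ := exists_perm' h4
  have h := (perm_ee (φ ⟨x, hx.1⟩) (φ ⟨y, hy.1⟩) (h0 _) (h0 _) ((ev_iff_perm h1 h2 _).2 hx)
    ((ev_iff_perm h1 h2 _).2 hy)).1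
  rw [← map_mul] at h
  exact (ev_iff_perm h1 h2 _).1 h

theorem Ev.comm (h4 : Nat.card ↥W = 4) {x y : G} (hx : Ev W x) (hy : Ev W y) :
    x * y * x⁻¹ * y⁻¹ ∈ centralizer (W : Set G) := by
  obtain ⟨φ, h0, h1, h2, -⟩ := exists_perm' h4
  have h := (perm_ee (φ ⟨x, hx.1⟩) (φ ⟨y, hy.1⟩) (h0 _) (h0 _) ((ev_iff_perm h1 h2 _).2 hx)
    ((ev_iff_perm h1 h2 _).2 hy)).2.1
  exact (h1 (⟨x, hx.1⟩ * ⟨y, hy.1⟩ * ⟨x, hx.1⟩⁻¹ * ⟨y, hy.1⟩⁻¹)).1 (by
    simp only [map_mul, map_inv, h]; group)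

theorem Ev.cube (h4 : Nat.card ↥W = 4) {x : G} (hx : Ev W x) : x ^ 3 ∈ centralizer (W : Set G) := by
  obtain ⟨φ, h0, h1, h2, -⟩ := exists_perm' h4
  have h := perm_cube (φ ⟨x, hx.1⟩) (h0 _) ((ev_iff_perm h1 h2 _).2 hx)
  refine (h1 (⟨x, hx.1⟩ ^ 3)).1 ?_
  rw [map_pow, pow_succ, pow_two, h]

theorem Ev.inv (h4 : Nat.card ↥W = 4) {x : G} (hx : Ev W x) : Ev W x⁻¹ := by
  have h : x⁻¹ = (x * x) * (x ^ 3)⁻¹ := by group
  rw [h]
  exact (hx.mul h4 hx).mul h4 (Ev.of_centralizer (inv_mem (hx.cube h4)))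

theorem Ev.pow (h4 : Nat.card ↥W = 4) {x : G} (hx : Ev W x) (n : ℕ) : Ev W (x ^ n) := by
  induction n with
  | zero => rw [pow_zero]; exact Ev.one
  | succ n ih => rw [pow_succ]; exact ih.mul h4 hx

theorem Ev.cases (h4 : Nat.card ↥W = 4) {x y : G} (hx : Ev W x) (hxC : x ∉ centralizer (W : Set G))
    (hy : Ev W y) :
    y ∈ centralizer (W : Set G) ∨ x⁻¹ * y ∈ centralizer (W : Set G) ∨
      x * y ∈ centralizer (W : Set G) := by
  obtain ⟨φ, h0, h1, h2, -⟩ := exists_perm' h4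
  have h := (perm_ee (φ ⟨x, hx.1⟩) (φ ⟨y, hy.1⟩) (h0 _) (h0 _) ((ev_iff_perm h1 h2 _).2 hx)
    ((ev_iff_perm h1 h2 _).2 hy)).2.2.resolve_left (fun e => hxC ((h1 _).1 e))
  rcases h with h | h | h
  · exact Or.inl ((h1 ⟨y, hy.1⟩).1 h)
  · rw [← map_inv, ← map_mul] at h
    exact Or.inr (Or.inl ((h1 _).1 h))
  · rw [← map_mul] at h
    exact Or.inr (Or.inr ((h1 _).1 h))

theorem Ev.of_commute (h4 : Nat.card ↥W = 4) {x y : G} (hx : Ev W x)
    (hxC : x ∉ centralizer (W : Set G)) (hy : y ∈ normalizer (W : Set G))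
    (hc : y * x * y⁻¹ * x⁻¹ ∈ centralizer (W : Set G)) : Ev W y := by
  obtain ⟨φ, h0, h1, h2, -⟩ := exists_perm' h4
  have hc' := (h1 (⟨y, hy⟩ * ⟨x, hx.1⟩ * ⟨y, hy⟩⁻¹ * ⟨x, hx.1⟩⁻¹)).2 hc
  simp only [map_mul, map_inv, mul_inv_eq_one] at hc'
  exact (ev_iff_perm h1 h2 _).1 ((perm_commute (φ ⟨x, hx.1⟩) (φ ⟨y, hy⟩) (h0 _) (h0 _)
    ((ev_iff_perm h1 h2 _).2 hx) (mul_inv_eq_iff_eq_mul.1 hc')).resolve_left (fun e => hxC ((h1 _).1 e)))

theorem flip (h4 : Nat.card ↥W = 4) {x t : G} (hx : Ev W x) (ht : t ∈ normalizer (W : Set G))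
    (hte : ¬ Ev W t) :
    t * x * t⁻¹ * x ∈ centralizer (W : Set G) ∧ ¬ Ev W (x * t) := by
  obtain ⟨φ, h0, h1, h2, -⟩ := exists_perm' h4
  obtain ⟨h, h'⟩ := (perm_eo (φ ⟨x, hx.1⟩) (φ ⟨t, ht⟩) (h0 _) (h0 _)
    ((ev_iff_perm h1 h2 _).2 hx)).resolve_left (fun e => hte ((ev_iff_perm h1 h2 _).1 e))
  refine ⟨(h1 (⟨t, ht⟩ * ⟨x, hx.1⟩ * ⟨t, ht⟩⁻¹ * ⟨x, hx.1⟩)).1 (by simpa only [map_mul, map_inv] using h),
    fun e => h' ?_⟩
  rw [← map_mul]
  exact (ev_iff_perm h1 h2 _).2 e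

theorem odd_sq (h4 : Nat.card ↥W = 4) {x : G} (hx : x ∈ normalizer (W : Set G)) (hxe : ¬ Ev W x) :
    x * x ∈ centralizer (W : Set G) := by
  obtain ⟨φ, h0, h1, h2, -⟩ := exists_perm' h4
  have h := (perm_sq (φ ⟨x, hx⟩) (h0 _)).resolve_left (fun e => hxe ((ev_iff_perm h1 h2 _).1 e))
  rw [← map_mul] at h
  exact (h1 _).1 h

theorem odd_odd (h4 : Nat.card ↥W = 4) {x y : G} (hx : x ∈ normalizer (W : Set G)) (hxe : ¬ Ev W x)
    (hy : y ∈ normalizer (W : Set G)) (hye : ¬ Ev W y) :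
    Ev W (x * y) ∧
      ((∃ w ∈ W, w ≠ 1 ∧ x * w * x⁻¹ = w ∧ y * w * y⁻¹ = w) → x⁻¹ * y ∈ centralizer (W : Set G)) ∧
      (x * y * x⁻¹ * y⁻¹ ∈ centralizer (W : Set G) → x⁻¹ * y ∈ centralizer (W : Set G)) := by
  obtain ⟨φ, h0, h1, h2, h3⟩ := exists_perm' h4
  obtain ⟨ha, hb, hc⟩ := ((perm_oo (φ ⟨x, hx⟩) (φ ⟨y, hy⟩) (h0 _) (h0 _)).resolve_left
    (fun e => hxe ((ev_iff_perm h1 h2 _).1 e))).resolve_left (fun e => hye ((ev_iff_perm h1 h2 _).1 e))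
  refine ⟨?_, fun h => ?_, fun h => ?_⟩
  · rw [← map_mul] at ha
    exact (ev_iff_perm h1 h2 _).1 ha
  · have := hb ((h3 ⟨x, hx⟩ ⟨y, hy⟩).2 h)
    rw [← map_inv, ← map_mul] at this
    exact (h1 _).1 this
  · have hc' := (h1 (⟨x, hx⟩ * ⟨y, hy⟩ * ⟨x, hx⟩⁻¹ * ⟨y, hy⟩⁻¹)).2 h
    simp only [map_mul, map_inv, mul_inv_eq_one, mul_inv_eq_iff_eq_mul] at hc'
    have := hc hc'
    rw [← map_inv, ← map_mul] at this
    exact (h1 _).1 this

theorem not_ev_of_sq (h4 : Nat.card ↥W = 4) {x : G} (hx : x ∈ normalizer (W : Set G))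
    (hx2 : x * x ∈ centralizer (W : Set G)) (hxC : x ∉ centralizer (W : Set G)) : ¬ Ev W x := by
  obtain ⟨φ, h0, h1, h2, -⟩ := exists_perm' h4
  intro he
  have h := (h1 (⟨x, hx⟩ * ⟨x, hx⟩)).2 hx2
  rw [map_mul] at h
  rcases (ev_iff_perm h1 h2 ⟨x, hx⟩).2 he with e | e
  · exact hxC ((h1 _).1 e)
  · exact (perm_invol (φ ⟨x, hx⟩) (h0 _) h).resolve_left (fun e' => hxC ((h1 _).1 e')) e

theorem ev_of_odd (h4 : Nat.card ↥W = 4) {x : G} (hx : x ∈ normalizer (W : Set G))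
    (ho : Odd (orderOf x)) : Ev W x := by
  by_contra he
  obtain ⟨n, hn⟩ := ho
  refine he (Ev.of_centralizer ?_)
  have h1 : x ^ (2 * n + 1) = 1 := by rw [← hn, pow_orderOf_eq_one]
  have h2 : x ^ (2 * n) ∈ centralizer (W : Set G) := by
    rw [pow_mul, pow_two]; exact pow_mem (odd_sq h4 hx he) n
  rw [pow_succ, mul_eq_one_iff_eq_inv] at h1
  rw [h1] at h2
  exact inv_mem_iff.1 h2

theorem centralizes_of_ev_two (h4 : Nat.card ↥W = 4) {x : G} (he : Ev W x) {n : ℕ}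
    (hn : x ^ 2 ^ n ∈ centralizer (W : Set G)) : x ∈ centralizer (W : Set G) := by
  induction n with
  | zero => simpa using hn
  | succ n ih =>
    refine ih ?_
    have h3 := (he.pow h4 (2 ^ n)).cube h4
    rw [pow_succ (x ^ 2 ^ n)] at h3
    have h2 : (x ^ 2 ^ n) ^ 2 = x ^ 2 ^ (n + 1) := by rw [← pow_mul, pow_succ]
    rw [h2] at h3
    exact (mul_mem_cancel_left hn).1 h3

theorem eq_one_of_fixed {x w : G} (he : Ev W x) (hxC : x ∉ centralizer (W : Set G)) (hw : w ∈ W)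
    (h : x * w * x⁻¹ = w) : w = 1 :=
  (he.2.resolve_left hxC) w hw h

end

/-! ### Two-elements and odd elements -/

theorem exists_two_pow_mul_odd [Finite G] (x : G) :
    ∃ a m : ℕ, Odd m ∧ orderOf x = 2 ^ a * m ∧ Odd (orderOf (x ^ 2 ^ a)) := by
  obtain ⟨a, m, hm, h⟩ := Nat.exists_eq_two_pow_mul_odd (orderOf_pos x).ne'
  refine ⟨a, m, hm, h, ?_⟩
  rw [orderOf_pow' x (by positivity), h, Nat.gcd_eq_right (Dvd.intro m rfl),
    Nat.mul_div_cancel_left m (by positivity)]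
  exact hm

theorem eq_one_of_odd_of_two {x : G} (ho : Odd (orderOf x)) {n : ℕ} (h : x ^ 2 ^ n = 1) : x = 1 :=
  orderOf_eq_one_iff.1 (Nat.eq_one_of_dvd_coprimes (Nat.Coprime.pow_right n (Nat.coprime_two_right.2 ho))
    dvd_rfl (orderOf_dvd_of_pow_eq_one h))

theorem odd_orderOf_conj {g x : G} (h : Odd (orderOf x)) : Odd (orderOf (g * x * g⁻¹)) := by
  rwa [← MulAut.conj_apply, MulEquiv.orderOf_eq]

/-- An element of odd order which lies in `N ⊔ P`, with `P` a `2`-group normalizing `N`, lies in `N`. -/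
theorem mem_of_odd_sup [Finite G] {N P : Subgroup G} (hP : IsPGroup 2 ↥P)
    (hn : P ≤ normalizer (N : Set G)) {x : G} (hx : x ∈ N ⊔ P) (ho : Odd (orderOf x)) : x ∈ N := by
  haveI : (N.subgroupOf (N ⊔ P)).Normal :=
    normal_subgroupOf_of_le_normalizer (sup_le le_normalizer hn)
  have hx' := hx
  rw [← SetLike.mem_coe, coe_mul_of_right_le_normalizer_left _ _ hn] at hx'
  obtain ⟨k, hk, j, hj, hkj⟩ := hx'
  let q := QuotientGroup.mk' (N.subgroupOf (N ⊔ P))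
  have hq : q ⟨x, hx⟩ = q ⟨j, mem_sup_right hj⟩ := by
    rw [show (⟨x, hx⟩ : ↥(N ⊔ P)) = ⟨k, mem_sup_left hk⟩ * ⟨j, mem_sup_right hj⟩ from Subtype.ext hkj.symm,
      map_mul, show q ⟨k, mem_sup_left hk⟩ = 1 from (QuotientGroup.eq_one_iff _).2 hk, one_mul]
  obtain ⟨i, hi⟩ := hP ⟨j, hj⟩
  have h2 : q ⟨x, hx⟩ ^ 2 ^ i = 1 := by
    rw [hq, ← map_pow]
    exact (congrArg q (Subtype.ext (by simpa using congrArg Subtype.val hi))).trans (map_one q)
  have h1 : Odd (orderOf (q ⟨x, hx⟩)) := by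
    refine Odd.of_dvd_nat ho ((orderOf_map_dvd q _).trans ?_)
    rw [Subgroup.orderOf_mk]
  exact mem_subgroupOf.1 ((QuotientGroup.eq_one_iff _).1 (eq_one_of_odd_of_two h1 h2))

/-- A subnormal subgroup of `2`-power index contains all elements of odd order. -/
theorem mem_of_odd_subnormal [Finite G] {H : Subgroup G} (hs : H.IsSubnormal)
    (hi : ∃ n, H.index ∣ 2 ^ n) {x : G} (ho : Odd (orderOf x)) : x ∈ H := by
  induction hs with
  | top => exact mem_top x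
  | step H K hle hK hN ih =>
    obtain ⟨n, hn⟩ := hi
    have hxK := ih ⟨n, (index_dvd_of_le hle).trans hn⟩
    haveI := hN
    have h1 : orderOf (QuotientGroup.mk' (H.subgroupOf K) ⟨x, hxK⟩) ∣ 2 ^ n := by
      refine (_root_.orderOf_dvd_natCard _).trans ?_
      rw [← index_eq_card, ← relIndex, ← relIndex_mul_index hle] at *
      exact (Dvd.intro _ rfl).trans hn
    have h2 : orderOf (QuotientGroup.mk' (H.subgroupOf K) ⟨x, hxK⟩) ∣ orderOf x := by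
      refine (orderOf_map_dvd _ _).trans ?_
      rw [Subgroup.orderOf_mk]
    exact mem_subgroupOf.1 ((QuotientGroup.eq_one_iff _).1 (orderOf_eq_one_iff.1
      (Nat.eq_one_of_dvd_coprimes (Nat.Coprime.pow_right n (Nat.coprime_two_right.2 ho)) h2 h1)))

/-- A normal `2`-subgroup `N` of a group normalizes every subnormal subgroup generated by odd elements. -/
theorem le_normalizer_of_subnormal [Finite G] {K N R : Subgroup G} (hKR : K ≤ R) (hNR : N ≤ R)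
    (hN : R ≤ normalizer (N : Set G)) (hNp : IsPGroup 2 ↥N) (hodd : closure {g : G | g ∈ K ∧ Odd (orderOf g)} = K)
    (hs : (K.subgroupOf R).IsSubnormal) : N ≤ normalizer (K : Set G) := by
  have hKN : K ≤ normalizer (N : Set G) := hKR.trans hN
  have hle : K ⊔ N ≤ R := sup_le hKR hNR
  have hs' : (K.subgroupOf (K ⊔ N)).IsSubnormal := hs.comap (Subgroup.inclusion hle)
  have hi : ∃ n, (K.subgroupOf (K ⊔ N)).index ∣ 2 ^ n := by
    obtain ⟨n, hn⟩ := IsPGroup.iff_card.1 hNp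
    refine ⟨n, ?_⟩
    have h1 := Grp.card_sup_mul_card_inf hKN
    have h2 : Nat.card ↥K * (K.subgroupOf (K ⊔ N)).index = Nat.card ↥(K ⊔ N) := by
      rw [← card_mul_index (K.subgroupOf (K ⊔ N)),
        Nat.card_congr (subgroupOfEquivOfLe (le_sup_left : K ≤ K ⊔ N)).toEquiv]
    have h3 : (K.subgroupOf (K ⊔ N)).index * Nat.card ↥(K ⊓ N) = Nat.card ↥N := by
      apply Nat.eq_of_mul_eq_mul_left (Nat.card_pos (α := ↥K))
      rw [← mul_assoc, h2, h1]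
    exact hn ▸ Dvd.intro _ h3
  intro v hv
  refine mem_normalizer_fintype fun y hy => ?_
  have : K.map (MulAut.conj v).toMonoidHom ≤ K := by
    conv_lhs => rw [← hodd]
    rw [MonoidHom.map_closure]
    refine (closure_le _).2 ?_
    rintro _ ⟨g, ⟨hgK, hgo⟩, rfl⟩
    have hm : v * g * v⁻¹ ∈ K ⊔ N :=
      mul_mem (mul_mem (mem_sup_right hv) (mem_sup_left hgK)) (inv_mem (mem_sup_right hv))
    have ho : Odd (orderOf (⟨v * g * v⁻¹, hm⟩ : ↥(K ⊔ N))) := by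
      rw [Subgroup.orderOf_mk]; exact odd_orderOf_conj hgo
    exact mem_subgroupOf.1 (mem_of_odd_subnormal hs' hi ho)
  exact this ⟨y, hy, rfl⟩

/-! ### `Ω₁(Z(X))`, elementary abelian subgroups of largest order -/

theorem mem_omegaCenter {R : Subgroup G} {x : G} :
    x ∈ omegaCenterOf R ↔ x ∈ R ∧ (∀ r ∈ R, r * x = x * r) ∧ x * x = 1 := by
  constructor
  · intro hx
    unfold Cfsg.omegaCenterOf Cfsg.omegaOne at hx
    induction hx using closure_induction with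
    | mem y hy =>
      obtain ⟨hy1, hy2⟩ := hy
      exact ⟨hy1.1, fun r hr => mem_centralizer_iff.1 hy1.2 r hr, by rw [← pow_two, hy2]⟩
    | one => exact ⟨one_mem _, fun r _ => by simp, one_mul 1⟩
    | mul a b _ _ ha hb =>
      refine ⟨mul_mem ha.1 hb.1,
        fun r hr => ((show Commute r a from ha.2.1 r hr).mul_right (hb.2.1 r hr)).eq, ?_⟩
      calc a * b * (a * b) = a * (b * a) * b := by group
        _ = a * (a * b) * b := by rw [(ha.2.1 b hb.1)]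
        _ = a * a * (b * b) := by group
        _ = 1 := by rw [ha.2.2, hb.2.2, one_mul]
    | inv a _ ha => rw [inv_eq_of_mul_eq_one_right ha.2.2]; exact ha
  · rintro ⟨h1, h2, h3⟩
    exact subset_closure ⟨⟨h1, mem_centralizer_iff.2 h2⟩, by rw [pow_two, h3]⟩

theorem exists_maxEl [Finite G] (R : Subgroup G) : ∃ A, IsMaxEl 2 R A := by
  obtain ⟨A, ⟨h1, h2⟩, h3⟩ := Set.exists_max_image
    {A : Subgroup G | A ≤ R ∧ ((∀ x ∈ A, ∀ y ∈ A, x * y = y * x) ∧ ∀ x ∈ A, x ^ 2 = 1)}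
    (fun A => Nat.card ↥A) (Set.toFinite _)
    ⟨⊥, bot_le, fun x hx y hy => by rw [mem_bot.1 hx, mem_bot.1 hy], fun x hx => by rw [mem_bot.1 hx, one_pow]⟩
  exact ⟨A, h1, h2, fun B hB hB' => h3 B ⟨hB, hB'⟩⟩

theorem maxElemAbelianOrder_eq [Finite G] {R A : Subgroup G} (hA : IsMaxEl 2 R A) :
    maxElemAbelianOrder R = Nat.card ↥A := by
  obtain ⟨hle, hmem⟩ := isMaxEl_iff.1 hA
  have hc : Nat.card ↥(A.subgroupOf R) = Nat.card ↥A := Nat.card_congr (subgroupOfEquivOfLe hle).toEquiv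
  unfold Cfsg.maxElemAbelianOrder
  refine csSup_eq_of_forall_le_of_forall_lt_exists_gt ⟨_, _, hmem, rfl⟩ ?_ fun w hw =>
    ⟨_, ⟨_, hmem, rfl⟩, lt_of_lt_of_eq hw hc.symm⟩
  rintro _ ⟨B, hB, rfl⟩
  exact (hmem.2 B hB.1).trans hc.le

theorem maxElemAbelianOrder_mono [Finite G] {R S : Subgroup G} (h : R ≤ S) :
    maxElemAbelianOrder R ≤ maxElemAbelianOrder S := by
  obtain ⟨A, hA⟩ := exists_maxEl R
  obtain ⟨B, hB⟩ := exists_maxEl S
  rw [maxElemAbelianOrder_eq hA, maxElemAbelianOrder_eq hB]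
  exact hB.2.2 A (hA.1.trans h) hA.2.1

theorem thompson_mono [Finite G] {R S : Subgroup G} (h : R ≤ S)
    (he : maxElemAbelianOrder R = maxElemAbelianOrder S) :
    thompsonSubgroupOf 2 R ≤ thompsonSubgroupOf 2 S := by
  refine thompsonEl_le_of fun A hA => IsMaxEl.le_thompsonEl ⟨hA.1.trans h, hA.2.1, fun B hB hB' => ?_⟩
  obtain ⟨C, hC⟩ := exists_maxEl S
  rw [← maxElemAbelianOrder_eq hA, he, maxElemAbelianOrder_eq hC]
  exact hC.2.2 B hB hB'

theorem maxElemAbelianOrder_thompson [Finite G] {R S : Subgroup G} (h1 : thompsonSubgroupOf 2 R ≤ S)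
    (h2 : S ≤ R) : maxElemAbelianOrder S = maxElemAbelianOrder R := by
  refine le_antisymm (maxElemAbelianOrder_mono h2) ?_
  obtain ⟨A, hA⟩ := exists_maxEl R
  obtain ⟨B, hB⟩ := exists_maxEl S
  rw [maxElemAbelianOrder_eq hA, maxElemAbelianOrder_eq hB]
  exact hB.2.2 A (hA.le_thompsonEl.trans h1) hA.2.1

theorem thompson_eq_of_between [Finite G] {R S : Subgroup G} (h1 : thompsonSubgroupOf 2 R ≤ S)
    (h2 : S ≤ R) : thompsonSubgroupOf 2 S = thompsonSubgroupOf 2 R := by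
  have he := maxElemAbelianOrder_thompson h1 h2
  refine le_antisymm (thompson_mono h2 he) (thompsonEl_le_of fun A hA =>
    IsMaxEl.le_thompsonEl ⟨hA.le_thompsonEl.trans h1, hA.2.1, fun B hB hB' => hA.2.2 B (hB.trans h2) hB'⟩)

theorem thompson_map [Finite G] {G' : Type*} [Group G'] (f : G →* G') (hf : Function.Injective f)
    (R : Subgroup G) :
    thompsonSubgroupOf 2 (R.map f) = (thompsonSubgroupOf 2 R).map f :=
  (thompsonEl_map f fun x _ hx => hf (hx.trans (map_one f).symm)).symm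

theorem maxElemAbelianOrder_map [Finite G] {G' : Type*} [Group G'] [Finite G'] (f : G →* G')
    (hf : Function.Injective f) (R : Subgroup G) :
    maxElemAbelianOrder (R.map f) = maxElemAbelianOrder R := by
  obtain ⟨A, hA⟩ := exists_maxEl R
  rw [maxElemAbelianOrder_eq hA, maxElemAbelianOrder_eq (hA.map f fun x _ hx => hf (hx.trans (map_one f).symm)),
    card_map_of_injective hf]

theorem map_conj_conj (a b : G) (H : Subgroup G) :
    (H.map (MulAut.conj b).toMonoidHom).map (MulAut.conj a).toMonoidHom =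
      H.map (MulAut.conj (a * b)).toMonoidHom := by
  rw [map_map]
  congr 1
  ext x
  simp [mul_assoc]

theorem map_conj_one (H : Subgroup G) : H.map (MulAut.conj (1 : G)).toMonoidHom = H := by
  ext x; simp

theorem map_conj_eq_self [Finite G] {H : Subgroup G} {g : G} (hg : g ∈ normalizer (H : Set G)) :
    H.map (MulAut.conj g).toMonoidHom = H := by
  ext x
  constructor
  · rintro ⟨y, hy, rfl⟩
    exact (mem_normalizer_iff.1 hg y).1 hy
  · intro hx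
    exact ⟨g⁻¹ * x * g, (mem_normalizer_iff''.1 hg x).1 hx, by simp [mul_assoc]⟩

theorem mem_normalizer_of_map_eq {H : Subgroup G} {g : G} (h : H.map (MulAut.conj g).toMonoidHom = H) :
    g ∈ normalizer (H : Set G) := by
  refine mem_normalizer_iff.2 fun x => ⟨fun hx => h ▸ ⟨x, hx, rfl⟩, fun hx => ?_⟩
  rw [← h] at hx
  obtain ⟨y, hy, e⟩ := hx
  have : y = x := mul_left_cancel (mul_right_cancel (show g * y * g⁻¹ = g * x * g⁻¹ from e))
  exact this ▸ hy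

/-! ### Conjugation of components -/

section
variable {G' : Type*} [Group G'] (f : G →* G')

theorem pCoreOf_map (hf : Function.Injective f) (K : Subgroup G) :
    pCoreOf 2 (K.map f) = (pCoreOf 2 K).map f := by
  let e : ↥K ≃* ↥(K.map f) := equivMapOfInjective K f hf
  have h : pCore 2 ↥(K.map f) = (pCore 2 ↥K).map e.toMonoidHom := by
    unfold Cfsg.pCore
    refine le_antisymm (sSup_le ?_) (map_le_iff_le_comap.2 (sSup_le ?_))
    · rintro N ⟨hN, hNp⟩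
      have h1 : N.comap e.toMonoidHom ≤ sSup {N : Subgroup ↥K | N.Normal ∧ IsPGroup 2 ↥N} :=
        le_sSup ⟨hN.comap _, hNp.comap_of_injective _ e.injective⟩
      intro x hx
      exact ⟨e.symm x, h1 (show e (e.symm x) ∈ N by rwa [MulEquiv.apply_symm_apply]), by simp⟩
    · rintro N ⟨hN, hNp⟩
      exact map_le_iff_le_comap.1 (le_sSup ⟨hN.map _ e.surjective, hNp.map _⟩)
  unfold Cfsg.pCoreOf
  rw [h, map_map, map_map]
  rfl

theorem omegaCenter_map (hf : Function.Injective f) (K : Subgroup G) :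
    omegaCenterOf (K.map f) = (omegaCenterOf K).map f := by
  ext x
  rw [mem_omegaCenter, mem_map]
  constructor
  · rintro ⟨⟨y, hy, rfl⟩, h1, h2⟩
    exact ⟨y, mem_omegaCenter.2 ⟨hy, fun r hr => hf (by
      rw [map_mul, map_mul]; exact h1 _ ⟨r, hr, rfl⟩), hf (by rw [map_mul, h2, map_one])⟩, rfl⟩
  · rintro ⟨y, hy, rfl⟩
    obtain ⟨h0, h1, h2⟩ := mem_omegaCenter.1 hy
    refine ⟨⟨y, h0, rfl⟩, ?_, by rw [← map_mul, h2, map_one]⟩
    rintro _ ⟨r, hr, rfl⟩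
    rw [← map_mul, h1 r hr, map_mul]

theorem wOf_map (hf : Function.Injective f) (K : Subgroup G) : wOf (K.map f) = (wOf K).map f := by
  unfold Cfsg.wOf
  rw [pCoreOf_map f hf, omegaCenter_map f hf, map_commutator]

theorem isSylowTwoIn_map (hf : Function.Injective f) {T L : Subgroup G} (h : IsSylowTwoIn T L) :
    IsSylowTwoIn (T.map f) (L.map f) :=
  ⟨map_mono h.1, h.2.1.map f, by rw [relIndex_map_map_of_injective T L hf]; exact h.2.2⟩

end

theorem isJComponent_congr {T T' K : Subgroup G}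
    (h : thompsonSubgroupOf 2 T = thompsonSubgroupOf 2 T') (hK : IsJComponent T K) :
    IsJComponent T' K := by
  obtain ⟨h1, h2, h3, h4, h5, h6⟩ := hK
  exact ⟨h1, h ▸ h2, h3, h ▸ h4, h5, h6⟩

theorem jComponentsZero_congr {T T' K : Subgroup G}
    (h : thompsonSubgroupOf 2 T = thompsonSubgroupOf 2 T') (hK : K ∈ jComponentsZero T) :
    K ∈ jComponentsZero T' :=
  ⟨isJComponent_congr h hK.1, h ▸ hK.2⟩

theorem isJComponent_map_conj [Finite G] {T K : Subgroup G} (g : G) (hK : IsJComponent T K) :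
    IsJComponent (T.map (MulAut.conj g).toMonoidHom) (K.map (MulAut.conj g).toMonoidHom) := by
  obtain ⟨h1, h2, h3, h4, h5, h6⟩ := hK
  have hf : Function.Injective (MulAut.conj g).toMonoidHom := (MulAut.conj g).injective
  refine ⟨?_, ?_, ?_, ?_, ?_, ?_⟩
  · refine le_antisymm ((closure_le _).2 fun x hx => hx.1) ?_
    conv_lhs => rw [← h1]
    rw [MonoidHom.map_closure]
    refine closure_mono ?_
    rintro _ ⟨x, ⟨hx, hxo⟩, rfl⟩
    exact ⟨⟨x, hx, rfl⟩, odd_orderOf_conj hxo⟩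
  · rw [thompson_map _ hf, ← map_commutator, h2]
  · rw [pCoreOf_map _ hf, relIndex_map_map_of_injective _ _ hf, h3]
  · intro S hS hJS
    rw [thompson_map _ hf] at hJS ⊢
    have hS' : IsSylowTwoIn (S.map (MulAut.conj g⁻¹).toMonoidHom) (K ⊔ thompsonSubgroupOf 2 T) := by
      have := isSylowTwoIn_map (MulAut.conj g⁻¹).toMonoidHom (MulAut.conj g⁻¹).injective hS
      rw [thompson_map _ hf, ← Subgroup.map_sup, map_conj_conj, inv_mul_cancel, map_conj_one] at this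
      exact this
    have hJ' : thompsonSubgroupOf 2 T ≤ S.map (MulAut.conj g⁻¹).toMonoidHom := fun x hx =>
      ⟨g * x * g⁻¹, hJS ⟨x, hx, rfl⟩, by simp [mul_assoc]⟩
    have := congrArg (Subgroup.map (MulAut.conj g).toMonoidHom) (h4 _ hS' hJ')
    rwa [← thompson_map _ hf, map_conj_conj, mul_inv_cancel, map_conj_one] at this
  · rw [wOf_map _ hf, card_map_of_injective hf, h5]
  · rw [wOf_map _ hf]
    rintro _ ⟨w, hw, rfl⟩
    rw [← map_mul, h6 w hw, map_one]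

end Cfsg.Agent.Invol.JComp
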