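import Mathlib
import Cfsg.Prelude.Def_Transfer
import Cfsg.Prelude.Def_TwoFusion
import Cfsg.Agent.Lib.Invol.Sylow

/-!
# Weakly and strongly closed subgroups
-/

namespace Cfsg.Agent.Invol

variable {G : Type*} [Group G]

theorem map_conj_map_conj (A : Subgroup G) (a b : G) :
    (A.map (MulAut.conj a).toMonoidHom).map (MulAut.conj b).toMonoidHom =
      A.map (MulAut.conj (b * a)).toMonoidHom := by
  rw [Subgroup.map_map, map_mul]
  rfl

theorem map_conj_one (A : Subgroup G) : A.map (MulAut.conj (1 : G)).toMonoidHom = A := by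
  rw [map_one]
  exact Subgroup.map_id A

theorem mem_map_conj {A : Subgroup G} {g x : G} :
    x ∈ A.map (MulAut.conj g).toMonoidHom ↔ g⁻¹ * x * g ∈ A := by
  simp only [Subgroup.mem_map, MulEquiv.coe_toMonoidHom, MulAut.conj_apply]
  exact ⟨by rintro ⟨y, hy, rfl⟩; simpa [mul_assoc] using hy, fun h => ⟨_, h, by group⟩⟩

theorem conj_mem_map_conj {A : Subgroup G} {g x : G} (hx : x ∈ A) :
    g * x * g⁻¹ ∈ A.map (MulAut.conj g).toMonoidHom :=
  Subgroup.mem_map.mpr ⟨x, hx, rfl⟩

theorem mem_normalizer_of_map_eq {A : Subgroup G} {g : G}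
    (h : A.map (MulAut.conj g).toMonoidHom = A) : g ∈ Subgroup.normalizer (A : Set G) := by
  rw [Subgroup.mem_normalizer_iff]
  intro x
  conv_rhs => rw [← h, mem_map_conj]
  simp [mul_assoc]

variable [Finite G] {p : ℕ} [Fact p.Prime]

/-- Two conjugates of a weakly closed subgroup generating a `p`-group are equal. -/
theorem weaklyClosed_eq {T : Sylow p G} {W : Subgroup G}
    (hW : Cfsg.IsWeaklyClosed W (T : Subgroup G)) {Q : Subgroup G} (hQ : IsPGroup p Q) {a b : G}
    (ha : W.map (MulAut.conj a).toMonoidHom ≤ Q) (hb : W.map (MulAut.conj b).toMonoidHom ≤ Q) :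
    W.map (MulAut.conj a).toMonoidHom = W.map (MulAut.conj b).toMonoidHom := by
  obtain ⟨h, hh⟩ := exists_conj_subset_sylow hQ T
  have key : ∀ c : G, W.map (MulAut.conj c).toMonoidHom ≤ Q →
      W.map (MulAut.conj (h * c)).toMonoidHom = W := by
    intro c hc
    refine hW.2 _ ?_
    rw [← map_conj_map_conj]
    rintro x ⟨y, hy, rfl⟩
    exact hh y (hc hy)
  apply Subgroup.map_injective (f := (MulAut.conj h).toMonoidHom) (MulAut.conj h).injective
  rw [map_conj_map_conj, map_conj_map_conj, key a ha, key b hb]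

theorem weaklyClosed_eq_self {T : Sylow p G} {W : Subgroup G}
    (hW : Cfsg.IsWeaklyClosed W (T : Subgroup G)) {Q : Subgroup G} (hQ : IsPGroup p Q) {a : G}
    (h1 : W ≤ Q) (ha : W.map (MulAut.conj a).toMonoidHom ≤ Q) :
    W.map (MulAut.conj a).toMonoidHom = W := by
  have := weaklyClosed_eq hW hQ ha (b := 1) (by rwa [map_conj_one])
  rwa [map_conj_one] at this

theorem weaklyClosed_isPGroup {T : Sylow p G} {W : Subgroup G}
    (hW : Cfsg.IsWeaklyClosed W (T : Subgroup G)) : IsPGroup p W :=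
  T.isPGroup'.to_le hW.1

omit [Finite G] [Fact p.Prime] in
theorem not_dvd_relIndex_of_le {A B N : Subgroup G} (hAB : A ≤ B) (hBN : B ≤ N)
    (h : ¬ p ∣ A.relIndex N) : ¬ p ∣ B.relIndex N :=
  fun hd => h (hd.trans ⟨A.relIndex B, by rw [← Subgroup.relIndex_mul_relIndex A B N hAB hBN, mul_comm]⟩)

theorem eq_of_le_of_not_dvd_relIndex {A B N : Subgroup G} (hAB : A ≤ B) (hBN : B ≤ N)
    (hB : IsPGroup p B) (h : ¬ p ∣ A.relIndex N) : A = B := by
  have : A.relIndex B = 1 := by
    obtain ⟨k, hk⟩ := hB.exists_card_eq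
    refine Nat.eq_one_of_dvd_coprimes (k := A.relIndex B)
      (((Fact.out : p.Prime).coprime_iff_not_dvd.mpr h).pow_left k) (hk ▸ Subgroup.relIndex_dvd_card A B) ?_
    exact ⟨B.relIndex N, (Subgroup.relIndex_mul_relIndex A B N hAB hBN).symm⟩
  exact le_antisymm hAB (Subgroup.relIndex_eq_one.mp this)

end Cfsg.Agent.Invol
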