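import Mathlib
import Cfsg.Prelude.Def_EvenType
import Cfsg.Agent.Lib.Fus.SPE
import Cfsg.Agent.Lib.Invol.Closed

/-!
# Strongly `p`-embedded subgroups: the classical description
-/

namespace Cfsg.Agent.Invol

variable {G : Type*} [Group G] [Finite G] {p : ℕ} [Fact p.Prime]

theorem exists_orderOf_prime_mem {H : Subgroup G} (h : p ∣ Nat.card H) :
    ∃ z ∈ H, orderOf z = p := by
  obtain ⟨z, hz⟩ := exists_prime_orderOf_dvd_card' (G := H) p h
  exact ⟨z, z.2, by rwa [Subgroup.orderOf_coe]⟩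

omit [Finite G] in
theorem dvd_card_of_mem {H : Subgroup G} {z : G} (hz : orderOf z = p) (hzH : z ∈ H) :
    p ∣ Nat.card H := by
  rw [← hz, ← Subgroup.orderOf_mk z hzH]
  exact orderOf_dvd_natCard _

/-- If no conjugate of `Y` by an element outside `Y` meets `Y` in an element of order `p`, then
`Y` contains every `p`-subgroup meeting it nontrivially. -/
theorem pGroup_le_of_classical {Y : Subgroup G}
    (hY : ∀ g : G, g ∉ Y → ¬ p ∣ Nat.card ↥(Y ⊓ Y.map (MulAut.conj g).toMonoidHom))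
    {Q : Subgroup G} (hQ : IsPGroup p Q) {z : G} (hz : orderOf z = p) (hzQ : z ∈ Q) (hzY : z ∈ Y) :
    Q ≤ Y := by
  set R := Y.subgroupOf Q with hR
  suffices h : R = ⊤ by rwa [hR, Subgroup.subgroupOf_eq_top] at h
  by_contra hne
  have := hQ.isNilpotent
  obtain ⟨n, hn, hnR⟩ := SetLike.exists_of_lt
    (Group.normalizerCondition_of_isNilpotent R (lt_top_iff_ne_top.mpr hne))
  refine hY n (fun h => hnR h) (dvd_card_of_mem hz (Subgroup.mem_inf.mpr ⟨hzY, mem_map_conj.mpr ?_⟩))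
  exact (Subgroup.mem_normalizer_iff''.mp hn ⟨z, hzQ⟩).mp hzY

theorem isStronglyPEmbedded_iff {Y : Subgroup G} :
    Cfsg.IsStronglyPEmbedded p Y ↔ p ∣ Nat.card Y ∧ Y ≠ ⊤ ∧
      ∀ g : G, g ∉ Y → ¬ p ∣ Nat.card ↥(Y ⊓ Y.map (MulAut.conj g).toMonoidHom) := by
  constructor
  · rintro ⟨hd, hne, P, hP⟩
    have hPne : (P : Subgroup G) ≠ ⊥ := P.ne_bot_of_dvd_card hd
    have hPY : (P : Subgroup G) ≤ Y :=
      Subgroup.le_normalizer.trans (Fus.normalizer_le_of_kGeneratedCore P.isPGroup' hP le_rfl hPne)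
    refine ⟨(P.dvd_card_of_dvd_card hd).trans (Subgroup.card_dvd_of_le hPY), hne, fun g hg hdvd => ?_⟩
    obtain ⟨z, hzI, hz⟩ := exists_orderOf_prime_mem hdvd
    obtain ⟨hzY, hzg⟩ := Subgroup.mem_inf.mp hzI
    rw [mem_map_conj] at hzg
    obtain ⟨a, ha⟩ := exists_conj_mem_sylow (x := (⟨z, hzY⟩ : Y)) (n := 1)
      (by rw [Subgroup.orderOf_mk, hz, pow_one]) (P.subtype hPY)
    obtain ⟨b, hb⟩ := exists_conj_mem_sylow (x := (⟨g⁻¹ * z * g, hzg⟩ : Y)) (n := 1)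
      (by rw [Subgroup.orderOf_mk, pow_one, ← hz, ← orderOf_conj_eq g⁻¹ z, inv_inv]) (P.subtype hPY)
    have hmem := Fus.mem_of_conj_le_sylow P hP
      (R := Subgroup.zpowers ((a : G) * z * (a : G)⁻¹)) (β := (b : G) * g⁻¹ * (a : G)⁻¹)
      (Subgroup.zpowers_le.mpr ha) ?_ ?_
    · have := mul_mem (mul_mem (inv_mem b.2) hmem) a.2
      simp only [mul_assoc, inv_mul_cancel_left, inv_mul_cancel, mul_one] at this
      exact hg (inv_mem_iff.mp this)
    · rw [ne_eq, Subgroup.zpowers_eq_bot, ← orderOf_eq_one_iff, orderOf_conj_eq, hz]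
      exact (Fact.out : p.Prime).ne_one
    · rw [MonoidHom.map_zpowers, Subgroup.zpowers_le]
      have hb' : (b : G) * (g⁻¹ * z * g) * (b : G)⁻¹ ∈ (P : Subgroup G) := hb
      simpa [mul_assoc] using hb'
  · rintro ⟨hd, hne, hY⟩
    obtain ⟨z, hzY, hz⟩ := exists_orderOf_prime_mem hd
    obtain ⟨P, hP⟩ := (isPGroup_zpowers (n := 1) (by rw [hz, pow_one])).exists_le_sylow (P := Subgroup.zpowers z)
    have hzP : z ∈ (P : Subgroup G) := hP (Subgroup.mem_zpowers z)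
    have hPY : (P : Subgroup G) ≤ Y := pGroup_le_of_classical hY P.isPGroup' hz hzP hzY
    refine ⟨hd.trans (Subgroup.card_subgroup_dvd_card Y), hne, P,
      Fus.kGeneratedCore_one_le fun Q hQ hQne g hg => ?_⟩
    by_contra hgY
    obtain ⟨k, hk⟩ := (P.isPGroup'.to_le hQ).exists_card_eq
    have hk0 : k ≠ 0 := by
      rintro rfl
      exact hQne (Subgroup.card_eq_one.mp (by simpa using hk))
    obtain ⟨w, hwQ, hw⟩ := exists_orderOf_prime_mem (H := Q) (hk ▸ dvd_pow_self p hk0)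
    refine hY g hgY (dvd_card_of_mem hw (Subgroup.mem_inf.mpr ⟨hPY (hQ hwQ), mem_map_conj.mpr ?_⟩))
    exact hPY (hQ ((Subgroup.mem_normalizer_iff''.mp hg w).mp hwQ))

/-- A strongly `p`-embedded subgroup contains a Sylow `p`-subgroup. -/
theorem exists_sylow_le_of_classical {Y : Subgroup G} (hd : p ∣ Nat.card Y)
    (hY : ∀ g : G, g ∉ Y → ¬ p ∣ Nat.card ↥(Y ⊓ Y.map (MulAut.conj g).toMonoidHom)) :
    ∃ P : Sylow p G, (P : Subgroup G) ≤ Y := by
  obtain ⟨z, hzY, hz⟩ := exists_orderOf_prime_mem hd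
  obtain ⟨P, hP⟩ := (isPGroup_zpowers (n := 1) (by rw [hz, pow_one])).exists_le_sylow (P := Subgroup.zpowers z)
  exact ⟨P, pGroup_le_of_classical hY P.isPGroup' hz (hP (Subgroup.mem_zpowers z)) hzY⟩

end Cfsg.Agent.Invol
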