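import Cfsg.Agent.Lib.Invol.RegularProducts
import Cfsg.Agent.Lib.Grp.PSolvable

/-!
Two elements of order `p` generating a `p`-soluble group, when Sylow `p`-subgroups are cyclic.
-/

set_option autoImplicit false
set_option linter.unusedSectionVars false
set_option linter.style.haveILetI false

namespace Cfsg.Agent.Invol.CyclicPairs

open Cfsg

universe u

variable {G : Type u} [Group G] [Finite G] {p : ℕ} [Fact p.Prime]

/-- The quotient by the `p'`-core has trivial `p'`-core. -/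
theorem core_quotient (H : Type u) [Group H] [Finite H] [(pPrimeCore p H).Normal] :
    pPrimeCore p (H ⧸ pPrimeCore p H) = ⊥ := by
  set π := QuotientGroup.mk' (pPrimeCore p H)
  have hπs : Function.Surjective π := QuotientGroup.mk'_surjective _
  haveI hn' : (pPrimeCore p (H ⧸ pPrimeCore p H)).Normal := Grp.pPrimeCore_isNormal
  have hle : (pPrimeCore p (H ⧸ pPrimeCore p H)).comap π ≤ pPrimeCore p H := by
    refine Grp.le_pPrimeCore (hn'.comap π) ?_
    refine ((Fact.out : p.Prime).coprime_iff_not_dvd.2 fun hd => ?_).symm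
    obtain ⟨w, hw⟩ := exists_prime_orderOf_dvd_card' p hd
    have hw' : orderOf (π (w : H)) ∣ Nat.card (pPrimeCore p (H ⧸ pPrimeCore p H)) := by
      rw [← Subgroup.orderOf_mk (π (w : H)) (Subgroup.mem_comap.1 w.2)]; exact orderOf_dvd_natCard _
    have hwd : orderOf (π (w : H)) ∣ p :=
      (orderOf_map_dvd π (w : H)).trans (dvd_of_eq ((Subgroup.orderOf_coe w).trans hw))
    rcases (Nat.dvd_prime (Fact.out : p.Prime)).1 hwd with h | h
    · have hmem : (w : H) ∈ pPrimeCore p H := (QuotientGroup.eq_one_iff _).1 (orderOf_eq_one_iff.1 h)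
      refine Grp.pPrimeCore_not_dvd (p := p) (G := H) ?_
      refine (dvd_of_eq ?_).trans (orderOf_dvd_natCard (⟨(w : H), hmem⟩ : pPrimeCore p H))
      rw [Subgroup.orderOf_mk, Subgroup.orderOf_coe, hw]
    · exact Grp.pPrimeCore_not_dvd (p := p) (G := H ⧸ pPrimeCore p H)
        ((dvd_of_eq h.symm).trans hw')
  rw [eq_bot_iff]
  intro a ha
  obtain ⟨b, rfl⟩ := hπs a
  rw [Subgroup.mem_bot]
  exact (QuotientGroup.eq_one_iff b).2 (hle ha)

/-- The image of two such elements. -/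
theorem pair_facts {H : Type u} [Group H] [Finite H] (hH : IsPSolvable p H)
    (hcyc : ∀ P : Sylow p H, IsCyclic (P : Subgroup H)) {x z : H} (hgen : Subgroup.closure ({x, z} : Set H) = ⊤)
    (hx : orderOf x = p) (hz : orderOf z = p) :
    ∃ k₀, 1 ≤ k₀ ∧ k₀ < p ∧ IsConj x (z ^ k₀)⁻¹ ∧
      (∀ k, k < p → (¬ p ∣ orderOf (x * z ^ k) ↔ k = k₀)) ∧
      ∀ w : H, (∃ j : ℕ, orderOf w = p ^ j) → w ^ p = 1 := by
  classical
  have hp : p.Prime := Fact.out
  haveI hN : (pPrimeCore p H).Normal := Grp.pPrimeCore_isNormal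
  set π := QuotientGroup.mk' (pPrimeCore p H) with hπ
  have hπs : Function.Surjective π := QuotientGroup.mk'_surjective _
  have hC := Grp.centralizer_pCore_le_of_pSolvable (Grp.isPSolvable_map hH π hπs) (core_quotient H)
  haveI : (pCore p (H ⧸ pPrimeCore p H)).Normal := Grp.pCore_isNormal
  have hker : ∀ a : H, π a = 1 → ¬ p ∣ orderOf a := fun a ha hd => by
    refine Grp.pPrimeCore_not_dvd (p := p) (G := H) ?_
    have hmem : a ∈ pPrimeCore p H := (QuotientGroup.eq_one_iff a).1 ha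
    refine hd.trans ((dvd_of_eq ?_).trans (orderOf_dvd_natCard (⟨a, hmem⟩ : pPrimeCore p H)))
    rw [Subgroup.orderOf_mk]
  have hpe : ∀ w : H, (∃ j : ℕ, orderOf w = p ^ j) → π w ∈ pCore p (H ⧸ pPrimeCore p H) := by
    rintro w ⟨j, hw⟩
    obtain ⟨P, hP⟩ := (IsPGroup.of_card (n := j) (by rw [Nat.card_zpowers, hw]) :
      IsPGroup p (Subgroup.zpowers w)).exists_le_sylow
    haveI := hcyc P
    letI := IsCyclic.commGroup (α := (P : Subgroup H))
    have hle : pCore p (H ⧸ pPrimeCore p H) ≤ (P : Subgroup H).map π := by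
      have := (P.mapSurjective hπs).3
        ((P.mapSurjective hπs).2.to_sup_of_normal_right (Grp.pCore_isPGroup
          (p := p) (G := H ⧸ pPrimeCore p H))) le_sup_left
      rw [Sylow.coe_mapSurjective] at this
      exact le_sup_right.trans this.le
    refine hC (Subgroup.mem_centralizer_iff.2 fun c hc => ?_)
    obtain ⟨c', hc', rfl⟩ := Subgroup.mem_map.1 (hle hc)
    rw [← map_mul, ← map_mul]
    exact congrArg π (congrArg Subtype.val (mul_comm (⟨c', hc'⟩ : (P : Subgroup H))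
      ⟨w, hP (Subgroup.mem_zpowers w)⟩))
  obtain ⟨P, hP⟩ := (IsPGroup.of_card (n := 1) (by rw [Nat.card_zpowers, hx, pow_one]) :
    IsPGroup p (Subgroup.zpowers x)).exists_le_sylow
  haveI := hcyc P
  have hπx : orderOf (π x) = p := by
    refine ((Nat.dvd_prime hp).1 ((orderOf_map_dvd π x).trans (dvd_of_eq hx))).resolve_left fun h => ?_
    exact hker x (orderOf_eq_one_iff.1 h) (hx ▸ dvd_rfl)
  have hRle : pCore p (H ⧸ pPrimeCore p H) ≤ (P : Subgroup H).map π := by
    have := (P.mapSurjective hπs).3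
      ((P.mapSurjective hπs).2.to_sup_of_normal_right (Grp.pCore_isPGroup
        (p := p) (G := H ⧸ pPrimeCore p H))) le_sup_left
    rw [Sylow.coe_mapSurjective] at this
    exact le_sup_right.trans this.le
  -- the image is cyclic of order `p`
  have hzx : π z ∈ Subgroup.zpowers (π x) := by
    haveI : IsCyclic ((P : Subgroup H).map π) :=
      isCyclic_of_surjective _ (MonoidHom.subgroupMap_surjective π (P : Subgroup H))
    cases nonempty_fintype ((P : Subgroup H).map π)
    set a : (P : Subgroup H).map π := ⟨π x, hRle (hpe x ⟨1, by rw [hx, pow_one]⟩)⟩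
    set b : (P : Subgroup H).map π := ⟨π z, hRle (hpe z ⟨1, by rw [hz, pow_one]⟩)⟩
    have ha : orderOf a = p := by rw [← Subgroup.orderOf_coe]; exact hπx
    have hb : b ^ p = 1 := by
      apply Subtype.ext
      show π z ^ p = 1
      rw [← map_pow, show z ^ p = 1 from orderOf_dvd_iff_pow_eq_one.1 (dvd_of_eq hz), map_one]
    have hsub : (Finset.univ.filter (fun c => c ∈ Subgroup.zpowers a)) ⊆
        Finset.univ.filter (fun c : (P : Subgroup H).map π => c ^ p = 1) := fun c hc => by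
      simp only [Finset.mem_filter, Finset.mem_univ, true_and] at hc ⊢
      exact orderOf_dvd_iff_pow_eq_one.1 ((orderOf_dvd_of_mem_zpowers hc).trans (dvd_of_eq ha))
    have heq := Finset.eq_of_subset_of_card_le hsub (le_trans
      (IsCyclic.card_pow_eq_one_le hp.pos) (le_of_eq (ha.symm.trans (by
        rw [← Nat.card_zpowers, Nat.card_eq_fintype_card, ← Fintype.card_subtype]))))
    have hbm : b ∈ Finset.univ.filter (fun c => c ∈ Subgroup.zpowers a) := by
      rw [heq]; simp [hb]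
    obtain ⟨i, hi⟩ := Subgroup.mem_zpowers_iff.1 (Finset.mem_filter.1 hbm).2
    refine Subgroup.mem_zpowers_iff.2 ⟨i, ?_⟩
    exact congrArg Subtype.val hi
  have htop : ∀ w : H, π w ∈ Subgroup.zpowers (π x) := by
    have h1 : (⊤ : Subgroup H) ≤ (Subgroup.zpowers (π x)).comap π := by
      rw [← hgen, Subgroup.closure_le]
      rintro w (rfl | rfl)
      · exact Subgroup.mem_zpowers _
      · exact hzx
    exact fun w => h1 (Subgroup.mem_top w)
  have hexp : ∀ w : H, π w ^ p = 1 := fun w =>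
    orderOf_dvd_iff_pow_eq_one.1 ((orderOf_dvd_of_mem_zpowers (htop w)).trans (dvd_of_eq hπx))
  have hreg : ∀ w : H, ¬ p ∣ orderOf w ↔ π w = 1 := fun w => by
    refine ⟨fun h => ?_, hker w⟩
    rw [← orderOf_eq_one_iff]
    exact Nat.eq_one_of_dvd_coprimes (a := orderOf w) (b := p)
      (hp.coprime_iff_not_dvd.2 h).symm (orderOf_map_dvd π w) (orderOf_dvd_of_pow_eq_one (hexp w))
  have hπz : π z ≠ 1 := fun h => (hreg z).2 h (hz ▸ dvd_rfl)
  have hπzo : orderOf (π z) = p :=
    ((Nat.dvd_prime hp).1 (orderOf_dvd_of_pow_eq_one (hexp z))).resolve_left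
      fun h => hπz (orderOf_eq_one_iff.1 h)
  obtain ⟨k₀, hk₀p, hk₀⟩ : ∃ k, k < p ∧ π x * π z ^ k = 1 := by
    have hmem : (π x)⁻¹ ∈ Subgroup.zpowers (π z) := by
      have heq : Subgroup.zpowers (π z) = Subgroup.zpowers (π x) :=
        Subgroup.eq_of_le_of_card_ge (Subgroup.zpowers_le.2 hzx)
          (by rw [Nat.card_zpowers, Nat.card_zpowers, hπx, hπzo])
      rw [heq]
      exact inv_mem (Subgroup.mem_zpowers _)
    obtain ⟨k, hk⟩ := (mem_powers_iff_mem_zpowers (G := H ⧸ pPrimeCore p H)).2 hmem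
    refine ⟨k % p, Nat.mod_lt _ hp.pos, ?_⟩
    have hmod : π z ^ (k % p) = π z ^ k := by
      have := pow_mod_orderOf (π z) k
      rwa [hπzo] at this
    rw [hmod]
    exact (congrArg (π x * ·) hk).trans (mul_inv_cancel _)
  have hk₀1 : 1 ≤ k₀ := by
    by_contra h
    rw [show k₀ = 0 by omega, pow_zero, mul_one] at hk₀
    exact (hreg x).2 hk₀ (hx ▸ dvd_rfl)
  refine ⟨k₀, hk₀1, hk₀p, ?_, fun k hk => ?_, fun w hw => ?_⟩
  · obtain ⟨j, hj⟩ : ∃ j : ℕ, orderOf (z ^ k₀)⁻¹ = p ^ j := by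
      rw [orderOf_inv]
      obtain ⟨j, -, hj⟩ := (Nat.dvd_prime_pow hp).1 (show orderOf (z ^ k₀) ∣ p ^ 1 by
        rw [pow_one]; exact (orderOf_pow_dvd k₀).trans (dvd_of_eq hz))
      exact ⟨j, hj⟩
    obtain ⟨Q, hQ⟩ := (IsPGroup.of_card (n := j) (by rw [Nat.card_zpowers, hj]) :
      IsPGroup p (Subgroup.zpowers (z ^ k₀)⁻¹)).exists_le_sylow
    obtain ⟨t, ht⟩ := MulAction.exists_smul_eq H Q P
    have hmem : t * (z ^ k₀)⁻¹ * t⁻¹ ∈ (P : Subgroup H) := by
      rw [← ht, Sylow.smul_def, Sylow.pointwise_smul_def]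
      exact Subgroup.mem_map_of_mem _ (hQ (Subgroup.mem_zpowers _))
    refine isConj_iff.2 ⟨t⁻¹, ?_⟩
    have heq : t * (z ^ k₀)⁻¹ * t⁻¹ = x := by
      rw [← inv_mul_eq_one]
      set w := (t * (z ^ k₀)⁻¹ * t⁻¹)⁻¹ * x with hw
      have hwP : w ∈ (P : Subgroup H) := mul_mem (inv_mem hmem) (hP (Subgroup.mem_zpowers x))
      have hπw : π w = 1 := by
        obtain ⟨a, ha⟩ := Subgroup.mem_zpowers_iff.1 (htop t)
        have hc : π t * (π z ^ k₀)⁻¹ * (π t)⁻¹ = π x := by
          rw [inv_eq_of_mul_eq_one_left hk₀, ← ha]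
          group
        rw [hw, map_mul, map_inv, map_mul, map_mul, map_inv, map_inv, map_pow, hc, inv_mul_cancel]
      obtain ⟨i, hi⟩ := P.2 ⟨w, hwP⟩
      have hi' : w ^ p ^ i = 1 := congrArg Subtype.val hi
      obtain ⟨i', -, hi''⟩ := (Nat.dvd_prime_pow hp).1 (orderOf_dvd_of_pow_eq_one hi')
      rw [← orderOf_eq_one_iff, hi'']
      by_contra h
      have := (hreg w).2 hπw
      rw [hi''] at this
      exact this (dvd_pow_self p fun h0 => h (by rw [h0, pow_zero]))
    rw [← heq]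
    group
  · rw [hreg, map_mul, map_pow]
    constructor
    · intro h
      have : π z ^ k = π z ^ k₀ := mul_left_cancel (h.trans hk₀.symm)
      rwa [pow_eq_pow_iff_modEq, hπzo, Nat.ModEq, Nat.mod_eq_of_lt hk, Nat.mod_eq_of_lt hk₀p] at this
    · rintro rfl; exact hk₀
  · obtain ⟨j, hj⟩ := hw
    by_contra hne
    obtain ⟨i, -, hi⟩ := (Nat.dvd_prime_pow hp).1 (show orderOf (w ^ p) ∣ p ^ j from
      hj ▸ orderOf_pow_dvd p)
    have h1 := (hreg (w ^ p)).2 (by rw [map_pow, hexp])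
    rw [hi] at h1
    exact h1 (dvd_pow_self p fun h0 => hne (orderOf_eq_one_iff.1 (by rw [hi, h0, pow_zero])))

/-- The same for a pair inside a group with cyclic Sylow subgroups. -/
theorem pair_in_group (S : Sylow p G) (hS : IsCyclic (S : Subgroup G))
    (hpair : ∀ x y : G, orderOf x = p → orderOf y = p →
      IsPSolvable p (Subgroup.closure ({x, y} : Set G)))
    {x z : G} (hx : orderOf x = p) (hz : orderOf z = p) :
    ∃ k₀, 1 ≤ k₀ ∧ k₀ < p ∧ IsConj x (z ^ k₀)⁻¹ ∧
      (∀ k, k < p → (¬ p ∣ orderOf (x * z ^ k) ↔ k = k₀)) ∧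
      ∀ k, ∀ w : G, IsPPart p (x * z ^ k) w → w ^ p = 1 := by
  set H := Subgroup.closure ({x, z} : Set G) with hH
  have hxH : x ∈ H := Subgroup.subset_closure (by simp)
  have hzH : z ∈ H := Subgroup.subset_closure (by simp)
  have hcyc : ∀ P : Sylow p H, IsCyclic (P : Subgroup H) := fun P => by
    obtain ⟨Q, hQ⟩ := (P.2.map H.subtype).exists_le_sylow
    haveI : IsCyclic (Q : Subgroup G) := (Sylow.equiv S Q).isCyclic.1 hS
    haveI : IsCyclic ((P : Subgroup H).map H.subtype) := Subgroup.isCyclic_of_le hQ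
    exact ((P : Subgroup H).equivMapOfInjective H.subtype H.subtype_injective).isCyclic.2 inferInstance
  have hgen : Subgroup.closure ({⟨x, hxH⟩, ⟨z, hzH⟩} : Set H) = ⊤ := by
    have h := Subgroup.closure_closure_coe_preimage (k := ({x, z} : Set G))
    have hset : ((Subtype.val : H → G) ⁻¹' ({x, z} : Set G)) = ({⟨x, hxH⟩, ⟨z, hzH⟩} : Set H) := by
      ext w; simp [Subtype.ext_iff]
    rw [← hset]
    exact h
  obtain ⟨k₀, h1, h2, hc, hk, hw⟩ := pair_facts (hpair x z hx hz) hcyc hgen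
    (by rw [Subgroup.orderOf_mk]; exact hx) (by rw [Subgroup.orderOf_mk]; exact hz)
  refine ⟨k₀, h1, h2, ?_, fun k hk' => ?_, fun k w hpw => ?_⟩
  · obtain ⟨c, hc'⟩ := isConj_iff.1 hc
    exact isConj_iff.2 ⟨c, by simpa using congrArg Subtype.val hc'⟩
  · rw [← hk k hk', ← Subgroup.orderOf_coe]
    simp
  · have hwmem : w ∈ H := (Subgroup.zpowers_le.2 (mul_mem hxH (pow_mem hzH k)))
      (Block.mem_zpowers_of_pPart hpw)
    obtain ⟨v, -, -, hwo, -⟩ := hpw
    have := hw ⟨w, hwmem⟩ (by rwa [Subgroup.orderOf_mk])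
    exact congrArg Subtype.val this

end Cfsg.Agent.Invol.CyclicPairs
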