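import Mathlib

/-!
Integral rows whose columns have constant inner products: the coherence combinatorics of the
exceptional characters.
-/

set_option autoImplicit false
set_option linter.unusedSectionVars false

namespace Cfsg.Agent.Invol.TwoValued

variable {ι O : Type*} [DecidableEq ι] [Fintype O] [DecidableEq O]
  {B : Finset ι} {d : ι → ℤ} {n : ι → O → ℤ}

/-- Two differing rows: one up, one down, of the same weight. -/
theorem diff_pair (hd : ∀ a ∈ B, 0 < d a) (horth : ∀ o, ∑ a ∈ B, d a * n a o = 0)
    (hdiff : ∀ o o', o ≠ o' → ∑ a ∈ B, (n a o - n a o') ^ 2 = 2) {i j : O} (hij : i ≠ j) :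
    ∃ a ∈ B, ∃ b ∈ B, a ≠ b ∧ n a i - n a j = 1 ∧ n b i - n b j = -1 ∧ d a = d b ∧
      ∀ c ∈ B, c ≠ a → c ≠ b → n c i = n c j := by
  have h2 := hdiff i j hij
  set S := B.filter (fun c => n c i ≠ n c j) with hS
  have hsum : ∑ c ∈ S, (n c i - n c j) ^ 2 = 2 := by
    rw [hS, Finset.sum_filter_of_ne, h2]
    intro c _ hc h
    simp [h] at hc
  have hone : ∀ c ∈ S, 1 ≤ (n c i - n c j) ^ 2 := fun c hc => by
    have : n c i - n c j ≠ 0 := sub_ne_zero.2 (Finset.mem_filter.1 hc).2
    exact (sq_pos_iff.2 this : (0 : ℤ) < (n c i - n c j) ^ 2)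
  have hd0 : ∑ c ∈ S, d c * (n c i - n c j) = 0 := by
    rw [hS, Finset.sum_filter_of_ne]
    · simp only [mul_sub, Finset.sum_sub_distrib, horth, sub_zero]
    · intro c _ hc h
      simp [h] at hc
  have hcard : S.card ≤ 2 := by
    have h := Finset.card_nsmul_le_sum S (fun c => (n c i - n c j) ^ 2) 1 hone
    simp only [nsmul_eq_mul, mul_one] at h
    omega
  have hcard2 : S.card = 2 := by
    rcases Nat.lt_or_ge S.card 2 with h | h
    · rcases Nat.lt_or_ge S.card 1 with h0 | h0
      · rw [Nat.lt_one_iff, Finset.card_eq_zero] at h0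
        simp [h0] at hsum
      · obtain ⟨a, ha⟩ := Finset.card_eq_one.1 (show S.card = 1 by omega)
        rw [ha, Finset.sum_singleton] at hd0
        have haS : a ∈ S := by rw [ha]; exact Finset.mem_singleton_self a
        rcases mul_eq_zero.1 hd0 with h1 | h1
        · exact absurd h1 (hd a (Finset.mem_filter.1 haS).1).ne'
        · exact absurd (sub_eq_zero.1 h1) (Finset.mem_filter.1 haS).2
    · omega
  obtain ⟨a, b, hab, hSab⟩ := Finset.card_eq_two.1 hcard2
  have haS : a ∈ S := by rw [hSab]; simp
  have hbS : b ∈ S := by rw [hSab]; simp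
  rw [hSab, Finset.sum_pair hab] at hsum hd0
  have ha2 : (n a i - n a j) ^ 2 = 1 := by have := hone a haS; have := hone b hbS; omega
  have hb2 : (n b i - n b j) ^ 2 = 1 := by omega
  have haB := (Finset.mem_filter.1 haS).1
  have hbB := (Finset.mem_filter.1 hbS).1
  have hrest : ∀ c ∈ B, c ≠ a → c ≠ b → n c i = n c j := by
    intro c hc hca hcb
    by_contra h
    have : c ∈ S := Finset.mem_filter.2 ⟨hc, h⟩
    rw [hSab] at this
    simp at this
    tauto
  have hap := hd a haB
  have hbp := hd b hbB
  rcases sq_eq_one_iff.1 ha2 with ha | ha <;> rcases sq_eq_one_iff.1 hb2 with hb | hb <;>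
    rw [ha, hb] at hd0
  · omega
  · exact ⟨a, haB, b, hbB, hab, ha, hb, by omega, hrest⟩
  · exact ⟨b, hbB, a, haB, hab.symm, hb, ha, by omega, fun c hc h1 h2 => hrest c hc h2 h1⟩
  · omega

section

variable (hd : ∀ a ∈ B, 0 < d a) (horth : ∀ o, ∑ a ∈ B, d a * n a o = 0)
  (hdiff : ∀ o o', o ≠ o' → ∑ a ∈ B, (n a o - n a o') ^ 2 = 2)

include hd horth hdiff

/-- The values of a row differ by at most one. -/
theorem diff_le {a : ι} (ha : a ∈ B) (i j : O) : n a i - n a j ≤ 1 := by
  rcases eq_or_ne i j with rfl | hij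
  · simp
  obtain ⟨b, -, c, -, -, hb, hc, -, hrest⟩ := diff_pair hd horth hdiff hij
  by_cases h1 : a = b
  · subst h1; omega
  by_cases h2 : a = c
  · subst h2; omega
  rw [hrest a ha h1 h2, sub_self]
  decide

/-- The two rows separating a pair split every third column. -/
theorem third {a b : ι} {i j l : O} (ha : a ∈ B) (hb : b ∈ B) (hij : i ≠ j) (hil : i ≠ l) (hjl : j ≠ l)
    (hai : n a i - n a j = 1) (hbi : n b i - n b j = -1) :
    (n a l = n a j ∧ n b l = n b i) ∨ (n a l = n a i ∧ n b l = n b j) := by
  have hA : n a l = n a j ∨ n a l = n a i := by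
    have h1 := diff_le hd horth hdiff ha l j
    have h2 := diff_le hd horth hdiff ha i l
    omega
  have hB : n b l = n b i ∨ n b l = n b j := by
    have h1 := diff_le hd horth hdiff hb l i
    have h2 := diff_le hd horth hdiff hb j l
    omega
  have hab : a ≠ b := fun h => by subst h; omega
  obtain ⟨a', ha', b', hb', -, hi1, hi2, -, hrest⟩ := diff_pair hd horth hdiff hil
  obtain ⟨a₀, -, b₀, -, -, -, -, -, hrest₀⟩ := diff_pair hd horth hdiff hij
  have hset : ∀ c ∈ B, n c i ≠ n c j → c = a ∨ c = b := by
    intro c hc hne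
    have h1 : a = a₀ ∨ a = b₀ := by
      by_contra h; push Not at h; have := hrest₀ a ha h.1 h.2; omega
    have h2 : b = a₀ ∨ b = b₀ := by
      by_contra h; push Not at h; have := hrest₀ b hb h.1 h.2; omega
    have h3 : c = a₀ ∨ c = b₀ := by
      by_contra h; push Not at h; exact hne (hrest₀ c hc h.1 h.2)
    rcases h1 with h1 | h1 <;> rcases h2 with h2 | h2 <;> rcases h3 with h3 | h3 <;>
      first
        | exact Or.inl (h3.trans h1.symm)
        | exact Or.inr (h3.trans h2.symm)
        | exact absurd (h1.trans h2.symm) hab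
  rcases hA with hA | hA <;> rcases hB with hB | hB
  · exact Or.inl ⟨hA, hB⟩
  · -- both separate `i` from `l`, none separates `j` from `l`
    exfalso
    obtain ⟨c, hc, e, he, hce, hc1, he1, -, -⟩ := diff_pair hd horth hdiff hjl
    have hca : c ≠ a := fun h => by subst h; omega
    have hcb : c ≠ b := fun h => by subst h; omega
    have hcij : n c i = n c j := by
      by_contra h; rcases hset c hc h with h' | h' <;> contradiction
    have ha1 : a = a' ∨ a = b' := by
      by_contra h; push Not at h; have := hrest a ha h.1 h.2; omega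
    have hb1 : b = a' ∨ b = b' := by
      by_contra h; push Not at h; have := hrest b hb h.1 h.2; omega
    have hc2 : c = a' ∨ c = b' := by
      by_contra h; push Not at h; have := hrest c hc h.1 h.2; omega
    rcases ha1 with h1 | h1 <;> rcases hb1 with h2 | h2 <;> rcases hc2 with h3 | h3 <;>
      first
        | exact hca (h3.trans h1.symm)
        | exact hcb (h3.trans h2.symm)
        | exact hab (h1.trans h2.symm)
  · -- none separates `i` from `l`
    exfalso
    have hsep : ∀ c ∈ B, n c i ≠ n c l → n c i = n c j := fun c hc h => by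
      by_contra h'
      rcases hset c hc h' with rfl | rfl
      · exact h hA.symm
      · exact h hB.symm
    obtain ⟨u, -, w, -, huw, -, -, -, hrest'⟩ := diff_pair hd horth hdiff hjl
    have hu1 : a = u ∨ a = w := by
      by_contra h; push Not at h; have := hrest' a ha h.1 h.2; omega
    have hw1 : b = u ∨ b = w := by
      by_contra h; push Not at h; have := hrest' b hb h.1 h.2; omega
    have hc3 : a' = u ∨ a' = w := by
      by_contra h; push Not at h
      have h1 := hrest' a' ha' h.1 h.2
      have := hsep a' ha' (by omega)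
      omega
    have : a' = a ∨ a' = b := by
      rcases hu1 with h1 | h1 <;> rcases hw1 with h2 | h2 <;> rcases hc3 with h3 | h3 <;>
        first
          | exact Or.inl (h3.trans h1.symm)
          | exact Or.inr (h3.trans h2.symm)
          | exact absurd (h1.trans h2.symm) hab
    rcases this with h | h <;> subst h <;> omega
  · exact Or.inr ⟨hA, hB⟩

/-- The choice in `third` does not depend on the third column. -/
theorem third_const {a b : ι} {i j l l' : O} (ha : a ∈ B) (hb : b ∈ B)
    (hai : n a i - n a j = 1) (hbi : n b i - n b j = -1)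
    (h1 : n a l = n a j ∧ n b l = n b i) (h2 : n a l' = n a i ∧ n b l' = n b j) : False := by
  rcases eq_or_ne l l' with rfl | hll
  · omega
  obtain ⟨u, hu, w, hw, huw, hu1, hw1, -, hrest⟩ := diff_pair hd horth hdiff hll
  have ha' : a = u ∨ a = w := by
    by_contra h; push Not at h; have := hrest a ha h.1 h.2; omega
  have hb' : b = u ∨ b = w := by
    by_contra h; push Not at h; have := hrest b hb h.1 h.2; omega
  have hab : a ≠ b := fun h => by subst h; omega
  rcases ha' with rfl | rfl <;> rcases hb' with rfl | rfl <;> first | exact hab rfl | omega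

/-- Every row is constant or has one exceptional column, with a common sign. -/
theorem exists_structure {i₀ j₀ : O} (h₀ : i₀ ≠ j₀) :
    ∃ (δ : ℤ) (Φ : O → ι) (k : O → ℤ), (δ = 1 ∨ δ = -1) ∧ Function.Injective Φ ∧
      (∀ i, Φ i ∈ B) ∧ (∀ i j, n (Φ i) j = k i + if j = i then δ else 0) ∧
      (∀ i j, d (Φ i) = d (Φ j)) ∧
      ∀ a ∈ B, a ∉ Finset.univ.image Φ → ∀ i j, n a i = n a j := by
  -- the sign
  obtain ⟨a₀, ha₀, b₀, hb₀, -, hai₀, hbi₀, -, -⟩ := diff_pair hd horth hdiff h₀
  -- the row of a column relative to another one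
  have key : ∃ δ : ℤ, (δ = 1 ∨ δ = -1) ∧ ∀ i, ∃ a ∈ B, ∀ j, j ≠ i → n a i - n a j = δ := by
    by_cases hδ : ∀ l, l ≠ i₀ → l ≠ j₀ → n a₀ l = n a₀ j₀ ∧ n b₀ l = n b₀ i₀
    · refine ⟨1, Or.inl rfl, fun i => ?_⟩
      by_cases hi : i = i₀
      · subst hi
        refine ⟨a₀, ha₀, fun j hj => ?_⟩
        rcases eq_or_ne j j₀ with rfl | hj0
        · exact hai₀
        · have := hδ j hj hj0; omega
      by_cases hij : i = j₀
      · subst hij
        refine ⟨b₀, hb₀, fun j hj => ?_⟩
        rcases eq_or_ne j i₀ with rfl | hj0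
        · omega
        · have := hδ j hj0 hj; omega
      have hi' : n a₀ i₀ - n a₀ i = 1 ∧ n b₀ i₀ - n b₀ i = 0 := by have := hδ i hi hij; omega
      obtain ⟨u, hu, w, hw, -, hu1, hw1, -, hrest⟩ := diff_pair hd horth hdiff hi
      have hw0 : a₀ = w := by
        by_contra h
        by_cases h' : a₀ = u
        · subst h'; omega
        · have := hrest a₀ ha₀ h' h; omega
      subst hw0
      refine ⟨u, hu, fun j hj => ?_⟩
      rcases eq_or_ne j i₀ with rfl | hj0
      · exact hu1
      rcases third hd horth hdiff hu ha₀ hi hj.symm hj0.symm hu1 hw1 with h | h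
      · omega
      · rcases eq_or_ne j j₀ with rfl | hj1
        · omega
        · have := hδ j hj0 hj1; omega
    · push Not at hδ
      obtain ⟨l, hl, hlj, hl'⟩ := hδ
      have hl2 : n a₀ l = n a₀ i₀ ∧ n b₀ l = n b₀ j₀ := by
        rcases third hd horth hdiff ha₀ hb₀ h₀ hl.symm hlj.symm hai₀ hbi₀ with h | h
        · exact absurd h.2 (hl' h.1)
        · exact h
      have hall : ∀ j, j ≠ i₀ → j ≠ j₀ → n a₀ j = n a₀ i₀ ∧ n b₀ j = n b₀ j₀ := by
        intro j hj hj0
        rcases third hd horth hdiff ha₀ hb₀ h₀ hj.symm hj0.symm hai₀ hbi₀ with h | h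
        · exact (third_const hd horth hdiff ha₀ hb₀ hai₀ hbi₀ h hl2).elim
        · exact h
      refine ⟨-1, Or.inr rfl, fun i => ?_⟩
      by_cases hi : i = i₀
      · subst hi
        refine ⟨b₀, hb₀, fun j hj => ?_⟩
        rcases eq_or_ne j j₀ with rfl | hj0
        · exact hbi₀
        · have := hall j hj hj0; omega
      by_cases hij : i = j₀
      · subst hij
        refine ⟨a₀, ha₀, fun j hj => ?_⟩
        rcases eq_or_ne j i₀ with rfl | hj0
        · omega
        · have := hall j hj0 hj; omega
      have hi' : n b₀ i₀ - n b₀ i = -1 := by have := hall i hi hij; omega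
      obtain ⟨u, hu, w, hw, -, hu1, hw1, -, hrest⟩ := diff_pair hd horth hdiff hi
      have hu0 : b₀ = u := by
        by_contra h
        by_cases h' : b₀ = w
        · subst h'; omega
        · have := hrest b₀ hb₀ h h'; omega
      subst hu0
      refine ⟨w, hw, fun j hj => ?_⟩
      rcases eq_or_ne j i₀ with rfl | hj0
      · exact hw1
      rcases third hd horth hdiff hb₀ hw hi hj.symm hj0.symm hu1 hw1 with h | h
      · rcases eq_or_ne j j₀ with rfl | hj1
        · omega
        · have := hall j hj0 hj1; omega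
      · omega
  obtain ⟨δ, hδ, hrow⟩ := key
  choose Φ hΦB hΦ using hrow
  have hinj : Function.Injective Φ := by
    intro i j h
    by_contra hij
    have h1 := hΦ i j (Ne.symm hij)
    have h2 := hΦ j i hij
    rw [h] at h1
    omega
  refine ⟨δ, Φ, fun i => n (Φ i) i - δ, hδ, hinj, hΦB, fun i j => ?_, fun i j => ?_, fun a ha hna i j => ?_⟩
  · rcases eq_or_ne j i with rfl | h
    · simp
    · have := hΦ i j h
      simp [h]; omega
  · rcases eq_or_ne i j with rfl | hij
    · rfl
    have h1 := hΦ i j hij.symm
    have h2 := hΦ j i hij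
    obtain ⟨u, -, w, -, -, -, -, hdd, hrest⟩ := diff_pair hd horth hdiff hij
    have hne := hinj.ne hij
    have hi : Φ i = u ∨ Φ i = w := by
      by_contra h; push Not at h; have := hrest _ (hΦB i) h.1 h.2; omega
    have hj : Φ j = u ∨ Φ j = w := by
      by_contra h; push Not at h; have := hrest _ (hΦB j) h.1 h.2; omega
    rcases hi with h | h <;> rcases hj with h' | h' <;>
      first
        | exact absurd (h.trans h'.symm) hne
        | (rw [h, h']; omega)
  · by_contra hne
    rcases eq_or_ne i j with rfl | hij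
    · exact hne rfl
    have h1 := hΦ i j hij.symm
    have h2 := hΦ j i hij
    obtain ⟨u, -, w, -, -, -, -, -, hrest⟩ := diff_pair hd horth hdiff hij
    have hne' := hinj.ne hij
    have hi : Φ i = u ∨ Φ i = w := by
      by_contra h; push Not at h; have := hrest _ (hΦB i) h.1 h.2; omega
    have hj : Φ j = u ∨ Φ j = w := by
      by_contra h; push Not at h; have := hrest _ (hΦB j) h.1 h.2; omega
    have ha' : a = u ∨ a = w := by
      by_contra h; push Not at h; exact hne (hrest _ ha h.1 h.2)
    refine hna (Finset.mem_image.2 ?_)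
    rcases hi with h | h <;> rcases hj with h' | h' <;> rcases ha' with h'' | h'' <;>
      first
        | exact absurd (h.trans h'.symm) hne'
        | exact ⟨i, Finset.mem_univ _, h.trans h''.symm⟩
        | exact ⟨j, Finset.mem_univ _, h'.trans h''.symm⟩

end

end Cfsg.Agent.Invol.TwoValued
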