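import Cfsg.Agent.Lib.Block.PrincipalColumn
import Cfsg.Agent.Lib.Block.ClassMul
import Cfsg.Agent.Lib.Grp.Cores
import Cfsg.Agent.Lib.Grp.PSolvable

/-!
Products of two conjugates of a `p`-element that are `p`-regular, counted with the principal block.
-/

open scoped ComplexConjugate

set_option autoImplicit false
set_option linter.unusedSectionVars false
set_option linter.style.haveILetI false

namespace Cfsg.Agent.Invol.RegProd

open Cfsg Cfsg.Agent.Block Cfsg.Agent.Block.PrinCol

universe u

variable {G : Type u} [Group G] {p : ℕ} [Fact p.Prime] {M : Ideal AlgInt}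

/-- Values of the principal block at `x * y` for a `p`-element `x` whose centralizer has a normal
`p`-complement containing `y`. -/
theorem value_eq_of_complement [Fintype G] (hM : IsPModular p M) {x : G}
    (hx : ∃ k : ℕ, orderOf x = p ^ k) {K : Subgroup (Subgroup.centralizer ({x} : Set G))}
    (hKn : K.Normal) (hK : ¬ p ∣ Nat.card K) {y : Subgroup.centralizer ({x} : Set G)}
    (hy : y ∈ K) {χ : IrrCharacter G} (hχ : χ ∈ principalBlock M G) :
    (χ : G → ℂ) (x * (y : G)) = (χ : G → ℂ) x := by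
  classical
  cases nonempty_fintype (Subgroup.centralizer ({x} : Set G))
  obtain ⟨k, hk⟩ := hx
  have hyr : ¬ p ∣ orderOf y := fun hd =>
    hK (hd.trans (by rw [← Subgroup.orderOf_mk y hy]; exact orderOf_dvd_natCard _))
  have hP : IsPGroup p (Subgroup.zpowers x) :=
    IsPGroup.of_card (n := k) (by rw [Nat.card_zpowers, hk])
  have hdef : ∀ ξ : IrrCharacter (Subgroup.centralizer ({x} : Set G)),
      InducedBlockDefined M (Subgroup.centralizer ({x} : Set G))
        (blockOf M (ξ : Subgroup.centralizer ({x} : Set G) → ℂ)) := fun ξ => by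
    refine inducedBlockDefined_brauer hM hP (Subgroup.zpowers_le.2 (centralizer_self_mem x)) ?_ ?_
      (isPBlock_blockOf ξ)
    · exact Subgroup.centralizer_le (Set.singleton_subset_iff.2 (Subgroup.mem_zpowers x))
    · intro c hc
      refine Subgroup.centralizer_le_normalizer _ ?_
      rw [Subgroup.mem_centralizer_iff]
      intro w hw
      obtain ⟨i, rfl⟩ := Subgroup.mem_zpowers_iff.1 hw
      exact ((show Commute c x from Subgroup.mem_centralizer_singleton_iff.1 hc).zpow_right i).eq.symm
  have e1 := value_eq_sum_inducing hM ⟨k, hk⟩ (isPBlock_principalBlock (G := G)) hyr χ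
  have e2 := value_eq_sum_inducing hM ⟨k, hk⟩ (isPBlock_principalBlock (G := G))
    (y := (1 : Subgroup.centralizer ({x} : Set G))) (by simp [(Fact.out : p.Prime).one_lt.ne']) χ
  rw [if_pos hχ] at e1 e2
  rw [← e1, show (χ : G → ℂ) x = (χ : G → ℂ) (x * ((1 : Subgroup.centralizer ({x} : Set G)) : G)) by
    rw [OneMemClass.coe_one, mul_one], ← e2]
  refine Finset.sum_congr rfl fun ξ hξ => ?_
  have hb : ξ ∈ principalBlock M (Subgroup.centralizer ({x} : Set G)) := by
    rw [← (principal_third_main hM (hdef ξ)).1 (Finset.mem_filter.1 hξ).2]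
    exact mem_blockOf_self hM ξ
  haveI := hKn
  rw [principal_ker_of_coprime hM hK hb hy]

/-- The column of the principal block at such an element. -/
theorem column_eq [Fintype G] (hM : IsPModular p M) {x : G} (hx : ∃ k : ℕ, orderOf x = p ^ k)
    {K : Subgroup (Subgroup.centralizer ({x} : Set G))} (hKn : K.Normal) (hK : ¬ p ∣ Nat.card K)
    {q k : ℕ} (hidx : K.index = p ^ k) (hq : q = p ^ k) :
    ∑ᶠ χ ∈ principalBlock M G, (χ : G → ℂ) x * conj ((χ : G → ℂ) x) = (q : ℂ) := by
  classical
  cases nonempty_fintype (Subgroup.centralizer ({x} : Set G))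
  haveI := hKn
  have h1 : ¬ p ∣ orderOf (1 : Subgroup.centralizer ({x} : Set G)) := by
    simp [(Fact.out : p.Prime).one_lt.ne']
  have h := principal_column hM hx h1
  rw [OneMemClass.coe_one, mul_one, principal_column_complement hM hK hidx h1] at h
  rw [h, hq]
  congr 2
  rw [← Subgroup.card_mul_index K, hidx, Nat.factorization_mul Nat.card_pos.ne'
    (pow_ne_zero _ (Fact.out : p.Prime).ne_zero), Finsupp.add_apply,
    Nat.factorization_eq_zero_of_not_dvd hK, (Fact.out : p.Prime).factorization_pow,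
    Finsupp.single_eq_same, zero_add]

/-- A singular element has a nontrivial `p`-part. -/
theorem exists_part [Finite G] {g : G} (hg : p ∣ orderOf g) :
    ∃ u v : G, u * v = g ∧ Commute u v ∧ (∃ k : ℕ, orderOf u = p ^ k) ∧ ¬ p ∣ orderOf v ∧ u ≠ 1 := by
  obtain ⟨u, v, huv, hc, hu, hv, -, -⟩ := exists_pPart_zpowers (p := p) g
  refine ⟨u, v, huv, hc, hu, hv, fun h => hv ?_⟩
  rwa [← show v = g by rw [← huv, h, one_mul]] at hg

/-- A sum over the singular elements, when there is one class of nontrivial `p`-elements. -/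
theorem sum_singular [Fintype G] {x : G} (hx : ∃ k : ℕ, orderOf x = p ^ k) (hx1 : x ≠ 1)
    (hone : ∀ u : G, (∃ k : ℕ, orderOf u = p ^ k) → u ≠ 1 → IsConj x u)
    {f : G → ℂ} (hf : IsClassFunction G f)
    {K : Subgroup (Subgroup.centralizer ({x} : Set G))}
    (hK : ∀ y : Subgroup.centralizer ({x} : Set G), ¬ p ∣ orderOf y ↔ y ∈ K)
    (hconst : ∀ y : Subgroup.centralizer ({x} : Set G), y ∈ K → f (x * (y : G)) = f x) :
    (Nat.card (Subgroup.centralizer ({x} : Set G)) : ℂ) *
        ∑ g ∈ Finset.univ.filter (fun g : G => p ∣ orderOf g), f g =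
      (Nat.card G : ℂ) * (Nat.card K : ℂ) * f x := by
  classical
  have hp : p.Prime := Fact.out
  have hord : ∀ t a : G, orderOf (t * a * t⁻¹) = orderOf a := fun t a => by
    rw [← MulAut.conj_apply, MulEquiv.orderOf_eq]
  set S := Finset.univ.filter (fun g : G => p ∣ orderOf g) with hS
  have hφ : ∀ t : G × K, t.1 * (x * ((t.2 : Subgroup.centralizer ({x} : Set G)) : G)) * t.1⁻¹ ∈ S := by
    intro t
    have hc : Commute x ((t.2 : Subgroup.centralizer ({x} : Set G)) : G) :=
      (Subgroup.mem_centralizer_singleton_iff.1 (t.2 : Subgroup.centralizer ({x} : Set G)).2).symm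
    rw [hS, Finset.mem_filter]
    refine ⟨Finset.mem_univ _, ?_⟩
    rw [hord]
    obtain ⟨k, hk⟩ := hx
    have hv : ¬ p ∣ orderOf ((t.2 : Subgroup.centralizer ({x} : Set G)) : G) := by
      rw [Subgroup.orderOf_coe]; exact (hK _).2 t.2.2
    have hcop : (orderOf x).Coprime (orderOf ((t.2 : Subgroup.centralizer ({x} : Set G)) : G)) := by
      rw [hk]; exact Nat.Coprime.pow_left _ (hp.coprime_iff_not_dvd.2 hv)
    rw [hc.orderOf_mul_eq_mul_orderOf_of_coprime hcop]
    refine dvd_mul_of_dvd_left ?_ _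
    rw [hk]
    refine dvd_pow_self p fun h0 => hx1 ?_
    rw [← orderOf_eq_one_iff, hk, h0, pow_zero]
  have hfib : ∀ g ∈ S, (Finset.univ.filter (fun t : G × K =>
      t.1 * (x * ((t.2 : Subgroup.centralizer ({x} : Set G)) : G)) * t.1⁻¹ = g)).card =
      Nat.card (Subgroup.centralizer ({x} : Set G)) := by
    intro g hg
    rw [hS, Finset.mem_filter] at hg
    obtain ⟨u, v, huv, hc, hu, hv, hu1⟩ := exists_part hg.2
    obtain ⟨t₀, ht₀⟩ := isConj_iff.1 (hone u hu hu1)
    have hvx : Commute x (t₀⁻¹ * v * t₀) := by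
      have := hc.map (MulAut.conj t₀⁻¹).toMonoidHom
      simpa [← ht₀, mul_assoc] using this
    have hvC : t₀⁻¹ * v * t₀ ∈ Subgroup.centralizer ({x} : Set G) :=
      Subgroup.mem_centralizer_singleton_iff.2 hvx.eq.symm
    have key : ∀ t : G × K, t.1 * (x * ((t.2 : Subgroup.centralizer ({x} : Set G)) : G)) * t.1⁻¹ = g →
        t.1 * x * t.1⁻¹ = u ∧ t.1 * ((t.2 : Subgroup.centralizer ({x} : Set G)) : G) * t.1⁻¹ = v := by
      intro t ht
      have hc' : Commute x ((t.2 : Subgroup.centralizer ({x} : Set G)) : G) :=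
        (Subgroup.mem_centralizer_singleton_iff.1 (t.2 : Subgroup.centralizer ({x} : Set G)).2).symm
      have h1 : IsPPart p g (t.1 * x * t.1⁻¹) := by
        refine ⟨t.1 * ((t.2 : Subgroup.centralizer ({x} : Set G)) : G) * t.1⁻¹,
          by rw [← ht]; group, hc'.map (MulAut.conj t.1).toMonoidHom, ?_, ?_⟩
        · obtain ⟨k, hk⟩ := hx
          exact ⟨k, by rw [hord, hk]⟩
        · rw [hord, Subgroup.orderOf_coe]; exact (hK _).2 t.2.2
      have h2 := pPart_unique h1 ⟨v, huv, hc, hu, hv⟩
      refine ⟨h2, mul_left_cancel (a := u) ?_⟩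
      rw [huv, ← ht, ← h2]; group
    have hcardS : (Finset.univ.filter (fun t : G × K =>
        t.1 * (x * ((t.2 : Subgroup.centralizer ({x} : Set G)) : G)) * t.1⁻¹ = g)).card =
        (Finset.univ.filter (fun t : G => t * x * t⁻¹ = u)).card := by
      refine Finset.card_bij (fun t _ => t.1) (fun t ht => ?_) ?_ ?_
      · simp only [Finset.mem_filter, Finset.mem_univ, true_and] at ht ⊢
        exact (key t ht).1
      · intro a ha b hb hab
        simp only [Finset.mem_filter, Finset.mem_univ, true_and] at ha hb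
        refine Prod.ext hab (Subtype.ext (Subtype.ext ?_))
        have e1 := (key a ha).2
        rw [hab, ← (key b hb).2] at e1
        exact mul_left_cancel (mul_right_cancel e1)
      · intro t ht
        simp only [Finset.mem_filter, Finset.mem_univ, true_and] at ht
        have htv : Commute x (t⁻¹ * v * t) := by
          have := hc.map (MulAut.conj t⁻¹).toMonoidHom
          simpa [← ht, mul_assoc] using this
        have hmem : t⁻¹ * v * t ∈ Subgroup.centralizer ({x} : Set G) :=
          Subgroup.mem_centralizer_singleton_iff.2 htv.eq.symm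
        have hregv : ¬ p ∣ orderOf (⟨_, hmem⟩ : Subgroup.centralizer ({x} : Set G)) := by
          rw [Subgroup.orderOf_mk]
          rwa [show t⁻¹ * v * t = t⁻¹ * v * t⁻¹⁻¹ by rw [inv_inv], hord]
        refine ⟨(t, ⟨⟨_, hmem⟩, (hK _).1 hregv⟩), ?_, rfl⟩
        simp only [Finset.mem_filter, Finset.mem_univ, true_and]
        rw [← huv, ← ht]; group
    rw [hcardS, Nat.card_eq_fintype_card, ← Finset.card_univ]
    refine Finset.card_bij' (fun t ht => ⟨t₀⁻¹ * t, ?_⟩) (fun c _ => t₀ * (c : G)) ?_ ?_ ?_ ?_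
    · simp only [Finset.mem_filter, Finset.mem_univ, true_and] at ht
      rw [Subgroup.mem_centralizer_singleton_iff]
      have : t * x = u * t := by rw [← ht]; group
      calc t₀⁻¹ * t * x = t₀⁻¹ * (t * x) := mul_assoc _ _ _
        _ = t₀⁻¹ * (t₀ * x * t₀⁻¹ * t) := by rw [this, ht₀]
        _ = x * (t₀⁻¹ * t) := by group
    · exact fun _ _ => Finset.mem_univ _
    · intro c _
      simp only [Finset.mem_filter, Finset.mem_univ, true_and]
      have hcx : (c : G) * x = x * c := Subgroup.mem_centralizer_singleton_iff.1 c.2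
      rw [← ht₀, mul_inv_rev, show t₀ * (c : G) * x * ((c : G)⁻¹ * t₀⁻¹) =
        t₀ * ((c : G) * x) * (c : G)⁻¹ * t₀⁻¹ by group, hcx]
      group
    · intro t _; simp
    · intro c _; ext; simp
  have h1 : ∑ t : G × K, f (t.1 * (x * ((t.2 : Subgroup.centralizer ({x} : Set G)) : G)) * t.1⁻¹) =
      (Nat.card (Subgroup.centralizer ({x} : Set G)) : ℂ) * ∑ g ∈ S, f g := by
    rw [← Finset.sum_fiberwise_of_maps_to (t := S) (fun t _ => hφ t), Finset.mul_sum]
    refine Finset.sum_congr rfl fun g hg => ?_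
    rw [Finset.sum_congr rfl (g := fun _ => f g) fun t ht => by rw [(Finset.mem_filter.1 ht).2],
      Finset.sum_const, hfib g hg, nsmul_eq_mul]
  rw [← h1, Finset.sum_congr rfl (g := fun _ => f x) fun t _ => by rw [hf, hconst _ t.2.2],
    Finset.sum_const, Finset.card_univ, Fintype.card_prod, nsmul_eq_mul, Nat.cast_mul,
    ← Nat.card_eq_fintype_card, ← Nat.card_eq_fintype_card]

/-- The number of conjugates `g y g⁻¹` with `x * (g y g⁻¹)` regular, in terms of the principal
block. -/
theorem count_regular [Fintype G] (hM : IsPModular p M) (x y : G) :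
    ((Finset.univ.filter (fun g : G => ¬ p ∣ orderOf (x * (g * y * g⁻¹)))).card : ℂ) =
      ∑ᶠ χ ∈ principalBlock M G,
        conj (regTot p (χ : G → ℂ)) * (χ : G → ℂ) x * (χ : G → ℂ) y / (χ : G → ℂ) 1 := by
  classical
  set f : G → ℂ := fun g => if p ∣ orderOf g then 0 else 1 with hfdef
  have hf : IsClassFunction G f := fun g t => by
    simp only [hfdef, ← MulAut.conj_apply, MulEquiv.orderOf_eq]
  have hG : (Nat.card G : ℂ) ≠ 0 := Nat.cast_ne_zero.2 Nat.card_pos.ne'
  have h := sum_classFun_mul_conj hf x y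
  have hinner : ∀ χ : IrrCharacter G, classInner f (χ : G → ℂ) =
      (Nat.card G : ℂ)⁻¹ * conj (regTot p (χ : G → ℂ)) := fun χ => by
    rw [classInner, regTot, map_sum, Finset.sum_filter]
    congr 1
    refine Finset.sum_congr rfl fun g _ => ?_
    simp only [hfdef]
    split_ifs <;> simp
  have hlhs : ∑ g : G, f (x * (g * y * g⁻¹)) =
      ((Finset.univ.filter (fun g : G => ¬ p ∣ orderOf (x * (g * y * g⁻¹)))).card : ℂ) := by
    rw [Finset.card_filter, Nat.cast_sum]
    refine Finset.sum_congr rfl fun g _ => ?_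
    simp only [hfdef]
    split_ifs <;> simp
  rw [hlhs] at h
  rw [finsum_mem_block, Finset.sum_filter]
  have h2 := congrArg (fun z => (Nat.card G : ℂ) * z) h
  rw [← mul_assoc, mul_inv_cancel₀ hG, one_mul] at h2
  rw [h2, Finset.mul_sum]
  refine Finset.sum_congr rfl fun χ _ => ?_
  rw [hinner]
  split_ifs with hχ
  · field_simp
  · have h0 : regTot p (χ : G → ℂ) = 0 := not_not.1 fun h0 => hχ ((mem_principal_iff hM χ).2 h0)
    rw [h0, map_zero]
    simp

/-- In a `p`-soluble group with abelian Sylow `p`-subgroups, at most one of `x * z` and `x * z⁻¹`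
is regular when `x` is not in the `p'`-core. -/
theorem not_both_regular {H : Type u} [Group H] [Finite H] (hp : p ≠ 2) (hH : IsPSolvable p H)
    (hab : ∀ P : Sylow p H, IsMulCommutative (P : Subgroup H))
    {x z : H} (hx : orderOf x = p) (hz : orderOf z = p)
    (h1 : ¬ p ∣ orderOf (x * z)) (h2 : ¬ p ∣ orderOf (x * z⁻¹)) : False := by
  classical
  haveI hN : (pPrimeCore p H).Normal := Grp.pPrimeCore_isNormal
  set π := QuotientGroup.mk' (pPrimeCore p H) with hπ
  have hπs : Function.Surjective π := QuotientGroup.mk'_surjective _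
  have hQ : IsPSolvable p (H ⧸ pPrimeCore p H) := Grp.isPSolvable_map hH π hπs
  have hO : pPrimeCore p (H ⧸ pPrimeCore p H) = ⊥ := by
    haveI hn' : (pPrimeCore p (H ⧸ pPrimeCore p H)).Normal := Grp.pPrimeCore_isNormal
    have hle : (pPrimeCore p (H ⧸ pPrimeCore p H)).comap π ≤ pPrimeCore p H := by
      refine Grp.le_pPrimeCore (hn'.comap π) ?_
      refine ((Fact.out : p.Prime).coprime_iff_not_dvd.2 fun hd => ?_).symm
      obtain ⟨w, hw⟩ := exists_prime_orderOf_dvd_card' p hd
      have hw' : orderOf (π (w : H)) ∣ Nat.card (pPrimeCore p (H ⧸ pPrimeCore p H)) := by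
        rw [← Subgroup.orderOf_mk (π (w : H)) (Subgroup.mem_comap.1 w.2)]; exact orderOf_dvd_natCard _
      have hwd : orderOf (π (w : H)) ∣ p :=
        (orderOf_map_dvd π (w : H)).trans (dvd_of_eq ((Subgroup.orderOf_coe w).trans hw))
      rcases (Nat.dvd_prime (Fact.out : p.Prime)).1 hwd with h | h
      · have hmem : (w : H) ∈ pPrimeCore p H := (QuotientGroup.eq_one_iff _).1 (orderOf_eq_one_iff.1 h)
        refine Grp.pPrimeCore_not_dvd (p := p) (G := H) ?_
        refine (dvd_of_eq ?_).trans (orderOf_dvd_natCard (⟨(w : H), hmem⟩ : pPrimeCore p H))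
        rw [Subgroup.orderOf_mk, Subgroup.orderOf_coe, hw]
      · exact Grp.pPrimeCore_not_dvd (p := p) (G := H ⧸ pPrimeCore p H)
          ((dvd_of_eq h.symm).trans hw')
    rw [eq_bot_iff]
    intro a ha
    obtain ⟨b, rfl⟩ := hπs a
    rw [Subgroup.mem_bot]
    exact (QuotientGroup.eq_one_iff b).2 (hle ha)
  have hC := Grp.centralizer_pCore_le_of_pSolvable hQ hO
  haveI hcn : (pCore p (H ⧸ pPrimeCore p H)).Normal := Grp.pCore_isNormal
  have hpel : ∀ a : H, orderOf a = p → π a ∈ pCore p (H ⧸ pPrimeCore p H) := by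
    intro a ha
    obtain ⟨P, hP⟩ := (IsPGroup.of_card (n := 1) (by
      rw [Nat.card_zpowers, ha, pow_one]) : IsPGroup p (Subgroup.zpowers a)).exists_le_sylow
    haveI := hab P
    obtain ⟨R, hR⟩ := (P.2.map π).exists_le_sylow
    have hPR : (P : Subgroup H).map π = (R : Subgroup (H ⧸ pPrimeCore p H)) := by
      have := (P.mapSurjective hπs).3 R.2
      rw [Sylow.coe_mapSurjective] at this
      exact (this hR).symm
    have hle : pCore p (H ⧸ pPrimeCore p H) ≤ (P : Subgroup H).map π := by
      have := (P.mapSurjective hπs).3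
        ((P.mapSurjective hπs).2.to_sup_of_normal_right (Grp.pCore_isPGroup
          (p := p) (G := H ⧸ pPrimeCore p H))) le_sup_left
      rw [Sylow.coe_mapSurjective] at this
      exact le_sup_right.trans this.le
    refine hC (Subgroup.mem_centralizer_iff.2 fun c hc => ?_)
    obtain ⟨c', hc', rfl⟩ := Subgroup.mem_map.1 (hle hc)
    rw [← map_mul, ← map_mul]
    exact congrArg π (congrArg Subtype.val (this.is_comm.comm (⟨c', hc'⟩ : (P : Subgroup H))
      ⟨a, hP (Subgroup.mem_zpowers a)⟩))
  have hone : ∀ w : H, π w ∈ pCore p (H ⧸ pPrimeCore p H) → ¬ p ∣ orderOf w → π w = 1 := by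
    intro w hw hwr
    obtain ⟨k, hk⟩ := Grp.pCore_isPGroup (p := p) (G := H ⧸ pPrimeCore p H) ⟨π w, hw⟩
    rw [← orderOf_eq_one_iff]
    refine Nat.eq_one_of_dvd_coprimes (a := orderOf w) (b := p ^ k) ?_ (orderOf_map_dvd π w) ?_
    · exact Nat.Coprime.pow_right _ ((Fact.out : p.Prime).coprime_iff_not_dvd.2 hwr).symm
    · exact orderOf_dvd_of_pow_eq_one (congrArg Subtype.val hk)
  have e1 := hone _ (by rw [map_mul]; exact mul_mem (hpel x hx) (hpel z hz)) h1
  have e2 := hone _ (by rw [map_mul, map_inv]; exact mul_mem (hpel x hx) (inv_mem (hpel z hz))) h2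
  rw [map_mul] at e1
  rw [map_mul, map_inv, mul_inv_eq_one] at e2
  rw [← e2, ← map_mul] at e1
  have hxx : x ^ 2 ∈ pPrimeCore p H := by
    rw [pow_two]; exact (QuotientGroup.eq_one_iff _).1 e1
  refine Grp.pPrimeCore_not_dvd (p := p) (G := H) ?_
  have ho : orderOf (x ^ 2) = p := by
    rw [Nat.Coprime.orderOf_pow (by rw [hx]; exact (Nat.coprime_primes Fact.out Nat.prime_two).2 hp), hx]
  refine (dvd_of_eq ?_).trans (orderOf_dvd_natCard (⟨x ^ 2, hxx⟩ : pPrimeCore p H))
  rw [Subgroup.orderOf_mk, ho]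

end Cfsg.Agent.Invol.RegProd
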