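import Cfsg.Agent.Lib.Invol.CyclicSylowRows
import Cfsg.Agent.Lib.Invol.CyclicPairImage
import Cfsg.Agent.Lib.Invol.TwoValuedRows
import Cfsg.Agent.Lib.Char.ModP
import Cfsg.Agent.Lib.Fus.SmallSimple
import Cfsg.Agent.S1951

/-!
A non-abelian simple group with cyclic Sylow `p`-subgroups is not `p`-locally controlled by pairs of
elements of order `p`.
-/

open scoped ComplexConjugate

set_option autoImplicit false
set_option linter.unusedSectionVars false
set_option linter.style.haveILetI false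

namespace Cfsg.Agent.Invol.CyclicBlock

open Cfsg Cfsg.Agent.Block Cfsg.Agent.Block.PrinCol Cfsg.Agent.Char

universe u

variable {G : Type u} [Group G] [Fintype G] {p : ℕ} [Fact p.Prime] {q : ℕ} [NeZero q]
  (D : Gen G p q) {M : Ideal AlgInt}

/-- Nonzero residues up to the automizer. -/
def Gen.setoid : Setoid {i : ZMod q // i ≠ 0} where
  r i l := IsConj (D.pw i) (D.pw l)
  iseqv := ⟨fun _ => IsConj.refl _, fun h => h.symm, fun h h' => h.trans h'⟩

/-- The classes. -/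
abbrev Gen.Orb : Type := Quotient D.setoid

noncomputable instance : Fintype D.Orb := Fintype.ofFinite _

/-- The class of a nonzero residue. -/
def Gen.orb {i : ZMod q} (hi : i ≠ 0) : D.Orb := Quotient.mk D.setoid ⟨i, hi⟩

theorem Gen.orb_eq_iff {i l : ZMod q} (hi : i ≠ 0) (hl : l ≠ 0) :
    D.orb hi = D.orb hl ↔ ∃ t ∈ D.E, l = t * i := by
  rw [← D.conj_iff]
  exact ⟨fun h => Quotient.exact h, fun h => Quotient.sound h⟩

theorem Gen.orb_out (o : D.Orb) : D.orb o.out.2 = o := Quotient.out_eq o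

/-- The row, on classes. -/
noncomputable def Gen.N (χ : IrrCharacter G) (o : D.Orb) : ℤ := D.n χ o.out.1

theorem Gen.n_eq_N (hM : IsPModular p M) {χ : IrrCharacter G} (hχ : χ ∈ pB M G) {i : ZMod q}
    (hi : i ≠ 0) : D.n χ i = D.N χ (D.orb hi) := by
  obtain ⟨t, ht, h⟩ := (D.orb_eq_iff (D.orb hi).out.2 hi).1 (D.orb_out _)
  rw [Gen.N]
  conv_lhs => rw [h]
  exact D.n_orbit hM hχ ht

theorem Gen.filter_self {i : ZMod q} (hi : i ≠ 0) :
    (D.E.filter (fun t => i * t = i)).card = 1 := by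
  refine Finset.card_eq_one.2 ⟨1, ?_⟩
  ext r
  simp only [Finset.mem_filter, Finset.mem_singleton]
  exact ⟨fun ⟨hr, hra⟩ => D.free hr hi (by rw [mul_comm]; exact hra),
    fun h => h ▸ ⟨D.one_mem_E, mul_one _⟩⟩

theorem Gen.diag (hM : IsPModular p M) (o : D.Orb) :
    ∑ χ ∈ pB M G, D.N χ o ^ 2 = (D.E.card : ℤ) + 1 := by
  simp only [sq, Gen.N]
  rw [D.gram hM o.out.2 o.out.2, D.filter_self o.out.2]
  push_cast
  ring

theorem Gen.offdiag (hM : IsPModular p M) {o o' : D.Orb} (h : o ≠ o') :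
    ∑ χ ∈ pB M G, D.N χ o * D.N χ o' = D.E.card := by
  simp only [Gen.N]
  rw [D.gram hM o.out.2 o'.out.2]
  have : D.E.filter (fun t => o'.out.1 * t = o.out.1) = ∅ :=
    Finset.filter_eq_empty_iff.2 fun t ht he => h (by
      rw [← D.orb_out o, ← D.orb_out o']
      exact ((D.orb_eq_iff o'.out.2 o.out.2).2 ⟨t, ht, by rw [mul_comm]; exact he.symm⟩).symm)
  rw [this]
  simp

theorem Gen.diff (hM : IsPModular p M) {o o' : D.Orb} (h : o ≠ o') :
    ∑ χ ∈ pB M G, (D.N χ o - D.N χ o') ^ 2 = 2 := by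
  have e : ∀ χ : IrrCharacter G, (D.N χ o - D.N χ o') ^ 2 =
      D.N χ o ^ 2 - (D.N χ o * D.N χ o' + D.N χ o * D.N χ o') + D.N χ o' ^ 2 := fun χ => by ring
  rw [Finset.sum_congr rfl fun χ _ => e χ]
  simp only [Finset.sum_add_distrib, Finset.sum_sub_distrib]
  rw [D.diag hM, D.diag hM, D.offdiag hM h]
  ring

theorem Gen.card_orb_filter (o : D.Orb) [DecidablePred fun i : ZMod q => ∃ hi : i ≠ 0, D.orb hi = o] :
    (Finset.univ.filter (fun i : ZMod q => ∃ hi : i ≠ 0, D.orb hi = o)).card = D.E.card := by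
  classical
  rw [← D.card_class o.out.2]
  congr 1
  ext i
  simp only [Finset.mem_filter, Finset.mem_univ, true_and]
  constructor
  · rintro ⟨hi, h⟩
    exact D.conj_iff.2 ((D.orb_eq_iff o.out.2 hi).1 ((D.orb_out o).trans h.symm))
  · intro h
    have hi : i ≠ 0 := fun h0 => o.out.2 (D.pw_eq_one_iff.1 (by
      rw [h0, D.pw_zero] at h
      exact isConj_one_left.1 h))
    exact ⟨hi, ((D.orb_eq_iff hi o.out.2).2 (D.conj_iff.1 h.symm)).trans (D.orb_out o)⟩

theorem Gen.card_orb : Fintype.card D.Orb * D.E.card = q - 1 := by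
  classical
  have h : (Finset.univ.erase (0 : ZMod q)) =
      Finset.univ.biUnion (fun o : D.Orb => Finset.univ.filter (fun i : ZMod q => ∃ hi : i ≠ 0, D.orb hi = o)) := by
    ext i
    simp only [Finset.mem_erase, Finset.mem_univ, and_true, Finset.mem_biUnion, Finset.mem_filter,
      true_and]
    exact ⟨fun hi => ⟨D.orb hi, hi, rfl⟩, fun ⟨_, hi, _⟩ => hi⟩
  have h2 := congrArg Finset.card h
  rw [Finset.card_erase_of_mem (Finset.mem_univ _), Finset.card_univ, ZMod.card,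
    Finset.card_biUnion] at h2
  · rw [h2, Finset.sum_congr rfl fun o _ => D.card_orb_filter o, Finset.sum_const, smul_eq_mul,
      Finset.card_univ]
  · intro o _ o' _ hne
    simp only [Function.onFun]
    rw [Finset.disjoint_filter]
    rintro i - ⟨hi, h1⟩ ⟨hi', h2⟩
    exact hne (h1.symm.trans h2)

/-- The sum over the singular elements. -/
theorem Gen.sum_singular_irr (hM : IsPModular p M) (χ : IrrCharacter G) (hχ : χ ∈ pB M G) :
    (D.E.card : ℂ) * (q : ℂ) * ∑ g ∈ Finset.univ.filter (fun g : G => p ∣ orderOf g), (χ : G → ℂ) g =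
      (Nat.card G : ℂ) * ∑ j ∈ Finset.univ.erase (0 : ZMod q), (χ : G → ℂ) (D.pw j) := by
  classical
  have hp : p.Prime := Fact.out
  set S := Finset.univ.filter (fun g : G => p ∣ orderOf g) with hS
  have key : ∑ j ∈ Finset.univ.erase (0 : ZMod q), ∑ g ∈ sec p (D.pw j), (χ : G → ℂ) g =
      (D.E.card : ℂ) * ∑ g ∈ S, (χ : G → ℂ) g := by
    have h1 : ∀ j ∈ Finset.univ.erase (0 : ZMod q), ∑ g ∈ sec p (D.pw j), (χ : G → ℂ) g =
        ∑ g ∈ S, if g ∈ sec p (D.pw j) then (χ : G → ℂ) g else 0 := by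
      intro j hj
      rw [← Finset.sum_filter]
      refine Finset.sum_congr ?_ fun _ _ => rfl
      ext g
      simp only [Finset.mem_filter, hS, Finset.mem_univ, true_and, iff_and_self]
      intro hg
      simp only [sec, Finset.mem_filter, Finset.mem_univ, true_and] at hg
      obtain ⟨w, hgw, hjw⟩ := hg
      obtain ⟨k, hk⟩ := D.pow_q j
      have hwo : orderOf w = p ^ k := by
        obtain ⟨c, rfl⟩ := isConj_iff.1 hjw
        rw [← MulAut.conj_apply, MulEquiv.orderOf_eq, hk]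
      refine Nat.dvd_trans ?_ (orderOf_dvd_of_mem_zpowers (Block.mem_zpowers_of_pPart hgw))
      rw [hwo]
      refine dvd_pow_self p fun h0 => (Finset.ne_of_mem_erase hj) (D.pw_eq_one_iff.1 ?_)
      rw [← orderOf_eq_one_iff, hk, h0, pow_zero]
    rw [Finset.sum_congr rfl h1, Finset.sum_comm, Finset.mul_sum]
    refine Finset.sum_congr rfl fun g hg => ?_
    rw [hS, Finset.mem_filter] at hg
    obtain ⟨u, v, huv, hc, hu, hv, hu1⟩ := RegProd.exists_part hg.2
    obtain ⟨i, hiu⟩ := D.exists_conj_pw hu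
    have hi : i ≠ 0 := fun h0 => hu1 (by
      rw [h0, D.pw_zero] at hiu
      exact isConj_one_right.1 hiu)
    rw [← Finset.sum_filter, Finset.sum_const, nsmul_eq_mul, ← D.card_class hi]
    congr 2
    refine congrArg Finset.card ?_
    ext j
    simp only [Finset.mem_filter, Finset.mem_erase, Finset.mem_univ, true_and, and_true, sec]
    constructor
    · rintro ⟨-, w, hgw, hjw⟩
      rw [pPart_unique hgw ⟨v, huv, hc, hu, hv⟩] at hjw
      exact hiu.trans hjw.symm
    · intro hij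
      refine ⟨fun h0 => ?_, u, ⟨v, huv, hc, hu, hv⟩, hij.symm.trans hiu⟩
      rw [h0, D.pw_zero] at hij
      exact hi (D.pw_eq_one_iff.1 (isConj_one_left.1 hij))
  have h2 : ∀ j ∈ Finset.univ.erase (0 : ZMod q), (q : ℂ) * ∑ g ∈ sec p (D.pw j), (χ : G → ℂ) g =
      (Nat.card G : ℂ) * (χ : G → ℂ) (D.pw j) := fun j hj => by
    have := D.sum_sec_irr hM (Finset.ne_of_mem_erase hj) χ
    rwa [if_pos (mem_pB.1 hχ)] at this
  rw [Finset.mul_sum (a := (Nat.card G : ℂ)), ← Finset.sum_congr rfl h2, ← Finset.mul_sum, key]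
  ring

theorem Gen.regTot_eq (hM : IsPModular p M) (χ : IrrCharacter G) (hχ : χ ∈ pB M G)
    [Decidable (χ = trivialIrr G)] :
    (q : ℂ) * (D.E.card : ℂ) * regTot p (χ : G → ℂ) = (Nat.card G : ℂ) *
      ((if χ = trivialIrr G then (q : ℂ) * (D.E.card : ℂ) else 0) + ∑ i, (D.n χ i : ℂ)) := by
  classical
  have hall : ∑ g : G, (χ : G → ℂ) g = if χ = trivialIrr G then (Nat.card G : ℂ) else 0 := by
    have h := classInner_irr_eq_ite χ.2 (isIrr_one (G := G))
    rw [classInner] at h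
    simp only [map_one, mul_one] at h
    have hG : (Nat.card G : ℂ) ≠ 0 := Nat.cast_ne_zero.2 Nat.card_pos.ne'
    rw [inv_mul_eq_iff_eq_mul₀ hG] at h
    rw [h]
    by_cases h' : χ = trivialIrr G
    · rw [if_pos h', if_pos (show (χ : G → ℂ) = fun _ => 1 from congrArg Subtype.val h'), mul_one]
    · rw [if_neg h', if_neg (fun e => h' (Subtype.ext e) : ¬ (χ : G → ℂ) = fun _ => 1), mul_zero]
  have hsplit := Finset.sum_filter_add_sum_filter_not Finset.univ
    (fun g : G => p ∣ orderOf g) (fun g => (χ : G → ℂ) g)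
  rw [hall] at hsplit
  rw [regTot, D.sum_n]
  have hs := D.sum_singular_irr hM χ hχ
  by_cases h : χ = trivialIrr G
  · rw [if_pos h] at hsplit ⊢
    linear_combination (q : ℂ) * (D.E.card : ℂ) * hsplit - hs
  · rw [if_neg h] at hsplit ⊢
    linear_combination (q : ℂ) * (D.E.card : ℂ) * hsplit - hs

/-- The product of two classes of a `p`-element misses the sections of elements of larger order. -/
theorem Gen.triple_eq (hM : IsPModular p M) {x : G} {j : ZMod q} (hj : j ≠ 0)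
    (hmiss : ∀ g : G, ∀ w, IsPPart p (x * (g * x * g⁻¹)) w → ¬ IsConj (D.pw (-j)) w) :
    ∑ χ ∈ pB M G, (χ : G → ℂ) (D.pw j) * (χ : G → ℂ) x * (χ : G → ℂ) x / (χ : G → ℂ) 1 = 0 := by
  classical
  set f : G → ℂ := fun g => if g ∈ sec p (D.pw (-j)) then 1 else 0 with hfdef
  have hord : ∀ t a : G, orderOf (t * a * t⁻¹) = orderOf a := fun t a => by
    rw [← MulAut.conj_apply, MulEquiv.orderOf_eq]
  have hsec : ∀ g t : G, g ∈ sec p (D.pw (-j)) → t * g * t⁻¹ ∈ sec p (D.pw (-j)) := by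
    intro g t hg
    simp only [sec, Finset.mem_filter, Finset.mem_univ, true_and] at hg ⊢
    obtain ⟨w, ⟨v, hwv, hc, ⟨k, hk⟩, hv⟩, hw⟩ := hg
    exact ⟨t * w * t⁻¹, ⟨t * v * t⁻¹, by rw [← hwv]; group, hc.map (MulAut.conj t).toMonoidHom,
      ⟨k, by rw [hord, hk]⟩, by rwa [hord]⟩, hw.trans (isConj_iff.2 ⟨t, rfl⟩)⟩
  have hf : IsClassFunction G f := fun g t => by
    simp only [hfdef]
    refine if_congr ⟨fun h => ?_, hsec g t⟩ rfl rfl
    simpa [mul_assoc] using hsec _ t⁻¹ h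
  have hG : (Nat.card G : ℂ) ≠ 0 := Nat.cast_ne_zero.2 Nat.card_pos.ne'
  have hq := Gen.q_ne (q := q)
  have h := sum_classFun_mul_conj hf x x
  have hzero : ∑ g : G, f (x * (g * x * g⁻¹)) = 0 := Finset.sum_eq_zero fun g _ => by
    simp only [hfdef]
    refine if_neg fun h => ?_
    simp only [sec, Finset.mem_filter, Finset.mem_univ, true_and] at h
    obtain ⟨w, hw, hc⟩ := h
    exact hmiss g w hw hc
  rw [hzero, mul_zero] at h
  have hinner : ∀ χ : IrrCharacter G, (q : ℂ) * classInner f (χ : G → ℂ) =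
      if χ ∈ pB M G then (χ : G → ℂ) (D.pw j) else 0 := fun χ => by
    have h1 : classInner f (χ : G → ℂ) =
        (Nat.card G : ℂ)⁻¹ * conj (∑ g ∈ sec p (D.pw (-j)), (χ : G → ℂ) g) := by
      rw [classInner, map_sum]
      congr 1
      simp only [hfdef, ite_mul, one_mul, zero_mul]
      rw [← Finset.sum_filter]
      exact Finset.sum_congr (by ext; simp) fun _ _ => rfl
    have h2 := congrArg conj (D.sum_sec_irr hM (i := -j) (neg_ne_zero.2 hj) χ)
    simp only [map_mul, map_natCast, apply_ite conj, map_zero] at h2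
    rw [h1, mul_left_comm, h2, ← mul_assoc, inv_mul_cancel₀ hG, one_mul]
    refine if_congr mem_pB.symm ?_ rfl
    rw [← irr_apply_inv, D.pw_neg, inv_inv]
  have h3 := congrArg (fun z => (q : ℂ) * z) h.symm
  simp only [mul_zero, Finset.mul_sum] at h3
  have e : ∀ χ : IrrCharacter G,
      (q : ℂ) * (classInner f (χ : G → ℂ) * (χ : G → ℂ) x * (χ : G → ℂ) x / (χ : G → ℂ) 1) =
      if χ ∈ pB M G then (χ : G → ℂ) (D.pw j) * (χ : G → ℂ) x * (χ : G → ℂ) x / (χ : G → ℂ) 1 else 0 :=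
    fun χ => by
      rw [show (q : ℂ) * (classInner f (χ : G → ℂ) * (χ : G → ℂ) x * (χ : G → ℂ) x / (χ : G → ℂ) 1) =
        (q : ℂ) * classInner f (χ : G → ℂ) * (χ : G → ℂ) x * (χ : G → ℂ) x / (χ : G → ℂ) 1 by ring,
        hinner]
      split_ifs
      · rfl
      · ring
  rw [Finset.sum_congr rfl fun χ _ => e χ, ← Finset.sum_filter,
    Finset.filter_mem_eq_inter, Finset.univ_inter] at h3
  exact h3

omit [Fintype G] in
/-- The exceptional and constant rows give the contradiction. -/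
theorem arith_out {q e T σ : ℚ} (he : 2 ≤ e) (hq : 2 * e + 1 ≤ q) (hσe : σ ≤ e)
    (hT : -σ / 3 ≤ T) (h : (e - 1) * q - σ + (q - 1) * T = 0) : False := by
  nlinarith [mul_le_mul_of_nonneg_left hT (by linarith : (0 : ℚ) ≤ q - 1),
    mul_le_mul_of_nonneg_left hσe (by linarith : (0 : ℚ) ≤ q - 1)]

set_option maxHeartbeats 1600000 in
/-- No non-abelian simple group has this shape. -/
theorem false_of_simple [IsSimpleGroup G] (hna : ¬ IsMulCommutative G) (hp2 : p ≠ 2) (hq1 : q ≠ 1)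
    (D : Gen G p q)
    (hpair : ∀ x y : G, orderOf x = p → orderOf y = p →
      IsPSolvable p (Subgroup.closure ({x, y} : Set G))) : False := by
  classical
  have hp : p.Prime := Fact.out
  obtain ⟨a, ha⟩ := D.exists_pPow
  have ha1 : 1 ≤ a := by
    by_contra h
    exact hq1 (by rw [ha, show a = 0 by omega, pow_zero])
  have hpq : p ∣ q := ha ▸ dvd_pow_self p (by omega)
  have hq2 : 2 ≤ q := hp.two_le.trans (Nat.le_of_dvd (NeZero.pos q) hpq)
  have h10 : (1 : ZMod q) ≠ 0 := by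
    intro h
    have h1 : D.pw 1 = 1 := by rw [h, D.pw_zero]
    rw [D.pw_one] at h1
    exact hq1 (by rw [← D.ord, h1, orderOf_one])
  have hcyc : IsCyclic (D.P : Subgroup G) := by rw [← D.zp]; infer_instance
  obtain ⟨M, hM⟩ := Cfsg.Agent.Char.exists_isPModular p hp
  -- the element of order `p`
  set s₀ : ZMod q := ((q / p : ℕ) : ZMod q) with hs₀
  set x := D.pw s₀ with hxdef
  have hxo : orderOf x = p := by
    rw [hxdef, D.pw_eq_pow (q / p) rfl, orderOf_pow' _ (by
      exact Nat.div_ne_zero_iff.2 ⟨hp.ne_zero, Nat.le_of_dvd (NeZero.pos q) hpq⟩), D.ord,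
      Nat.gcd_eq_right (Nat.div_dvd_of_dvd hpq), Nat.div_div_self hpq (NeZero.ne q)]
  have hs0 : s₀ ≠ 0 := fun h => by
    rw [hxdef, h, D.pw_zero, orderOf_one] at hxo
    exact hp.one_lt.ne hxo
  have hps : (p : ZMod q) * s₀ = 0 := by
    rw [hs₀, ← Nat.cast_mul, Nat.mul_div_cancel' hpq, ZMod.natCast_self]
  -- the automizer is not trivial
  have he2 : 2 ≤ D.E.card := by
    by_contra hlt
    have hE : ∀ t ∈ D.E, t = 1 := fun t ht =>
      Finset.card_le_one.1 (show D.E.card ≤ 1 by omega) t ht 1 D.one_mem_E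
    have hdvd : p ∣ Nat.card G :=
      hpq.trans (D.card_P ▸ Subgroup.card_subgroup_dvd_card _)
    refine Fus.simple_no_complement hna hdvd ?_
    have hNC : Subgroup.normalizer ((D.P : Subgroup G) : Set G) ≤
        Subgroup.centralizer ((D.P : Subgroup G) : Set G) := by
      intro n hn
      obtain ⟨t, ht⟩ := D.exists_pw ((Subgroup.mem_normalizer_iff.1 hn D.g₀).1 (D.pw_one ▸ D.pw_mem 1))
      have ht1 : t = 1 := hE t (D.mem_E.2 (isConj_iff.2 ⟨n, ht.symm⟩))
      rw [ht1, D.pw_one, eq_comm, mul_inv_eq_iff_eq_mul] at ht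
      refine Subgroup.mem_centralizer_iff.2 fun w hw => ?_
      obtain ⟨j, rfl⟩ := D.exists_pw hw
      exact ((show Commute n D.g₀ from ht).pow_right j.val).eq.symm
    exact ⟨D.P, _, MonoidHom.normal_ker _, MonoidHom.ker_transferSylow_isComplement' D.P hNC⟩
  -- one class: elementary abelian
  by_cases hall : ∀ j : ZMod q, j ≠ 0 → IsConj (D.pw 1) (D.pw j)
  · have hqp : q = p := by
      have h := hall s₀ hs0
      obtain ⟨c, hc⟩ := isConj_iff.1 h
      have h2 : orderOf (D.pw 1) = p := by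
        refine Eq.trans ?_ hxo
        rw [hxdef, ← hc, ← MulAut.conj_apply, MulEquiv.orderOf_eq]
      rw [D.pw_one, D.ord] at h2
      exact h2
    have hconj : ∀ u ∈ (D.P : Subgroup G), ∀ w ∈ (D.P : Subgroup G), u ≠ 1 → w ≠ 1 →
        ∃ g : G, g * u * g⁻¹ = w := by
      intro u hu w hw hu1 hw1
      obtain ⟨i, rfl⟩ := D.exists_pw hu
      obtain ⟨l, rfl⟩ := D.exists_pw hw
      exact isConj_iff.1 ((hall i fun h => hu1 (D.pw_eq_one_iff.2 h)).symm.trans
        (hall l fun h => hw1 (D.pw_eq_one_iff.2 h)))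
    haveI := D.comm_P
    refine hp2 (Cfsg.Agent.S1951.result hna D.P ?_ ?_ hconj ?_ ?_ hpair)
    · intro h
      have := D.card_P
      rw [h, Subgroup.card_bot] at this
      exact hq1 this.symm
    · refine ⟨D.comm_P, fun u hu => ?_⟩
      rw [← orderOf_dvd_iff_pow_eq_one, ← Subgroup.orderOf_mk u hu]
      exact (orderOf_dvd_natCard _).trans (dvd_of_eq (D.card_P.trans hqp))
    · rintro u hu w hw ⟨g, hg⟩
      obtain ⟨n, hn, hn'⟩ := D.P.conj_eq_normalizer_conj_of_mem u g⁻¹ hu (by rw [inv_inv, hg]; exact hw)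
      refine ⟨n⁻¹, inv_mem hn, ?_⟩
      rw [inv_inv, hg] at hn'
      rw [inv_inv, ← hn']
    · intro u hu huo
      obtain ⟨i, rfl⟩ := D.exists_pw hu
      have hi : i ≠ 0 := fun h => by
        rw [h, D.pw_zero, orderOf_one] at huo
        exact hp.one_lt.ne huo
      obtain ⟨K, Q, hKn, hKQ, -⟩ := D.exists_complement hi
      exact ⟨Q, K, hKn, hKQ⟩
  push Not at hall
  obtain ⟨j₀, hj₀, hj₀n⟩ := hall
  have hne01 : D.orb h10 ≠ D.orb hj₀ := fun h => hj₀n (D.conj_iff.2 ((D.orb_eq_iff h10 hj₀).1 h))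
  set e : ℤ := (D.E.card : ℤ) with he
  set m : ℤ := (Fintype.card D.Orb : ℤ) with hm
  have hm2 : 2 ≤ m := by
    have : 1 < Fintype.card D.Orb := Fintype.one_lt_card_iff.2 ⟨_, _, hne01⟩
    omega
  have hme : m * e = (q : ℤ) - 1 := by
    have := D.card_orb
    rw [hm, he, ← Nat.cast_mul, this]
    omega
  have he2' : 2 ≤ e := by omega
  have h2e : 2 * e + 1 ≤ (q : ℤ) := by nlinarith
  let d : IrrCharacter G → ℤ := fun χ => (charDegree (χ : G → ℂ) : ℤ)
  have hdpos : ∀ χ, 0 < d χ := fun χ => by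
    simp only [d, Int.natCast_pos]; exact charDeg_pos χ
  obtain ⟨δ, Φ, k, hδ, hinj, hΦB, hΦ, hΦd, hconst⟩ :=
    TwoValued.exists_structure (B := pB M G) (d := d) (n := D.N) (fun χ _ => hdpos χ)
      (fun o => D.orth hM o.out.1) (fun o o' h => D.diff hM h) hne01
  set C := pB M G \ Finset.univ.image Φ with hC
  have hCB : ∀ χ ∈ C, χ ∈ pB M G := fun χ hχ => (Finset.mem_sdiff.1 hχ).1
  let c : IrrCharacter G → ℤ := fun χ => D.N χ (D.orb h10)
  have hc : ∀ χ ∈ C, ∀ i : ZMod q, i ≠ 0 → D.n χ i = c χ := fun χ hχ i hi => by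
    rw [D.n_eq_N hM (hCB χ hχ) hi]
    exact hconst χ (hCB χ hχ) (Finset.mem_sdiff.1 hχ).2 _ _
  set one := trivialIrr G with hone_def
  have honeB : one ∈ pB M G := mem_pB.2 (trivial_mem_principalBlock hM)
  have honeN : ∀ o, D.N one o = -1 := fun o => D.n_trivial o.out.2
  have honeC : one ∈ C := by
    refine Finset.mem_sdiff.2 ⟨honeB, fun h => ?_⟩
    obtain ⟨o, -, ho⟩ := Finset.mem_image.1 h
    obtain ⟨o', ho'⟩ : ∃ o', o' ≠ o := by
      by_cases h : D.orb h10 = o
      · exact ⟨D.orb hj₀, fun h' => hne01 (h.trans h'.symm)⟩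
      · exact ⟨_, h⟩
    have h1 := hΦ o o
    have h2 := hΦ o o'
    rw [if_pos rfl, ho, honeN] at h1
    rw [if_neg ho', ho, honeN] at h2
    omega
  set C' := C.erase one with hC'
  have hcone : c one = -1 := honeN _
  have hdone : d one = 1 := by
    have h : ((charDegree (one : G → ℂ) : ℕ) : ℂ) = ((1 : ℕ) : ℂ) := by
      rw [← charDeg_spec', hone_def]; simp [trivialIrr]
    have h' : charDegree (one : G → ℂ) = 1 := by exact_mod_cast h
    show ((charDegree (one : G → ℂ) : ℕ) : ℤ) = 1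
    rw [h']; rfl
  set σ : ℤ := ∑ χ ∈ C', c χ ^ 2 with hσ
  have hσ0 : 0 ≤ σ := Finset.sum_nonneg fun χ _ => sq_nonneg _
  -- sums over the block
  have hsplitB : ∀ {A : Type} [AddCommMonoid A] (f : IrrCharacter G → A),
      ∑ χ ∈ pB M G, f χ = f one + ∑ χ ∈ C', f χ + ∑ o, f (Φ o) := by
    intro A _ f
    rw [Finset.add_sum_erase C f honeC, hC, ← Finset.sum_image (f := f) (g := Φ) fun o _ o' _ h => hinj h,
      Finset.sum_sdiff]
    intro χ hχ
    obtain ⟨o, -, rfl⟩ := Finset.mem_image.1 hχ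
    exact hΦB o
  -- the common value of `k`
  have hS : ∀ o, ∑ i, D.n (Φ o) i = ((q : ℤ) - 1) * k o + e * δ := by
    intro o
    rw [← Finset.add_sum_erase _ _ (Finset.mem_univ (0 : ZMod q)), D.n_zero, zero_add,
      Finset.sum_congr rfl (g := fun i => k o + if (∃ hi : i ≠ 0, D.orb hi = o) then δ else 0)
        fun i hi => by
          rw [D.n_eq_N hM (hΦB o) (Finset.ne_of_mem_erase hi), hΦ]
          congr 1
          exact if_congr ⟨fun h => ⟨_, h⟩, fun ⟨_, h⟩ => h⟩ rfl rfl,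
      Finset.sum_add_distrib, Finset.sum_const, Finset.card_erase_of_mem (Finset.mem_univ _),
      Finset.card_univ, ZMod.card, nsmul_eq_mul, ← Finset.sum_filter, Finset.sum_const, nsmul_eq_mul,
      Finset.filter_erase, Finset.erase_eq_of_notMem (by simp), D.card_orb_filter o,
      Nat.cast_sub (by omega : 1 ≤ q), Nat.cast_one]
  have hkb : ∀ o, k o ^ 2 ≤ e + 1 := by
    intro o
    obtain ⟨o', ho'⟩ : ∃ o', o' ≠ o := by
      by_cases h : D.orb h10 = o
      · exact ⟨D.orb hj₀, fun h' => hne01 (h.trans h'.symm)⟩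
      · exact ⟨_, h⟩
    rw [he, ← D.diag hM o']
    refine le_trans (le_of_eq ?_) (Finset.single_le_sum (fun χ _ => sq_nonneg (D.N χ o')) (hΦB o))
    rw [hΦ o o', if_neg ho', add_zero]
  set k₀ : ℤ := k (D.orb h10) with hk₀
  have hk : ∀ o, k o = k₀ := by
    intro o
    have hdd : d (Φ o) = d (Φ (D.orb h10)) := hΦd _ _
    simp only [d] at hdd
    rw [D.deg_eq, D.deg_eq, hS, hS, ← hk₀] at hdd
    have h1 : (q : ℤ) ∣ k o - k₀ :=
      ⟨k o - k₀ + ((D.A (Φ o) : ℤ) - D.A (Φ (D.orb h10))), by linear_combination -hdd⟩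
    have b1 := hkb o
    have b2 := hkb (D.orb h10)
    rw [← hk₀] at b2
    have a1 : 2 * k o ≤ e + 2 := by nlinarith [sq_nonneg (k o - 1)]
    have a2 : -(e + 2) ≤ 2 * k o := by nlinarith [sq_nonneg (k o + 1)]
    have a3 : 2 * k₀ ≤ e + 2 := by nlinarith [sq_nonneg (k₀ - 1)]
    have a4 : -(e + 2) ≤ 2 * k₀ := by nlinarith [sq_nonneg (k₀ + 1)]
    have hlt : |k o - k₀| < (q : ℤ) := by rw [abs_lt]; omega
    have := Int.eq_zero_of_abs_lt_dvd h1 hlt
    omega
  set K : ℤ := m * k₀ ^ 2 + 2 * δ * k₀ with hKdef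
  have hσK : 1 + σ + K = e := by
    have h := D.diag hM (D.orb h10)
    rw [hsplitB] at h
    have h1 : ∑ o, D.N (Φ o) (D.orb h10) ^ 2 = m * k₀ ^ 2 + (2 * δ * k₀ + 1) := by
      rw [Finset.sum_congr rfl (g := fun o => k₀ ^ 2 + if D.orb h10 = o then 2 * δ * k₀ + 1 else 0)
        fun o _ => by
          rw [hΦ, hk]
          split_ifs
          · rcases hδ with h | h <;> rw [h] <;> ring
          · ring,
        Finset.sum_add_distrib, Finset.sum_const, Finset.card_univ, nsmul_eq_mul,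
        Finset.sum_ite_eq, if_pos (Finset.mem_univ _), ← hm]
    rw [h1, honeN, ← he] at h
    have h2 : ∑ χ ∈ C', D.N χ (D.orb h10) ^ 2 = σ := rfl
    rw [h2] at h
    linarith
  -- values on the Sylow subgroup
  have hvalC : ∀ χ ∈ C, ∀ {s : ZMod q}, s ≠ 0 → (χ : G → ℂ) (D.pw s) = -(c χ : ℂ) := by
    intro χ hχ s hs
    rw [D.value_eq χ hs, ← Finset.add_sum_erase _ _ (Finset.mem_univ (0 : ZMod q)), D.n_zero,
      Int.cast_zero, zero_mul, zero_add,
      Finset.sum_congr rfl (g := fun i => (c χ : ℂ) * psi q (i * s)) fun i hi => by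
        rw [hc χ hχ i (Finset.ne_of_mem_erase hi)],
      ← Finset.mul_sum]
    have h := psi_sum s
    rw [if_neg hs, ← Finset.add_sum_erase _ _ (Finset.mem_univ (0 : ZMod q)), zero_mul,
      AddChar.map_zero_eq_one] at h
    linear_combination (c χ : ℂ) * h
  have hSC : ∀ χ ∈ C, ∑ i, D.n χ i = ((q : ℤ) - 1) * c χ := fun χ hχ => by
    rw [← Finset.add_sum_erase _ _ (Finset.mem_univ (0 : ZMod q)), D.n_zero, zero_add,
      Finset.sum_congr rfl fun i hi => hc χ hχ i (Finset.ne_of_mem_erase hi), Finset.sum_const,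
      Finset.card_erase_of_mem (Finset.mem_univ _), Finset.card_univ, ZMod.card, nsmul_eq_mul,
      Nat.cast_sub (by omega : 1 ≤ q), Nat.cast_one]
  set S₀ : ℤ := ((q : ℤ) - 1) * k₀ + e * δ with hS₀
  set d₀ : ℤ := d (Φ (D.orb h10)) with hd₀
  have hd₀pos : 0 < d₀ := hdpos _
  -- lower bound for the degree of a constant row with negative value
  have hdC : ∀ χ ∈ C', c χ < 0 → (q : ℤ) - c χ ≤ d χ := by
    intro χ hχ hneg
    have hχC := Finset.mem_of_mem_erase hχ
    have hA : -(D.A χ : ℤ) ≤ c χ := hc χ hχC 1 h10 ▸ D.neg_A_le χ 1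
    have hdeq : d χ = -(c χ) + (q : ℤ) * ((D.A χ : ℤ) + c χ) := by
      simp only [d]
      rw [D.deg_eq, hSC χ hχC]; ring
    rcases (show (D.A χ : ℤ) + c χ = 0 ∨ 1 ≤ (D.A χ : ℤ) + c χ by omega) with h | h
    · exfalso
      rw [h, mul_zero, add_zero] at hdeq
      have hval : (χ : G → ℂ) x = (χ : G → ℂ) 1 := by
        rw [hxdef, hvalC χ hχC hs0, charDeg_spec',
          show ((charDegree (χ : G → ℂ) : ℕ) : ℂ) = ((d χ : ℤ) : ℂ) by simp [d], hdeq]
        push_cast
        ring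
      have hker : x ∈ charKer (IsIrr.isCharacter χ.2) := (mem_charKer _).2 hval
      rcases (charKer_normal (IsIrr.isCharacter χ.2)).eq_bot_or_eq_top with h' | h'
      · rw [h', Subgroup.mem_bot] at hker
        rw [hker, orderOf_one] at hxo
        exact hp.one_lt.ne hxo
      · have hct : ∀ g : G, (χ : G → ℂ) g = (χ : G → ℂ) 1 := fun g =>
          (mem_charKer _).1 (h' ▸ Subgroup.mem_top g)
        refine Finset.ne_of_mem_erase hχ (Subtype.ext (eq_of_constituent_irr χ.2 isIrr_one ?_))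
        rw [classInner, Finset.sum_congr rfl (g := fun _ => (χ : G → ℂ) 1) fun g _ => by
          simp [hct g, one, trivialIrr]]
        simp [Nat.card_pos.ne', Fintype.card_ne_zero, IsIrr.one_ne_zero χ.2]
    · nlinarith
  set T : ℚ := ∑ χ ∈ C', (c χ : ℚ) ^ 3 / (d χ : ℚ) with hT
  -- the count of regular products
  set Nreg : ZMod q → ℕ := fun l =>
    (Finset.univ.filter (fun g : G => ¬ p ∣ orderOf (x * (g * D.pw l * g⁻¹)))).card with hNreg
  have master : ∀ l : ZMod q, l ≠ 0 →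
      (q : ℚ) * (e : ℚ) * (Nreg l : ℚ) / (Nat.card G : ℚ) =
        (q : ℚ) * (e : ℚ) - ((q : ℚ) - 1) + ((q : ℚ) - 1) * T +
          (S₀ : ℚ) * ((if IsConj x (D.pw (-l)) then (q : ℚ) else 0) - 1 - (σ : ℚ)) / (d₀ : ℚ) := by
    intro l hl
    have hnl : (-l) ≠ 0 := neg_ne_zero.2 hl
    have h := RegProd.count_regular hM x (D.pw l)
    rw [sum_pB] at h
    have hG : (Nat.card G : ℂ) ≠ 0 := Nat.cast_ne_zero.2 Nat.card_pos.ne'
    have hterm : ∀ χ ∈ pB M G, (q : ℂ) * (e : ℂ) / (Nat.card G : ℂ) *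
        (conj (regTot p (χ : G → ℂ)) * (χ : G → ℂ) x * (χ : G → ℂ) (D.pw l) / (χ : G → ℂ) 1) =
        (((if χ = one then (q : ℂ) * (e : ℂ) else 0) + ((∑ i, D.n χ i : ℤ) : ℂ)) / (d χ : ℂ)) *
          ((χ : G → ℂ) x * conj ((χ : G → ℂ) (D.pw (-l)))) := by
      intro χ hχ
      have hr := congrArg conj (D.regTot_eq hM χ hχ)
      simp only [map_mul, map_add, map_natCast, map_intCast, map_sum, apply_ite conj, map_zero] at hr
      have hdd : (χ : G → ℂ) 1 = (d χ : ℂ) := by simp [d, charDeg_spec']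
      have hd0 : (d χ : ℂ) ≠ 0 := Int.cast_ne_zero.2 (hdpos χ).ne'
      rw [hdd, ← irr_apply_inv, D.pw_neg, inv_inv, he]
      push_cast
      field_simp
      linear_combination ((χ : G → ℂ) x * (χ : G → ℂ) (D.pw l)) * hr
    have h2 := congrArg (fun z => (q : ℂ) * (e : ℂ) / (Nat.card G : ℂ) * z) h
    simp only [Finset.mul_sum] at h2
    rw [Finset.sum_congr rfl hterm, hsplitB] at h2
    have hcol := D.column hM hs0 hnl
    rw [hsplitB] at hcol
    have hC1 : ∀ χ ∈ C, (χ : G → ℂ) x * conj ((χ : G → ℂ) (D.pw (-l))) = (c χ : ℂ) * (c χ : ℂ) := by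
      intro χ hχ
      rw [hxdef, hvalC χ hχ hs0, hvalC χ hχ hnl, map_neg, map_intCast]
      ring
    rw [← hxdef] at hcol
    rw [hC1 one honeC, Finset.sum_congr rfl fun χ hχ => hC1 χ (Finset.mem_of_mem_erase hχ)] at hcol
    have hΦsum : ∑ o, (((if Φ o = one then (q : ℂ) * (e : ℂ) else 0) + ((∑ i, D.n (Φ o) i : ℤ) : ℂ)) / (d (Φ o) : ℂ)) *
          ((Φ o : G → ℂ) x * conj ((Φ o : G → ℂ) (D.pw (-l)))) =
        (S₀ : ℂ) / (d₀ : ℂ) * ∑ o, ((Φ o : G → ℂ) x * conj ((Φ o : G → ℂ) (D.pw (-l)))) := by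
      rw [Finset.mul_sum]
      refine Finset.sum_congr rfl fun o _ => ?_
      rw [if_neg (fun h : Φ o = one => (Finset.mem_sdiff.1 honeC).2
        (Finset.mem_image.2 ⟨o, Finset.mem_univ _, h⟩)),
        hS o, hk o, hd₀, hΦd o (D.orb h10), zero_add]
    have hCsum : ∑ χ ∈ C', (((if χ = one then (q : ℂ) * (e : ℂ) else 0) + ((∑ i, D.n χ i : ℤ) : ℂ)) / (d χ : ℂ)) *
          ((χ : G → ℂ) x * conj ((χ : G → ℂ) (D.pw (-l)))) =
        ((q : ℂ) - 1) * ∑ χ ∈ C', (c χ : ℂ) ^ 3 / (d χ : ℂ) := by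
      rw [Finset.mul_sum]
      refine Finset.sum_congr rfl fun χ hχ => ?_
      rw [if_neg (Finset.ne_of_mem_erase hχ), hSC χ (Finset.mem_of_mem_erase hχ),
        hC1 χ (Finset.mem_of_mem_erase hχ)]
      push_cast
      ring
    rw [hCsum, hΦsum, if_pos rfl, hSC one honeC, hC1 one honeC, hcone, hdone] at h2
    have hσC : ∑ χ ∈ C', (c χ : ℂ) * (c χ : ℂ) = (σ : ℂ) := by
      rw [hσ, Int.cast_sum]
      exact Finset.sum_congr rfl fun χ _ => by push_cast; ring
    rw [hσC, hcone] at hcol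
    have hX : ∑ o, ((Φ o : G → ℂ) x * conj ((Φ o : G → ℂ) (D.pw (-l)))) =
        (if IsConj x (D.pw (-l)) then (q : ℂ) else 0) - 1 - (σ : ℂ) := by
      push_cast at hcol
      linear_combination hcol
    rw [hX] at h2
    have h3 : (((q : ℚ) * (e : ℚ) * (Nreg l : ℚ) / (Nat.card G : ℚ) : ℚ) : ℂ) =
        (((q : ℚ) * (e : ℚ) - ((q : ℚ) - 1) + ((q : ℚ) - 1) * T +
          (S₀ : ℚ) * ((if IsConj x (D.pw (-l)) then (q : ℚ) else 0) - 1 - (σ : ℚ)) / (d₀ : ℚ) : ℚ) : ℂ) := by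
      rw [hT]
      simp only [Rat.cast_add, Rat.cast_sub, Rat.cast_mul, Rat.cast_div, Rat.cast_natCast,
        Rat.cast_intCast, Rat.cast_one, Rat.cast_sum, Rat.cast_pow, apply_ite (Rat.cast : ℚ → ℂ),
        Rat.cast_zero]
      rw [show (q : ℂ) * (e : ℂ) * (Nreg l : ℂ) / (Nat.card G : ℂ) =
        (q : ℂ) * (e : ℂ) / (Nat.card G : ℂ) * (Nreg l : ℂ) by ring]
      simp only [hNreg]
      rw [h2]
      push_cast
      ring
    exact_mod_cast h3
  -- multiples of `s₀`
  have hmult : ∀ k : ℕ, D.pw ((k : ZMod q) * s₀) = x ^ k := fun k => by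
    rw [hxdef, mul_comm, D.pw_mul, ← pow_mod_orderOf, ← hxdef, hxo, ZMod.val_natCast,
      Nat.mod_mod_of_dvd _ hpq]
    conv_rhs => rw [← pow_mod_orderOf, hxo]
  have hzo : ∀ g : G, orderOf (g * x * g⁻¹) = p := fun g => by
    rw [← MulAut.conj_apply, MulEquiv.orderOf_eq, hxo]
  have hkne : ∀ k : ℕ, 1 ≤ k → k < p → (k : ZMod q) * s₀ ≠ 0 := fun k hk1 hkp h => by
    have h1 := hmult k
    rw [h, D.pw_zero, eq_comm, ← orderOf_dvd_iff_pow_eq_one, hxo] at h1
    exact absurd (Nat.le_of_dvd (by omega) h1) (by omega)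
  have hregiff : ∀ (g : G) (k : ℕ), x * (g * x * g⁻¹) ^ k = x * (g * D.pw ((k : ZMod q) * s₀) * g⁻¹) :=
    fun g k => by rw [hmult, conj_pow]
  have hzero : ∀ k : ℕ, 1 ≤ k → k < p → ¬ IsConj x (D.pw (-((k : ZMod q) * s₀))) →
      Nreg ((k : ZMod q) * s₀) = 0 := by
    intro k hk1 hkp hnc
    rw [hNreg]
    simp only
    rw [Finset.card_eq_zero, Finset.filter_eq_empty_iff]
    intro g _ hreg
    obtain ⟨k₁, -, -, hconj, hiff, -⟩ :=
      CyclicPairs.pair_in_group D.P hcyc hpair hxo (hzo g)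
    rw [← hregiff] at hreg
    rw [(hiff k hkp).1 hreg] at hnc
    apply hnc
    rw [D.pw_neg, hmult]
    refine hconj.trans (isConj_iff.2 ⟨g⁻¹, ?_⟩)
    rw [conj_pow]
    group
  -- the multipliers
  set Eset := (Finset.Ico 1 p).filter (fun k : ℕ => IsConj x (D.pw (-((k : ZMod q) * s₀)))) with hEset
  have hconjord : ∀ i : ZMod q, IsConj x (D.pw i) → ∃ k ∈ Eset, i = -((k : ZMod q) * s₀) := by
    intro i hi
    have hio : orderOf (D.pw (-i)) = p := by
      obtain ⟨g, hg⟩ := isConj_iff.1 hi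
      rw [D.pw_neg, orderOf_inv, ← hg, hzo]
    haveI := hcyc
    have hmem : D.pw (-i) ∈ Subgroup.zpowers x := by
      cases nonempty_fintype (D.P : Subgroup G)
      set A : (D.P : Subgroup G) := ⟨x, hxdef ▸ D.pw_mem s₀⟩
      have hA : orderOf A = p := by rw [← Subgroup.orderOf_coe]; exact hxo
      have hsub : (Finset.univ.filter (fun w => w ∈ Subgroup.zpowers A)) ⊆
          Finset.univ.filter (fun w : (D.P : Subgroup G) => w ^ p = 1) := fun w hw => by
        simp only [Finset.mem_filter, Finset.mem_univ, true_and] at hw ⊢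
        exact orderOf_dvd_iff_pow_eq_one.1 ((orderOf_dvd_of_mem_zpowers hw).trans (dvd_of_eq hA))
      have heq := Finset.eq_of_subset_of_card_le hsub (le_trans
        (IsCyclic.card_pow_eq_one_le hp.pos) (le_of_eq (hA.symm.trans (by
          rw [← Nat.card_zpowers, Nat.card_eq_fintype_card, ← Fintype.card_subtype]))))
      have hb : (⟨_, D.pw_mem (-i)⟩ : (D.P : Subgroup G)) ∈
          Finset.univ.filter (fun w => w ∈ Subgroup.zpowers A) := by
        rw [heq]
        simp only [Finset.mem_filter, Finset.mem_univ, true_and]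
        exact Subtype.ext (orderOf_dvd_iff_pow_eq_one.1 (dvd_of_eq hio))
      obtain ⟨r, hr⟩ := Subgroup.mem_zpowers_iff.1 (Finset.mem_filter.1 hb).2
      exact Subgroup.mem_zpowers_iff.2 ⟨r, congrArg Subtype.val hr⟩
    obtain ⟨r, hr⟩ := (mem_powers_iff_mem_zpowers (G := G)).2 hmem
    have hr' : x ^ (r % p) = D.pw (-i) := by
      rw [← hr, ← hxo, pow_mod_orderOf]
    have hr1 : 1 ≤ r % p := by
      by_contra h0
      rw [show r % p = 0 by omega, pow_zero] at hr'
      rw [← hr', orderOf_one] at hio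
      exact hp.one_lt.ne hio
    have heq : -i = ((r % p : ℕ) : ZMod q) * s₀ := D.pw_injective (by rw [hmult, hr'])
    refine ⟨r % p, ?_, by rw [← heq, neg_neg]⟩
    rw [hEset, Finset.mem_filter, Finset.mem_Ico, ← heq, neg_neg]
    exact ⟨⟨hr1, Nat.mod_lt _ hp.pos⟩, hi⟩
  have hinjk : ∀ a ∈ Finset.Ico 1 p, ∀ b ∈ Finset.Ico 1 p,
      (a : ZMod q) * s₀ = (b : ZMod q) * s₀ → a = b := by
    intro a ha b hb h
    simp only [Finset.mem_Ico] at ha hb
    have h1 := congrArg D.pw h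
    rwa [hmult, hmult, pow_eq_pow_iff_modEq, hxo, Nat.ModEq, Nat.mod_eq_of_lt ha.2,
      Nat.mod_eq_of_lt hb.2] at h1
  have hEcard : Eset.card = D.E.card := by
    rw [← D.card_class hs0]
    refine Finset.card_bij (fun k _ => -((k : ZMod q) * s₀)) (fun k hk => ?_) (fun a ha b hb h => ?_)
      fun i hi => ?_
    · rw [hEset, Finset.mem_filter] at hk
      simp only [Finset.mem_filter, Finset.mem_univ, true_and]
      exact hk.2
    · exact hinjk a (Finset.mem_filter.1 ha).1 b (Finset.mem_filter.1 hb).1 (neg_injective h)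
    · simp only [Finset.mem_filter, Finset.mem_univ, true_and] at hi
      obtain ⟨k, hk, rfl⟩ := hconjord i hi
      exact ⟨k, hk, rfl⟩
  have hNin : ∀ k ∈ Eset, (e : ℚ) * (Nreg ((k : ZMod q) * s₀) : ℚ) = (Nat.card G : ℚ) := by
    have htot : ∑ k ∈ Finset.Ico 1 p, Nreg ((k : ZMod q) * s₀) = Nat.card G := by
      rw [Nat.card_eq_fintype_card, ← Finset.card_univ, hNreg]
      simp only
      rw [← Finset.card_biUnion]
      · congr 1
        ext g
        simp only [Finset.mem_biUnion, Finset.mem_filter, Finset.mem_univ, true_and, iff_true]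
        obtain ⟨k₁, h1, h2, -, hiff, -⟩ := CyclicPairs.pair_in_group D.P hcyc hpair hxo (hzo g)
        exact ⟨k₁, Finset.mem_Ico.2 ⟨h1, h2⟩, by rw [← hregiff]; exact (hiff k₁ h2).2 rfl⟩
      · intro a ha b hb hab
        simp only [Function.onFun]
        rw [Finset.disjoint_filter]
        intro g _ hga hgb
        obtain ⟨k₁, -, -, -, hiff, -⟩ := CyclicPairs.pair_in_group D.P hcyc hpair hxo (hzo g)
        rw [← hregiff] at hga hgb
        simp only [Finset.coe_Ico, Set.mem_Ico] at ha hb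
        exact hab (((hiff a ha.2).1 hga).trans ((hiff b hb.2).1 hgb).symm)
    rw [← Finset.sum_subset (s₁ := Eset) (Finset.filter_subset _ _) (fun k hk hkn => by
      refine hzero k (Finset.mem_Ico.1 hk).1 (Finset.mem_Ico.1 hk).2 fun hc => hkn ?_
      exact Finset.mem_filter.2 ⟨hk, hc⟩)] at htot
    intro k hk
    have hsame : ∀ a ∈ Eset, (Nreg ((a : ZMod q) * s₀) : ℚ) = (Nreg ((k : ZMod q) * s₀) : ℚ) := by
      intro a ha
      rw [hEset, Finset.mem_filter, Finset.mem_Ico] at ha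
      have hk' := hk
      rw [hEset, Finset.mem_filter, Finset.mem_Ico] at hk'
      have hqe : (q : ℚ) * (e : ℚ) / (Nat.card G : ℚ) ≠ 0 := by
        have : (e : ℚ) ≠ 0 := by exact_mod_cast (show e ≠ 0 by omega)
        exact div_ne_zero (mul_ne_zero (Nat.cast_ne_zero.2 (NeZero.ne q)) this)
          (Nat.cast_ne_zero.2 Nat.card_pos.ne')
      refine mul_left_cancel₀ hqe ?_
      have e1 := master _ (hkne a ha.1.1 ha.1.2)
      have e2 := master _ (hkne k hk'.1.1 hk'.1.2)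
      rw [if_pos ha.2] at e1
      rw [if_pos hk'.2] at e2
      linear_combination e1 - e2
    have htotq : ∑ a ∈ Eset, (Nreg ((a : ZMod q) * s₀) : ℚ) = (Nat.card G : ℚ) := by
      exact_mod_cast htot
    rw [Finset.sum_congr rfl hsame, Finset.sum_const, hEcard, nsmul_eq_mul] at htotq
    rw [← htotq, he]
    push_cast
    ring
  obtain ⟨k₁, hk₁⟩ : Eset.Nonempty := Finset.card_pos.1 (by omega)
  have hk₁' := hk₁
  rw [hEset, Finset.mem_filter, Finset.mem_Ico] at hk₁'
  have hin : (q : ℚ) * (e : ℚ) - ((q : ℚ) - 1) + ((q : ℚ) - 1) * T +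
      (S₀ : ℚ) * ((q : ℚ) - 1 - (σ : ℚ)) / (d₀ : ℚ) = (q : ℚ) := by
    have h := master _ (hkne k₁ hk₁'.1.1 hk₁'.1.2)
    rw [if_pos hk₁'.2] at h
    rw [← h, show (q : ℚ) * (e : ℚ) * (Nreg ((k₁ : ZMod q) * s₀) : ℚ) =
      (q : ℚ) * ((e : ℚ) * (Nreg ((k₁ : ZMod q) * s₀) : ℚ)) by ring, hNin k₁ hk₁]
    field_simp
  have hσe : σ ≤ e := by
    rcases hδ with h | h <;> rw [h] at hKdef <;>
      nlinarith [sq_nonneg (k₀ + 1), sq_nonneg (k₀ - 1)]
  have hqQ : (2 : ℚ) * e + 1 ≤ q := by exact_mod_cast h2e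
  by_cases hout : ∃ k ∈ Finset.Ico 1 p, k ∉ Eset
  · -- a multiplier outside the automizer
    obtain ⟨k₂, hk₂, hk₂n⟩ := hout
    have hnc : ¬ IsConj x (D.pw (-((k₂ : ZMod q) * s₀))) := fun h => hk₂n (Finset.mem_filter.2 ⟨hk₂, h⟩)
    rw [Finset.mem_Ico] at hk₂
    have h := master _ (hkne k₂ hk₂.1 hk₂.2)
    rw [if_neg hnc, hzero k₂ hk₂.1 hk₂.2 hnc] at h
    simp only [Nat.cast_zero, mul_zero, zero_div, zero_sub] at h
    have hd0 : (d₀ : ℚ) ≠ 0 := by exact_mod_cast hd₀pos.ne'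
    have hdiff : (S₀ : ℚ) * (q : ℚ) / (d₀ : ℚ) = (q : ℚ) := by linear_combination hin + h
    have hS0d : (S₀ : ℚ) / (d₀ : ℚ) = 1 := by
      have hq0 : (q : ℚ) ≠ 0 := Nat.cast_ne_zero.2 (NeZero.ne q)
      refine mul_right_cancel₀ hq0 ?_
      rw [one_mul, div_mul_eq_mul_div]; exact hdiff
    refine arith_out (q := (q : ℚ)) (e := (e : ℚ)) (T := T) (σ := (σ : ℚ)) (by exact_mod_cast he2') hqQ
      (by exact_mod_cast hσe) ?_ ?_
    · rw [hT, hσ]
      push_cast
      rw [← Finset.sum_neg_distrib, Finset.sum_div]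
      refine Finset.sum_le_sum fun χ hχ => ?_
      have hd : (0 : ℚ) < d χ := by exact_mod_cast hdpos χ
      rcases le_or_gt 0 (c χ) with h0 | h0
      · have h0' : (0 : ℚ) ≤ c χ := by exact_mod_cast h0
        exact le_trans (by have := sq_nonneg (c χ : ℚ); linarith) (div_nonneg (pow_nonneg h0' 3) hd.le)
      · have hb : ((q : ℤ) : ℚ) - (c χ : ℚ) ≤ (d χ : ℚ) := by exact_mod_cast hdC χ hχ h0
        have hc1 : c χ ^ 2 ≤ e := le_trans (Finset.single_le_sum (fun j _ => sq_nonneg (c j)) hχ) hσe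
        have hc2 : (-(e : ℤ) : ℚ) ≤ (c χ : ℚ) := by
          exact_mod_cast (show -e ≤ c χ by nlinarith)
        rw [le_div_iff₀ hd]
        push_cast at hb hc2
        nlinarith [sq_nonneg (c χ : ℚ), mul_le_mul_of_nonneg_left hb (sq_nonneg (c χ : ℚ)),
          mul_le_mul_of_nonneg_left hc2 (sq_nonneg (c χ : ℚ)),
          mul_le_mul_of_nonneg_left hqQ (sq_nonneg (c χ : ℚ))]
    · rw [show (S₀ : ℚ) * (-1 - (σ : ℚ)) / (d₀ : ℚ) = (S₀ : ℚ) / (d₀ : ℚ) * (-1 - (σ : ℚ)) by ring,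
        hS0d, one_mul] at h
      linear_combination -h
  -- all multipliers
  push Not at hout
  have hep : e = (p : ℤ) - 1 := by
    have : Eset = Finset.Ico 1 p := Finset.Subset.antisymm (Finset.filter_subset _ _) hout
    rw [this, Nat.card_Ico] at hEcard
    rw [he, ← hEcard]
    have := hp.one_lt
    omega
  have hqbig : (p : ℤ) * p ≤ q := by
    have : 2 ≤ a := by
      by_contra hlt
      have ha' : a = 1 := by omega
      rw [ha', pow_one] at ha
      have : (p : ℤ) = q := by exact_mod_cast ha.symm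
      nlinarith
    have : p ^ 2 ≤ q := ha ▸ Nat.pow_le_pow_right hp.pos this
    rw [pow_two] at this
    exact_mod_cast this
  have hpm : (p : ℤ) + 1 ≤ m := by nlinarith
  have hk00 : k₀ = 0 := by
    by_contra hne
    have h1 : 1 ≤ k₀ ^ 2 := by nlinarith [mul_self_pos.2 hne]
    rcases hδ with h | h <;> rw [h] at hKdef <;>
      nlinarith [sq_nonneg (k₀ + 1), sq_nonneg (k₀ - 1),
        mul_nonneg (show (0 : ℤ) ≤ m - p - 1 by omega) (sq_nonneg k₀)]
  rw [hk00] at hKdef hS₀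
  have hK0 : K = 0 := by rw [hKdef]; ring
  have hσ1 : σ = e - 1 := by omega
  have hS0 : S₀ = e * δ := by rw [hS₀]; ring
  have hdΦ : δ = -1 → (q : ℤ) - e ≤ d₀ := by
    intro hd1
    have : d₀ = S₀ + (q : ℤ) * D.A (Φ (D.orb h10)) := by
      simp only [hd₀, d]
      rw [D.deg_eq, hS, ← hk₀, hk00, hS0]; ring
    rw [hS0, hd1] at this
    have hApos : 1 ≤ (D.A (Φ (D.orb h10)) : ℤ) := by
      by_contra h
      rw [show (D.A (Φ (D.orb h10)) : ℤ) = 0 by omega] at this
      nlinarith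
    nlinarith
  by_cases hp3 : p = 3
  · -- the section of a generator
    have he' : e = 2 := by rw [hep, hp3]; rfl
    have hdecomp : ∃ χ₁ ∈ C', c χ₁ ^ 2 = 1 ∧ ∀ χ ∈ C', χ ≠ χ₁ → c χ = 0 := by
      have h1 : σ = 1 := by omega
      obtain ⟨χ₁, hχ₁, hne⟩ := Finset.exists_ne_zero_of_sum_ne_zero (show σ ≠ 0 by omega)
      have hpos : 0 < c χ₁ ^ 2 := lt_of_le_of_ne (sq_nonneg _) (Ne.symm hne)
      have hsum := Finset.add_sum_erase C' (fun χ => c χ ^ 2) hχ₁
      have hrest := Finset.sum_nonneg (s := C'.erase χ₁) (f := fun χ => c χ ^ 2) fun χ _ => sq_nonneg _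
      refine ⟨χ₁, hχ₁, by linarith, fun χ hχ hne => ?_⟩
      have h0 : ∑ j ∈ C'.erase χ₁, c j ^ 2 = 0 := by linarith
      exact sq_eq_zero_iff.1 ((Finset.sum_eq_zero_iff_of_nonneg fun j _ => sq_nonneg (c j)).1 h0 χ
        (Finset.mem_erase.2 ⟨hne, hχ⟩))
    obtain ⟨χ₁, hχ₁, hc1, hc0⟩ := hdecomp
    have hχ₁C := Finset.mem_of_mem_erase hχ₁
    -- the automizer is `±1`
    obtain ⟨t, ht, ht1, hneg⟩ : ∃ t ∈ D.E, t ≠ 1 ∧ t = -1 := by
      obtain ⟨t, ht, ht1⟩ : ∃ t ∈ D.E, t ≠ (1 : ZMod q) := by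
        by_contra h
        push Not at h
        have := Finset.card_le_card (fun t ht => Finset.mem_singleton.2 (h t ht) : D.E ⊆ {1})
        simp at this
        omega
      have hE2 : D.E = {1, t} := by
        symm
        refine Finset.eq_of_subset_of_card_le ?_ ?_
        · intro r hr
          simp at hr
          rcases hr with rfl | rfl
          · exact D.one_mem_E
          · exact ht
        · rw [Finset.card_pair (Ne.symm ht1)]; omega
      have htt := D.mul_mem_E ht ht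
      rw [hE2, Finset.mem_insert, Finset.mem_singleton] at htt
      rcases htt with htt | htt
      · refine ⟨t, ht, ht1, ?_⟩
        by_contra hne
        have hne' : t + 1 ≠ 0 := fun h => hne (eq_neg_of_add_eq_zero_left h)
        exact ht1 (D.free ht hne' (by rw [mul_add, htt, mul_one, add_comm]))
      · exact absurd (D.free ht h10 (by
          rw [mul_one]
          exact ((D.isUnit_E ht).mul_left_cancel (htt.trans (mul_one t).symm)))) ht1
    have hE : D.E = {1, -1} := by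
      symm
      refine Finset.eq_of_subset_of_card_le ?_ ?_
      · intro r hr
        simp at hr
        rcases hr with rfl | rfl
        · exact D.one_mem_E
        · exact hneg ▸ ht
      · rw [Finset.card_pair (fun h => ht1 (hneg.trans h.symm))]; omega
    have hsq : ∀ o, ((Φ o : G → ℂ) x) * ((Φ o : G → ℂ) x) = (δ : ℂ) * (Φ o : G → ℂ) x + 2 := by
      intro o
      set r := o.out.1 with hr
      have hr0 : r ≠ 0 := o.out.2
      have hrne : r ≠ -r := fun h => ht1 (D.free ht hr0 (by rw [hneg, neg_one_mul, ← h]))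
      have hfil : Finset.univ.filter (fun i : ZMod q => ∃ hi : i ≠ 0, D.orb hi = o) = {r, -r} := by
        symm
        refine Finset.eq_of_subset_of_card_le ?_ ?_
        · intro i hi
          simp only [Finset.mem_insert, Finset.mem_singleton] at hi
          simp only [Finset.mem_filter, Finset.mem_univ, true_and]
          rcases hi with rfl | rfl
          · exact ⟨hr0, D.orb_out o⟩
          · exact ⟨neg_ne_zero.2 hr0, ((D.orb_eq_iff _ hr0).2
              ⟨-1, hneg ▸ ht, by ring⟩).trans (D.orb_out o)⟩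
        · rw [D.card_orb_filter, Finset.card_pair hrne]; omega
      have hv : (Φ o : G → ℂ) x = (δ : ℂ) * (psi q (r * s₀) + psi q (-(r * s₀))) := by
        rw [hxdef, D.value_eq _ hs0]
        have hn : ∀ i, (D.n (Φ o) i : ℂ) * psi q (i * s₀) =
            if (∃ hi : i ≠ 0, D.orb hi = o) then (δ : ℂ) * psi q (i * s₀) else 0 := by
          intro i
          by_cases hi : i = 0
          · rw [hi, D.n_zero, if_neg (fun ⟨h, _⟩ => h rfl)]; simp
          · rw [D.n_eq_N hM (hΦB o) hi, hΦ, hk, hk00]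
            by_cases h : D.orb hi = o
            · rw [if_pos h, if_pos ⟨hi, h⟩]; simp
            · rw [if_neg h, if_neg (fun ⟨_, h'⟩ => h h')]; simp
        rw [Finset.sum_congr rfl fun i _ => hn i, ← Finset.sum_filter, hfil, Finset.sum_pair hrne,
          neg_mul]
        ring
      rw [hv]
      set z := psi q (r * s₀)
      set w := psi q (-(r * s₀))
      have h3 : (3 : ZMod q) * s₀ = 0 := by rw [← hps, hp3]; norm_num
      have hzw : z * w = 1 := by
        simp only [z, w, ← AddChar.map_add_eq_mul, add_neg_cancel, AddChar.map_zero_eq_one]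
      have hz2 : z * z = w := by
        simp only [z, w, ← AddChar.map_add_eq_mul]
        congr 1
        linear_combination r * h3
      have hw2 : w * w = z := by
        simp only [z, w, ← AddChar.map_add_eq_mul]
        congr 1
        linear_combination -r * h3
      have hδ2 : (δ : ℂ) * δ = 1 := by rcases hδ with h | h <;> rw [h] <;> norm_num
      linear_combination (z * z + 2 * z * w + w * w - z - w) * hδ2 + hz2 + hw2 + 2 * hzw
    -- the equation
    have hmiss : ∀ g : G, ∀ w, IsPPart p (x * (g * x * g⁻¹)) w → ¬ IsConj (D.pw (-1 : ZMod q)) w := by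
      intro g w hw hc
      obtain ⟨-, -, -, -, -, hexp⟩ := CyclicPairs.pair_in_group D.P hcyc hpair hxo (hzo g)
      have h1 : w ^ p = 1 := hexp 1 w (by rw [pow_one]; exact hw)
      obtain ⟨b, hb⟩ := isConj_iff.1 hc
      have h2 : orderOf w = q := by
        rw [← hb, ← MulAut.conj_apply, MulEquiv.orderOf_eq, D.pw_neg, orderOf_inv, D.pw_one, D.ord]
      have h3 : q ∣ p := h2 ▸ orderOf_dvd_of_pow_eq_one h1
      have := Nat.le_of_dvd hp.pos h3
      nlinarith
    have htri := D.triple_eq hM (x := x) h10 hmiss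
    rw [hsplitB] at htri
    have hu_ne : ¬ IsConj x (D.pw (-1 : ZMod q)) := fun h => by
      obtain ⟨b, hb⟩ := isConj_iff.1 h
      have h1 : orderOf (D.pw (-1 : ZMod q)) = p := by rw [← hb, hzo]
      rw [D.pw_neg, orderOf_inv, D.pw_one, D.ord] at h1
      nlinarith
    have hcol := D.column hM hs0 (neg_ne_zero.2 h10)
    rw [← hxdef, if_neg hu_ne, hsplitB] at hcol
    have hcu : ∀ χ : IrrCharacter G, conj ((χ : G → ℂ) (D.pw (-1 : ZMod q))) = (χ : G → ℂ) (D.pw 1) :=
      fun χ => by rw [← irr_apply_inv, D.pw_neg, inv_inv]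
    simp only [hcu] at hcol
    have hsingle : ∀ (f : IrrCharacter G → ℂ), (∀ χ ∈ C', c χ = 0 → f χ = 0) →
        ∑ χ ∈ C', f χ = f χ₁ := fun f hf => by
      rw [Finset.sum_eq_single χ₁ (fun χ hχ hne => hf χ hχ (hc0 χ hχ hne)) (fun h => absurd hχ₁ h)]
    have hv : ∀ χ ∈ C, (χ : G → ℂ) x = -(c χ : ℂ) ∧ (χ : G → ℂ) (D.pw 1) = -(c χ : ℂ) := fun χ hχ =>
      ⟨hxdef ▸ hvalC χ hχ hs0, hvalC χ hχ h10⟩
    have hz : ∀ χ ∈ C', c χ = 0 → (χ : G → ℂ) x = 0 ∧ (χ : G → ℂ) (D.pw 1) = 0 := fun χ hχ h0 => by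
      have := hv χ (Finset.mem_of_mem_erase hχ)
      rw [h0] at this
      simpa using this
    rw [hsingle _ (fun χ hχ h0 => by rw [(hz χ hχ h0).1]; simp), (hv one honeC).1, (hv one honeC).2,
      hcone, (hv χ₁ hχ₁C).1, (hv χ₁ hχ₁C).2] at hcol
    rw [hsingle _ (fun χ hχ h0 => by rw [(hz χ hχ h0).1]; simp), (hv one honeC).1, (hv one honeC).2,
      hcone, (hv χ₁ hχ₁C).1, (hv χ₁ hχ₁C).2] at htri
    have horth1 := D.column_one hM h10
    rw [hsplitB, hsingle _ (fun χ hχ h0 => by rw [(hz χ hχ h0).2]; simp), (hv one honeC).2, hcone,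
      (hv χ₁ hχ₁C).2] at horth1
    have hdeg : ∀ χ : IrrCharacter G, (χ : G → ℂ) 1 = (d χ : ℂ) := fun χ => by simp [d, charDeg_spec']
    have hdc : ∀ χ : IrrCharacter G, (charDegree (χ : G → ℂ) : ℂ) = (d χ : ℂ) := fun χ => by simp [d]
    simp only [hdc, hdone] at horth1
    simp only [hdeg, hdone] at htri
    -- degrees
    have hrel : d₀ * δ = 1 - d χ₁ * c χ₁ := by
      have h := D.orth hM (D.orb h10).out.1
      rw [hsplitB] at h
      have h1 : ∑ χ ∈ C', (charDegree (χ : G → ℂ) : ℤ) * D.n χ (D.orb h10).out.1 = d χ₁ * c χ₁ := by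
        rw [Finset.sum_eq_single χ₁ (fun χ hχ hne => by
          rw [hc χ (Finset.mem_of_mem_erase hχ) _ (D.orb h10).out.2, hc0 χ hχ hne, mul_zero])
          (fun h => absurd hχ₁ h), hc χ₁ hχ₁C _ (D.orb h10).out.2]
      have h2 : ∑ o, (charDegree (Φ o : G → ℂ) : ℤ) * D.n (Φ o) (D.orb h10).out.1 = d₀ * δ := by
        rw [Finset.sum_eq_single (D.orb h10) (fun o _ hne => ?_) (fun h => absurd (Finset.mem_univ _) h)]
        · show d (Φ (D.orb h10)) * D.N (Φ (D.orb h10)) (D.orb h10) = d₀ * δ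
          rw [hΦ, if_pos rfl, ← hk₀, hk00, zero_add]
        · show d (Φ o) * D.N (Φ o) (D.orb h10) = 0
          rw [hΦ, if_neg (fun h => hne h.symm), hk, hk00, add_zero, mul_zero]
      rw [h1, h2, hc one honeC _ (D.orb h10).out.2, hcone, show (charDegree (one : G → ℂ) : ℤ) = 1 from hdone] at h
      linarith
    have hrelC : (d₀ : ℂ) * (δ : ℂ) = 1 - (d χ₁ : ℂ) * (c χ₁ : ℂ) := by exact_mod_cast hrel
    have hd0C : (d₀ : ℂ) ≠ 0 := Int.cast_ne_zero.2 hd₀pos.ne'
    have hΦ1 : ∑ o, (Φ o : G → ℂ) (D.pw 1) = -(δ : ℂ) := by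
      rw [Finset.sum_congr rfl fun o _ => by rw [hΦd o (D.orb h10), ← hd₀], ← Finset.mul_sum] at horth1
      refine mul_left_cancel₀ hd0C ?_
      push_cast at horth1
      linear_combination horth1 + hrelC
    have hcC : (c χ₁ : ℂ) * (c χ₁ : ℂ) = 1 := by rw [← pow_two]; exact_mod_cast hc1
    have hδ2 : (δ : ℂ) * δ = 1 := by rcases hδ with h | h <;> rw [h] <;> norm_num
    have hΦ2 : ∑ o, (Φ o : G → ℂ) (D.pw 1) * (Φ o : G → ℂ) x * (Φ o : G → ℂ) x / (d (Φ o) : ℂ) =
        -4 * (δ : ℂ) / (d₀ : ℂ) := by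
      rw [Finset.sum_congr rfl (g := fun o => ((δ : ℂ) * ((Φ o : G → ℂ) x * (Φ o : G → ℂ) (D.pw 1)) +
          2 * (Φ o : G → ℂ) (D.pw 1)) / (d₀ : ℂ)) fun o _ => by
        rw [hΦd o (D.orb h10), ← hd₀, mul_assoc _ ((Φ o : G → ℂ) x), hsq o]
        ring,
        ← Finset.sum_div, Finset.sum_add_distrib, ← Finset.mul_sum, ← Finset.mul_sum, hΦ1]
      congr 1
      push_cast at hcol
      linear_combination (δ : ℂ) * hcol - (δ : ℂ) * hcC
    rw [hΦ2] at htri
    have hd1C : (d χ₁ : ℂ) ≠ 0 := Int.cast_ne_zero.2 (hdpos χ₁).ne'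
    have hfin : ((d χ₁ - c χ₁) * (1 - d χ₁ * c χ₁) - 4 * d χ₁ : ℤ) = 0 := by
      have hfinC : ((d χ₁ : ℂ) - (c χ₁ : ℂ)) * (1 - (d χ₁ : ℂ) * (c χ₁ : ℂ)) - 4 * (d χ₁ : ℂ) = 0 := by
        push_cast at htri
        field_simp at htri
        have e3 : (c χ₁ : ℂ) ^ 3 = c χ₁ := by linear_combination (c χ₁ : ℂ) * hcC
        rw [← hrelC]
        linear_combination (δ : ℂ) * htri + (d₀ : ℂ) * (δ : ℂ) * e3 + 4 * (d χ₁ : ℂ) * hδ2
      exact_mod_cast hfinC
    rcases sq_eq_one_iff.1 hc1 with h | h <;> rw [h] at hfin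
    · nlinarith [hdpos χ₁]
    · have hd1 : d χ₁ = 1 := by nlinarith [sq_nonneg (d χ₁ - 1)]
      have := hdC χ₁ hχ₁ (by omega)
      omega
  -- `p ≥ 5`
  have hp5 : 5 ≤ p := by
    have := hp.two_le
    by_contra h
    have : p = 4 := by omega
    rw [this] at hp
    norm_num at hp
  have heQ : (4 : ℚ) ≤ e := by exact_mod_cast (show (4 : ℤ) ≤ e by omega)
  have hqe : ((e : ℚ) + 1) ^ 2 ≤ q := by
    have : (e + 1) ^ 2 ≤ (q : ℤ) := by rw [hep]; ring_nf; nlinarith
    exact_mod_cast this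
  have hT1 : -((e : ℚ) - 1) ^ 2 / (q : ℚ) ≤ T := by
    rw [hT]
    have hσQ : ∑ χ ∈ C', (c χ : ℚ) ^ 2 = (e : ℚ) - 1 := by exact_mod_cast hσ1
    refine le_trans (le_of_eq ?_) (Finset.sum_le_sum (f := fun χ => -(((e : ℚ) - 1) / q * (c χ : ℚ) ^ 2))
      fun χ hχ => ?_)
    · rw [Finset.sum_neg_distrib, ← Finset.mul_sum, hσQ]; ring
    have hd : (0 : ℚ) < d χ := by exact_mod_cast hdpos χ
    have he1 : (0 : ℚ) ≤ ((e : ℚ) - 1) / q * (c χ : ℚ) ^ 2 :=
      mul_nonneg (div_nonneg (by linarith) (Nat.cast_nonneg q)) (sq_nonneg _)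
    rcases le_or_gt 0 (c χ) with h0 | h0
    · have h0' : (0 : ℚ) ≤ c χ := by exact_mod_cast h0
      exact le_trans (by linarith) (div_nonneg (pow_nonneg h0' 3) hd.le)
    · have h0' : (c χ : ℚ) < 0 := by exact_mod_cast h0
      have hb : (q : ℚ) ≤ (d χ : ℚ) := by
        have := hdC χ hχ h0
        exact_mod_cast (show (q : ℤ) ≤ d χ by omega)
      have hc2 : -((e : ℚ) - 1) ≤ (c χ : ℚ) := by
        have hc1 : c χ ^ 2 ≤ e - 1 :=
          le_trans (Finset.single_le_sum (fun j _ => sq_nonneg (c j)) hχ) hσ1.le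
        have : -(e - 1) ≤ c χ := by nlinarith
        exact_mod_cast this
      have hq0 : (0 : ℚ) < q := Nat.cast_pos.2 (NeZero.pos q)
      calc -(((e : ℚ) - 1) / q * (c χ : ℚ) ^ 2) ≤ (c χ : ℚ) ^ 3 / q := by
            rw [le_div_iff₀ hq0]
            field_simp
            nlinarith [mul_le_mul_of_nonneg_left hc2 (sq_nonneg (c χ : ℚ))]
        _ ≤ (c χ : ℚ) ^ 3 / d χ := by
            rw [div_le_div_iff₀ hq0 hd]
            nlinarith [mul_le_mul_of_nonneg_left hb (sq_nonneg (c χ : ℚ))]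
  have hbound : -(e : ℚ) ≤ (S₀ : ℚ) * ((q : ℚ) - 1 - (σ : ℚ)) / (d₀ : ℚ) := by
    have hd : (0 : ℚ) < d₀ := by exact_mod_cast hd₀pos
    rw [hS0, hσ1, le_div_iff₀ hd]
    push_cast
    rcases hδ with h | h
    · rw [h]; push_cast
      nlinarith
    · have hb : (q : ℚ) - e ≤ d₀ := by exact_mod_cast hdΦ h
      rw [h]; push_cast
      nlinarith
  have hq1' : (1 : ℚ) ≤ q := by linarith
  have hqT : -((e : ℚ) - 1) ^ 2 ≤ ((q : ℚ) - 1) * T := by
    have hq0 : (0 : ℚ) < q := by linarith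
    have h1 := mul_le_mul_of_nonneg_left hT1 (by linarith : (0 : ℚ) ≤ (q : ℚ) - 1)
    refine le_trans ?_ h1
    rw [← mul_div_assoc, le_div_iff₀ hq0]
    nlinarith [sq_nonneg ((e : ℚ) - 1)]
  nlinarith

end Cfsg.Agent.Invol.CyclicBlock
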