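import Cfsg.Agent.Lib.Transfer.PStableFree
import Cfsg.Agent.Lib.Grp.Solvable
import Cfsg.Agent.Lib.Block.PiKernel
import Cfsg.Agent.Lib.Fus.TransitivityOdd
import Cfsg.Prelude.Def_OddOrderLocal

/-!
The centralizer of a self-centralizing normal subgroup of the Fitting subgroup of a Hall subgroup.
-/

set_option autoImplicit false

namespace Cfsg.Agent.Invol.SCNHall

open Subgroup
open scoped commutatorElement
open Cfsg.Agent.Grp

universe u

variable {S : Type u} [Group S] [Finite S]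

theorem pElement_mem_pCore {r : ℕ} [Fact r.Prime] {x : S} (hx : x ∈ Cfsg.fittingSubgroup S)
    (hr : ∃ k, orderOf x = r ^ k) : x ∈ Cfsg.pCore r S := by
  have hFn := fittingSubgroup_isNormal (G := S)
  have := fittingSubgroup_isNilpotent (G := S)
  obtain ⟨P⟩ : Nonempty (Sylow r (Cfsg.fittingSubgroup S)) := inferInstance
  have : (P : Subgroup (Cfsg.fittingSubgroup S)).Characteristic := P.characteristic_of_normal inferInstance
  have hn : ((P : Subgroup (Cfsg.fittingSubgroup S)).map (Cfsg.fittingSubgroup S).subtype).Normal := inferInstance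
  refine le_pCore hn (P.isPGroup'.map _) ⟨⟨x, hx⟩, ?_, rfl⟩
  have hz : IsPGroup r (zpowers (⟨x, hx⟩ : Cfsg.fittingSubgroup S)) := by
    obtain ⟨k, hk⟩ := hr
    exact IsPGroup.of_card (n := k) (by rw [Nat.card_zpowers, Subgroup.orderOf_mk, hk])
  have hPn : (P : Subgroup (Cfsg.fittingSubgroup S)).Normal := inferInstance
  obtain ⟨Q, hQ⟩ := hz.exists_le_sylow
  have hu : Q = P := by
    have := Sylow.unique_of_normal P hPn
    exact Subsingleton.elim _ _
  exact hu ▸ hQ (mem_zpowers _)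

/-- A prime power element centralizing a self-centralizing subgroup normalized by the Fitting subgroup. -/
theorem mem_of_centralizes [Group.IsSolvable S] {q : ℕ} [Fact q.Prime] (h5 : 5 ≤ q) {A : Subgroup S}
    (hFA : Cfsg.fittingSubgroup S ≤ normalizer (A : Set S))
    (hC : Cfsg.fittingSubgroup S ⊓ centralizer (A : Set S) ≤ A)
    {y : S} (hy : y ∈ centralizer (A : Set S)) (hyq : ∃ k, orderOf y = q ^ k) : y ∈ A := by
  classical
  obtain ⟨F, hF⟩ : ∃ F, F = Cfsg.fittingSubgroup S := ⟨_, rfl⟩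
  rw [← hF] at hFA hC
  have hFn : F.Normal := hF ▸ fittingSubgroup_isNormal
  have hyA : ⁅zpowers y, A⁆ = ⊥ := commutator_eq_bot_iff_le_centralizer.mpr (zpowers_le.mpr hy)
  have hAF : ⁅A, F⁆ ≤ A := commutator_le.mpr fun a ha f hf => by
    rw [commutatorElement_def, mul_assoc, mul_assoc]
    refine A.mul_mem ha ?_
    rw [← mul_assoc]
    exact (mem_normalizer_iff.mp (hFA hf) _).mp (A.inv_mem ha)
  have hFy : ⁅F, zpowers y⁆ ≤ A := by
    refine le_trans (le_inf (commutator_le_left F _) ?_) hC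
    rw [← commutator_eq_bot_iff_le_centralizer]
    have h1 : ⁅⁅zpowers y, A⁆, F⁆ = ⊥ := by rw [hyA, commutator_bot_left]
    have h2 : ⁅⁅A, F⁆, zpowers y⁆ = ⊥ := by
      rw [commutator_eq_bot_iff_le_centralizer]
      exact hAF.trans (le_centralizer_iff.mp (zpowers_le.mpr hy))
    exact commutator_commutator_eq_bot_of_rotate h1 h2
  have hq2 : ∀ v ∈ F, ⁅v, y⁆ * y = y * ⁅v, y⁆ := fun v hv =>
    (mem_centralizer_iff.mp hy _ (hFy (commutator_mem_commutator hv (mem_zpowers y))))
  have hPn := pCore_isNormal (p := q) (G := S)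
  have hPF : Cfsg.pCore q S ≤ F := hF ▸ pCore_le_fittingSubgroup
  have hquad : ⁅⁅Cfsg.pCore q S, zpowers y⁆, zpowers y⁆ = ⊥ := by
    rw [commutator_eq_bot_iff_le_centralizer]
    exact ((commutator_mono hPF le_rfl).trans hFy).trans (le_centralizer_iff.mp (zpowers_le.mpr hy))
  have hstab := Grp.Quad.isPStableOn_of_free (by omega : q ≠ 2)
    (Transfer.qdFree_of_isPSolvable h5 (Fus.TransOdd.isPSolvable_of_solvable Fact.out _ _ rfl inferInstance)) (Cfsg.pCore q S) pCore_isPGroup y hquad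
  obtain ⟨M, hM⟩ : ∃ M, M = (Cfsg.pCore q (S ⧸ centralizer (Cfsg.pCore q S : Set S))).comap
      (QuotientGroup.mk' (centralizer (Cfsg.pCore q S : Set S))) := ⟨_, rfl⟩
  have hMn : M.Normal := by
    rw [hM]
    exact (pCore_isNormal).comap _
  obtain ⟨L, hL⟩ : ∃ L, L = M ⊓ ⨅ r : {r : Nat.Primes // (r : ℕ) ≠ q},
      centralizer (Cfsg.pCore (r.1 : ℕ) S : Set S) := ⟨_, rfl⟩
  have hLn : L.Normal := by
    rw [hL]
    have : (⨅ r : {r : Nat.Primes // (r : ℕ) ≠ q}, centralizer (Cfsg.pCore (r.1 : ℕ) S : Set S)).Normal :=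
      Subgroup.normal_iInf_normal fun r => by
        have := pCore_isNormal (p := (r.1 : ℕ)) (G := S)
        infer_instance
    infer_instance
  have hyL : y ∈ L := by
    rw [hL]
    refine mem_inf.mpr ⟨hM ▸ hstab, mem_iInf.mpr fun r => ?_⟩
    have := Fact.mk r.1.2
    rw [mem_centralizer_iff]
    intro v hv
    have hvF : v ∈ F := hF ▸ pCore_le_fittingSubgroup hv
    obtain ⟨k, hk⟩ := hyq
    obtain ⟨d, hd⟩ : ∃ d, d = ⁅v, y⁆ := ⟨_, rfl⟩
    have hdy : Commute d y := hd ▸ hq2 v hvF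
    have hdR : d ∈ Cfsg.pCore (r.1 : ℕ) S := by
      rw [hd, commutatorElement_def, mul_assoc v, mul_assoc v]
      exact mul_mem hv ((pCore_isNormal).conj_mem _ (inv_mem hv) y)
    have hvy : v * y = d * y * v := by rw [hd, commutatorElement_def]; group
    have hpow : ∀ n : ℕ, v * y ^ n = d ^ n * y ^ n * v := by
      intro n
      induction n with
      | zero => simp
      | succ n ih =>
        rw [pow_succ y, ← mul_assoc v, ih, mul_assoc _ v y, hvy]
        have e : y ^ n * d = d * y ^ n := (hdy.pow_right n).eq.symm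
        calc d ^ n * y ^ n * (d * y * v) = d ^ n * (y ^ n * d) * y * v := by group
          _ = d ^ n * (d * y ^ n) * y * v := by rw [e]
          _ = d ^ (n + 1) * (y ^ n * y) * v := by rw [pow_succ]; group
    have h0 := hpow (q ^ k)
    rw [← hk, pow_orderOf_eq_one, mul_one, mul_one, hk] at h0
    have hd1 : d = 1 := by
      obtain ⟨j, hj⟩ := (pCore_isPGroup (p := (r.1 : ℕ)) (G := S)) ⟨d, hdR⟩
      have hj' : d ^ (r.1 : ℕ) ^ j = 1 := by simpa using congrArg Subtype.val hj
      have hk' : d ^ q ^ k = 1 := right_eq_mul.mp h0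
      have hco : Nat.Coprime ((r.1 : ℕ) ^ j) (q ^ k) :=
        ((Nat.coprime_primes r.1.2 Fact.out).mpr r.2).pow j k
      rw [← pow_one d, ← hco.gcd_eq_one]
      exact pow_gcd_eq_one.mpr ⟨hj', hk'⟩
    rwa [hd1, one_mul] at hvy
  have hLF : L ≤ F := by
    rw [hF]
    refine le_fittingSubgroup hLn ?_
    have hq : IsPGroup q (L ⧸ center L) := by
      intro x
      obtain ⟨l, rfl⟩ := QuotientGroup.mk'_surjective (center L) x
      refine ⟨(orderOf l).factorization q, ?_⟩
      rw [← map_pow, QuotientGroup.mk'_apply, QuotientGroup.eq_one_iff]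
      obtain ⟨m, hm⟩ : ∃ m, m = l ^ q ^ (orderOf l).factorization q := ⟨_, rfl⟩
      rw [← hm]
      have hmq : (orderOf m).Coprime q := by
        rw [hm, orderOf_pow_of_dvd (pow_ne_zero _ (Fact.out : q.Prime).ne_zero) (Nat.ordProj_dvd _ _)]
        exact (Nat.coprime_ordCompl Fact.out (orderOf_pos l).ne').symm
      -- it centralizes the q-part of the Fitting subgroup
      have hmM : (m : S) ∈ M := (mem_inf.mp (hL.le m.2)).1
      have hmC : (m : S) ∈ centralizer (Cfsg.pCore q S : Set S) := by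
        rw [hM, mem_comap] at hmM
        obtain ⟨a, ha⟩ := pCore_isPGroup (p := q) (G := S ⧸ centralizer (Cfsg.pCore q S : Set S)) ⟨_, hmM⟩
        have ha' : QuotientGroup.mk' (centralizer (Cfsg.pCore q S : Set S)) (m : S) ^ q ^ a = 1 := by
          simpa using congrArg Subtype.val ha
        rw [← QuotientGroup.eq_one_iff, ← QuotientGroup.mk'_apply, ← orderOf_eq_one_iff]
        exact Nat.eq_one_of_dvd_coprimes (hmq.pow_right a) ((orderOf_map_dvd _ _).trans (by rw [Subgroup.orderOf_coe]))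
          (orderOf_dvd_of_pow_eq_one ha')
      have hmF : (m : S) ∈ F := by
        rw [hF]
        refine centralizer_fittingSubgroup_le ?_
        rw [← zpowers_le, le_centralizer_iff, fittingSubgroup_eq_iSup_pCore]
        refine iSup_le fun r => le_centralizer_iff.mp (zpowers_le.mpr ?_)
        by_cases hr : (r : ℕ) = q
        · rw [hr]; exact hmC
        · exact mem_iInf.mp (mem_inf.mp (hL.le m.2)).2 ⟨r, hr⟩
      rw [mem_center_iff]
      intro z
      refine Subtype.ext ?_
      show (z : S) * (m : S) = (m : S) * (z : S)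
      have hsub : zpowers (m : S) ⊓ centralizer {(z : S)} = zpowers (m : S) := by
        refine eq_of_le_of_card_ge inf_le_left (Nat.le_of_dvd Nat.card_pos ?_)
        rw [Nat.card_zpowers]
        refine (Nat.dvd_iff_prime_pow_dvd_dvd _ _).mpr fun r k hr hk => ?_
        have := Fact.mk hr
        rcases k.eq_zero_or_pos with rfl | hkpos
        · simp
        have hrq : r ≠ q := by
          rintro rfl
          rw [Subgroup.orderOf_coe] at hk
          exact hr.one_lt.ne' (Nat.eq_one_of_dvd_coprimes hmq ((dvd_pow_self r hkpos.ne').trans hk) dvd_rfl)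
        have ho : orderOf ((m : S) ^ (orderOf (m : S) / r ^ k)) = r ^ k :=
          orderOf_pow_orderOf_div (orderOf_pos _).ne' hk
        have hmem : (m : S) ^ (orderOf (m : S) / r ^ k) ∈ zpowers (m : S) ⊓ centralizer {(z : S)} := by
          refine mem_inf.mpr ⟨Subgroup.npow_mem_zpowers _ _, mem_centralizer_singleton_iff.mpr ?_⟩
          have h1 := pElement_mem_pCore (r := r) (hF ▸ F.pow_mem hmF _) ⟨k, ho⟩
          exact mem_centralizer_iff.mp (mem_iInf.mp (mem_inf.mp (hL.le z.2)).2 ⟨⟨r, hr⟩, hrq⟩) _ h1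
        exact ho ▸ Subgroup.orderOf_dvd_natCard _ hmem
      exact (mem_centralizer_singleton_iff.mp (mem_inf.mp (hsub.ge (mem_zpowers (m : S)))).2).symm
    have := hq.isNilpotent
    exact Group.of_quotient_center_nilpotent this
  exact hC (mem_inf.mpr ⟨hLF hyL, hy⟩)

set_option maxHeartbeats 1000000 in
theorem exists_complement [Group.IsSolvable S] (π : Set ℕ) (h2 : 2 ∉ π) (h3 : 3 ∉ π) (H : Subgroup S)
    (hH : Cfsg.IsPiHall π H) (A : Subgroup S) (hA : Cfsg.IsSCN ((Cfsg.fittingSubgroup H).map H.subtype) A) :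
    ∃ D : Subgroup S, D ≤ centralizer (A : Set S) ∧
      (∀ c ∈ centralizer (A : Set S), ∀ d ∈ D, c * d * c⁻¹ ∈ D) ∧
      A ⊓ D = ⊥ ∧ A ⊔ D = centralizer (A : Set S) ∧
      ∀ q : ℕ, q.Prime → q ∣ Nat.card D → q ∉ π := by
  classical
  obtain ⟨hAF, hFA, hself⟩ := hA
  have hAH : A ≤ H := hAF.trans (map_subtype_le _)
  have hAC : A ≤ centralizer (A : Set S) := hself.ge.trans inf_le_right
  obtain ⟨K, hK⟩ : ∃ K, K = Cfsg.piCore πᶜ S := ⟨_, rfl⟩
  have hKn : K.Normal := hK ▸ inferInstance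
  have hKpi : ∀ r : ℕ, r.Prime → r ∣ Nat.card K → r ∉ π := fun r hr hd =>
    Block.piCore_primes hr (hK ▸ hd)
  obtain ⟨f, hf⟩ : ∃ f, f = QuotientGroup.mk' K := ⟨_, rfl⟩
  have hfs : Function.Surjective f := hf ▸ QuotientGroup.mk'_surjective K
  have hHK : ∀ h ∈ H, f h = 1 → h = 1 := by
    intro h hh e
    have hhK : h ∈ K := by rw [hf] at e; exact (QuotientGroup.eq_one_iff h).mp e
    by_contra hne
    obtain ⟨r, hr, hd⟩ := Nat.exists_prime_and_dvd (fun e' => hne (orderOf_eq_one_iff.mp e'))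
    exact hKpi r hr (hd.trans (K.orderOf_dvd_natCard hhK)) (hH.1 r hr (hd.trans (H.orderOf_dvd_natCard hh)))
  have hsylH : ∀ r : ℕ, r.Prime → r ∈ π → ¬ r ∣ (H.map f).index := fun r hr hrπ hd =>
    hH.2 r hr hrπ (hd.trans (H.index_map_dvd hfs))
  have hFbar : Cfsg.fittingSubgroup (S ⧸ K) ≤ H.map f := by
    rw [fittingSubgroup_eq_iSup_pCore]
    refine iSup_le fun r => ?_
    have := Fact.mk r.2
    by_cases hr : (r : ℕ) ∈ π
    · obtain ⟨T⟩ : Nonempty (Sylow (r : ℕ) ↥(H.map f)) := inferInstance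
      have hT : ¬ (r : ℕ) ∣ ((T : Subgroup ↥(H.map f)).map (H.map f).subtype).index := by
        rw [index_map_subtype]
        exact Nat.Prime.not_dvd_mul r.2 T.not_dvd_index (hsylH r r.2 hr)
      let T' : Sylow (r : ℕ) (S ⧸ K) := (T.isPGroup'.map (H.map f).subtype).toSylow hT
      exact (pCore_le_sylow T').trans (map_subtype_le _)
    · have hn := pCore_isNormal (p := (r : ℕ)) (G := S ⧸ K)
      have hle : (Cfsg.pCore (r : ℕ) (S ⧸ K)).comap f ≤ K := by
        conv_rhs => rw [hK]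
        refine le_sSup ⟨hn.comap f, fun s hs hd => ?_⟩
        have hc : Nat.card ((Cfsg.pCore (r : ℕ) (S ⧸ K)).comap f) =
            Nat.card (Cfsg.pCore (r : ℕ) (S ⧸ K)) * Nat.card K := by
          have e : f.ker = K := by rw [hf, QuotientGroup.ker_mk']
          rw [← Grp.card_mul_relIndex (show K ≤ (Cfsg.pCore (r : ℕ) (S ⧸ K)).comap f from e.ge.trans (f.ker_le_comap _)), mul_comm]
          congr 1
          refine (congrArg (fun L => Subgroup.relIndex L ((Cfsg.pCore (r : ℕ) (S ⧸ K)).comap f)) e).symm.trans ?_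
          rw [← MonoidHom.comap_bot, relIndex_comap, map_comap_eq_self_of_surjective hfs, relIndex_bot_left]
        rw [hc] at hd
        rcases hs.dvd_mul.mp hd with h | h
        swap
        · exact hKpi s hs h
        · obtain ⟨j, hj⟩ := (pCore_isPGroup (p := (r : ℕ)) (G := S ⧸ K)).exists_card_eq
          rw [hj] at h
          exact ((Nat.prime_dvd_prime_iff_eq hs r.2).mp (hs.dvd_of_dvd_pow h)) ▸ hr
      rw [← map_comap_eq_self_of_surjective hfs (Cfsg.pCore (r : ℕ) (S ⧸ K))]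
      refine (map_mono hle).trans ?_
      rw [(Subgroup.map_eq_bot_iff K).mpr (by rw [hf, QuotientGroup.ker_mk'])]
      exact bot_le
  have hFn := fittingSubgroup_isNormal (G := S ⧸ K)
  have hFimg : Cfsg.fittingSubgroup (S ⧸ K) ≤ ((Cfsg.fittingSubgroup H).map H.subtype).map f := by
    intro x hx
    obtain ⟨h, hh, rfl⟩ := hFbar hx
    refine ⟨h, ⟨⟨h, hh⟩, ?_, rfl⟩, rfl⟩
    have hinj : Function.Injective (f.comp H.subtype) := by
      rw [injective_iff_map_eq_one]
      exact fun a ha => Subtype.ext (hHK a a.2 ha)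
    let N := (Cfsg.fittingSubgroup (S ⧸ K)).comap (f.comp H.subtype)
    have hN : N ≤ Cfsg.fittingSubgroup H := by
      refine le_fittingSubgroup (hFn.comap _) ?_
      refine (Group.isNilpotent_congr (equivMapOfInjective N _ hinj)).mpr ?_
      exact isNilpotent_of_le (map_comap_le _ _) fittingSubgroup_isNilpotent
    exact hN hx
  have hkey : ∀ q : ℕ, q.Prime → q ∈ π → ∀ y ∈ centralizer (A : Set S), (∃ k, orderOf y = q ^ k) → y ∈ A := by
    intro q hq hqπ y hy hyq
    have := Fact.mk hq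
    have h5 : 5 ≤ q := by
      have := hq.two_le
      rcases (by omega : q = 2 ∨ q = 3 ∨ q = 4 ∨ 5 ≤ q) with h | h | h | h
      · exact absurd (h ▸ hqπ) h2
      · exact absurd (h ▸ hqπ) h3
      · exact absurd (h ▸ hq) (by norm_num)
      · exact h
    have : Group.IsSolvable (S ⧸ K) := inferInstance
    have hmem : f y ∈ A.map f := by
      refine mem_of_centralizes (q := q) h5 ?_ ?_ ?_ ?_
      · refine hFimg.trans ?_
        rw [map_le_iff_le_comap]
        exact hFA.trans (fun g hg => by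
          rw [mem_comap]; exact (le_normalizer_map f) ⟨g, hg, rfl⟩)
      · intro x hx
        obtain ⟨h, hh, rfl⟩ := hFimg (mem_inf.mp hx).1
        refine mem_map_of_mem f (hself.le (mem_inf.mpr ⟨hh, mem_centralizer_iff.mpr fun a ha => ?_⟩))
        have e := mem_centralizer_iff.mp (mem_inf.mp hx).2 (f a) (mem_map_of_mem f ha)
        rw [← map_mul, ← map_mul] at e
        have hz := hHK (a * h * (h * a)⁻¹) (H.mul_mem (H.mul_mem (hAH ha) (map_subtype_le _ hh))
          (H.inv_mem (H.mul_mem (map_subtype_le _ hh) (hAH ha)))) (by rw [map_mul, e, ← map_mul, mul_inv_cancel, map_one])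
        exact mul_inv_eq_one.mp hz
      · rw [mem_centralizer_iff]
        rintro _ ⟨a, ha, rfl⟩
        rw [← map_mul, ← map_mul, mem_centralizer_iff.mp hy a ha]
      · obtain ⟨k, hk⟩ := hyq
        obtain ⟨j, -, hj⟩ := (Nat.dvd_prime_pow hq).mp (hk ▸ orderOf_map_dvd f y)
        exact ⟨j, hj⟩
    obtain ⟨a, ha, e⟩ := hmem
    have hcomm : Commute a⁻¹ y := Commute.inv_left (mem_centralizer_iff.mp hy a ha)
    have hak : a⁻¹ * y ∈ K := by
      rw [hf] at e
      exact (QuotientGroup.eq).mp e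
    by_contra hyA
    have hne : a⁻¹ * y ≠ 1 := fun e' => hyA (inv_mul_eq_one.mp e' ▸ ha)
    obtain ⟨r, hr, hd⟩ := Nat.exists_prime_and_dvd (fun e' => hne (orderOf_eq_one_iff.mp e'))
    refine hKpi r hr (hd.trans (K.orderOf_dvd_natCard hak)) ?_
    obtain ⟨k, hk⟩ := hyq
    rcases hr.dvd_mul.mp ((hd.trans hcomm.orderOf_mul_dvd_lcm).trans (Nat.lcm_dvd_mul _ _)) with h | h
    · exact hH.1 r hr (h.trans (by rw [orderOf_inv]; exact H.orderOf_dvd_natCard (hAH ha)))
    · rw [hk] at h
      exact ((Nat.prime_dvd_prime_iff_eq hr hq).mp (hr.dvd_of_dvd_pow h)) ▸ hqπ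
  obtain ⟨C, hC⟩ : ∃ C, C = centralizer (A : Set S) := ⟨_, rfl⟩
  rw [← hC] at hAC ⊢
  have hcentral : ∀ a ∈ A, ∀ c ∈ C, a * c = c * a := fun a ha c hc =>
    mem_centralizer_iff.mp (hC ▸ hc) a ha
  have hA'n : (A.subgroupOf C).Normal := ⟨fun a ha c => by
    rw [mem_subgroupOf] at ha ⊢
    simp only [Subgroup.coe_mul, Subgroup.coe_inv]
    rwa [← hcentral a ha c c.2, mul_inv_cancel_right]⟩
  have hidx : ∀ q : ℕ, q.Prime → q ∣ (A.subgroupOf C).index → q ∉ π := by
    intro q hq hd hqπ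
    have := Fact.mk hq
    obtain ⟨T⟩ : Nonempty (Sylow q C) := inferInstance
    have hT : (T : Subgroup C) ≤ A.subgroupOf C := fun y hy => by
      rw [mem_subgroupOf]
      obtain ⟨k, hk⟩ := (IsPGroup.iff_orderOf.mp T.isPGroup') ⟨y, hy⟩
      exact hkey q hq hqπ _ (hC ▸ y.2) ⟨k, by rw [Subgroup.orderOf_coe]; rwa [Subgroup.orderOf_mk] at hk⟩
    exact T.not_dvd_index (hd.trans (Subgroup.index_dvd_of_le hT))
  have hco : (Nat.card (A.subgroupOf C)).Coprime (A.subgroupOf C).index := by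
    refine Nat.coprime_of_dvd fun q hq h1 h2 => hidx q hq h2 ?_
    rw [Nat.card_congr (subgroupOfEquivOfLe hAC).toEquiv] at h1
    exact hH.1 q hq (h1.trans (card_dvd_of_le hAH))
  obtain ⟨D, hD⟩ := Subgroup.exists_right_complement'_of_coprime hco
  refine ⟨D.map C.subtype, map_subtype_le _, ?_, ?_, ?_, ?_⟩
  · rintro c hc _ ⟨d, hd, rfl⟩
    obtain ⟨⟨⟨a, ha⟩, ⟨e, he⟩⟩, hx⟩ := hD.2 (⟨c, hc⟩ : C)
    simp only at hx
    have hc' : c = (a : S) * (e : S) := (congrArg Subtype.val hx).symm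
    refine ⟨e * d * e⁻¹, D.mul_mem (D.mul_mem he hd) (D.inv_mem he), ?_⟩
    rw [hc']
    simp only [Subgroup.coe_subtype, Subgroup.coe_mul, Subgroup.coe_inv]
    have h1 : (a : S) * ((e : S) * d * (e : S)⁻¹) = (e : S) * d * (e : S)⁻¹ * a :=
      hcentral _ (mem_subgroupOf.mp ha) _ ((e * d * e⁻¹ : C).2)
    rw [show (a : S) * (e : S) * d * ((a : S) * (e : S))⁻¹ = (a : S) * ((e : S) * d * (e : S)⁻¹) * (a : S)⁻¹ by group,
      h1, mul_inv_cancel_right]
  · have h := congrArg (Subgroup.map C.subtype) (disjoint_iff.mp hD.disjoint)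
    rwa [Subgroup.map_inf _ _ _ C.subtype_injective, subgroupOf_map_subtype, inf_eq_left.mpr hAC, Subgroup.map_bot] at h
  · have h := congrArg (Subgroup.map C.subtype) hD.sup_eq_top
    rwa [Subgroup.map_sup, subgroupOf_map_subtype, inf_eq_left.mpr hAC, ← MonoidHom.range_eq_map, range_subtype] at h
  · intro q hq hd
    refine hidx q hq ?_
    rwa [card_map_of_injective C.subtype_injective, ← hD.symm.index_eq_card] at hd

end Cfsg.Agent.Invol.SCNHall
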