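import Cfsg.Agent.Lib.Invol.NoSCNBasic

/-!
# Abelian 2-groups with an automorphism permuting three involutions

Such a group is homocyclic of rank two.
-/

set_option autoImplicit false

namespace Cfsg.Agent.Invol.RotHomocyclic

variable {T : Type*} [Group T] [Finite T]

theorem pow_add_val {x : T} {N : ℕ} [NeZero N] (hx : x ^ N = 1) (a b : ZMod N) :
    x ^ (a + b).val = x ^ a.val * x ^ b.val := by
  rw [← pow_add, ZMod.val_add, ← pow_eq_pow_mod _ hx]

theorem homocyclic (hT : IsPGroup 2 T) (hcomm : ∀ a b : T, a * b = b * a) {ψ : MulAut T}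
    {D : Subgroup T} (hD : ∀ x, x ∈ D ↔ x * x = 1) (hrot : NoSCN.Rot ψ D) (h4 : Nat.card D = 4) :
    ∃ n : ℕ, 1 ≤ n ∧ Nonempty (T ≃* Multiplicative (ZMod (2 ^ n)) × Multiplicative (ZMod (2 ^ n))) := by
  classical
  have hex : ∃ n, ∀ x : T, x ^ 2 ^ n = 1 := by
    obtain ⟨k, hk⟩ := IsPGroup.iff_card.mp hT
    exact ⟨k, fun x => by rw [← hk]; exact pow_card_eq_one'⟩
  set n := Nat.find hex with hn
  have hall := Nat.find_spec hex
  rw [← hn] at hall
  obtain ⟨z₀, hz₀, hz₀1⟩ := (Subgroup.bot_or_exists_ne_one D).resolve_left fun e => by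
    rw [e, Subgroup.card_bot] at h4; omega
  have hn1 : 1 ≤ n := by
    by_contra hlt
    have h1 := hall z₀
    rw [show n = 0 by omega, pow_zero, pow_one] at h1
    exact hz₀1 h1
  obtain ⟨x, hx⟩ : ∃ x : T, x ^ 2 ^ (n - 1) ≠ 1 := by
    by_contra hno
    push Not at hno
    have := Nat.find_min' hex hno
    omega
  set z := x ^ 2 ^ (n - 1) with hz
  have hzD : z ∈ D := (hD z).mpr (by
    rw [hz, ← pow_two, ← pow_mul, ← pow_succ, Nat.sub_add_cancel hn1]; exact hall x)
  set y := ψ x
  have hyz : y ^ 2 ^ (n - 1) = ψ z := (map_pow ψ x _).symm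
  have hy1 : ψ z ≠ 1 := fun e => hx (by simpa using congrArg ψ.symm e)
  have hzy1 : z * ψ z ≠ 1 := fun e => hx (hrot.two_ne hzD (by
    rw [hrot.two z hzD, e]
    exact (hrot.ne z hzD (by
      calc ψ z = z * (z * ψ z) := by rw [← mul_assoc, hrot.sq z hzD, one_mul]
        _ = z := by rw [e, mul_one])).symm))
  have hdiv : ∀ k, k ≤ n → ∀ a b : ℕ, x ^ a * y ^ b = 1 → 2 ^ k ∣ a ∧ 2 ^ k ∣ b := by
    intro k
    induction k with
    | zero => intro _ a b _; simp
    | succ k ih =>
      intro hk a b hab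
      obtain ⟨⟨a', rfl⟩, b', rfl⟩ := ih (by omega) a b hab
      have h1 := congrArg (fun t => t ^ 2 ^ (n - 1 - k)) hab
      simp only [one_pow] at h1
      rw [(show Commute (x ^ (2 ^ k * a')) (y ^ (2 ^ k * b')) from hcomm _ _).mul_pow, ← pow_mul, ← pow_mul,
        mul_right_comm (2 ^ k) a', mul_right_comm (2 ^ k) b', ← pow_add,
        show k + (n - 1 - k) = n - 1 by omega, pow_mul, pow_mul, ← hz, hyz] at h1
      have hmod : ∀ w ∈ D, ∀ m : ℕ, w ^ m = w ^ (m % 2) := fun w hw m =>
        pow_eq_pow_mod m (by rw [pow_two]; exact hrot.sq w hw)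
      rw [hmod z hzD, hmod _ (hrot.mem z hzD)] at h1
      rcases Nat.mod_two_eq_zero_or_one a' with ea | ea <;>
        rcases Nat.mod_two_eq_zero_or_one b' with eb | eb <;> rw [ea, eb] at h1
      · exact ⟨pow_succ 2 k ▸ mul_dvd_mul_left _ (Nat.dvd_of_mod_eq_zero ea),
          pow_succ 2 k ▸ mul_dvd_mul_left _ (Nat.dvd_of_mod_eq_zero eb)⟩
      · simp only [pow_zero, pow_one, one_mul] at h1; exact absurd h1 hy1
      · simp at h1; exact absurd h1 hx
      · simp only [pow_one] at h1; exact absurd h1 hzy1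
  let K : ℕ → Subgroup T := fun k =>
    { carrier := {t | t ^ 2 ^ k = 1}
      one_mem' := one_pow _
      mul_mem' := fun {a b} ha hb => by
        show (a * b) ^ 2 ^ k = 1
        rw [(show Commute a b from hcomm a b).mul_pow, show a ^ 2 ^ k = 1 from ha,
          show b ^ 2 ^ k = 1 from hb, one_mul]
      inv_mem' := fun {a} ha => by
        show a⁻¹ ^ 2 ^ k = 1
        rw [inv_pow, show a ^ 2 ^ k = 1 from ha, inv_one] }
  have hK : ∀ k, Nat.card (K k) ≤ 4 ^ k := by
    intro k
    induction k with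
    | zero =>
      have : K 0 = ⊥ := by ext t; simp [K]
      rw [this, Subgroup.card_bot, pow_zero]
    | succ k ih =>
      let f : K (k + 1) →* K k :=
        { toFun := fun t => ⟨(t : T) ^ 2, by
            show ((t : T) ^ 2) ^ 2 ^ k = 1
            rw [← pow_mul, ← pow_succ']; exact t.2⟩
          map_one' := Subtype.ext (one_pow 2)
          map_mul' := fun a b => Subtype.ext (show ((a : T) * b) ^ 2 = (a : T) ^ 2 * (b : T) ^ 2 from
            (show Commute (a : T) b from hcomm _ _).mul_pow 2) }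
      have hker : Nat.card f.ker ≤ 4 := by
        rw [← h4]
        refine Nat.card_le_card_of_injective (fun t : f.ker => (⟨((t : K (k + 1)) : T), (hD _).mpr ?_⟩ : D))
          fun a b e => Subtype.ext (Subtype.ext (congrArg (fun d : D => (d : T)) e))
        rw [← pow_two]
        exact congrArg Subtype.val t.2
      rw [← Subgroup.card_mul_index f.ker, Subgroup.index_ker, pow_succ']
      exact Nat.mul_le_mul hker ((Subgroup.card_le_card_group f.range).trans ih)
  have hcard : Nat.card T ≤ 4 ^ n := by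
    have : K n = ⊤ := by ext t; simp [K, hall t]
    have h1 := hK n
    rw [this, Subgroup.card_top] at h1
    exact h1
  let f : Multiplicative (ZMod (2 ^ n)) × Multiplicative (ZMod (2 ^ n)) →* T :=
    { toFun := fun p => x ^ (Multiplicative.toAdd p.1).val * y ^ (Multiplicative.toAdd p.2).val
      map_one' := by simp
      map_mul' := fun p q => by
        simp only [Prod.fst_mul, Prod.snd_mul, toAdd_mul]
        rw [pow_add_val (hall x), pow_add_val (hall y)]
        exact (show Commute (x ^ (Multiplicative.toAdd q.1).val) (y ^ (Multiplicative.toAdd p.2).val) from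
          hcomm _ _).mul_mul_mul_comm _ _ }
  have hinj : Function.Injective f := by
    rw [injective_iff_map_eq_one]
    rintro ⟨p, q⟩ hpq
    obtain ⟨ha, hb⟩ := hdiv n le_rfl _ _ hpq
    have ha' := Nat.eq_zero_of_dvd_of_lt ha (ZMod.val_lt _)
    have hb' := Nat.eq_zero_of_dvd_of_lt hb (ZMod.val_lt _)
    rw [ZMod.val_eq_zero] at ha' hb'
    exact Prod.ext (Multiplicative.toAdd.injective ha') (Multiplicative.toAdd.injective hb')
  refine ⟨n, hn1, ⟨(MulEquiv.ofBijective f (hinj.bijective_of_nat_card_le ?_)).symm⟩⟩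
  rw [Nat.card_prod, Nat.card_congr Multiplicative.toAdd, Nat.card_zmod, ← mul_pow]
  exact hcard

end Cfsg.Agent.Invol.RotHomocyclic
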