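import Cfsg.Agent.Lib.Invol.NoSCNGauss
import Cfsg.Agent.Lib.Grp.AmbivalentSolvable

/-!
# The three 2-groups without normal elementary subgroups of order 8
-/

set_option autoImplicit false

open scoped BigOperators commutatorElement

namespace Cfsg.Agent.Invol.NoSCN

variable {X : Type*} [Group X] [Fintype X] [DecidableEq X] {A : Subgroup (MulAut X)}

/-- The sign character of a subgroup of order two. -/
def sgn (u : X) : X → ℤ := fun z => if z = 1 ∨ z = u then 1 else -1

omit [Fintype X] in
theorem sgn_val (u z : X) : sgn u z = 1 ∨ sgn u z = -1 := by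
  unfold sgn; split_ifs <;> simp

omit [Fintype X] in
theorem sgn_one (u : X) : sgn u 1 = 1 := by simp [sgn]

/-- The coordinates of a four-group. -/
theorem four_cover {Z : Subgroup X} (hs : ∀ z ∈ Z, z * z = 1) (h4 : Nat.card Z = 4) {u : X}
    (hu : u ∈ Z) (hu1 : u ≠ 1) : ∃ v ∈ Z, v ≠ 1 ∧ v ≠ u ∧ u * v ≠ 1 ∧ u * v ≠ u ∧ u * v ≠ v ∧
      ∀ z ∈ Z, z = 1 ∨ z = u ∨ z = v ∨ z = u * v := by
  classical
  obtain ⟨v, hv, hv1, hvu⟩ : ∃ v ∈ Z, v ≠ 1 ∧ v ≠ u := by
    by_contra hno
    push Not at hno
    have hle : Nat.card Z ≤ Nat.card ({1, u} : Finset X) := by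
      refine Nat.card_le_card_of_injective (fun z : Z => (⟨z.1, ?_⟩ : ({1, u} : Finset X))) ?_
      · simp only [Finset.mem_insert, Finset.mem_singleton]
        by_cases h : (z : X) = 1
        · exact Or.inl h
        · exact Or.inr (hno _ z.2 h)
      · exact fun a b e => Subtype.ext (congrArg (fun t : ({1, u} : Finset X) => (t : X)) e)
    rw [h4, Nat.card_eq_finsetCard] at hle
    have := Finset.card_insert_le (1 : X) {u}
    simp at this hle
    omega
  have h1 : u * v ≠ 1 := fun e => hvu (by
    have h := congrArg (u * ·) e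
    simpa [← mul_assoc, hs u hu] using h)
  have h2 : u * v ≠ u := fun e => hv1 (mul_eq_left.mp e)
  have h3 : u * v ≠ v := fun e => hu1 (mul_eq_right.mp e)
  refine ⟨v, hv, hv1, hvu, h1, h2, h3, fun z hz => ?_⟩
  let s : Finset X := {1, u, v, u * v}
  have hsc : s.card = 4 := by
    simp [s, Finset.card_insert_of_notMem, hu1.symm, hv1.symm, h1.symm, hvu.symm, h2.symm, h3.symm]
  have hsub : ∀ a ∈ s, a ∈ Z := by
    intro a ha
    simp [s] at ha
    rcases ha with rfl | rfl | rfl | rfl
    · exact one_mem Z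
    · exact hu
    · exact hv
    · exact mul_mem hu hv
  by_contra hno
  have hz' : z ∉ s := by simpa [s] using hno
  have hle : Nat.card (insert z s : Finset X) ≤ Nat.card Z :=
    Nat.card_le_card_of_injective (fun a : (insert z s : Finset X) => (⟨a.1, by
      rcases Finset.mem_insert.mp a.2 with h | h
      · rw [h]; exact hz
      · exact hsub _ h⟩ : Z)) fun a b e => Subtype.ext (congrArg (fun t : Z => (t : X)) e)
  rw [Nat.card_eq_finsetCard, Finset.card_insert_of_notMem hz', hsc, h4] at hle
  omega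

theorem sgn_mul {Z : Subgroup X} (hc : ∀ a ∈ Z, ∀ b ∈ Z, a * b = b * a) (hs : ∀ z ∈ Z, z * z = 1)
    (h4 : Nat.card Z = 4) {u : X} (hu : u ∈ Z) (hu1 : u ≠ 1) :
    ∀ a ∈ Z, ∀ b ∈ Z, sgn u (a * b) = sgn u a * sgn u b := by
  obtain ⟨v, hv, hv1, hvu, h1, h2, h3, hall⟩ := four_cover hs h4 hu hu1
  have e1 := hs u hu
  have e2 := hs v hv
  have e3 : v * u = u * v := hc v hv u hu
  have e4 : u * (u * v) = v := by rw [← mul_assoc, e1, one_mul]
  have e5 : u * v * u = v := by rw [mul_assoc, e3, e4]
  have e6 : u * v * v = u := by rw [mul_assoc, e2, mul_one]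
  have e7 : v * (u * v) = u := by rw [← mul_assoc, e3, e6]
  have e8 := hs _ (mul_mem hu hv)
  intro a ha b hb
  rcases hall a ha with rfl | rfl | rfl | rfl <;> rcases hall b hb with rfl | rfl | rfl | rfl <;>
    (try simp only [one_mul, mul_one, e1, e2, e3, e4, e5, e6, e7, e8]) <;>
    simp [sgn, hu1, hv1, hvu, h1, h2, h3]

theorem sgn_sum {Z : Subgroup X} (hs : ∀ z ∈ Z, z * z = 1) (h4 : Nat.card Z = 4) {u : X}
    (hu : u ∈ Z) (hu1 : u ≠ 1) : ∃ v ∈ Z, v ≠ 1 ∧ u * v ∈ Z ∧ u * v ≠ 1 ∧
      (∀ w ∈ Z, w ≠ 1 → w = u ∨ w = v ∨ w = u * v) ∧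
      ∀ z ∈ Z, sgn u z + sgn v z + sgn (u * v) z = if z = 1 then 3 else -1 := by
  obtain ⟨v, hv, hv1, hvu, h1, h2, h3, hall⟩ := four_cover hs h4 hu hu1
  refine ⟨v, hv, hv1, mul_mem hu hv, h1, fun w hw hw1 => (hall w hw).resolve_left hw1, fun z hz => ?_⟩
  rcases hall z hz with rfl | rfl | rfl | rfl <;>
    simp [sgn, hu1, hv1, hvu, h1, h2, h3, Ne.symm hvu, Ne.symm h2, Ne.symm h3]

namespace Hyp

variable (h : Hyp A)
include h

omit [DecidableEq X] in
theorem comm_center (x y : X) : x * y * x⁻¹ * y⁻¹ ∈ Subgroup.center X := (h.comm_mem x y).1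

omit [DecidableEq X] in
theorem card_eq_pow : ∃ e, Fintype.card X = 2 ^ e := by
  obtain ⟨e, he⟩ := IsPGroup.iff_card.mp h.pgroup
  exact ⟨e, by rw [← Nat.card_eq_fintype_card, he]⟩

omit [DecidableEq X] in
theorem subgroup_card_pow (R : Subgroup X) : ∃ r, Nat.card R = 2 ^ r :=
  IsPGroup.iff_card.mp (h.pgroup.to_subgroup R)

/-- An element whose class modulo the centre is fixed by `A` is central. -/
theorem mem_center_of_classes (hzc : Subgroup.center X = commutator X) {x : X}
    (hfix : ∀ φ ∈ A, φ x * x⁻¹ ∈ Subgroup.center X) : x ∈ Subgroup.center X :=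
  h.fpf hzc.ge hfix

theorem classify_four (hna : ¬ IsMulCommutative X) (h4 : Nat.card (Subgroup.center X) = 4) :
    Nat.card X = 64 ∧ ∀ x : X, x * x = 1 → x ∈ Subgroup.center X := by
  obtain ⟨hzc, hsqZ, -, hdich⟩ := h.center_eq hna
  set Z := Subgroup.center X
  have hout : ∀ x : X, x * x = 1 → x ∈ Z := fun x hx =>
    h.no_extension le_rfl hsqZ h4 hx fun y => h.comm_center y x
  refine ⟨?_, hout⟩
  have hidx : 8 ≤ Z.index := by
    by_contra hlt
    obtain ⟨i, hi⟩ := h.pgroup.index Z
    have hi4 : Z.index ≤ 4 := by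
      rw [hi] at hlt ⊢
      rcases i with _ | _ | _ | i
      · simp
      · simp
      · simp
      · exact absurd (Nat.pow_le_pow_right two_pos (show 3 ≤ i + 3 by omega)) hlt
    have h2 := h.commutator_small hna hi4
    rw [← hzc] at h2
    omega
  have hP : 32 ≤ Fintype.card X := by
    rw [← Nat.card_eq_fintype_card, ← Z.card_mul_index, h4]; omega
  have hcom : ∀ a ∈ Z, ∀ b ∈ Z, a * b = b * a := fun a ha b _ => (Subgroup.mem_center_iff.mp ha b).symm
  -- a starting element
  obtain ⟨u, hu, hu1⟩ := (Subgroup.bot_or_exists_ne_one Z).resolve_left fun e => by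
    rw [e, Subgroup.card_bot] at h4; omega
  obtain ⟨v, hv, hv1, huv, huv1, hthree, hsum⟩ := sgn_sum hsqZ h4 hu hu1
  have hmem : ∀ x y : X, x * y * x⁻¹ * y⁻¹ ∈ Z := h.comm_center
  let Rd : ∀ w : X, w ∈ Z → w ≠ 1 → Subgroup X := fun w hw hw1 =>
    rad (le_refl Z) hmem (sgn_mul hcom hsqZ h4 hw hw1) (fun z _ => sgn_val w z)
  have hRbound : ∀ (w : X) (hw : w ∈ Z) (hw1 : w ≠ 1), (∀ e ∈ Rd w hw hw1, sgn w (e * e) = 1) →
      Nat.card (Rd w hw hw1) ≤ 16 := by
    intro w hw hw1 hone
    have hmul := sgn_mul hcom hsqZ h4 hw hw1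
    have hsq1 : ∀ a ∈ Rd w hw hw1, a ∉ Z → a * a = w := fun a ha haZ => by
      have h1 := hone a ha
      simp only [sgn] at h1
      split_ifs at h1 with h2
      rcases h2 with h2 | h2
      · exact absurd (hout a h2) haZ
      · exact h2
    -- pairwise commutators equal `w`
    have hpair : ∀ a ∈ Rd w hw hw1, ∀ b ∈ Rd w hw hw1, a ∉ Z → b ∉ Z → a⁻¹ * b ∉ Z →
        a * b * a⁻¹ * b⁻¹ = w := by
      intro a ha b hb haZ hbZ habZ
      have hab : a * b ∉ Z := fun hc => habZ (by
        have : a⁻¹ * b = (a * a)⁻¹ * (a * b) := by group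
        rw [this]; exact mul_mem (inv_mem (h.sq_central a)) hc)
      have h1 := hsq1 _ (mul_mem ha hb) hab
      have hcz := hmem b a
      have h2 : a * b * (a * b) = (b * a * b⁻¹ * a⁻¹) * (a * a * (b * b)) := by
        calc a * b * (a * b) = a * (b * a * b⁻¹ * a⁻¹) * a * (b * b) := by group
          _ = _ := by rw [Subgroup.mem_center_iff.mp hcz a]; group
      rw [h2, hsq1 a ha haZ, hsq1 b hb hbZ, hsqZ w hw, mul_one] at h1
      rw [show a * b * a⁻¹ * b⁻¹ = (b * a * b⁻¹ * a⁻¹)⁻¹ by group, h1,
        inv_eq_of_mul_eq_one_right (hsqZ w hw)]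
    obtain ⟨l, hlv, hlm⟩ : ∃ l : X → ℤ, l w = -1 ∧ (∀ a ∈ Z, ∀ b ∈ Z, l (a * b) = l a * l b) ∧
        ∀ a ∈ Z, l a = 1 ∨ l a = -1 := by
      obtain ⟨v', hv', hv1', hvw, -, -, -, -⟩ := four_cover hsqZ h4 hw hw1
      refine ⟨sgn v', ?_, sgn_mul hcom hsqZ h4 hv' hv1', fun a _ => sgn_val v' a⟩
      simp [sgn, hw1, Ne.symm hvw]
    have := card_le_four_mul (le_refl Z) hmem hlm.1 hlm.2 (R := Rd w hw hw1) (K := Z)
      (le_rad (le_refl Z) hmem hmul fun z _ => sgn_val w z)
      (fun a ha b hb h1 h2 h3 => by rw [hpair a ha b hb h1 h2 h3, hlv])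
    rw [h4] at this; exact this
  -- the three sums
  have hS : gauss (sgn u) + gauss (sgn v) + gauss (sgn (u * v)) = 16 - (Fintype.card X : ℤ) := by
    unfold gauss
    rw [← Finset.sum_add_distrib, ← Finset.sum_add_distrib,
      Finset.sum_congr rfl fun x _ => hsum _ (h.sq_central x)]
    have hfilter : (Finset.univ.filter fun x : X => x * x = 1).card = 4 := by
      rw [← h4, Nat.card_eq_fintype_card, ← Fintype.card_subtype]
      exact Fintype.card_congr (Equiv.subtypeEquivRight fun x => ⟨hout x, hsqZ x⟩)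
    have hsplit := Finset.sum_ite (s := (Finset.univ : Finset X)) (p := fun x : X => x * x = 1)
      (fun _ => (3 : ℤ)) (fun _ => (-1 : ℤ))
    have hneg : (Finset.univ.filter fun x : X => ¬ x * x = 1).card = Fintype.card X - 4 := by
      rw [Finset.filter_not, Finset.card_sdiff, Finset.inter_univ, hfilter, Finset.card_univ]
    rw [hsplit, Finset.sum_const, Finset.sum_const, hfilter, hneg]
    simp only [nsmul_eq_mul, Nat.cast_ofNat]
    rw [Nat.cast_sub (by omega)]
    push_cast
    ring
  have hbound : ∀ (w : X) (hw : w ∈ Z) (hw1 : w ≠ 1), gauss (sgn w) = 0 ∨ ∃ r : ℕ, 2 ≤ r ∧ r ≤ 4 ∧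
      Nat.card (Rd w hw hw1) = 2 ^ r ∧ gauss (sgn w) ^ 2 = (Fintype.card X : ℤ) * 2 ^ r := by
    intro w hw hw1
    rcases gauss_sq (le_refl Z) h.sq_central hmem (sgn_mul hcom hsqZ h4 hw hw1)
      (fun z _ => sgn_val w z) with h0 | ⟨hone, hsq⟩
    · exact Or.inl h0
    obtain ⟨r, hr⟩ := h.subgroup_card_pow (Rd w hw hw1)
    have hle : Nat.card (Rd w hw hw1) ≤ 2 ^ 4 := hRbound w hw hw1 hone
    have hge : 2 ^ 2 ≤ Nat.card (Rd w hw hw1) := by
      calc 2 ^ 2 = Nat.card Z := h4.symm
        _ ≤ _ := Subgroup.card_le_of_le (le_rad (le_refl Z) hmem _ fun z _ => sgn_val w z)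
    rw [hr] at hle hge
    refine Or.inr ⟨r, (Nat.pow_le_pow_iff_right one_lt_two).mp hge,
      (Nat.pow_le_pow_iff_right one_lt_two).mp hle, hr, ?_⟩
    have : gauss (sgn w) ^ 2 = Nat.card X * Nat.card (Rd w hw hw1) := hsq
    rw [this, hr, Nat.card_eq_fintype_card]; push_cast; ring
  set S₁ := gauss (sgn u)
  set S₂ := gauss (sgn v)
  set S₃ := gauss (sgn (u * v))
  obtain ⟨e, he⟩ := h.card_eq_pow
  have he5 : 5 ≤ e := by
    rw [he] at hP
    exact (Nat.pow_le_pow_iff_right one_lt_two).mp (show 2 ^ 5 ≤ 2 ^ e from hP)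
  have hsqle : ∀ w : X, w ∈ Z → w ≠ 1 → gauss (sgn w) ^ 2 ≤ (16 : ℤ) * 2 ^ e := by
    intro w hw hw1
    rcases hbound w hw hw1 with h0 | ⟨r, -, hr4, -, hsq⟩
    · rw [h0]; positivity
    · rw [hsq, he]; push_cast
      calc (2 : ℤ) ^ e * 2 ^ r ≤ 2 ^ e * 2 ^ 4 :=
            mul_le_mul_of_nonneg_left (pow_le_pow_right₀ (by norm_num) hr4) (by positivity)
        _ = _ := by ring
  rw [he] at hS; push_cast at hS
  have he7 : e ≤ 7 := by
    by_contra hlt
    have h256 : (256 : ℤ) ≤ 2 ^ e := by
      calc (256 : ℤ) = 2 ^ 8 := by norm_num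
        _ ≤ _ := pow_le_pow_right₀ (by norm_num) (by omega)
    have b1 := hsqle u hu hu1
    have b2 := hsqle v hv hv1
    have b3 := hsqle _ huv huv1
    nlinarith [sq_nonneg (S₁ - S₂), sq_nonneg (S₁ - S₃), sq_nonneg (S₂ - S₃)]
  have hval : ∀ (w : X) (hw : w ∈ Z) (hw1 : w ≠ 1), e ≠ 6 → gauss (sgn w) = 0 ∨
      ((e = 5 → (gauss (sgn w) = 16 ∨ gauss (sgn w) = -16) ∧ Nat.card (Rd w hw hw1) = 8) ∧
       (e = 7 → gauss (sgn w) = 32 ∨ gauss (sgn w) = -32)) := by
    intro w hw hw1 h6
    rcases hbound w hw hw1 with h0 | ⟨r, hr2, hr4, hcard, hsq⟩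
    · exact Or.inl h0
    rw [he] at hsq; push_cast at hsq
    generalize gauss (sgn w) = S at hsq ⊢
    have hns : ∀ k : ℤ, k * k < S ^ 2 → S ^ 2 < (k + 1) * (k + 1) → 0 ≤ k → False := by
      intro k h1 h2 hk
      rcases lt_or_ge k |S| with h3 | h3
      · have : (k + 1) * (k + 1) ≤ |S| * |S| := mul_self_le_mul_self (by omega) (by omega)
        rw [abs_mul_abs_self] at this; rw [pow_two] at h2; omega
      · have : |S| * |S| ≤ k * k := mul_self_le_mul_self (abs_nonneg S) h3
        rw [abs_mul_abs_self] at this; rw [pow_two] at h1; omega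
    refine Or.inr ⟨fun h5 => ?_, fun h7 => ?_⟩
    · subst h5
      interval_cases r
      · exact (hns 11 (by rw [hsq]; norm_num) (by rw [hsq]; norm_num) (by norm_num)).elim
      · exact ⟨sq_eq_sq_iff_eq_or_eq_neg.mp (by rw [hsq]; norm_num), by rw [hcard]; norm_num⟩
      · exact (hns 22 (by rw [hsq]; norm_num) (by rw [hsq]; norm_num) (by norm_num)).elim
    · subst h7
      interval_cases r
      · exact (hns 22 (by rw [hsq]; norm_num) (by rw [hsq]; norm_num) (by norm_num)).elim
      · exact sq_eq_sq_iff_eq_or_eq_neg.mp (by rw [hsq]; norm_num)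
      · exact (hns 45 (by rw [hsq]; norm_num) (by rw [hsq]; norm_num) (by norm_num)).elim
  rw [Nat.card_eq_fintype_card, he]
  by_contra hne
  have h6 : e ≠ 6 := fun e6 => hne (by rw [e6]; norm_num)
  rcases (show e = 5 ∨ e = 7 by omega) with rfl | rfl
  swap
  · rcases hval u hu hu1 h6 with a | a <;> rcases hval v hv hv1 h6 with b | b <;>
      rcases hval _ huv huv1 h6 with c | c <;>
      first
        | (have := a.2 rfl; have := b.2 rfl; have := c.2 rfl; omega)
        | (have := a.2 rfl; have := b.2 rfl; omega)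
        | (have := a.2 rfl; have := c.2 rfl; omega)
        | (have := b.2 rfl; have := c.2 rfl; omega)
        | (have := a.2 rfl; omega)
        | (have := b.2 rfl; omega)
        | (have := c.2 rfl; omega)
        | omega
  rcases hdich with hfix | ⟨ω, hω, hrot⟩
  · -- some radical of order 8 is invariant
    obtain ⟨w, hw, hw1, hR8⟩ : ∃ w hw hw1, Nat.card (Rd w hw hw1) = 8 := by
      rcases hval u hu hu1 h6 with a | a
      · rcases hval v hv hv1 h6 with b | b
        · rcases hval _ huv huv1 h6 with c | c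
          · omega
          · exact ⟨_, huv, huv1, (c.1 rfl).2⟩
        · exact ⟨v, hv, hv1, (b.1 rfl).2⟩
      · exact ⟨u, hu, hu1, (a.1 rfl).2⟩
    set R := Rd w hw hw1
    have hZR : Z ≤ R := le_rad (le_refl Z) hmem _ fun z _ => sgn_val w z
    obtain ⟨d, hdR, hdZ⟩ : ∃ d ∈ R, d ∉ Z := by
      by_contra hno
      push Not at hno
      have := Subgroup.card_le_of_le (show R ≤ Z from hno)
      omega
    refine hdZ (h.mem_center_of_classes hzc fun φ hφ => ?_)
    have hφR : φ d ∈ R := fun x => by
      obtain ⟨x, rfl⟩ := φ.surjective x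
      rw [← map_inv, ← map_inv, ← map_mul, ← map_mul, ← map_mul, hfix φ hφ _ (hmem x d)]
      exact hdR x
    have hidx : (Z.subgroupOf R).index = 2 := by
      have h1 := (Z.subgroupOf R).card_mul_index
      rw [Nat.card_congr (Subgroup.subgroupOfEquivOfLe hZR).toEquiv, h4, hR8] at h1
      omega
    have hd' : (⟨d, hdR⟩ : R)⁻¹ ∉ Z.subgroupOf R := fun hc => hdZ (by
      have := inv_mem (show d⁻¹ ∈ Z from hc); rwa [inv_inv] at this)
    have hφd : (⟨φ d, hφR⟩ : R) ∉ Z.subgroupOf R := fun hc => hdZ (by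
      have h2 : φ d ∈ Z := hc
      have h3 := hfix φ hφ _ h2
      rw [φ.injective h3] at h2
      exact h2)
    exact (Subgroup.mul_mem_iff_of_index_two hidx).mpr (iff_of_false hφd hd')
  · -- the three sums agree
    have heq : ∀ w ∈ Z, w ≠ 1 → gauss (sgn (ω w)) = gauss (sgn w) := by
      intro w _ _
      unfold gauss
      refine (Fintype.sum_equiv ω.toEquiv _ _ fun x => ?_).symm
      show sgn w (x * x) = sgn (ω w) (ω x * ω x)
      rw [show ω x * ω x = ω (x * x) from (map_mul ω x x).symm]
      simp [sgn, -map_mul]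
    have h1 := heq u hu hu1
    have hωu1 : ω u ≠ 1 := fun e => hu1 (by simpa using congrArg ω.symm e)
    have h2 := heq (ω u) (hrot.mem u hu) hωu1
    have hωu : ω u ≠ u := fun e => hu1 (hrot.ne u hu e)
    have h3 : S₂ = S₁ ∧ S₃ = S₁ := by
      rcases hthree _ (hrot.mem u hu) hωu1 with e | e | e
      · exact absurd e hωu
      · refine ⟨by show gauss (sgn v) = gauss (sgn u); rw [← e]; exact h1, ?_⟩
        have e2 : ω (ω u) = u * v := by rw [hrot.two u hu, e]
        show gauss (sgn (u * v)) = _
        rw [← e2, h2, h1]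
      · refine ⟨?_, by show gauss (sgn (u * v)) = gauss (sgn u); rw [← e]; exact h1⟩
        have e2 : ω (ω u) = v := by rw [hrot.two u hu, e, ← mul_assoc, hsqZ u hu, one_mul]
        show gauss (sgn v) = _
        rw [← e2, h2, h1]
    omega

theorem classify_two (hna : ¬ IsMulCommutative X) (h2 : Nat.card (Subgroup.center X) = 2) :
    (Fintype.card X = 8 ∧ (Finset.univ.filter fun x : X => x * x = 1).card = 2) ∨
      (Fintype.card X = 32 ∧ (Finset.univ.filter fun x : X => x * x = 1).card = 12) := by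
  classical
  obtain ⟨hzc, hsqZ, -, -⟩ := h.center_eq hna
  set Z := Subgroup.center X
  obtain ⟨z, hz, hz1⟩ := (Subgroup.bot_or_exists_ne_one Z).resolve_left fun e => by
    rw [e, Subgroup.card_bot] at h2; omega
  have hall : ∀ a ∈ Z, a = 1 ∨ a = z := by
    intro a ha
    by_contra hno
    push Not at hno
    have hle : Nat.card ({1, z, a} : Finset X) ≤ Nat.card Z :=
      Nat.card_le_card_of_injective (fun t : ({1, z, a} : Finset X) => (⟨t.1, by
        rcases Finset.mem_insert.mp t.2 with h' | h'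
        · rw [h']; exact one_mem Z
        · rcases Finset.mem_insert.mp h' with h'' | h''
          · rw [h'']; exact hz
          · rw [Finset.mem_singleton.mp h'']; exact ha⟩ : Z))
        fun s t e => Subtype.ext (congrArg (fun q : Z => (q : X)) e)
    rw [Nat.card_eq_finsetCard, h2,
      Finset.card_eq_three.mpr ⟨1, z, a, hz1.symm, hno.1.symm, hno.2.symm, rfl⟩] at hle
    omega
  have hmem : ∀ x y : X, x * y * x⁻¹ * y⁻¹ ∈ Z := h.comm_center
  let l : X → ℤ := fun a => if a = 1 then 1 else -1
  have hl1 : l 1 = 1 := if_pos rfl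
  have hlz : l z = -1 := if_neg hz1
  have hmul : ∀ a ∈ Z, ∀ b ∈ Z, l (a * b) = l a * l b := by
    intro a ha b hb
    rcases hall a ha with rfl | rfl <;> rcases hall b hb with rfl | rfl <;>
      simp [hl1, hlz, hsqZ _ hz]
  have hval : ∀ a ∈ Z, l a = 1 ∨ l a = -1 := fun a _ => by simp only [l]; split_ifs <;> simp
  have hrad : rad (le_refl Z) hmem hmul hval = Z := by
    refine le_antisymm (fun d hd => Subgroup.mem_center_iff.mpr fun x => ?_) (le_rad (le_refl Z) hmem hmul hval)
    have h1 := hd x
    rcases hall _ (hmem x d) with e | e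
    · exact mul_inv_eq_iff_eq_mul.mp (mul_inv_eq_one.mp e)
    · rw [e, hlz] at h1; norm_num at h1
  have hS2 : gauss l = 0 ∨ gauss l ^ 2 = (Fintype.card X : ℤ) * 2 := by
    rcases gauss_sq (le_refl Z) h.sq_central hmem hmul hval with h0 | ⟨-, hsq⟩
    · exact Or.inl h0
    · refine Or.inr ?_
      rw [hsq, hrad, h2, Nat.card_eq_fintype_card]; rfl
  set N := (Finset.univ.filter fun x : X => x * x = 1).card
  have hSN : gauss l = 2 * (N : ℤ) - Fintype.card X := by
    unfold gauss
    simp only [l]
    rw [Finset.sum_ite, Finset.sum_const, Finset.sum_const, Finset.filter_not, Finset.card_sdiff,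
      Finset.inter_univ, Finset.card_univ, nsmul_eq_mul, nsmul_eq_mul,
      Nat.cast_sub (Finset.card_le_univ _)]
    ring
  obtain ⟨e, he⟩ := h.card_eq_pow
  have hP4 : 4 < Fintype.card X := by
    by_contra hle
    refine hna ⟨⟨fun a b => ?_⟩⟩
    rw [he] at hle
    have he2 : e ≤ 2 := (Nat.pow_le_pow_iff_right one_lt_two).mp (show 2 ^ e ≤ 2 ^ 2 by omega)
    have hmem' : a ∈ Z ∧ b ∈ Z := by
      have hZtop : Z = ⊤ := by
        by_contra hne
        haveI : Nontrivial (X ⧸ Z) := QuotientGroup.nontrivial_iff.mpr hne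
        have hidx : Z.index ≤ 2 := by
          have h1 := Z.card_mul_index
          rw [h2, Nat.card_eq_fintype_card, he] at h1
          have : 2 ^ e ≤ 2 ^ 2 := Nat.pow_le_pow_right two_pos he2
          omega
        have hpos : 1 < Z.index := Finite.one_lt_card
        have : IsCyclic (X ⧸ Z) := isCyclic_of_prime_card (p := 2) (by
          show Nat.card (X ⧸ Z) = 2
          rw [← Subgroup.index_eq_card]; omega)
        exact hna ⟨⟨commutative_of_cyclic_center_quotient (QuotientGroup.mk' Z) (by simp [Z])⟩⟩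
      rw [hZtop]; exact ⟨trivial, trivial⟩
    exact Subgroup.mem_center_iff.mp hmem'.2 a
  by_cases ht : ∃ t : X, t * t = 1 ∧ t ∉ Z
  · obtain ⟨t, htt, htZ⟩ := ht
    have hct : ∀ x : X, x * t * x⁻¹ * t⁻¹ = 1 ∨ x * t * x⁻¹ * t⁻¹ = z := fun x => hall _ (hmem x t)
    set C := Subgroup.centralizer ({t} : Set X)
    set T := Z ⊔ Subgroup.zpowers t with hTdef
    have hTC : T ≤ C := sup_le
      (fun a ha => Subgroup.mem_centralizer_singleton_iff.mpr (Subgroup.mem_center_iff.mp ha t).symm)
      (Subgroup.zpowers_le.mpr (Subgroup.mem_centralizer_singleton_iff.mpr rfl))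
    have hTmem : ∀ a, a ∈ T ↔ a = 1 ∨ a = z ∨ a = t ∨ a = z * t := by
      intro a
      constructor
      · intro ha
        obtain ⟨b, hb, c, ⟨i, rfl⟩, rfl⟩ := Subgroup.mem_sup_of_normal_left.mp ha
        have ht2 : t ^ (2 : ℤ) = 1 := by rw [zpow_two]; exact htt
        obtain ⟨j, hj | hj⟩ := i.even_or_odd' <;> rcases hall b hb with e | e <;>
          simp [hj, e, zpow_add, zpow_mul, ht2]
      · rintro (e | e | e | e) <;> rw [e]
        · exact one_mem _
        · exact Subgroup.mem_sup_left hz
        · exact Subgroup.mem_sup_right (Subgroup.mem_zpowers t)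
        · exact mul_mem (Subgroup.mem_sup_left hz) (Subgroup.mem_sup_right (Subgroup.mem_zpowers t))
    have hzt : z * t ≠ 1 := fun e => htZ (by
      rw [show t = z⁻¹ by exact eq_inv_of_mul_eq_one_right e]; exact inv_mem hz)
    have hT4 : Nat.card T = 4 := by
      have hset : (T : Set X) = (({1, z, t, z * t} : Finset X) : Set X) := Set.ext fun a => by
        simpa using hTmem a
      rw [← SetLike.coe_sort_coe, hset, Nat.card_coe_set_eq, Set.ncard_coe_finset]
      have h1t : t ≠ 1 := fun e => htZ (e ▸ one_mem Z)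
      have hzt' : z ≠ t := fun e => htZ (e ▸ hz)
      simp [Finset.card_insert_of_notMem, hz1.symm, h1t.symm, hzt.symm, hzt', hz1, h1t]
    -- no further involution commutes with `t`
    have hCsq : ∀ x ∈ C, x * x = 1 → x ∈ T := by
      intro x hxC hxx
      by_contra hxT
      have hxt : x * t = t * x := Subgroup.mem_centralizer_singleton_iff.mp hxC
      have hcom1 : ∀ b ∈ T, x * b = b * x := by
        intro b hb
        rcases (hTmem b).mp hb with rfl | rfl | rfl | rfl
        · simp
        · exact Subgroup.mem_center_iff.mp hz x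
        · exact hxt
        · rw [← mul_assoc, Subgroup.mem_center_iff.mp hz x, mul_assoc, hxt, mul_assoc]
      set E := T ⊔ Subgroup.zpowers x
      have hTsq : ∀ b ∈ T, b * b = 1 := by
        intro b hb
        rcases (hTmem b).mp hb with rfl | rfl | rfl | rfl
        · simp
        · exact hsqZ _ hz
        · exact htt
        · rw [show z * t * (z * t) = z * (t * z) * t by group, Subgroup.mem_center_iff.mp hz t,
            show z * (z * t) * t = (z * z) * (t * t) by group, hsqZ z hz, htt, one_mul]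
      haveI hTn : T.Normal := ⟨fun b hb g => by
        rw [show g * b * g⁻¹ = (g * b * g⁻¹ * b⁻¹) * b by group]
        exact mul_mem (Subgroup.mem_sup_left (hmem g b)) hb⟩
      have hEsq : ∀ b ∈ E, b * b = 1 := by
        intro b hb
        obtain ⟨c, hc, d, ⟨i, rfl⟩, rfl⟩ := Subgroup.mem_sup_of_normal_left.mp hb
        have hcomm : Commute c (x ^ i) := (show Commute c x from (hcom1 c hc).symm).zpow_right i
        calc c * x ^ i * (c * x ^ i) = (c * c) * (x ^ i * x ^ i) := hcomm.symm.mul_mul_mul_comm c (x ^ i)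
          _ = 1 := by rw [hTsq c hc, one_mul, ← (Commute.refl x).mul_zpow, hxx, one_zpow]
      have hEn : E.Normal := ⟨fun b hb g => by
        rw [show g * b * g⁻¹ = (g * b * g⁻¹ * b⁻¹) * b by group]
        exact mul_mem (Subgroup.mem_sup_left (Subgroup.mem_sup_left (hmem g b))) hb⟩
      have hlt : T < E := lt_of_le_of_ne le_sup_left fun e =>
        hxT (e ▸ Subgroup.mem_sup_right (Subgroup.mem_zpowers x))
      have h1 := h.small E hEn hEsq
      rw [← hT4] at h1
      exact hlt.ne (Subgroup.eq_of_le_of_card_ge hlt.le h1)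
    obtain ⟨g, hg⟩ : ∃ g : X, g * t * g⁻¹ * t⁻¹ = z := by
      by_contra hno
      push Not at hno
      refine htZ (Subgroup.mem_center_iff.mpr fun g => ?_)
      exact mul_inv_eq_iff_eq_mul.mp (mul_inv_eq_one.mp ((hct g).resolve_right (hno g)))
    have hmemC : ∀ x : X, x ∈ C ↔ x * t * x⁻¹ * t⁻¹ = 1 := fun x => by
      rw [Subgroup.mem_centralizer_singleton_iff, mul_inv_eq_one, mul_inv_eq_iff_eq_mul]
    have hgC : g ∉ C := fun hc => hz1 (hg.symm.trans ((hmemC g).mp hc))
    have hCidx : C.index = 2 := by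
      refine Subgroup.index_eq_two_iff.mpr ⟨g, fun b => ?_⟩
      have hbg : b * g * t * (b * g)⁻¹ * t⁻¹ = (b * t * b⁻¹ * t⁻¹) * z := by
        rw [show b * g * t * (b * g)⁻¹ * t⁻¹ = b * (g * t * g⁻¹ * t⁻¹) * b⁻¹ * (b * t * b⁻¹ * t⁻¹) by group,
          hg, Subgroup.mem_center_iff.mp hz b, mul_inv_cancel_right, Subgroup.mem_center_iff.mp hz]
      rcases hct b with e | e
      · refine Or.inr ⟨(hmemC b).mpr e, fun hc => hz1 ?_⟩
        rw [hmemC, hbg, e, one_mul] at hc; exact hc
      · refine Or.inl ⟨?_, fun hc => hz1 (e.symm.trans ((hmemC b).mp hc))⟩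
        rw [hmemC, hbg, e, hsqZ z hz]
    -- the elements outside `C` cancel in pairs
    have hout : ∑ x ∈ Finset.univ.filter (fun x : X => x ∉ C), l (x * x) = 0 := by
      set f : X → ℤ := fun x => l (x * x)
      set s := Finset.univ.filter (fun x : X => x ∉ C)
      have hflip : ∑ x ∈ s, f x = ∑ x ∈ s, f (x * t) := by
        refine Finset.sum_bij' (fun x _ => x * t⁻¹) (fun x _ => x * t) ?_ ?_ ?_ ?_ ?_
        · intro x hx
          simp only [s, Finset.mem_filter, Finset.mem_univ, true_and] at hx ⊢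
          exact fun hc => hx (by simpa using mul_mem hc (hTC (Subgroup.mem_sup_right (Subgroup.mem_zpowers t))))
        · intro x hx
          simp only [s, Finset.mem_filter, Finset.mem_univ, true_and] at hx ⊢
          exact fun hc => hx (by
            simpa using mul_mem hc (inv_mem (hTC (Subgroup.mem_sup_right (Subgroup.mem_zpowers t)))))
        · intro x _; simp
        · intro x _; simp
        · intro x _; simp
      have hneg : ∀ x ∈ s, f (x * t) = -f x := by
        intro x hx
        simp only [s, Finset.mem_filter, Finset.mem_univ, true_and] at hx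
        have hzx : t * x * t⁻¹ * x⁻¹ = z := by
          rcases hct x with e | e
          · exact absurd ((hmemC x).mpr e) hx
          · rw [show t * x * t⁻¹ * x⁻¹ = (x * t * x⁻¹ * t⁻¹)⁻¹ by group, e,
              inv_eq_of_mul_eq_one_right (hsqZ z hz)]
        have h1 : x * t * (x * t) = z * (x * x) := by
          calc x * t * (x * t) = x * (t * x * t⁻¹ * x⁻¹) * x * (t * t) := by group
            _ = _ := by rw [hzx, htt, mul_one, Subgroup.mem_center_iff.mp hz x]; group
        show l (x * t * (x * t)) = -l (x * x)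
        rw [h1, hmul _ hz _ (h.sq_central x), hlz]; ring
      rw [Finset.sum_congr rfl hneg, Finset.sum_neg_distrib] at hflip
      linarith
    have hin : ∑ x ∈ Finset.univ.filter (fun x : X => x ∈ C), l (x * x) = 8 - (Nat.card C : ℤ) := by
      have hT1 : ∀ b ∈ T, b * b = 1 := by
        intro b hb
        rcases (hTmem b).mp hb with rfl | rfl | rfl | rfl
        · simp
        · exact hsqZ _ hz
        · exact htt
        · rw [show z * t * (z * t) = z * (t * z) * t by group, Subgroup.mem_center_iff.mp hz t,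
            show z * (z * t) * t = (z * z) * (t * t) by group, hsqZ z hz, htt, one_mul]
      simp only [l]
      rw [Finset.sum_ite, Finset.sum_const, Finset.sum_const, Finset.filter_filter, Finset.filter_filter]
      have c1 : (Finset.univ.filter fun x : X => x ∈ C ∧ x * x = 1).card = 4 := by
        rw [← hT4, Nat.card_eq_fintype_card, ← Fintype.card_subtype]
        exact Fintype.card_congr (Equiv.subtypeEquivRight fun x =>
          ⟨fun hx => hCsq x hx.1 hx.2, fun hx => ⟨hTC hx, hT1 x hx⟩⟩)
      have c2 : (Finset.univ.filter fun x : X => x ∈ C ∧ ¬ x * x = 1).card + 4 = Nat.card C := by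
        have hsp := Finset.card_filter_add_card_filter_not
          (s := Finset.univ.filter fun x : X => x ∈ C) (p := fun x : X => x * x = 1)
        rw [Finset.filter_filter, Finset.filter_filter, c1] at hsp
        rw [Nat.card_eq_fintype_card, Fintype.card_subtype]
        omega
      rw [c1, ← c2]; push_cast; simp; ring
    have hC := C.card_mul_index
    rw [hCidx, Nat.card_eq_fintype_card (α := X)] at hC
    have hS : gauss l = 8 - (Nat.card C : ℤ) := by
      unfold gauss
      rw [← Finset.sum_filter_add_sum_filter_not Finset.univ (fun x : X => x ∈ C), hout, hin, add_zero]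
    -- the order is at most 32
    have hCbound : Nat.card C ≤ 4 * Nat.card T := by
      refine card_le_four_mul (le_refl Z) hmem hmul hval hTC fun a ha b hb haT hbT habT => ?_
      have hsq_ne : ∀ x ∈ C, x ∉ T → x * x = z := fun x hx hxT =>
        (hall _ (h.sq_central x)).resolve_left fun e => hxT (hCsq x hx e)
      have habT' : a * b ∉ T := fun hc => habT (by
        rw [show a⁻¹ * b = (a * a)⁻¹ * (a * b) by group]
        exact mul_mem (inv_mem (Subgroup.mem_sup_left (h.sq_central a))) hc)
      have h1 := hsq_ne _ (mul_mem ha hb) habT'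
      have h2 : a * b * (a * b) = (b * a * b⁻¹ * a⁻¹) * (a * a * (b * b)) := by
        calc a * b * (a * b) = a * (b * a * b⁻¹ * a⁻¹) * a * (b * b) := by group
          _ = _ := by rw [Subgroup.mem_center_iff.mp (hmem b a) a]; group
      rw [h2, hsq_ne a ha haT, hsq_ne b hb hbT, hsqZ z hz, mul_one] at h1
      rw [show a * b * a⁻¹ * b⁻¹ = (b * a * b⁻¹ * a⁻¹)⁻¹ by group, h1,
        inv_eq_of_mul_eq_one_right (hsqZ z hz), hlz]
    rw [hT4] at hCbound
    have he5 : e ≤ 5 := (Nat.pow_le_pow_iff_right one_lt_two).mp (show 2 ^ e ≤ 2 ^ 5 by omega)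
    have he3 : 3 ≤ e := by
      by_contra hlt
      have : 2 ^ e ≤ 2 ^ 2 := Nat.pow_le_pow_right two_pos (by omega)
      omega
    rcases (show e = 3 ∨ e = 4 ∨ e = 5 by omega) with rfl | rfl | rfl
    · exfalso
      norm_num at he
      have hCcard : Nat.card C = 4 := by omega
      have hN6 : N = 6 := by omega
      -- the two elements with square `z` form an invariant coset
      obtain ⟨x, hxx⟩ : ∃ x : X, x * x ≠ 1 := by
        by_contra hno
        push Not at hno
        have : N = 8 := by
          simp only [N, Finset.filter_true_of_mem (fun x _ => hno x), Finset.card_univ, he]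
        omega
      have hxz : x * z ≠ x := fun e => hz1 (mul_eq_left.mp e)
      have htwo : ∀ y : X, y * y ≠ 1 → y = x ∨ y = x * z := by
        intro y hy
        by_contra hno
        push Not at hno
        have hsub : ({x, x * z, y} : Finset X) ⊆ Finset.univ.filter fun a : X => ¬ a * a = 1 := by
          intro a ha
          simp at ha ⊢
          rcases ha with rfl | rfl | rfl
          · exact hxx
          · rw [show x * z * (x * z) = x * (z * x) * z by group, ← Subgroup.mem_center_iff.mp hz x,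
              show x * (x * z) * z = x * x * (z * z) by group, hsqZ z hz, mul_one]; exact hxx
          · exact hy
        have h3 := Finset.card_le_card hsub
        rw [Finset.card_eq_three.mpr ⟨x, x * z, y, hxz.symm, hno.1.symm, hno.2.symm, rfl⟩,
          Finset.filter_not, Finset.card_sdiff, Finset.inter_univ, Finset.card_univ, he] at h3
        change 3 ≤ 8 - N at h3
        omega
      have hxZ := h.mem_center_of_classes hzc (x := x) fun φ _ => by
        rcases htwo (φ x) (by rw [← map_mul]; exact fun e => hxx (by simpa using congrArg φ.symm e)) with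
          e | e <;> rw [e]
        · rw [mul_inv_cancel]; exact one_mem Z
        · rw [Subgroup.mem_center_iff.mp hz x, mul_inv_cancel_right]; exact hz
      exact hxx (hsqZ x hxZ)
    · exfalso
      norm_num at he
      have hC8 : Nat.card C = 8 := by omega
      obtain ⟨c, hcC, hcT⟩ : ∃ c ∈ C, c ∉ T := by
        by_contra hno
        push Not at hno
        have := Subgroup.card_le_of_le (show C ≤ T from hno)
        omega
      have hTcen : ∀ b ∈ T, ∀ d ∈ C, b * d = d * b := by
        intro b hb d hd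
        have hdt : d * t = t * d := Subgroup.mem_centralizer_singleton_iff.mp hd
        rcases (hTmem b).mp hb with e' | e' | e' | e' <;> rw [e']
        · simp
        · exact (Subgroup.mem_center_iff.mp hz d).symm
        · exact hdt.symm
        · rw [mul_assoc, ← hdt, ← mul_assoc, ← Subgroup.mem_center_iff.mp hz d, mul_assoc]
      have hTidx : (T.subgroupOf C).index = 2 := by
        have h1 := (T.subgroupOf C).card_mul_index
        rw [Nat.card_congr (Subgroup.subgroupOfEquivOfLe hTC).toEquiv, hT4, hC8] at h1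
        omega
      have hCcomm : ∀ d ∈ C, c * d = d * c := by
        intro d hd
        by_cases hdT : d ∈ T
        · exact (hTcen d hdT c hcC).symm
        · have hcd : (⟨c, hcC⟩ : C)⁻¹ * ⟨d, hd⟩ ∈ T.subgroupOf C :=
            (Subgroup.mul_mem_iff_of_index_two hTidx).mpr
              (iff_of_false (fun hc' => hcT (by simpa [Subgroup.mem_subgroupOf] using hc')) hdT)
          have h1 : c⁻¹ * d * c = c * (c⁻¹ * d) := hTcen _ hcd c hcC
          calc c * d = c * (c * (c⁻¹ * d)) := by rw [mul_inv_cancel_left]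
            _ = c * (c⁻¹ * d * c) := by rw [h1]
            _ = d * c := by group
      have hcentral : ∀ w ∈ C, (∀ d ∈ C, w * d = d * w) → g * w * g⁻¹ * w⁻¹ = 1 → w ∈ Z := by
        intro w hwC hwc hgw
        have hgw' : g * w = w * g := mul_inv_eq_iff_eq_mul.mp (mul_inv_eq_one.mp hgw)
        refine Subgroup.mem_center_iff.mpr fun b => ?_
        by_cases hb : b ∈ C
        · exact (hwc b hb).symm
        · have hgb : g⁻¹ * b ∈ C := (Subgroup.mul_mem_iff_of_index_two hCidx).mpr
            (iff_of_false (fun hc' => hgC (by simpa using hc')) hb)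
          have h1 := hwc _ hgb
          calc b * w = g * (g⁻¹ * b * w) := by group
            _ = g * w * (g⁻¹ * b) := by rw [← h1]; group
            _ = w * g * (g⁻¹ * b) := by rw [hgw']
            _ = w * b := by group
      have htT : t ∈ T := (hTmem t).mpr (by simp)
      have htC : t ∈ C := hTC htT
      rcases hall _ (hmem g c) with e' | e'
      · exact hcT (Subgroup.mem_sup_left (hcentral c hcC hCcomm e'))
      · refine hcT ?_
        have hct1 : g * (c * t) * g⁻¹ * (c * t)⁻¹ = 1 := by
          rw [show g * (c * t) * g⁻¹ * (c * t)⁻¹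
              = g * c * g⁻¹ * (g * t * g⁻¹ * t⁻¹) * c⁻¹ by group, hg,
            Subgroup.mem_center_iff.mp hz (g * c * g⁻¹),
            show z * (g * c * g⁻¹) * c⁻¹ = z * (g * c * g⁻¹ * c⁻¹) by group, e', hsqZ z hz]
        have h1 : c * t ∈ Z := hcentral _ (mul_mem hcC htC) (fun d hd => by
          rw [mul_assoc, hTcen t htT d hd, ← mul_assoc, hCcomm d hd, mul_assoc]) hct1
        simpa [mul_assoc] using mul_mem (Subgroup.mem_sup_left h1 : c * t ∈ T) (inv_mem htT)
    · norm_num at he
      exact Or.inr ⟨he, by omega⟩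
  · push Not at ht
    refine Or.inl ?_
    have hN2 : N = 2 := by
      rw [← h2, Nat.card_eq_fintype_card]
      simp only [N]
      rw [← Fintype.card_subtype]
      exact Fintype.card_congr (Equiv.subtypeEquivRight fun x => ⟨fun hx => ht x hx, fun hx => hsqZ x hx⟩)
    refine ⟨?_, hN2⟩
    rw [hN2] at hSN
    rcases hS2 with h0 | h0
    · push_cast at hSN; omega
    rw [hSN] at h0; push_cast at h0
    have hP : (Fintype.card X : ℤ) * (Fintype.card X : ℤ) - 10 * Fintype.card X + 16 = 0 := by
      linarith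
    have : ((Fintype.card X : ℤ) - 8) * ((Fintype.card X : ℤ) - 2) = 0 := by linarith
    rcases mul_eq_zero.mp this with e1 | e1 <;> omega

end Hyp

end Cfsg.Agent.Invol.NoSCN
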