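import Cfsg.Agent.Lib.Invol.SixtyFourUnitary
import Cfsg.Agent.Lib.Invol.NoSCNClassify

/-!
# Nonabelian 2-groups with three involutions permuted by an automorphism

Such a group has order 64 and an automorphism of order three makes it the Sylow 2-subgroup of `PSU(3, 4)`.
-/

set_option autoImplicit false

namespace Cfsg.Agent.Invol.SixtyFour

open FpfThree

variable {T : Type*} [Group T] [Finite T]

theorem unitary_of_three (hT : IsPGroup 2 T) (hna : ¬ IsMulCommutative T) {ψ : MulAut T} {k : ℕ}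
    (hψ : orderOf ψ = 3 ^ k) {D : Subgroup T} (hD : ∀ x, x ∈ D ↔ x * x = 1) (hrot : NoSCN.Rot ψ D)
    (h4 : Nat.card D = 4) : Unitary ψ := by
  classical
  haveI := Fintype.ofFinite T
  haveI : Fact (Nat.Prime 2) := ⟨Nat.prime_two⟩
  haveI : Fact (Nat.Prime 3) := ⟨Nat.prime_three⟩
  have hfix : ∀ x, ψ x = x → x = 1 := by
    intro x hx
    obtain ⟨j, hj⟩ := hT x
    induction j generalizing x with
    | zero => simpa using hj
    | succ j ih =>
      have h2 : x * x = 1 := ih (x * x) (by rw [map_mul, hx]) (by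
        rw [← pow_two, ← pow_mul, ← pow_succ']; exact hj)
      exact hrot.ne x ((hD x).mpr h2) hx
  have hgen : Subgroup.closure {g : T | ∃ φ ∈ Subgroup.zpowers ψ, ∃ x : T, g = x⁻¹ * φ x} = ⊤ := by
    refine eq_top_iff.mpr fun g _ => ?_
    have hinj : Function.Injective fun a => a⁻¹ * ψ a := by
      intro a b hab
      have h1 : ψ (a * b⁻¹) = a * b⁻¹ := by
        rw [map_mul, map_inv, show ψ a = a * (a⁻¹ * ψ a) by group, show a⁻¹ * ψ a = b⁻¹ * ψ b from hab]
        group
      exact mul_inv_eq_one.mp (hfix _ h1)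
    obtain ⟨a, ha⟩ := (Finite.injective_iff_surjective.mp hinj) g
    exact Subgroup.subset_closure ⟨ψ, Subgroup.mem_zpowers ψ, a, ha.symm⟩
  have h : NoSCN.Hyp (Subgroup.zpowers ψ) := by
    refine ⟨hT, by rw [Nat.card_zpowers, hψ]; exact Odd.pow (by decide), hgen, fun E _ hE => ?_⟩
    rw [← h4]
    exact Subgroup.card_le_of_le fun a ha => (hD a).mpr (hE a ha)
  obtain ⟨hzc, hsqZ, -, -⟩ := h.center_eq hna
  have hDn : D.Normal := ⟨fun w hw g => (hD _).mpr (by
    rw [show g * w * g⁻¹ * (g * w * g⁻¹) = g * (w * w) * g⁻¹ by group, (hD w).mp hw, mul_one, mul_inv_cancel])⟩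
  have hDz : D ≤ Subgroup.center T := by
    haveI := hT.isNilpotent
    haveI := hDn
    have hne : D ≠ ⊥ := fun e => by rw [e, Subgroup.card_bot] at h4; omega
    obtain ⟨w, hw, hw1⟩ := (Subgroup.bot_or_exists_ne_one _).resolve_left (Cfsg.Agent.Grp.inf_center_ne_bot D hne)
    have hz : ∀ y ∈ Subgroup.center T, ψ y ∈ Subgroup.center T := fun y hy => by
      refine Subgroup.mem_center_iff.mpr fun g => ?_
      obtain ⟨g, rfl⟩ := ψ.surjective g
      rw [← map_mul, ← map_mul, Subgroup.mem_center_iff.mp hy g]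
    intro y hy
    rcases hrot.all w hw.1 hw1 y hy with e | e | e | e <;> rw [e]
    · exact one_mem _
    · exact hw.2
    · exact hz w hw.2
    · exact hz _ (hz w hw.2)
  have hZD : Subgroup.center T = D := le_antisymm (fun a ha => (hD a).mpr (hsqZ a ha)) hDz
  have hZ4 : Nat.card (Subgroup.center T) = 4 := by rw [hZD]; exact h4
  obtain ⟨h64, hinv⟩ := h.classify_four hna hZ4
  have hrotZ : NoSCN.Rot ψ (Subgroup.center T) := by rw [hZD]; exact hrot
  set Z := Subgroup.center T
  have hsq := h.sq_central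
  have hc : ∀ a b : T, c a b ∈ Z := fun a b => (h.comm_center a b)
  -- fixed-point-free modulo the centre
  have hfp : ∀ v, ψ v * v⁻¹ ∈ Z → v ∈ Z := by
    intro v hv
    have hinj : Function.Injective fun a : Z => (⟨ψ a * (a : T)⁻¹, mul_mem (hrotZ.mem _ a.2) (inv_mem a.2)⟩ : Z) := by
      intro a b hab
      have e : ψ a * (a : T)⁻¹ = ψ b * (b : T)⁻¹ := congrArg Subtype.val hab
      refine Subtype.ext (inv_mul_eq_one.mp (hfix _ ?_))
      rw [map_mul, map_inv, show ψ (b : T) = ψ b * (b : T)⁻¹ * b by group, ← e]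
      group
    obtain ⟨a, ha⟩ := (Finite.injective_iff_surjective.mp hinj) ⟨_, hv⟩
    have e : ψ a * (a : T)⁻¹ = ψ v * v⁻¹ := congrArg Subtype.val ha
    have hfixed : ψ (v * (a : T)⁻¹) = v * (a : T)⁻¹ := by
      rw [map_mul, map_inv, show ψ (a : T) = ψ a * (a : T)⁻¹ * a by group, e,
        mul_inv_rev, show ψ v * ((a : T)⁻¹ * (ψ v * v⁻¹)⁻¹) = ψ v * (a : T)⁻¹ * (v * (ψ v)⁻¹) by group,
        Subgroup.mem_center_iff.mp (inv_mem a.2) (ψ v)]
      rw [show (a : T)⁻¹ * ψ v * (v * (ψ v)⁻¹) = (a : T)⁻¹ * (ψ v * v * (ψ v)⁻¹) by group,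
        show ψ v * v * (ψ v)⁻¹ = (ψ v * v⁻¹) * v * (ψ v * v⁻¹)⁻¹ by group,
        ← Subgroup.mem_center_iff.mp hv v, mul_inv_cancel_right, ← Subgroup.mem_center_iff.mp (inv_mem a.2) v]
    rw [mul_inv_eq_one.mp (hfix _ hfixed)]
    exact a.2
  obtain ⟨z, hz, hz1⟩ := (Subgroup.bot_or_exists_ne_one Z).resolve_left fun e => by
    rw [e, Subgroup.card_bot] at hZ4; omega
  -- twenty elements square to `z`
  set R := Finset.univ.filter fun t : T => t * t = z with hR
  have hR20 : R.card = 20 := by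
    have hshift : ∀ v : T, (Finset.univ.filter fun t : T => t * t = ψ v).card =
        (Finset.univ.filter fun t : T => t * t = v).card := fun v => by
      refine (Finset.card_equiv ψ.toEquiv fun t => ?_).symm
      simp [← map_mul]
    have h1 : (Finset.univ.filter fun t : T => t * t = 1).card = 4 := by
      rw [← hZ4, Nat.card_eq_fintype_card, ← Fintype.card_subtype]
      exact Fintype.card_congr (Equiv.subtypeEquivRight fun x => ⟨hinv x, hsqZ x⟩)
    have ne1 : ψ z ≠ 1 := fun e => hz1 (by simpa using congrArg ψ.symm e)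
    have ne2 : ψ (ψ z) ≠ 1 := fun e => ne1 (by simpa using congrArg ψ.symm e)
    have ne3 : ψ z ≠ z := fun e => hz1 (hrotZ.ne z hz e)
    have ne4 : ψ (ψ z) ≠ z := fun e => hz1 (hrotZ.two_ne hz e)
    have ne5 : ψ (ψ z) ≠ ψ z := fun e => ne3 (ψ.injective e)
    have hsum := Finset.card_eq_sum_card_fiberwise (f := fun t : T => t * t) (s := Finset.univ)
      (t := {1, z, ψ z, ψ (ψ z)}) (fun t _ => by
        simpa using hrotZ.all z hz hz1 _ (hsq t))
    rw [Finset.sum_insert (by simp [hz1.symm, ne1.symm, ne2.symm]),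
      Finset.sum_insert (by simp [ne3.symm, ne4.symm]), Finset.sum_insert (by simp [ne5.symm]),
      Finset.sum_singleton, hshift, hshift, h1, Finset.card_univ, ← Nat.card_eq_fintype_card, h64] at hsum
    simp only [hshift] at hsum
    rw [hR]; omega
  set τ := ψ * (ψ * ψ) with hτdef
  have hτ : ∀ t, τ t = ψ (ψ (ψ t)) := fun t => rfl
  let W : Subgroup T :=
    { carrier := {t | τ t = t}
      one_mem' := map_one τ
      mul_mem' := fun {a b} ha hb => by
        show τ (a * b) = a * b
        rw [map_mul, show τ a = a from ha, show τ b = b from hb]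
      inv_mem' := fun {a} ha => by
        show τ a⁻¹ = a⁻¹
        rw [map_inv, show τ a = a from ha] }
  have hZW : Z ≤ W := fun a ha => hrotZ.three ha
  have hWψ : ∀ a ∈ W, ψ a ∈ W := fun a ha => by
    show τ (ψ a) = ψ a
    conv_rhs => rw [← (show τ a = a from ha)]
    rfl
  have hmap : ∀ t : {t : T // t * t = z}, τ t * τ t = z := fun t => by
    rw [← map_mul, t.2]; exact hrotZ.three hz
  let p : Equiv.Perm {t : T // t * t = z} :=
    Equiv.ofBijective (fun t => ⟨τ t, hmap t⟩) (Finite.injective_iff_bijective.mp fun a b e =>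
      Subtype.ext (τ.injective (congrArg Subtype.val e)))
  have hp : p ^ 3 ^ k = 1 := by
    have hpow : ∀ n t, (((p ^ n) t : {t : T // t * t = z}) : T) = (τ ^ n) (t : T) := by
      intro n
      induction n with
      | zero => simp
      | succ n ih =>
        intro t
        rw [pow_succ', pow_succ', Equiv.Perm.mul_apply, MulAut.mul_apply, ← ih]
        rfl
    refine Equiv.ext fun t => Subtype.ext ?_
    rw [hpow, show τ = ψ ^ 3 by rw [hτdef, pow_three], ← pow_mul, ← hψ, mul_comm, pow_mul,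
      pow_orderOf_eq_one, one_pow]
    rfl
  have hmod := Equiv.Perm.card_compl_support_modEq (p := 3) (n := k) (σ := p) hp
  rw [Fintype.card_subtype, ← hR, hR20] at hmod
  set Φ := R.filter fun t => τ t = t with hΦ
  have hΦcard : Φ.card = (p.supportᶜ).card := by
    refine Finset.card_bij (fun t ht => ⟨t, (Finset.mem_filter.mp (Finset.mem_filter.mp ht).1).2⟩)
      (fun t ht => ?_) (fun a _ b _ e => congrArg Subtype.val e) (fun t ht => ?_)
    · simp only [Finset.mem_compl, Equiv.Perm.mem_support, not_not]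
      exact Subtype.ext (Finset.mem_filter.mp ht).2
    · simp only [Finset.mem_compl, Equiv.Perm.mem_support, not_not] at ht
      exact ⟨t, Finset.mem_filter.mpr ⟨Finset.mem_filter.mpr ⟨Finset.mem_univ _, t.2⟩,
        congrArg Subtype.val ht⟩, rfl⟩
  rw [← hΦcard, Nat.ModEq] at hmod
  obtain ⟨x, hx⟩ := Finset.card_pos.mp (show 0 < Φ.card by omega)
  obtain ⟨hxR, hxτ⟩ := Finset.mem_filter.mp hx
  have hxz : x * x = z := (Finset.mem_filter.mp hxR).2
  have hxW : x ∈ W := hxτ
  have hxZ : x ∉ Z := fun hm => hz1 (hxz ▸ hsqZ x hm)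
  obtain ⟨y, hy, hyx⟩ : ∃ y ∈ Φ, y * x⁻¹ ∉ Z := by
    by_contra hno
    push Not at hno
    have : Φ = (Finset.univ.filter fun a : T => a ∈ Z).image (fun a => a * x) := by
      ext t
      simp only [Finset.mem_image, Finset.mem_filter, Finset.mem_univ, true_and]
      constructor
      · exact fun ht => ⟨t * x⁻¹, hno t ht, by group⟩
      · rintro ⟨a, ha, rfl⟩
        refine Finset.mem_filter.mpr ⟨Finset.mem_filter.mpr ⟨Finset.mem_univ _, ?_⟩, ?_⟩
        · rw [show a * x * (a * x) = a * (x * a) * x by group, Subgroup.mem_center_iff.mp ha x,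
            show a * (a * x) * x = (a * a) * (x * x) by group, hsqZ a ha, hxz, one_mul]
        · exact mul_mem (hZW ha) hxW
    rw [this, Finset.card_image_of_injective _ (mul_left_injective x), ← Fintype.card_subtype,
      ← Nat.card_eq_fintype_card, show Nat.card {a // a ∈ Z} = 4 from hZ4] at hmod
    omega
  obtain ⟨hyR, hyτ⟩ := Finset.mem_filter.mp hy
  have hyz : y * y = z := (Finset.mem_filter.mp hyR).2
  have hsum : x * ψ x * ψ (ψ x) ∈ Z := by
    refine hfp _ ?_
    rw [map_mul, map_mul, show ψ (ψ (ψ x)) = x from hxτ,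
      show ψ x * ψ (ψ x) * x * (x * ψ x * ψ (ψ x))⁻¹ = c (ψ x * ψ (ψ x)) x by simp only [c]; group]
    exact hc _ _
  have hcx : c x (ψ x) = 1 := by
    have hpsq : x * ψ x * (x * ψ x) = c x (ψ x) * (z * ψ z) := by
      rw [← inv_eq_of_mul_eq_one_right (hsqZ _ (hc x (ψ x))), c_inv]
      calc x * ψ x * (x * ψ x) = x * c (ψ x) x * x * (ψ x * ψ x) := by simp only [c]; group
        _ = _ := by rw [Subgroup.mem_center_iff.mp (hc (ψ x) x) x, ← map_mul, hxz]
                    rw [mul_assoc (c (ψ x) x), hxz, mul_assoc]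
    set P := x * ψ x
    have h3 : ψ (ψ z) * (P * P) = 1 := by
      rw [← hxz, map_mul, map_mul]
      have hcm := Subgroup.mem_center_iff.mp hsum P⁻¹
      have e1 : ψ (ψ x) * P = P * ψ (ψ x) := by
        calc ψ (ψ x) * P = P⁻¹ * (P * ψ (ψ x)) * P := by group
          _ = _ := by rw [hcm]; group
      calc ψ (ψ x) * ψ (ψ x) * (P * P) = ψ (ψ x) * (ψ (ψ x) * P) * P := by group
        _ = ψ (ψ x) * (P * ψ (ψ x)) * P := by rw [e1]
        _ = (ψ (ψ x) * P) * (ψ (ψ x) * P) := by group
        _ = _ := by rw [e1]; exact hsqZ _ hsum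
    rw [hpsq, hrotZ.two z hz, ← mul_assoc, Subgroup.mem_center_iff.mp (hc x (ψ x)) (z * ψ z), mul_assoc,
      hrotZ.sq _ (mul_mem hz (hrotZ.mem z hz)), mul_one] at h3
    exact h3
  haveI := normal_of_comm (A := Z) hc
  haveI : (Z ⊔ Subgroup.zpowers x).Normal := normal_of_comm fun a b => Subgroup.mem_sup_left (hc a b)
  set E := Z ⊔ Subgroup.zpowers x ⊔ Subgroup.zpowers (ψ x) with hE
  have hψxE : ψ x ∉ Z ⊔ Subgroup.zpowers x := by
    intro hm
    rcases mem_adj (hsq x) hm with h1 | h1
    · exact hxZ ((show τ x = x from hxτ) ▸ hrotZ.mem _ (hrotZ.mem _ h1))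
    · exact hxZ (hfp x h1)
  have hyE : y ∉ E := by
    intro hm
    obtain ⟨a, ha, e⟩ := mem_quad hc hsq hm
    have hsq' : ∀ b, a * b * (a * b) = b * b := fun b => by
      rw [show a * b * (a * b) = a * (b * a) * b by group, Subgroup.mem_center_iff.mp ha b,
        show a * (a * b) * b = (a * a) * (b * b) by group, hsqZ a ha, one_mul]
    have ne3 : ψ z ≠ z := fun e' => hz1 (hrotZ.ne z hz e')
    rcases e with e | e | e | e
    · exact hz1 (by rw [← hyz, e]; exact hsqZ a ha)
    · exact hyx (by rw [e, mul_inv_cancel_right]; exact ha)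
    · have h1 := hyz
      rw [e, hsq', ← map_mul, hxz] at h1
      exact ne3 h1
    · refine hz1 ?_
      have h1 := hyz
      rw [e, hsq', show x * ψ x * (x * ψ x) = x * (ψ x * x) * ψ x by group, ← c_eq_one.mp hcx,
        show x * (x * ψ x) * ψ x = (x * x) * (ψ x * ψ x) by group, ← map_mul, hxz, mul_eq_left] at h1
      exact ψ.injective (h1.trans (map_one ψ).symm)
  haveI : E.Normal := normal_of_comm fun a b => Subgroup.mem_sup_left (Subgroup.mem_sup_left (hc a b))
  have h32 : Nat.card ↥(E ⊔ Subgroup.zpowers y) = 32 := by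
    rw [card_adj (Subgroup.mem_sup_left (Subgroup.mem_sup_left (hsq y))) hyE,
      card_adj (Subgroup.mem_sup_left (hsq _)) hψxE, card_adj (hsq x) hxZ, hZ4]
  have hW : 32 ≤ Nat.card W := by
    rw [← h32]
    exact Subgroup.card_le_of_le (sup_le (sup_le (sup_le hZW (Subgroup.zpowers_le.mpr hxW))
      (Subgroup.zpowers_le.mpr (hWψ x hxW))) (Subgroup.zpowers_le.mpr hyτ))
  haveI : W.Normal := normal_of_comm fun a b => hZW (hc a b)
  have hWtop : ∀ v, v ∈ W := by
    intro v
    by_contra hv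
    have hidx : W.index = 2 := by
      have h1 := W.card_mul_index
      rw [h64] at h1
      have h0 : W.index ≠ 1 := fun e => hv (Subgroup.index_eq_one.mp e ▸ Subgroup.mem_top v)
      have hpos : 0 < W.index := Nat.pos_of_ne_zero Subgroup.index_ne_zero_of_finite
      have : W.index ≤ 2 := by nlinarith
      omega
    refine hv (h.fpf (N := W) (hzc.ge.trans hZW) fun φ hφ => ?_)
    refine (Subgroup.mul_mem_iff_of_index_two hidx).mpr (iff_of_false (fun hm => hv ?_) (fun hm => hv (inv_mem_iff.mp hm)))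
    obtain ⟨n, rfl⟩ := (Submonoid.mem_powers_iff _ _).mp (mem_powers_iff_mem_zpowers.mpr hφ)
    have key : ∀ j (a : T), a ∈ W → (ψ ^ j) a ∈ W := fun j => by
      induction j with
      | zero => exact fun a ha => ha
      | succ j ih => exact fun a ha => by rw [pow_succ', MulAut.mul_apply]; exact hWψ _ (ih a ha)
    have h1 := key ((orderOf ψ - 1) * n) _ hm
    rwa [← MulAut.mul_apply, ← pow_add, ← Nat.succ_mul, Nat.succ_eq_add_one,
      Nat.sub_add_cancel (orderOf_pos ψ), pow_mul, pow_orderOf_eq_one, one_pow] at h1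
  exact ⟨hT, ⟨fun v => hWtop v, hfix⟩, hrotZ, hZ4, hsq, hinv, h64⟩

end Cfsg.Agent.Invol.SixtyFour
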