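import Mathlib
import Cfsg.Prelude.Def_CaseTheorems
import Cfsg.Agent.Lib.Transfer.MaxClass

/-!
# Quasi-dihedral 2-groups

Elements are `x ^ i` and `x ^ i * y`; exponents are integers modulo `4 * qq n`, where
`qq n = 2 ^ (n - 2)`.
-/

namespace Cfsg.Agent.Invol

/-- Generators and relations of a quasi-dihedral group. -/
structure QD (S : Type*) [Group S] (n : ℕ) (x y : S) : Prop where
  hn : 3 ≤ n
  card : Nat.card S = 2 ^ (n + 1)
  ox : orderOf x = 2 ^ n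
  oy : orderOf y = 2
  conj : y * x * y⁻¹ = x ^ (2 ^ (n - 1) - 1)

/-- A quarter of the order of the cyclic subgroup of index 2. -/
def qq (n : ℕ) : ℤ := 2 ^ (n - 2)

variable {S : Type*} [Group S] {n : ℕ} {x y : S}

theorem exists_qd (h : Cfsg.IsQuasiDihedral S) : ∃ n x y, QD (S := S) n x y := by
  obtain ⟨n, hn, hc, x, y, hx, hy, hxy⟩ := h
  exact ⟨n, x, y, hn, hc, hx, hy, hxy⟩

namespace QD

theorem finite (h : QD S n x y) : Finite S :=
  Nat.finite_of_card_ne_zero (by rw [h.card]; positivity)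

theorem orderOf_cast (h : QD S n x y) : (orderOf x : ℤ) = 4 * qq n := by
  rw [h.ox, qq, show (4 : ℤ) = 2 ^ 2 by norm_num, ← pow_add, Nat.add_sub_cancel' (by linarith [h.hn] : 2 ≤ n)]
  push_cast
  rfl

theorem qq_pos (h : QD S n x y) : 0 < qq n := by
  have := h.hn
  unfold qq
  positivity

theorem qq_even (h : QD S n x y) : ∃ r : ℤ, qq n = 2 * r :=
  ⟨2 ^ (n - 3), by rw [qq, ← pow_succ', show n - 3 + 1 = n - 2 by have := h.hn; omega]⟩

theorem qq_sq (h : QD S n x y) : 2 * qq n ∣ qq n * qq n := by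
  obtain ⟨r, hr⟩ := h.qq_even
  exact ⟨r, by rw [hr]; ring⟩

theorem zpow_eq (h : QD S n x y) {i j : ℤ} : x ^ i = x ^ j ↔ 4 * qq n ∣ i - j := by
  rw [← h.orderOf_cast, orderOf_dvd_sub_iff_zpow_eq_zpow]

theorem zpow_eq_one (h : QD S n x y) {i : ℤ} : x ^ i = 1 ↔ 4 * qq n ∣ i := by
  rw [← h.orderOf_cast, orderOf_dvd_iff_zpow_eq_one]

theorem y_mul_self (h : QD S n x y) : y * y = 1 := by
  rw [← pow_two, ← h.oy, pow_orderOf_eq_one]

theorem y_inv (h : QD S n x y) : y⁻¹ = y := inv_eq_of_mul_eq_one_right h.y_mul_self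

theorem conj_zpow (h : QD S n x y) (i : ℤ) : y * x ^ i * y⁻¹ = x ^ (i * (2 * qq n - 1)) := by
  have he : x ^ (2 ^ (n - 1) - 1 : ℕ) = x ^ (2 * qq n - 1) := by
    rw [← zpow_natCast, Nat.cast_sub Nat.one_le_two_pow, qq, ← pow_succ',
      show n - 2 + 1 = n - 1 by have := h.hn; omega]
    push_cast
    rfl
  rw [← _root_.conj_zpow, h.conj, he, ← zpow_mul, mul_comm]

theorem y_mul_zpow (h : QD S n x y) (i : ℤ) : y * x ^ i = x ^ (i * (2 * qq n - 1)) * y := by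
  rw [← h.conj_zpow i, inv_mul_cancel_right]

theorem y_notMem (h : QD S n x y) : y ∉ Subgroup.zpowers x := by
  intro hy
  obtain ⟨k, hk⟩ := Subgroup.mem_zpowers_iff.mp hy
  have h1 := h.conj_zpow 1
  rw [zpow_one, ← hk, ← zpow_neg] at h1
  have h2 : x ^ (1 : ℤ) = x ^ ((1 : ℤ) * (2 * qq n - 1)) := by
    rw [← h1, zpow_one]
    conv_rhs => arg 1; arg 2; rw [← zpow_one x]
    rw [← zpow_add, ← zpow_add, show k + 1 + -k = 1 by ring, zpow_one]
  obtain ⟨c, hc⟩ := h.zpow_eq.mp h2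
  obtain ⟨r, hr⟩ := h.qq_even
  rw [hr] at hc
  have : 2 * (r * (2 * c + 1)) = 1 := by linarith
  generalize r * (2 * c + 1) = m at this
  omega

theorem index_zpowers (h : QD S n x y) : (Subgroup.zpowers x).index = 2 := by
  have := h.finite
  have h1 := (Subgroup.zpowers x).card_mul_index
  rw [Nat.card_zpowers, h.ox, h.card, pow_succ] at h1
  exact Nat.eq_of_mul_eq_mul_left (by positivity) h1

theorem cases' (h : QD S n x y) (s : S) : ∃ i : ℤ, s = x ^ i ∨ s = x ^ i * y := by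
  by_cases hs : s ∈ Subgroup.zpowers x
  · obtain ⟨i, rfl⟩ := Subgroup.mem_zpowers_iff.mp hs
    exact ⟨i, .inl rfl⟩
  · have : s * y ∈ Subgroup.zpowers x :=
      (Subgroup.mul_mem_iff_of_index_two h.index_zpowers).2 (iff_of_false hs h.y_notMem)
    obtain ⟨i, hi⟩ := Subgroup.mem_zpowers_iff.mp this
    exact ⟨i, .inr (by rw [hi, mul_assoc, h.y_mul_self, mul_one])⟩

theorem zpow_mul_y_ne (h : QD S n x y) (i j : ℤ) : x ^ i * y ≠ x ^ j := by
  intro he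
  refine h.y_notMem (Subgroup.mem_zpowers_iff.mpr ⟨-i + j, ?_⟩)
  rw [zpow_add, ← he, zpow_neg, inv_mul_cancel_left]

theorem mul_y_mul_zpow (h : QD S n x y) (i j : ℤ) :
    x ^ i * y * x ^ j = x ^ (i + j * (2 * qq n - 1)) * y := by
  rw [mul_assoc, h.y_mul_zpow, ← mul_assoc, ← zpow_add]

theorem mul_y_mul (h : QD S n x y) (i j : ℤ) :
    x ^ i * y * (x ^ j * y) = x ^ (i + j * (2 * qq n - 1)) := by
  rw [← mul_assoc, h.mul_y_mul_zpow, mul_assoc, h.y_mul_self, mul_one]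

theorem sq_mul_y (h : QD S n x y) (i : ℤ) : (x ^ i * y) * (x ^ i * y) = x ^ (i * (2 * qq n)) := by
  rw [h.mul_y_mul]; congr 1; ring

theorem conj_x (h : QD S n x y) (k i : ℤ) :
    x ^ k * (x ^ i * y) * (x ^ k)⁻¹ = x ^ (i + 2 * k * (1 - qq n)) * y := by
  rw [← zpow_neg, ← mul_assoc, ← zpow_add, h.mul_y_mul_zpow]; congr 2; ring

theorem conj_y (h : QD S n x y) (i : ℤ) :
    y * (x ^ i * y) * y⁻¹ = x ^ (i * (2 * qq n - 1)) * y := by
  rw [← mul_assoc, h.y_mul_zpow]; group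

theorem mul_y_eq (h : QD S n x y) {i j : ℤ} : x ^ i * y = x ^ j * y ↔ 4 * qq n ∣ i - j := by
  rw [mul_left_inj, h.zpow_eq]

theorem orderOf_mul_y_even (h : QD S n x y) {i : ℤ} (hi : 2 ∣ i) : orderOf (x ^ i * y) = 2 := by
  refine orderOf_eq_prime ?_ (by simpa using h.zpow_mul_y_ne i 0)
  rw [pow_two, h.sq_mul_y, h.zpow_eq_one]
  obtain ⟨d, rfl⟩ := hi
  exact ⟨d, by ring⟩

theorem orderOf_mul_y_odd (h : QD S n x y) {i : ℤ} (hi : ¬ 2 ∣ i) : orderOf (x ^ i * y) = 4 := by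
  rw [show (4 : ℕ) = 2 ^ (1 + 1) from rfl]
  refine orderOf_eq_prime_pow ?_ ?_
  · rw [pow_one, pow_two, h.sq_mul_y, h.zpow_eq_one]
    rintro ⟨d, hd⟩
    exact hi ⟨d, mul_right_cancel₀ (mul_ne_zero two_ne_zero h.qq_pos.ne') (by linarith : i * (2 * qq n) = 2 * d * (2 * qq n))⟩
  · rw [show 2 ^ (1 + 1) = 2 * 2 from rfl, pow_mul, pow_two (x ^ i * y), h.sq_mul_y, pow_two, ← zpow_add, h.zpow_eq_one]
    exact ⟨i, by ring⟩

/-- `x ^ i * y` with `i` of fixed parity form one class, conjugate by powers of `x`. -/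
theorem conj_mul_y (h : QD S n x y) {i j : ℤ} (hij : 2 ∣ j - i) :
    ∃ k : ℤ, x ^ k * (x ^ i * y) * (x ^ k)⁻¹ = x ^ j * y := by
  obtain ⟨d, hd⟩ := hij
  obtain ⟨e, he⟩ := h.qq_sq
  refine ⟨d * (1 + qq n), ?_⟩
  rw [h.conj_x, h.mul_y_eq]
  exact ⟨-(d * e), by linear_combination (-1 : ℤ) * hd - 2 * d * he⟩

theorem parity_conj (h : QD S n x y) {i j : ℤ} {s : S} (hs : s * (x ^ i * y) * s⁻¹ = x ^ j * y) :
    2 ∣ j - i := by
  obtain ⟨k, rfl | rfl⟩ := h.cases' s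
  · rw [h.conj_x, h.mul_y_eq] at hs
    obtain ⟨c, hc⟩ := hs
    exact ⟨k * (1 - qq n) - 2 * qq n * c, by linarith⟩
  · have he : x ^ k * y * (x ^ i * y) * (x ^ k * y)⁻¹ =
        x ^ k * (y * (x ^ i * y) * y⁻¹) * (x ^ k)⁻¹ := by group
    rw [he, h.conj_y, h.conj_x, h.mul_y_eq] at hs
    obtain ⟨c, hc⟩ := hs
    exact ⟨k * (1 - qq n) + i * (qq n - 1) - 2 * qq n * c, by linarith⟩

theorem zpow_sq (h : QD S n x y) (i : ℤ) :
    x ^ i * x ^ i = 1 ↔ x ^ i = 1 ∨ x ^ i = x ^ (2 * qq n) := by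
  rw [← zpow_add, h.zpow_eq_one, h.zpow_eq_one, h.zpow_eq]
  constructor
  · rintro ⟨c, hc⟩
    rcases Int.even_or_odd c with ⟨d, rfl⟩ | ⟨d, rfl⟩
    · exact .inl ⟨d, by linarith⟩
    · exact .inr ⟨d, by linarith⟩
  · rintro (⟨c, hc⟩ | ⟨c, hc⟩)
    · exact ⟨2 * c, by linarith⟩
    · exact ⟨2 * c + 1, by linarith⟩

theorem zpow_four (h : QD S n x y) {i : ℤ} (h4 : orderOf (x ^ i) = 4) :
    x ^ i = x ^ qq n ∨ x ^ i = x ^ (-qq n) := by
  have h1 : (x ^ i) ^ 4 = 1 := by rw [← h4, pow_orderOf_eq_one]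
  rw [← zpow_natCast, ← zpow_mul, h.zpow_eq_one] at h1
  obtain ⟨c, hc⟩ := h1
  push_cast at hc
  have hi : i = qq n * c := by linarith
  have hodd : ¬ 2 ∣ c := by
    rintro ⟨d, rfl⟩
    have : (x ^ i) ^ 2 = 1 := by
      rw [← zpow_natCast, ← zpow_mul, h.zpow_eq_one]; exact ⟨d, by rw [hi]; push_cast; ring⟩
    have := orderOf_dvd_of_pow_eq_one this
    rw [h4] at this
    norm_num at this
  rw [h.zpow_eq, h.zpow_eq]
  rcases (show c % 4 = 1 ∨ c % 4 = 3 by omega) with h' | h'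
  · obtain ⟨m, rfl⟩ : ∃ m, c = 4 * m + 1 := ⟨c / 4, by omega⟩
    exact .inl ⟨m, by rw [hi]; ring⟩
  · obtain ⟨m, rfl⟩ : ∃ m, c = 4 * m + 3 := ⟨c / 4, by omega⟩
    exact .inr ⟨m + 1, by rw [hi]; ring⟩

theorem conj_y_quarter (h : QD S n x y) : y * x ^ qq n * y⁻¹ = x ^ (-qq n) := by
  rw [h.conj_zpow, h.zpow_eq]
  obtain ⟨r, hr⟩ := h.qq_even
  exact ⟨r, by rw [hr]; ring⟩

theorem orderOf_quarter (h : QD S n x y) : orderOf (x ^ qq n) = 4 := by
  rw [show (4 : ℕ) = 2 ^ (1 + 1) from rfl]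
  refine orderOf_eq_prime_pow ?_ ?_
  · rw [pow_one, ← zpow_natCast, ← zpow_mul, h.zpow_eq_one]
    rintro ⟨c, hc⟩
    push_cast at hc
    have : qq n * (4 * c - 2) = 0 := by linarith
    rcases mul_eq_zero.mp this with h0 | h0
    · exact h.qq_pos.ne' h0
    · omega
  · rw [← zpow_natCast, ← zpow_mul, h.zpow_eq_one]; exact ⟨1, by norm_num; ring⟩

theorem z_ne_one (h : QD S n x y) : x ^ (2 * qq n) ≠ 1 := by
  rw [Ne, h.zpow_eq_one]
  rintro ⟨c, hc⟩
  have : qq n * (4 * c - 2) = 0 := by linarith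
  rcases mul_eq_zero.mp this with h0 | h0
  · exact h.qq_pos.ne' h0
  · omega

theorem orderOf_z (h : QD S n x y) : orderOf (x ^ (2 * qq n)) = 2 := by
  refine orderOf_eq_prime ?_ h.z_ne_one
  rw [← zpow_natCast, ← zpow_mul, h.zpow_eq_one]; exact ⟨1, by norm_num; ring⟩

theorem z_central (h : QD S n x y) (s : S) : s * x ^ (2 * qq n) = x ^ (2 * qq n) * s := by
  have hy : y * x ^ (2 * qq n) = x ^ (2 * qq n) * y := by
    rw [h.y_mul_zpow, h.mul_y_eq]
    exact ⟨qq n - 1, by ring⟩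
  obtain ⟨i, rfl | rfl⟩ := h.cases' s
  · rw [← zpow_add, ← zpow_add, add_comm]
  · rw [mul_assoc, hy, ← mul_assoc, ← mul_assoc, ← zpow_add, ← zpow_add, add_comm]

theorem two_dvd_of_orderOf_eq_two (h : QD S n x y) {i : ℤ} (ht : orderOf (x ^ i * y) = 2) : 2 ∣ i := by
  by_contra hi
  rw [h.orderOf_mul_y_odd hi] at ht
  norm_num at ht

theorem not_two_dvd_of_orderOf_eq_four (h : QD S n x y) {i : ℤ} (ht : orderOf (x ^ i * y) = 4) :
    ¬ 2 ∣ i := by
  intro hi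
  rw [h.orderOf_mul_y_even hi] at ht
  norm_num at ht

theorem involution_cases (h : QD S n x y) {t : S} (ht : orderOf t = 2) :
    t = x ^ (2 * qq n) ∨ ∃ i : ℤ, 2 ∣ i ∧ t = x ^ i * y := by
  obtain ⟨i, rfl | rfl⟩ := h.cases' t
  · refine .inl (((h.zpow_sq i).mp ?_).resolve_left ?_)
    · rw [← pow_two, ← ht, pow_orderOf_eq_one]
    · intro h1
      rw [h1, orderOf_one] at ht
      norm_num at ht
  · exact .inr ⟨i, h.two_dvd_of_orderOf_eq_two ht, rfl⟩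

theorem four_cases (h : QD S n x y) {t : S} (ht : orderOf t = 4) :
    t = x ^ qq n ∨ t = x ^ (-qq n) ∨ ∃ i : ℤ, ¬ 2 ∣ i ∧ t = x ^ i * y := by
  obtain ⟨i, rfl | rfl⟩ := h.cases' t
  · rcases h.zpow_four ht with h1 | h1
    exacts [.inl h1, .inr (.inl h1)]
  · exact .inr (.inr ⟨i, h.not_two_dvd_of_orderOf_eq_four ht, rfl⟩)

/-- The subgroup of the `x ^ (k d)` and the `x ^ (i + k d) * y`. -/
def sub (h : QD S n x y) (d : ℤ) (hd : d ∣ 2 * qq n) (i : ℤ) : Subgroup S where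
  carrier := {s | ∃ k : ℤ, s = x ^ (k * d) ∨ s = x ^ (i + k * d) * y}
  one_mem' := ⟨0, .inl (by simp)⟩
  mul_mem' := by
    obtain ⟨e, he⟩ := hd
    rintro a b ⟨k, rfl | rfl⟩ ⟨l, rfl | rfl⟩
    · exact ⟨k + l, .inl (by rw [← zpow_add]; congr 1; ring)⟩
    · exact ⟨k + l, .inr (by rw [← mul_assoc, ← zpow_add]; congr 2; ring)⟩
    · exact ⟨k + l * (2 * qq n - 1), .inr (by rw [h.mul_y_mul_zpow]; congr 2; ring)⟩
    · exact ⟨k - l + e * (i + l * d), .inl (by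
        rw [h.mul_y_mul]; congr 1; linear_combination (i + l * d) * he)⟩
  inv_mem' := by
    obtain ⟨e, he⟩ := hd
    rintro a ⟨k, rfl | rfl⟩
    · exact ⟨-k, .inl (by rw [← zpow_neg]; congr 1; ring)⟩
    · refine ⟨k - (i + k * d) * e, .inr (inv_eq_of_mul_eq_one_right ?_)⟩
      rw [h.mul_y_mul, h.zpow_eq_one]
      exact ⟨(i + k * d) * (1 - qq n), by linear_combination ((i + k * d) * (2 * qq n - 1)) * he⟩

theorem mem_sub (h : QD S n x y) {d : ℤ} (hd : d ∣ 2 * qq n) {i : ℤ} {s : S} :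
    s ∈ h.sub d hd i ↔ ∃ k : ℤ, s = x ^ (k * d) ∨ s = x ^ (i + k * d) * y := Iff.rfl

theorem zpow_mem_sub (h : QD S n x y) {d : ℤ} (hd : d ∣ 2 * qq n) {i j : ℤ} :
    x ^ j ∈ h.sub d hd i ↔ d ∣ j := by
  constructor
  · rintro ⟨k, h1 | h1⟩
    · obtain ⟨c, hc⟩ := h.zpow_eq.mp h1
      obtain ⟨e, he⟩ := hd
      exact ⟨k + 2 * c * e, by linear_combination hc + 2 * c * he⟩
    · exact absurd h1.symm (h.zpow_mul_y_ne _ _)
  · rintro ⟨c, rfl⟩
    exact ⟨c, .inl (by rw [mul_comm])⟩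

theorem mul_y_mem_sub (h : QD S n x y) {d : ℤ} (hd : d ∣ 2 * qq n) {i j : ℤ} :
    x ^ j * y ∈ h.sub d hd i ↔ d ∣ j - i := by
  constructor
  · rintro ⟨k, h1 | h1⟩
    · exact absurd h1 (h.zpow_mul_y_ne _ _)
    · obtain ⟨c, hc⟩ := h.mul_y_eq.mp h1
      obtain ⟨e, he⟩ := hd
      exact ⟨k + 2 * c * e, by linear_combination hc + 2 * c * he⟩
  · rintro ⟨c, hc⟩
    exact ⟨c, .inr (by congr 2; linarith)⟩

theorem sub_inf_zpowers (h : QD S n x y) {d : ℤ} (hd : d ∣ 2 * qq n) (i : ℤ) :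
    h.sub d hd i ⊓ Subgroup.zpowers x = Subgroup.zpowers (x ^ d) := by
  refine le_antisymm ?_ ?_
  · rintro s ⟨h1, h2⟩
    obtain ⟨j, rfl⟩ := Subgroup.mem_zpowers_iff.mp h2
    obtain ⟨c, hc⟩ := (h.zpow_mem_sub hd).mp h1
    exact Subgroup.mem_zpowers_iff.mpr ⟨c, by rw [← zpow_mul, hc]⟩
  · rw [Subgroup.zpowers_le]
    exact ⟨(h.zpow_mem_sub hd).mpr dvd_rfl, zpow_mem (Subgroup.mem_zpowers x) d⟩

theorem relIndex_zpow_sub (h : QD S n x y) {d : ℤ} (hd : d ∣ 2 * qq n) (i : ℤ) :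
    (Subgroup.zpowers (x ^ d)).relIndex (h.sub d hd i) = 2 := by
  rw [← h.sub_inf_zpowers hd i, Subgroup.inf_relIndex_left]
  have := Subgroup.normal_of_index_eq_two h.index_zpowers
  have hle : (Subgroup.zpowers x).relIndex (h.sub d hd i) ∣ 2 :=
    h.index_zpowers ▸ Subgroup.relIndex_dvd_index_of_normal
      (Subgroup.zpowers x) _
  refine ((Nat.dvd_prime Nat.prime_two).mp hle).resolve_left fun h1 => ?_
  have := Subgroup.relIndex_eq_one.mp h1 ((h.mul_y_mem_sub hd (j := i)).mpr ⟨0, by ring⟩)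
  obtain ⟨k, hk⟩ := Subgroup.mem_zpowers_iff.mp this
  exact h.zpow_mul_y_ne _ _ hk.symm

theorem card_sub (h : QD S n x y) {d : ℤ} (hd : d ∣ 2 * qq n) (i : ℤ) :
    Nat.card (h.sub d hd i) = 2 * orderOf (x ^ d) := by
  rw [← Nat.card_zpowers, ← h.relIndex_zpow_sub hd i, mul_comm, Subgroup.relIndex,
    ← Subgroup.card_mul_index ((Subgroup.zpowers (x ^ d)).subgroupOf (h.sub d hd i))]
  congr 1
  exact (Nat.card_congr (Subgroup.subgroupOfEquivOfLe
    (h.sub_inf_zpowers hd i ▸ inf_le_left)).toEquiv)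

theorem sub_congr (h : QD S n x y) {d : ℤ} (hd : d ∣ 2 * qq n) {i j : ℤ} (hij : d ∣ j - i) :
    h.sub d hd i = h.sub d hd j := by
  ext s
  obtain ⟨k, rfl | rfl⟩ := h.cases' s
  · rw [h.zpow_mem_sub, h.zpow_mem_sub]
  · rw [h.mul_y_mem_sub, h.mul_y_mem_sub]
    obtain ⟨e, he⟩ := hij
    constructor
    · rintro ⟨c, hc⟩; exact ⟨c - e, by linear_combination hc - he⟩
    · rintro ⟨c, hc⟩; exact ⟨c + e, by linear_combination hc + he⟩

theorem map_conj_sub (h : QD S n x y) {d : ℤ} (hd : d ∣ 2 * qq n) (k i : ℤ) :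
    (h.sub d hd i).map (MulAut.conj (x ^ k)).toMonoidHom =
      h.sub d hd (i + 2 * k * (1 - qq n)) := by
  have := h.finite
  refine Subgroup.eq_of_le_of_card_ge ?_ ?_
  · rintro _ ⟨s, ⟨l, rfl | rfl⟩, rfl⟩ <;>
      simp only [MulEquiv.coe_toMonoidHom, MulAut.conj_apply]
    · rw [(Commute.zpow_zpow (Commute.refl x) k (l * d)).eq, mul_inv_cancel_right, h.zpow_mem_sub]
      exact ⟨l, mul_comm _ _⟩
    · rw [h.conj_x, h.mul_y_mem_sub]; exact ⟨l, by ring⟩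
  · rw [Subgroup.card_map_of_injective (MulAut.conj (x ^ k)).injective, h.card_sub, h.card_sub]

theorem exists_conj_sub (h : QD S n x y) {d : ℤ} (hd : d ∣ 2 * qq n) {i j : ℤ} (hij : 2 ∣ j - i) :
    ∃ k : ℤ, (h.sub d hd i).map (MulAut.conj (x ^ k)).toMonoidHom = h.sub d hd j := by
  obtain ⟨k, hk⟩ := h.conj_mul_y hij
  refine ⟨k, ?_⟩
  rw [h.conj_x, h.mul_y_eq] at hk
  rw [h.map_conj_sub]
  refine h.sub_congr hd ?_
  obtain ⟨e, he⟩ := hd
  obtain ⟨c, hc⟩ := hk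
  exact ⟨-2 * c * e, by linear_combination (-1 : ℤ) * hc - 2 * c * he⟩

theorem hh_dvd (n : ℕ) : 2 * qq n ∣ 2 * qq n := dvd_rfl

theorem quarter_dvd (n : ℕ) : qq n ∣ 2 * qq n := dvd_mul_left _ _

theorem two_dvd (n : ℕ) : (2 : ℤ) ∣ 2 * qq n := dvd_mul_right _ _

/-- The four-groups. -/
abbrev four (h : QD S n x y) (i : ℤ) : Subgroup S := h.sub (2 * qq n) (hh_dvd n) i

/-- The quaternion groups of order 8. -/
abbrev quat (h : QD S n x y) (i : ℤ) : Subgroup S := h.sub (qq n) (quarter_dvd n) i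

theorem card_four (h : QD S n x y) (i : ℤ) : Nat.card (h.four i) = 4 := by
  rw [h.card_sub, h.orderOf_z]

theorem card_quat (h : QD S n x y) (i : ℤ) : Nat.card (h.quat i) = 8 := by
  rw [h.card_sub, h.orderOf_quarter]

theorem z_mem_four (h : QD S n x y) (i : ℤ) : x ^ (2 * qq n) ∈ h.four i :=
  (h.zpow_mem_sub _).mpr dvd_rfl

theorem isKleinFour_four (h : QD S n x y) {i : ℤ} (hi : 2 ∣ i) : IsKleinFour (h.four i) := by
  have := h.finite
  refine ⟨h.card_four i, ?_⟩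
  have hsq : ∀ s : h.four i, s ^ 2 = 1 := by
    rintro ⟨s, k, rfl | rfl⟩ <;> refine Subtype.ext ?_ <;>
      simp only [SubgroupClass.coe_pow, Subgroup.coe_one] <;> rw [pow_two]
    · rw [← zpow_add, h.zpow_eq_one]; exact ⟨k, by ring⟩
    · rw [h.sq_mul_y, h.zpow_eq_one]
      obtain ⟨d, rfl⟩ := hi
      exact ⟨d + k * qq n, by ring⟩
  refine ((Nat.dvd_prime Nat.prime_two).mp (Monoid.exponent_dvd_of_forall_pow_eq_one hsq)).resolve_left
    fun h1 => h.z_ne_one ?_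
  have h2 := Monoid.pow_exponent_eq_one (⟨_, h.z_mem_four i⟩ : h.four i)
  rw [h1, pow_one] at h2
  exact congrArg Subtype.val h2

theorem eq_four (h : QD S n x y) {T : Subgroup S} (hT : IsKleinFour T) :
    ∃ i : ℤ, 2 ∣ i ∧ T = h.four i := by
  have := h.finite
  have hsq : ∀ t ∈ T, t * t = 1 := fun t ht =>
    congrArg Subtype.val (IsKleinFour.mul_self (G := T) ⟨t, ht⟩)
  have hout : ∃ t ∈ T, t ∉ Subgroup.zpowers x := by
    by_contra hc
    push Not at hc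
    have hle : T ≤ Subgroup.zpowers (x ^ (2 * qq n)) := fun t ht => by
      obtain ⟨i, rfl⟩ := Subgroup.mem_zpowers_iff.mp (hc t ht)
      rcases (h.zpow_sq i).mp (hsq _ ht) with h1 | h1 <;> rw [h1]
      exacts [one_mem _, Subgroup.mem_zpowers _]
    have := Subgroup.card_le_of_le hle
    rw [Nat.card_zpowers, h.orderOf_z, IsKleinFour.card_four] at this
    omega
  obtain ⟨t, ht, htx⟩ := hout
  obtain ⟨i, rfl | rfl⟩ := h.cases' t
  · exact absurd (zpow_mem (Subgroup.mem_zpowers x) i) htx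
  have hi : 2 ∣ i := by
    refine h.two_dvd_of_orderOf_eq_two (orderOf_eq_prime ?_ fun h1 => htx (h1 ▸ one_mem _))
    rw [pow_two]; exact hsq _ ht
  refine ⟨i, hi, Subgroup.eq_of_le_of_card_ge ?_ (by rw [h.card_four, IsKleinFour.card_four])⟩
  intro s hs
  obtain ⟨j, rfl | rfl⟩ := h.cases' s
  · rw [h.zpow_mem_sub]
    rcases (h.zpow_sq j).mp (hsq _ hs) with h1 | h1
    · obtain ⟨c, hc⟩ := h.zpow_eq_one.mp h1
      exact ⟨2 * c, by linarith⟩
    · obtain ⟨c, hc⟩ := h.zpow_eq.mp h1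
      exact ⟨2 * c + 1, by linarith⟩
  · rw [h.mul_y_mem_sub]
    have h1 := hsq _ (mul_mem hs ht)
    rw [h.mul_y_mul] at h1
    obtain ⟨d, hd⟩ := hi
    rcases (h.zpow_sq _).mp h1 with h2 | h2
    · obtain ⟨c, hc⟩ := h.zpow_eq_one.mp h2
      exact ⟨2 * c - 2 * d, by subst hd; linear_combination hc⟩
    · obtain ⟨c, hc⟩ := h.zpow_eq.mp h2
      exact ⟨2 * c + 1 - 2 * d, by subst hd; linear_combination hc⟩

theorem eq_quat (h : QD S n x y) {Q : Subgroup S} (e : Q ≃* QuaternionGroup 2) :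
    ∃ i : ℤ, ¬ 2 ∣ i ∧ Q = h.quat i := by
  have := h.finite
  have hcard : Nat.card Q = 8 := by rw [Nat.card_congr e.toEquiv, Nat.card_eq_fintype_card]; rfl
  have key : ∀ a b : QuaternionGroup 2, a * b ≠ b * a → orderOf a = 4 ∧ a * a = b * b := by
    intro a b hab
    refine ⟨?_, ?_⟩
    · rw [show (4 : ℕ) = 2 ^ (1 + 1) from rfl]
      refine orderOf_eq_prime_pow ?_ ?_ <;> revert hab <;> revert b a <;> decide
    · revert hab; revert b a; decide
  have hord : ∀ a b : S, a ∈ Q → b ∈ Q → a * b ≠ b * a → orderOf a = 4 ∧ a * a = b * b := by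
    intro a b ha hb hab
    have h1 := key (e ⟨a, ha⟩) (e ⟨b, hb⟩) fun he => by
      rw [← map_mul, ← map_mul] at he
      exact hab (congrArg Subtype.val (e.injective he))
    rw [e.orderOf_eq, Subgroup.orderOf_mk, ← map_mul, ← map_mul] at h1
    exact ⟨h1.1, congrArg Subtype.val (e.injective h1.2)⟩
  have hnc : ∃ a b, a ∈ Q ∧ b ∈ Q ∧ a * b ≠ b * a := by
    refine ⟨(e.symm (QuaternionGroup.a 1) : Q), (e.symm (QuaternionGroup.xa 0) : Q),
      Subtype.prop _, Subtype.prop _, fun he => ?_⟩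
    rw [← Subgroup.coe_mul, ← Subgroup.coe_mul, ← map_mul, ← map_mul] at he
    have := e.symm.injective (Subtype.ext he)
    revert this
    decide
  obtain ⟨a, b, ha, hb, hab⟩ := hnc
  obtain ⟨i, hi, hiQ⟩ : ∃ i : ℤ, ¬ 2 ∣ i ∧ x ^ i * y ∈ Q := by
    obtain ⟨i, rfl | rfl⟩ := h.cases' a
    · obtain ⟨j, rfl | rfl⟩ := h.cases' b
      · exact absurd (Commute.zpow_zpow (Commute.refl x) i j).eq hab
      · exact ⟨j, h.not_two_dvd_of_orderOf_eq_four (hord _ _ hb ha (Ne.symm hab)).1, hb⟩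
    · exact ⟨i, h.not_two_dvd_of_orderOf_eq_four (hord _ _ ha hb hab).1, ha⟩
  refine ⟨i, hi, Subgroup.eq_of_le_of_card_ge ?_ (by rw [h.card_quat, hcard])⟩
  intro s hs
  have key4 : ∀ a : QuaternionGroup 2, a ^ 4 = 1 := by decide
  have hpow : ∀ u, u ∈ Q → u ^ 4 = 1 := fun u hu => by
    have : e (⟨u, hu⟩ ^ 4) = 1 := by rw [map_pow, key4]
    exact congrArg Subtype.val ((map_eq_one_iff e e.injective).mp this)
  obtain ⟨j, rfl | rfl⟩ := h.cases' s
  · rw [h.zpow_mem_sub]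
    have h1 := hpow _ hs
    rw [← zpow_natCast, ← zpow_mul, h.zpow_eq_one] at h1
    obtain ⟨c, hc⟩ := h1
    exact ⟨c, by push_cast at hc; linarith⟩
  · rw [h.mul_y_mem_sub]
    have h1 := hpow _ (mul_mem hs hiQ)
    rw [h.mul_y_mul, ← zpow_natCast, ← zpow_mul, h.zpow_eq_one] at h1
    obtain ⟨c, hc⟩ := h1
    push_cast at hc
    exact ⟨c - 2 * i, by linarith⟩

theorem isCoatom_of_index_two {G : Type*} [Group G] [Finite G] {M : Subgroup G} (hM : M.index = 2) :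
    IsCoatom M := by
  refine ⟨fun hMT => by rw [hMT, Subgroup.index_top] at hM; omega, fun K hK => ?_⟩
  have h1 := Subgroup.relIndex_mul_index hK.le
  rw [hM] at h1
  rcases (Nat.dvd_prime Nat.prime_two).mp ⟨_, (mul_comm _ _).trans h1 |>.symm⟩ with h2 | h2
  · exact Subgroup.index_eq_one.mp h2
  · rw [h2] at h1
    exact absurd (Subgroup.relIndex_eq_one.mp (by omega)) hK.not_ge

theorem commutator_eq (h : QD S n x y) : x ^ (2 : ℤ) ∈ commutator S := by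
  obtain ⟨r, hr⟩ := h.qq_even
  have h1 : y * x ^ (1 : ℤ) * y⁻¹ * (x ^ (1 : ℤ))⁻¹ ∈ commutator S :=
    Subgroup.commutator_mem_commutator (Subgroup.mem_top _) (Subgroup.mem_top _)
  rw [h.conj_zpow, ← zpow_neg, ← zpow_add] at h1
  have h2 := zpow_mem h1 (-(qq n + 1))
  rw [← zpow_mul] at h2
  convert h2 using 1
  rw [h.zpow_eq]
  exact ⟨r, by rw [hr]; ring⟩

theorem card_classes_two (h : QD S n x y) :
    Nat.card {C : ConjClasses S // ∃ t : S, orderOf t = 2 ∧ ConjClasses.mk t = C} = 2 := by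
  have hy : orderOf (x ^ (0 : ℤ) * y) = 2 := h.orderOf_mul_y_even (dvd_zero 2)
  have hset : {C : ConjClasses S | ∃ t : S, orderOf t = 2 ∧ ConjClasses.mk t = C} =
      {ConjClasses.mk (x ^ (2 * qq n)), ConjClasses.mk (x ^ (0 : ℤ) * y)} := by
    ext C
    constructor
    · rintro ⟨t, ht, rfl⟩
      rcases h.involution_cases ht with rfl | ⟨i, hi, rfl⟩
      · exact .inl rfl
      · obtain ⟨k, hk⟩ := h.conj_mul_y (i := i) (j := 0) (by omega)
        exact .inr (ConjClasses.mk_eq_mk_iff_isConj.mpr (isConj_iff.mpr ⟨_, hk⟩))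
    · rintro (rfl | rfl)
      exacts [⟨_, h.orderOf_z, rfl⟩, ⟨_, hy, rfl⟩]
  change Nat.card ↥({C : ConjClasses S | ∃ t : S, orderOf t = 2 ∧ ConjClasses.mk t = C}) = 2
  rw [hset, Nat.card_coe_set_eq, Set.ncard_pair]
  intro he
  obtain ⟨c, hc⟩ := isConj_iff.mp (ConjClasses.mk_eq_mk_iff_isConj.mp he)
  rw [h.z_central, mul_inv_cancel_right] at hc
  exact h.zpow_mul_y_ne _ _ hc.symm

theorem card_classes_four (h : QD S n x y) :
    Nat.card {C : ConjClasses S // ∃ t : S, orderOf t = 4 ∧ ConjClasses.mk t = C} = 2 := by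
  have hy : orderOf (x ^ (1 : ℤ) * y) = 4 := h.orderOf_mul_y_odd (by omega)
  have hset : {C : ConjClasses S | ∃ t : S, orderOf t = 4 ∧ ConjClasses.mk t = C} =
      {ConjClasses.mk (x ^ qq n), ConjClasses.mk (x ^ (1 : ℤ) * y)} := by
    ext C
    constructor
    · rintro ⟨t, ht, rfl⟩
      rcases h.four_cases ht with rfl | rfl | ⟨i, hi, rfl⟩
      · exact .inl rfl
      · exact .inl (ConjClasses.mk_eq_mk_iff_isConj.mpr
          (isConj_iff.mpr ⟨_, h.conj_y_quarter⟩).symm)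
      · obtain ⟨k, hk⟩ := h.conj_mul_y (i := i) (j := 1) (by omega)
        exact .inr (ConjClasses.mk_eq_mk_iff_isConj.mpr (isConj_iff.mpr ⟨_, hk⟩))
    · rintro (rfl | rfl)
      exacts [⟨_, h.orderOf_quarter, rfl⟩, ⟨_, hy, rfl⟩]
  change Nat.card ↥({C : ConjClasses S | ∃ t : S, orderOf t = 4 ∧ ConjClasses.mk t = C}) = 2
  rw [hset, Nat.card_coe_set_eq, Set.ncard_pair]
  intro he
  obtain ⟨c, hc⟩ := isConj_iff.mp (ConjClasses.mk_eq_mk_iff_isConj.mp he)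
  have hn := Subgroup.normal_of_index_eq_two h.index_zpowers
  have := hn.conj_mem _ (zpow_mem (Subgroup.mem_zpowers x) (qq n)) c
  rw [hc] at this
  obtain ⟨j, hj⟩ := Subgroup.mem_zpowers_iff.mp this
  exact h.zpow_mul_y_ne _ _ hj.symm

theorem conj_four_iff (h : QD S n x y) (s : S) (i : ℤ) (hs : ∀ a ∈ h.four i, s * a = a * s) :
    s ∈ h.four i := by
  have hi := hs (x ^ i * y) ((h.mul_y_mem_sub _).mpr ⟨0, by ring⟩)
  obtain ⟨e, he⟩ := h.qq_sq
  obtain ⟨k, rfl | rfl⟩ := h.cases' s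
  · have h1 : x ^ k * (x ^ i * y) * (x ^ k)⁻¹ = x ^ i * y := by rw [hi, mul_inv_cancel_right]
    rw [h.conj_x, h.mul_y_eq] at h1
    obtain ⟨c, hc⟩ := h1
    rw [h.zpow_mem_sub]
    have h2 : k * (1 - qq n) = 2 * qq n * c := by linarith
    exact ⟨c * (1 + qq n) + k * e, by linear_combination (1 + qq n) * h2 + k * he⟩
  · rw [h.mul_y_mul, h.mul_y_mul, h.zpow_eq] at hi
    obtain ⟨c, hc⟩ := hi
    rw [h.mul_y_mem_sub]
    have h2 : (k - i) * (1 - qq n) = 2 * qq n * c := by linarith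
    exact ⟨c * (1 + qq n) + (k - i) * e, by linear_combination (1 + qq n) * h2 + (k - i) * he⟩

theorem centralizer_four (h : QD S n x y) {i : ℤ} (hi : 2 ∣ i) :
    Subgroup.centralizer (h.four i : Set S) = h.four i := by
  have := h.finite
  have := h.isKleinFour_four hi
  refine le_antisymm (fun s hs => h.conj_four_iff s i fun a ha => (hs a ha).symm) ?_
  intro a ha b hb
  exact congrArg Subtype.val (mul_comm_of_exponent_two (IsKleinFour.exponent_two (G := h.four i)) ⟨b, hb⟩ ⟨a, ha⟩)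

theorem normalizer_sub (h : QD S n x y) {d : ℤ} (hd : d ∣ qq n) (i : ℤ) :
    Subgroup.normalizer ((h.sub (2 * d) (mul_dvd_mul_left 2 hd) i : Subgroup S) : Set S) =
      h.sub d (hd.mul_left 2) i := by
  have := h.finite
  obtain ⟨e, he⟩ := hd
  obtain ⟨r, hr⟩ := h.qq_sq
  have hn : ∀ s : S, s ∈ Subgroup.normalizer ((h.sub (2 * d) (mul_dvd_mul_left 2 ⟨e, he⟩) i : Subgroup S) : Set S) ↔
      (h.sub (2 * d) (mul_dvd_mul_left 2 ⟨e, he⟩) i).map (MulAut.conj s).toMonoidHom =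
        h.sub (2 * d) (mul_dvd_mul_left 2 ⟨e, he⟩) i := fun s => by
    rw [Subgroup.mem_normalizer_iff, SetLike.ext_iff]
    simp only [Subgroup.mem_map_equiv, MulAut.conj_symm_apply]
    constructor
    · intro h1 a
      rw [h1 (s⁻¹ * a * s)]
      simp [mul_assoc]
    · intro h1 a
      rw [← h1 (s * a * s⁻¹)]
      simp [mul_assoc]
  have hmem : x ^ i * y ∈ h.sub (2 * d) (mul_dvd_mul_left 2 ⟨e, he⟩) i :=
    (h.mul_y_mem_sub _).mpr ⟨0, by ring⟩
  have hpow : ∀ k : ℤ, x ^ k ∈ Subgroup.normalizer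
      ((h.sub (2 * d) (mul_dvd_mul_left 2 ⟨e, he⟩) i : Subgroup S) : Set S) ↔ d ∣ k := by
    intro k
    rw [hn, h.map_conj_sub]
    constructor
    · intro h1
      have h2 : x ^ (i + 2 * k * (1 - qq n)) * y ∈ h.sub (2 * d) (mul_dvd_mul_left 2 ⟨e, he⟩) i :=
        h1 ▸ (h.mul_y_mem_sub _).mpr ⟨0, by ring⟩
      obtain ⟨c, hc⟩ := (h.mul_y_mem_sub _).mp h2
      exact ⟨c + k * e, by
        have : k * (1 - qq n) = d * c := by linarith
        linear_combination this + k * he⟩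
    · rintro ⟨c, rfl⟩
      exact h.sub_congr _ ⟨-(c * (1 - qq n)), by ring⟩
  ext s
  obtain ⟨k, rfl | rfl⟩ := h.cases' s
  · rw [hpow, h.zpow_mem_sub]
  · rw [h.mul_y_mem_sub, show x ^ k * y = x ^ (k - i) * (x ^ i * y) by
      rw [← mul_assoc, ← zpow_add, sub_add_cancel],
      mul_mem_cancel_right (Subgroup.le_normalizer hmem), hpow]

end QD

end Cfsg.Agent.Invol
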