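import Mathlib
import Cfsg.Agent.Lib.Fus.Alperin
import Cfsg.Agent.Lib.Fus.EssentialSmall
import Cfsg.Agent.Lib.Fus.ModelBasic
import Cfsg.Agent.Lib.Fus.Supersoluble
import Cfsg.Agent.Lib.Fus.DihedralAut

/-!
Fusion systems governed by two classes of candidate essential subgroups: such a system is
determined by two fusion conditions, and realizable once a group with the same conditions is given.
-/

set_option autoImplicit false
set_option linter.unusedSectionVars false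
set_option linter.style.haveILetI false

open scoped Classical

universe u v

namespace Cfsg.Agent.Invol.TwoFrame

open Subgroup FusionSystem Cfsg.Agent.Fus

variable {Ω : Type u} [Group Ω] {S : Subgroup Ω}

/-- `Q` is conjugate to `P` by an element of `S`. -/
def SConj (S P Q : Subgroup Ω) : Prop := ∃ g ∈ S, Q = P.map (MulAut.conj g).toMonoidHom

theorem SConj.trans' {P Q R : Subgroup Ω} (h₁ : SConj S P Q) (h₂ : SConj S P R) : SConj S Q R := by
  obtain ⟨g, hg, rfl⟩ := h₁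
  obtain ⟨k, hk, rfl⟩ := h₂
  refine ⟨k * g⁻¹, mul_mem hk (inv_mem hg), ?_⟩
  rw [Subgroup.map_map]
  congr 1
  ext x
  simp only [MonoidHom.coe_comp, MulEquiv.coe_toMonoidHom, Function.comp_apply, MulAut.conj_apply]
  group

theorem SConj.exists_map {F : FusionSystem S} {P Q : Subgroup Ω} (hP : P ≤ S) (h : SConj S P Q) :
    ∃ φ ∈ F.Hom P, φ.range = Q := by
  obtain ⟨g, hg, rfl⟩ := h
  have := (isMap_conj F hP hg).isConj
  rwa [fimg_conj_eq_map] at this

/-- Some map of the system carries `a` to `b`. -/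
def Fus' (F : FusionSystem S) (a b : Ω) : Prop :=
  ∃ (R : Subgroup Ω) (f : Ω → Ω), IsMap F R f ∧ a ∈ R ∧ f a = b

/-- The data of two candidate classes, their automizers, and a fusion test for each. -/
structure Frame (S : Subgroup Ω) where
  P : Fin 2 → Subgroup Ω
  T : (i : Fin 2) → Subgroup (MulAut (P i))
  X : Fin 2 → Set Ω
  u : Fin 2 → Ω
  v : Fin 2 → Ω

/-- The conditions on a frame not involving a system. -/
structure Geo (fr : Frame S) : Prop where
  le : ∀ i, fr.P i ≤ S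
  u_not : ∀ i, fr.u i ∉ fr.X i
  v_mem : ∀ i, fr.v i ∈ fr.X i
  inv : ∀ i, ∀ g ∈ S, ∀ x ∈ S, (x ∈ fr.X i ↔ g * x * g⁻¹ ∈ fr.X i)
  other : ∀ i j, j ≠ i → ∀ α ∈ fr.T j, ∀ x ∈ fr.P j, (x ∈ fr.X i ↔ autFun α x ∈ fr.X i)
  move : ∀ i, fr.u i ∈ fr.P i ∧ ∃ α ∈ fr.T i, autFun α (fr.u i) = fr.v i

/-- The candidate class `i` occurs among the essential subgroups. -/
def On (F : FusionSystem S) (fr : Frame S) (i : Fin 2) : Prop :=
  ∃ Q, F.IsEssential 2 Q ∧ SConj S (fr.P i) Q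

/-- A system fits a frame. -/
structure Fits (F : FusionSystem S) (fr : Frame S) : Prop where
  cand : ∀ Q, F.IsEssential 2 Q → ∃ i, SConj S (fr.P i) Q
  top : F.autGroup S = autInducedBy S S
  aut : ∀ i, On F fr i → F.autGroup (fr.P i) = fr.T i

/-- Any three essential subgroups contain two in one class. -/
theorem three_essentials {F : FusionSystem S} (P : Fin 2 → Subgroup Ω) (hP : ∀ i, P i ≤ S)
    (h : ∀ Q, F.IsEssential 2 Q → ∃ i, SConj S (P i) Q) :
    ∀ E₁ E₂ E₃ : Subgroup Ω, F.IsEssential 2 E₁ → F.IsEssential 2 E₂ → F.IsEssential 2 E₃ →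
      (∃ φ ∈ F.Hom E₁, φ.range = E₂) ∨ (∃ φ ∈ F.Hom E₁, φ.range = E₃) ∨
        (∃ φ ∈ F.Hom E₂, φ.range = E₃) := by
  intro A B C hA hB hC
  obtain ⟨i, hi⟩ := h A hA
  obtain ⟨j, hj⟩ := h B hB
  obtain ⟨k, hk⟩ := h C hC
  have key : i = j ∨ i = k ∨ j = k := by fin_cases i <;> fin_cases j <;> fin_cases k <;> simp
  rcases key with e | e | e
  · exact Or.inl ((hi.trans' (e ▸ hj)).exists_map hA.1.1)
  · exact Or.inr (Or.inl ((hi.trans' (e ▸ hk)).exists_map hA.1.1))
  · exact Or.inr (Or.inr ((hj.trans' (e ▸ hk)).exists_map hB.1.1))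

/-- An automorphism of a conjugate subgroup, read on the subgroup. -/
theorem pullAut {F : FusionSystem S} {P : Subgroup Ω} (hP : P ≤ S) {g : Ω} (hg : g ∈ S)
    {α : MulAut (P.map (MulAut.conj g).toMonoidHom)}
    (hα : α ∈ F.autGroup (P.map (MulAut.conj g).toMonoidHom)) :
    ∃ β ∈ F.autGroup P, ∀ x ∈ P.map (MulAut.conj g).toMonoidHom,
      g⁻¹ * x * g ∈ P ∧ autFun α x = g * autFun β (g⁻¹ * x * g) * g⁻¹ := by
  have hQS : P.map (MulAut.conj g).toMonoidHom ≤ S := by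
    rintro _ ⟨y, hy, rfl⟩
    exact mul_mem (mul_mem hg (hP hy)) (inv_mem hg)
  have hback : ∀ x ∈ P.map (MulAut.conj g).toMonoidHom, g⁻¹ * x * g ∈ P := by
    rintro _ ⟨y, hy, rfl⟩
    show g⁻¹ * (g * y * g⁻¹) * g ∈ P
    rwa [show g⁻¹ * (g * y * g⁻¹) * g = y by group]
  have h1 := (isMap_conj F hP hg).comp ((mem_autGroup hQS).1 hα)
    fun x hx => ⟨x, hx, rfl⟩
  have hf := h1.comp (isMap_conj F hQS (inv_mem hg))
    fun x hx => autFun_mem α ⟨x, hx, rfl⟩
  have himg : fimg (fun x => g⁻¹ * autFun α (g * x * g⁻¹) * g⁻¹⁻¹) P = P := by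
    have hle : fimg (fun x => g⁻¹ * autFun α (g * x * g⁻¹) * g⁻¹⁻¹) P ≤ P :=
      fimg_le fun x hx => by rw [inv_inv]; exact hback _ (autFun_mem α ⟨x, hx, rfl⟩)
    refine le_antisymm hle fun x hx => ?_
    have hmem : autFun α⁻¹ (g * x * g⁻¹) ∈ P.map (MulAut.conj g).toMonoidHom :=
      autFun_mem _ ⟨x, hx, rfl⟩
    have := apply_mem_fimg (fun x => g⁻¹ * autFun α (g * x * g⁻¹) * g⁻¹⁻¹) (hback _ hmem)
    convert this using 1
    show x = g⁻¹ * autFun α (g * (g⁻¹ * autFun α⁻¹ (g * x * g⁻¹) * g) * g⁻¹) * g⁻¹⁻¹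
    rw [show g * (g⁻¹ * autFun α⁻¹ (g * x * g⁻¹) * g) * g⁻¹ = autFun α⁻¹ (g * x * g⁻¹) by group,
      ← autFun_mul α α⁻¹ (show g * x * g⁻¹ ∈ P.map (MulAut.conj g).toMonoidHom from ⟨x, hx, rfl⟩),
      mul_inv_cancel, autFun_one (show g * x * g⁻¹ ∈ P.map (MulAut.conj g).toMonoidHom from
        ⟨x, hx, rfl⟩)]
    group
  obtain ⟨β, hβ, hβe⟩ := hf.exists_aut himg
  refine ⟨β, hβ, fun x hx => ⟨hback x hx, ?_⟩⟩
  rw [hβe _ (hback x hx)]
  rw [show g * (g⁻¹ * x * g) * g⁻¹ = x by group]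
  group

section Main

variable [Finite S] [Fact (Nat.Prime 2)] (hS : IsPGroup 2 S) {fr : Frame S} (hg : Geo fr)
include hS hg

theorem le_of_fits {F E : FusionSystem S} (hF : F.IsSaturated 2) (fF : Fits F fr)
    (fE : Fits E fr) (h : ∀ i, On F fr i → On E fr i) : F ≤ E := by
  intro P φ hφ
  refine mem_hom_of_isMap (f := toFun φ) ?_ fun x => (toFun_coe φ x).symm
  refine alperin hS hF (fun Q f => IsMap E Q f) (fun Q f g h e => h.congr e)
    (fun Q R f g _ _ hm hf hg' => hf.comp hg' hm) (fun Q R f _ hQR hf => hf.res hQR)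
    (fun α hα => (mem_autGroup le_rfl).1 (by rw [fE.top, ← fF.top]; exact hα))
    (fun Q hQ α hα => ?_) (isMap_toFun hφ)
  obtain ⟨i, hi⟩ := fF.cand Q hQ
  have hon : On F fr i := ⟨Q, hQ, hi⟩
  obtain ⟨g, hgS, rfl⟩ := hi
  obtain ⟨β, hβ, hβe⟩ := pullAut (hg.le i) hgS hα
  rw [fF.aut i hon, ← fE.aut i (h i hon)] at hβ
  have hQS := hQ.1.1
  have m1 := (isMap_conj E hQS (inv_mem hgS)).comp ((mem_autGroup (hg.le i)).1 hβ)
    fun x hx => by rw [inv_inv]; exact (hβe x hx).1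
  have m2 := m1.comp (isMap_conj E (hg.le i) hgS)
    fun x hx => autFun_mem β (by rw [inv_inv]; exact (hβe x hx).1)
  exact m2.congr fun x hx => by rw [(hβe x hx).2, inv_inv]

theorem not_fus_of_not_on {F : FusionSystem S} (hF : F.IsSaturated 2) (fF : Fits F fr) {i : Fin 2}
    (h : ¬ On F fr i) : ¬ Fus' F (fr.u i) (fr.v i) := by
  rintro ⟨R, f, hf, hu, e⟩
  have key : ∀ x ∈ R, (x ∈ fr.X i ↔ f x ∈ fr.X i) := by
    refine alperin hS hF (fun Q f => ∀ x ∈ Q, (x ∈ fr.X i ↔ f x ∈ fr.X i))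
      (fun Q f g h e x hx => by rw [← e x hx]; exact h x hx)
      (fun Q R f g _ _ hm hf hg' x hx => (hf x hx).trans (hg' _ (hm x hx)))
      (fun Q R f _ hQR hf x hx => hf x (hQR hx)) (fun α hα x hx => ?_)
      (fun Q hQ α hα x hx => ?_) hf
    · rw [fF.top] at hα
      obtain ⟨g, hgS, hge⟩ := mem_autInducedBy.1 hα
      have hax : autFun α x = g * x * g⁻¹ := (autFun_coe α ⟨x, hx⟩).trans (hge ⟨x, hx⟩)
      rw [hax]
      exact hg.inv i g hgS x hx
    · obtain ⟨j, hj⟩ := fF.cand Q hQ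
      have hji : j ≠ i := fun e => h ⟨Q, hQ, e ▸ hj⟩
      have hon : On F fr j := ⟨Q, hQ, hj⟩
      obtain ⟨g, hgS, rfl⟩ := hj
      obtain ⟨β, hβ, hβe⟩ := pullAut (hg.le j) hgS hα
      obtain ⟨hy, hxe⟩ := hβe x hx
      rw [fF.aut j hon] at hβ
      have hyS : g⁻¹ * x * g ∈ S := hg.le j hy
      rw [hxe, ← hg.inv i g hgS _ (hg.le j (autFun_mem β hy)), ← hg.other i j hji β hβ _ hy,
        hg.inv i g hgS _ hyS, show g * (g⁻¹ * x * g) * g⁻¹ = x by group]
  exact hg.u_not i ((key _ hu).2 (e ▸ hg.v_mem i))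

theorem fus_of_on {F : FusionSystem S} (fF : Fits F fr) {i : Fin 2} (h : On F fr i) :
    Fus' F (fr.u i) (fr.v i) := by
  obtain ⟨hu, α, hα, e⟩ := hg.move i
  exact ⟨fr.P i, autFun α, (mem_autGroup (hg.le i)).1 (by rw [fF.aut i h]; exact hα), hu, e⟩

theorem eq_of_fus {F E : FusionSystem S} (hF : F.IsSaturated 2) (hE : E.IsSaturated 2)
    (fF : Fits F fr) (fE : Fits E fr)
    (h : ∀ i, Fus' F (fr.u i) (fr.v i) ↔ Fus' E (fr.u i) (fr.v i)) : F = E := by
  refine eq_of_le_of_le (le_of_fits hS hg hF fF fE fun i hi => ?_)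
    (le_of_fits hS hg hE fE fF fun i hi => ?_)
  · by_contra hno
    exact not_fus_of_not_on hS hg hE fE hno ((h i).1 (fus_of_on hS hg fF hi))
  · by_contra hno
    exact not_fus_of_not_on hS hg hF fF hno ((h i).2 (fus_of_on hS hg fE hi))

end Main

/-- Fusion in a realized system is conjugacy in the group. -/
theorem fus_iff_conj {G : Type v} [Group G] {F : FusionSystem S} {ι : S →* G}
    (h : F.IsRealizedBy ι) (a b : S) : Fus' F (a : Ω) b ↔ ∃ g : G, g * ι a * g⁻¹ = ι b := by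
  constructor
  · rintro ⟨R, f, hf, ha, e⟩
    obtain ⟨φ, hφ, hφe⟩ := hf.exists_hom
    have hφS := (F.le_of_mem hφ).2
    obtain ⟨g, hg⟩ := (h.2 R hf.source_le φ hφS).1 hφ
    refine ⟨g, ?_⟩
    have := hg ⟨a, ha⟩
    rw [show (⟨φ ⟨a, ha⟩, hφS ⟨a, ha⟩⟩ : S) = b from Subtype.ext ((hφe ⟨a, ha⟩).trans e)] at this
    exact this.symm
  · rintro ⟨g, hg⟩
    have hPS : zpowers (a : Ω) ≤ S := zpowers_le.2 a.2
    have hmem : ∀ x : zpowers (a : Ω), ∃ k : ℤ, (⟨x, hPS x.2⟩ : S) = a ^ k := fun x => by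
      obtain ⟨k, hk⟩ := x.2
      exact ⟨k, Subtype.ext (by simp [← hk])⟩
    have key : ∀ x : zpowers (a : Ω), ∃ y : S, ι y = g * ι ⟨x, hPS x.2⟩ * g⁻¹ := fun x => by
      obtain ⟨k, hk⟩ := hmem x
      exact ⟨b ^ k, by rw [hk, map_zpow, map_zpow, ← conj_zpow, hg]⟩
    choose ψ hψ using key
    let φ : zpowers (a : Ω) →* Ω := MonoidHom.mk' (fun x => (ψ x : Ω)) fun x y => by
      rw [← Subgroup.coe_mul]
      refine congrArg Subtype.val (h.1 ?_)
      rw [map_mul, hψ, hψ, hψ,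
        show (⟨((x * y : zpowers (a : Ω)) : Ω), hPS (x * y).2⟩ : S) = ⟨x, hPS x.2⟩ * ⟨y, hPS y.2⟩
          from rfl, map_mul]
      group
    have hφ := (h.2 _ hPS φ fun x => (ψ x).2).2 ⟨g, fun x => hψ x⟩
    refine ⟨_, toFun φ, isMap_toFun hφ, mem_zpowers _, ?_⟩
    rw [toFun_apply φ (mem_zpowers _)]
    refine congrArg Subtype.val (h.1 ((hψ ⟨a, mem_zpowers _⟩).trans ?_))
    exact hg

/-- Realization is insensitive to the universe of the group. -/
theorem realizable_of {G : Type} [Group G] [Finite G] {F : FusionSystem S} {ι : S →* G}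
    (h : F.IsRealizedBy ι) {T : Sylow 2 G} (hT : (T : Subgroup G) = ι.range) [Finite S]
    [Fact (Nat.Prime 2)] (hS : IsPGroup 2 S) : F.IsRealizable 2 := by
  let e : G ≃* ULift.{u} G := MulEquiv.ulift.symm
  let κ : S →* ULift.{u} G := e.toMonoidHom.comp ι
  have hκ : Function.Injective κ := e.injective.comp h.1
  haveI : Finite (ULift.{u} G) := Finite.of_equiv G e.toEquiv
  have hidx : ¬ 2 ∣ κ.range.index := by
    have : κ.range = ι.range.map e.toMonoidHom := MonoidHom.range_comp _ _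
    rw [this, Subgroup.index_map_of_bijective (f := e.toMonoidHom) e.bijective, ← hT]
    exact T.not_dvd_index
  refine ⟨ULift.{u} G, inferInstance, inferInstance, κ, ⟨hκ, fun P hP φ hφ => ?_⟩,
    (hS.of_equiv (MonoidHom.ofInjective hκ)).toSylow hidx, rfl⟩
  rw [h.2 P hP φ hφ]
  constructor
  · rintro ⟨g, hg⟩
    exact ⟨e g, fun x => show e (ι _) = _ by rw [hg x, map_mul, map_mul, map_inv]; rfl⟩
  · rintro ⟨g, hg⟩
    refine ⟨e.symm g, fun x => e.injective ?_⟩
    rw [map_mul, map_mul, map_inv, e.apply_symm_apply]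
    exact hg x

/-- A system with the same fusion tests as a group is realized by it. -/
theorem realized_of_model [Finite S] [Fact (Nat.Prime 2)] (hS : IsPGroup 2 S) {fr : Frame S}
    (hg : Geo fr) {G : Type v} [Group G] [Finite G] (ι : S →* G) (hι : Function.Injective ι)
    (hidx : ¬ 2 ∣ ι.range.index) {F : FusionSystem S} (hF : F.IsSaturated 2) (fF : Fits F fr)
    (hfit : ∀ E : FusionSystem S, E.IsSaturated 2 → E.IsRealizedBy ι → Fits E fr)
    (h : ∀ i, ∃ a b : S, (a : Ω) = fr.u i ∧ (b : Ω) = fr.v i ∧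
      (Fus' F (fr.u i) (fr.v i) ↔ ∃ g : G, g * ι a * g⁻¹ = ι b)) :
    F.IsRealizedBy ι ∧ ∃ T : Sylow 2 G, (T : Subgroup G) = ι.range := by
  obtain ⟨E, hE⟩ := exists_isRealizedBy ι hι
  let T : Sylow 2 G := (hS.of_equiv (MonoidHom.ofInjective hι)).toSylow hidx
  have hEs : E.IsSaturated 2 := isSaturated_of_realized hE (T := T) rfl
  have : F = E := eq_of_fus hS hg hF hEs fF (hfit E hEs hE) fun i => by
    obtain ⟨a, b, ha, hb, hab⟩ := h i
    rw [hab, ← ha, ← hb, fus_iff_conj hE]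
  exact ⟨this ▸ hE, T, rfl⟩

section Automizer

variable [Finite S] [Fact (Nat.Prime 2)] (hS : IsPGroup 2 S)
include hS

/-- The automizer of an essential subgroup is not a 2-group. -/
theorem not_isPGroup_aut {F : FusionSystem S} {P : Subgroup Ω} (hP : F.IsEssential 2 P) :
    ¬ IsPGroup 2 (F.autGroup P) := fun h =>
  not_essential_of_normal_pgroup hS hP ⊤ inferInstance (h.to_subgroup ⊤)
    (fun g _ _ => Subgroup.mem_top g)

theorem ne_self {F : FusionSystem S} (h : F.autGroup S = autInducedBy S S) {P : Subgroup Ω}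
    (hP : F.IsEssential 2 P) : P < S := by
  refine lt_of_le_of_ne hP.1.1 fun e => ?_
  subst e
  refine not_isPGroup_aut hS hP ?_
  rw [h, ← inn_eq_autInducedBy]
  exact hS.of_surjective (MulAut.conj.rangeRestrict) (MonoidHom.rangeRestrict_surjective _)

theorem top_of_aut_pgroup {F : FusionSystem S} (hF : F.IsSaturated 2)
    (h : IsPGroup 2 (MulAut S)) : F.autGroup S = autInducedBy S S := by
  rw [autGroup_self_eq_inn hF hS h, inn_eq_autInducedBy]

/-- The automizer is everything if `Aut P` is small and the automizer is not a 2-group. -/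
theorem autGroup_eq_top {F : FusionSystem S} {P : Subgroup Ω} (hPS : P ≤ S)
    (hne : ¬ autInducedBy S P ≤ Inn P) (hB : ¬ IsPGroup 2 (F.autGroup P))
    [Finite (MulAut P)] (hcard : Nat.card (MulAut P) ≤ 6 * Nat.card (Inn P)) :
    F.autGroup P = ⊤ := by
  haveI := finite_of_le hPS
  have hle : autInducedBy S P ≤ F.autGroup P := autInducedBy_le_autGroup F hPS
  have hIA : Inn P ≤ autInducedBy S P := by
    rw [inn_eq_autInducedBy]; exact autInducedBy_mono hPS P
  have hA : IsPGroup 2 (autInducedBy S P) := isPGroup_autInducedBy hS P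
  obtain ⟨a, ha⟩ := IsPGroup.iff_card.1 hA
  obtain ⟨b, hb⟩ := IsPGroup.iff_card.1 (hA.to_le hIA)
  have hlt : Nat.card (Inn P) < Nat.card (autInducedBy S P) := by
    refine lt_of_le_of_ne (Subgroup.card_le_of_le hIA) fun e => hne ?_
    exact (Subgroup.eq_of_le_of_card_ge hIA e.ge).ge
  have hba : b < a := by
    rw [ha, hb] at hlt
    exact (Nat.pow_lt_pow_iff_right (le_refl 2)).1 hlt
  obtain ⟨t, ht⟩ : 2 ^ (b + 1) ∣ Nat.card (F.autGroup P) :=
    ((pow_dvd_pow 2 hba).trans ha.symm.dvd).trans (Subgroup.card_dvd_of_le hle)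
  have hle' := Subgroup.card_le_card_group (F.autGroup P)
  rw [hb] at hcard
  have h2 : (2 : ℕ) ^ (b + 1) = 2 * 2 ^ b := pow_succ' 2 b
  have hpos : 0 < 2 ^ b := Nat.two_pow_pos b
  refine Subgroup.eq_top_of_le_card _ ?_
  have ht3 : t = 3 := by
    have hle3 : t ≤ 3 := by
      rw [h2] at ht
      nlinarith
    have h0 : t ≠ 0 := fun e => Nat.card_pos.ne' (ht.trans (by rw [e, mul_zero]))
    rcases (show t = 1 ∨ t = 2 ∨ t = 3 by omega) with rfl | rfl | rfl
    · exact absurd (IsPGroup.of_card (n := b + 1) (by rw [ht, mul_one])) hB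
    · exact absurd (IsPGroup.of_card (n := b + 2) (by rw [ht, ← pow_succ])) hB
    · rfl
  rw [ht, ht3, h2]
  linarith

/-- Automorphisms of conjugate candidates are all in the system at once. -/
theorem autGroup_top_of_conj {F : FusionSystem S} {P : Subgroup Ω} (hP : P ≤ S) {g : Ω}
    (hg : g ∈ S) (h : F.autGroup (P.map (MulAut.conj g).toMonoidHom) = ⊤) : F.autGroup P = ⊤ := by
  refine top_le_iff.1 fun γ _ => (mem_autGroup hP).2 ?_
  let e := P.equivMapOfInjective (MulAut.conj g).toMonoidHom (MulAut.conj g).injective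
  let δ : MulAut (P.map (MulAut.conj g).toMonoidHom) := (e.symm.trans γ).trans e
  have hQS : P.map (MulAut.conj g).toMonoidHom ≤ S := by
    rintro _ ⟨y, hy, rfl⟩
    exact mul_mem (mul_mem hg (hP hy)) (inv_mem hg)
  have hδ := (mem_autGroup (F := F) hQS).1 (h ▸ Subgroup.mem_top δ)
  have h1 := (isMap_conj F hP hg).comp hδ fun x hx => ⟨x, hx, rfl⟩
  have hf := h1.comp (isMap_conj F hQS (inv_mem hg)) fun x hx => autFun_mem δ ⟨x, hx, rfl⟩
  refine hf.congr fun x hx => ?_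
  have he : ∀ y : P, ((e y : P.map (MulAut.conj g).toMonoidHom) : Ω) = g * y * g⁻¹ := fun y => rfl
  show g⁻¹ * autFun δ (g * x * g⁻¹) * g⁻¹⁻¹ = autFun γ x
  rw [← he ⟨x, hx⟩, autFun_coe, show δ (e ⟨x, hx⟩) = e (γ ⟨x, hx⟩) from
      congrArg (fun y => e (γ y)) (e.symm_apply_apply ⟨x, hx⟩), he,
    show autFun γ x = γ ⟨x, hx⟩ from autFun_coe γ ⟨x, hx⟩]
  group

end Automizer

end Cfsg.Agent.Invol.TwoFrame
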