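import Mathlib
import Cfsg.Agent.Lib.Fus.NonSupersolubleTwo

/-!
Groups with a prescribed generalized quaternion or dihedral Sylow 2-subgroup and prescribed fusion
of the two outer classes with the inner one.
-/

set_option autoImplicit false
set_option linter.unusedSectionVars false
set_option linter.style.haveILetI false

open scoped Classical

namespace Cfsg.Agent.Invol.TwoModel

open Subgroup Cfsg.Agent.Fus.NonSuper

universe u v

/-- A group with Sylow 2-subgroup `S` and prescribed conjugacy for two pairs. -/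
def HasModel {S : Type u} [Group S] (u₀ v₀ u₁ v₁ : S) (b₀ b₁ : Prop) : Prop :=
  ∃ (G : Type) (_ : Group G) (_ : Finite G) (ι : S →* G), Function.Injective ι ∧
    ¬ 2 ∣ ι.range.index ∧ ((∃ g : G, g * ι u₀ * g⁻¹ = ι v₀) ↔ b₀) ∧
      ((∃ g : G, g * ι u₁ * g⁻¹ = ι v₁) ↔ b₁)

theorem HasModel.of_equiv {S : Type u} [Group S] {S' : Type v} [Group S'] (e : S' ≃* S)
    {u₀ v₀ u₁ v₁ : S'} {b₀ b₁ : Prop} (h : HasModel (e u₀) (e v₀) (e u₁) (e v₁) b₀ b₁) :
    HasModel u₀ v₀ u₁ v₁ b₀ b₁ := by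
  obtain ⟨G, i1, i2, ι, hι, hidx, h0, h1⟩ := h
  refine ⟨G, i1, i2, ι.comp e.toMonoidHom, hι.comp e.injective, ?_, h0, h1⟩
  rwa [MonoidHom.range_comp, MonoidHom.range_eq_top.2 e.surjective, ← MonoidHom.range_eq_map]

/-- The group itself is a model when nothing is fused. -/
theorem hasModel_self {S : Type u} [Group S] [Finite S] {u₀ v₀ u₁ v₁ : S}
    (h₀ : ¬ ∃ s : S, s * u₀ * s⁻¹ = v₀) (h₁ : ¬ ∃ s : S, s * u₁ * s⁻¹ = v₁) :
    HasModel u₀ v₀ u₁ v₁ False False := by
  let E : Shrink.{0} S ≃* S := Shrink.mulEquiv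
  haveI : Finite (Shrink.{0} S) := Finite.of_equiv S E.symm.toEquiv
  refine ⟨Shrink.{0} S, inferInstance, inferInstance, E.symm.toMonoidHom, E.symm.injective,
    ?_, ?_, ?_⟩
  · rw [MonoidHom.range_eq_top.2 E.symm.surjective, Subgroup.index_top]; decide
  · refine iff_false_intro fun ⟨g, hg⟩ => h₀ ⟨E g, ?_⟩
    have := congrArg E hg
    simpa using this
  · refine iff_false_intro fun ⟨g, hg⟩ => h₁ ⟨E g, ?_⟩
    have := congrArg E hg
    simpa using this

section Quat

theorem a_zpow {n : ℕ} [NeZero n] (i : ℤ) :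
    (QuaternionGroup.a 1 : QuaternionGroup n) ^ i = QuaternionGroup.a (i : ZMod (2 * n)) := by
  induction i using Int.induction_on with
  | zero => simp only [zpow_zero, Int.cast_zero, QuaternionGroup.a_zero]
  | succ i ih => rw [zpow_add_one, ih, QuaternionGroup.a_mul_a]; push_cast; rfl
  | pred i ih =>
    rw [zpow_sub_one, ih, show (QuaternionGroup.a 1 : QuaternionGroup n)⁻¹ = QuaternionGroup.a (-1)
      from rfl, QuaternionGroup.a_mul_a]
    push_cast
    rw [sub_eq_add_neg]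

/-- A homomorphism from a quaternion group given by images of the generators. -/
theorem quatHom {n : ℕ} [NeZero n] (hn : 2 ≤ n) {G : Type*} [Group G] {X W : G}
    (hX : orderOf X = 2 * n) (hc : W * X * W⁻¹ = X⁻¹) (hW : W * W = X ^ n) :
    ∃ φ : QuaternionGroup n →* G, Function.Injective φ ∧ φ (QuaternionGroup.a 1) = X ∧
      φ (QuaternionGroup.xa 0) = W := by
  refine exists_hom_index_two (a := -1) (m := (n : ℤ))
    (by rw [QuaternionGroup.orderOf_a_one, hX]) ?_ (by rw [zpow_neg_one]; exact hc) ?_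
    (by rw [zpow_natCast]; exact hW) ?_ ?_ ?_
  · rw [zpow_neg_one, mul_inv_eq_iff_eq_mul, eq_inv_mul_iff_mul_eq, QuaternionGroup.xa_mul_a,
      QuaternionGroup.a_mul_xa]
    simp
  · rw [QuaternionGroup.xa_mul_xa, zpow_natCast, QuaternionGroup.a_one_pow]; simp
  · rintro ⟨i, hi⟩
    have hi' : (QuaternionGroup.a 1 : QuaternionGroup n) ^ i = QuaternionGroup.xa 0 := hi
    rw [a_zpow] at hi'
    exact absurd hi' (by simp)
  · rintro ⟨i, rfl⟩
    have h2 : X ^ (2 : ℕ) = 1 := by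
      have : X = X⁻¹ := by rw [← hc]; group
      calc X ^ 2 = X * X := pow_two X
        _ = X * X⁻¹ := by rw [← this]
        _ = 1 := mul_inv_cancel X
    have := Nat.le_of_dvd two_pos (hX ▸ orderOf_dvd_of_pow_eq_one h2)
    omega
  · rintro (i | i)
    · exact ⟨(i.val : ℤ), Or.inl (by rw [a_zpow]; simp [ZMod.natCast_zmod_val])⟩
    · refine ⟨((-i).val : ℤ), Or.inr ?_⟩
      rw [a_zpow, QuaternionGroup.a_mul_xa]
      simp [ZMod.natCast_zmod_val]

theorem card_quat (k : ℕ) : Nat.card (QuaternionGroup (2 ^ k)) = 2 ^ (k + 2) := by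
  haveI : NeZero (2 ^ k) := ⟨(pow_pos two_pos k).ne'⟩
  rw [Nat.card_eq_fintype_card, QuaternionGroup.card, pow_add]
  ring

variable {q : ℕ} [Fact q.Prime]

theorem sq_xa {n : ℕ} [NeZero n] (i : ZMod (2 * n)) :
    QuaternionGroup.xa i * QuaternionGroup.xa i = (QuaternionGroup.a 1 : QuaternionGroup n) ^ n := by
  rw [QuaternionGroup.xa_mul_xa, QuaternionGroup.a_one_pow]; simp

theorem sq_quarter {k : ℕ} (hk : 1 ≤ k) :
    (QuaternionGroup.a 1 : QuaternionGroup (2 ^ k)) ^ 2 ^ (k - 1) *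
      QuaternionGroup.a 1 ^ 2 ^ (k - 1) = QuaternionGroup.a 1 ^ 2 ^ k := by
  rw [← pow_add]
  congr 1
  rw [← two_mul, ← pow_succ', Nat.sub_add_cancel hk]

/-- A model for the quaternion group of order `2 ^ (k + 2)` in which the involution is central. -/
def QuatModel (k : ℕ) (b₀ b₁ : Prop) : Prop :=
  ∃ (G : Type) (_ : Group G) (_ : Finite G) (ι : QuaternionGroup (2 ^ k) →* G),
    Function.Injective ι ∧ ¬ 2 ∣ ι.range.index ∧
      ((∃ g : G, g * ι (QuaternionGroup.a 1 ^ 2 ^ (k - 1)) * g⁻¹ = ι (QuaternionGroup.xa 0)) ↔ b₀) ∧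
      ((∃ g : G, g * ι (QuaternionGroup.a 1 ^ 2 ^ (k - 1)) * g⁻¹ = ι (QuaternionGroup.xa 1)) ↔ b₁) ∧
      ∀ g : G, g * ι (QuaternionGroup.a 1 ^ 2 ^ k) = ι (QuaternionGroup.a 1 ^ 2 ^ k) * g

/-- Both outer classes fused with the inner one: `SL(2, q)`. -/
theorem quat_model_both {k : ℕ} (hk : 1 ≤ k) :
    QuatModel k True True := by
  haveI : NeZero (2 ^ k) := ⟨(pow_pos two_pos k).ne'⟩
  obtain ⟨q, hqf, X, Y, h4, hX, hYY, hconj, -, hneg, hdX, hdY, -, ⟨r, hr, hcard⟩⟩ :=
    exists_matrices (k + 2) (by omega)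
  haveI := hqf
  rw [show k + 2 - 1 = k + 1 from rfl] at hconj hneg
  set D : Subgroup (GL (Fin 2) (ZMod q)) := (Matrix.GeneralLinearGroup.det :
    GL (Fin 2) (ZMod q) →* (ZMod q)ˣ).ker with hD
  have hmemD : ∀ g : GL (Fin 2) (ZMod q),
      (g : Matrix (Fin 2) (Fin 2) (ZMod q)).det = 1 → g ∈ D := fun g hg => by
    rw [hD, MonoidHom.mem_ker]; exact Units.ext hg
  let Q' : D := ⟨X ^ 2, hmemD _ (by simp [Units.val_pow_eq_pow_val, Matrix.det_pow, hdX])⟩
  let W' : D := ⟨X * Y, hmemD _ (by simp [Units.val_mul, Matrix.det_mul, hdX, hdY])⟩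
  have h2k : 2 * 2 ^ k = 2 ^ (k + 1) := (pow_succ' 2 k).symm
  have hXX : (2 : ℤ) ^ (k + 1) = ((2 ^ (k + 1) : ℕ) : ℤ) := by push_cast; rfl
  obtain ⟨φ, hφ, hφa, hφx⟩ := quatHom (n := 2 ^ k) (X := Q') (W := W')
    (le_trans (by norm_num) (Nat.pow_le_pow_right two_pos hk))
    (by
      rw [← Subgroup.orderOf_coe]
      show orderOf (X ^ 2) = _
      rw [orderOf_pow' _ two_ne_zero, hX, Nat.gcd_eq_right (dvd_pow_self 2 (by omega)), h2k,
        pow_succ, Nat.mul_div_cancel _ two_pos])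
    (by
      refine Subtype.ext ?_
      show X * Y * X ^ 2 * (X * Y)⁻¹ = (X ^ 2)⁻¹
      calc X * Y * X ^ 2 * (X * Y)⁻¹ = X * (Y * X * Y⁻¹) ^ 2 * X⁻¹ := by rw [conj_pow]; group
        _ = _ := by
          rw [hconj, ← zpow_natCast, ← zpow_mul, ← zpow_one_add, ← zpow_sub_one, ← zpow_natCast X 2,
            ← zpow_neg, zpow_eq_zpow_iff_modEq, hX, Int.modEq_iff_dvd]
          refine ⟨-1, ?_⟩
          push_cast
          ring)
    (by
      refine Subtype.ext ?_
      rw [SubmonoidClass.coe_pow]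
      show X * Y * (X * Y) = (X ^ 2) ^ 2 ^ k
      rw [← pow_mul, h2k]
      calc X * Y * (X * Y) = X * (Y * X * Y⁻¹) * (Y * Y) := by group
        _ = _ := by
          rw [hconj, hYY, mul_one, ← zpow_one_add,
            show 1 + ((2 : ℤ) ^ (k + 1) - 1) = 2 ^ (k + 1) by ring, hXX, zpow_natCast])
  have hzero : (((φ (QuaternionGroup.a 1 ^ 2 ^ k) : D) : GL (Fin 2) (ZMod q)) :
      Matrix (Fin 2) (Fin 2) (ZMod q)) = -1 := by
    rw [map_pow, hφa, SubmonoidClass.coe_pow]
    show (((X ^ 2) ^ 2 ^ k : GL (Fin 2) (ZMod q)) : Matrix (Fin 2) (Fin 2) (ZMod q)) = -1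
    rw [← pow_mul, h2k]
    exact hneg
  have hconjv : ∀ i : ZMod (2 * 2 ^ k), ∃ g : D,
      g * φ (QuaternionGroup.a 1 ^ 2 ^ (k - 1)) * g⁻¹ = φ (QuaternionGroup.xa i) := by
    intro i
    obtain ⟨g, hg, hgc⟩ := exists_conj_sq_neg h4
      (A := ((φ (QuaternionGroup.a 1 ^ 2 ^ (k - 1)) : D) : GL (Fin 2) (ZMod q)))
      (B := ((φ (QuaternionGroup.xa i) : D) : GL (Fin 2) (ZMod q)))
      (by rw [← Subgroup.coe_mul, ← map_mul, sq_quarter (by omega : 1 ≤ k)]; exact hzero)
      (by rw [← Subgroup.coe_mul, ← map_mul, sq_xa]; exact hzero)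
    exact ⟨⟨g, hmemD g hg⟩, Subtype.ext hgc⟩
  refine ⟨D, inferInstance, inferInstance, φ, hφ, ?_, iff_true_intro (hconjv 0),
    iff_true_intro (hconjv 1), fun g => Subtype.ext (Units.ext ?_)⟩
  · exact odd_index_range φ hφ (card_quat k) hr hcard
  · show (((g : GL (Fin 2) (ZMod q)) * ((φ (QuaternionGroup.a 1 ^ 2 ^ k) : D) : GL (Fin 2) (ZMod q)) :
      GL (Fin 2) (ZMod q)) : Matrix (Fin 2) (Fin 2) (ZMod q)) =
      ((((φ (QuaternionGroup.a 1 ^ 2 ^ k) : D) : GL (Fin 2) (ZMod q)) * (g : GL (Fin 2) (ZMod q)) :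
        GL (Fin 2) (ZMod q)) : Matrix (Fin 2) (Fin 2) (ZMod q))
    rw [Units.val_mul, Units.val_mul, hzero]; simp

theorem units_neg_one_pow {R : Type*} [CommRing R] (m : ℕ) : (-1 : Rˣ) ^ m = (-1) ^ (m % 2) := by
  conv_lhs => rw [← Nat.mod_add_div m 2]
  rw [pow_add, pow_mul, neg_one_sq, one_pow, mul_one]

/-- Pairs `(A, j)` with `det A = (-1) ^ j`, `j` modulo 4. -/
def twist (q : ℕ) : Subgroup (GL (Fin 2) (ZMod q) × Multiplicative (ZMod 4)) where
  carrier := {p | Matrix.GeneralLinearGroup.det p.1 = (-1) ^ (Multiplicative.toAdd p.2).val}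
  one_mem' := by simp
  mul_mem' := by
    intro a b ha hb
    simp only [Set.mem_setOf_eq] at ha hb ⊢
    rw [Prod.fst_mul, map_mul, ha, hb, Prod.snd_mul, toAdd_mul, ← pow_add,
      units_neg_one_pow,
      units_neg_one_pow (Multiplicative.toAdd a.2 + Multiplicative.toAdd b.2).val,
      ZMod.val_add, Nat.mod_mod_of_dvd _ (by norm_num : 2 ∣ 4)]
  inv_mem' := by
    intro a ha
    simp only [Set.mem_setOf_eq] at ha ⊢
    rw [Prod.fst_inv, map_inv, ha, Prod.snd_inv, toAdd_inv]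
    have key : ∀ j : ZMod 4, (-j).val % 2 = j.val % 2 := by decide
    rw [← inv_pow, inv_neg, inv_one, units_neg_one_pow,
      units_neg_one_pow (-Multiplicative.toAdd a.2).val, key]

theorem mem_twist {p : GL (Fin 2) (ZMod q) × Multiplicative (ZMod 4)} : p ∈ twist q ↔
    Matrix.GeneralLinearGroup.det p.1 = (-1) ^ (Multiplicative.toAdd p.2).val := Iff.rfl

theorem mem_twist_one {g : GL (Fin 2) (ZMod q)} (h : Matrix.GeneralLinearGroup.det g = 1) :
    (g, 1) ∈ twist q := by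
  rw [mem_twist, h]; simp

theorem det_eq_of {A : GL (Fin 2) (ZMod q)} {c : (ZMod q)ˣ}
    (h : (A : Matrix (Fin 2) (Fin 2) (ZMod q)).det = (c : ZMod q)) :
    Matrix.GeneralLinearGroup.det A = c := Units.ext h

/-- Exactly one outer class fused with the inner one. -/
theorem quat_model_one {k : ℕ} (hk : 2 ≤ k) :
    QuatModel k True False := by
  haveI : NeZero (2 ^ k) := ⟨(pow_pos two_pos k).ne'⟩
  obtain ⟨q, hqf, X, Y, h4, hX, hYY, hconj, -, hneg, hdX, hdY, -, ⟨r, hr, hcard⟩⟩ :=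
    exists_matrices (k + 1) (by omega)
  haveI := hqf
  rw [show k + 1 - 1 = k from rfl] at hconj hneg
  have hq2 : (2 : ZMod q) ≠ 0 := by
    intro e
    have e' : ((2 : ℕ) : ZMod q) = 0 := by exact_mod_cast e
    rw [ZMod.natCast_eq_zero_iff] at e'
    have := Nat.le_of_dvd two_pos e'
    have := hqf.out.two_le
    omega
  -- the central element
  set E₀ : GL (Fin 2) (ZMod q) := X ^ 2 ^ k with hE₀
  have hE : (E₀ : Matrix (Fin 2) (Fin 2) (ZMod q)) = -1 := hneg
  have hEc : ∀ g : GL (Fin 2) (ZMod q), g * E₀ = E₀ * g := fun g => Units.ext (by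
    rw [Units.val_mul, Units.val_mul, hE]; simp)
  have hdE : Matrix.GeneralLinearGroup.det E₀ = 1 := det_eq_of (by
    rw [hE, Units.val_one, Matrix.det_neg]; simp)
  have hdetX : Matrix.GeneralLinearGroup.det X = -1 := det_eq_of (by rw [hdX]; simp)
  have hdetY : Matrix.GeneralLinearGroup.det Y = -1 := det_eq_of (by rw [hdY]; simp)
  let one4 : Multiplicative (ZMod 4) := Multiplicative.ofAdd 1
  let two4 : Multiplicative (ZMod 4) := Multiplicative.ofAdd 2
  let X' : twist q := ⟨(X, one4), by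
    rw [mem_twist]; show _ = (-1 : (ZMod q)ˣ) ^ 1; rw [pow_one]; exact hdetX⟩
  let Y' : twist q := ⟨(Y, one4), by
    rw [mem_twist]; show _ = (-1 : (ZMod q)ˣ) ^ 1; rw [pow_one]; exact hdetY⟩
  let c : twist q := ⟨(E₀, two4), by
    rw [mem_twist]; show _ = (-1 : (ZMod q)ˣ) ^ 2; rw [neg_one_sq]; exact hdE⟩
  let N : Subgroup (twist q) := zpowers c
  haveI hN : N.Normal := ⟨fun a ha g => by
    obtain ⟨i, rfl⟩ := ha
    have hg : g * c = c * g := Subtype.ext (Prod.ext (hEc _) (mul_comm _ _))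
    have : g * c ^ i * g⁻¹ = c ^ i := by
      rw [← conj_zpow, mul_inv_eq_iff_eq_mul.2 hg]
    rw [this]; exact ⟨i, rfl⟩⟩
  have hEE : E₀ * E₀ = 1 := Units.ext (by rw [Units.val_mul, hE]; simp)
  have hc2 : c * c = 1 := Subtype.ext (Prod.ext hEE (show two4 * two4 = 1 by decide))
  have hE1 : E₀ ≠ 1 := fun e => by
    rw [e, Units.val_one] at hE
    have := congrFun (congrFun hE 0) 0
    rw [Matrix.neg_apply, Matrix.one_apply_eq, eq_neg_iff_add_eq_zero, one_add_one_eq_two] at this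
    exact hq2 this
  have hc1 : c ≠ 1 := fun e => hE1 (congrArg (fun t : twist q => t.1.1) e)
  have hmemN : ∀ a : twist q, a ∈ N → a = 1 ∨ a = c := fun a ha => by
    obtain ⟨i, rfl⟩ := ha
    rcases Int.even_or_odd i with ⟨j, rfl⟩ | ⟨j, rfl⟩
    · left; show c ^ (j + j) = 1; rw [zpow_add, ← (Commute.refl c).mul_zpow, hc2, one_zpow]
    · right
      show c ^ (2 * j + 1) = c
      rw [zpow_add_one, two_mul, zpow_add, ← (Commute.refl c).mul_zpow, hc2, one_zpow, one_mul]
  let π : twist q →* twist q ⧸ N := QuotientGroup.mk' N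
  have hπc : π c = 1 := (QuotientGroup.eq_one_iff c).2 (mem_zpowers c)
  let W : twist q := X' * Y'
  have h2k : 2 ≤ 2 ^ k := le_trans (by norm_num) (Nat.pow_le_pow_right two_pos hk)
  have h4k : (4 : ℕ) ∣ 2 ^ k := ⟨2 ^ (k - 2), by
    rw [show (4 : ℕ) = 2 ^ 2 from rfl, ← pow_add, Nat.add_sub_cancel' hk]⟩
  have hone : ∀ m : ℕ, 4 ∣ m → one4 ^ m = 1 := fun m hm => by
    obtain ⟨t, rfl⟩ := hm
    rw [pow_mul, show one4 ^ 4 = 1 by decide, one_pow]
  obtain ⟨φ, hφ, hφa, hφx⟩ := quatHom (n := 2 ^ k) (X := π X') (W := π W) h2k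
    (by
      rw [show 2 * 2 ^ k = 2 ^ (k + 1) from (pow_succ' 2 k).symm]
      refine orderOf_eq_prime_pow ?_ ?_
      · rw [← map_pow]
        intro e
        rcases hmemN _ ((QuotientGroup.eq_one_iff _).1 e) with e1 | e1
        · exact hE1 (congrArg (fun t : twist q => t.1.1) e1)
        · have h := congrArg (fun t : twist q => t.1.2) e1
          simp only [SubmonoidClass.coe_pow, Prod.pow_snd] at h
          rw [show X'.1.2 = one4 from rfl, hone _ h4k] at h
          exact absurd h (show (1 : Multiplicative (ZMod 4)) ≠ two4 by decide)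
      · rw [← map_pow]
        refine (congrArg π (?_ : X' ^ 2 ^ (k + 1) = 1)).trans (map_one π)
        refine Subtype.ext (Prod.ext ?_ ?_)
        · show X ^ 2 ^ (k + 1) = 1
          rw [← hX, pow_orderOf_eq_one]
        · exact hone _ (h4k.trans (pow_dvd_pow 2 (Nat.le_succ k))))
    (by
      rw [← map_inv, ← map_mul, ← map_mul, ← map_inv]
      have e : W * X' * W⁻¹ = X'⁻¹ * c := by
        refine Subtype.ext (Prod.ext ?_ ?_)
        · show X * Y * X * (X * Y)⁻¹ = X⁻¹ * X ^ 2 ^ k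
          calc X * Y * X * (X * Y)⁻¹ = X * (Y * X * Y⁻¹) * X⁻¹ := by group
            _ = _ := by
              rw [hconj, ← zpow_natCast X (2 ^ k), ← zpow_one_add, ← zpow_sub_one, ← zpow_neg_one,
                ← zpow_add]
              congr 1
              push_cast; ring
        · show one4 * one4 * one4 * (one4 * one4)⁻¹ = one4⁻¹ * two4
          decide
      rw [e, map_mul, hπc, mul_one])
    (by
      rw [← map_mul, ← map_pow]
      refine congrArg π (Subtype.ext (Prod.ext ?_ ?_))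
      · show X * Y * (X * Y) = X ^ 2 ^ k
        calc X * Y * (X * Y) = X * (Y * X * Y⁻¹) * (Y * Y) := by group
          _ = _ := by
            rw [hconj, hYY, mul_one, ← zpow_one_add,
              show 1 + ((2 : ℤ) ^ k - 1) = ((2 ^ k : ℕ) : ℤ) by push_cast; ring, zpow_natCast]
      · show one4 * one4 * (one4 * one4) = one4 ^ 2 ^ k
        rw [hone _ h4k]; decide)
  -- parity
  let χ : twist q →* (ZMod q)ˣ :=
    Matrix.GeneralLinearGroup.det.comp ((MonoidHom.fst _ _).comp (twist q).subtype)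
  have hχN : N ≤ χ.ker := zpowers_le.2 hdE
  let χ' : twist q ⧸ N →* (ZMod q)ˣ := QuotientGroup.lift N χ hχN
  have hχX : χ' (π X') = -1 := hdetX
  have hχW : χ' (π W) = 1 := by
    show Matrix.GeneralLinearGroup.det (X * Y) = 1
    rw [map_mul, hdetX, hdetY]; simp
  have heven : Even (2 ^ (k - 1)) := Nat.even_pow.2 ⟨even_two, by omega⟩
  refine ⟨twist q ⧸ N, inferInstance, inferInstance, φ, hφ, ?_, iff_true_intro ?_,
    iff_false_intro ?_, fun g => ?_⟩
  · have hsurj : Function.Surjective ((MonoidHom.snd _ _).comp (twist q).subtype) := by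
      intro j
      refine ⟨X' ^ (Multiplicative.toAdd j).val, ?_⟩
      show one4 ^ (Multiplicative.toAdd j).val = j
      rw [← ofAdd_nsmul, nsmul_one, ZMod.natCast_zmod_val]; rfl
    let f := (MonoidHom.snd _ _).comp (twist q).subtype
    let D := (Matrix.GeneralLinearGroup.det : GL (Fin 2) (ZMod q) →* (ZMod q)ˣ).ker
    have hker : f.ker ≃ D :=
      { toFun := fun a => ⟨(a : twist q).1.1, by
          have h1 := mem_twist.1 (a : twist q).2
          have h2 : (a : twist q).1.2 = 1 := a.2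
          rw [h2, toAdd_one, ZMod.val_zero, pow_zero] at h1
          exact h1⟩
        invFun := fun g => ⟨⟨((g : GL (Fin 2) (ZMod q)), 1), mem_twist_one g.2⟩, rfl⟩
        left_inv := fun a => Subtype.ext (Subtype.ext (Prod.ext rfl
          (show (1 : Multiplicative (ZMod 4)) = (a : twist q).1.2 from a.2.symm)))
        right_inv := fun g => rfl }
    have h1 : Nat.card (twist q) = 4 * Nat.card D := by
      rw [← f.ker.card_mul_index, Nat.card_congr hker, Subgroup.index_ker,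
        MonoidHom.range_eq_top.2 hsurj, Subgroup.card_top,
        Nat.card_congr Multiplicative.toAdd, Nat.card_zmod, mul_comm]
    have h2 : Nat.card (twist q ⧸ N) * 2 = Nat.card (twist q) := by
      have h := N.index_mul_card
      rwa [Subgroup.index_eq_card, Nat.card_zpowers, orderOf_eq_prime (by rw [sq, hc2]) hc1] at h
    have hD : Nat.card D = 2 ^ (k + 1) * r := hcard
    refine odd_index_range φ hφ (card_quat k) hr ?_
    rw [h1, hD] at h2
    rw [show 2 ^ (k + 2) = 2 * 2 ^ (k + 1) from pow_succ' 2 (k + 1)]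
    linarith
  · obtain ⟨B, hB, hBB⟩ : ∃ B : GL (Fin 2) (ZMod q), (B = X * Y ∨ B = E₀ * (X * Y)) ∧
        (∀ g : GL (Fin 2) (ZMod q), Matrix.GeneralLinearGroup.det g = 1 →
          g * X ^ 2 ^ (k - 1) * g⁻¹ = B → ∃ a : twist q ⧸ N,
            a * π X' ^ 2 ^ (k - 1) * a⁻¹ = π W) := by
      by_cases h : one4 ^ 2 ^ (k - 1) = two4
      · refine ⟨X * Y, Or.inl rfl, fun g hg hgc => ⟨π ⟨(g, 1), mem_twist_one hg⟩, ?_⟩⟩
        rw [← map_pow, ← map_inv, ← map_mul, ← map_mul]
        refine congrArg π (Subtype.ext (Prod.ext hgc ?_))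
        show 1 * one4 ^ 2 ^ (k - 1) * 1⁻¹ = one4 * one4
        rw [h]; decide
      · refine ⟨E₀ * (X * Y), Or.inr rfl, fun g hg hgc => ⟨π ⟨(g, 1), mem_twist_one hg⟩, ?_⟩⟩
        have h1 : one4 ^ 2 ^ (k - 1) = 1 := by
          obtain ⟨t, ht⟩ := heven
          have h2 : one4 ^ 2 ^ (k - 1) = (one4 * one4) ^ t := by rw [ht, pow_add, mul_pow]
          rcases Nat.even_or_odd t with ⟨s, rfl⟩ | ⟨s, rfl⟩
          · rw [h2, pow_add, ← mul_pow, show one4 * one4 * (one4 * one4) = 1 by decide, one_pow]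
          · refine absurd ?_ h
            rw [h2, pow_succ, pow_mul, show (one4 * one4) ^ 2 = 1 by decide, one_pow, one_mul]
            decide
        rw [← map_pow, ← map_inv, ← map_mul, ← map_mul]
        refine (congrArg π (?_ : _ = c * W)).trans (by rw [map_mul, hπc, one_mul])
        refine Subtype.ext (Prod.ext hgc ?_)
        show 1 * one4 ^ 2 ^ (k - 1) * 1⁻¹ = two4 * (one4 * one4)
        rw [h1]; decide
    have hA : ((X ^ 2 ^ (k - 1) * X ^ 2 ^ (k - 1) : GL (Fin 2) (ZMod q)) :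
        Matrix (Fin 2) (Fin 2) (ZMod q)) = -1 := by
      rw [← pow_add, ← two_mul, ← pow_succ', Nat.sub_add_cancel (by omega : 1 ≤ k)]; exact hneg
    have hXY : X * Y * (X * Y) = E₀ := by
      calc X * Y * (X * Y) = X * (Y * X * Y⁻¹) * (Y * Y) := by group
        _ = _ := by
          rw [hconj, hYY, mul_one, ← zpow_one_add,
            show 1 + ((2 : ℤ) ^ k - 1) = ((2 ^ k : ℕ) : ℤ) by push_cast; ring, zpow_natCast]
    obtain ⟨g, hg, hgc⟩ := exists_conj_sq_neg h4 (A := X ^ 2 ^ (k - 1)) (B := B) hA (by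
      rcases hB with rfl | rfl
      · rw [hXY]; exact hE
      · rw [show E₀ * (X * Y) * (E₀ * (X * Y)) = X * Y * (X * Y) by
          calc E₀ * (X * Y) * (E₀ * (X * Y)) = E₀ * ((X * Y) * E₀) * (X * Y) := by group
            _ = E₀ * (E₀ * (X * Y)) * (X * Y) := by rw [hEc]
            _ = E₀ * E₀ * (X * Y) * (X * Y) := by group
            _ = X * Y * (X * Y) := by rw [hEE]; group, hXY]
        exact hE)
    rw [map_pow, hφa, hφx]
    exact hBB g (det_eq_of (hg.trans (Units.val_one).symm)) hgc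
  · rintro ⟨g, hg⟩
    have := congrArg χ' hg
    rw [map_mul, map_mul, map_inv, mul_comm (χ' g) _, mul_inv_cancel_right, map_pow, hφa,
      show (QuaternionGroup.xa 1 : QuaternionGroup (2 ^ k)) =
        QuaternionGroup.xa 0 * QuaternionGroup.a 1 by simp [QuaternionGroup.xa_mul_a],
      map_mul φ, hφa, hφx, map_pow, map_mul, hχX, hχW, one_mul, heven.neg_one_pow] at this
    have h' := congrArg (fun a : (ZMod q)ˣ => (a : ZMod q)) this
    simp only [Units.val_neg, Units.val_one, eq_neg_iff_add_eq_zero, one_add_one_eq_two] at h'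
    exact hq2 h'
  · rw [map_pow, hφa, ← map_pow]
    obtain ⟨a, rfl⟩ := QuotientGroup.mk'_surjective N g
    rw [← map_mul, ← map_mul]
    refine congrArg π (Subtype.ext (Prod.ext ?_ (mul_comm _ _)))
    exact hEc _

theorem quat_model_none {k : ℕ} (hk : 2 ≤ k) : QuatModel k False False := by
  haveI : NeZero (2 ^ k) := ⟨(pow_pos two_pos k).ne'⟩
  have key : ∀ (g : QuaternionGroup (2 ^ k)) (j : ZMod (2 * 2 ^ k)) (i),
      g * QuaternionGroup.a j * g⁻¹ ≠ QuaternionGroup.xa i := by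
    rintro (s | s) j i e <;> rw [mul_inv_eq_iff_eq_mul] at e <;> simp at e
  refine ⟨QuaternionGroup (2 ^ k), inferInstance, inferInstance, MonoidHom.id _,
    Function.injective_id, ?_, iff_false_intro ?_, iff_false_intro ?_, fun g => ?_⟩
  · rw [MonoidHom.range_eq_top.2 Function.surjective_id, Subgroup.index_top]; decide
  · rintro ⟨g, hg⟩
    simp only [MonoidHom.id_apply, QuaternionGroup.a_one_pow] at hg
    exact key g _ _ hg
  · rintro ⟨g, hg⟩
    simp only [MonoidHom.id_apply, QuaternionGroup.a_one_pow] at hg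
    exact key g _ _ hg
  · simp only [MonoidHom.id_apply, QuaternionGroup.a_one_pow]
    have h2 : ((2 ^ k : ℕ) : ZMod (2 * 2 ^ k)) + (2 ^ k : ℕ) = 0 := by
      rw [← Nat.cast_add, ← two_mul, ZMod.natCast_self]
    rcases g with s | s
    · simp only [QuaternionGroup.a_mul_a, add_comm]
    · simp only [QuaternionGroup.xa_mul_a, QuaternionGroup.a_mul_xa]
      congr 1
      linear_combination h2

/-- The automorphism exchanging the outer classes. -/
theorem exists_shift {k : ℕ} (hk : 2 ≤ k) :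
    ∃ σ : QuaternionGroup (2 ^ k) ≃* QuaternionGroup (2 ^ k),
      σ (QuaternionGroup.a 1) = QuaternionGroup.a 1 ∧
        σ (QuaternionGroup.xa 0) = QuaternionGroup.xa 1 := by
  haveI : NeZero (2 ^ k) := ⟨(pow_pos two_pos k).ne'⟩
  obtain ⟨φ, hφ, h1, h2⟩ := quatHom (n := 2 ^ k) (G := QuaternionGroup (2 ^ k))
    (X := QuaternionGroup.a 1) (W := QuaternionGroup.xa 1)
    (le_trans (by norm_num) (Nat.pow_le_pow_right two_pos hk)) QuaternionGroup.orderOf_a_one
    (by rw [mul_inv_eq_iff_eq_mul, eq_inv_mul_iff_mul_eq, QuaternionGroup.xa_mul_a,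
      QuaternionGroup.a_mul_xa]; simp)
    (sq_xa 1)
  exact ⟨MulEquiv.ofBijective φ ⟨hφ, (Finite.injective_iff_surjective.1 hφ)⟩, h1, h2⟩

theorem quat_model (k : ℕ) (hk : 2 ≤ k) (b₀ b₁ : Prop) : QuatModel k b₀ b₁ := by
  by_cases h₀ : b₀ <;> by_cases h₁ : b₁
  · rw [eq_true h₀, eq_true h₁]; exact quat_model_both (by omega)
  · rw [eq_true h₀, eq_false h₁]; exact quat_model_one hk
  · rw [eq_false h₀, eq_true h₁]
    haveI : NeZero (2 ^ k) := ⟨(pow_pos two_pos k).ne'⟩
    obtain ⟨σ, s1, s2⟩ := exists_shift hk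
    obtain ⟨G, i1, i2, ι, hι, hidx, c0, c1, hz⟩ := quat_model_one hk
    have hpow : ∀ m : ℕ, σ (QuaternionGroup.a 1 ^ m) = QuaternionGroup.a 1 ^ m := fun m => by
      rw [map_pow, s1]
    have h2' : σ (QuaternionGroup.xa 1) = QuaternionGroup.a 1 ^ (-1 : ℤ) * QuaternionGroup.xa 0 *
        (QuaternionGroup.a 1 ^ (-1 : ℤ))⁻¹ := by
      rw [show (QuaternionGroup.xa 1 : QuaternionGroup (2 ^ k)) =
        QuaternionGroup.xa 0 * QuaternionGroup.a 1 by simp [QuaternionGroup.xa_mul_a],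
        map_mul, s1, s2, eq_mul_inv_iff_mul_eq, a_zpow]
      simp only [QuaternionGroup.xa_mul_a, QuaternionGroup.a_mul_xa]
      congr 1
      push_cast; ring
    refine ⟨G, i1, i2, ι.comp σ.toMonoidHom, hι.comp σ.injective, ?_, ?_, ?_, fun g => ?_⟩
    · rwa [MonoidHom.range_comp, MonoidHom.range_eq_top.2 σ.surjective, ← MonoidHom.range_eq_map]
    · simp only [MonoidHom.coe_comp, MulEquiv.coe_toMonoidHom, Function.comp_apply, hpow, s2]
      exact c1
    · simp only [MonoidHom.coe_comp, MulEquiv.coe_toMonoidHom, Function.comp_apply, hpow, h2',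
        map_mul, map_inv]
      refine iff_true_intro ?_
      obtain ⟨g, hg⟩ := c0.2 trivial
      refine ⟨ι (QuaternionGroup.a 1 ^ (-1 : ℤ)) * g, ?_⟩
      rw [← hg]; group
    · simp only [MonoidHom.coe_comp, MulEquiv.coe_toMonoidHom, Function.comp_apply, hpow]
      exact hz g
  · rw [eq_false h₀, eq_false h₁]; exact quat_model_none hk

theorem QuatModel.hasModel {k : ℕ} {b₀ b₁ : Prop} (h : QuatModel k b₀ b₁) :
    HasModel ((QuaternionGroup.a 1 : QuaternionGroup (2 ^ k)) ^ 2 ^ (k - 1))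
      (QuaternionGroup.xa 0) (QuaternionGroup.a 1 ^ 2 ^ (k - 1)) (QuaternionGroup.xa 1) b₀ b₁ := by
  obtain ⟨G, i1, i2, ι, hι, hidx, c0, c1, -⟩ := h
  exact ⟨G, i1, i2, ι, hι, hidx, c0, c1⟩

/-- Models for dihedral groups, as quotients. -/
theorem dihedral_model (k : ℕ) (hk : 2 ≤ k) (b₀ b₁ : Prop) :
    HasModel ((DihedralGroup.r 1 : DihedralGroup (2 ^ k)) ^ 2 ^ (k - 1))
      (DihedralGroup.sr 0) (DihedralGroup.r 1 ^ 2 ^ (k - 1)) (DihedralGroup.sr 1) b₀ b₁ := by
  haveI : NeZero (2 ^ k) := ⟨(pow_pos two_pos k).ne'⟩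
  obtain ⟨G, i1, i2, ι, hι, hidx, c0, c1, hz⟩ := quat_model k hk b₀ b₁
  set N : Subgroup G := zpowers (ι (QuaternionGroup.a 1 ^ 2 ^ k)) with hN
  haveI : N.Normal := ⟨fun a ha g => by
    obtain ⟨i, rfl⟩ := ha
    rw [← conj_zpow, mul_inv_eq_iff_eq_mul.2 (hz g)]
    exact ⟨i, rfl⟩⟩
  let π : G →* G ⧸ N := QuotientGroup.mk' N
  have hz1 : π (ι (QuaternionGroup.a 1 ^ 2 ^ k)) = 1 :=
    (QuotientGroup.eq_one_iff _).2 (mem_zpowers _)
  have hu2 : (QuaternionGroup.a 1 : QuaternionGroup (2 ^ k)) ^ (2 * 2 ^ k) = 1 := by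
    have h := pow_orderOf_eq_one (QuaternionGroup.a 1 : QuaternionGroup (2 ^ k))
    rwa [QuaternionGroup.orderOf_a_one] at h
  have hmemN : ∀ x, π (ι x) = 1 → x = 1 ∨ x = QuaternionGroup.a 1 ^ 2 ^ k := fun x hx => by
    obtain ⟨i, hi⟩ := (QuotientGroup.eq_one_iff _).1 hx
    have hi' : ι (QuaternionGroup.a 1 ^ 2 ^ k) ^ i = ι x := hi
    rw [← map_zpow] at hi'
    rw [← hι hi']
    rcases Int.even_or_odd i with ⟨j, rfl⟩ | ⟨j, rfl⟩
    · left
      rw [zpow_add, ← (Commute.refl _).mul_zpow, ← pow_add, ← two_mul, hu2, one_zpow]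
    · right
      rw [zpow_add_one, two_mul j, zpow_add, ← (Commute.refl _).mul_zpow, ← pow_add, ← two_mul,
        hu2, one_zpow, one_mul]
  have hq := card_quat k
  -- the dihedral generators
  have hord : orderOf (π (ι (QuaternionGroup.a 1))) = 2 ^ k := by
    refine (orderOf_eq_iff (pow_pos two_pos k)).2 ⟨by rw [← map_pow, ← map_pow, hz1], ?_⟩
    intro m hm hm0 e
    rw [← map_pow, ← map_pow] at e
    have h2 : orderOf (QuaternionGroup.a 1 : QuaternionGroup (2 ^ k)) = 2 * 2 ^ k :=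
      QuaternionGroup.orderOf_a_one
    rcases hmemN _ e with e' | e'
    · have := Nat.le_of_dvd hm0 (h2 ▸ orderOf_dvd_of_pow_eq_one e')
      omega
    · rw [pow_inj_mod, h2, Nat.mod_eq_of_lt (by omega), Nat.mod_eq_of_lt (by omega)] at e'
      omega
  have hsr : ∀ (i : ℤ) (j : ZMod (2 ^ k)), (DihedralGroup.r 1 : DihedralGroup (2 ^ k)) ^ i ≠
      DihedralGroup.sr j := by
    intro i j hij
    obtain ⟨l, hl⟩ := (isOfFinOrder_of_finite _).mem_powers_iff_mem_zpowers.2
      (hij ▸ zpow_mem (mem_zpowers (DihedralGroup.r (1 : ZMod (2 ^ k)))) i :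
        (DihedralGroup.sr j : DihedralGroup (2 ^ k)) ∈ zpowers (DihedralGroup.r 1))
    have hl' : DihedralGroup.r (1 : ZMod (2 ^ k)) ^ l = DihedralGroup.sr j := hl
    rw [DihedralGroup.r_one_pow] at hl'
    exact absurd hl' (by simp)
  obtain ⟨ψ, hψ, hψr, hψs⟩ := exists_hom_index_two (S := DihedralGroup (2 ^ k)) (G := G ⧸ N)
    (x := DihedralGroup.r 1) (y := DihedralGroup.sr 0) (X := π (ι (QuaternionGroup.a 1)))
    (Y := π (ι (QuaternionGroup.xa 0))) (a := -1) (m := 0)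
    (by rw [DihedralGroup.orderOf_r_one, hord])
    (by
      rw [zpow_neg_one, mul_inv_eq_iff_eq_mul, eq_inv_mul_iff_mul_eq, DihedralGroup.sr_mul_r,
        DihedralGroup.r_mul_sr]
      simp)
    (by
      rw [zpow_neg_one, mul_inv_eq_iff_eq_mul, eq_inv_mul_iff_mul_eq, ← map_mul, ← map_mul,
        ← map_mul, ← map_mul, QuaternionGroup.xa_mul_a, QuaternionGroup.a_mul_xa]
      simp)
    (by simp) (by rw [zpow_zero, ← map_mul, ← map_mul, sq_xa, hz1])
    (fun hm => by obtain ⟨i, hi⟩ := hm; exact hsr i 0 hi)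
    (fun hm => by
      obtain ⟨i, hi⟩ := hm
      have hi' : π (ι (QuaternionGroup.a 1 ^ i)) = π (ι (QuaternionGroup.xa 0)) := by
        rw [map_zpow, map_zpow]; exact hi
      have h0 := hmemN ((QuaternionGroup.a 1 ^ i)⁻¹ * QuaternionGroup.xa 0)
        (by rw [map_mul, map_mul, map_inv, map_inv, hi', inv_mul_cancel])
      rw [a_zpow, QuaternionGroup.a_one_pow] at h0
      rcases h0 with e | e <;> rw [inv_mul_eq_iff_eq_mul] at e <;>
        simp only [QuaternionGroup.a_mul_a, mul_one] at e <;> simp at e)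
    (fun z => by
      have hri : ∀ i : ZMod (2 ^ k), DihedralGroup.r i = DihedralGroup.r 1 ^ (i.val : ℤ) := fun i =>
        by rw [zpow_natCast, DihedralGroup.r_one_pow, ZMod.natCast_zmod_val]
      rcases z with i | i
      · exact ⟨_, Or.inl (hri i)⟩
      · refine ⟨((-i).val : ℤ), Or.inr ?_⟩
        rw [← hri, DihedralGroup.r_mul_sr, zero_sub, neg_neg])
  have hψu : ψ (DihedralGroup.r 1 ^ 2 ^ (k - 1)) = π (ι (QuaternionGroup.a 1 ^ 2 ^ (k - 1))) := by
    rw [map_pow, hψr, map_pow, map_pow]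
  have hψ1 : ψ (DihedralGroup.sr 1) = π (ι (QuaternionGroup.xa 1)) := by
    rw [show (DihedralGroup.sr 1 : DihedralGroup (2 ^ k)) = DihedralGroup.sr 0 * DihedralGroup.r 1
        by simp, map_mul, hψr, hψs, ← map_mul, ← map_mul]
    simp [QuaternionGroup.xa_mul_a]
  have hiff : ∀ i : ZMod (2 * 2 ^ k),
      (∃ g : G ⧸ N, g * π (ι (QuaternionGroup.a 1 ^ 2 ^ (k - 1))) * g⁻¹ =
          π (ι (QuaternionGroup.xa i))) ↔
        ∃ g : G, g * ι (QuaternionGroup.a 1 ^ 2 ^ (k - 1)) * g⁻¹ = ι (QuaternionGroup.xa i) := by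
    intro i
    constructor
    · rintro ⟨g', hg⟩
      obtain ⟨g, rfl⟩ := QuotientGroup.mk'_surjective N g'
      rw [← map_mul, ← map_inv, ← map_mul] at hg
      obtain ⟨m, hm⟩ := QuotientGroup.eq.1 hg
      have hm' : ι ((QuaternionGroup.a 1 ^ 2 ^ k) ^ m) =
          (g * ι (QuaternionGroup.a 1 ^ 2 ^ (k - 1)) * g⁻¹)⁻¹ * ι (QuaternionGroup.xa i) := by
        rw [map_zpow]; exact hm
      rcases hmemN _ ((congrArg π (map_zpow ι (QuaternionGroup.a 1 ^ 2 ^ k) m)).trans
          (by rw [map_zpow, hz1, one_zpow])) with e | e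
      · rw [e, map_one, eq_comm, inv_mul_eq_one] at hm'
        exact ⟨g, hm'⟩
      · rw [e, eq_inv_mul_iff_mul_eq, ← eq_mul_inv_iff_mul_eq, ← map_inv, ← map_mul] at hm'
        have hc : QuaternionGroup.xa i * (QuaternionGroup.a 1 ^ 2 ^ k)⁻¹ =
            QuaternionGroup.a 1 ^ 2 ^ (k - 1) * QuaternionGroup.xa i *
              (QuaternionGroup.a 1 ^ 2 ^ (k - 1))⁻¹ := by
          rw [eq_mul_inv_iff_mul_eq, QuaternionGroup.a_one_pow, QuaternionGroup.a_one_pow,
            show (QuaternionGroup.a ((2 ^ k : ℕ) : ZMod (2 * 2 ^ k)))⁻¹ =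
              QuaternionGroup.a (-((2 ^ k : ℕ) : ZMod (2 * 2 ^ k))) from rfl]
          simp only [QuaternionGroup.xa_mul_a, QuaternionGroup.a_mul_xa]
          congr 1
          have h2 : ((2 ^ (k - 1) : ℕ) : ZMod (2 * 2 ^ k)) + (2 ^ (k - 1) : ℕ) = (2 ^ k : ℕ) := by
            have h3 : 2 ^ (k - 1) + 2 ^ (k - 1) = 2 ^ k := by
              rw [← two_mul, ← pow_succ', Nat.sub_add_cancel (by omega : 1 ≤ k)]
            rw [← Nat.cast_add, h3]
          linear_combination h2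
        rw [hc, map_mul, map_mul, map_inv] at hm'
        refine ⟨(ι (QuaternionGroup.a 1 ^ 2 ^ (k - 1)))⁻¹ * g, ?_⟩
        calc _ = (ι (QuaternionGroup.a 1 ^ 2 ^ (k - 1)))⁻¹ *
              (g * ι (QuaternionGroup.a 1 ^ 2 ^ (k - 1)) * g⁻¹) *
              ι (QuaternionGroup.a 1 ^ 2 ^ (k - 1)) := by group
          _ = _ := by rw [hm']; group
    · rintro ⟨g, hg⟩
      exact ⟨π g, by rw [← map_mul, ← map_inv, ← map_mul, hg]⟩
  refine ⟨G ⧸ N, inferInstance, inferInstance, ψ, hψ, ?_, ?_, ?_⟩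
  · -- index
    have h1 : N.index * Nat.card N = Nat.card G := N.index_mul_card
    have hcN : Nat.card N = 2 := by
      rw [hN, Nat.card_zpowers, orderOf_injective ι hι]
      refine orderOf_eq_prime ?_ fun e => ?_
      · rw [← pow_mul]
        refine (congrArg (fun m : ℕ => (QuaternionGroup.a 1 : QuaternionGroup (2 ^ k)) ^ m)
          (mul_comm (2 ^ k) 2)).trans hu2
      have := Nat.le_of_dvd (pow_pos two_pos k) (QuaternionGroup.orderOf_a_one (n := 2 ^ k) ▸
        orderOf_dvd_of_pow_eq_one e)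
      have : 0 < 2 ^ k := Nat.two_pow_pos k
      omega
    have h2 := ι.range.card_mul_index
    rw [← Nat.card_congr (MonoidHom.ofInjective hι).toEquiv, hq] at h2
    refine odd_index_range ψ hψ (m := k + 1) (r := ι.range.index)
      (by rw [DihedralGroup.nat_card, pow_succ']) hidx ?_
    rw [← Subgroup.index_eq_card]
    rw [hcN] at h1
    rw [show (2 : ℕ) ^ (k + 2) = 2 ^ (k + 1) * 2 from pow_succ 2 (k + 1)] at h2
    linarith
  · rw [hψu, hψs, hiff]; exact c0
  · rw [hψu, hψ1, hiff]; exact c1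

end Quat

end Cfsg.Agent.Invol.TwoModel
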