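import Mathlib
import Cfsg.Agent.Lib.Invol.RealizeFrame
import Cfsg.Agent.Lib.Invol.RealizeModelQuat

/-!
Saturated fusion systems over 2-groups with a cyclic subgroup of index two: at most two classes of
essential subgroups, and realizability from models.
-/

set_option autoImplicit false
set_option linter.unusedSectionVars false
set_option linter.style.haveILetI false

open scoped Classical

universe u

namespace Cfsg.Agent.Invol.TwoFrame

open Subgroup Cfsg.Agent.Fus Cfsg.Agent.Fus.NonSuper Cfsg.Agent.Invol.TwoModel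

/-- A 2-group with a cyclic subgroup `⟨c⟩` of index two and two classes of outer elements. -/
structure IT {T : Type*} [Group T] (c : T) (u v : Fin 2 → T) (j : Fin 2 → ℕ) : Prop where
  ord : ∃ N, orderOf c = 2 ^ N
  cov : ∀ g, g ∉ zpowers c → ∀ h, h ∉ zpowers c → g⁻¹ * h ∈ zpowers c
  jmem : ∀ i, j i = 1 ∨ j i = 2
  u_mem : ∀ i, u i ∈ zpowers c
  ou : ∀ i, orderOf (u i) = 2 ^ j i
  ov : ∀ i, orderOf (v i) = 2 ^ j i
  v_not : ∀ i, v i ∉ zpowers c
  vu : ∀ i, v i * u i * (v i)⁻¹ = (u i)⁻¹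
  vv : ∀ i, j i = 2 → v i * v i = u i * u i
  conjv : ∀ g, g ∉ zpowers c → ∃ i, ∃ s : T, s * v i * s⁻¹ = g
  notconj : ∀ i k, i ≠ k → ∀ s : T, s * v i * s⁻¹ ≠ v k
  closed : ∀ i (t : ℤ), ∃ s : T, s * v i * s⁻¹ = v i * u i ^ t
  aut : IsPGroup 2 (MulAut T)

section Small

theorem card_mulAut_klein_le : Nat.card (MulAut (DihedralGroup 2)) ≤ 6 := by
  let f : MulAut (DihedralGroup 2) → {p : DihedralGroup 2 × DihedralGroup 2 // p.1 ≠ 1 ∧ p.2 ≠ 1 ∧ p.1 ≠ p.2} :=
    fun α => ⟨(α (DihedralGroup.r 1), α (DihedralGroup.sr 0)),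
      fun e => absurd (α.injective (e.trans α.map_one.symm)) (by decide),
      fun e => absurd (α.injective (e.trans α.map_one.symm)) (by decide),
      fun e => absurd (α.injective e) (by decide)⟩
  have hf : Function.Injective f := by
    intro α β e
    have e1 : α (DihedralGroup.r 1) = β (DihedralGroup.r 1) := congrArg (fun p => p.1.1) e
    have e2 : α (DihedralGroup.sr 0) = β (DihedralGroup.sr 0) := congrArg (fun p => p.1.2) e
    refine MulEquiv.ext fun d => ?_
    have hd : ∀ d : DihedralGroup 2, d = 1 ∨ d = DihedralGroup.r 1 ∨ d = DihedralGroup.sr 0 ∨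
        d = DihedralGroup.r 1 * DihedralGroup.sr 0 := by decide
    rcases hd d with rfl | rfl | rfl | rfl
    · rw [map_one, map_one]
    · exact e1
    · exact e2
    · rw [map_mul, map_mul, e1, e2]
  refine le_trans (Nat.card_le_card_of_injective f hf) (le_of_eq ?_)
  rw [Nat.card_eq_fintype_card]
  decide

theorem card_mulAut_q8_le : Nat.card (MulAut (QuaternionGroup 2)) ≤ 24 := by
  let z : QuaternionGroup 2 := QuaternionGroup.a 2
  let f : MulAut (QuaternionGroup 2) →
      {p : QuaternionGroup 2 × QuaternionGroup 2 //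
        p.1 * p.1 ≠ 1 ∧ p.2 * p.2 ≠ 1 ∧ p.2 ≠ p.1 ∧ p.2 ≠ p.1⁻¹} :=
    fun α => ⟨(α (QuaternionGroup.a 1), α (QuaternionGroup.xa 0)),
      fun e => absurd (α.injective ((map_mul α _ _).trans (e.trans α.map_one.symm))) (by decide),
      fun e => absurd (α.injective ((map_mul α _ _).trans (e.trans α.map_one.symm))) (by decide),
      fun e => absurd (α.injective e) (by decide),
      fun e => absurd (α.injective (e.trans (map_inv α _).symm)) (by decide)⟩
  have hf : Function.Injective f := by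
    intro α β e
    have e1 : α (QuaternionGroup.a 1) = β (QuaternionGroup.a 1) := congrArg (fun p => p.1.1) e
    have e2 : α (QuaternionGroup.xa 0) = β (QuaternionGroup.xa 0) := congrArg (fun p => p.1.2) e
    refine MulEquiv.ext fun d => ?_
    have hd : ∀ d : QuaternionGroup 2, ∃ i : Fin 4, d = QuaternionGroup.a 1 ^ (i : ℕ) ∨
        d = QuaternionGroup.a 1 ^ (i : ℕ) * QuaternionGroup.xa 0 := by decide
    obtain ⟨i, rfl | rfl⟩ := hd d
    · rw [map_pow, map_pow, e1]
    · rw [map_mul, map_mul, map_pow, map_pow, e1, e2]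
  refine le_trans (Nat.card_le_card_of_injective f hf) (le_of_eq ?_)
  rw [Nat.card_eq_fintype_card]
  decide

theorem four_le_inn_q8 : 4 ≤ Nat.card (Inn (QuaternionGroup 2)) := by
  let f : Fin 4 → Inn (QuaternionGroup 2) := fun i => ⟨MulAut.conj
    (![1, QuaternionGroup.a 1, QuaternionGroup.xa 0, QuaternionGroup.xa 1] i), _, rfl⟩
  have hf : Function.Injective f := by
    intro a b e
    have h1 := congrArg (fun α : Inn (QuaternionGroup 2) =>
      (α : MulAut (QuaternionGroup 2)) (QuaternionGroup.a 1)) e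
    have h2 := congrArg (fun α : Inn (QuaternionGroup 2) =>
      (α : MulAut (QuaternionGroup 2)) (QuaternionGroup.xa 0)) e
    simp only [f, MulAut.conj_apply] at h1 h2
    revert h1 h2
    revert a b
    decide
  have := Nat.card_le_card_of_injective f hf
  simpa using this

theorem exists_move_klein : ∃ α : MulAut (DihedralGroup 2),
    α (DihedralGroup.r 1) = DihedralGroup.sr 0 := by
  let f : DihedralGroup 2 → DihedralGroup 2 := fun d => match d with
    | .r i => ![.r 0, .sr 0] i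
    | .sr i => ![.r 1, .sr 1] i
  have h : ∀ d, f (f d) = d := by decide
  exact ⟨{ toFun := f, invFun := f, left_inv := h, right_inv := h,
           map_mul' := by decide }, rfl⟩

theorem exists_move_q8 : ∃ α : MulAut (QuaternionGroup 2),
    α (QuaternionGroup.a 1) = QuaternionGroup.xa 0 :=
  ⟨{ toFun := q8Perm, invFun := fun z => q8Perm (q8Perm z), left_inv := q8Perm_three,
     right_inv := q8Perm_three, map_mul' := q8Perm_mul }, rfl⟩

theorem card_inn_congr {A B : Type*} [Group A] [Group B] (e : A ≃* B) :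
    Nat.card (Inn A) = Nat.card (Inn B) := by
  have h : (Inn A).map (MulAut.congr e).toMonoidHom = Inn B := by
    apply le_antisymm
    · rintro _ ⟨_, ⟨g, rfl⟩, rfl⟩
      exact ⟨e g, MulEquiv.ext fun x => by simp [MulAut.congr]⟩
    · rintro _ ⟨g, rfl⟩
      exact ⟨_, ⟨e.symm g, rfl⟩, MulEquiv.ext fun x => by simp [MulAut.congr]⟩
  rw [← h, Subgroup.card_map_of_injective (MulAut.congr e).injective]

theorem zpowers_eq_of_card {T : Type*} [Group T] [Finite T] {c a b : T} (ha : a ∈ zpowers c)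
    (hb : b ∈ zpowers c) (h : orderOf a = orderOf b) : zpowers a = zpowers b := by
  obtain ⟨i, rfl⟩ := ha
  obtain ⟨k, rfl⟩ := hb
  let C := zpowers c
  have key : ∀ L L' : Subgroup C, Nat.card L = Nat.card L' → L = L' := by
    intro H H' hh
    haveI := Fintype.ofFinite C
    have key : ∀ L : Subgroup C, Nat.card L = Nat.card H →
        (L : Set C).toFinset = Finset.univ.filter fun a => a ^ Nat.card H = 1 := by
      intro L hL
      refine Finset.eq_of_subset_of_card_le (fun a ha => ?_) ?_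
      · rw [Set.mem_toFinset] at ha
        rw [Finset.mem_filter]
        exact ⟨Finset.mem_univ _, hL ▸ congrArg Subtype.val (pow_card_eq_one' (x := (⟨a, ha⟩ : L)))⟩
      · rw [Set.toFinset_card, ← Nat.card_eq_fintype_card]
        exact (IsCyclic.card_pow_eq_one_le Nat.card_pos).trans (le_of_eq hL.symm)
    exact SetLike.coe_injective (Set.toFinset_inj.1 ((key H rfl).trans (key H' hh.symm).symm))
  have e := key (zpowers ⟨c ^ i, i, rfl⟩) (zpowers ⟨c ^ k, k, rfl⟩) (by
    rw [Nat.card_zpowers, Nat.card_zpowers, ← Subgroup.orderOf_coe,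
      ← Subgroup.orderOf_coe (⟨c ^ k, k, rfl⟩ : C)]
    exact h)
  have e' := congrArg (Subgroup.map C.subtype) e
  rw [MonoidHom.map_zpowers, MonoidHom.map_zpowers] at e'
  exact e'

end Small

namespace IT

variable {T : Type*} [Group T] [Finite T] {c : T} {u v : Fin 2 → T} {j : Fin 2 → ℕ}

/-- The candidate subgroup. -/
abbrev cand (u v : Fin 2 → T) (i : Fin 2) : Subgroup T := zpowers (u i) ⊔ zpowers (v i)

theorem normalC (h : IT c u v j) : (zpowers c).Normal := by
  refine Subgroup.normal_of_index_eq_two (Subgroup.index_eq_two_iff.2 ⟨v 0, fun b => ?_⟩)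
  by_cases hb : b ∈ zpowers c
  · exact Or.inr ⟨hb, fun hm => h.v_not 0 (by
      have := mul_mem (inv_mem hb) hm
      rwa [inv_mul_cancel_left] at this)⟩
  · refine Or.inl ⟨?_, hb⟩
    have := h.cov b⁻¹ (fun hm => hb (by simpa using inv_mem hm)) (v 0) (h.v_not 0)
    rwa [inv_inv] at this

theorem not_klein (h : IT c u v j) (i : Fin 2) : v i ∉ zpowers (u i) :=
  fun hm => h.v_not i (zpowers_le.2 (h.u_mem i) hm)

theorem exists_iso (h : IT c u v j) (i : Fin 2) :
    (∃ φ : DihedralGroup 2 →* T, Function.Injective φ ∧ φ.range = cand u v i ∧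
        φ (DihedralGroup.r 1) = u i ∧ φ (DihedralGroup.sr 0) = v i) ∨
      (∃ φ : QuaternionGroup 2 →* T, Function.Injective φ ∧ φ.range = cand u v i ∧
        φ (QuaternionGroup.a 1) = u i ∧ φ (QuaternionGroup.xa 0) = v i) := by
  rcases h.jmem i with hj | hj
  · have hu : u i * u i = 1 := by
      rw [← pow_two, show (2 : ℕ) = 2 ^ j i by rw [hj, pow_one], ← h.ou i, pow_orderOf_eq_one]
    have hv : v i * v i = 1 := by
      rw [← pow_two, show (2 : ℕ) = 2 ^ j i by rw [hj, pow_one], ← h.ov i, pow_orderOf_eq_one]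
    have hd : ∀ d : DihedralGroup 2, ∃ k : Fin 2, d = DihedralGroup.r 1 ^ (k : ℕ) ∨
        d = DihedralGroup.r 1 ^ (k : ℕ) * DihedralGroup.sr 0 := by decide
    obtain ⟨φ, hφ, h1, h2⟩ := exists_hom_index_two (S := DihedralGroup 2) (a := -1) (m := 0)
      (x := DihedralGroup.r 1) (y := DihedralGroup.sr 0) (X := u i) (Y := v i)
      (by rw [DihedralGroup.orderOf_r_one, h.ou i, hj, pow_one])
      (by decide) (by rw [zpow_neg_one]; exact h.vu i) (by decide) (by rw [zpow_zero]; exact hv)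
      (by
        intro hm
        obtain ⟨l, hl⟩ := (isOfFinOrder_of_finite _).mem_powers_iff_mem_zpowers.2 hm
        have hl' : (DihedralGroup.r 1 : DihedralGroup 2) ^ l = DihedralGroup.sr 0 := hl
        rw [DihedralGroup.r_one_pow] at hl'
        exact absurd hl' (by simp))
      (h.not_klein i)
      (fun d => by
        obtain ⟨k, hk | hk⟩ := hd d
        · exact ⟨(k : ℕ), Or.inl (by rw [hk, zpow_natCast])⟩
        · exact ⟨(k : ℕ), Or.inr (by rw [hk, zpow_natCast])⟩)
    refine Or.inl ⟨φ, hφ, le_antisymm ?_ (sup_le (zpowers_le.2 ⟨_, h1⟩) (zpowers_le.2 ⟨_, h2⟩)),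
      h1, h2⟩
    rintro _ ⟨d, rfl⟩
    obtain ⟨k, rfl | rfl⟩ := hd d
    · rw [map_pow, h1]; exact mem_sup_left (pow_mem (mem_zpowers _) _)
    · rw [map_mul, map_pow, h1, h2]
      exact mul_mem (mem_sup_left (pow_mem (mem_zpowers _) _)) (mem_sup_right (mem_zpowers _))
  · obtain ⟨φ, hφ, h1, h2⟩ := quatHom (n := 2) (le_refl 2) (X := u i) (W := v i)
      (by rw [h.ou i, hj]; rfl) (h.vu i) (by rw [h.vv i hj, pow_two])
    have hd : ∀ d : QuaternionGroup 2, ∃ k : Fin 4, d = QuaternionGroup.a 1 ^ (k : ℕ) ∨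
        d = QuaternionGroup.a 1 ^ (k : ℕ) * QuaternionGroup.xa 0 := by decide
    refine Or.inr ⟨φ, hφ, le_antisymm ?_ (sup_le (zpowers_le.2 ⟨_, h1⟩) (zpowers_le.2 ⟨_, h2⟩)),
      h1, h2⟩
    rintro _ ⟨d, rfl⟩
    obtain ⟨k, rfl | rfl⟩ := hd d
    · rw [map_pow, h1]; exact mem_sup_left (pow_mem (mem_zpowers _) _)
    · rw [map_mul, map_pow, h1, h2]
      exact mul_mem (mem_sup_left (pow_mem (mem_zpowers _) _)) (mem_sup_right (mem_zpowers _))

theorem small (h : IT c u v j) (i : Fin 2) :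
    Nat.card (MulAut (cand u v i)) ≤ 6 * Nat.card (Inn (cand u v i)) ∧
      ∃ α : MulAut (cand u v i), ∀ hu : u i ∈ cand u v i, (α ⟨u i, hu⟩ : T) = v i := by
  rcases h.exists_iso i with ⟨φ, hφ, hr, h1, h2⟩ | ⟨φ, hφ, hr, h1, h2⟩
  · let e : DihedralGroup 2 ≃* cand u v i :=
      (MonoidHom.ofInjective hφ).trans (MulEquiv.subgroupCongr hr)
    have he : ∀ d, (e d : T) = φ d := fun d => rfl
    refine ⟨?_, ?_⟩
    · rw [← Nat.card_congr (MulAut.congr e).toEquiv, ← card_inn_congr e]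
      calc Nat.card (MulAut (DihedralGroup 2)) ≤ 6 := card_mulAut_klein_le
        _ ≤ _ := Nat.le_mul_of_pos_right 6 Nat.card_pos
    · obtain ⟨α, hα⟩ := exists_move_klein
      refine ⟨MulAut.congr e α, fun hu => ?_⟩
      rw [show (⟨u i, hu⟩ : cand u v i) = e (DihedralGroup.r 1) from Subtype.ext h1.symm]
      show (e (α (e.symm (e (DihedralGroup.r 1)))) : T) = v i
      rw [e.symm_apply_apply, hα, he, h2]
  · let e : QuaternionGroup 2 ≃* cand u v i :=
      (MonoidHom.ofInjective hφ).trans (MulEquiv.subgroupCongr hr)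
    have he : ∀ d, (e d : T) = φ d := fun d => rfl
    refine ⟨?_, ?_⟩
    · rw [← Nat.card_congr (MulAut.congr e).toEquiv, ← card_inn_congr e]
      calc Nat.card (MulAut (QuaternionGroup 2)) ≤ 6 * 4 := card_mulAut_q8_le
        _ ≤ _ := Nat.mul_le_mul_left 6 four_le_inn_q8
    · obtain ⟨α, hα⟩ := exists_move_q8
      refine ⟨MulAut.congr e α, fun hu => ?_⟩
      rw [show (⟨u i, hu⟩ : cand u v i) = e (QuaternionGroup.a 1) from Subtype.ext h1.symm]
      show (e (α (e.symm (e (QuaternionGroup.a 1)))) : T) = v i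
      rw [e.symm_apply_apply, hα, he, h2]

theorem form (h : IT c u v j) {i : Fin 2} {x : T} (hx : x ∈ cand u v i) :
    ∃ t : ℤ, x = u i ^ t ∨ x = v i * u i ^ t := by
  rcases h.exists_iso i with ⟨φ, -, hr, h1, h2⟩ | ⟨φ, -, hr, h1, h2⟩ <;> rw [← hr] at hx <;>
    obtain ⟨d, rfl⟩ := hx
  · have hd : ∀ d : DihedralGroup 2, ∃ k : Fin 2, d = DihedralGroup.r 1 ^ (k : ℕ) ∨
        d = DihedralGroup.sr 0 * DihedralGroup.r 1 ^ (k : ℕ) := by decide
    obtain ⟨k, rfl | rfl⟩ := hd d
    · exact ⟨(k : ℕ), Or.inl (by rw [map_pow, h1, zpow_natCast])⟩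
    · exact ⟨(k : ℕ), Or.inr (by rw [map_mul, map_pow, h1, h2, zpow_natCast])⟩
  · have hd : ∀ d : QuaternionGroup 2, ∃ k : Fin 4, d = QuaternionGroup.a 1 ^ (k : ℕ) ∨
        d = QuaternionGroup.xa 0 * QuaternionGroup.a 1 ^ (k : ℕ) := by decide
    obtain ⟨k, rfl | rfl⟩ := hd d
    · exact ⟨(k : ℕ), Or.inl (by rw [map_pow, h1, zpow_natCast])⟩
    · exact ⟨(k : ℕ), Or.inr (by rw [map_mul, map_pow, h1, h2, zpow_natCast])⟩

/-- Elements of the other candidate avoid a class. -/
theorem disjoint (h : IT c u v j) {i k : Fin 2} (hki : k ≠ i) {x : T} (hx : x ∈ cand u v k) :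
    ¬ ∃ s : T, s * v i * s⁻¹ = x := by
  rintro ⟨s, hs⟩
  obtain ⟨t, rfl | rfl⟩ := h.form hx
  · refine h.v_not i ?_
    have := h.normalC.conj_mem _ (zpow_mem (h.u_mem k) t) s⁻¹
    rw [← hs] at this
    simpa [mul_assoc] using this
  · obtain ⟨r, hr⟩ := h.closed k t
    rw [← hr] at hs
    refine h.notconj i k (Ne.symm hki) (r⁻¹ * s) ?_
    calc r⁻¹ * s * v i * (r⁻¹ * s)⁻¹ = r⁻¹ * (s * v i * s⁻¹) * r := by group
      _ = v k := by rw [hs]; group

/-- A subgroup with an automorphism of odd order is conjugate to a candidate. -/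
theorem cand_of (h : IT c u v j) (K : Subgroup T) (hK : ¬ IsPGroup 2 (MulAut K)) :
    ∃ i, ∃ s : T, K = (cand u v i).map (MulAut.conj s).toMonoidHom := by
  obtain ⟨N, hN⟩ := h.ord
  let D : Subgroup T := K ⊓ zpowers c
  haveI : IsCyclic D := isCyclic_of_injective (Subgroup.inclusion (inf_le_right : D ≤ zpowers c))
    (Subgroup.inclusion_injective _)
  obtain ⟨d, hd⟩ := IsCyclic.exists_generator (α := D)
  have hdK : (d : T) ∈ K := d.2.1
  have hDd : ∀ x, x ∈ D → x ∈ zpowers (d : T) := fun x hx => by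
    obtain ⟨m, hm⟩ := hd ⟨x, hx⟩
    exact ⟨m, by rw [show x = ((d ^ m : D) : T) from (congrArg Subtype.val hm).symm,
      SubgroupClass.coe_zpow]⟩
  have hdvd : orderOf (d : T) ∣ 2 ^ N := by
    rw [← hN, ← Nat.card_zpowers, ← Nat.card_zpowers]
    exact Subgroup.card_dvd_of_le (zpowers_le.2 d.2.2)
  obtain ⟨a, -, ha⟩ := (Nat.dvd_prime_pow Nat.prime_two).1 hdvd
  by_cases hKC : K ≤ zpowers c
  · exfalso
    haveI : IsCyclic K := isCyclic_of_injective (Subgroup.inclusion hKC)
      (Subgroup.inclusion_injective _)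
    obtain ⟨b, -, hb⟩ := (Nat.dvd_prime_pow Nat.prime_two).1
      (show Nat.card K ∣ 2 ^ N by rw [← hN, ← Nat.card_zpowers]; exact Subgroup.card_dvd_of_le hKC)
    refine hK (IsPGroup.of_card (n := b - 1) ?_)
    rw [IsCyclic.card_mulAut, hb]
    rcases Nat.eq_zero_or_pos b with rfl | hb0
    · simp
    · rw [Nat.totient_prime_pow Nat.prime_two hb0]; ring
  obtain ⟨y, hyK, hyC⟩ := SetLike.not_le_iff_exists.1 hKC
  have hdK' : zpowers (d : T) ≤ K := zpowers_le.2 hdK
  obtain ⟨g, hgK, hgC, hgo⟩ : ∃ g ∈ K, g ∉ zpowers c ∧ orderOf g = 2 ^ a := by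
    by_contra hno
    push Not at hno
    refine hK (isPGroup_mulAut_of_cyclic_index_two (c := (⟨d, hdK⟩ : K)) (x := ⟨y, hyK⟩) (k := a)
      (by rw [← Subgroup.orderOf_coe]; exact ha) (fun g hg => ?_) ?_ fun g => ?_)
    · rw [← Subgroup.orderOf_coe] at hg
      have hgC : (g : T) ∈ zpowers c := by
        by_contra hgC
        exact hno g g.2 hgC hg
      obtain ⟨m, hm⟩ := hDd (g : T) (Subgroup.mem_inf.2 ⟨g.2, hgC⟩)
      exact ⟨m, Subtype.ext (by rw [SubgroupClass.coe_zpow]; exact hm)⟩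
    · rintro ⟨m, hm⟩
      exact hyC (by
        have := congrArg Subtype.val hm
        rw [SubgroupClass.coe_zpow] at this
        rw [← show (d : T) ^ m = y from this]
        exact zpow_mem (Subgroup.mem_inf.1 d.2).2 m)
    · by_cases hgC : (g : T) ∈ zpowers c
      · obtain ⟨m, hm⟩ := hDd (g : T) (Subgroup.mem_inf.2 ⟨g.2, hgC⟩)
        exact Or.inl ⟨m, Subtype.ext (by rw [SubgroupClass.coe_zpow]; exact hm)⟩
      · obtain ⟨m, hm⟩ := hDd (y⁻¹ * (g : T)) (Subgroup.mem_inf.2 ⟨mul_mem (inv_mem hyK) g.2, h.cov y hyC g hgC⟩)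
        exact Or.inr ⟨m, Subtype.ext (by rw [SubgroupClass.coe_zpow]; exact hm)⟩
  obtain ⟨i, s, hs⟩ := h.conjv g hgC
  refine ⟨i, s, ?_⟩
  have hu : zpowers (s * u i * s⁻¹) = zpowers (d : T) := by
    refine zpowers_eq_of_card (c := c) (h.normalC.conj_mem _ (h.u_mem i) s) d.2.2 ?_
    rw [show s * u i * s⁻¹ = MulAut.conj s (u i) from rfl, MulEquiv.orderOf_eq, h.ou i, ha]
    rw [← hgo, ← hs, show s * v i * s⁻¹ = MulAut.conj s (v i) from rfl, MulEquiv.orderOf_eq, h.ov i]
  rw [show cand u v i = zpowers (u i) ⊔ zpowers (v i) from rfl, Subgroup.map_sup,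
    MonoidHom.map_zpowers, MonoidHom.map_zpowers]
  show K = zpowers (s * u i * s⁻¹) ⊔ zpowers (s * v i * s⁻¹)
  rw [hu, hs]
  refine le_antisymm (fun x hx => ?_) (sup_le hdK' (zpowers_le.2 hgK))
  by_cases hxC : x ∈ zpowers c
  · exact mem_sup_left (hDd x (Subgroup.mem_inf.2 ⟨hx, hxC⟩))
  · have := mul_mem (mem_sup_right (mem_zpowers g) : g ∈ zpowers (d : T) ⊔ zpowers g)
      (mem_sup_left (hDd (g⁻¹ * x) (Subgroup.mem_inf.2 ⟨mul_mem (inv_mem hgK) hx, h.cov g hgC x hxC⟩)))
    rwa [mul_inv_cancel_left] at this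

end IT

section Main

variable {Ω : Type u} [Group Ω] {S : Subgroup Ω} [Finite S]

/-- The frame transported to the ambient group. -/
def frameOf (u v : Fin 2 → S) : Frame S where
  P i := (IT.cand u v i).map S.subtype
  T _ := ⊤
  X i := {x | ∃ s : S, ((s * v i * s⁻¹ : S) : Ω) = x}
  u i := u i
  v i := v i

theorem geo_frameOf {c : S} {u v : Fin 2 → S} {j : Fin 2 → ℕ} (h : IT c u v j) :
    Geo (frameOf u v) where
  le i := Subgroup.map_subtype_le _
  u_not i := by
    rintro ⟨s, hs⟩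
    refine h.v_not i ?_
    have := h.normalC.conj_mem _ (h.u_mem i) s⁻¹
    rw [show (u i : S) = s * v i * s⁻¹ from (Subtype.ext hs).symm] at this
    simpa [mul_assoc] using this
  v_mem i := ⟨1, by simp [frameOf]⟩
  inv i g hg x hx := by
    constructor
    · rintro ⟨s, rfl⟩
      exact ⟨⟨g, hg⟩ * s, by simp [mul_assoc]⟩
    · rintro ⟨s, hs⟩
      refine ⟨⟨g, hg⟩⁻¹ * s, ?_⟩
      have : x = g⁻¹ * (g * x * g⁻¹) * g := by group
      rw [this, ← hs]
      simp [mul_assoc]
  other i k hki α _ x hx := by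
    have key : ∀ y ∈ (frameOf u v).P k, y ∉ (frameOf u v).X i := by
      rintro _ ⟨y, hy, rfl⟩ ⟨s, hs⟩
      exact h.disjoint hki hy ⟨s, Subtype.ext hs⟩
    exact iff_of_false (key _ hx) (key _ (autFun_mem α hx))
  move i := by
    refine ⟨⟨u i, mem_sup_left (mem_zpowers _), rfl⟩, ?_⟩
    obtain ⟨α, hα⟩ := (h.small i).2
    let e := (IT.cand u v i).equivMapOfInjective S.subtype S.subtype_injective
    refine ⟨MulAut.congr e α, Subgroup.mem_top _, ?_⟩
    show autFun (MulAut.congr e α) ((e ⟨u i, mem_sup_left (mem_zpowers _)⟩ :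
      (IT.cand u v i).map S.subtype) : Ω) = _
    rw [autFun_coe]
    show ((e (α (e.symm (e _))) : (IT.cand u v i).map S.subtype) : Ω) = _
    rw [e.symm_apply_apply]
    exact congrArg Subtype.val (hα _)

variable [Fact (Nat.Prime 2)]

theorem cand_frameOf (hS : IsPGroup 2 S) {c : S} {u v : Fin 2 → S} {j : Fin 2 → ℕ}
    (h : IT c u v j) {F : FusionSystem S} {Q : Subgroup Ω} (hQ : F.IsEssential 2 Q) :
    ∃ i, SConj S ((frameOf u v).P i) Q := by
  have hQS := hQ.1.1
  let K := Q.subgroupOf S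
  have hK : ¬ IsPGroup 2 (MulAut K) := fun hp =>
    not_isPGroup_aut hS hQ ((hp.of_equiv (MulAut.congr (Subgroup.subgroupOfEquivOfLe hQS))).to_subgroup _)
  obtain ⟨i, s, hs⟩ := h.cand_of K hK
  refine ⟨i, s, s.2, ?_⟩
  have hQK : Q = K.map S.subtype := by rw [Subgroup.subgroupOf_map_subtype, inf_eq_left.2 hQS]
  rw [hQK, hs, frameOf, Subgroup.map_map, Subgroup.map_map]
  rfl

theorem fits_frameOf (hS : IsPGroup 2 S) {c : S} {u v : Fin 2 → S} {j : Fin 2 → ℕ}
    (h : IT c u v j) {F : FusionSystem S} (hF : F.IsSaturated 2) : Fits F (frameOf u v) where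
  cand _ hQ := cand_frameOf hS h hQ
  top := top_of_aut_pgroup hS hF h.aut
  aut i hi := by
    obtain ⟨Q, hQ, g, hg, rfl⟩ := hi
    set P := (frameOf u v).P i with hP
    have hPS : P ≤ S := Subgroup.map_subtype_le _
    refine autGroup_top_of_conj hS hPS hg ?_
    have hlt := ne_self hS (top_of_aut_pgroup hS hF h.aut) hQ
    let e1 := (IT.cand u v i).equivMapOfInjective S.subtype S.subtype_injective
    let e2 := P.equivMapOfInjective (MulAut.conj g).toMonoidHom (MulAut.conj g).injective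
    let e := e1.trans e2
    haveI : Finite (IT.cand u v i) := inferInstance
    haveI : Finite (MulAut (IT.cand u v i)) := inferInstance
    haveI := Finite.of_equiv _ (MulAut.congr e).toEquiv
    refine autGroup_eq_top hS hQ.1.1 (not_autInducedBy_le_inn hS hlt hQ.1)
      (not_isPGroup_aut hS hQ) ?_
    rw [← Nat.card_congr (MulAut.congr e).toEquiv, ← card_inn_congr e]
    exact (h.small i).1

/-- The two clauses, from models. -/
theorem main_of_IT (hS : IsPGroup 2 S) {c : S} {u v : Fin 2 → S} {j : Fin 2 → ℕ}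
    (h : IT c u v j) (hmodel : ∀ b₀ b₁ : Prop, HasModel (u 0) (v 0) (u 1) (v 1) b₀ b₁)
    (F : FusionSystem S) (hF : F.IsSaturated 2) :
    (∀ E₁ E₂ E₃ : Subgroup Ω, F.IsEssential 2 E₁ → F.IsEssential 2 E₂ → F.IsEssential 2 E₃ →
      (∃ φ ∈ F.Hom E₁, φ.range = E₂) ∨ (∃ φ ∈ F.Hom E₁, φ.range = E₃) ∨
        (∃ φ ∈ F.Hom E₂, φ.range = E₃)) ∧ F.IsRealizable 2 := by
  refine ⟨three_essentials _ (geo_frameOf h).le fun Q hQ => cand_frameOf hS h hQ, ?_⟩
  obtain ⟨G, i1, i2, ι, hι, hidx, h0, h1⟩ :=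
    hmodel (Fus' F (u 0 : Ω) (v 0)) (Fus' F (u 1 : Ω) (v 1))
  obtain ⟨hr, T, hT⟩ := realized_of_model hS (geo_frameOf h) ι hι hidx hF (fits_frameOf hS h hF)
    (fun E hE _ => fits_frameOf hS h hE) fun i => ⟨u i, v i, rfl, rfl, by
      fin_cases i
      · exact h0.symm
      · exact h1.symm⟩
  exact realizable_of hr hT hS

end Main

end Cfsg.Agent.Invol.TwoFrame
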