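import Mathlib
import Cfsg.Agent.Lib.Invol.FusionTheorem
import Cfsg.Agent.Lib.Transfer.Alperin
import Cfsg.Agent.Lib.Grp.Cores

/-!
# Fusion invariants of a Sylow subgroup

A function on a Sylow subgroup is constant on fusion classes as soon as it is preserved by the
normalizers of the fully normalized self-centralizing subgroups.
-/

namespace Cfsg.Agent.Invol

variable {G : Type*} [Group G] [Finite G] {p : ℕ} [Fact p.Prime]

/-- The centralizer of `D` in `S` is a Sylow subgroup of the centralizer when `D` is fully normalized. -/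
theorem isSylowIn_centralizer (S : Sylow p G) {D : Subgroup G}
    (htame : ¬ p ∣ ((S : Subgroup G) ⊓ Subgroup.normalizer (D : Set G)).relIndex
      (Subgroup.normalizer (D : Set G))) :
    Grp.IsSylowIn p ((S : Subgroup G) ⊓ Subgroup.centralizer (D : Set G))
      (Subgroup.centralizer (D : Set G)) := by
  refine ⟨inf_le_right, S.isPGroup'.to_le inf_le_left, ?_⟩
  set N := Subgroup.normalizer (D : Set G) with hN
  set C := Subgroup.centralizer (D : Set G) with hC
  have hCN : C ≤ N := by
    refine fun c hc => Subgroup.mem_normalizer_fintype fun w hw => ?_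
    rwa [← hc w hw, mul_inv_cancel_right]
  have hnorm : (C.subgroupOf N).Normal := by
    refine ⟨fun c hc g => ?_⟩
    rw [Subgroup.mem_subgroupOf] at hc ⊢
    intro d hd
    have h1 : (g : G)⁻¹ * d * g ∈ D := by
      have := (Subgroup.mem_normalizer_iff.mp (inv_mem g.2) d).mp hd
      simpa using this
    have h2 := hc _ h1
    simp only [Subgroup.coe_mul, InvMemClass.coe_inv]
    calc d * ((g : G) * c * (g : G)⁻¹) = g * ((g : G)⁻¹ * d * g * c) * (g : G)⁻¹ := by group
      _ = g * (c * ((g : G)⁻¹ * d * g)) * (g : G)⁻¹ := by rw [h2]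
      _ = g * c * (g : G)⁻¹ * d := by group
  have hle : (S : Subgroup G) ⊓ N ≤ N := inf_le_right
  have hp : IsPGroup p (((S : Subgroup G) ⊓ N).subgroupOf N) :=
    (S.isPGroup'.to_le inf_le_left).comap_subtype
  have h := Grp.sylow_inf_normal_relIndex (hp.toSylow (by exact htame)) (C.subgroupOf N)
  change ¬ p ∣ ((((S : Subgroup G) ⊓ N).subgroupOf N).relIndex (C.subgroupOf N)) at h
  rw [Subgroup.relIndex_subgroupOf hCN] at h
  rw [Subgroup.inf_relIndex_right]
  intro hd
  apply h
  rwa [← Subgroup.inf_relIndex_right, inf_assoc, inf_eq_right.mpr hCN, Subgroup.inf_relIndex_right]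

/-- Invariance under fusion from invariance in normalizers of self-centralizing subgroups. -/
theorem fusion_induction (S : Sylow p G) {β : Type*} (f : G → β)
    (hf : ∀ D : Subgroup G, D ≤ S → (S : Subgroup G) ⊓ Subgroup.centralizer (D : Set G) ≤ D →
      ¬ p ∣ ((S : Subgroup G) ⊓ Subgroup.normalizer (D : Set G)).relIndex (Subgroup.normalizer (D : Set G)) →
      ∀ g ∈ Subgroup.normalizer (D : Set G), ∀ d ∈ D, f (g * d * g⁻¹) = f d)
    {s g : G} (hs : s ∈ (S : Subgroup G)) (hg : g * s * g⁻¹ ∈ (S : Subgroup G)) :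
    f (g * s * g⁻¹) = f s := by
  suffices H : ∀ k : ℕ, ∀ D : Subgroup G, D ≤ S → Nat.card (S : Subgroup G) ≤ Nat.card D + k →
      ∀ g : G, (∀ d ∈ D, g * d * g⁻¹ ∈ (S : Subgroup G)) → ∀ d ∈ D, f (g * d * g⁻¹) = f d by
    refine H (Nat.card (S : Subgroup G)) (Subgroup.zpowers s) (Subgroup.zpowers_le.mpr hs)
      (Nat.le_add_left _ _) g (fun d hd => ?_) s (Subgroup.mem_zpowers s)
    obtain ⟨m, rfl⟩ := Subgroup.mem_zpowers_iff.mp hd
    rw [← conj_zpow]
    exact zpow_mem hg m
  intro k
  induction k using Nat.strong_induction_on with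
  | _ k ih =>
    intro D hD hk g hg d hd
    -- a single tame step
    have step : ∀ D' : Subgroup G, D' ≤ S → Nat.card D ≤ Nat.card D' →
        ¬ p ∣ ((S : Subgroup G) ⊓ Subgroup.normalizer (D' : Set G)).relIndex (Subgroup.normalizer (D' : Set G)) →
        ∀ x ∈ Subgroup.normalizer (D' : Set G), ∀ a ∈ D', f (x * a * x⁻¹) = f a := by
      intro D' hD' hcard htame x hx a ha
      by_cases hC : (S : Subgroup G) ⊓ Subgroup.centralizer (D' : Set G) ≤ D'
      · exact hf D' hD' hC htame x hx a ha
      set C := Subgroup.centralizer (D' : Set G) with hCdef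
      set C₁ := (S : Subgroup G) ⊓ C with hC₁
      have hcx : ∀ c ∈ C₁, x * c * x⁻¹ ∈ C := by
        rintro c ⟨-, hc⟩ w hw
        have h1 : x⁻¹ * w * x ∈ D' := by
          have := (Subgroup.mem_normalizer_iff.mp (inv_mem hx) w).mp hw
          simpa using this
        calc w * (x * c * x⁻¹) = x * (x⁻¹ * w * x * c) * x⁻¹ := by group
          _ = x * (c * (x⁻¹ * w * x)) * x⁻¹ := by rw [hc _ h1]
          _ = x * c * x⁻¹ * w := by group
      obtain ⟨c, hcC, hc⟩ := exists_conj_into (Q := C₁.map (MulAut.conj x).toMonoidHom)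
        (isSylowIn_centralizer S htame) (by rintro _ ⟨u, hu, rfl⟩; exact hcx u hu)
        ((S.isPGroup'.to_le (inf_le_left : C₁ ≤ S)).map _)
      have hEle : D' ⊔ C₁ ≤ (S : Subgroup G) := sup_le hD' inf_le_left
      have hlt : Nat.card D' < Nat.card ↥(D' ⊔ C₁ : Subgroup G) := by
        refine lt_of_le_of_ne (Subgroup.card_le_of_le le_sup_left) fun he => hC ?_
        have := Subgroup.eq_of_le_of_card_ge (le_sup_left : D' ≤ D' ⊔ C₁) he.ge
        exact this ▸ le_sup_right
      have hEk : Nat.card ↥(D' ⊔ C₁ : Subgroup G) ≤ Nat.card (S : Subgroup G) := Subgroup.card_le_of_le hEle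
      have hcomm : ∀ w ∈ D', c * w * c⁻¹ = w := fun w hw => by rw [← hcC w hw, mul_inv_cancel_right]
      have hmem : ∀ e ∈ D' ⊔ C₁, (c * x) * e * (c * x)⁻¹ ∈ (S : Subgroup G) := by
        intro e he
        have hle : (D' ⊔ C₁).map (MulAut.conj (c * x)).toMonoidHom ≤ (S : Subgroup G) := by
          rw [Subgroup.map_sup, sup_le_iff]
          refine ⟨?_, ?_⟩
          · rintro _ ⟨u, hu, rfl⟩
            have h1 := (Subgroup.mem_normalizer_iff.mp hx u).mp hu
            show c * x * u * (c * x)⁻¹ ∈ (S : Subgroup G)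
            rw [show c * x * u * (c * x)⁻¹ = c * (x * u * x⁻¹) * c⁻¹ by group, hcomm _ h1]
            exact hD' h1
          · rintro _ ⟨u, hu, rfl⟩
            have h1 := hc _ ⟨u, hu, rfl⟩
            simp only [MulEquiv.coe_toMonoidHom, MulAut.conj_apply] at h1 ⊢
            rw [show c * x * u * (c * x)⁻¹ = c * (x * u * x⁻¹) * c⁻¹ by group]
            exact h1.1
        exact hle ⟨e, he, rfl⟩
      have h1 := ih (Nat.card (S : Subgroup G) - Nat.card ↥(D' ⊔ C₁ : Subgroup G)) (by omega) (D' ⊔ C₁) hEle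
        (by omega) (c * x) hmem a (Subgroup.mem_sup_left ha)
      rwa [show c * x * a * (c * x)⁻¹ = c * (x * a * x⁻¹) * c⁻¹ by group,
        hcomm _ ((Subgroup.mem_normalizer_iff.mp hx a).mp ha)] at h1
    -- along a chain
    have chain : ∀ {A : Set G} {u : G}, Transfer.AlperinChain S A u → Nat.card D ≤ A.ncard →
        ∀ a ∈ A, f (u⁻¹ * a * u) = f a := by
      intro A u hch
      induction hch with
      | nil A => intro _ a _; simp
      | @cons A Q x u' hT hA _ ihc =>
        intro hcard a ha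
        have hx := hT.1
        have h1 : f (x⁻¹ * a * x) = f a := by
          have := step ((S : Subgroup G) ⊓ (Q : Subgroup G)) inf_le_left
            (hcard.trans (le_trans (Set.ncard_le_ncard hA (Set.toFinite _))
              (Nat.card_coe_set_eq _).ge))
            hT.2.1 x⁻¹ (inv_mem hx) a (hA ha)
          simpa using this
        have h2 := ihc (by rwa [Set.ncard_image_of_injective _ (fun u v huv => by simpa using huv)])
          (x⁻¹ * a * x) ⟨a, ha, rfl⟩
        rw [show (x * u')⁻¹ * a * (x * u') = u'⁻¹ * (x⁻¹ * a * x) * u' by group, h2, h1]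
    have h := chain (Transfer.alperin S (D : Set G) g⁻¹ hD (by rintro _ ⟨w, hw, rfl⟩; simpa [-SetLike.mem_coe] using (SetLike.mem_coe.mpr (hg w hw) : g * w * g⁻¹ ∈ ((S : Subgroup G) : Set G))))
      (Nat.card_coe_set_eq _).le d hd
    simpa using h

end Cfsg.Agent.Invol
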