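import Mathlib

/-!
# Subgroups permuting three objects
-/

namespace Cfsg.Agent.Invol

variable {G : Type*} [Group G]

/-- Conjugation on an invariant set of elements. -/
def conjPerm (N : Subgroup G) (P : G → Prop) (hP : ∀ g ∈ N, ∀ a, P (g * a * g⁻¹) ↔ P a) :
    ↥N →* Equiv.Perm {a // P a} where
  toFun g := (MulAut.conj (g : G)).toEquiv.subtypeEquiv fun a => (hP g g.2 a).symm
  map_one' := by ext a; simp
  map_mul' g h := by ext a; simp [mul_assoc]

@[simp] theorem conjPerm_apply (N : Subgroup G) (P : G → Prop)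
    (hP : ∀ g ∈ N, ∀ a, P (g * a * g⁻¹) ↔ P a) (g : N) (a : {a // P a}) :
    (conjPerm N P hP g a : G) = g * a * (g : G)⁻¹ := rfl

/-- Conjugation on an invariant set of subgroups. -/
def conjPermSub (N : Subgroup G) (P : Subgroup G → Prop)
    (hP : ∀ g ∈ N, ∀ A : Subgroup G, P (A.map (MulAut.conj g).toMonoidHom) ↔ P A) :
    ↥N →* Equiv.Perm {A // P A} where
  toFun g :=
    { toFun := fun A => ⟨A.1.map (MulAut.conj (g : G)).toMonoidHom, (hP g g.2 A).mpr A.2⟩
      invFun := fun A => ⟨A.1.map (MulAut.conj (g : G)⁻¹).toMonoidHom, (hP _ (inv_mem g.2) A).mpr A.2⟩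
      left_inv := fun A => by
        refine Subtype.ext (SetLike.ext fun a => ?_)
        simp [Subgroup.mem_map, mul_assoc]
      right_inv := fun A => by
        refine Subtype.ext (SetLike.ext fun a => ?_)
        simp [Subgroup.mem_map, mul_assoc] }
  map_one' := by
    ext A a
    simp [Subgroup.mem_map]
  map_mul' g h := by
    ext A a
    simp [Subgroup.mem_map, mul_assoc]

@[simp] theorem conjPermSub_apply (N : Subgroup G) (P : Subgroup G → Prop)
    (hP : ∀ g ∈ N, ∀ A : Subgroup G, P (A.map (MulAut.conj g).toMonoidHom) ↔ P A) (g : N)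
    (A : {A // P A}) :
    (conjPermSub N P hP g A : Subgroup G) = A.1.map (MulAut.conj (g : G)).toMonoidHom := rfl

/-- A subgroup acting on three objects, with an element fixing exactly one of them. -/
theorem index_two_or_six {α : Type*} (hα : Nat.card α = 3) {N C : Subgroup G}
    (φ : ↥N →* Equiv.Perm α) (hker : φ.ker = C.subgroupOf N) (a : α) (σ : N) (hσ : φ σ a = a)
    (hσ1 : φ σ ≠ 1) :
    (C.relIndex N = 2 ∨ C.relIndex N = 6) ∧ (C.relIndex N = 6 ↔ ∃ g, φ g a ≠ a) := by
  have : Finite α := Nat.finite_of_card_ne_zero (by omega)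
  have hidx : C.relIndex N = Nat.card φ.range := by
    rw [Subgroup.relIndex, ← hker, Subgroup.index_ker]
  have h6 : Nat.card φ.range ∣ 6 := by
    have := φ.range.card_subgroup_dvd_card
    rwa [Nat.card_perm, hα] at this
  have hsq : φ σ ^ 2 = 1 := by
    let e : α ≃ Fin 3 := (Finite.equivFin α).trans (finCongr hα)
    have key : ∀ (p : Equiv.Perm (Fin 3)) (b : Fin 3), p b = b → p * p = 1 := by decide
    have h1 := key (e.permCongr (φ σ)) (e a) (by simp [hσ])
    rw [← Equiv.permCongr_mul] at h1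
    rw [pow_two]
    refine e.permCongr.injective (h1.trans ?_)
    ext u; simp
  have h2 : 2 ∣ Nat.card φ.range := by
    rw [← orderOf_eq_prime hsq hσ1, ← Subgroup.orderOf_mk (φ σ) (MonoidHom.mem_range.mpr ⟨σ, rfl⟩ : φ σ ∈ φ.range)]
    exact orderOf_dvd_natCard _
  have hcases : Nat.card φ.range = 2 ∨ Nat.card φ.range = 6 := by
    rcases h6 with ⟨k, hk⟩
    obtain ⟨m, hm⟩ := h2
    rw [hm] at hk ⊢
    have : m ∣ 3 := ⟨k, by linarith⟩
    rcases (Nat.dvd_prime Nat.prime_three).mp this with h | h <;> omega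
  rw [hidx]
  refine ⟨hcases, fun h => ?_, fun ⟨g, hg⟩ => hcases.resolve_left fun h => hg ?_⟩
  · have htop : φ.range = ⊤ := Subgroup.eq_top_of_card_eq _ (by rw [h, Nat.card_perm, hα]; rfl)
    classical
    obtain ⟨b, hb⟩ : ∃ b : α, b ≠ a := by
      by_contra hc
      push Not at hc
      have : Subsingleton α := ⟨fun u v => (hc u).trans (hc v).symm⟩
      have : Nonempty α := ⟨a⟩
      rw [Nat.card_unique] at hα
      omega
    obtain ⟨g, hg⟩ : Equiv.swap a b ∈ φ.range := htop ▸ Subgroup.mem_top _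
    exact ⟨g, by rw [hg, Equiv.swap_apply_left]; exact hb⟩
  · have hle : φ.range ≤ MulAction.stabilizer (Equiv.Perm α) a := by
      have hz : Subgroup.zpowers (φ σ) = φ.range := Subgroup.eq_of_le_of_card_ge
        (Subgroup.zpowers_le.mpr ⟨σ, rfl⟩) (by rw [h, Nat.card_zpowers, orderOf_eq_prime hsq hσ1])
      rw [← hz, Subgroup.zpowers_le]
      exact hσ
    exact hle ⟨g, rfl⟩

end Cfsg.Agent.Invol
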