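import Mathlib

/-!
# Automorphisms of odd prime order of 2-groups
-/

namespace Cfsg.Agent.Invol

variable {P : Type*} [Group P]

/-- A group of automorphisms that is not a 2-group contains one of odd prime order. -/
theorem exists_odd_prime_order {H : Type*} [Group H] [Finite H] (h : ¬ IsPGroup 2 H) :
    ∃ (p : ℕ) (φ : H), Odd p ∧ φ ^ p = 1 ∧ φ ≠ 1 := by
  have hcard : ∀ k, Nat.card H ≠ 2 ^ k := fun k hk => h (IsPGroup.of_card hk)
  obtain ⟨p, hp, hpd, hp2⟩ : ∃ p, p.Prime ∧ p ∣ Nat.card H ∧ p ≠ 2 := by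
    by_contra hc
    push Not at hc
    refine hcard _ (Nat.eq_prime_pow_of_unique_prime_dvd Nat.card_pos.ne' fun {q} hq hd => ?_)
    exact hc q hq hd
  have := Fact.mk hp
  obtain ⟨φ, hφ⟩ := exists_prime_orderOf_dvd_card' p hpd
  refine ⟨p, φ, hp.odd_of_ne_two hp2, hφ ▸ pow_orderOf_eq_one φ, fun h1 => ?_⟩
  rw [h1, orderOf_one] at hφ
  exact hp.one_lt.ne hφ

/-- An element moved by a fixed element of 2-power order is fixed. -/
theorem fixed_of_mul_fixed [Finite P] (hP : IsPGroup 2 P) {φ : MulAut P} {p : ℕ} (hp : Odd p)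
    (hφ : φ ^ p = 1) {a c : P} (hc : φ c = c) (ha : φ a = a * c) : φ a = a := by
  have h1 : ∀ l : ℕ, (φ ^ l) a = a * c ^ l := by
    intro l
    induction l with
    | zero => simp
    | succ l ih => rw [pow_succ', MulAut.mul_apply, ih, map_mul, map_pow, hc, ha, mul_assoc, ← pow_succ']
  have h2 := h1 p
  rw [hφ, MulAut.one_apply] at h2
  have h3 : c ^ p = 1 := by simpa using h2.symm
  obtain ⟨k, hk⟩ := hP c
  have hcop : Nat.Coprime p (2 ^ k) := Nat.Coprime.pow_right _ (Nat.coprime_two_right.mpr hp)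
  have hc1 : c = 1 := by
    refine orderOf_eq_one_iff.mp (Nat.eq_one_of_dvd_one ?_)
    rw [← hcop.gcd_eq_one]
    exact Nat.dvd_gcd (orderOf_dvd_of_pow_eq_one h3) (orderOf_dvd_of_pow_eq_one hk)
  rw [ha, hc1, mul_one]

theorem int_sub_one_of_pow {k : ℤ} {p s : ℕ} (hp : Odd p) (h : (2 : ℤ) ^ s ∣ k ^ p - 1) :
    (2 : ℤ) ^ s ∣ k - 1 := by
  rcases Nat.eq_zero_or_pos s with rfl | hs
  · simp
  have hk : Odd k := by
    by_contra hk
    rw [Int.not_odd_iff_even] at hk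
    have h1 : Even (k ^ p) := Even.pow_of_ne_zero hk hp.pos.ne'
    have h2 : 2 ∣ k ^ p - 1 := (dvd_pow_self 2 hs.ne').trans h
    rw [even_iff_two_dvd] at h1
    omega
  rw [← geom_sum_mul] at h
  refine IsCoprime.dvd_of_dvd_mul_left ?_ h
  refine IsCoprime.pow_left ?_
  have hodd : ((∑ i ∈ Finset.range p, k ^ i : ℤ) : ZMod 2) = 1 := by
    obtain ⟨l, rfl⟩ := hk
    push_cast
    obtain ⟨r, rfl⟩ := hp
    have h20 : (2 : ZMod 2) = 0 := rfl
    simp [h20]
  obtain ⟨u, hu⟩ : Odd (∑ i ∈ Finset.range p, k ^ i) := by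
    rw [← Int.not_even_iff_odd]
    intro he
    rw [even_iff_two_dvd] at he
    rw [(ZMod.intCast_zmod_eq_zero_iff_dvd _ 2).mpr (by exact_mod_cast he)] at hodd
    exact zero_ne_one hodd
  exact ⟨-u, 1, by rw [hu]; ring⟩

/-- An automorphism of odd order acts trivially on a cyclic 2-group extension of its fixed points. -/
theorem fixed_of_pow_mul [Finite P] (hP : IsPGroup 2 P) {φ : MulAut P} {p : ℕ} (hp : Odd p)
    (hφ : φ ^ p = 1) {C : Subgroup P} (hC : ∀ c ∈ C, φ c = c) {a : P} {k : ℤ}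
    (hak : a ^ (-k) * φ a ∈ C) {s : ℕ} (hs : ∀ l : ℤ, a ^ l ∈ C ↔ (2 : ℤ) ^ s ∣ l)
    (hcomm : ∀ c ∈ C, a * c = c * a) : φ a = a := by
  have hz : ∀ (l : ℤ), ∀ c ∈ C, a ^ l * c = c * a ^ l := fun l c hc =>
    (Commute.zpow_left (show Commute a c from hcomm c hc) l).eq
  have h1 : ∀ l : ℕ, a ^ (-(k ^ l)) * (φ ^ l) a ∈ C := by
    intro l
    induction l with
    | zero => simp
    | succ l ih =>
      have h2 := hC _ ih
      rw [map_mul, map_zpow, ← MulAut.mul_apply, ← pow_succ'] at h2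
      obtain ⟨c, hc, hφa⟩ : ∃ c ∈ C, φ a = a ^ k * c :=
        ⟨_, hak, by rw [zpow_neg, mul_inv_cancel_left]⟩
      have hcom : Commute (a ^ k) c := hz k c hc
      rw [hφa, hcom.mul_zpow, ← zpow_mul] at h2
      have h3 : a ^ (k * -(k ^ l)) * (c ^ (-(k ^ l)) * (φ ^ (l + 1)) a) ∈ C := by
        rw [← mul_assoc, h2]; exact ih
      rw [← mul_assoc, hz _ _ (zpow_mem hc _), mul_assoc,
        Subgroup.mul_mem_cancel_left _ (zpow_mem hc _)] at h3
      rwa [pow_succ', show -(k * k ^ l) = k * -(k ^ l) by ring]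
  have h4 := h1 p
  rw [hφ, MulAut.one_apply, show a ^ (-(k ^ p)) * a = a ^ (-(k ^ p) + 1) by rw [zpow_add, zpow_one],
    hs] at h4
  have h5 : (2 : ℤ) ^ s ∣ k - 1 := int_sub_one_of_pow hp (by
    rw [show k ^ p - 1 = -(-(k ^ p) + 1) by ring]; exact dvd_neg.mpr h4)
  have h6 : a⁻¹ * φ a ∈ C := by
    have := mul_mem ((hs (k - 1)).mpr h5) hak
    rwa [← mul_assoc, ← zpow_add, show k - 1 + -k = -1 by ring, zpow_neg_one] at this
  exact fixed_of_mul_fixed hP hp hφ (hC _ h6) (mul_inv_cancel_left a _).symm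

end Cfsg.Agent.Invol
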