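import Mathlib
import Cfsg.Prelude.Def_CaseTheorems
import Cfsg.Agent.Lib.Transfer.MaxClass

/-!
# Wreathed 2-groups

Elements are `x ^ i * y ^ j` and `x ^ i * y ^ j * z`; exponents are integers modulo `2 * hh n`,
where `hh n = 2 ^ (n - 1)`.
-/

namespace Cfsg.Agent.Invol

section twoExt

variable {S : Type*} [Group S]

/-- The extension of `B` by an element `t` normalizing it with square in `B`. -/
def twoExt (B : Subgroup S) (t : S) (hn : ∀ b ∈ B, t * b * t⁻¹ ∈ B) (hsq : t * t ∈ B) :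
    Subgroup S where
  carrier := {s | s ∈ B ∨ s * t⁻¹ ∈ B}
  one_mem' := .inl (one_mem B)
  mul_mem' := by
    have hn' : ∀ b ∈ B, t⁻¹ * b * t ∈ B := fun b hb => by
      have := mul_mem (mul_mem (inv_mem hsq) (hn b hb)) hsq
      simpa [mul_assoc] using this
    rintro a b (ha | ha) (hb | hb)
    · exact .inl (mul_mem ha hb)
    · exact .inr (by rw [mul_assoc]; exact mul_mem ha hb)
    · refine .inr ?_
      have := mul_mem ha (hn b hb)
      simpa [mul_assoc] using this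
    · refine .inl ?_
      have := mul_mem (mul_mem ha (hn _ hb)) hsq
      simpa [mul_assoc] using this
  inv_mem' := by
    rintro a (ha | ha)
    · exact .inl (inv_mem ha)
    · refine .inr ?_
      have h1 := mul_mem (inv_mem hsq) (hn _ (inv_mem ha))
      simpa [mul_assoc] using h1

theorem mem_twoExt {B : Subgroup S} {t : S} {hn : ∀ b ∈ B, t * b * t⁻¹ ∈ B} {hsq : t * t ∈ B}
    {s : S} : s ∈ twoExt B t hn hsq ↔ s ∈ B ∨ s * t⁻¹ ∈ B := Iff.rfl

theorem le_twoExt {B : Subgroup S} {t : S} {hn : ∀ b ∈ B, t * b * t⁻¹ ∈ B} {hsq : t * t ∈ B} :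
    B ≤ twoExt B t hn hsq := fun _ h => .inl h

theorem self_mem_twoExt {B : Subgroup S} {t : S} {hn : ∀ b ∈ B, t * b * t⁻¹ ∈ B} {hsq : t * t ∈ B} :
    t ∈ twoExt B t hn hsq := .inr (by rw [mul_inv_cancel]; exact one_mem B)

theorem relIndex_twoExt {B : Subgroup S} {t : S} {hn : ∀ b ∈ B, t * b * t⁻¹ ∈ B} {hsq : t * t ∈ B}
    (ht : t ∉ B) : B.relIndex (twoExt B t hn hsq) = 2 := by
  rw [Subgroup.relIndex, Subgroup.index_eq_two_iff]
  refine ⟨⟨t⁻¹, inv_mem self_mem_twoExt⟩, ?_⟩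
  rintro ⟨b, hb⟩
  simp only [Subgroup.mem_subgroupOf, Subgroup.coe_mul]
  rcases hb with hb | hb
  · refine .inr ⟨hb, fun h => ht ?_⟩
    have := mul_mem (inv_mem h) hb
    simpa [mul_assoc] using this
  · refine .inl ⟨hb, fun h => ht ?_⟩
    have := mul_mem (inv_mem hb) h
    simpa [mul_assoc] using this

theorem card_twoExt [Finite S] {B : Subgroup S} {t : S} {hn : ∀ b ∈ B, t * b * t⁻¹ ∈ B}
    {hsq : t * t ∈ B} (ht : t ∉ B) : Nat.card (twoExt B t hn hsq) = 2 * Nat.card B := by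
  rw [← relIndex_twoExt (hn := hn) (hsq := hsq) ht, Subgroup.relIndex,
    ← Subgroup.card_mul_index (B.subgroupOf (twoExt B t hn hsq)),
    Nat.card_congr (Subgroup.subgroupOfEquivOfLe (le_twoExt (hn := hn) (hsq := hsq))).toEquiv, mul_comm]

end twoExt

/-- Generators and relations of a wreathed group. -/
structure WR (S : Type*) [Group S] (n : ℕ) (x y z : S) : Prop where
  hn : 2 ≤ n
  card : Nat.card S = 2 ^ (2 * n + 1)
  ox : orderOf x = 2 ^ n
  comm : x * y = y * x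
  disj : Subgroup.zpowers x ⊓ Subgroup.zpowers y = ⊥
  oz : orderOf z = 2
  conj : z * x * z⁻¹ = y

/-- Half of the order of `x`. -/
def hh (n : ℕ) : ℤ := 2 ^ (n - 1)

variable {S : Type*} [Group S] {n : ℕ} {x y z : S}

theorem exists_wr (h : Cfsg.IsWreathed S) : ∃ n x y z, WR (S := S) n x y z := by
  obtain ⟨n, hn, hc, x, y, z, hx, hxy, hd, hz, hzx⟩ := h
  exact ⟨n, x, y, z, hn, hc, hx, hxy, hd, hz, hzx⟩

namespace WR

/-- The element with coordinates `i, j` in the base group. -/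
def el (_h : WR S n x y z) (i j : ℤ) : S := x ^ i * y ^ j

theorem finite (h : WR S n x y z) : Finite S :=
  Nat.finite_of_card_ne_zero (by rw [h.card]; positivity)

theorem hh_pos (h : WR S n x y z) : 0 < hh n := by
  have := h.hn
  unfold hh
  positivity

theorem hh_even (h : WR S n x y z) : ∃ r : ℤ, hh n = 2 * r :=
  ⟨2 ^ (n - 2), by rw [hh, ← pow_succ', show n - 2 + 1 = n - 1 by have := h.hn; omega]⟩

theorem orderOf_cast (h : WR S n x y z) : (orderOf x : ℤ) = 2 * hh n := by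
  rw [h.ox, hh, ← pow_succ', show n - 1 + 1 = n by have := h.hn; omega]
  push_cast
  rfl

theorem oy (h : WR S n x y z) : orderOf y = 2 ^ n := by
  rw [← h.conj, ← MulAut.conj_apply, MulEquiv.orderOf_eq, h.ox]

theorem z_mul_self (h : WR S n x y z) : z * z = 1 := by
  rw [← pow_two, ← h.oz, pow_orderOf_eq_one]

theorem z_inv (h : WR S n x y z) : z⁻¹ = z := inv_eq_of_mul_eq_one_right h.z_mul_self

theorem conj' (h : WR S n x y z) : z * y * z⁻¹ = x := by
  rw [← h.conj, h.z_inv]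
  simp only [mul_assoc, h.z_mul_self, mul_one]
  rw [← mul_assoc, h.z_mul_self, one_mul]

theorem el_mul (h : WR S n x y z) (i j k l : ℤ) : h.el i j * h.el k l = h.el (i + k) (j + l) := by
  have hc : Commute (x ^ k) (y ^ j) := (show Commute x y from h.comm).zpow_zpow k j
  rw [el, el, el, mul_assoc, ← mul_assoc (y ^ j), ← hc.eq, mul_assoc, ← zpow_add, ← mul_assoc,
    ← zpow_add]

theorem el_zero (h : WR S n x y z) : h.el 0 0 = 1 := by simp [el]

theorem el_x (h : WR S n x y z) : h.el 1 0 = x := by simp [el]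

theorem el_y (h : WR S n x y z) : h.el 0 1 = y := by simp [el]

theorem el_inv (h : WR S n x y z) (i j : ℤ) : (h.el i j)⁻¹ = h.el (-i) (-j) := by
  apply inv_eq_of_mul_eq_one_right
  rw [h.el_mul, add_neg_cancel, add_neg_cancel, h.el_zero]

theorem el_comm (h : WR S n x y z) (i j k l : ℤ) : h.el i j * h.el k l = h.el k l * h.el i j := by
  rw [h.el_mul, h.el_mul, add_comm i, add_comm j]

theorem el_zpow (h : WR S n x y z) (i j k : ℤ) : h.el i j ^ k = h.el (k * i) (k * j) := by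
  have hc : Commute (x ^ i) (y ^ j) := (show Commute x y from h.comm).zpow_zpow i j
  rw [el, el, hc.mul_zpow, ← zpow_mul, ← zpow_mul, mul_comm i, mul_comm j]

theorem el_eq_one (h : WR S n x y z) {i j : ℤ} :
    h.el i j = 1 ↔ 2 * hh n ∣ i ∧ 2 * hh n ∣ j := by
  have hy : (orderOf y : ℤ) = 2 * hh n := by rw [h.oy, ← h.ox, h.orderOf_cast]
  constructor
  · intro he
    have h1 : x ^ i = y ^ (-j) := by rw [zpow_neg]; exact eq_inv_of_mul_eq_one_left he
    have h2 : x ^ i ∈ Subgroup.zpowers x ⊓ Subgroup.zpowers y :=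
      ⟨zpow_mem (Subgroup.mem_zpowers x) i, h1 ▸ zpow_mem (Subgroup.mem_zpowers y) (-j)⟩
    rw [h.disj, Subgroup.mem_bot] at h2
    refine ⟨?_, ?_⟩
    · rw [← h.orderOf_cast, orderOf_dvd_iff_zpow_eq_one, h2]
    · rw [← hy, orderOf_dvd_iff_zpow_eq_one]
      rwa [el, h2, one_mul] at he
  · rintro ⟨hi, hj⟩
    rw [← h.orderOf_cast, orderOf_dvd_iff_zpow_eq_one] at hi
    rw [← hy, orderOf_dvd_iff_zpow_eq_one] at hj
    rw [el, hi, hj, one_mul]

theorem el_eq (h : WR S n x y z) {i j k l : ℤ} :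
    h.el i j = h.el k l ↔ 2 * hh n ∣ i - k ∧ 2 * hh n ∣ j - l := by
  rw [← mul_inv_eq_one, h.el_inv, h.el_mul, h.el_eq_one, sub_eq_add_neg, sub_eq_add_neg]

theorem z_el (h : WR S n x y z) (i j : ℤ) : z * h.el i j = h.el j i * z := by
  have h1 : z * h.el i j * z⁻¹ = h.el j i := by
    rw [el, el, show z * (x ^ i * y ^ j) * z⁻¹ = (z * x ^ i * z⁻¹) * (z * y ^ j * z⁻¹) by group,
      ← _root_.conj_zpow, ← _root_.conj_zpow, h.conj, h.conj']
    exact ((show Commute x y from h.comm).zpow_zpow j i).eq.symm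
  rw [← h1, inv_mul_cancel_right]

theorem el_z_mul_el (h : WR S n x y z) (i j k l : ℤ) :
    h.el i j * z * h.el k l = h.el (i + l) (j + k) * z := by
  rw [mul_assoc, h.z_el, ← mul_assoc, h.el_mul]

theorem el_z_mul (h : WR S n x y z) (i j k l : ℤ) :
    h.el i j * z * (h.el k l * z) = h.el (i + l) (j + k) := by
  rw [← mul_assoc, h.el_z_mul_el, mul_assoc, h.z_mul_self, mul_one]

theorem sq_el_z (h : WR S n x y z) (i j : ℤ) :
    h.el i j * z * (h.el i j * z) = h.el (i + j) (i + j) := by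
  rw [h.el_z_mul]; congr 1; ring

/-- The base group. -/
def base (h : WR S n x y z) : Subgroup S where
  carrier := {s | ∃ i j, h.el i j = s}
  one_mem' := ⟨0, 0, h.el_zero⟩
  mul_mem' := by
    rintro a b ⟨i, j, rfl⟩ ⟨k, l, rfl⟩
    exact ⟨_, _, (h.el_mul i j k l).symm⟩
  inv_mem' := by
    rintro a ⟨i, j, rfl⟩
    exact ⟨_, _, (h.el_inv i j).symm⟩

theorem el_mem_base (h : WR S n x y z) (i j : ℤ) : h.el i j ∈ h.base := ⟨i, j, rfl⟩

theorem base_comm (h : WR S n x y z) {a b : S} (ha : a ∈ h.base) (hb : b ∈ h.base) :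
    a * b = b * a := by
  obtain ⟨i, j, rfl⟩ := ha
  obtain ⟨k, l, rfl⟩ := hb
  exact h.el_comm i j k l

/-- The base group is a product of two cyclic groups of order `2 ^ n`. -/
theorem base_equiv (h : WR S n x y z) :
    Nonempty (h.base ≃* Multiplicative (ZMod (2 ^ n) × ZMod (2 ^ n))) := by
  let f : ↥(Subgroup.zpowers x) × ↥(Subgroup.zpowers y) →* S :=
    MonoidHom.noncommCoprod (Subgroup.zpowers x).subtype (Subgroup.zpowers y).subtype
      (fun a b => by
        obtain ⟨i, hi⟩ := Subgroup.mem_zpowers_iff.mp a.2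
        obtain ⟨j, hj⟩ := Subgroup.mem_zpowers_iff.mp b.2
        show Commute (a : S) (b : S)
        rw [← hi, ← hj]
        exact (show Commute x y from h.comm).zpow_zpow i j)
  have hinj : Function.Injective f := by
    rw [injective_iff_map_eq_one]
    rintro ⟨⟨a, ha⟩, ⟨b, hb⟩⟩ he
    obtain ⟨i, rfl⟩ := Subgroup.mem_zpowers_iff.mp ha
    obtain ⟨j, rfl⟩ := Subgroup.mem_zpowers_iff.mp hb
    have he' : h.el i j = 1 := he
    obtain ⟨hi, hj⟩ := h.el_eq_one.mp he'
    refine Prod.ext (Subtype.ext ?_) (Subtype.ext ?_)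
    · exact orderOf_dvd_iff_zpow_eq_one.mp (h.orderOf_cast ▸ hi)
    · refine orderOf_dvd_iff_zpow_eq_one.mp ?_
      rw [h.oy, ← h.ox, h.orderOf_cast]; exact hj
  have hrange : f.range = h.base := by
    ext s
    constructor
    · rintro ⟨⟨⟨a, ha⟩, ⟨b, hb⟩⟩, rfl⟩
      obtain ⟨i, rfl⟩ := Subgroup.mem_zpowers_iff.mp ha
      obtain ⟨j, rfl⟩ := Subgroup.mem_zpowers_iff.mp hb
      exact ⟨i, j, rfl⟩
    · rintro ⟨i, j, rfl⟩
      exact ⟨⟨⟨_, zpow_mem (Subgroup.mem_zpowers x) i⟩, ⟨_, zpow_mem (Subgroup.mem_zpowers y) j⟩⟩, rfl⟩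
  have ex : Multiplicative (ZMod (2 ^ n)) ≃* ↥(Subgroup.zpowers x) := by
    rw [← h.ox, ← Nat.card_zpowers]
    exact zmodCyclicMulEquiv inferInstance
  have ey : Multiplicative (ZMod (2 ^ n)) ≃* ↥(Subgroup.zpowers y) := by
    rw [← h.oy, ← Nat.card_zpowers]
    exact zmodCyclicMulEquiv inferInstance
  exact ⟨((MulEquiv.subgroupCongr hrange).symm.trans (MonoidHom.ofInjective hinj).symm).trans
    ((ex.symm.prodCongr ey.symm).trans (MulEquiv.prodMultiplicative _ _).symm)⟩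

theorem card_base (h : WR S n x y z) : Nat.card h.base = 2 ^ (2 * n) := by
  obtain ⟨e⟩ := h.base_equiv
  rw [Nat.card_congr e.toEquiv, Nat.card_congr Multiplicative.toAdd, Nat.card_prod, Nat.card_zmod,
    ← pow_add, two_mul]

theorem index_base (h : WR S n x y z) : h.base.index = 2 := by
  have := h.finite
  have h1 := h.base.card_mul_index
  rw [h.card_base, h.card, pow_succ] at h1
  exact Nat.eq_of_mul_eq_mul_left (by positivity) h1

theorem z_notMem (h : WR S n x y z) : z ∉ h.base := by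
  intro hz
  have h1 : z * h.el 1 0 = h.el 1 0 * z := h.base_comm hz (h.el_mem_base 1 0)
  rw [h.z_el, mul_left_inj, h.el_eq] at h1
  obtain ⟨c, hc⟩ := h1.2
  obtain ⟨r, hr⟩ := h.hh_even
  rw [hr] at hc
  have : 2 * (2 * r * c) = 1 := by linarith
  generalize 2 * r * c = m at this
  omega

theorem el_z_notMem (h : WR S n x y z) (i j : ℤ) : h.el i j * z ∉ h.base := fun hm =>
  h.z_notMem (by simpa using (mul_mem_cancel_left (h.el_mem_base i j)).mp hm)

theorem el_z_ne (h : WR S n x y z) (i j k l : ℤ) : h.el i j * z ≠ h.el k l := fun he =>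
  h.el_z_notMem i j (he ▸ h.el_mem_base k l)

theorem cases' (h : WR S n x y z) (s : S) : ∃ i j : ℤ, s = h.el i j ∨ s = h.el i j * z := by
  by_cases hs : s ∈ h.base
  · obtain ⟨i, j, rfl⟩ := hs
    exact ⟨i, j, .inl rfl⟩
  · obtain ⟨i, j, hij⟩ : s * z ∈ h.base :=
      (Subgroup.mul_mem_iff_of_index_two h.index_base).2 (iff_of_false hs h.z_notMem)
    exact ⟨i, j, .inr (by rw [hij, mul_assoc, h.z_mul_self, mul_one])⟩

theorem conj_el_z (h : WR S n x y z) (a b i j : ℤ) :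
    h.el a b * (h.el i j * z) * (h.el a b)⁻¹ = h.el (a + i - b) (b + j - a) * z := by
  rw [h.el_inv, ← mul_assoc, h.el_mul, h.el_z_mul_el]; congr 2 <;> ring

theorem conj_el (h : WR S n x y z) (a b i j : ℤ) :
    h.el a b * h.el i j * (h.el a b)⁻¹ = h.el i j := by
  rw [h.el_comm a b i j, mul_inv_cancel_right]

theorem z_conj_el (h : WR S n x y z) (i j : ℤ) : z * h.el i j * z⁻¹ = h.el j i := by
  rw [h.z_el, mul_inv_cancel_right]

theorem z_conj_el_z (h : WR S n x y z) (i j : ℤ) :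
    z * (h.el i j * z) * z⁻¹ = h.el j i * z := by
  rw [← mul_assoc, mul_inv_cancel_right, h.z_el]

theorem commute_el_z_el (h : WR S n x y z) {i j k l : ℤ}
    (hc : h.el i j * z * h.el k l = h.el k l * (h.el i j * z)) : 2 * hh n ∣ k - l := by
  rw [h.el_z_mul_el, ← mul_assoc, h.el_mul, mul_left_inj, h.el_eq] at hc
  obtain ⟨c, hc⟩ := hc.2
  exact ⟨c, by linarith⟩

theorem el_diag_central (h : WR S n x y z) (k : ℤ) (s : S) :
    s * h.el k k = h.el k k * s := by
  obtain ⟨i, j, rfl | rfl⟩ := h.cases' s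
  · exact h.el_comm i j k k
  · rw [h.el_z_mul_el, ← mul_assoc, h.el_mul, add_comm i, add_comm j]

theorem center_eq (h : WR S n x y z) : Subgroup.center S = Subgroup.zpowers (h.el 1 1) := by
  ext s
  rw [Subgroup.mem_center_iff]
  constructor
  · intro hs
    obtain ⟨i, j, rfl | rfl⟩ := h.cases' s
    · have h1 : h.el 0 0 * z * h.el i j = h.el i j * (h.el 0 0 * z) := hs _
      obtain ⟨c, hc⟩ := h.commute_el_z_el h1
      refine Subgroup.mem_zpowers_iff.mpr ⟨i, ?_⟩
      rw [h.el_zpow, h.el_eq]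
      exact ⟨⟨0, by ring⟩, ⟨c, by linarith⟩⟩
    · obtain ⟨c, hc⟩ := h.commute_el_z_el (hs (h.el 1 0)).symm
      obtain ⟨r, hr⟩ := h.hh_even
      rw [hr] at hc
      have : 2 * (2 * r * c) = 1 := by linarith
      generalize 2 * r * c = m at this
      omega
  · intro hs g
    obtain ⟨k, rfl⟩ := Subgroup.mem_zpowers_iff.mp hs
    rw [h.el_zpow, mul_one]
    exact h.el_diag_central k g

theorem mem_center_el (h : WR S n x y z) {i j : ℤ} :
    h.el i j ∈ Subgroup.center S ↔ 2 * hh n ∣ i - j := by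
  constructor
  · intro hs
    exact h.commute_el_z_el (i := 0) (j := 0) (Subgroup.mem_center_iff.mp hs _)
  · intro hd
    rw [Subgroup.mem_center_iff]
    intro s
    rw [show h.el i j = h.el j j from h.el_eq.mpr ⟨hd, ⟨0, by ring⟩⟩]
    exact h.el_diag_central j s

theorem orderOf_el_of_left (h : WR S n x y z) (k : ℤ) : orderOf (h.el 1 k) = 2 ^ n := by
  refine Nat.dvd_antisymm (orderOf_dvd_of_pow_eq_one ?_) ?_
  · rw [← zpow_natCast, h.el_zpow, h.el_eq_one, ← h.ox, h.orderOf_cast]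
    exact ⟨dvd_mul_right _ _, dvd_mul_right _ _⟩
  · have h1 : h.el 1 k ^ (orderOf (h.el 1 k) : ℤ) = 1 := by
      rw [zpow_natCast, pow_orderOf_eq_one]
    rw [h.el_zpow, h.el_eq_one, ← h.orderOf_cast, mul_one, h.ox] at h1
    exact Int.natCast_dvd_natCast.mp h1.1

theorem sq_el (h : WR S n x y z) {i j : ℤ} (hs : h.el i j * h.el i j = 1) :
    hh n ∣ i ∧ hh n ∣ j := by
  rw [h.el_mul, h.el_eq_one] at hs
  obtain ⟨⟨c, hc⟩, ⟨d, hd⟩⟩ := hs
  exact ⟨⟨c, by linarith⟩, ⟨d, by linarith⟩⟩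

theorem sq_el_z_eq_one (h : WR S n x y z) {i j : ℤ} :
    h.el i j * z * (h.el i j * z) = 1 ↔ 2 * hh n ∣ i + j := by
  rw [h.sq_el_z, h.el_eq_one, and_self]

/-- All the involutions outside the base group are conjugate. -/
theorem conj_z_el (h : WR S n x y z) {i j : ℤ} (hij : 2 * hh n ∣ i + j) :
    h.el i 0 * z * (h.el i 0)⁻¹ = h.el i j * z := by
  obtain ⟨c, hc⟩ := hij
  rw [h.el_inv, h.el_z_mul_el, mul_left_inj, h.el_eq]
  exact ⟨⟨0, by ring⟩, ⟨-c, by linarith⟩⟩

theorem orderOf_w (h : WR S n x y z) : orderOf (h.el (hh n) (hh n)) = 2 := by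
  refine orderOf_eq_prime ?_ ?_
  · rw [pow_two, h.el_mul, h.el_eq_one, ← two_mul]; simp
  · rw [Ne, h.el_eq_one]
    rintro ⟨⟨c, hc⟩, -⟩
    have : hh n * (2 * c - 1) = 0 := by linarith
    rcases mul_eq_zero.mp this with h0 | h0
    · exact h.hh_pos.ne' h0
    · omega

theorem orderOf_half (h : WR S n x y z) : orderOf (h.el (hh n) 0) = 2 := by
  refine orderOf_eq_prime ?_ ?_
  · rw [pow_two, h.el_mul, h.el_eq_one, ← two_mul]; simp
  · rw [Ne, h.el_eq_one]
    rintro ⟨⟨c, hc⟩, -⟩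
    have : hh n * (2 * c - 1) = 0 := by linarith
    rcases mul_eq_zero.mp this with h0 | h0
    · exact h.hh_pos.ne' h0
    · omega

theorem half_ne_w (h : WR S n x y z) : h.el (hh n) 0 ≠ h.el (hh n) (hh n) := by
  rw [Ne, h.el_eq]
  rintro ⟨-, ⟨c, hc⟩⟩
  have : hh n * (2 * c + 1) = 0 := by linarith
  rcases mul_eq_zero.mp this with h0 | h0
  · exact h.hh_pos.ne' h0
  · omega

theorem involution_cases (h : WR S n x y z) {t : S} (ht : orderOf t = 2) :
    t = h.el (hh n) (hh n) ∨ t = h.el (hh n) 0 ∨ t = h.el 0 (hh n) ∨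
      ∃ i j : ℤ, 2 * hh n ∣ i + j ∧ t = h.el i j * z := by
  have hsq : t * t = 1 := by rw [← pow_two, ← ht, pow_orderOf_eq_one]
  have hne : t ≠ 1 := fun h1 => by rw [h1, orderOf_one] at ht; omega
  obtain ⟨i, j, rfl | rfl⟩ := h.cases' t
  · obtain ⟨⟨c, rfl⟩, ⟨d, rfl⟩⟩ := h.sq_el hsq
    rcases Int.even_or_odd c with ⟨e, rfl⟩ | ⟨e, rfl⟩ <;>
      rcases Int.even_or_odd d with ⟨f, rfl⟩ | ⟨f, rfl⟩
    · exact absurd (h.el_eq_one.mpr ⟨⟨e, by ring⟩, ⟨f, by ring⟩⟩) hne
    · exact .inr (.inr (.inl (h.el_eq.mpr ⟨⟨e, by ring⟩, ⟨f, by ring⟩⟩)))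
    · exact .inr (.inl (h.el_eq.mpr ⟨⟨e, by ring⟩, ⟨f, by ring⟩⟩))
    · exact .inl (h.el_eq.mpr ⟨⟨e, by ring⟩, ⟨f, by ring⟩⟩)
  · exact .inr (.inr (.inr ⟨i, j, h.sq_el_z_eq_one.mp hsq, rfl⟩))

theorem commutator_eq (h : WR S n x y z) : commutator S = Subgroup.zpowers (h.el 1 (-1)) := by
  refine le_antisymm ?_ ?_
  · have hnorm : (Subgroup.zpowers (h.el 1 (-1))).Normal := by
      refine ⟨fun a ha g => ?_⟩
      obtain ⟨k, rfl⟩ := Subgroup.mem_zpowers_iff.mp ha
      rw [h.el_zpow]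
      obtain ⟨i, j, rfl | rfl⟩ := h.cases' g
      · rw [h.conj_el, ← h.el_zpow]; exact Subgroup.zpow_mem _ (Subgroup.mem_zpowers _) k
      · rw [show h.el i j * z * h.el (k * 1) (k * -1) * (h.el i j * z)⁻¹ =
          h.el i j * (z * h.el (k * 1) (k * -1) * z⁻¹) * (h.el i j)⁻¹ by group, h.z_conj_el, h.conj_el]
        refine Subgroup.mem_zpowers_iff.mpr ⟨-k, ?_⟩
        rw [h.el_zpow]
        congr 1 <;> ring
    rw [commutator_def, Subgroup.commutator_le]
    intro a _ b _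
    rw [commutatorElement_def]
    have key : ∀ i j : ℤ, 2 * hh n ∣ i + j → h.el i j ∈ Subgroup.zpowers (h.el 1 (-1)) := by
      rintro i j ⟨c, hc⟩
      refine Subgroup.mem_zpowers_iff.mpr ⟨i, ?_⟩
      rw [h.el_zpow, h.el_eq]
      exact ⟨⟨0, by ring⟩, ⟨-c, by linarith⟩⟩
    obtain ⟨i, j, rfl | rfl⟩ := h.cases' a <;> obtain ⟨k, l, rfl | rfl⟩ := h.cases' b
    · rw [h.conj_el, mul_inv_cancel]
      exact one_mem _
    · rw [h.conj_el_z, mul_inv_rev, h.z_inv, h.el_inv, ← mul_assoc, mul_assoc (h.el _ _),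
        h.z_mul_self, mul_one, h.el_mul]
      exact key _ _ ⟨0, by ring⟩
    · rw [show h.el i j * z * h.el k l * (h.el i j * z)⁻¹ * (h.el k l)⁻¹ =
          h.el i j * (z * h.el k l * z⁻¹) * (h.el i j)⁻¹ * (h.el k l)⁻¹ by group, h.z_conj_el,
        h.conj_el, h.el_inv, h.el_mul]
      exact key _ _ ⟨0, by ring⟩
    · rw [show h.el i j * z * (h.el k l * z) * (h.el i j * z)⁻¹ * (h.el k l * z)⁻¹ =
          h.el i j * (z * (h.el k l * z) * z⁻¹) * (h.el i j)⁻¹ * (h.el k l * z)⁻¹ by group,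
        h.z_conj_el_z, h.conj_el_z, mul_inv_rev, h.z_inv, h.el_inv, ← mul_assoc,
        mul_assoc (h.el _ _), h.z_mul_self, mul_one, h.el_mul]
      exact key _ _ ⟨0, by ring⟩
  · rw [Subgroup.zpowers_le, commutator_def]
    have h1 := Subgroup.commutator_mem_commutator (Subgroup.mem_top (h.el 1 0)) (Subgroup.mem_top z)
    rw [commutatorElement_def, show h.el 1 0 * z * (h.el 1 0)⁻¹ * z⁻¹ =
      h.el 1 0 * (z * (h.el 1 0)⁻¹ * z⁻¹) by group, h.el_inv, h.z_conj_el, h.el_mul] at h1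
    convert h1 using 2 <;> ring

theorem card_classes (h : WR S n x y z) :
    Nat.card {C : ConjClasses S // ∃ t : S, orderOf t = 2 ∧ ConjClasses.mk t = C} = 3 := by
  have hset : {C : ConjClasses S | ∃ t : S, orderOf t = 2 ∧ ConjClasses.mk t = C} =
      {ConjClasses.mk (h.el (hh n) (hh n)), ConjClasses.mk (h.el (hh n) 0), ConjClasses.mk z} := by
    ext C
    constructor
    · rintro ⟨t, ht, rfl⟩
      rcases h.involution_cases ht with rfl | rfl | rfl | ⟨i, j, hij, rfl⟩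
      · exact .inl rfl
      · exact .inr (.inl rfl)
      · exact .inr (.inl (ConjClasses.mk_eq_mk_iff_isConj.mpr (isConj_iff.mpr ⟨z, h.z_conj_el _ _⟩)))
      · exact .inr (.inr (ConjClasses.mk_eq_mk_iff_isConj.mpr
          (isConj_iff.mpr ⟨_, h.conj_z_el hij⟩).symm))
    · rintro (rfl | rfl | rfl)
      exacts [⟨_, h.orderOf_w, rfl⟩, ⟨_, h.orderOf_half, rfl⟩, ⟨_, h.oz, rfl⟩]
  change Nat.card ↥({C : ConjClasses S | ∃ t : S, orderOf t = 2 ∧ ConjClasses.mk t = C}) = 3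
  have hw : ∀ c : S, c * h.el (hh n) (hh n) * c⁻¹ = h.el (hh n) (hh n) := fun c => by
    rw [h.el_diag_central, mul_inv_cancel_right]
  have hbase : ∀ c a : S, a ∈ h.base → c * a * c⁻¹ ∈ h.base := fun c a ha =>
    (Subgroup.normal_of_index_eq_two h.index_base).conj_mem a ha c
  rw [hset, Nat.card_coe_set_eq, Set.ncard_insert_of_notMem, Set.ncard_pair]
  · intro he
    obtain ⟨c, hc⟩ := isConj_iff.mp (ConjClasses.mk_eq_mk_iff_isConj.mp he)
    have := hbase c _ (h.el_mem_base (hh n) 0)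
    rw [hc] at this
    exact h.z_notMem this
  · rintro (he | he)
    · obtain ⟨c, hc⟩ := isConj_iff.mp (ConjClasses.mk_eq_mk_iff_isConj.mp he)
      rw [hw] at hc
      exact h.half_ne_w hc.symm
    · obtain ⟨c, hc⟩ := isConj_iff.mp (ConjClasses.mk_eq_mk_iff_isConj.mp he)
      have := hbase c _ (h.el_mem_base (hh n) (hh n))
      rw [hc] at this
      exact h.z_notMem this

theorem eq_base (h : WR S n x y z) {U : Subgroup S} (hU : IsMulCommutative U)
    (hc : Nat.card U = 2 ^ (2 * n)) : U = h.base := by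
  have := h.finite
  refine Subgroup.eq_of_le_of_card_ge ?_ (by rw [h.card_base, hc])
  intro u hu
  by_contra hn
  obtain ⟨i, j, rfl | rfl⟩ := h.cases' u
  · exact hn (h.el_mem_base i j)
  have hle : U ⊓ h.base ≤ Subgroup.center S := by
    rintro a ⟨ha, k, l, rfl⟩
    exact h.mem_center_el.mpr (h.commute_el_z_el
      (congrArg Subtype.val (hU.is_comm.comm ⟨_, hu⟩ ⟨_, ha⟩)))
  have h1 := Subgroup.card_le_of_le hle
  rw [h.center_eq, Nat.card_zpowers, h.orderOf_el_of_left] at h1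
  have h2 := Subgroup.relIndex_mul_index (inf_le_left : U ⊓ h.base ≤ U)
  have h3 : (U ⊓ h.base).relIndex U ≤ 2 := by
    rw [Subgroup.inf_relIndex_left, ← h.index_base]
    exact Nat.le_of_dvd (by rw [h.index_base]; norm_num)
      (have := Subgroup.normal_of_index_eq_two h.index_base; Subgroup.relIndex_dvd_index_of_normal h.base _)
  have h4 := Subgroup.card_mul_index ((U ⊓ h.base).subgroupOf U)
  rw [Nat.card_congr (Subgroup.subgroupOfEquivOfLe (inf_le_left : U ⊓ h.base ≤ U)).toEquiv, hc] at h4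
  have h5 : 2 ^ (2 * n) ≤ 2 ^ n * 2 := by
    rw [← h4]
    exact Nat.mul_le_mul h1 h3
  rw [← pow_succ] at h5
  have := (Nat.pow_le_pow_iff_right one_lt_two).mp h5
  have := h.hn
  omega

theorem quotient_center_dihedral (h : WR S n x y z) :
    Nonempty (S ⧸ Subgroup.center S ≃* DihedralGroup (2 ^ n)) := by
  have := h.finite
  have ho : orderOf (h.el 1 0 : S ⧸ Subgroup.center S) = 2 ^ n := by
    refine Nat.dvd_antisymm (orderOf_dvd_of_pow_eq_one ?_) ?_
    · rw [← QuotientGroup.mk_pow, ← h.orderOf_el_of_left 0, pow_orderOf_eq_one]; rfl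
    · have h1 := pow_orderOf_eq_one (h.el 1 0 : S ⧸ Subgroup.center S)
      rw [← QuotientGroup.mk_pow, QuotientGroup.eq_one_iff, ← zpow_natCast, h.el_zpow,
        h.mem_center_el, mul_one, mul_zero, sub_zero, ← h.orderOf_cast, h.ox] at h1
      exact Int.natCast_dvd_natCast.mp h1
  refine Transfer.MaxClass.nonempty_dihedral (m := 2 ^ n) (by positivity)
    (a := (h.el 1 0 : S ⧸ Subgroup.center S)) (s := (z : S ⧸ Subgroup.center S)) ho ?_ ?_ ?_ ?_
  · have h1 := (Subgroup.center S).card_mul_index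
    rw [h.center_eq, Nat.card_zpowers, h.orderOf_el_of_left, h.card, ← h.center_eq] at h1
    have h2 := (Subgroup.zpowers (h.el 1 0 : S ⧸ Subgroup.center S)).card_mul_index
    rw [Nat.card_zpowers, ho, ← Subgroup.index_eq_card] at h2
    rw [← h2, ← mul_assoc, ← pow_add, ← two_mul, pow_succ] at h1
    exact Nat.eq_of_mul_eq_mul_left (by positivity) h1
  · intro hz
    obtain ⟨k, hk⟩ := Subgroup.mem_zpowers_iff.mp hz
    rw [← QuotientGroup.mk_zpow, QuotientGroup.eq, h.el_zpow, h.el_inv] at hk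
    rw [h.center_eq] at hk
    obtain ⟨l, hl⟩ := Subgroup.mem_zpowers_iff.mp hk
    rw [h.el_zpow] at hl
    exact h.el_z_ne _ _ _ _ hl.symm
  · rw [← QuotientGroup.mk_mul, h.z_mul_self]; rfl
  · rw [← QuotientGroup.mk_inv, ← QuotientGroup.mk_inv, ← QuotientGroup.mk_mul,
      ← QuotientGroup.mk_mul, h.z_conj_el, QuotientGroup.eq, h.el_inv, h.el_inv, h.el_mul,
      h.mem_center_el]
    exact ⟨0, by ring⟩

end WR

end Cfsg.Agent.Invol
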