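import Mathlib
import Cfsg.Agent.Lib.Invol.Wreathed

/-!
# Distinguished subgroups of wreathed 2-groups
-/

namespace Cfsg.Agent.Invol.WR

variable {S : Type*} [Group S] {n : ℕ} {x y z : S}

theorem exists_of_card (hS : Cfsg.IsWreathed S) {n : ℕ} (hn : Nat.card S = 2 ^ (2 * n + 1)) :
    ∃ x y z, WR (S := S) n x y z := by
  obtain ⟨m, x, y, z, h⟩ := Invol.exists_wr hS
  obtain rfl : m = n := by
    have := Nat.pow_right_injective (le_refl 2) (h.card.symm.trans hn)
    omega
  exact ⟨x, y, z, h⟩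

theorem w_eq (h : WR S n x y z) : h.el (hh n) (-hh n) = h.el (hh n) (hh n) :=
  h.el_eq.mpr ⟨⟨0, by ring⟩, ⟨-1, by ring⟩⟩

theorem w_central (h : WR S n x y z) {b : S} (hb : b ∈ Subgroup.zpowers (h.el (hh n) (hh n))) (s : S) :
    s * b * s⁻¹ = b := by
  obtain ⟨k, rfl⟩ := Subgroup.mem_zpowers_iff.mp hb
  rw [h.el_zpow, h.el_diag_central, mul_inv_cancel_right]

theorem mem_four_group (h : WR S n x y z) {s : S} :
    s ∈ h.base ∧ s * s = 1 ↔ ∃ i j : ℤ, hh n ∣ i ∧ hh n ∣ j ∧ s = h.el i j := by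
  constructor
  · rintro ⟨⟨i, j, rfl⟩, hs⟩
    exact ⟨i, j, (h.sq_el hs).1, (h.sq_el hs).2, rfl⟩
  · rintro ⟨i, j, ⟨c, rfl⟩, ⟨d, rfl⟩, rfl⟩
    exact ⟨h.el_mem_base _ _, by rw [h.el_mul, h.el_eq_one]; exact ⟨⟨c, by ring⟩, ⟨d, by ring⟩⟩⟩

/-- The involutions of the base group with the identity. -/
def four (h : WR S n x y z) : Subgroup S where
  carrier := {s | s ∈ h.base ∧ s * s = 1}
  one_mem' := ⟨one_mem _, one_mul 1⟩
  mul_mem' := by
    rintro a b ⟨ha, ha2⟩ ⟨hb, hb2⟩
    exact ⟨mul_mem ha hb, by rw [mul_assoc, ← mul_assoc b, h.base_comm hb ha, mul_assoc a b b, hb2, mul_one, ha2]⟩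
  inv_mem' := by
    rintro a ⟨ha, ha2⟩
    exact ⟨inv_mem ha, by rw [← mul_inv_rev, ha2, inv_one]⟩

theorem four_normal (h : WR S n x y z) : h.four.Normal := by
  refine ⟨fun a ha g => ⟨(Subgroup.normal_of_index_eq_two h.index_base).conj_mem a ha.1 g, ?_⟩⟩
  rw [show g * a * g⁻¹ * (g * a * g⁻¹) = g * (a * a) * g⁻¹ by group, ha.2, mul_one, mul_inv_cancel]

theorem card_four (h : WR S n x y z) : Nat.card h.four = 4 := by
  have := h.finite
  have hw := h.orderOf_w
  have hx := h.orderOf_half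
  have hle : Subgroup.zpowers (h.el (hh n) (hh n)) ≤ h.four := by
    rw [Subgroup.zpowers_le]
    exact h.mem_four_group.mpr ⟨_, _, dvd_rfl, dvd_rfl, rfl⟩
  have hnm : h.el (hh n) 0 ∉ Subgroup.zpowers (h.el (hh n) (hh n)) := by
    intro hm
    obtain ⟨k, hk⟩ := Subgroup.mem_zpowers_iff.mp hm
    rw [h.el_zpow, h.el_eq] at hk
    obtain ⟨⟨c, hc⟩, ⟨d, hd⟩⟩ := hk
    have : hh n * (2 * c - 2 * d + 1) = 0 := by linarith
    rcases mul_eq_zero.mp this with h0 | h0
    · exact h.hh_pos.ne' h0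
    · omega
  have hs2 : h.el (hh n) 0 * h.el (hh n) 0 = 1 := by rw [← pow_two, ← hx, pow_orderOf_eq_one]
  let V := twoExt (Subgroup.zpowers (h.el (hh n) (hh n))) (h.el (hh n) 0)
    (fun b hb => by rw [h.w_central hb]; exact hb) (hs2 ▸ one_mem _)
  have hV : V = h.four := by
    ext s
    constructor
    · intro hs
      have hh0 : h.el (hh n) 0 ∈ h.four := h.mem_four_group.mpr ⟨_, _, dvd_rfl, dvd_zero _, rfl⟩
      rcases hs with hs | hs
      · exact hle hs
      · have := mul_mem (hle hs) hh0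
        rwa [inv_mul_cancel_right] at this
    · intro hs
      obtain ⟨i, j, ⟨c, rfl⟩, ⟨d, rfl⟩, rfl⟩ := h.mem_four_group.mp hs
      rcases Int.even_or_odd (c - d) with ⟨e, he⟩ | ⟨e, he⟩
      · refine .inl (Subgroup.mem_zpowers_iff.mpr ⟨d, ?_⟩)
        rw [h.el_zpow, h.el_eq]
        exact ⟨⟨-e, by linear_combination (-hh n) * he⟩, ⟨0, by ring⟩⟩
      · refine .inr (Subgroup.mem_zpowers_iff.mpr ⟨d, ?_⟩)
        rw [h.el_inv, h.el_mul, h.el_zpow, h.el_eq]
        exact ⟨⟨-e, by linear_combination (-hh n) * he⟩, ⟨0, by ring⟩⟩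
  rw [← hV, card_twoExt hnm, Nat.card_zpowers, hw]

theorem isKleinFour_four (h : WR S n x y z) : IsKleinFour h.four := by
  have := h.finite
  refine ⟨h.card_four, ?_⟩
  have hsq : ∀ s : h.four, s ^ 2 = 1 := fun s => Subtype.ext (by rw [SubgroupClass.coe_pow, pow_two]; exact s.2.2)
  refine ((Nat.dvd_prime Nat.prime_two).mp (Monoid.exponent_dvd_of_forall_pow_eq_one hsq)).resolve_left
    fun h1 => ?_
  have h2 := Monoid.pow_exponent_eq_one
    (⟨h.el (hh n) (hh n), h.mem_four_group.mpr ⟨_, _, dvd_rfl, dvd_rfl, rfl⟩⟩ : h.four)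
  rw [h1, pow_one] at h2
  have := congrArg (orderOf ∘ Subtype.val) h2
  simp only [Function.comp, Subgroup.coe_one, orderOf_one, h.orderOf_w] at this
  omega

theorem klein_cases (h : WR S n x y z) {T : Subgroup S} (hT : IsKleinFour T) :
    T = h.four ∨ ∃ i j : ℤ, 2 * hh n ∣ i + j ∧
      (T : Set S) = {1, h.el (hh n) (hh n), h.el i j * z, h.el (hh n) (hh n) * (h.el i j * z)} := by
  have := h.finite
  have hsq : ∀ t ∈ T, t * t = 1 := fun t ht =>
    congrArg Subtype.val (IsKleinFour.mul_self (G := T) ⟨t, ht⟩)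
  have hcomm : ∀ a ∈ T, ∀ b ∈ T, a * b = b * a := fun a ha b hb =>
    congrArg Subtype.val (mul_comm_of_exponent_two (IsKleinFour.exponent_two (G := T)) ⟨a, ha⟩ ⟨b, hb⟩)
  by_cases hle : T ≤ h.base
  · refine .inl (Subgroup.eq_of_le_of_card_ge (fun t ht => ⟨hle ht, hsq t ht⟩) ?_)
    rw [h.card_four, IsKleinFour.card_four]
  obtain ⟨t, ht, htb⟩ := SetLike.not_le_iff_exists.mp hle
  obtain ⟨i, j, rfl | rfl⟩ := h.cases' t
  · exact absurd (h.el_mem_base i j) htb
  refine .inr ⟨i, j, h.sq_el_z_eq_one.mp (hsq _ ht), ?_⟩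
  have hbase : ∀ a ∈ T, a ∈ h.base → a = 1 ∨ a = h.el (hh n) (hh n) := by
    intro a ha hab
    by_cases ha1 : a = 1
    · exact .inl ha1
    right
    obtain ⟨k, l, rfl⟩ := hab
    obtain ⟨⟨c, rfl⟩, ⟨d, rfl⟩⟩ := h.sq_el (hsq _ ha)
    obtain ⟨e, he⟩ := h.commute_el_z_el (hcomm _ ht _ ha)
    rcases Int.even_or_odd d with ⟨f, rfl⟩ | ⟨f, rfl⟩
    · exact absurd (h.el_eq_one.mpr ⟨⟨e + f, by linarith⟩, ⟨f, by ring⟩⟩) ha1
    · exact h.el_eq.mpr ⟨⟨e + f, by linarith⟩, ⟨f, by ring⟩⟩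
  have hsub : (T : Set S) ⊆ {1, h.el (hh n) (hh n), h.el i j * z, h.el (hh n) (hh n) * (h.el i j * z)} := by
    intro a ha
    by_cases hab : a ∈ h.base
    · rcases hbase a ha hab with h1 | h1 <;> simp [h1]
    · have h1 : a * (h.el i j * z) ∈ h.base :=
        (Subgroup.mul_mem_iff_of_index_two h.index_base).2 (iff_of_false hab htb)
      have h2 : a = a * (h.el i j * z) * (h.el i j * z) := by rw [mul_assoc, hsq _ ht, mul_one]
      rcases hbase _ (mul_mem ha ht) h1 with h3 | h3 <;> rw [h3] at h2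
      · rw [one_mul] at h2; simp [h2]
      · simp [h2]
  refine Set.eq_of_subset_of_ncard_le hsub ?_ (Set.toFinite _)
  refine le_trans ((Set.ncard_insert_le _ _).trans (Nat.add_le_add_right ((Set.ncard_insert_le _ _).trans
    (Nat.add_le_add_right (Set.ncard_insert_le _ _) 1)) 1)) ?_
  rw [Set.ncard_singleton, ← Nat.card_coe_set_eq]
  exact (IsKleinFour.card_four (G := T)).ge

theorem klein_conj (h : WR S n x y z) {T₁ T₂ : Subgroup S} (h₁ : IsKleinFour T₁) (h₂ : IsKleinFour T₂)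
    (n₁ : T₁ ≠ h.four) (n₂ : T₂ ≠ h.four) : ∃ s : S, T₁.map (MulAut.conj s).toMonoidHom = T₂ := by
  have := h.finite
  obtain ⟨i, j, hij, e₁⟩ := (h.klein_cases h₁).resolve_left n₁
  obtain ⟨k, l, hkl, e₂⟩ := (h.klein_cases h₂).resolve_left n₂
  refine ⟨h.el k 0 * (h.el i 0)⁻¹, Subgroup.eq_of_le_of_card_ge ?_ ?_⟩
  · rintro _ ⟨a, ha, rfl⟩
    have ha' : a ∈ (T₁ : Set S) := ha
    rw [e₁] at ha'
    show _ ∈ (T₂ : Set S)
    rw [e₂]
    have hw : ∀ s : S, s * h.el (hh n) (hh n) * s⁻¹ = h.el (hh n) (hh n) := fun s =>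
      h.w_central (Subgroup.mem_zpowers _) s
    have ht : MulAut.conj (h.el k 0 * (h.el i 0)⁻¹) (h.el i j * z) = h.el k l * z := by
      rw [MulAut.conj_apply, ← h.conj_z_el hij, ← h.conj_z_el hkl]
      group
    rcases ha' with rfl | rfl | rfl | rfl <;> simp only [MulEquiv.coe_toMonoidHom]
    · simp
    · exact .inr (.inl (hw _))
    · exact .inr (.inr (.inl ht))
    · refine .inr (.inr (.inr ?_))
      rw [Set.mem_singleton_iff, map_mul, ht, MulAut.conj_apply, hw]
  · rw [Subgroup.card_map_of_injective (MulAut.conj _).injective, IsKleinFour.card_four, IsKleinFour.card_four]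

theorem exists_other_four (h : WR S n x y z) : ∃ T₀ : Subgroup S, IsKleinFour T₀ ∧ T₀ ≠ h.four := by
  have := h.finite
  let V := twoExt (Subgroup.zpowers (h.el (hh n) (hh n))) z
    (fun b hb => by rw [h.w_central hb]; exact hb) (h.z_mul_self ▸ one_mem _)
  have hz : z ∉ Subgroup.zpowers (h.el (hh n) (hh n)) := fun hm =>
    h.z_notMem ((Subgroup.zpowers_le.mpr (h.el_mem_base _ _)) hm)
  have hc : Nat.card V = 4 := by rw [card_twoExt hz, Nat.card_zpowers, h.orderOf_w]
  refine ⟨V, ⟨hc, ?_⟩, fun he => h.z_notMem ?_⟩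
  · have hb : ∀ b ∈ Subgroup.zpowers (h.el (hh n) (hh n)), b * b = 1 := fun b hb => by
      obtain ⟨k, rfl⟩ := Subgroup.mem_zpowers_iff.mp hb
      rw [h.el_zpow, h.el_mul, h.el_eq_one]
      exact ⟨⟨k, by ring⟩, ⟨k, by ring⟩⟩
    have hsq : ∀ v : V, v ^ 2 = 1 := by
      rintro ⟨v, hv | hv⟩ <;> refine Subtype.ext ?_ <;> rw [SubgroupClass.coe_pow, pow_two, Subgroup.coe_one]
      · exact hb v hv
      · have hc' := h.w_central hv z
        rw [h.z_inv] at hv hc'
        calc v * v = v * z * (z * (v * z) * z) * (z * z) := by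
              simp only [mul_assoc, h.z_mul_self, mul_one]
              rw [← mul_assoc z z, h.z_mul_self, one_mul]
          _ = v * z * (v * z) := by rw [hc', h.z_mul_self, mul_one]
          _ = 1 := hb _ hv
    refine ((Nat.dvd_prime Nat.prime_two).mp (Monoid.exponent_dvd_of_forall_pow_eq_one hsq)).resolve_left
      fun h1 => ?_
    have h2 := Monoid.pow_exponent_eq_one (⟨z, self_mem_twoExt⟩ : V)
    rw [h1, pow_one] at h2
    have e : orderOf z = 1 := orderOf_eq_one_iff.mpr (congrArg Subtype.val h2)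
    rw [h.oz] at e
    omega
  · have hzV : z ∈ h.four := he ▸ (show z ∈ V from self_mem_twoExt)
    exact hzV.1

/-- The anti-diagonal. -/
abbrev anti (h : WR S n x y z) : Subgroup S := Subgroup.zpowers (h.el 1 (-1))

theorem mem_anti (h : WR S n x y z) {i j : ℤ} : h.el i j ∈ h.anti ↔ 2 * hh n ∣ i + j := by
  rw [Subgroup.mem_zpowers_iff]
  constructor
  · rintro ⟨k, hk⟩
    rw [h.el_zpow, h.el_eq] at hk
    obtain ⟨⟨c, hc⟩, ⟨d, hd⟩⟩ := hk
    exact ⟨-c - d, by linarith⟩
  · rintro ⟨c, hc⟩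
    refine ⟨i, ?_⟩
    rw [h.el_zpow, h.el_eq]
    exact ⟨⟨0, by ring⟩, ⟨-c, by linarith⟩⟩

theorem z_conj_anti (h : WR S n x y z) {b : S} (hb : b ∈ h.anti) : z * b * z⁻¹ = b⁻¹ := by
  obtain ⟨k, rfl⟩ := Subgroup.mem_zpowers_iff.mp hb
  rw [h.el_zpow, h.z_conj_el, h.el_inv]
  congr 1 <;> ring

/-- The quaternion subgroup of order `2 ^ (n + 1)`. -/
def bigQuat (h : WR S n x y z) : Subgroup S :=
  twoExt h.anti (h.el (hh n) 0 * z)
    (fun b hb => by
      rw [show h.el (hh n) 0 * z * b * (h.el (hh n) 0 * z)⁻¹ = h.el (hh n) 0 * (z * b * z⁻¹) * (h.el (hh n) 0)⁻¹ by group,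
        h.z_conj_anti hb]
      obtain ⟨k, rfl⟩ := Subgroup.mem_zpowers_iff.mp hb
      rw [h.el_zpow, h.el_inv (k * 1), h.conj_el, h.mem_anti]
      exact ⟨0, by ring⟩)
    (by rw [h.sq_el_z, h.mem_anti]; exact ⟨1, by ring⟩)

theorem card_bigQuat (h : WR S n x y z) : Nat.card h.bigQuat = 2 ^ (n + 1) := by
  have := h.finite
  rw [bigQuat, card_twoExt, Nat.card_zpowers, h.orderOf_el_of_left, ← pow_succ']
  exact fun hm => h.el_z_notMem _ _ ((Subgroup.zpowers_le.mpr (h.el_mem_base _ _)) hm)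

theorem bigQuat_normal (h : WR S n x y z) : h.bigQuat.Normal := by
  have := h.finite
  have ha : h.anti.Normal := by
    rw [anti, ← h.commutator_eq]
    infer_instance
  refine ⟨fun s hs g => ?_⟩
  have key : g * (h.el (hh n) 0 * z) * g⁻¹ * (h.el (hh n) 0 * z)⁻¹ ∈ h.anti := by
    rw [anti, ← h.commutator_eq, commutator_def]
    exact Subgroup.commutator_mem_commutator (Subgroup.mem_top _) (Subgroup.mem_top _)
  rcases hs with hs | hs
  · exact .inl (ha.conj_mem _ hs g)
  · refine .inr ?_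
    have := mul_mem (ha.conj_mem _ hs g) key
    simpa [mul_assoc] using this

theorem bigQuat_equiv (h : WR S n x y z) :
    Nonempty (h.bigQuat ≃* QuaternionGroup (2 ^ (n - 1))) := by
  have := h.finite
  have hn := h.hn
  have hord : orderOf (h.el 1 (-1)) = 2 * 2 ^ (n - 1) := by
    rw [h.orderOf_el_of_left, ← pow_succ', show n - 1 + 1 = n by omega]
  have ha : h.el 1 (-1) ∈ h.bigQuat := le_twoExt (Subgroup.mem_zpowers _)
  refine Transfer.MaxClass.nonempty_quaternion (m := 2 ^ (n - 1)) (by positivity)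
    (a := (⟨h.el 1 (-1), ha⟩ : h.bigQuat)) (x := (⟨h.el (hh n) 0 * z, self_mem_twoExt⟩ : h.bigQuat)) ?_ ?_ ?_ ?_ ?_
  · rw [Subgroup.orderOf_mk]; exact hord
  · have h1 := (Subgroup.zpowers (⟨h.el 1 (-1), ha⟩ : h.bigQuat)).card_mul_index
    rw [Nat.card_zpowers, Subgroup.orderOf_mk, h.card_bigQuat, h.orderOf_el_of_left, pow_succ] at h1
    exact Nat.eq_of_mul_eq_mul_left (by positivity) h1
  · intro hm
    obtain ⟨k, hk⟩ := Subgroup.mem_zpowers_iff.mp hm
    have := congrArg Subtype.val hk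
    rw [Subgroup.coe_zpow, h.el_zpow] at this
    exact h.el_z_ne _ _ _ _ this.symm
  · refine Subtype.ext ?_
    rw [Subgroup.coe_mul, SubgroupClass.coe_pow, h.sq_el_z, ← zpow_natCast, h.el_zpow, h.el_eq]
    push_cast
    exact ⟨⟨0, by rw [hh]; ring⟩, ⟨1, by rw [hh]; ring⟩⟩
  · refine Subtype.ext ?_
    rw [Subgroup.coe_mul, Subgroup.coe_mul, Subgroup.coe_inv, Subgroup.coe_inv,
      show h.el (hh n) 0 * z * h.el 1 (-1) * (h.el (hh n) 0 * z)⁻¹ =
        h.el (hh n) 0 * (z * h.el 1 (-1) * z⁻¹) * (h.el (hh n) 0)⁻¹ by group,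
      h.z_conj_el, h.conj_el, h.el_inv]
    congr 1

theorem eq_bigQuat (h : WR S n x y z) {Y : Subgroup S} (hc : Nat.card Y = 2 ^ (n + 1))
    (e : Y ≃* QuaternionGroup (2 ^ (n - 1))) : Y = h.bigQuat := by
  have := h.finite
  have hn := h.hn
  set m := 2 ^ (n - 1) with hm
  have hm2 : 2 ≤ m := by rw [hm]; calc 2 = 2 ^ 1 := rfl
                                      _ ≤ _ := Nat.pow_le_pow_right two_pos (by omega)
  haveI : NeZero m := ⟨by omega⟩
  -- the only involution of `Y`, and its centre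
  have F1 : ∀ q : QuaternionGroup m, q * q = 1 → q = 1 ∨ q = QuaternionGroup.a (m : ZMod (2 * m)) := by
    rintro (q | q) hq
    · rw [QuaternionGroup.a_mul_a, QuaternionGroup.one_def] at hq
      have h1 : q + q = 0 := QuaternionGroup.a.inj hq
      have hv := congrArg ZMod.val h1
      rw [ZMod.val_add, ZMod.val_zero] at hv
      have hlt := q.val_lt
      rcases Nat.lt_or_ge (q.val + q.val) (2 * m) with h2 | h2
      · rw [Nat.mod_eq_of_lt h2] at hv
        left
        rw [QuaternionGroup.one_def, (ZMod.val_eq_zero q).mp (by omega)]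
      · rw [Nat.mod_eq_sub_mod h2, Nat.mod_eq_of_lt (by omega)] at hv
        right
        congr 1
        rw [← ZMod.natCast_zmod_val q]
        congr 1; omega
    · rw [QuaternionGroup.xa_mul_xa, QuaternionGroup.one_def] at hq
      have h1 : ((m : ℕ) : ZMod (2 * m)) = 0 := by
        have := QuaternionGroup.a.inj hq
        simpa using this
      rw [ZMod.natCast_eq_zero_iff] at h1
      have := Nat.le_of_dvd (by omega) h1
      omega
  have F2 : ∀ q : QuaternionGroup m, (∀ u, u * q = q * u) → q * q = 1 := by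
    rintro (q | q) hq
    · have := hq (QuaternionGroup.xa 0)
      rw [QuaternionGroup.xa_mul_a, QuaternionGroup.a_mul_xa] at this
      have h1 : (0 : ZMod (2 * m)) + q = 0 - q := by simpa using this
      rw [QuaternionGroup.a_mul_a, QuaternionGroup.one_def]
      congr 1
      rw [zero_add, zero_sub] at h1
      rw [h1, ← h1]; conv_lhs => arg 2; rw [h1]
      rw [add_neg_cancel]
    · have := hq (QuaternionGroup.a 1)
      rw [QuaternionGroup.a_mul_xa, QuaternionGroup.xa_mul_a] at this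
      have h1 : q - (1 : ZMod (2 * m)) = q + 1 := by simpa using this
      have h2 : ((2 : ℕ) : ZMod (2 * m)) = 0 := by push_cast; linear_combination -h1
      rw [ZMod.natCast_eq_zero_iff] at h2
      have := Nat.le_of_dvd two_pos h2
      omega
  have hinv : ∀ a ∈ Y, a * a = 1 → ∀ b ∈ Y, b * b = 1 → a ≠ 1 → b ≠ 1 → a = b := by
    intro a ha ha2 b hb hb2 ha1 hb1
    have ea := (F1 (e ⟨a, ha⟩) (by rw [← map_mul, show (⟨a, ha⟩ : Y) * ⟨a, ha⟩ = 1 from Subtype.ext ha2, map_one])).resolve_left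
      fun he => ha1 (congrArg Subtype.val ((map_eq_one_iff e e.injective).mp he))
    have eb := (F1 (e ⟨b, hb⟩) (by rw [← map_mul, show (⟨b, hb⟩ : Y) * ⟨b, hb⟩ = 1 from Subtype.ext hb2, map_one])).resolve_left
      fun he => hb1 (congrArg Subtype.val ((map_eq_one_iff e e.injective).mp he))
    exact congrArg Subtype.val (e.injective (ea.trans eb.symm))
  have hcen : ∀ a ∈ Y, (∀ u ∈ Y, u * a = a * u) → a * a = 1 := by
    intro a ha hu
    have h1 := F2 (e ⟨a, ha⟩) fun u => by
      obtain ⟨⟨v, hv⟩, rfl⟩ := e.surjective u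
      rw [← map_mul, ← map_mul]
      exact congrArg e (Subtype.ext (hu v hv))
    rw [← map_mul] at h1
    exact congrArg Subtype.val ((map_eq_one_iff e e.injective).mp h1)
  have hnab : ¬ Y ≤ h.base := fun hle => by
    have hcm : ∀ a ∈ Y, a * a = 1 := fun a ha => hcen a ha fun u hu => h.base_comm (hle hu) (hle ha)
    have h1 := hcm _ (e.symm (QuaternionGroup.a 1)).2
    rw [← Subgroup.coe_mul, ← map_mul] at h1
    have h2 : QuaternionGroup.a 1 * QuaternionGroup.a 1 = (1 : QuaternionGroup m) := by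
      have := congrArg e (Subtype.ext h1 : e.symm _ = 1)
      rwa [e.apply_symm_apply, map_one] at this
    rw [QuaternionGroup.a_mul_a, QuaternionGroup.one_def] at h2
    have h3 : ((2 : ℕ) : ZMod (2 * m)) = 0 := by
      have : (1 : ZMod (2 * m)) + 1 = 0 := QuaternionGroup.a.inj h2
      push_cast; linear_combination this
    rw [ZMod.natCast_eq_zero_iff] at h3
    have := Nat.le_of_dvd two_pos h3
    omega
  obtain ⟨t, ht, htb⟩ := SetLike.not_le_iff_exists.mp hnab
  obtain ⟨i, j, rfl | rfl⟩ := h.cases' t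
  · exact absurd (h.el_mem_base i j) htb
  -- squares of elements outside the base
  have hout : ∀ k l : ℤ, h.el k l * z ∈ Y → 2 * hh n ∣ k + l - hh n := by
    intro k l hkl
    have hne : ¬ 2 * hh n ∣ k + l := by
      intro hd
      have hw : h.el (hh n) (hh n) ≠ 1 := fun h1 => by
        have := h.orderOf_w; rw [h1, orderOf_one] at this; omega
      have hz1 : h.el k l * z ≠ 1 := fun h1 => h.el_z_notMem k l (h1 ▸ one_mem _)
      have hu := hinv _ hkl (h.sq_el_z_eq_one.mpr hd)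
      obtain ⟨c, ⟨hcY, hcb⟩, hc2⟩ : ∃ c ∈ Y ⊓ h.base, orderOf c = 2 := by
        have h2 : 2 ∣ Nat.card ↥(Y ⊓ h.base : Subgroup S) := by
          have h4 := Subgroup.card_mul_index ((Y ⊓ h.base).subgroupOf Y)
          rw [Nat.card_congr (Subgroup.subgroupOfEquivOfLe (inf_le_left : Y ⊓ h.base ≤ Y)).toEquiv, hc,
            show ((Y ⊓ h.base).subgroupOf Y).index = 2 from ?_, pow_succ] at h4
          · rw [Nat.eq_of_mul_eq_mul_right two_pos h4]
            exact dvd_pow_self 2 (by omega)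
          · have := Subgroup.normal_of_index_eq_two h.index_base
            have h5 : ((Y ⊓ h.base).subgroupOf Y).index ∣ 2 := by
              rw [← Subgroup.relIndex, Subgroup.inf_relIndex_left, ← h.index_base]
              exact Subgroup.relIndex_dvd_index_of_normal h.base Y
            refine ((Nat.dvd_prime Nat.prime_two).mp h5).resolve_left fun h6 => hnab ?_
            rw [← Subgroup.relIndex, Subgroup.inf_relIndex_left] at h6
            exact Subgroup.relIndex_eq_one.mp h6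
        obtain ⟨c, hc⟩ := exists_prime_orderOf_dvd_card' (G := ↥(Y ⊓ h.base : Subgroup S)) 2 h2
        exact ⟨c, c.2, by rwa [Subgroup.orderOf_coe]⟩
      refine h.el_z_notMem k l ?_
      rw [hu c hcY (by rw [← pow_two, ← hc2, pow_orderOf_eq_one]) hz1
        (fun h1 => by rw [h1, orderOf_one] at hc2; omega)]
      exact hcb
    have h1 := hcen _ (mul_mem hkl hkl) ?_
    · rw [h.sq_el_z, h.el_mul, h.el_eq_one] at h1
      obtain ⟨c, hc⟩ := h1.1
      rcases Int.even_or_odd c with ⟨d, rfl⟩ | ⟨d, rfl⟩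
      · exact absurd ⟨d, by linarith⟩ hne
      · exact ⟨d, by linarith⟩
    · intro u hu
      rw [h.sq_el_z]
      exact h.el_diag_central _ u
  have hin : ∀ k l : ℤ, h.el k l ∈ Y → 2 * hh n ∣ k + l := by
    intro k l hkl
    have h1 := hout (i + k) (j + l) (by
      rw [← h.el_mul, mul_assoc]
      have h2 := mul_mem hkl ht
      rwa [← mul_assoc, h.el_comm k l i j, mul_assoc] at h2)
    obtain ⟨c, hc⟩ := h1
    obtain ⟨d, hd⟩ := hout i j ht
    exact ⟨c - d, by linarith⟩
  refine Subgroup.eq_of_le_of_card_ge ?_ (by rw [h.card_bigQuat, hc])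
  intro s hs
  obtain ⟨k, l, rfl | rfl⟩ := h.cases' s
  · exact .inl (h.mem_anti.mpr (hin k l hs))
  · refine .inr ?_
    obtain ⟨c, hc⟩ := hout k l hs
    rw [mul_inv_rev, mul_assoc, ← mul_assoc z, mul_inv_cancel, one_mul, h.el_inv, h.el_mul, h.mem_anti]
    exact ⟨c, by linarith⟩

/-- The closure of the involutions. -/
theorem closure_involutions (h : WR S n x y z) :
    Nat.card (Subgroup.closure {s : S | orderOf s = 2}) = 2 ^ (n + 2) ∧
      Subgroup.closure {s : S | orderOf s = 2} ⊔ Subgroup.zpowers x = ⊤ := by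
  have := h.finite
  have hs2 : h.el (hh n) 0 * h.el (hh n) 0 = 1 := by rw [← pow_two, ← h.orderOf_half, pow_orderOf_eq_one]
  let B := twoExt h.anti (h.el (hh n) 0) (fun b hb => by
      obtain ⟨k, rfl⟩ := Subgroup.mem_zpowers_iff.mp hb
      rw [h.el_zpow, h.conj_el, ← h.el_zpow]
      exact Subgroup.zpow_mem _ (Subgroup.mem_zpowers _) k) (hs2 ▸ one_mem _)
  have hBb : B ≤ h.base := by
    rintro b (hb | hb)
    · exact (Subgroup.zpowers_le.mpr (h.el_mem_base _ _)) hb
    · have := mul_mem ((Subgroup.zpowers_le.mpr (h.el_mem_base 1 (-1))) hb) (h.el_mem_base (hh n) 0)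
      rwa [inv_mul_cancel_right] at this
  have hmB : ∀ {i j : ℤ}, hh n ∣ i + j → h.el i j ∈ B := by
    rintro i j ⟨c, hc⟩
    rcases Int.even_or_odd c with ⟨d, rfl⟩ | ⟨d, rfl⟩
    · exact .inl (h.mem_anti.mpr ⟨d, by linarith⟩)
    · refine .inr ?_
      rw [h.el_inv, h.el_mul, h.mem_anti]
      exact ⟨d, by linarith⟩
  let I := twoExt B z (fun b hb => by
      rcases hb with hb | hb
      · refine .inl ?_
        rw [h.z_conj_anti hb]; exact inv_mem hb
      · obtain ⟨i, j, rfl⟩ := hBb (.inr hb : b ∈ B)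
        rw [h.z_conj_el]
        rw [h.el_inv, h.el_mul, h.mem_anti] at hb
        obtain ⟨c, hc⟩ := hb
        exact hmB ⟨2 * c + 1, by linarith⟩) (h.z_mul_self ▸ one_mem _)
  have hnm : h.el (hh n) 0 ∉ h.anti := by
    rw [h.mem_anti]
    rintro ⟨c, hc⟩
    have : hh n * (2 * c - 1) = 0 := by linarith
    rcases mul_eq_zero.mp this with h0 | h0
    · exact h.hh_pos.ne' h0
    · omega
  have hI : Nat.card I = 2 ^ (n + 2) := by
    rw [card_twoExt (fun hm => h.z_notMem (hBb hm)), card_twoExt hnm, Nat.card_zpowers,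
      h.orderOf_el_of_left, pow_succ', pow_succ']
  have heq : Subgroup.closure {s : S | orderOf s = 2} = I := by
    refine le_antisymm ((Subgroup.closure_le _).mpr ?_) ?_
    · intro s hs
      rcases h.involution_cases hs with rfl | rfl | rfl | ⟨i, j, hij, rfl⟩
      · exact .inl (hmB ⟨2, by ring⟩)
      · exact .inl (hmB ⟨1, by ring⟩)
      · exact .inl (hmB ⟨1, by ring⟩)
      · refine .inr (.inl ?_)
        rw [mul_inv_cancel_right]
        exact h.mem_anti.mpr hij
    · have hz : z ∈ Subgroup.closure {s : S | orderOf s = 2} := Subgroup.subset_closure h.oz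
      have hanti : h.anti ≤ Subgroup.closure {s : S | orderOf s = 2} := by
        rw [Subgroup.zpowers_le]
        have ho : orderOf (h.el 1 (-1) * z) = 2 := by
          refine orderOf_eq_prime ?_ fun h1 => h.el_z_notMem _ _ (h1 ▸ one_mem _)
          rw [pow_two, h.sq_el_z_eq_one]; exact ⟨0, by ring⟩
        have hmem : h.el 1 (-1) * z ∈ Subgroup.closure {s : S | orderOf s = 2} := Subgroup.subset_closure ho
        have := mul_mem hmem hz
        rwa [mul_assoc, h.z_mul_self, mul_one] at this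
      have hxh : h.el (hh n) 0 ∈ Subgroup.closure {s : S | orderOf s = 2} :=
        Subgroup.subset_closure h.orderOf_half
      have hB : B ≤ Subgroup.closure {s : S | orderOf s = 2} := by
        rintro b (hb | hb)
        · exact hanti hb
        · have := mul_mem (hanti hb) hxh
          rwa [inv_mul_cancel_right] at this
      rintro s (hs | hs)
      · exact hB hs
      · have := mul_mem (hB hs) hz
        rwa [inv_mul_cancel_right] at this
  refine ⟨heq ▸ hI, eq_top_iff.mpr fun s _ => ?_⟩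
  set C := Subgroup.closure {s : S | orderOf s = 2} ⊔ Subgroup.zpowers x with hC
  have hx : x ∈ C := Subgroup.mem_sup_right (Subgroup.mem_zpowers x)
  have hz : z ∈ C := Subgroup.mem_sup_left (Subgroup.subset_closure h.oz)
  have hy : y ∈ C := h.conj ▸ mul_mem (mul_mem hz hx) (inv_mem hz)
  obtain ⟨i, j, rfl | rfl⟩ := h.cases' s
  · exact mul_mem (zpow_mem hx i) (zpow_mem hy j)
  · exact mul_mem (mul_mem (zpow_mem hx i) (zpow_mem hy j)) hz

theorem center_le (h : WR S n x y z) {X : Subgroup S} (hX : ¬ IsMulCommutative X) :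
    (Subgroup.center X).map X.subtype ≤ Subgroup.center S := by
  rintro _ ⟨⟨c, hcX⟩, hc, rfl⟩
  have hcom : ∀ u ∈ X, u * c = c * u := fun u hu =>
    congrArg Subtype.val (Subgroup.mem_center_iff.mp hc ⟨u, hu⟩)
  show c ∈ Subgroup.center S
  have hout : ∃ t ∈ X, t ∉ h.base := by
    by_contra hcon
    push Not at hcon
    exact hX ⟨⟨fun a b => Subtype.ext (h.base_comm (hcon a a.2) (hcon b b.2))⟩⟩
  obtain ⟨t, ht, htb⟩ := hout
  obtain ⟨i, j, rfl | rfl⟩ := h.cases' t
  · exact absurd (h.el_mem_base i j) htb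
  obtain ⟨k, l, rfl | rfl⟩ := h.cases' c
  · exact h.mem_center_el.mpr (h.commute_el_z_el (hcom _ ht))
  exfalso
  refine hX ⟨⟨fun a b => Subtype.ext ?_⟩⟩
  have key : ∀ a ∈ X, ∃ d ∈ Subgroup.center S, a = d ∨ a = d * (h.el k l * z) := by
    intro a ha
    obtain ⟨p, q, rfl | rfl⟩ := h.cases' a
    · exact ⟨_, h.mem_center_el.mpr (h.commute_el_z_el (hcom _ ha).symm), .inl rfl⟩
    · have hm : h.el (p - k) (q - l) ∈ X := by
        have := mul_mem ha (inv_mem hcX)
        rwa [mul_inv_rev, mul_assoc, ← mul_assoc z, mul_inv_cancel, one_mul, h.el_inv, h.el_mul,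
          ← sub_eq_add_neg, ← sub_eq_add_neg] at this
      refine ⟨_, h.mem_center_el.mpr (h.commute_el_z_el (hcom _ hm).symm), .inr ?_⟩
      rw [← mul_assoc, h.el_mul, sub_add_cancel, sub_add_cancel]
  obtain ⟨d, hd, h1⟩ := key a a.2
  obtain ⟨d', hd', h2⟩ := key b b.2
  have cd := Subgroup.mem_center_iff.mp hd
  have cd' := Subgroup.mem_center_iff.mp hd'
  rw [Subgroup.coe_mul, Subgroup.coe_mul]
  rcases h1 with h1 | h1 <;> rcases h2 with h2 | h2 <;> rw [h1, h2]
  · exact cd' d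
  · exact (cd _).symm
  · exact cd' _
  · calc d * (h.el k l * z) * (d' * (h.el k l * z)) = d * (h.el k l * z * d') * (h.el k l * z) := by group
      _ = d * d' * (h.el k l * z * (h.el k l * z)) := by rw [cd' (h.el k l * z)]; group
      _ = d' * d * (h.el k l * z * (h.el k l * z)) := by rw [cd' d]
      _ = d' * (d * (h.el k l * z)) * (h.el k l * z) := by group
      _ = d' * (h.el k l * z * d) * (h.el k l * z) := by rw [cd (h.el k l * z)]
      _ = d' * (h.el k l * z) * (d * (h.el k l * z)) := by group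

end Cfsg.Agent.Invol.WR
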