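import Mathlib
import Cfsg.Agent.Lib.Invol.WreathedSubgroups
import Cfsg.Agent.Lib.Invol.OddAut

/-!
# Self-centralizing subgroups of wreathed groups with an automorphism of odd order
-/

namespace Cfsg.Agent.Invol.WR

variable {S : Type*} [Group S] {n : ℕ} {x y z : S}

/-- The subgroup given by a congruence on the difference of the exponents. -/
def slope (h : WR S n x y z) (d e : ℤ) (_hd : d ∣ 2 * hh n) : Subgroup S where
  carrier := {s | ∃ i j, (s = h.el i j ∧ d ∣ i - j) ∨ (s = h.el i j * z ∧ d ∣ i - j - e)}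
  one_mem' := ⟨0, 0, .inl ⟨h.el_zero.symm, by simp⟩⟩
  mul_mem' := by
    rintro a b ⟨i, j, ⟨rfl, c, hc⟩ | ⟨rfl, c, hc⟩⟩ ⟨k, l, ⟨rfl, c', hc'⟩ | ⟨rfl, c', hc'⟩⟩
    · exact ⟨_, _, .inl ⟨h.el_mul i j k l, c + c', by linarith⟩⟩
    · exact ⟨_, _, .inr ⟨by rw [← mul_assoc, h.el_mul], c + c', by linarith⟩⟩
    · exact ⟨_, _, .inr ⟨h.el_z_mul_el i j k l, c - c', by linarith⟩⟩
    · exact ⟨_, _, .inl ⟨h.el_z_mul i j k l, c - c', by linarith⟩⟩
  inv_mem' := by
    rintro a ⟨i, j, ⟨rfl, c, hc⟩ | ⟨rfl, c, hc⟩⟩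
    · exact ⟨_, _, .inl ⟨h.el_inv i j, -c, by linarith⟩⟩
    · refine ⟨-j, -i, .inr ⟨inv_eq_of_mul_eq_one_right ?_, c, by linarith⟩⟩
      rw [h.el_z_mul, h.el_eq_one]
      exact ⟨⟨0, by ring⟩, ⟨0, by ring⟩⟩

variable {d e : ℤ}

theorem el_mem_slope (h : WR S n x y z) (hd : d ∣ 2 * hh n) {i j : ℤ} :
    h.el i j ∈ h.slope d e hd ↔ d ∣ i - j := by
  constructor
  · rintro ⟨k, l, ⟨he, c, hc⟩ | ⟨he, -⟩⟩
    · obtain ⟨⟨a, ha⟩, ⟨b, hb⟩⟩ := h.el_eq.mp he
      obtain ⟨u, hu⟩ := hd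
      exact ⟨u * a - u * b + c, by linear_combination ha - hb + hc + (a - b) * hu⟩
    · exact absurd he.symm (h.el_z_ne _ _ _ _)
  · exact fun hij => ⟨i, j, .inl ⟨rfl, hij⟩⟩

theorem el_z_mem_slope (h : WR S n x y z) (hd : d ∣ 2 * hh n) {i j : ℤ} :
    h.el i j * z ∈ h.slope d e hd ↔ d ∣ i - j - e := by
  constructor
  · rintro ⟨k, l, ⟨he, -⟩ | ⟨he, c, hc⟩⟩
    · exact absurd he (h.el_z_ne _ _ _ _)
    · obtain ⟨⟨a, ha⟩, ⟨b, hb⟩⟩ := h.el_eq.mp (mul_right_cancel he)
      obtain ⟨u, hu⟩ := hd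
      exact ⟨u * a - u * b + c, by linear_combination ha - hb + hc + (a - b) * hu⟩
  · exact fun hij => ⟨i, j, .inr ⟨rfl, hij⟩⟩

theorem center_le_slope (h : WR S n x y z) (hd : d ∣ 2 * hh n) :
    Subgroup.center S ≤ h.slope d e hd := by
  rw [h.center_eq, Subgroup.zpowers_le, h.el_mem_slope]
  simp

theorem map_conj_el_slope (h : WR S n x y z) (hd : d ∣ 2 * hh n) (a b : ℤ) :
    (h.slope d e hd).map (MulAut.conj (h.el a b)).toMonoidHom = h.slope d (e + 2 * (a - b)) hd := by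
  ext s
  rw [Subgroup.mem_map_equiv, MulAut.conj_symm_apply]
  obtain ⟨i, j, rfl | rfl⟩ := h.cases' s
  · rw [h.el_inv, h.el_mul, h.el_mul, h.el_mem_slope, h.el_mem_slope,
      show -a + i + a - (-b + j + b) = i - j by ring]
  · rw [h.el_inv, ← mul_assoc, h.el_mul, h.el_z_mul_el, h.el_z_mem_slope, h.el_z_mem_slope,
      show -a + i + b - (-b + j + a) - e = i - j - (e + 2 * (a - b)) by ring]

theorem slope_congr (h : WR S n x y z) (hd : d ∣ 2 * hh n) {e' : ℤ} (he : d ∣ e' - e) :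
    h.slope d e hd = h.slope d e' hd := by
  obtain ⟨u, hu⟩ := he
  ext s
  obtain ⟨i, j, rfl | rfl⟩ := h.cases' s
  · rw [h.el_mem_slope, h.el_mem_slope]
  · rw [h.el_z_mem_slope, h.el_z_mem_slope]
    constructor <;> rintro ⟨c, hc⟩
    · exact ⟨c - u, by linear_combination hc - hu⟩
    · exact ⟨c + u, by linear_combination hc + hu⟩

theorem mem_normalizer_slope (h : WR S n x y z) (hd : 2 * d ∣ 2 * hh n) (s : S) :
    s ∈ Subgroup.normalizer ((h.slope (2 * d) e hd : Subgroup S) : Set S) ↔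
      s ∈ h.slope d e (dvd_trans (dvd_mul_left d 2) hd) := by
  have := h.finite
  have hz : ∀ i j, h.el i j * z ∈ h.slope (2 * d) e hd → h.el i j * z ∈
      Subgroup.normalizer ((h.slope (2 * d) e hd : Subgroup S) : Set S) := fun i j hm =>
    Subgroup.le_normalizer hm
  have hbase : ∀ a b : ℤ, h.el a b ∈ Subgroup.normalizer ((h.slope (2 * d) e hd : Subgroup S) : Set S) ↔
      d ∣ a - b := by
    intro a b
    constructor
    · intro hm
      have h0 : h.el e 0 * z ∈ h.slope (2 * d) e hd := by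
        rw [h.el_z_mem_slope]; simp
      have h1 := (Subgroup.mem_normalizer_iff.mp hm _).mp h0
      rw [h.conj_el_z] at h1
      obtain ⟨c, hc⟩ := (h.el_z_mem_slope hd).mp h1
      exact ⟨c, by linarith⟩
    · rintro ⟨c, hc⟩
      refine Subgroup.mem_normalizer_fintype fun t ht => ?_
      have h1 := h.map_conj_el_slope (e := e) hd a b
      rw [h.slope_congr hd (e := e + 2 * (a - b)) (e' := e) ⟨-c, by linarith⟩] at h1
      rw [SetLike.mem_coe, ← h1]
      exact ⟨t, ht, rfl⟩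
  obtain ⟨i, j, rfl | rfl⟩ := h.cases' s
  · rw [hbase, h.el_mem_slope]
  · have h0 : h.el e 0 * z ∈ h.slope (2 * d) e hd := by
      rw [h.el_z_mem_slope]; simp
    rw [h.el_z_mem_slope, show h.el i j * z = h.el (i - e) j * (h.el e 0 * z) by
        rw [← mul_assoc, h.el_mul, sub_add_cancel, add_zero],
      mul_mem_cancel_right (Subgroup.le_normalizer h0), hbase,
      show i - e - j = i - j - e by ring]

theorem relIndex_slope (h : WR S n x y z) (hd : 2 * d ∣ 2 * hh n) :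
    (h.slope (2 * d) e hd).relIndex
      (h.slope d e (dvd_trans (dvd_mul_left d 2) hd)) = 2 := by
  have hd0 : d ≠ 0 := by
    rintro rfl
    obtain ⟨c, hc⟩ := hd
    have := h.hh_pos
    linarith
  have hodd : ∀ w : ℤ, (2 * d ∣ d * w + d) ↔ ¬ (2 * d ∣ d * w) := by
    intro w
    rw [mul_comm 2 d, ← mul_add_one, mul_dvd_mul_iff_left hd0, mul_dvd_mul_iff_left hd0]
    omega
  rw [Subgroup.relIndex, Subgroup.index_eq_two_iff]
  refine ⟨⟨h.el d 0, (h.el_mem_slope _).mpr ⟨1, by ring⟩⟩, ?_⟩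
  rintro ⟨b, i, j, ⟨rfl, w, hw⟩ | ⟨rfl, w, hw⟩⟩ <;>
    simp only [Subgroup.mem_subgroupOf, Subgroup.coe_mul]
  · rw [h.el_mul, h.el_mem_slope, h.el_mem_slope, show i + d - (j + 0) = d * w + d by linarith,
      show i - j = d * w from hw, hodd]
    by_cases hc : 2 * d ∣ d * w
    · exact .inr ⟨hc, not_not.mpr hc⟩
    · exact .inl ⟨hc, hc⟩
  · rw [h.el_z_mul_el, h.el_z_mem_slope, h.el_z_mem_slope, show i - j - e = d * w from hw,
      show i + 0 - (j + d) - e = d * (w - 1) by linarith]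
    have := hodd (w - 1)
    rw [show d * (w - 1) + d = d * w by ring] at this
    by_cases hc : 2 * d ∣ d * (w - 1)
    · exact .inl ⟨hc, fun h' => this.mp h' hc⟩
    · exact .inr ⟨this.mpr hc, hc⟩

/-- The subgroup `Q ⊔ Z(S)` is a slope subgroup. -/
theorem quat8_cases (h : WR S n x y z) {Q : Subgroup S} (e : Q ≃* QuaternionGroup 2) :
    ∃ i j : ℤ, 2 * hh n ∣ i + j - hh n ∧ h.el i j * z ∈ Q ∧
      ∃ c : ℤ, 2 * c = hh n ∧ h.el c (-c) ∈ Q ∧
        Q ⊔ Subgroup.center S = h.slope (hh n) (i - j) (dvd_mul_left _ _) := by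
  have := h.finite
  have K1 : ∀ a b : QuaternionGroup 2, a * b ≠ b * a →
      b * a * b⁻¹ = a⁻¹ ∧ a * a = b * b ∧ (a * a) * (a * a) = 1 ∧ a * a ≠ 1 := by decide
  have K2 : ∃ a b : QuaternionGroup 2, a * b ≠ b * a := by decide
  have key : ∀ a b : S, a ∈ Q → b ∈ Q → a * b ≠ b * a →
      b * a * b⁻¹ = a⁻¹ ∧ a * a = b * b ∧ (a * a) * (a * a) = 1 ∧ a * a ≠ 1 := by
    intro a b ha hb hab
    obtain ⟨h1, h2, h3, h4⟩ := K1 (e ⟨a, ha⟩) (e ⟨b, hb⟩) fun he => by
      rw [← map_mul, ← map_mul] at he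
      exact hab (congrArg Subtype.val (e.injective he))
    simp only [← map_mul, ← map_inv] at h1 h2 h3 h4
    exact ⟨congrArg Subtype.val (e.injective h1), congrArg Subtype.val (e.injective h2),
      congrArg Subtype.val ((map_eq_one_iff e e.injective).mp h3),
      fun h5 => h4 ((map_eq_one_iff e e.injective).mpr (Subtype.ext h5))⟩
  obtain ⟨a₀, b₀, hab₀⟩ := K2
  have hnc : ((e.symm a₀ : Q) : S) * (e.symm b₀ : Q) ≠ (e.symm b₀ : Q) * (e.symm a₀ : Q) := by
    intro he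
    rw [← Subgroup.coe_mul, ← Subgroup.coe_mul, ← map_mul, ← map_mul] at he
    exact hab₀ (e.symm.injective (Subtype.ext he))
  -- an element outside the base and one inside not commuting with it
  obtain ⟨t, ht, htb, u, hu, hub, htu⟩ :
      ∃ t ∈ Q, t ∉ h.base ∧ ∃ u ∈ Q, u ∈ h.base ∧ t * u ≠ u * t := by
    by_cases ha : ((e.symm a₀ : Q) : S) ∈ h.base
    · by_cases hb : ((e.symm b₀ : Q) : S) ∈ h.base
      · exact absurd (h.base_comm ha hb) hnc
      · exact ⟨_, (e.symm b₀).2, hb, _, (e.symm a₀).2, ha, Ne.symm hnc⟩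
    · by_cases hb : ((e.symm b₀ : Q) : S) ∈ h.base
      · exact ⟨_, (e.symm a₀).2, ha, _, (e.symm b₀).2, hb, hnc⟩
      · refine ⟨_, (e.symm a₀).2, ha, _, mul_mem (e.symm a₀).2 (e.symm b₀).2,
          (Subgroup.mul_mem_iff_of_index_two h.index_base).2 (iff_of_false ha hb), fun he => hnc ?_⟩
        exact mul_left_cancel (he.trans (mul_assoc _ _ _))
  obtain ⟨i, j, rfl | rfl⟩ := h.cases' t
  · exact absurd (h.el_mem_base i j) htb
  obtain ⟨k, l, rfl⟩ := hub
  obtain ⟨h1, h2, h3, h4⟩ := key _ _ hu ht (Ne.symm htu)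
  rw [show h.el i j * z * h.el k l * (h.el i j * z)⁻¹ =
      h.el i j * (z * h.el k l * z⁻¹) * (h.el i j)⁻¹ by group, h.z_conj_el, h.conj_el, h.el_inv,
    h.el_eq] at h1
  obtain ⟨c₁, hc₁⟩ := h1.1
  rw [h.el_mul, h.el_mul, h.el_eq_one] at h3
  rw [h.el_mul, Ne, h.el_eq_one] at h4
  obtain ⟨⟨c₂, hc₂⟩, -⟩ := h3
  obtain ⟨c, hc⟩ := h.hh_even
  have hodd : ¬ 2 ∣ c₂ := by
    rintro ⟨v, rfl⟩
    exact h4 ⟨⟨v, by linarith⟩, ⟨2 * c₁ - v, by linarith⟩⟩
  have hkc : k = c * c₂ := by rw [hc] at hc₂; linarith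
  rw [h.el_mul, h.sq_el_z, h.el_eq] at h2
  obtain ⟨w, hw⟩ := h2.1
  obtain ⟨v, hv⟩ : ∃ v, c₂ = 2 * v + 1 := ⟨c₂ / 2, by omega⟩
  have hij : 2 * hh n ∣ i + j - hh n := ⟨v - w, by subst hkc hv; linear_combination -hw - (2 * v + 1) * hc⟩
  have hcm : h.el c (-c) ∈ Q := by
    have h5 := zpow_mem hu c₂
    rw [h.el_zpow] at h5
    have hsq : ∃ p, c₂ * c₂ - 1 = 4 * p := ⟨v * v + v, by subst hv; ring⟩
    obtain ⟨p, hp⟩ := hsq
    convert h5 using 1
    rw [h.el_eq, hc]
    exact ⟨⟨-p, by subst hkc; linear_combination (-c) * hp⟩,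
      ⟨p - c₂ * c₁, by subst hkc; linear_combination c * hp - c₂ * hc₁ + (-2 * c₁ * c₂) * hc⟩⟩
  refine ⟨i, j, hij, ht, c, hc.symm, hcm, le_antisymm (sup_le ?_ (h.center_le_slope _)) ?_⟩
  · have K3 : ∀ a b q : QuaternionGroup 2, a * b ≠ b * a → ∃ m r : Fin 4, q = a ^ (m : ℕ) * b ^ (r : ℕ) := by
      decide
    intro q hq
    obtain ⟨m, r, hmr⟩ := K3 (e ⟨_, hu⟩) (e ⟨_, ht⟩) (e ⟨q, hq⟩) fun he => by
      rw [← map_mul, ← map_mul] at he
      exact htu (congrArg Subtype.val (e.injective he)).symm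
    rw [← map_pow, ← map_pow, ← map_mul] at hmr
    rw [show q = h.el k l ^ (m : ℕ) * (h.el i j * z) ^ (r : ℕ) from congrArg Subtype.val (e.injective hmr)]
    refine mul_mem (pow_mem ((h.el_mem_slope _).mpr ⟨c₂ - 2 * c₁, ?_⟩) _)
      (pow_mem ((h.el_z_mem_slope _).mpr ⟨0, by ring⟩) _)
    subst hkc
    linear_combination (-1 : ℤ) * hc₁ - c₂ * hc
  · have hbase : ∀ a b : ℤ, hh n ∣ a - b → h.el a b ∈ Q ⊔ Subgroup.center S := by
      rintro a b ⟨w', hw'⟩
      have h5 : h.el (a - w' * c) (a - w' * c) ∈ Subgroup.center S :=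
        h.mem_center_el.mpr ⟨0, by ring⟩
      have h6 := mul_mem (Subgroup.mem_sup_left (T := Subgroup.center S) (zpow_mem hcm w'))
        (Subgroup.mem_sup_right (S := Q) h5)
      convert h6 using 1
      rw [h.el_zpow, h.el_mul, h.el_eq]
      exact ⟨⟨0, by ring⟩, ⟨0, by linear_combination (-1 : ℤ) * hw' + (-w') * hc⟩⟩
    rintro s ⟨a, b, ⟨rfl, hab⟩ | ⟨rfl, w', hw'⟩⟩
    · exact hbase a b hab
    · rw [show h.el a b * z = h.el (a - i) (b - j) * (h.el i j * z) by
        rw [← mul_assoc, h.el_mul, sub_add_cancel, sub_add_cancel]]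
      exact mul_mem (hbase _ _ ⟨w', by linarith⟩) (Subgroup.mem_sup_left ht)

/-- Every even slope subgroup is `Q ⊔ Z(S)`. -/
theorem exists_quat8 (h : WR S n x y z) (he : 2 ∣ e) :
    ∃ Q : Subgroup S, Nonempty (Q ≃* QuaternionGroup 2) ∧
      h.slope (hh n) e (dvd_mul_left _ _) = Q ⊔ Subgroup.center S := by
  have := h.finite
  obtain ⟨f, rfl⟩ := he
  obtain ⟨c, hc⟩ := h.hh_even
  have hsq : h.el (f + c) (c - f) * z * (h.el (f + c) (c - f) * z) ∈ Subgroup.zpowers (h.el c (-c)) := by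
    refine Subgroup.mem_zpowers_iff.mpr ⟨2, ?_⟩
    rw [h.el_zpow, h.sq_el_z, h.el_eq, hc]
    exact ⟨⟨0, by ring⟩, ⟨-1, by ring⟩⟩
  have hinv : ∀ b ∈ Subgroup.zpowers (h.el c (-c)),
      h.el (f + c) (c - f) * z * b * (h.el (f + c) (c - f) * z)⁻¹ = b⁻¹ := by
    intro b hb
    obtain ⟨m, rfl⟩ := Subgroup.mem_zpowers_iff.mp hb
    rw [h.el_zpow, show ∀ u v : S, u * z * v * (u * z)⁻¹ = u * (z * v * z⁻¹) * u⁻¹ by intros; group,
      h.z_conj_el, h.conj_el, h.el_inv]
    congr 1 <;> ring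
  have ho : orderOf (h.el c (-c)) = 4 := by
    rw [show (4 : ℕ) = 2 ^ (1 + 1) from rfl]
    refine orderOf_eq_prime_pow ?_ ?_ <;>
      rw [← zpow_natCast, h.el_zpow, h.el_eq_one, hc] <;> push_cast
    · rintro ⟨⟨w, hw⟩, -⟩
      have : c * (2 * w - 1) = 0 := by linarith
      rcases mul_eq_zero.mp this with h0 | h0
      · exact h.hh_pos.ne' (by rw [hc, h0, mul_zero])
      · omega
    · exact ⟨⟨1, by ring⟩, ⟨-1, by ring⟩⟩
  let Q := twoExt (Subgroup.zpowers (h.el c (-c))) (h.el (f + c) (c - f) * z)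
    (fun b hb => by rw [hinv b hb]; exact inv_mem hb) hsq
  have hnm : h.el (f + c) (c - f) * z ∉ Subgroup.zpowers (h.el c (-c)) := fun hm =>
    h.el_z_notMem _ _ ((Subgroup.zpowers_le.mpr (h.el_mem_base _ _)) hm)
  have ha : h.el c (-c) ∈ Q := le_twoExt (Subgroup.mem_zpowers _)
  have hiso : Nonempty (Q ≃* QuaternionGroup 2) := by
    refine Transfer.MaxClass.nonempty_quaternion (m := 2) two_pos (a := (⟨_, ha⟩ : Q))
      (x := (⟨_, self_mem_twoExt⟩ : Q)) ?_ ?_ ?_ ?_ ?_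
    · rw [Subgroup.orderOf_mk, ho]
    · have h1 := (Subgroup.zpowers (⟨_, ha⟩ : Q)).card_mul_index
      rw [Nat.card_zpowers, Subgroup.orderOf_mk, card_twoExt hnm, Nat.card_zpowers, ho] at h1
      omega
    · intro hm
      obtain ⟨m, hm⟩ := Subgroup.mem_zpowers_iff.mp hm
      have := congrArg Subtype.val hm
      rw [Subgroup.coe_zpow] at this
      exact hnm (Subgroup.mem_zpowers_iff.mpr ⟨m, this⟩)
    · refine Subtype.ext ?_
      rw [Subgroup.coe_mul, SubgroupClass.coe_pow, h.sq_el_z, ← zpow_natCast, h.el_zpow, h.el_eq, hc]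
      push_cast
      exact ⟨⟨0, by ring⟩, ⟨1, by ring⟩⟩
    · exact Subtype.ext (hinv _ (Subgroup.mem_zpowers _))
  refine ⟨Q, hiso, ?_⟩
  obtain ⟨i, j, -, hij, c', hc', -, heq⟩ := h.quat8_cases hiso.some
  rw [heq]
  refine h.slope_congr _ ?_
  have hc'' : hh n ∣ i - j - 2 * f := by
    rcases hij with hm | hm
    · exact absurd ((Subgroup.zpowers_le.mpr (h.el_mem_base _ _)) hm) (h.el_z_notMem i j)
    · rw [mul_inv_rev, mul_assoc, ← mul_assoc z, mul_inv_cancel, one_mul, h.el_inv, h.el_mul] at hm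
      obtain ⟨m, hm'⟩ := Subgroup.mem_zpowers_iff.mp hm
      rw [h.el_zpow, h.el_eq] at hm'
      obtain ⟨⟨p, hp⟩, ⟨r, hr⟩⟩ := hm'
      exact ⟨m - 2 * p + 2 * r, by linear_combination (-1 : ℤ) * hp + hr + (-m) * hc⟩
  exact hc''

theorem exists_slope_param (h : WR S n x y z) {X : Subgroup S} (hZ : Subgroup.center S ≤ X) {i j : ℤ}
    (ht : h.el i j * z ∈ X) :
    ∃ k : ℕ, k ≤ n ∧ ∃ hd : ((2 : ℤ) ^ k) ∣ 2 * hh n, X = h.slope (2 ^ k) (i - j) hd := by
  let D : AddSubgroup ℤ :=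
    { carrier := {w | h.el w 0 ∈ X}
      zero_mem' := by rw [Set.mem_ofPred_eq, h.el_zero]; exact one_mem X
      add_mem' := fun {a b} ha hb => by
        have ha' : h.el a 0 ∈ X := ha
        have hb' : h.el b 0 ∈ X := hb
        have := mul_mem ha' hb'
        rwa [h.el_mul, add_zero] at this
      neg_mem' := fun {a} ha => by
        have ha' : h.el a 0 ∈ X := ha
        have := inv_mem ha'
        rwa [h.el_inv, neg_zero] at this }
  obtain ⟨d, hd⟩ := Int.subgroup_cyclic D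
  have hmem : ∀ w : ℤ, h.el w 0 ∈ X ↔ d ∣ w := fun w => by
    rw [← Int.mem_zmultiples_iff, AddSubgroup.zmultiples_eq_closure, ← hd]; rfl
  have hpow : (2 * hh n : ℤ) = ((2 ^ n : ℕ) : ℤ) := by rw [← h.ox, h.orderOf_cast]
  have hdn : d.natAbs ∣ 2 ^ n := by
    have := (hmem (2 * hh n)).mp (by rw [h.el_eq_one.mpr ⟨dvd_rfl, dvd_zero _⟩]; exact one_mem X)
    rw [hpow] at this
    exact Int.natAbs_dvd_natAbs.mpr this
  obtain ⟨k, hk, hkd⟩ := (Nat.dvd_prime_pow Nat.prime_two).mp hdn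
  have hiff : ∀ w : ℤ, h.el w 0 ∈ X ↔ (2 : ℤ) ^ k ∣ w := fun w => by
    rw [hmem, ← Int.natAbs_dvd, hkd]
    push_cast
    rfl
  have hdiv : (2 : ℤ) ^ k ∣ 2 * hh n := by
    rw [hpow]; push_cast; exact pow_dvd_pow 2 hk
  refine ⟨k, hk, hdiv, ?_⟩
  have hel : ∀ a b : ℤ, h.el a b ∈ X ↔ (2 : ℤ) ^ k ∣ a - b := fun a b => by
    rw [← hiff, show h.el a b = h.el (a - b) 0 * h.el b b by rw [h.el_mul, sub_add_cancel, zero_add],
      mul_mem_cancel_right (hZ (h.mem_center_el.mpr ⟨0, by ring⟩))]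
  ext s
  obtain ⟨a, b, rfl | rfl⟩ := h.cases' s
  · rw [h.el_mem_slope, hel]
  · rw [h.el_z_mem_slope, show h.el a b * z = h.el (a - i) (b - j) * (h.el i j * z) by
      rw [← mul_assoc, h.el_mul, sub_add_cancel, sub_add_cancel], mul_mem_cancel_right ht, hel,
      show a - i - (b - j) = a - b - (i - j) by ring]

theorem abelian_not_base (h : WR S n x y z) {Y : Subgroup S}
    (hY : ∀ a ∈ Y, ∀ b ∈ Y, a * b = b * a) {i j : ℤ} (ht : h.el i j * z ∈ Y) :
    Nat.card Y ≤ 2 * 2 ^ n := by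
  have := h.finite
  have hle : Y ⊓ h.base ≤ Subgroup.center S := by
    rintro a ⟨ha, k, l, rfl⟩
    exact h.mem_center_el.mpr (h.commute_el_z_el (hY _ ht _ ha))
  have h1 := Subgroup.card_le_of_le hle
  rw [h.center_eq, Nat.card_zpowers, h.orderOf_el_of_left] at h1
  have h3 : (Y ⊓ h.base).relIndex Y ≤ 2 := by
    rw [Subgroup.inf_relIndex_left, ← h.index_base]
    have := Subgroup.normal_of_index_eq_two h.index_base
    exact Nat.le_of_dvd (by rw [h.index_base]; norm_num) (Subgroup.relIndex_dvd_index_of_normal h.base Y)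
  have h4 := Subgroup.card_mul_index ((Y ⊓ h.base).subgroupOf Y)
  rw [Nat.card_congr (Subgroup.subgroupOfEquivOfLe (inf_le_left : Y ⊓ h.base ≤ Y)).toEquiv] at h4
  rw [← h4, mul_comm 2]
  exact Nat.mul_le_mul h1 h3

theorem slope_center_fixed (h : WR S n x y z) {k : ℕ} {i j : ℤ} {hd : ((2 : ℤ) ^ k) ∣ 2 * hh n}
    {p : ℕ} (hp : Odd p) (φ : MulAut (h.slope (2 ^ k) (i - j) hd)) (hφ : φ ^ p = 1)
    (hc : ∀ v : h.slope (2 ^ k) (i - j) hd, (∀ u, u * v = v * u) → (v : S) ∈ Subgroup.center S) :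
    ∀ v : h.slope (2 ^ k) (i - j) hd, (v : S) ∈ Subgroup.center S → φ v = v := by
  have := h.finite
  have hP : IsPGroup 2 (h.slope (2 ^ k) (i - j) hd) := (IsPGroup.of_card h.card).to_subgroup _
  let g : h.slope (2 ^ k) (i - j) hd :=
    ⟨h.el 1 1, h.center_le_slope hd (h.center_eq ▸ Subgroup.mem_zpowers _)⟩
  have hgc : ∀ u, u * g = g * u := fun u => Subtype.ext (h.el_diag_central 1 u)
  obtain ⟨m, hm⟩ : ∃ m : ℤ, φ g = g ^ m := by
    have h1 : (φ g : S) ∈ Subgroup.center S := hc _ fun u => by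
      obtain ⟨u', rfl⟩ := φ.surjective u
      rw [← map_mul, ← map_mul, hgc]
    rw [h.center_eq] at h1
    obtain ⟨m, hm⟩ := Subgroup.mem_zpowers_iff.mp h1
    exact ⟨m, Subtype.ext (by rw [Subgroup.coe_zpow]; exact hm.symm)⟩
  have hgfix : φ g = g := by
    refine fixed_of_pow_mul hP hp hφ (C := ⊥) (fun c hc => by rw [Subgroup.mem_bot.mp hc, map_one])
      (k := m) (s := n) ?_ (fun l => ?_) (fun c hc => by simp [Subgroup.mem_bot.mp hc])
    · rw [hm, Subgroup.mem_bot, zpow_neg, inv_mul_cancel]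
    · rw [Subgroup.mem_bot, ← Subtype.coe_injective.eq_iff, Subgroup.coe_zpow, Subgroup.coe_one,
        h.el_zpow, h.el_eq_one, ← h.orderOf_cast, h.ox, mul_one, and_self]
      push_cast
      rfl
  intro v hv
  rw [h.center_eq] at hv
  obtain ⟨l, hl⟩ := Subgroup.mem_zpowers_iff.mp hv
  rw [show v = g ^ l from Subtype.ext (by rw [Subgroup.coe_zpow]; exact hl.symm), map_zpow, hgfix]

theorem eq_one_of_base (h : WR S n x y z) {k : ℕ} {i j : ℤ} {hd : ((2 : ℤ) ^ k) ∣ 2 * hh n}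
    {p : ℕ} (hp : Odd p) (φ : MulAut (h.slope (2 ^ k) (i - j) hd)) (hφ : φ ^ p = 1)
    (hcfix : ∀ v : h.slope (2 ^ k) (i - j) hd, (v : S) ∈ Subgroup.center S → φ v = v)
    (hpres : ∀ v : h.slope (2 ^ k) (i - j) hd, (v : S) ∈ h.base → (φ v : S) ∈ h.base) (hk : k ≤ n) : φ = 1 := by
  have := h.finite
  let X := h.slope (2 ^ k) (i - j) hd
  have hP : IsPGroup 2 X := (IsPGroup.of_card h.card).to_subgroup _
  let a : X := ⟨h.el (2 ^ k) 0, (h.el_mem_slope hd).mpr (by simp)⟩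
  let t : X := ⟨h.el i j * z, (h.el_z_mem_slope hd).mpr (by simp)⟩
  let C : Subgroup X := (Subgroup.center S).subgroupOf X
  have hrep : ∀ v : X, (v : S) ∈ h.base → ∃ m : ℤ, a ^ (-m) * v ∈ C := by
    intro v hv
    obtain ⟨b, b', hb⟩ := hv
    have hv' := v.2
    rw [← hb] at hv'
    obtain ⟨w, hw⟩ := (h.el_mem_slope hd).mp hv'
    refine ⟨w, ?_⟩
    rw [Subgroup.mem_subgroupOf, Subgroup.coe_mul, Subgroup.coe_zpow, ← hb, h.el_zpow, h.el_mul,
      h.mem_center_el]
    exact ⟨0, by linarith⟩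
  obtain ⟨m, hm⟩ := hrep (φ a) (hpres a (h.el_mem_base _ _))
  have hafix : φ a = a := by
    refine fixed_of_pow_mul hP hp hφ (C := C) (fun c hc => hcfix c hc) (k := m) (s := n - k) hm
      (fun l => ?_) (fun c hc => Subtype.ext (Subgroup.mem_center_iff.mp hc a))
    rw [Subgroup.mem_subgroupOf, Subgroup.coe_zpow, h.el_zpow, h.mem_center_el, mul_zero, sub_zero,
      ← h.orderOf_cast, h.ox]
    push_cast
    conv_lhs => rw [show (2 : ℤ) ^ n = 2 ^ (n - k) * 2 ^ k by rw [← pow_add, Nat.sub_add_cancel hk]]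
    exact mul_dvd_mul_iff_right (by positivity)
  have hbfix : ∀ v : X, (v : S) ∈ h.base → φ v = v := by
    intro v hv
    obtain ⟨l, hl⟩ := hrep v hv
    have h1 := hcfix (a ^ (-l) * v) hl
    rw [map_mul, map_zpow, hafix] at h1
    exact mul_left_cancel h1
  have htfix : φ t = t := by
    refine fixed_of_mul_fixed hP hp hφ (c := t⁻¹ * φ t) (hbfix _ ?_) (mul_inv_cancel_left t _).symm
    rw [Subgroup.coe_mul, Subgroup.coe_inv,
      Subgroup.mul_mem_iff_of_index_two h.index_base]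
    refine iff_of_false (fun h1 => h.el_z_notMem i j (by simpa using h1)) fun h1 => h.el_z_notMem i j ?_
    have h2 : φ (φ t) = φ t := hbfix _ h1
    have h3 : φ t = t := φ.injective h2
    rw [h3] at h1
    exact h1
  refine MulEquiv.ext fun v => ?_
  rw [MulAut.one_apply]
  by_cases hv : (v : S) ∈ h.base
  · exact hbfix v hv
  · have h1 : ((v * t : X) : S) ∈ h.base := by
      rw [Subgroup.coe_mul]
      exact (Subgroup.mul_mem_iff_of_index_two h.index_base).2 (iff_of_false hv (h.el_z_notMem i j))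
    have h2 := hbfix _ h1
    rw [map_mul, htfix] at h2
    exact mul_right_cancel h2

/-- The abelian case. -/
theorem eq_one_of_abelian (h : WR S n x y z) {i j : ℤ} {hd : ((2 : ℤ) ^ n) ∣ 2 * hh n}
    {p : ℕ} (hp : Odd p) (φ : MulAut (h.slope (2 ^ n) (i - j) hd)) (hφ : φ ^ p = 1) : φ = 1 := by
  have := h.finite
  have hn := h.hn
  let X := h.slope (2 ^ n) (i - j) hd
  have hP : IsPGroup 2 X := (IsPGroup.of_card h.card).to_subgroup _
  have hN : (2 : ℤ) ^ n = 2 * hh n := by rw [← h.orderOf_cast, h.ox]; push_cast; rfl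
  let t : X := ⟨h.el i j * z, (h.el_z_mem_slope hd).mpr (by simp)⟩
  let g : X := ⟨h.el 1 1, h.center_le_slope hd (h.center_eq ▸ Subgroup.mem_zpowers _)⟩
  have hall : ∀ v : X, ∃ m : ℤ, v = g ^ m ∨ v = g ^ m * t := by
    rintro ⟨v, a, b, ⟨rfl, hv⟩ | ⟨rfl, hv⟩⟩
    · obtain ⟨w, hw⟩ := hv
      refine ⟨b, .inl (Subtype.ext ?_)⟩
      rw [Subgroup.coe_zpow, h.el_zpow, h.el_eq]
      exact ⟨⟨w, by rw [← hN]; linarith⟩, ⟨0, by ring⟩⟩
    · obtain ⟨w, hw⟩ := hv
      refine ⟨b - j, .inr (Subtype.ext ?_)⟩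
      rw [Subgroup.coe_mul, Subgroup.coe_zpow, h.el_zpow]
      show h.el a b * z = h.el ((b - j) * 1) ((b - j) * 1) * (h.el i j * z)
      rw [← mul_assoc, h.el_mul, mul_left_inj, h.el_eq]
      exact ⟨⟨w, by rw [← hN]; linarith⟩, ⟨0, by ring⟩⟩
  have hgt : t * g = g * t := Subtype.ext (h.el_diag_central 1 _)
  have hgord : ∀ l : ℤ, g ^ l = 1 ↔ (2 : ℤ) ^ n ∣ l := fun l => by
    rw [← Subtype.coe_injective.eq_iff, Subgroup.coe_zpow, Subgroup.coe_one, h.el_zpow, h.el_eq_one,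
      ← hN, mul_one, and_self]
  have hsq : t * t = g ^ (i + j) := Subtype.ext (by
    rw [Subgroup.coe_mul, Subgroup.coe_zpow, h.el_zpow, mul_one]; exact h.sq_el_z i j)
  have hfin : φ g = g → φ t = t → φ = 1 := fun hg ht => MulEquiv.ext fun v => by
    obtain ⟨m, rfl | rfl⟩ := hall v
    · rw [map_zpow, hg]; rfl
    · rw [map_mul, map_zpow, hg, ht]; rfl
  rcases Int.even_or_odd (i + j) with ⟨f, hf⟩ | ⟨f, hf⟩
  · -- the involution outside the centre
    let v : X := g ^ (-f) * t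
    have hvt : t = g ^ f * v := by
      show t = g ^ f * (g ^ (-f) * t)
      rw [zpow_neg, mul_inv_cancel_left]
    have hv2 : v * v = 1 := by
      have hc : Commute (g ^ (-f)) t := (Commute.zpow_left (show Commute g t from hgt.symm) _)
      calc v * v = g ^ (-f) * g ^ (-f) * (t * t) := by
            show g ^ (-f) * t * (g ^ (-f) * t) = _
            rw [hc.symm.eq |> fun e => (mul_assoc _ _ _).trans (congrArg _ ((mul_assoc _ _ _).symm.trans
              (congrArg (· * t) e)))]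
            group
        _ = 1 := by rw [hsq, ← zpow_add, ← zpow_add, hgord]; exact ⟨0, by linarith⟩
    have hvne : ∀ m : ℤ, v ≠ g ^ m := fun m he => h.el_z_notMem i j (by
      have h1 : t = g ^ (f + m) := by rw [zpow_add, ← he, ← hvt]
      have h2 := congrArg Subtype.val h1
      rw [Subgroup.coe_zpow, h.el_zpow] at h2
      rw [show h.el i j * z = h.el _ _ from h2]
      exact h.el_mem_base _ _)
    have hgv : ∀ m : ℤ, Commute (g ^ m) v := fun m =>
      (Commute.refl g).zpow_zpow m (-f) |>.mul_right (Commute.zpow_left (show Commute g t from hgt.symm) m)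
    have hall' : ∀ u : X, ∃ m : ℤ, u = g ^ m ∨ u = g ^ m * v := fun u => by
      obtain ⟨m, rfl | rfl⟩ := hall u
      · exact ⟨m, .inl rfl⟩
      · exact ⟨m + f, .inr (by rw [zpow_add, mul_assoc, ← hvt])⟩
    have hw : φ (g ^ hh n) = g ^ hh n := by
      obtain ⟨r, hr⟩ := h.hh_even
      obtain ⟨m, hm | hm⟩ := hall' (φ g)
      all_goals
        have h1 : φ (g ^ hh n) = g ^ (hh n * m) := by
          rw [map_zpow, hm]
          first
            | rw [← zpow_mul, mul_comm]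
            | rw [(hgv m).mul_zpow, ← zpow_mul, hr, zpow_mul v, zpow_ofNat, pow_two, hv2, one_zpow,
                mul_one, mul_comm m]
        have hodd : ¬ 2 ∣ m := by
          rintro ⟨u, rfl⟩
          have h2 : φ (g ^ hh n) = φ 1 := by
            rw [h1, map_one, hgord]; exact ⟨u, by rw [hN]; ring⟩
          have h3 := (hgord _).mp (φ.injective h2)
          rw [hN] at h3
          have := Int.le_of_dvd h.hh_pos h3
          have := h.hh_pos
          omega
        rw [h1, ← mul_inv_eq_one, ← zpow_neg, ← zpow_add, hgord, hN]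
        exact ⟨(m - 1) / 2, by
          obtain ⟨u, rfl⟩ : ∃ u, m = 2 * u + 1 := ⟨m / 2, by omega⟩
          rw [show (2 * u + 1 - 1) / 2 = u by omega]; ring⟩
    have hvfix : φ v = v := by
      have h2 : φ v * φ v = 1 := by rw [← map_mul, hv2, map_one]
      obtain ⟨m, hm | hm⟩ := hall' (φ v)
      · exfalso
        rw [hm, ← zpow_add, hgord, hN] at h2
        obtain ⟨u, hu⟩ := h2
        have hm' : m = hh n * u := by linarith
        have h3 : φ v = φ (g ^ (hh n * u)) := by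
          rw [hm, zpow_mul g (hh n) u, map_zpow, hw, ← zpow_mul, hm']
        exact hvne _ (φ.injective h3)
      · have hm2 : g ^ m * g ^ m = 1 := by
          rw [hm] at h2
          calc g ^ m * g ^ m = g ^ m * g ^ m * (v * v) := by rw [hv2, mul_one]
            _ = g ^ m * (g ^ m * v) * v := by group
            _ = g ^ m * (v * g ^ m) * v := by rw [(hgv m).eq]
            _ = g ^ m * v * (g ^ m * v) := by group
            _ = 1 := h2
        rw [← zpow_add, hgord, hN] at hm2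
        obtain ⟨u, hu⟩ := hm2
        refine fixed_of_mul_fixed hP hp hφ (c := g ^ m) ?_ (by rw [hm, (hgv m).eq])
        rw [show m = hh n * u by linarith, zpow_mul, map_zpow, hw]
    have hgfix : φ g = g := by
      obtain ⟨m, hm⟩ := hall' (φ g)
      refine fixed_of_pow_mul hP hp hφ (C := Subgroup.zpowers v) (fun c hc => ?_) (k := m) (s := n) ?_
        (fun l => ?_) (fun c hc => ?_)
      · obtain ⟨u, rfl⟩ := Subgroup.mem_zpowers_iff.mp hc
        rw [map_zpow, hvfix]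
      · rcases hm with hm | hm <;> rw [hm]
        · rw [zpow_neg, inv_mul_cancel]; exact one_mem _
        · rw [zpow_neg, inv_mul_cancel_left]; exact Subgroup.mem_zpowers v
      · constructor
        · intro hl
          obtain ⟨u, hu⟩ := Subgroup.mem_zpowers_iff.mp hl
          rcases Int.even_or_odd u with ⟨u', rfl⟩ | ⟨u', rfl⟩
          · rw [zpow_add, ← (Commute.refl v).mul_zpow, hv2, one_zpow] at hu
            exact (hgord l).mp hu.symm
          · rw [zpow_add, zpow_mul, zpow_ofNat, pow_two, hv2, one_zpow, one_mul, zpow_one] at hu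
            exact absurd hu (hvne l)
        · intro hl; rw [(hgord l).mpr hl]; exact one_mem _
      · obtain ⟨u, rfl⟩ := Subgroup.mem_zpowers_iff.mp hc
        have := (hgv 1).zpow_right u
        rw [zpow_one] at this
        exact this.eq
    refine hfin hgfix ?_
    rw [hvt, map_mul, map_zpow, hgfix, hvfix]
  · -- the cyclic case
    have hgz : g ∈ Subgroup.zpowers t := by
      have hcop : IsCoprime (2 * f + 1) ((2 : ℤ) ^ n) := IsCoprime.pow_right ⟨1, -f, by ring⟩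
      obtain ⟨u, v, huv⟩ := hcop
      refine Subgroup.mem_zpowers_iff.mpr ⟨2 * u, ?_⟩
      rw [zpow_mul, zpow_ofNat, pow_two, hsq, hf, ← zpow_mul, ← mul_inv_eq_one,
        show g⁻¹ = g ^ (-1 : ℤ) by rw [zpow_neg_one], ← zpow_add, hgord]
      exact ⟨-v, by linarith⟩
    have hgen : ∀ v : X, v ∈ Subgroup.zpowers t := fun v => by
      obtain ⟨m, rfl | rfl⟩ := hall v
      · exact zpow_mem hgz m
      · exact mul_mem (zpow_mem hgz m) (Subgroup.mem_zpowers t)
    obtain ⟨k, hk⟩ := (IsPGroup.iff_orderOf.mp hP) t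
    obtain ⟨m, hm⟩ := Subgroup.mem_zpowers_iff.mp (hgen (φ t))
    have htfix : φ t = t := by
      refine fixed_of_pow_mul hP hp hφ (C := ⊥) (fun c hc => by rw [Subgroup.mem_bot.mp hc, map_one])
        (k := m) (s := k) ?_ (fun l => ?_) (fun c hc => by simp [Subgroup.mem_bot.mp hc])
      · rw [← hm, Subgroup.mem_bot, zpow_neg, inv_mul_cancel]
      · rw [Subgroup.mem_bot, ← orderOf_dvd_iff_zpow_eq_one, hk]; push_cast; rfl
    refine hfin ?_ htfix
    obtain ⟨u, hu⟩ := Subgroup.mem_zpowers_iff.mp hgz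
    rw [← hu, map_zpow, htfix]

/-- A subgroup containing its centralizer, with automorphism group not a 2-group, is the base group or
an even slope subgroup. -/
theorem dense_cases (h : WR S n x y z) {X : Subgroup S} (hC : Subgroup.centralizer (X : Set S) ≤ X)
    (hA : ¬ IsPGroup 2 (MulAut X)) :
    X = h.base ∨ ∃ e : ℤ, 2 ∣ e ∧ X = h.slope (hh n) e (dvd_mul_left _ _) := by
  have := h.finite
  have hn := h.hn
  have hZ : Subgroup.center S ≤ X := (Subgroup.center_le_centralizer _).trans hC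
  by_cases hle : X ≤ h.base
  · refine .inl (le_antisymm hle ?_)
    exact fun a ha => hC fun b hb => h.base_comm (hle hb) ha
  obtain ⟨t, ht, htb⟩ := SetLike.not_le_iff_exists.mp hle
  obtain ⟨i, j, rfl | rfl⟩ := h.cases' t
  · exact absurd (h.el_mem_base i j) htb
  obtain ⟨k, hk, hd, rfl⟩ := h.exists_slope_param hZ ht
  right
  obtain ⟨p, φ, hp, hφ, hne⟩ := exists_odd_prime_order hA
  have hN : (2 : ℤ) ^ n = 2 * hh n := by rw [← h.orderOf_cast, h.ox]; push_cast; rfl
  have hNhalf : (2 : ℤ) ^ (n - 1) = hh n := rfl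
  rcases eq_or_lt_of_le hk with rfl | hlt
  · exact absurd (h.eq_one_of_abelian hp φ hφ) hne
  -- nonabelian: the centre is the centre of `S`
  have hc : ∀ v : h.slope (2 ^ k) (i - j) hd, (∀ u, u * v = v * u) → (v : S) ∈ Subgroup.center S := by
    intro v hv
    refine h.center_le (X := h.slope (2 ^ k) (i - j) hd) (fun hab => ?_) ⟨v, Subgroup.mem_center_iff.mpr hv, rfl⟩
    have h1 := congrArg Subtype.val (hab.is_comm.comm
      (⟨h.el i j * z, ht⟩ : h.slope (2 ^ k) (i - j) hd)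
      ⟨h.el (2 ^ k) 0, (h.el_mem_slope hd).mpr (by simp)⟩)
    have h2 := h.commute_el_z_el h1
    rw [sub_zero, ← hN] at h2
    have := Int.le_of_dvd (by positivity) h2
    exact absurd this (not_le.mpr (pow_lt_pow_right₀ (by norm_num) hlt))
  have hcfix := h.slope_center_fixed hp φ hφ hc
  by_cases hk1 : k + 1 < n
  · refine absurd (h.eq_one_of_base hp φ hφ hcfix ?_ hk) hne
    intro v hv
    by_contra hv'
    obtain ⟨a, b, hab | hab⟩ := h.cases' (φ v : S)
    · exact hv' (hab ▸ h.el_mem_base a b)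
    set Y := ((h.base.subgroupOf (h.slope (2 ^ k) (i - j) hd)).map φ.toMonoidHom).map
      (h.slope (2 ^ k) (i - j) hd).subtype with hY
    have hcardY : Nat.card Y = Nat.card ↥(h.base.subgroupOf (h.slope (2 ^ k) (i - j) hd)) := by
      rw [hY, Subgroup.card_map_of_injective (Subgroup.subtype_injective _),
        Subgroup.card_map_of_injective φ.injective]
    have hYc : ∀ a ∈ Y, ∀ b ∈ Y, a * b = b * a := by
      rintro _ ⟨_, ⟨a, ha, rfl⟩, rfl⟩ _ ⟨_, ⟨b, hb, rfl⟩, rfl⟩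
      have : a * b = b * a := Subtype.ext (h.base_comm ha hb)
      exact congrArg Subtype.val ((map_mul φ a b).symm.trans ((congrArg φ this).trans (map_mul φ b a)))
    have hb := h.abelian_not_base hYc (hab ▸ ⟨φ v, ⟨v, hv, rfl⟩, rfl⟩ : h.el a b * z ∈ Y)
    -- but the base part of the slope subgroup is bigger
    let B := h.base ⊓ h.slope (2 ^ k) (i - j) hd
    have hBeq : Nat.card ↥(h.base.subgroupOf (h.slope (2 ^ k) (i - j) hd)) = Nat.card B := by
      rw [← Subgroup.inf_subgroupOf_right]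
      exact Nat.card_congr (Subgroup.subgroupOfEquivOfLe inf_le_right).toEquiv
    have hbig : 4 * 2 ^ n ≤ Nat.card B := by
      obtain ⟨r, hr⟩ := h.hh_even
      have hrdvd : (2 : ℤ) ^ k ∣ r := by
        have : r = 2 ^ (n - 2) := by
          have h1 : (2 : ℤ) * 2 ^ (n - 2) = hh n := by rw [← pow_succ', show n - 2 + 1 = n - 1 by omega]; rfl
          linarith
        rw [this]; exact pow_dvd_pow 2 (by omega)
      have hstep : ∀ (u : ℤ), u ∣ hh n → ¬ 2 * hh n ∣ u → 2 ^ k ∣ u → h.el u 0 ∈ B :=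
        fun u _ _ hu => ⟨h.el_mem_base _ _, (h.el_mem_slope hd).mpr (by simpa using hu)⟩
      let f : Fin 4 × ↥(Subgroup.center S) → B := fun q =>
        ⟨h.el ((q.1 : ℕ) * r) 0 * q.2, mul_mem
          ⟨h.el_mem_base _ _, (h.el_mem_slope hd).mpr (by simpa using hrdvd.mul_left _)⟩
          ⟨by obtain ⟨m, hm⟩ := Subgroup.mem_zpowers_iff.mp (h.center_eq.le q.2.2)
              rw [← hm]; exact zpow_mem (h.el_mem_base 1 1) m, h.center_le_slope hd q.2.2⟩⟩
      have hf : Function.Injective f := by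
        rintro ⟨a, c₁⟩ ⟨b, c₂⟩ he
        have he' : h.el ((a : ℕ) * r) 0 * c₁ = h.el ((b : ℕ) * r) 0 * c₂ := congrArg Subtype.val he
        have h1 : (h.el ((b : ℕ) * r) 0)⁻¹ * h.el ((a : ℕ) * r) 0 ∈ Subgroup.center S := by
          have h2 : h.el ((a : ℕ) * r) 0 = h.el ((b : ℕ) * r) 0 * ((c₂ : S) * (c₁ : S)⁻¹) := by
            rw [← mul_assoc, ← he', mul_inv_cancel_right]
          rw [h2, inv_mul_cancel_left]
          exact mul_mem c₂.2 (inv_mem c₁.2)
        rw [h.el_inv, h.el_mul, h.mem_center_el, hr] at h1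
        obtain ⟨m, hm⟩ := h1
        have hr0 : r ≠ 0 := by rintro rfl; have := h.hh_pos; omega
        have h3 : ((a : ℕ) : ℤ) - (b : ℕ) = 4 * m := mul_right_cancel₀ hr0 (by linarith)
        obtain rfl : a = b := Fin.ext (by have := a.isLt; have := b.isLt; omega)
        exact Prod.ext rfl (Subtype.ext (mul_left_cancel he'))
      have := Nat.card_le_card_of_injective f hf
      rwa [Nat.card_prod, Nat.card_fin, h.center_eq, Nat.card_zpowers, h.orderOf_el_of_left] at this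
    rw [hcardY, hBeq] at hb
    have : 0 < 2 ^ n := by positivity
    omega
  · obtain rfl : k = n - 1 := by omega
    refine ⟨i - j, ?_, ?_⟩
    · by_contra hodd
      refine hne (h.eq_one_of_base hp φ hφ hcfix ?_ hk)
      intro v hv
      by_contra hv'
      obtain ⟨a, b, hab | hab⟩ := h.cases' (φ v : S)
      · exact hv' (hab ▸ h.el_mem_base a b)
      obtain ⟨c, c', hcc⟩ := hv
      have hvm : h.el c c' ∈ h.slope (2 ^ (n - 1)) (i - j) hd := hcc ▸ v.2
      obtain ⟨w, hw⟩ := (h.el_mem_slope hd).mp hvm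
      have h1 : φ (v * v) = v * v := hcfix _ (by
        rw [Subgroup.coe_mul, ← hcc, h.el_mul, h.mem_center_el]
        exact ⟨w, by rw [hNhalf] at hw; linarith⟩)
      have h2 := congrArg Subtype.val h1
      rw [map_mul, Subgroup.coe_mul, Subgroup.coe_mul, hab, ← hcc, h.sq_el_z, h.el_mul, h.el_eq] at h2
      obtain ⟨u, hu⟩ := h2.1
      obtain ⟨w', hw'⟩ := (h.el_z_mem_slope hd).mp (hab ▸ (φ v).2)
      obtain ⟨r, hr⟩ := h.hh_even
      rw [hNhalf, hr] at hw'
      rw [hr] at hu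
      have : 2 * (r * w') + 2 * b + (i - j) = 2 * c + 2 * (2 * r * u) := by linarith
      generalize r * w' = A₁ at this
      generalize 2 * r * u = A₂ at this
      omega
    · ext s
      obtain ⟨a, b, rfl | rfl⟩ := h.cases' s
      · rw [h.el_mem_slope, h.el_mem_slope, hNhalf]
      · rw [h.el_z_mem_slope, h.el_z_mem_slope, hNhalf]

end Cfsg.Agent.Invol.WR

namespace Cfsg.Agent.Invol.WR

variable {S : Type*} [Group S] {n : ℕ} {x y z : S}

theorem slope_eq (h : WR S n x y z) {d d' e : ℤ} (hdd : d = d') (hd : d ∣ 2 * hh n) :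
    h.slope d e hd = h.slope d' e (hdd ▸ hd) := by
  subst hdd
  rfl

theorem relIndex_normalizer_slope (h : WR S n x y z) (e : ℤ) :
    (h.slope (hh n) e (dvd_mul_left _ _)).relIndex
      (Subgroup.normalizer ((h.slope (hh n) e (dvd_mul_left _ _) : Subgroup S) : Set S)) = 2 := by
  obtain ⟨c, hc⟩ := h.hh_even
  have hd : 2 * c ∣ 2 * hh n := ⟨2, by rw [hc]; ring⟩
  have hn : Subgroup.normalizer ((h.slope (2 * c) e hd : Subgroup S) : Set S) =
      h.slope c e (dvd_trans (dvd_mul_left c 2) hd) :=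
    SetLike.ext fun s => h.mem_normalizer_slope hd s
  have he : h.slope (hh n) e (dvd_mul_left _ _) = h.slope (2 * c) e hd := h.slope_eq hc _
  rw [he, hn]
  exact h.relIndex_slope hd

theorem map_slope_conj (h : WR S n x y z) {e e' : ℤ} (he : 2 ∣ e) (he' : 2 ∣ e') :
    ∃ s : S, (h.slope (hh n) e (dvd_mul_left _ _)).map (MulAut.conj s).toMonoidHom =
      h.slope (hh n) e' (dvd_mul_left _ _) := by
  obtain ⟨f, rfl⟩ := he
  obtain ⟨f', rfl⟩ := he'
  refine ⟨h.el (f' - f) 0, ?_⟩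
  rw [h.map_conj_el_slope]
  congr 1
  ring

theorem slope_not_comm (h : WR S n x y z) (e : ℤ) :
    ¬ IsMulCommutative ↥(h.slope (hh n) e (dvd_mul_left _ _)) := by
  intro hab
  have h0 : h.el e 0 * z ∈ h.slope (hh n) e (dvd_mul_left _ _) :=
    (h.el_z_mem_slope _).mpr (by simp)
  have h1 : h.el (hh n) 0 ∈ h.slope (hh n) e (dvd_mul_left _ _) := (h.el_mem_slope _).mpr (by simp)
  obtain ⟨c, hc⟩ := h.commute_el_z_el (congrArg Subtype.val (hab.is_comm.comm ⟨_, h0⟩ ⟨_, h1⟩))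
  rw [sub_zero] at hc
  have : hh n * (1 - 2 * c) = 0 := by linarith
  rcases mul_eq_zero.mp this with h' | h'
  · exact h.hh_pos.ne' h'
  · omega

end Cfsg.Agent.Invol.WR
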