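import Mathlib
import Cfsg.Agent.Lib.Invol.WreathedDense
import Cfsg.Agent.Lib.Invol.ThreeAction
import Cfsg.Agent.Lib.Invol.Sylow
import Cfsg.Agent.Lib.Invol.FusionInduction

/-!
# Automizers and fusion in groups with wreathed Sylow 2-subgroups
-/

namespace Cfsg.Agent.Invol

variable {G : Type*} [Group G] [Finite G]

/-- An automorphism of odd order of an abelian 2-group fixing the involutions is trivial. -/
theorem aut_eq_one_of_fix_involutions {P : Type*} [Group P] [Finite P] (hP : IsPGroup 2 P)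
    (hab : ∀ a b : P, a * b = b * a) {φ : MulAut P} {p : ℕ} (hp : Odd p) (hφ : φ ^ p = 1)
    (hfix : ∀ v : P, v * v = 1 → φ v = v) : φ = 1 := by
  have key : ∀ (k : ℕ) (v : P), v ^ 2 ^ k = 1 → φ v = v := by
    intro k
    induction k with
    | zero => intro v hv; rw [pow_zero, pow_one] at hv; rw [hv, map_one]
    | succ k ih =>
      intro v hv
      have h2 : φ (v * v) = v * v := ih (v * v) (by rw [← pow_two, ← pow_mul, ← pow_succ']; exact hv)
      refine fixed_of_mul_fixed hP hp hφ (c := v⁻¹ * φ v) ?_ (mul_inv_cancel_left v _).symm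
      refine hfix _ ?_
      rw [map_mul] at h2
      calc v⁻¹ * φ v * (v⁻¹ * φ v) = v⁻¹ * (φ v * v⁻¹) * φ v := by group
        _ = v⁻¹ * (v⁻¹ * φ v) * φ v := by rw [hab (φ v) v⁻¹]
        _ = v⁻¹ * v⁻¹ * (φ v * φ v) := by group
        _ = 1 := by rw [h2]; group
  refine MulEquiv.ext fun v => ?_
  obtain ⟨k, hk⟩ := hP v
  exact key k v hk

/-- A subgroup with a 2-group of automorphisms is normalized by `N_S(D) C(D)` only. -/
theorem normalizer_eq_of_isPGroup (S : Sylow 2 G) {D : Subgroup G} (hA : IsPGroup 2 (MulAut D))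
    (htame : ¬ 2 ∣ ((S : Subgroup G) ⊓ Subgroup.normalizer (D : Set G)).relIndex (Subgroup.normalizer (D : Set G))) :
    ∀ g ∈ Subgroup.normalizer (D : Set G), ∃ s ∈ (S : Subgroup G), s ∈ Subgroup.normalizer (D : Set G) ∧
      ∀ d ∈ D, g * d * g⁻¹ = s * d * s⁻¹ := by
  intro g hg
  set N := Subgroup.normalizer (D : Set G) with hN
  have hk : ((Subgroup.centralizer (D : Set G)).subgroupOf N).Normal :=
    D.normalizerMonoidHom_ker ▸ MonoidHom.normal_ker _
  set W := ((S : Subgroup G) ⊓ N).subgroupOf N ⊔ (Subgroup.centralizer (D : Set G)).subgroupOf N with hW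
  have h1 : W.index ∣ (((S : Subgroup G) ⊓ N).subgroupOf N).index := Subgroup.index_dvd_of_le le_sup_left
  have h2 : W.index ∣ ((Subgroup.centralizer (D : Set G)).subgroupOf N).index :=
    Subgroup.index_dvd_of_le le_sup_right
  obtain ⟨r, hr⟩ : ∃ r, ((Subgroup.centralizer (D : Set G)).subgroupOf N).index = 2 ^ r := by
    rw [← D.normalizerMonoidHom_ker, Subgroup.index_ker]
    exact IsPGroup.iff_card.mp (hA.to_subgroup _)
  rw [hr] at h2
  obtain ⟨l, -, hl⟩ := (Nat.dvd_prime_pow Nat.prime_two).mp h2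
  have htop : W = ⊤ := by
    rcases l with _ | l
    · exact Subgroup.index_eq_one.mp (by rw [hl, pow_zero])
    · exact absurd ((dvd_pow_self 2 (Nat.succ_ne_zero l)).trans (hl ▸ h1)) htame
  obtain ⟨s, hs, c, hc, hsc⟩ := Subgroup.mem_sup_of_normal_right.mp
    (hW ▸ htop ▸ Subgroup.mem_top (⟨g, hg⟩ : N))
  rw [Subgroup.mem_subgroupOf] at hs hc
  refine ⟨s, hs.1, s.2, fun d hd => ?_⟩
  have : g = (s : G) * c := (congrArg Subtype.val hsc).symm
  rw [this, show (s : G) * c * d * ((s : G) * c)⁻¹ = s * (c * d * (c : G)⁻¹) * (s : G)⁻¹ by group,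
    show (c : G) * d * (c : G)⁻¹ = d by rw [← hc d hd, mul_inv_cancel_right]]

/-- With automizer of order 2 every element is an element of the kernel, up to a fixed one outside. -/
theorem cases_of_relIndex_two {C N : Subgroup G} (h : C.relIndex N = 2) {σ : G} (hσN : σ ∈ N)
    (hσ : σ ∉ C) {g : G} (hg : g ∈ N) : g ∈ C ∨ σ⁻¹ * g ∈ C := by
  by_cases hgC : g ∈ C
  · exact .inl hgC
  · refine .inr ?_
    have := (Subgroup.mul_mem_iff_of_index_two h (a := (⟨σ, hσN⟩ : N)⁻¹) (b := ⟨g, hg⟩)).mpr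
      (iff_of_false (fun h1 => hσ (by simpa [Subgroup.mem_subgroupOf] using h1))
        (fun h1 => hgC (Subgroup.mem_subgroupOf.mp h1)))
    simpa [Subgroup.mem_subgroupOf] using this

namespace WR

variable {S : Sylow 2 G} {n : ℕ} {x y z : ↥(S : Subgroup G)}

/-- Elements of the Sylow subgroup, seen in `G`. -/
abbrev gE (h : WR _ n x y z) (i j : ℤ) : G := ((h.el i j : ↥(S : Subgroup G)) : G)

/-- The base group, seen in `G`. -/
abbrev gBase (h : WR _ n x y z) : Subgroup G := h.base.map (S : Subgroup G).subtype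

/-- The slope subgroups, seen in `G`. -/
abbrev gSlope (h : WR _ n x y z) (e : ℤ) : Subgroup G :=
  (h.slope (hh n) e (dvd_mul_left _ _)).map (S : Subgroup G).subtype

/-- The centre of the Sylow subgroup, seen in `G`. -/
abbrev gCenter (_h : WR _ n x y z) : Subgroup G :=
  (Subgroup.center ↥(S : Subgroup G)).map (S : Subgroup G).subtype

omit [Finite G] in
theorem coe_mem_map {V : Subgroup ↥(S : Subgroup G)} {s : ↥(S : Subgroup G)} :
    (s : G) ∈ V.map (S : Subgroup G).subtype ↔ s ∈ V :=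
  Subgroup.mem_map_iff_mem (Subgroup.subtype_injective _)

omit [Finite G] in
theorem isConj_coe (_h : WR _ n x y z) {s t c : ↥(S : Subgroup G)} (hc : c * s * c⁻¹ = t) :
    IsConj (s : G) (t : G) := isConj_iff.mpr ⟨c, congrArg Subtype.val hc⟩

omit [Finite G] in
theorem isConj_outside (h : WR _ n x y z) {i j k l : ℤ} (hd : 2 * hh n ∣ i + j - (k + l)) :
    IsConj ((h.el i j * z : ↥(S : Subgroup G)) : G) ((h.el k l * z : ↥(S : Subgroup G)) : G) := by
  obtain ⟨c, hc⟩ := hd
  refine h.isConj_coe (c := h.el (k - i) 0) ?_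
  rw [h.conj_el_z, mul_left_inj, h.el_eq]
  exact ⟨⟨0, by ring⟩, ⟨c, by linarith⟩⟩

omit [Finite G] in
theorem isConj_two_cases (h : WR _ n x y z) {s : ↥(S : Subgroup G)} (hs : orderOf s = 2) :
    IsConj (s : G) (h.gE (hh n) (hh n)) ∨ IsConj (s : G) (h.gE (hh n) 0) ∨ IsConj (s : G) (z : G) := by
  rcases h.involution_cases hs with rfl | rfl | rfl | ⟨i, j, hij, rfl⟩
  · exact .inl (IsConj.refl _)
  · exact .inr (.inl (IsConj.refl _))
  · exact .inr (.inl (h.isConj_coe (h.z_conj_el 0 (hh n))))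
  · exact .inr (.inr (h.isConj_coe (h.conj_z_el hij)).symm)

theorem classes_two (h : WR _ n x y z) :
    {C : ConjClasses G | ∃ t : G, orderOf t = 2 ∧ ConjClasses.mk t = C} =
      {ConjClasses.mk (h.gE (hh n) (hh n)), ConjClasses.mk (h.gE (hh n) 0), ConjClasses.mk (z : G)} := by
  ext C
  constructor
  · rintro ⟨t, ht, rfl⟩
    obtain ⟨g, hg⟩ := exists_conj_mem_sylow (p := 2) (n := 1) (by rw [ht, pow_one]) S
    have h1 : orderOf (⟨g * t * g⁻¹, hg⟩ : ↥(S : Subgroup G)) = 2 := by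
      rw [Subgroup.orderOf_mk, ← MulAut.conj_apply, MulEquiv.orderOf_eq, ht]
    rcases h.isConj_two_cases h1 with h2 | h2 | h2
    · exact .inl (ConjClasses.mk_eq_mk_iff_isConj.mpr ((isConj_iff.mpr ⟨g, rfl⟩).trans h2))
    · exact .inr (.inl (ConjClasses.mk_eq_mk_iff_isConj.mpr ((isConj_iff.mpr ⟨g, rfl⟩).trans h2)))
    · exact .inr (.inr (ConjClasses.mk_eq_mk_iff_isConj.mpr ((isConj_iff.mpr ⟨g, rfl⟩).trans h2)))
  · rintro (rfl | rfl | rfl)
    · exact ⟨_, by rw [gE, Subgroup.orderOf_coe, h.orderOf_w], rfl⟩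
    · exact ⟨_, by rw [gE, Subgroup.orderOf_coe, h.orderOf_half], rfl⟩
    · exact ⟨_, by rw [Subgroup.orderOf_coe, h.oz], rfl⟩

omit [Finite G] in
theorem sylow_le_normalizer_base (h : WR _ n x y z) :
    (S : Subgroup G) ≤ Subgroup.normalizer (h.gBase : Set G) := by
  have hn := Subgroup.normal_of_index_eq_two h.index_base
  intro s hs
  refine Subgroup.mem_normalizer_iff.mpr fun a => ⟨?_, ?_⟩
  · rintro ⟨b, hb, rfl⟩
    exact ⟨_, hn.conj_mem b hb ⟨s, hs⟩, rfl⟩
  · rintro ⟨b, hb, he⟩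
    refine ⟨_, hn.conj_mem b hb ⟨s, hs⟩⁻¹, ?_⟩
    show s⁻¹ * (b : G) * s⁻¹⁻¹ = a
    rw [show (b : G) = s * a * s⁻¹ from he]
    group

/-- The automizer of the base group. -/
theorem automizer_base (h : WR _ n x y z) :
    ((Subgroup.centralizer (h.gBase : Set G)).relIndex (Subgroup.normalizer (h.gBase : Set G)) = 2 ∨
      (Subgroup.centralizer (h.gBase : Set G)).relIndex (Subgroup.normalizer (h.gBase : Set G)) = 6) ∧
    ((Subgroup.centralizer (h.gBase : Set G)).relIndex (Subgroup.normalizer (h.gBase : Set G)) = 6 →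
      ∃ g ∈ Subgroup.normalizer (h.gBase : Set G), g * h.gE (hh n) 0 * g⁻¹ = h.gE (hh n) (hh n)) ∧
    (z : G) ∉ Subgroup.centralizer (h.gBase : Set G) := by
  set A := h.gBase with hA
  set N := Subgroup.normalizer (A : Set G) with hN
  have hzC : (z : G) ∉ Subgroup.centralizer (A : Set G) := by
    intro hzc
    have h1 := hzc _ (coe_mem_map.mpr (h.el_mem_base 1 0))
    have h2 : h.el 1 0 * z = z * h.el 1 0 := Subtype.ext h1
    rw [h.z_el, mul_left_inj, h.el_eq] at h2
    obtain ⟨c, hc⟩ := h2.1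
    obtain ⟨r, hr⟩ := h.hh_even
    rw [hr] at hc
    have : 2 * (2 * r * c) = 1 := by linarith
    generalize 2 * r * c = m at this
    omega
  let P : G → Prop := fun a => a ∈ A ∧ a * a = 1 ∧ a ≠ 1
  have hP : ∀ g ∈ N, ∀ a, P (g * a * g⁻¹) ↔ P a := fun g hg a =>
    and_congr (Subgroup.mem_normalizer_iff.mp hg a).symm (and_congr
      (by rw [show g * a * g⁻¹ * (g * a * g⁻¹) = g * (a * a) * g⁻¹ by group, conj_eq_one_iff])
      (not_congr conj_eq_one_iff))
  have hexh : ∀ a, P a → a = h.gE (hh n) 0 ∨ a = h.gE 0 (hh n) ∨ a = h.gE (hh n) (hh n) := by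
    rintro _ ⟨⟨b, hb, rfl⟩, hb2, hb1⟩
    have ho : orderOf b = 2 := by
      refine orderOf_eq_prime ?_ fun h1 => hb1 (by rw [h1]; rfl)
      rw [pow_two]; exact Subtype.ext hb2
    rcases h.involution_cases ho with rfl | rfl | rfl | ⟨i, j, -, rfl⟩
    exacts [.inr (.inr rfl), .inl rfl, .inr (.inl rfl), absurd hb (h.el_z_notMem i j)]
  have hmemP : ∀ i j : ℤ, orderOf (h.el i j) = 2 → P (h.gE i j) := fun i j ho =>
    ⟨coe_mem_map.mpr (h.el_mem_base i j),
      congrArg Subtype.val (show h.el i j * h.el i j = 1 by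
        have := pow_orderOf_eq_one (h.el i j)
        rwa [ho, pow_two] at this),
      fun h1 => by
        rw [show h.el i j = 1 from Subtype.ext h1, orderOf_one] at ho
        omega⟩
  have ho2 : orderOf (h.el 0 (hh n)) = 2 := by
    rw [← h.z_conj_el, ← MulAut.conj_apply, MulEquiv.orderOf_eq, h.orderOf_half]
  have hne : h.gE 0 (hh n) ≠ h.gE (hh n) (hh n) := fun he => by
    have h1 : z * h.el 0 (hh n) * z⁻¹ = z * h.el (hh n) (hh n) * z⁻¹ := by rw [Subtype.ext he]
    rw [h.z_conj_el, h.z_conj_el] at h1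
    exact h.half_ne_w h1
  have hne' : h.gE (hh n) 0 ≠ h.gE 0 (hh n) := by
    intro he
    obtain ⟨⟨c, hc⟩, -⟩ := h.el_eq.mp (Subtype.ext he)
    have : hh n * (2 * c - 1) = 0 := by linarith
    rcases mul_eq_zero.mp this with h0 | h0
    · exact h.hh_pos.ne' h0
    · omega
  have hcard : Nat.card {a // P a} = 3 := by
    have hset : {a | P a} = {h.gE (hh n) 0, h.gE 0 (hh n), h.gE (hh n) (hh n)} := by
      ext a
      refine ⟨hexh a, ?_⟩
      rintro (rfl | rfl | rfl)
      exacts [hmemP _ _ h.orderOf_half, hmemP _ _ ho2, hmemP _ _ h.orderOf_w]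
    change Nat.card ↥{a | P a} = 3
    rw [hset, Nat.card_coe_set_eq, Set.ncard_insert_of_notMem, Set.ncard_pair hne]
    rintro (he | he)
    exacts [hne' he, h.half_ne_w (Subtype.ext he)]
  have hker : (conjPerm N P hP).ker = (Subgroup.centralizer (A : Set G)).subgroupOf N := by
    refine le_antisymm ?_ ?_
    · -- the kernel acts as a 2-group, but its Sylow subgroup acts trivially
      set K := (conjPerm N P hP).ker with hK
      set C := (Subgroup.centralizer (A : Set G)).subgroupOf N with hC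
      let ψ : ↥K →* MulAut A := A.normalizerMonoidHom.comp K.subtype
      have hψ : ψ.ker = C.subgroupOf K := by
        rw [hC, ← Subgroup.normalizerMonoidHom_ker]
        rfl
      have hfix : ∀ (k : ↥K) (v : A), v * v = 1 → ψ k v = v := by
        intro k v hv
        by_cases hv1 : v = 1
        · rw [hv1, map_one]
        · have h1 := congrArg Subtype.val (DFunLike.congr_fun (MonoidHom.mem_ker.mp k.2)
            ⟨(v : G), v.2, congrArg Subtype.val hv, fun h1 => hv1 (Subtype.ext h1)⟩)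
          simp only [conjPerm_apply, Equiv.Perm.coe_one, id_eq] at h1
          exact Subtype.ext h1
      have hR : IsPGroup 2 ψ.range := by
        by_contra hR
        obtain ⟨p, ⟨φ, k, rfl⟩, hp, hφ, hne⟩ := exists_odd_prime_order hR
        refine hne (Subtype.ext ?_)
        refine aut_eq_one_of_fix_involutions (S.isPGroup'.to_le (Subgroup.map_subtype_le _))
          (fun a b => ?_) hp (congrArg Subtype.val hφ) (hfix k)
        obtain ⟨a', ha', ha⟩ := a.2
        obtain ⟨b', hb', hb⟩ := b.2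
        refine Subtype.ext ?_
        rw [Subgroup.coe_mul, Subgroup.coe_mul, ← ha, ← hb]
        exact congrArg Subtype.val (h.base_comm ha' hb')
      obtain ⟨r, hr⟩ := IsPGroup.iff_card.mp hR
      rw [← Subgroup.index_ker, hψ] at hr
      have hSN : (S : Subgroup G) ≤ N := h.sylow_le_normalizer_base
      have hsyl := Grp.sylow_inf_normal_relIndex (S.subtype hSN) K
      have hle : ((S.subtype hSN : Sylow 2 N) : Subgroup N) ⊓ K ≤ C := by
        rintro ⟨s, hsN⟩ ⟨hs, hk⟩
        obtain ⟨i, j, hij⟩ := h.cases' ⟨s, hs⟩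
        rcases hij with hij | hij
        · rw [hC, Subgroup.mem_subgroupOf]
          rintro _ ⟨b, hb, rfl⟩
          show (b : G) * s = s * b
          have hsb : (⟨s, hs⟩ : ↥(S : Subgroup G)) ∈ h.base := hij ▸ h.el_mem_base i j
          exact congrArg Subtype.val (h.base_comm hb hsb)
        · exfalso
          have h1 := congrArg Subtype.val (DFunLike.congr_fun (MonoidHom.mem_ker.mp hk)
            ⟨_, hmemP _ _ h.orderOf_half⟩)
          simp only [conjPerm_apply, Equiv.Perm.coe_one, id_eq] at h1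
          have h2 : (⟨s, hs⟩ : ↥(S : Subgroup G)) * h.el (hh n) 0 * (⟨s, hs⟩ : ↥(S : Subgroup G))⁻¹ =
              h.el (hh n) 0 := Subtype.ext h1
          rw [hij, show h.el i j * z * h.el (hh n) 0 * (h.el i j * z)⁻¹ =
            h.el i j * (z * h.el (hh n) 0 * z⁻¹) * (h.el i j)⁻¹ by group, h.z_conj_el, h.conj_el] at h2
          exact hne' (congrArg Subtype.val h2).symm
      intro k hk
      have hidx : (C.subgroupOf K).index ∣ ((S.subtype hSN : Sylow 2 N) : Subgroup N).relIndex K := by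
        rw [← Subgroup.inf_relIndex_right]
        exact Subgroup.relIndex_dvd_of_le_left K hle
      rw [hr] at hidx
      rcases r with _ | r
      · exact Subgroup.relIndex_eq_one.mp (hr.trans (pow_zero 2)) hk
      · exact absurd ((dvd_pow_self 2 (Nat.succ_ne_zero r)).trans hidx) hsyl
    · intro g hg
      rw [MonoidHom.mem_ker]
      ext ⟨a, ha, ha1⟩
      simp only [conjPerm_apply, Equiv.Perm.coe_one, id_eq]
      rw [← (Subgroup.mem_subgroupOf.mp hg) a ha, mul_inv_cancel_right]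
  have hzw : (z : G) * h.gE (hh n) (hh n) * (z : G)⁻¹ = h.gE (hh n) (hh n) :=
    congrArg Subtype.val (h.z_conj_el (hh n) (hh n))
  obtain ⟨h26, h6⟩ := index_two_or_six hcard (conjPerm N P hP) hker ⟨_, hmemP _ _ h.orderOf_w⟩
    ⟨_, h.sylow_le_normalizer_base z.2⟩ (Subtype.ext hzw) (fun h1 => by
      have h2 := congrArg Subtype.val (DFunLike.congr_fun h1 ⟨_, hmemP _ _ h.orderOf_half⟩)
      simp only [conjPerm_apply, Equiv.Perm.coe_one, id_eq] at h2
      have h3 : z * h.el (hh n) 0 * z⁻¹ = h.el (hh n) 0 := Subtype.ext h2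
      rw [h.z_conj_el] at h3
      exact hne' (congrArg Subtype.val h3).symm)
  refine ⟨h26, fun h6' => ?_, hzC⟩
  obtain ⟨g, hg⟩ := h6.mp h6'
  have hu := (conjPerm N P hP g ⟨_, hmemP _ _ h.orderOf_w⟩).2
  rcases hexh _ hu with h1 | h1 | h1
  · refine ⟨(g : G)⁻¹, inv_mem g.2, ?_⟩
    rw [inv_inv, ← h1, conjPerm_apply]
    group
  · refine ⟨(g : G)⁻¹ * (z : G), mul_mem (inv_mem g.2) (h.sylow_le_normalizer_base z.2), ?_⟩
    have h3 : (z : G) * h.gE (hh n) 0 * (z : G)⁻¹ = h.gE 0 (hh n) :=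
      congrArg Subtype.val (h.z_conj_el (hh n) 0)
    rw [show (g : G)⁻¹ * z * h.gE (hh n) 0 * ((g : G)⁻¹ * z)⁻¹ =
      (g : G)⁻¹ * (z * h.gE (hh n) 0 * (z : G)⁻¹) * g by group, h3, ← h1, conjPerm_apply]
    group
  · exact absurd (Subtype.ext h1) hg

theorem eq_gBase (h : WR _ n x y z) {U : Subgroup G} (hUS : U ≤ S) (hUab : IsMulCommutative U)
    (hUcard : Nat.card U = 2 ^ (2 * n)) : U = h.gBase := by
  have h1 : U.subgroupOf (S : Subgroup G) = h.base := h.eq_base
    ⟨⟨fun a b => Subtype.ext (Subtype.ext (congrArg Subtype.val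
      (hUab.is_comm.comm ⟨(a : ↥(S : Subgroup G)), a.2⟩ ⟨(b : ↥(S : Subgroup G)), b.2⟩) :))⟩⟩
    (by rw [Nat.card_congr (Subgroup.subgroupOfEquivOfLe hUS).toEquiv, hUcard])
  rw [gBase, ← h1, Subgroup.map_subgroupOf_eq_of_le hUS]

theorem eq_gSlope (h : WR _ n x y z) {Q : Subgroup G} (hQS : Q ≤ S) (e : Q ≃* QuaternionGroup 2) :
    ∃ d : ℤ, 2 ∣ d ∧ Q ⊔ h.gCenter = h.gSlope d := by
  obtain ⟨i, j, hij, -, c, hc, -, hX⟩ := h.quat8_cases ((Subgroup.subgroupOfEquivOfLe hQS).trans e)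
  refine ⟨i - j, ?_, ?_⟩
  · obtain ⟨v, hv⟩ := hij
    rw [← hc] at hv
    exact ⟨2 * c * v + c - j, by linarith⟩
  · rw [gSlope, ← hX, Subgroup.map_sup, Subgroup.map_subgroupOf_eq_of_le hQS]

/-- The functions preserved by fusion: they only have to be preserved by the Sylow subgroup, the
normalizer of the base group, and the normalizer of one even slope subgroup. -/
theorem invariant (h : WR _ n x y z) {β : Type*} (f : G → β)
    (hS : ∀ s ∈ (S : Subgroup G), ∀ d ∈ (S : Subgroup G), f (s * d * s⁻¹) = f d)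
    (hA : ∀ g ∈ Subgroup.normalizer (h.gBase : Set G), ∀ d ∈ h.gBase, f (g * d * g⁻¹) = f d)
    {e : ℤ} (he : 2 ∣ e)
    (hX : ∀ g ∈ Subgroup.normalizer (h.gSlope e : Set G), ∀ d ∈ h.gSlope e, f (g * d * g⁻¹) = f d)
    {s g : G} (hs : s ∈ (S : Subgroup G)) (hg : g * s * g⁻¹ ∈ (S : Subgroup G)) :
    f (g * s * g⁻¹) = f s := by
  refine fusion_induction S f (fun D hD hC htame g hg d hd => ?_) hs hg
  by_cases hAut : IsPGroup 2 (MulAut D)
  · obtain ⟨s, hsS, -, hs⟩ := normalizer_eq_of_isPGroup S hAut htame g hg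
    rw [hs d hd, hS s hsS d (hD hd)]
  have hmap : (D.subgroupOf (S : Subgroup G)).map (S : Subgroup G).subtype = D :=
    Subgroup.map_subgroupOf_eq_of_le hD
  have hC' : Subgroup.centralizer ((D.subgroupOf (S : Subgroup G) : Subgroup _) : Set ↥(S : Subgroup G)) ≤
      D.subgroupOf (S : Subgroup G) := by
    intro c hc
    refine hC ⟨c.2, fun w hw => ?_⟩
    exact congrArg Subtype.val (hc ⟨w, hD hw⟩ hw)
  have hA' : ¬ IsPGroup 2 (MulAut ↥(D.subgroupOf (S : Subgroup G))) := fun hp =>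
    hAut (hp.of_equiv (MulAut.congr (Subgroup.subgroupOfEquivOfLe hD)))
  rcases h.dense_cases hC' hA' with hB | ⟨e', he', hB⟩
  · have hDA : D = h.gBase := by rw [← hmap, hB]
    subst hDA
    exact hA g hg d hd
  · have hDA : D = h.gSlope e' := by rw [← hmap, hB]
    subst hDA
    obtain ⟨t, ht⟩ := h.map_slope_conj he he'
    have htX : (h.gSlope e).map (MulAut.conj (t : G)).toMonoidHom = h.gSlope e' := by
      rw [gSlope, gSlope, ← ht, Subgroup.map_map, Subgroup.map_map]
      rfl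
    obtain ⟨d₀, hd₀, rfl⟩ : d ∈ (h.gSlope e).map (MulAut.conj (t : G)).toMonoidHom := htX ▸ hd
    simp only [MulEquiv.coe_toMonoidHom, MulAut.conj_apply]
    have hg' : (t : G)⁻¹ * g * t ∈ Subgroup.normalizer (h.gSlope e : Set G) := by
      refine Subgroup.mem_normalizer_fintype fun w hw => ?_
      have h1 : (t : G) * w * (t : G)⁻¹ ∈ h.gSlope e' := htX ▸ ⟨w, hw, rfl⟩
      have h2 := (Subgroup.mem_normalizer_iff.mp hg _).mp h1
      rw [← htX] at h2
      obtain ⟨v, hv, hv'⟩ := h2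
      simp only [MulEquiv.coe_toMonoidHom, MulAut.conj_apply] at hv'
      rw [SetLike.mem_coe] at hv ⊢
      convert hv using 1
      rw [show v = (t : G)⁻¹ * (g * ((t : G) * w * (t : G)⁻¹) * g⁻¹) * t by rw [← hv']; group]
      group
    have hmem : (t : G)⁻¹ * g * t * d₀ * ((t : G)⁻¹ * g * t)⁻¹ ∈ h.gSlope e :=
      (Subgroup.mem_normalizer_iff.mp hg' d₀).mp hd₀
    rw [show g * ((t : G) * d₀ * (t : G)⁻¹) * g⁻¹ =
      t * ((t : G)⁻¹ * g * t * d₀ * ((t : G)⁻¹ * g * t)⁻¹) * (t : G)⁻¹ by group,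
      hS _ t.2 _ (Subgroup.map_subtype_le _ hmem), hX _ hg' d₀ hd₀,
      hS _ t.2 _ (Subgroup.map_subtype_le _ hd₀)]

/-- With automizer of order 2 the base group is no source of fusion. -/
theorem base_preserved (h : WR _ n x y z)
    (h2 : (Subgroup.centralizer (h.gBase : Set G)).relIndex (Subgroup.normalizer (h.gBase : Set G)) = 2)
    {g : G} (hg : g ∈ Subgroup.normalizer (h.gBase : Set G)) :
    ∃ s ∈ (S : Subgroup G), ∀ d ∈ h.gBase, g * d * g⁻¹ = s * d * s⁻¹ := by
  rcases cases_of_relIndex_two h2 (h.sylow_le_normalizer_base z.2) h.automizer_base.2.2 hg with hc | hc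
  · exact ⟨1, one_mem _, fun d hd => by rw [← hc d hd]; group⟩
  · refine ⟨z, z.2, fun d hd => ?_⟩
    calc g * d * g⁻¹ = (z : G) * ((z : G)⁻¹ * g * d * ((z : G)⁻¹ * g)⁻¹) * (z : G)⁻¹ := by group
      _ = z * d * (z : G)⁻¹ := by rw [← hc d hd, mul_inv_cancel_right]

/-- The normalizer of an even slope subgroup centralizes the centre of the Sylow subgroup. -/
theorem normalizer_slope_centralizes (h : WR _ n x y z) {e : ℤ} (he : 2 ∣ e) :
    Subgroup.normalizer (h.gSlope e : Set G) ≤ Subgroup.centralizer (h.gCenter : Set G) := by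
  have hn := h.hn
  set X := h.gSlope e with hX
  set N := Subgroup.normalizer (X : Set G) with hN
  have hXS : X ≤ (S : Subgroup G) := Subgroup.map_subtype_le _
  have hcenX : ∀ w ∈ X, (∀ v ∈ X, v * w = w * v) → w ∈ h.gCenter := by
    rintro _ ⟨w, hw, rfl⟩ hcw
    refine coe_mem_map.mpr ?_
    exact h.center_le (h.slope_not_comm e) ⟨⟨w, hw⟩, Subgroup.mem_center_iff.mpr fun v =>
      Subtype.ext (Subtype.ext (hcw _ (coe_mem_map.mpr v.2))), rfl⟩
  have hcenX' : ∀ w ∈ h.gCenter, w ∈ X ∧ ∀ v ∈ (S : Subgroup G), v * w = w * v := by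
    rintro _ ⟨w, hw, rfl⟩
    exact ⟨coe_mem_map.mpr (h.center_le_slope _ hw), fun v hv =>
      congrArg Subtype.val (Subgroup.mem_center_iff.mp hw ⟨v, hv⟩)⟩
  have hNZ : N ≤ Subgroup.normalizer (h.gCenter : Set G) := by
    intro g hg
    refine Subgroup.mem_normalizer_fintype fun w hw => hcenX _ ((Subgroup.mem_normalizer_iff.mp hg w).mp (hcenX' w hw).1) ?_
    intro v hv
    have h1 : g⁻¹ * v * g ∈ X := by
      have := (Subgroup.mem_normalizer_iff.mp (inv_mem hg) v).mp hv
      simpa using this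
    calc v * (g * w * g⁻¹) = g * (g⁻¹ * v * g * w) * g⁻¹ := by group
      _ = g * (w * (g⁻¹ * v * g)) * g⁻¹ := by rw [(hcenX' w hw).2 _ (hXS h1)]
      _ = g * w * g⁻¹ * v := by group
  -- `N_S(X)` is a Sylow subgroup of `N`
  set W := ((S : Subgroup G) ⊓ N).subgroupOf N with hW
  have hsyl : ¬ 2 ∣ W.index := by
    obtain ⟨T, hT⟩ := ((S.isPGroup'.to_le
      (inf_le_left : (S : Subgroup G) ⊓ N ≤ S)).comap_subtype (K := N)).exists_le_sylow
    obtain ⟨c, hc⟩ := exists_conj_subset_sylow (T.isPGroup'.map N.subtype) S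
    have hX' : X.map (MulAut.conj c).toMonoidHom ≤ (S : Subgroup G) := by
      rintro _ ⟨w, hw, rfl⟩
      refine hc w ⟨⟨w, Subgroup.le_normalizer hw⟩, hT ?_, rfl⟩
      exact ⟨hXS hw, Subgroup.le_normalizer hw⟩
    obtain ⟨Q, ⟨eQ⟩, hQ⟩ := h.exists_quat8 he
    have hQX : Q.map (S : Subgroup G).subtype ≤ X := Subgroup.map_mono (hQ ▸ le_sup_left)
    let Q' := (Q.map (S : Subgroup G).subtype).map (MulAut.conj c).toMonoidHom
    have hQ'S : Q' ≤ (S : Subgroup G) := (Subgroup.map_mono hQX).trans hX'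
    let eQ' : Q' ≃* QuaternionGroup 2 :=
      (((Q.map (S : Subgroup G).subtype).equivMapOfInjective _ (MulAut.conj c).injective).symm.trans
        (Q.equivMapOfInjective _ (Subgroup.subtype_injective _)).symm).trans eQ
    obtain ⟨d, hd, hd'⟩ := h.eq_gSlope hQ'S eQ'
    have hsup : X = Q.map (S : Subgroup G).subtype ⊔ h.gCenter := by
      rw [hX, gSlope, hQ, Subgroup.map_sup]
    have hcZ : h.gCenter.map (MulAut.conj c).toMonoidHom = h.gCenter := by
      refine Subgroup.eq_of_le_of_card_ge ?_ (Subgroup.card_map_of_injective (MulAut.conj c).injective).ge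
      rintro _ ⟨w, hw, rfl⟩
      have hm : MulAut.conj c w ∈ (S : Subgroup G) := hX' ⟨w, (hcenX' w hw).1, rfl⟩
      refine coe_mem_map (s := ⟨_, hm⟩) |>.mpr
        (h.center_le (X := (X.map (MulAut.conj c).toMonoidHom).subgroupOf (S : Subgroup G)) (fun hab => ?_)
          ⟨⟨⟨_, hm⟩, ⟨w, (hcenX' w hw).1, rfl⟩⟩, Subgroup.mem_center_iff.mpr ?_, rfl⟩)
      · refine h.slope_not_comm e ⟨⟨fun a b => Subtype.ext (Subtype.ext ?_)⟩⟩
        have ha : MulAut.conj c ((a : ↥(S : Subgroup G)) : G) ∈ X.map (MulAut.conj c).toMonoidHom :=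
          ⟨_, coe_mem_map.mpr a.2, rfl⟩
        have hb : MulAut.conj c ((b : ↥(S : Subgroup G)) : G) ∈ X.map (MulAut.conj c).toMonoidHom :=
          ⟨_, coe_mem_map.mpr b.2, rfl⟩
        have h1 := congrArg (fun u => ((u : ↥(S : Subgroup G)) : G))
          (congrArg Subtype.val (hab.is_comm.comm ⟨⟨_, hX' ha⟩, ha⟩ ⟨⟨_, hX' hb⟩, hb⟩))
        simp only [Subgroup.coe_mul] at h1 ⊢
        rw [← map_mul, ← map_mul] at h1
        exact (MulAut.conj c).injective h1
      · rintro ⟨v, hv⟩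
        obtain ⟨v', hv', hvv⟩ := hv
        refine Subtype.ext (Subtype.ext ?_)
        simp only [Subgroup.coe_mul]
        rw [show (v : G) = MulAut.conj c v' from hvv.symm]
        simp only [← map_mul]
        rw [(hcenX' w hw).2 v' (hXS hv')]
    have hXd : X.map (MulAut.conj c).toMonoidHom = h.gSlope d := by
      rw [hsup, Subgroup.map_sup, hcZ]
      exact hd'
    obtain ⟨t, ht⟩ := h.map_slope_conj hd he
    have htX : (h.gSlope d).map (MulAut.conj (t : G)).toMonoidHom = X := by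
      rw [hX, gSlope, gSlope, ← ht, Subgroup.map_map, Subgroup.map_map]
      rfl
    have hle : ((T : Subgroup N).map N.subtype).map (MulAut.conj ((t : G) * c)).toMonoidHom ≤
        (S : Subgroup G) ⊓ N := by
      rintro _ ⟨_, ⟨u, hu, rfl⟩, rfl⟩
      simp only [MulEquiv.coe_toMonoidHom, MulAut.conj_apply, Subgroup.subtype_apply]
      refine ⟨?_, ?_⟩
      · rw [show (t : G) * c * u * ((t : G) * c)⁻¹ = t * (c * u * c⁻¹) * (t : G)⁻¹ by group]
        have hcu : c * u * c⁻¹ ∈ (S : Subgroup G) := hc (u : G) ⟨u, hu, rfl⟩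
        have ht2 : (t : G) ∈ (S : Subgroup G) := t.2
        exact ((S : Subgroup G).mul_mem ((S : Subgroup G).mul_mem ht2 hcu) ((S : Subgroup G).inv_mem ht2))
      · have htc : X.map (MulAut.conj ((t : G) * c)).toMonoidHom = X := by
          rw [show (MulAut.conj ((t : G) * c)).toMonoidHom =
              (MulAut.conj (t : G)).toMonoidHom.comp (MulAut.conj c).toMonoidHom by ext; simp [mul_assoc],
            ← Subgroup.map_map, hXd, htX]
        refine Subgroup.mem_normalizer_fintype fun w hw => ?_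
        rw [SetLike.mem_coe, ← htc] at hw ⊢
        obtain ⟨v, hv, rfl⟩ := hw
        refine ⟨(u : G) * v * (u : G)⁻¹, (Subgroup.mem_normalizer_iff.mp u.2 v).mp hv, ?_⟩
        simp only [MulEquiv.coe_toMonoidHom, MulAut.conj_apply]
        group
    have hWT : W = (T : Subgroup N) := by
      refine Subgroup.eq_of_le_of_card_ge hT ?_
      have h1 := Subgroup.card_le_of_le hle
      rw [Subgroup.card_map_of_injective (MulAut.conj _).injective,
        Subgroup.card_map_of_injective N.subtype_injective,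
        ← Nat.card_congr (Subgroup.subgroupOfEquivOfLe (inf_le_right : (S : Subgroup G) ⊓ N ≤ N)).toEquiv] at h1
      exact h1
    rw [hWT]
    exact T.not_dvd_index
  let ψ : ↥N →* MulAut h.gCenter := h.gCenter.normalizerMonoidHom.comp (Subgroup.inclusion hNZ)
  have hψ : ∀ g : ↥N, ψ g = 1 ↔ (g : G) ∈ Subgroup.centralizer (h.gCenter : Set G) := by
    intro g
    rw [← MonoidHom.mem_ker]
    show Subgroup.inclusion hNZ g ∈ h.gCenter.normalizerMonoidHom.ker ↔ _
    rw [Subgroup.normalizerMonoidHom_ker, Subgroup.mem_subgroupOf]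
    rfl
  have hWk : W ≤ ψ.ker := by
    rintro ⟨s, hs⟩ ⟨hsS, -⟩
    rw [MonoidHom.mem_ker, hψ]
    intro w hw
    exact ((hcenX' w hw).2 s hsS).symm
  have hcyc : IsCyclic h.gCenter := by
    have hc : IsCyclic (Subgroup.center ↥(S : Subgroup G)) := by rw [h.center_eq]; infer_instance
    exact isCyclic_of_surjective ((Subgroup.center ↥(S : Subgroup G)).equivMapOfInjective _
      (Subgroup.subtype_injective _)) (MulEquiv.surjective _)
  have hcard : Nat.card h.gCenter = 2 ^ n := by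
    rw [Subgroup.card_map_of_injective (Subgroup.subtype_injective _), h.center_eq, Nat.card_zpowers,
      h.orderOf_el_of_left]
  have h1 : ψ.ker.index ∣ 2 ^ (n - 1) := by
    rw [Subgroup.index_ker]
    have := ψ.range.card_subgroup_dvd_card
    rwa [IsCyclic.card_mulAut, hcard, Nat.totient_prime_pow Nat.prime_two (by omega),
      show (2 : ℕ) - 1 = 1 from rfl, mul_one] at this
  obtain ⟨l, -, hl⟩ := (Nat.dvd_prime_pow Nat.prime_two).mp h1
  intro g hg
  rcases l with _ | l
  · have : ψ.ker = ⊤ := Subgroup.index_eq_one.mp (by rw [hl, pow_zero])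
    exact (hψ ⟨g, hg⟩).mp (MonoidHom.mem_ker.mp (this ▸ Subgroup.mem_top _))
  · exact absurd ((dvd_pow_self 2 (Nat.succ_ne_zero l)).trans (hl ▸ Subgroup.index_dvd_of_le hWk)) hsyl

end WR

end Cfsg.Agent.Invol
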