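import Mathlib
import Cfsg.Agent.Lib.Invol.WreathedFusion
import Cfsg.Agent.Lib.Invol.RealizeIndexTwo

/-!
Automorphisms of wreathed groups and of their two distinguished subgroups.
-/

set_option autoImplicit false
set_option linter.unusedSectionVars false
set_option linter.style.haveILetI false

open scoped Classical

namespace Cfsg.Agent.Invol.WR

open Subgroup

variable {S : Type*} [Group S] {n : ℕ} {x y z : S}

theorem two_hh_eq (h : WR S n x y z) : (2 : ℤ) ^ n = 2 * hh n := by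
  rw [← h.orderOf_cast, h.ox]; push_cast; rfl

/-- A homomorphism on a wreathed group, from the images of `x`, `y`, `z`. -/
theorem exists_lift_hom (h : WR S n x y z) {G : Type*} [Group G] {X Y Z : G}
    (hX : X ^ (2 * hh n) = 1) (hY : Y ^ (2 * hh n) = 1) (hc : Commute X Y) (hZ : Z * Z = 1)
    (hXY : Z * X * Z⁻¹ = Y) :
    ∃ φ : S →* G, (∀ i j, φ (h.el i j) = X ^ i * Y ^ j) ∧ φ z = Z := by
  have hwd : ∀ i j k l, h.el i j = h.el k l → X ^ i * Y ^ j = X ^ k * Y ^ l := by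
    intro i j k l he
    obtain ⟨⟨a, ha⟩, ⟨b, hb⟩⟩ := h.el_eq.mp he
    rw [show i = k + 2 * hh n * a by linarith, show j = l + 2 * hh n * b by linarith, zpow_add,
      zpow_add, zpow_mul X, zpow_mul Y, hX, hY, one_zpow, one_zpow, mul_one, mul_one]
  have hYX : Z * Y * Z⁻¹ = X := by
    have hZi : Z⁻¹ = Z := inv_eq_of_mul_eq_one_right hZ
    rw [← hXY, hZi]
    calc Z * (Z * X * Z) * Z = (Z * Z) * X * (Z * Z) := by group
      _ = X := by rw [hZ, one_mul, mul_one]
  have hsw : ∀ i j : ℤ, Z * (X ^ i * Y ^ j) = X ^ j * Y ^ i * Z := by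
    intro i j
    have : Z * (X ^ i * Y ^ j) * Z⁻¹ = X ^ j * Y ^ i := by
      calc Z * (X ^ i * Y ^ j) * Z⁻¹ = (Z * X * Z⁻¹) ^ i * (Z * Y * Z⁻¹) ^ j := by
            rw [conj_zpow, conj_zpow]; group
        _ = _ := by rw [hXY, hYX, (hc.zpow_zpow j i).eq]
    rw [← this, inv_mul_cancel_right]
  have hmul : ∀ i j k l : ℤ, X ^ i * Y ^ j * (X ^ k * Y ^ l) = X ^ (i + k) * Y ^ (j + l) := by
    intro i j k l
    rw [zpow_add, zpow_add, mul_assoc, ← mul_assoc (Y ^ j), ← (hc.zpow_zpow k j).eq]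
    group
  have hex : ∀ s : S, ∃ g : G, ∀ i j, (s = h.el i j → g = X ^ i * Y ^ j) ∧
      (s = h.el i j * z → g = X ^ i * Y ^ j * Z) := by
    intro s
    obtain ⟨i, j, rfl | rfl⟩ := h.cases' s
    · exact ⟨_, fun k l => ⟨hwd _ _ _ _, fun e => absurd e.symm (h.el_z_ne _ _ _ _)⟩⟩
    · exact ⟨_, fun k l => ⟨fun e => absurd e (h.el_z_ne _ _ _ _),
        fun e => congrArg (· * Z) (hwd _ _ _ _ (mul_right_cancel e))⟩⟩
  choose f hf using hex
  have hfe : ∀ i j, f (h.el i j) = X ^ i * Y ^ j := fun i j => (hf _ i j).1 rfl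
  have hfz : ∀ i j, f (h.el i j * z) = X ^ i * Y ^ j * Z := fun i j => (hf _ i j).2 rfl
  refine ⟨MonoidHom.mk' f fun a b => ?_, hfe, ?_⟩
  · obtain ⟨i, j, rfl | rfl⟩ := h.cases' a <;> obtain ⟨k, l, rfl | rfl⟩ := h.cases' b
    · rw [h.el_mul, hfe, hfe, hfe, hmul]
    · rw [← mul_assoc, h.el_mul, hfz, hfe, hfz, ← mul_assoc, hmul]
    · rw [h.el_z_mul_el, hfz, hfz, hfe, ← hmul i j l k, mul_assoc _ (X ^ l * Y ^ k) Z, ← hsw k l,
        ← mul_assoc]
    · rw [h.el_z_mul, hfe, hfz, hfz, ← hmul i j l k]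
      calc X ^ i * Y ^ j * (X ^ l * Y ^ k)
          = X ^ i * Y ^ j * (X ^ l * Y ^ k * Z * Z) := by rw [mul_assoc (X ^ l * Y ^ k), hZ, mul_one]
        _ = _ := by rw [← hsw k l]; group
  · show f z = Z
    have := hfz 0 0
    rwa [h.el_zero, one_mul, zpow_zero, zpow_zero, one_mul, one_mul] at this

theorem lift_hom_injective (h : WR S n x y z) {G : Type*} [Group G] {X Y : G} (φ : S →* G)
    (hel : ∀ i j, φ (h.el i j) = X ^ i * Y ^ j)
    (h1 : ∀ i j : ℤ, X ^ i * Y ^ j = 1 → 2 * hh n ∣ i ∧ 2 * hh n ∣ j)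
    (h2 : ∀ i j : ℤ, φ z ≠ X ^ i * Y ^ j) : Function.Injective φ := by
  rw [injective_iff_map_eq_one]
  intro s hs
  obtain ⟨i, j, rfl | rfl⟩ := h.cases' s
  · rw [hel] at hs
    exact h.el_eq_one.mpr (h1 i j hs)
  · exfalso
    rw [map_mul, mul_eq_one_iff_eq_inv'] at hs
    refine h2 (-i) (-j) ?_
    rw [hs, ← map_inv, h.el_inv, hel]

/-- Two homomorphisms agree on the base group once they do on two suitable elements. -/
theorem ext_base (h : WR S n x y z) {M : Type*} [Group M] {f g : S → M}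
    (hf : ∀ a ∈ h.base, ∀ b ∈ h.base, f (a * b) = f a * f b)
    (hg : ∀ a ∈ h.base, ∀ b ∈ h.base, g (a * b) = g a * g b)
    {a b : ℤ} (hab : ¬ 2 ∣ a - b) (hv : f (h.el 1 1) = g (h.el 1 1))
    (hr : f (h.el a b) = g (h.el a b)) : ∀ s ∈ h.base, f s = g s := by
  let F : h.base →* M := MonoidHom.mk' (fun s => f s) fun p q => hf p p.2 q q.2
  let K : h.base →* M := MonoidHom.mk' (fun s => g s) fun p q => hg p p.2 q q.2
  obtain ⟨p, q, hpq⟩ : IsCoprime (a - b) (2 * hh n) := by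
    rw [← h.two_hh_eq]
    refine IsCoprime.pow_right ?_
    obtain ⟨m, hm⟩ : ∃ m, a - b = 2 * m + 1 := ⟨(a - b) / 2, by omega⟩
    exact ⟨1, -m, by linarith⟩
  intro s hs
  obtain ⟨i, j, rfl⟩ := hs
  let v : h.base := ⟨h.el 1 1, h.el_mem_base _ _⟩
  let r : h.base := ⟨h.el a b, h.el_mem_base _ _⟩
  have hgen : (⟨h.el i j, h.el_mem_base i j⟩ : h.base) =
      v ^ (i - (i - j) * p * a) * r ^ ((i - j) * p) := by
    refine Subtype.ext ?_
    rw [Subgroup.coe_mul, Subgroup.coe_zpow, Subgroup.coe_zpow]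
    show h.el i j = h.el 1 1 ^ _ * h.el a b ^ _
    rw [h.el_zpow, h.el_zpow, h.el_mul, h.el_eq]
    exact ⟨⟨0, by ring⟩, ⟨-((i - j) * q), by linear_combination (i - j) * hpq⟩⟩
  show F ⟨h.el i j, h.el_mem_base i j⟩ = K ⟨h.el i j, h.el_mem_base i j⟩
  rw [hgen, map_mul, map_mul, map_zpow, map_zpow, map_zpow, map_zpow, show F v = K v from hv,
    show F r = K r from hr]

/-- Change of coordinates sending a suitable element to `(-2, 1)` and fixing `z`, `(1, 1)`. -/
theorem exists_straighten (h : WR S n x y z) {a b : ℤ} (hab : ¬ 2 ∣ a - b)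
    (hsum : 2 * hh n ∣ a + b + 1) :
    ∃ (σ : MulAut S) (s t : ℤ), s + t = 1 ∧ σ z = z ∧
      (∀ i j, σ (h.el i j) = h.el (i * s + j * t) (i * t + j * s)) ∧
      σ (h.el 1 1) = h.el 1 1 ∧ σ (h.el a b) = h.el (-2) 1 ∧ σ (h.el b a) = h.el 1 (-2) := by
  have := h.finite
  obtain ⟨p, q, hpq⟩ : IsCoprime (a - b) (2 * hh n) := by
    rw [← h.two_hh_eq]
    refine IsCoprime.pow_right ?_
    obtain ⟨m, hm⟩ : ∃ m, a - b = 2 * m + 1 := ⟨(a - b) / 2, by omega⟩
    exact ⟨1, -m, by linarith⟩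
  obtain ⟨c, hc⟩ := hsum
  set s : ℤ := (-2 - b) * p with hs
  set t : ℤ := 1 - s with ht
  obtain ⟨φ, hφ, hφz⟩ := h.exists_lift_hom (X := h.el s t) (Y := h.el t s) (Z := z)
    (by rw [h.el_zpow, h.el_eq_one]; exact ⟨dvd_mul_right _ _, dvd_mul_right _ _⟩)
    (by rw [h.el_zpow, h.el_eq_one]; exact ⟨dvd_mul_right _ _, dvd_mul_right _ _⟩)
    (h.el_comm _ _ _ _) h.z_mul_self (h.z_conj_el s t)
  have hel : ∀ i j, φ (h.el i j) = h.el (i * s + j * t) (i * t + j * s) := fun i j => by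
    rw [hφ, h.el_zpow, h.el_zpow, h.el_mul]
  have hinj : Function.Injective φ := by
    refine h.lift_hom_injective φ hφ (fun i j he => ?_) fun i j he => ?_
    · rw [h.el_zpow, h.el_zpow, h.el_mul, h.el_eq_one] at he
      obtain ⟨⟨u, hu⟩, ⟨w, hw⟩⟩ := he
      obtain ⟨p', q', hpq'⟩ : IsCoprime (2 * s - 1) (2 * hh n) := by
        rw [← h.two_hh_eq]
        exact IsCoprime.pow_right ⟨-1, s, by ring⟩
      have hd : 2 * hh n ∣ i - j := ⟨(u - w) * p' + (i - j) * q', by
        linear_combination p' * hu - p' * hw - (i - j) * hpq'⟩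
      obtain ⟨d, hd⟩ := hd
      have hi : 2 * hh n ∣ i := ⟨u + t * d, by linear_combination hu + t * hd⟩
      exact ⟨hi, by simpa using dvd_sub hi (Dvd.intro d hd.symm)⟩
    · rw [hφz, h.el_zpow, h.el_zpow, h.el_mul] at he
      exact h.z_notMem ⟨_, _, he.symm⟩
  refine ⟨MulEquiv.ofBijective φ ((Finite.injective_iff_bijective).mp hinj), s, t, by ring, hφz, hel,
    ?_, ?_, ?_⟩ <;> refine (hel _ _).trans (h.el_eq.mpr ?_)
  · exact ⟨⟨0, by ring⟩, ⟨0, by ring⟩⟩
  · exact ⟨⟨(2 + b) * q, by rw [ht, hs]; linear_combination (-2 - b) * hpq⟩,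
      ⟨c - (2 + b) * q, by rw [ht, hs]; linear_combination hc - (-2 - b) * hpq⟩⟩
  · exact ⟨⟨c - (2 + b) * q, by rw [ht, hs]; linear_combination hc - (-2 - b) * hpq⟩,
      ⟨(2 + b) * q, by rw [ht, hs]; linear_combination (-2 - b) * hpq⟩⟩

/-- The square roots of one in the base group. -/
theorem four_elements (h : WR S n x y z) {s : S} (hs : s ∈ h.base) (h2 : s * s = 1) :
    s = 1 ∨ s = h.el (hh n) (hh n) ∨ s = h.el (hh n) 0 ∨ s = h.el 0 (hh n) := by
  by_cases h1 : s = 1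
  · exact .inl h1
  rcases h.involution_cases (orderOf_eq_prime (by rwa [pow_two]) h1) with
    rfl | rfl | rfl | ⟨i, j, -, rfl⟩
  · exact .inr (.inl rfl)
  · exact .inr (.inr (.inl rfl))
  · exact .inr (.inr (.inr rfl))
  · exact absurd hs (h.el_z_notMem i j)

theorem half_mul_w (h : WR S n x y z) :
    h.el (hh n) 0 * h.el (hh n) (hh n) = h.el 0 (hh n) := by
  rw [h.el_mul, h.el_eq]
  exact ⟨⟨1, by ring⟩, ⟨0, by ring⟩⟩

theorem half'_ne (h : WR S n x y z) :
    h.el 0 (hh n) ≠ h.el (hh n) (hh n) ∧ h.el 0 (hh n) ≠ h.el (hh n) 0 ∧ h.el 0 (hh n) ≠ 1 := by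
  have h0 : ¬ 2 * hh n ∣ hh n := fun hd => by
    have := Int.le_of_dvd h.hh_pos hd; have := h.hh_pos; omega
  refine ⟨fun e => h0 ?_, fun e => h0 ?_, fun e => h0 (h.el_eq_one.mp e).2⟩
  · simpa using (h.el_eq.mp e).1
  · simpa using (h.el_eq.mp e).1

theorem isPGroup_mulAut (h : WR S n x y z) : IsPGroup 2 (MulAut S) := by
  have := h.finite
  by_contra hcon
  obtain ⟨p, φ, hp, hφ, hne⟩ := exists_odd_prime_order hcon
  have hP : IsPGroup 2 S := IsPGroup.of_card h.card
  have hpres : ∀ s, s ∈ h.base → φ s ∈ h.base := by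
    intro s hs
    have hbe : h.base.map φ.toMonoidHom = h.base := by
      refine h.eq_base ⟨⟨?_⟩⟩
        (by rw [Subgroup.card_map_of_injective φ.injective, h.card_base])
      rintro ⟨_, a, ha, rfl⟩ ⟨_, b, hb, rfl⟩
      refine Subtype.ext ?_
      show φ a * φ b = φ b * φ a
      rw [← map_mul, ← map_mul, h.base_comm ha hb]
    exact hbe ▸ ⟨s, hs, rfl⟩
  have hw0 : h.el (hh n) (hh n) ≠ 1 := fun e => by
    have := h.orderOf_w; rw [e, orderOf_one] at this; omega
  have hw : φ (h.el (hh n) (hh n)) = h.el (hh n) (hh n) := by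
    have hc : φ (h.el (hh n) (hh n)) ∈ Subgroup.center S := Subgroup.mem_center_iff.mpr fun g => by
      obtain ⟨g, rfl⟩ := φ.surjective g
      rw [← map_mul, ← map_mul, h.el_diag_central]
    have h2 : φ (h.el (hh n) (hh n)) * φ (h.el (hh n) (hh n)) = 1 := by
      rw [← map_mul, ← pow_two, ← h.orderOf_w, pow_orderOf_eq_one, map_one]
    rcases h.four_elements (hpres _ (h.el_mem_base _ _)) h2 with e | e | e | e
    · exact absurd ((map_eq_one_iff φ φ.injective).mp e) hw0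
    · exact e
    all_goals
      rw [e, h.mem_center_el] at hc
      exfalso
      have h3 : 2 * hh n ∣ hh n := by simpa using hc
      have := Int.le_of_dvd h.hh_pos h3
      have := h.hh_pos
      omega
  have hv : φ (h.el (hh n) 0) = h.el (hh n) 0 := by
    have h2 : φ (h.el (hh n) 0) * φ (h.el (hh n) 0) = 1 := by
      rw [← map_mul, ← pow_two, ← h.orderOf_half, pow_orderOf_eq_one, map_one]
    rcases h.four_elements (hpres _ (h.el_mem_base _ _)) h2 with e | e | e | e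
    · have := (map_eq_one_iff φ φ.injective).mp e
      have h3 := h.orderOf_half
      rw [this, orderOf_one] at h3
      omega
    · exact absurd (φ.injective (e.trans hw.symm)) h.half_ne_w
    · exact e
    · exact fixed_of_mul_fixed hP hp hφ hw (e.trans h.half_mul_w.symm)
  have hφb : ∀ s ∈ h.base, φ s = s := by
    let ψ : MulAut h.base := MulEquiv.ofBijective
      ((φ.toMonoidHom.comp h.base.subtype).codRestrict h.base fun s => hpres s s.2)
      ((Finite.injective_iff_bijective).mp fun a b e =>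
        Subtype.ext (φ.injective (congrArg Subtype.val e)))
    have hψ : ∀ s : h.base, ((ψ s : h.base) : S) = φ s := fun s => rfl
    have hpow : ∀ (l : ℕ) (s : h.base), (((ψ ^ l) s : h.base) : S) = (φ ^ l) s := by
      intro l
      induction l with
      | zero => intro s; rfl
      | succ l ih => intro s; rw [pow_succ, pow_succ, MulAut.mul_apply, MulAut.mul_apply, ih, hψ]
    have h1 : ψ = 1 := by
      refine aut_eq_one_of_fix_involutions (hP.to_subgroup _)
        (fun a b => Subtype.ext (h.base_comm a.2 b.2)) hp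
        (MulEquiv.ext fun s => Subtype.ext (by rw [hpow, hφ]; rfl)) fun v hv2 => Subtype.ext ?_
      rw [hψ]
      rcases h.four_elements v.2 (congrArg Subtype.val hv2) with e | e | e | e <;> rw [e]
      · exact map_one φ
      · exact hw
      · exact hv
      · rw [← h.half_mul_w, map_mul, hv, hw]
    intro s hs
    have := congrArg (fun ξ : MulAut h.base => ((ξ ⟨s, hs⟩ : h.base) : S)) h1
    exact this
  refine hne (MulEquiv.ext fun s => ?_)
  rw [MulAut.one_apply]
  by_cases hs : s ∈ h.base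
  · exact hφb s hs
  · refine fixed_of_mul_fixed hP hp hφ (c := s⁻¹ * φ s) (hφb _ ?_) (mul_inv_cancel_left s _).symm
    rw [Subgroup.mul_mem_iff_of_index_two h.index_base, inv_mem_iff]
    refine iff_of_false hs fun hm => hs ?_
    have h2 := φ.injective (hφb _ hm)
    rwa [h2] at hm

end Cfsg.Agent.Invol.WR
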