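import Mathlib

/-!
# Transfer into a subgroup of index 2 of a Sylow 2-subgroup
-/

namespace Cfsg.Agent.Invol

variable {G : Type*} [Group G] [Finite G]

/-- If fusion respects a subgroup `M` of index 2 of a Sylow 2-subgroup, then `M` is cut out by a
normal subgroup of index 2. -/
theorem exists_index_two_of_respects (S : Sylow 2 G) {M : Subgroup G} (hMS : M ≤ (S : Subgroup G))
    (hM : M.relIndex (S : Subgroup G) = 2)
    (hf : ∀ s ∈ (S : Subgroup G), ∀ g : G, g * s * g⁻¹ ∈ (S : Subgroup G) →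
      (g * s * g⁻¹ ∈ M ↔ s ∈ M)) :
    ∃ K : Subgroup G, K.Normal ∧ K.index = 2 ∧ K ⊓ (S : Subgroup G) = M := by
  classical
  set N := M.subgroupOf (S : Subgroup G) with hN
  have hNi : N.index = 2 := hM
  have := Subgroup.normal_of_index_eq_two hNi
  have hprime : Fact (Nat.card (↥(S : Subgroup G) ⧸ N)).Prime := ⟨by rw [← Subgroup.index_eq_card, hNi]; exact Nat.prime_two⟩
  have hcyc : IsCyclic (↥(S : Subgroup G) ⧸ N) := isCyclic_of_prime_card (p := 2) (by rw [← Subgroup.index_eq_card, hNi])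
  let _ : CommGroup (↥(S : Subgroup G) ⧸ N) := IsCyclic.commGroup
  let φ : ↥(S : Subgroup G) →* ↥(S : Subgroup G) ⧸ N := QuotientGroup.mk' N
  have htwo : ∀ a : ↥(S : Subgroup G) ⧸ N, a ^ 2 = 1 := fun a => by
    have := pow_card_eq_one' (x := a)
    rwa [← Subgroup.index_eq_card, hNi] at this
  have hmem : ∀ s : ↥(S : Subgroup G), φ s = 1 ↔ (s : G) ∈ M := fun s => by
    rw [QuotientGroup.mk'_apply, QuotientGroup.eq_one_iff]; rfl
  have hsame : ∀ s t : ↥(S : Subgroup G), ((s : G) ∈ M ↔ (t : G) ∈ M) → φ s = φ t := by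
    intro s t h
    by_cases hs : φ s = 1
    · rw [hs, (hmem t).mpr (h.mp ((hmem s).mp hs))]
    · have ht : φ t ≠ 1 := fun ht => hs ((hmem s).mpr (h.mpr ((hmem t).mp ht)))
      have h1 : φ (s * t) = 1 := by
        rw [hmem]
        have := (Subgroup.mul_mem_iff_of_index_two hNi (a := s) (b := t)).mpr
          (iff_of_false (fun h1 => hs ((hmem s).mpr h1)) (fun h1 => ht ((hmem t).mpr h1)))
        exact this
      rw [map_mul, mul_eq_one_iff_eq_inv] at h1
      rw [h1, inv_eq_of_mul_eq_one_right (by rw [← pow_two]; exact htwo _)]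
  have := Fintype.ofFinite (G ⧸ (S : Subgroup G))
  have hodd : Odd (S : Subgroup G).index := by
    rw [Nat.odd_iff, ← Nat.two_dvd_ne_zero]; exact S.not_dvd_index
  set T := MonoidHom.transfer φ with hT
  have htr : ∀ s : ↥(S : Subgroup G), T (s : G) = φ s := by
    intro s
    rw [hT, MonoidHom.transfer_eq_prod_quotient_orbitRel_zpowers_quot]
    have hterm : ∀ q : Quotient (MulAction.orbitRel (Subgroup.zpowers (s : G)) (G ⧸ (S : Subgroup G))),
        φ ⟨_, QuotientGroup.out_conj_pow_minimalPeriod_mem (S : Subgroup G) (s : G) q.out⟩ =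
          φ s ^ Function.minimalPeriod ((s : G) • ·) q.out := by
      intro q
      rw [← map_pow]
      refine hsame _ _ ?_
      have hm := QuotientGroup.out_conj_pow_minimalPeriod_mem (S : Subgroup G) (s : G) q.out
      have := hf _ (pow_mem s.2 (Function.minimalPeriod ((s : G) • ·) q.out)) q.out.out⁻¹
        (by rwa [inv_inv])
      rw [inv_inv] at this
      simpa only [SubgroupClass.coe_pow] using this
    rw [Finset.prod_congr rfl fun q _ => hterm q, Finset.prod_pow_eq_pow_sum,
      ← Subgroup.index_eq_sum_minimalPeriod]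
    obtain ⟨k, hk⟩ := hodd
    rw [hk, pow_succ, pow_mul, htwo, one_pow, one_mul]
  refine ⟨T.ker, T.normal_ker, ?_, ?_⟩
  · rw [Subgroup.index_ker, MonoidHom.range_eq_top.mpr, Subgroup.card_top, ← Subgroup.index_eq_card, hNi]
    intro a
    obtain ⟨s, rfl⟩ := QuotientGroup.mk'_surjective N a
    exact ⟨s, htr s⟩
  · ext g
    constructor
    · rintro ⟨hg, hgS⟩
      rw [← hmem ⟨g, hgS⟩, ← htr]
      exact hg
    · intro hg
      refine ⟨?_, hMS hg⟩
      show T g = 1
      rw [htr ⟨g, hMS hg⟩, hmem]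
      exact hg

end Cfsg.Agent.Invol
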