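import Mathlib
import Cfsg.Agent.Lib.Invol.QuasiDihedral
import Cfsg.Agent.Lib.Invol.ThreeAction
import Cfsg.Agent.Lib.Invol.IndexTwoTransfer
import Cfsg.Agent.Lib.Invol.Sylow

/-!
# Fusion in groups with quasi-dihedral Sylow 2-subgroups
-/

namespace Cfsg.Agent.Invol

variable {G : Type*} [Group G] [Finite G] (S : Sylow 2 G)

/-- A 2-group inside an overgroup of a Sylow 2-subgroup is conjugate into it there. -/
theorem exists_conj_into_sylow {P H : Subgroup G} (hSH : (S : Subgroup G) ≤ H) (hPH : P ≤ H)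
    (hP : IsPGroup 2 P) : ∃ c ∈ H, ∀ a ∈ P, c * a * c⁻¹ ∈ (S : Subgroup G) := by
  obtain ⟨g, hg⟩ := exists_conj_subset_sylow (hP.comap_subtype (K := H) : IsPGroup 2 (P.subgroupOf H))
    (S.subtype hSH)
  exact ⟨g, g.2, fun a ha => hg ⟨a, hPH ha⟩ ha⟩

namespace QD

variable {S} {n : ℕ} {x y : ↥(S : Subgroup G)}

omit [Finite G] in
theorem isConj_coe {s t : ↥(S : Subgroup G)} {c : ↥(S : Subgroup G)} (h : c * s * c⁻¹ = t) :
    IsConj (s : G) (t : G) := isConj_iff.mpr ⟨c, congrArg Subtype.val h⟩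

/-- The non-central involutions are fused to the central one. -/
def FusT (n : ℕ) (x y : ↥(S : Subgroup G)) : Prop :=
  IsConj (y : G) ((x ^ (2 * qq n) : ↥(S : Subgroup G)) : G)

/-- The two classes of elements of order 4 are fused. -/
def FusQ (n : ℕ) (x y : ↥(S : Subgroup G)) : Prop :=
  IsConj ((x * y : ↥(S : Subgroup G)) : G) ((x ^ qq n : ↥(S : Subgroup G)) : G)

omit [Finite G] in
theorem isConj_even (h : QD _ n x y) {i : ℤ} (hi : 2 ∣ i) :
    IsConj ((x ^ i * y : ↥(S : Subgroup G)) : G) (y : G) := by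
  obtain ⟨k, hk⟩ := h.conj_mul_y (i := i) (j := 0) (by omega)
  rw [zpow_zero, one_mul] at hk
  exact isConj_coe hk

omit [Finite G] in
theorem isConj_odd (h : QD _ n x y) {i : ℤ} (hi : ¬ 2 ∣ i) :
    IsConj ((x ^ i * y : ↥(S : Subgroup G)) : G) ((x * y : ↥(S : Subgroup G)) : G) := by
  obtain ⟨k, hk⟩ := h.conj_mul_y (i := i) (j := 1) (by omega)
  rw [zpow_one] at hk
  exact isConj_coe hk

omit [Finite G] in
theorem isConj_quarter (h : QD _ n x y) :
    IsConj ((x ^ qq n : ↥(S : Subgroup G)) : G) ((x ^ (-qq n) : ↥(S : Subgroup G)) : G) :=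
  isConj_coe h.conj_y_quarter

omit [Finite G] in
theorem isConj_two_cases (h : QD _ n x y) {s : ↥(S : Subgroup G)} (hs : orderOf s = 2) :
    IsConj (s : G) ((x ^ (2 * qq n) : ↥(S : Subgroup G)) : G) ∨ IsConj (s : G) (y : G) := by
  rcases h.involution_cases hs with rfl | ⟨i, hi, rfl⟩
  exacts [.inl (IsConj.refl _), .inr (isConj_even h hi)]

omit [Finite G] in
theorem isConj_four_cases (h : QD _ n x y) {s : ↥(S : Subgroup G)} (hs : orderOf s = 4) :
    IsConj (s : G) ((x ^ qq n : ↥(S : Subgroup G)) : G) ∨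
      IsConj (s : G) ((x * y : ↥(S : Subgroup G)) : G) := by
  rcases h.four_cases hs with rfl | rfl | ⟨i, hi, rfl⟩
  exacts [.inl (IsConj.refl _), .inl (isConj_quarter h).symm, .inr (isConj_odd h hi)]

theorem classes_two (h : QD _ n x y) :
    {C : ConjClasses G | ∃ t : G, orderOf t = 2 ∧ ConjClasses.mk t = C} =
      {ConjClasses.mk ((x ^ (2 * qq n) : ↥(S : Subgroup G)) : G), ConjClasses.mk (y : G)} := by
  ext C
  constructor
  · rintro ⟨t, ht, rfl⟩
    obtain ⟨g, hg⟩ := exists_conj_mem_sylow (p := 2) (n := 1) (by rw [ht, pow_one]) S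
    have h1 : orderOf (⟨g * t * g⁻¹, hg⟩ : ↥(S : Subgroup G)) = 2 := by
      rw [Subgroup.orderOf_mk, ← MulAut.conj_apply, MulEquiv.orderOf_eq, ht]
    rcases isConj_two_cases h h1 with h2 | h2
    · exact .inl (ConjClasses.mk_eq_mk_iff_isConj.mpr ((isConj_iff.mpr ⟨g, rfl⟩).trans h2))
    · exact .inr (ConjClasses.mk_eq_mk_iff_isConj.mpr ((isConj_iff.mpr ⟨g, rfl⟩).trans h2))
  · rintro (rfl | rfl)
    · exact ⟨_, by rw [Subgroup.orderOf_coe, h.orderOf_z], rfl⟩
    · exact ⟨_, by rw [Subgroup.orderOf_coe, h.oy], rfl⟩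

theorem classes_four (h : QD _ n x y) :
    {C : ConjClasses G | ∃ t : G, orderOf t = 4 ∧ ConjClasses.mk t = C} =
      {ConjClasses.mk ((x ^ qq n : ↥(S : Subgroup G)) : G),
        ConjClasses.mk ((x * y : ↥(S : Subgroup G)) : G)} := by
  ext C
  constructor
  · rintro ⟨t, ht, rfl⟩
    obtain ⟨g, hg⟩ := exists_conj_mem_sylow (p := 2) (n := 2) (by rw [ht]; norm_num) S
    have h1 : orderOf (⟨g * t * g⁻¹, hg⟩ : ↥(S : Subgroup G)) = 4 := by
      rw [Subgroup.orderOf_mk, ← MulAut.conj_apply, MulEquiv.orderOf_eq, ht]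
    rcases isConj_four_cases h h1 with h2 | h2
    · exact .inl (ConjClasses.mk_eq_mk_iff_isConj.mpr ((isConj_iff.mpr ⟨g, rfl⟩).trans h2))
    · exact .inr (ConjClasses.mk_eq_mk_iff_isConj.mpr ((isConj_iff.mpr ⟨g, rfl⟩).trans h2))
  · rintro (rfl | rfl)
    · exact ⟨_, by rw [Subgroup.orderOf_coe, h.orderOf_quarter], rfl⟩
    · refine ⟨_, ?_, rfl⟩
      rw [Subgroup.orderOf_coe]
      simpa using h.orderOf_mul_y_odd (i := 1) (by omega)

theorem card_two_of_fusT (h : QD _ n x y) (hT : FusT n x y) :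
    Nat.card {C : ConjClasses G // ∃ t : G, orderOf t = 2 ∧ ConjClasses.mk t = C} = 1 := by
  change Nat.card ↥({C : ConjClasses G | ∃ t : G, orderOf t = 2 ∧ ConjClasses.mk t = C}) = 1
  rw [classes_two h, Nat.card_coe_set_eq, ← ConjClasses.mk_eq_mk_iff_isConj.mpr hT]
  simp

theorem card_two_of_not_fusT (h : QD _ n x y) (hT : ¬ FusT n x y) :
    Nat.card {C : ConjClasses G // ∃ t : G, orderOf t = 2 ∧ ConjClasses.mk t = C} = 2 := by
  change Nat.card ↥({C : ConjClasses G | ∃ t : G, orderOf t = 2 ∧ ConjClasses.mk t = C}) = 2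
  rw [classes_two h, Nat.card_coe_set_eq, Set.ncard_pair]
  exact fun he => hT (ConjClasses.mk_eq_mk_iff_isConj.mp he).symm

theorem card_four_of_fusQ (h : QD _ n x y) (hQ : FusQ n x y) :
    Nat.card {C : ConjClasses G // ∃ t : G, orderOf t = 4 ∧ ConjClasses.mk t = C} = 1 := by
  change Nat.card ↥({C : ConjClasses G | ∃ t : G, orderOf t = 4 ∧ ConjClasses.mk t = C}) = 1
  rw [classes_four h, Nat.card_coe_set_eq, ConjClasses.mk_eq_mk_iff_isConj.mpr hQ]
  simp

theorem card_four_of_not_fusQ (h : QD _ n x y) (hQ : ¬ FusQ n x y) :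
    Nat.card {C : ConjClasses G // ∃ t : G, orderOf t = 4 ∧ ConjClasses.mk t = C} = 2 := by
  change Nat.card ↥({C : ConjClasses G | ∃ t : G, orderOf t = 4 ∧ ConjClasses.mk t = C}) = 2
  rw [classes_four h, Nat.card_coe_set_eq, Set.ncard_pair]
  exact fun he => hQ (ConjClasses.mk_eq_mk_iff_isConj.mp he).symm

/-! ### The types of elements -/

omit [Finite G] in
theorem orderOf_isConj {a b : G} (hab : IsConj a b) : orderOf a = orderOf b := by
  obtain ⟨c, rfl⟩ := isConj_iff.mp hab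
  rw [← MulAut.conj_apply, MulEquiv.orderOf_eq]

omit [Finite G] in
theorem preserve_two (h : QD _ n x y) (hT : ¬ FusT n x y) {s t : ↥(S : Subgroup G)}
    (hst : IsConj (s : G) (t : G)) (hs : ∃ i : ℤ, 2 ∣ i ∧ s = x ^ i * y) :
    ∃ i : ℤ, 2 ∣ i ∧ t = x ^ i * y := by
  obtain ⟨i, hi, rfl⟩ := hs
  have ht : orderOf t = 2 := by
    rw [← Subgroup.orderOf_coe, ← orderOf_isConj hst, Subgroup.orderOf_coe, h.orderOf_mul_y_even hi]
  rcases h.involution_cases ht with rfl | h1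
  · exact absurd ((isConj_even h hi).symm.trans hst) hT
  · exact h1

omit [Finite G] in
theorem preserve_four (h : QD _ n x y) (hQ : ¬ FusQ n x y) {s t : ↥(S : Subgroup G)}
    (hst : IsConj (s : G) (t : G)) (hs : ∃ i : ℤ, ¬ 2 ∣ i ∧ s = x ^ i * y) :
    ∃ i : ℤ, ¬ 2 ∣ i ∧ t = x ^ i * y := by
  obtain ⟨i, hi, rfl⟩ := hs
  have ht : orderOf t = 4 := by
    rw [← Subgroup.orderOf_coe, ← orderOf_isConj hst, Subgroup.orderOf_coe, h.orderOf_mul_y_odd hi]
  rcases h.four_cases ht with rfl | rfl | h1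
  · exact absurd ((isConj_odd h hi).symm.trans hst) hQ
  · exact absurd (((isConj_odd h hi).symm.trans hst).trans (isConj_quarter h).symm) hQ
  · exact h1

omit [Finite G] in
theorem isGen_iff (h : QD _ n x y) {s : ↥(S : Subgroup G)} :
    (∃ i : ℤ, ¬ 2 ∣ i ∧ s = x ^ i) ↔ orderOf s = 2 ^ n := by
  have hn := h.hn
  have h8 : 8 ≤ 2 ^ n := (show (8 : ℕ) = 2 ^ 3 from rfl) ▸ Nat.pow_le_pow_right two_pos hn
  constructor
  · rintro ⟨i, hi, rfl⟩
    refine Nat.dvd_antisymm ?_ ?_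
    · rw [← h.ox]; exact orderOf_dvd_of_mem_zpowers (zpow_mem (Subgroup.mem_zpowers x) i)
    · obtain ⟨a, b, hab⟩ : IsCoprime i (4 * qq n) := by
        rw [show 4 * qq n = (2 : ℤ) ^ n by rw [← h.orderOf_cast, h.ox]; push_cast; rfl]
        obtain ⟨d, rfl⟩ : Odd i := Int.not_even_iff_odd.mp fun he => hi (even_iff_two_dvd.mp he)
        exact IsCoprime.pow_right ⟨1, -d, by ring⟩
      have hx : x ∈ Subgroup.zpowers (x ^ i) := Subgroup.mem_zpowers_iff.mpr ⟨a, by
        rw [← zpow_mul, (h.zpow_eq (i := i * a) (j := 1)).mpr ⟨-b, by linarith⟩, zpow_one]⟩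
      rw [← h.ox]
      exact orderOf_dvd_of_mem_zpowers hx
  · intro hs
    obtain ⟨i, rfl | rfl⟩ := h.cases' s
    · refine ⟨i, fun hi => ?_, rfl⟩
      obtain ⟨d, rfl⟩ := hi
      have h1 : (x ^ (2 * d)) ^ (2 ^ (n - 1)) = 1 := by
        rw [← zpow_natCast, ← zpow_mul, h.zpow_eq_one]
        refine ⟨d, ?_⟩
        rw [qq, show n - 1 = n - 2 + 1 by omega, pow_succ]
        push_cast
        ring
      have := Nat.le_of_dvd (by positivity) (orderOf_dvd_of_pow_eq_one h1)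
      rw [hs] at this
      exact absurd this (not_le.mpr (Nat.pow_lt_pow_right one_lt_two (by omega)))
    · by_cases hi : 2 ∣ i
      · rw [h.orderOf_mul_y_even hi] at hs; omega
      · rw [h.orderOf_mul_y_odd hi] at hs; omega

omit [Finite G] in
theorem not_gen_mul_y (h : QD _ n x y) (i : ℤ) : ¬ ∃ j : ℤ, ¬ 2 ∣ j ∧ x ^ i * y = x ^ j :=
  fun ⟨_, _, hj⟩ => h.zpow_mul_y_ne _ _ hj

omit [Finite G] in
theorem gen_zpow_iff (h : QD _ n x y) (i : ℤ) : (∃ j : ℤ, ¬ 2 ∣ j ∧ x ^ i = x ^ j) ↔ ¬ 2 ∣ i := by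
  refine ⟨fun ⟨j, hj, he⟩ hi => hj ?_, fun hi => ⟨i, hi, rfl⟩⟩
  obtain ⟨c, hc⟩ := h.zpow_eq.mp he
  obtain ⟨d, rfl⟩ := hi
  exact ⟨d - 2 * qq n * c, by linarith⟩

omit [Finite G] in
theorem class_mul_y_iff (h : QD _ n x y) (p : ℤ → Prop)
    (hp : ∀ i j : ℤ, 4 * qq n ∣ i - j → (p i ↔ p j)) (i : ℤ) :
    (∃ j : ℤ, p j ∧ x ^ i * y = x ^ j * y) ↔ p i :=
  ⟨fun ⟨_, hj, he⟩ => (hp _ _ (h.mul_y_eq.mp he)).mpr hj, fun hi => ⟨i, hi, rfl⟩⟩

omit [Finite G] in
theorem two_dvd_congr {n : ℕ} {i j : ℤ} (hd : 4 * qq n ∣ i - j) : 2 ∣ i ↔ 2 ∣ j := by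
  obtain ⟨c, hc⟩ := hd
  constructor <;> rintro ⟨d, hd⟩
  · exact ⟨d - 2 * qq n * c, by linarith⟩
  · exact ⟨d + 2 * qq n * c, by linarith⟩

/-- The coatom containing the even powers of `x` and `x ^ i * y`. -/
abbrev coatom (h : QD _ n x y) (i : ℤ) : Subgroup ↥(S : Subgroup G) := h.sub 2 (two_dvd n) i

omit [Finite G] in
theorem respects_zpowers (h : QD _ n x y) (hT : ¬ FusT n x y) (hQ : ¬ FusQ n x y)
    {s t : ↥(S : Subgroup G)} (hst : IsConj (s : G) (t : G)) (hs : s ∈ Subgroup.zpowers x) :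
    t ∈ Subgroup.zpowers x := by
  obtain ⟨i, rfl | rfl⟩ := h.cases' t
  · exact zpow_mem (Subgroup.mem_zpowers x) i
  · exfalso
    obtain ⟨k, rfl⟩ := Subgroup.mem_zpowers_iff.mp hs
    by_cases hi : 2 ∣ i
    · obtain ⟨j, -, hj⟩ := preserve_two h hT hst.symm ⟨i, hi, rfl⟩
      exact h.zpow_mul_y_ne _ _ hj.symm
    · obtain ⟨j, -, hj⟩ := preserve_four h hQ hst.symm ⟨i, hi, rfl⟩
      exact h.zpow_mul_y_ne _ _ hj.symm

omit [Finite G] in
theorem mem_coatom_one (h : QD _ n x y) (s : ↥(S : Subgroup G)) :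
    s ∈ h.coatom 1 ↔ ¬ (∃ i : ℤ, ¬ 2 ∣ i ∧ s = x ^ i) ∧ ¬ ∃ i : ℤ, 2 ∣ i ∧ s = x ^ i * y := by
  obtain ⟨i, rfl | rfl⟩ := h.cases' s
  · rw [h.zpow_mem_sub, gen_zpow_iff h, not_not]
    exact ⟨fun hi => ⟨hi, fun ⟨_, _, hj⟩ => h.zpow_mul_y_ne _ _ hj.symm⟩, fun hh => hh.1⟩
  · rw [h.mul_y_mem_sub, class_mul_y_iff h _ (fun _ _ => two_dvd_congr)]
    refine ⟨fun hi => ⟨not_gen_mul_y h i, by omega⟩, fun hh => by omega⟩

omit [Finite G] in
theorem mem_coatom_zero (h : QD _ n x y) (s : ↥(S : Subgroup G)) :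
    s ∈ h.coatom 0 ↔ ¬ (∃ i : ℤ, ¬ 2 ∣ i ∧ s = x ^ i) ∧ ¬ ∃ i : ℤ, ¬ 2 ∣ i ∧ s = x ^ i * y := by
  obtain ⟨i, rfl | rfl⟩ := h.cases' s
  · rw [h.zpow_mem_sub, gen_zpow_iff h, not_not]
    exact ⟨fun hi => ⟨hi, fun ⟨_, _, hj⟩ => h.zpow_mul_y_ne _ _ hj.symm⟩, fun hh => hh.1⟩
  · rw [h.mul_y_mem_sub, class_mul_y_iff h _ (fun _ _ hd => not_congr (two_dvd_congr hd)), sub_zero,
      not_not]
    exact ⟨fun hi => ⟨not_gen_mul_y h i, hi⟩, fun hh => hh.2⟩

omit [Finite G] in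
theorem respects_coatom_one (h : QD _ n x y) (hT : ¬ FusT n x y) {s t : ↥(S : Subgroup G)}
    (hst : IsConj (s : G) (t : G)) (hs : s ∈ h.coatom 1) : t ∈ h.coatom 1 := by
  rw [mem_coatom_one h] at hs ⊢
  refine ⟨fun ht => hs.1 ?_, fun ht => hs.2 (preserve_two h hT hst.symm ht)⟩
  rw [isGen_iff h, ← Subgroup.orderOf_coe] at ht ⊢
  rwa [orderOf_isConj hst]

omit [Finite G] in
theorem respects_coatom_zero (h : QD _ n x y) (hQ : ¬ FusQ n x y) {s t : ↥(S : Subgroup G)}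
    (hst : IsConj (s : G) (t : G)) (hs : s ∈ h.coatom 0) : t ∈ h.coatom 0 := by
  rw [mem_coatom_zero h] at hs ⊢
  refine ⟨fun ht => hs.1 ?_, fun ht => hs.2 (preserve_four h hQ hst.symm ht)⟩
  rw [isGen_iff h, ← Subgroup.orderOf_coe] at ht ⊢
  rwa [orderOf_isConj hst]

omit [Finite G] in
theorem index_coatom (h : QD _ n x y) (i : ℤ) : (h.coatom i).index = 2 := by
  have hn := h.hn
  have h1 := (h.coatom i).card_mul_index
  rw [h.card_sub, zpow_ofNat,
    orderOf_pow_of_dvd two_ne_zero (h.ox ▸ dvd_pow_self 2 (by omega)), h.ox, h.card,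
    show 2 ^ n / 2 = 2 ^ (n - 1) by rw [← Nat.pow_div (by omega) two_pos, pow_one],
    show 2 * 2 ^ (n - 1) = 2 ^ n by rw [← pow_succ', Nat.sub_add_cancel (by omega)],
    pow_succ 2 n] at h1
  exact Nat.eq_of_mul_eq_mul_left (by positivity) h1

/-- A subgroup of index 2 respected by fusion is cut out by a normal subgroup of index 2. -/
theorem exists_kernel (M : Subgroup ↥(S : Subgroup G)) (hM : M.index = 2)
    (hr : ∀ s t : ↥(S : Subgroup G), IsConj (s : G) (t : G) → s ∈ M → t ∈ M) :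
    ∃ K : Subgroup G, K.Normal ∧ K.index = 2 ∧
      K.subgroupOf (S : Subgroup G) = M := by
  have hsub : (M.map (S : Subgroup G).subtype).subgroupOf (S : Subgroup G) = M :=
    Subgroup.comap_map_eq_self_of_injective (Subgroup.subtype_injective _) M
  obtain ⟨K, hK, hK2, hKS⟩ := exists_index_two_of_respects S (M := M.map (S : Subgroup G).subtype)
    (Subgroup.map_subtype_le M) (by rw [Subgroup.relIndex, hsub, hM]) (fun s hs g hg => by
      constructor
      · rintro ⟨t, ht, he⟩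
        exact ⟨⟨s, hs⟩, hr t ⟨s, hs⟩ (isConj_iff.mpr ⟨g⁻¹, by
          change g⁻¹ * (t : G) * g⁻¹⁻¹ = s
          rw [show (t : G) = g * s * g⁻¹ from he]; group⟩) ht, rfl⟩
      · rintro ⟨t, ht, he⟩
        exact ⟨⟨_, hg⟩, hr t ⟨_, hg⟩ (isConj_iff.mpr ⟨g, by
          change g * (t : G) * g⁻¹ = g * s * g⁻¹
          rw [show (t : G) = s from he]⟩) ht, rfl⟩)
  refine ⟨K, hK, hK2, ?_⟩
  rw [← hsub, ← hKS, Subgroup.inf_subgroupOf_right]

/-- The trace of `K` on the Sylow subgroup, as a Sylow subgroup of `K`. -/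
theorem sylow_of_subgroupOf {K : Subgroup G} (hK2 : K.index = 2) (P : Sylow 2 K)
    {M : Subgroup ↥(S : Subgroup G)} (hM : M.index = 2) (hKS : K.subgroupOf (S : Subgroup G) = M) :
    Nonempty (↥(P : Subgroup K) ≃* ↥M) := by
  subst hKS
  have hle : K ⊓ (S : Subgroup G) ≤ K := inf_le_left
  have hp : IsPGroup 2 ((K ⊓ (S : Subgroup G)).subgroupOf K) := by
    refine IsPGroup.of_injective (S.isPGroup'.to_le inf_le_right : IsPGroup 2 ↥(K ⊓ (S : Subgroup G)))
      (Subgroup.subgroupOfEquivOfLe hle).toMonoidHom (Subgroup.subgroupOfEquivOfLe hle).injective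
  have hnd : ¬ 2 ∣ ((K ⊓ (S : Subgroup G)).subgroupOf K).index := by
    rw [← Subgroup.relIndex]
    intro hd
    refine S.not_dvd_index ?_
    have h1 := Subgroup.relIndex_mul_index (inf_le_left : K ⊓ (S : Subgroup G) ≤ K)
    rw [← Subgroup.relIndex_mul_index (inf_le_right : K ⊓ (S : Subgroup G) ≤ S),
      Subgroup.inf_relIndex_right] at h1
    rw [show K.relIndex (S : Subgroup G) = 2 from hM, hK2, mul_comm] at h1
    rwa [← Nat.eq_of_mul_eq_mul_left two_pos h1]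
  exact ⟨(Sylow.equiv P (hp.toSylow hnd)).trans ((Subgroup.subgroupOfEquivOfLe hle).trans
    ((MulEquiv.subgroupCongr (inf_comm _ _)).trans
      ((MulEquiv.subgroupCongr (Subgroup.map_subgroupOf_eq_of_le inf_le_left).symm).trans
        (((S : Subgroup G) ⊓ K).subgroupOf (S : Subgroup G) |>.equivMapOfInjective
          (S : Subgroup G).subtype (Subgroup.subtype_injective _)).symm |>.trans
        (MulEquiv.subgroupCongr (Subgroup.inf_subgroupOf_left _ _)))))⟩

/-! ### Automizers of the four-groups and quaternion groups -/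

/-- The normalizer of a four-group of `S`. -/
theorem automizer_four (h : QD _ n x y) {T : Subgroup G} (hT : IsKleinFour T) (hTS : T ≤ S) :
    ((Subgroup.centralizer (T : Set G)).relIndex (Subgroup.normalizer (T : Set G)) = 2 ∨
      (Subgroup.centralizer (T : Set G)).relIndex (Subgroup.normalizer (T : Set G)) = 6) ∧
    ((Subgroup.centralizer (T : Set G)).relIndex (Subgroup.normalizer (T : Set G)) = 6 ↔ FusT n x y) := by
  have hK : IsKleinFour (T.subgroupOf (S : Subgroup G)) :=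
    ⟨by rw [Nat.card_congr (Subgroup.subgroupOfEquivOfLe hTS).toEquiv, IsKleinFour.card_four],
      by rw [Monoid.exponent_eq_of_mulEquiv (Subgroup.subgroupOfEquivOfLe hTS), IsKleinFour.exponent_two]⟩
  obtain ⟨i, hi, hTi⟩ := h.eq_four hK
  have hmem : ∀ s : ↥(S : Subgroup G), (s : G) ∈ T ↔ s ∈ h.four i := fun s => by
    rw [← hTi]; exact Subgroup.mem_subgroupOf.symm
  set z : G := ((x ^ (2 * qq n) : ↥(S : Subgroup G)) : G) with hz
  have hzT : z ∈ T := (hmem _).mpr (h.z_mem_four i)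
  have hz1 : z ≠ 1 := fun h1 => h.z_ne_one (Subtype.ext h1)
  let P : G → Prop := fun t => t ∈ T ∧ t ≠ 1
  have hP : ∀ g ∈ Subgroup.normalizer (T : Set G), ∀ a, P (g * a * g⁻¹) ↔ P a := fun g hg a =>
    and_congr (Subgroup.mem_normalizer_iff.mp hg a).symm (not_congr conj_eq_one_iff)
  have hcard : Nat.card {t // P t} = 3 := by
    have e : Nat.card ↥((T : Set G) \ {1}) = 3 := by
      rw [Nat.card_coe_set_eq, Set.ncard_sdiff_singleton_of_mem (one_mem T), ← Nat.card_coe_set_eq]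
      change Nat.card T - 1 = 3
      rw [IsKleinFour.card_four]
    exact e
  have hker : (conjPerm _ P hP).ker =
      (Subgroup.centralizer (T : Set G)).subgroupOf (Subgroup.normalizer (T : Set G)) := by
    ext g
    rw [MonoidHom.mem_ker, Subgroup.mem_subgroupOf, Subgroup.mem_centralizer_iff]
    constructor
    · intro hg a ha
      by_cases ha1 : a = 1
      · simp [ha1]
      · have h1 := congrArg Subtype.val (DFunLike.congr_fun hg ⟨a, ha, ha1⟩)
        simp only [conjPerm_apply, Equiv.Perm.coe_one, id_eq] at h1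
        conv_lhs => rw [← h1]
        group
    · intro hg
      ext ⟨a, ha, ha1⟩
      simp only [conjPerm_apply, Equiv.Perm.coe_one, id_eq]
      rw [← hg a ha, mul_inv_cancel_right]
  obtain ⟨r, hr⟩ := h.qq_even
  have hnorm : h.quat i = Subgroup.normalizer ((h.four i : Subgroup ↥(S : Subgroup G)) : Set ↥(S : Subgroup G)) :=
    (h.normalizer_sub (d := qq n) dvd_rfl i).symm
  have hσN : ((x ^ qq n : ↥(S : Subgroup G)) : G) ∈ Subgroup.normalizer (T : Set G) := by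
    have h1 : x ^ qq n ∈ Subgroup.normalizer ((h.four i : Subgroup ↥(S : Subgroup G)) : Set ↥(S : Subgroup G)) :=
      hnorm ▸ (h.zpow_mem_sub _).mpr dvd_rfl
    rw [← hTi] at h1
    refine Subgroup.mem_normalizer_iff.mpr fun a => ⟨fun ha => ?_, fun ha => ?_⟩
    · exact (Subgroup.mem_normalizer_iff.mp h1 ⟨a, hTS ha⟩).mp ha
    · have h2 : a ∈ (S : Subgroup G) := by
        have := mul_mem (mul_mem (inv_mem (x ^ qq n).2) (hTS ha)) (x ^ qq n).2
        simpa [mul_assoc] using this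
      exact (Subgroup.mem_normalizer_iff.mp h1 ⟨a, h2⟩).mpr ha
  have hσz : ((x ^ qq n : ↥(S : Subgroup G)) : G) * z * ((x ^ qq n : ↥(S : Subgroup G)) : G)⁻¹ = z := by
    rw [hz, ← Subgroup.coe_inv, ← Subgroup.coe_mul, ← Subgroup.coe_mul, h.z_central, mul_inv_cancel_right]
  obtain ⟨h26, h6⟩ := index_two_or_six hcard (conjPerm _ P hP) hker ⟨z, hzT, hz1⟩ ⟨_, hσN⟩
    (Subtype.ext hσz) (fun h1 => by
      have hy : ((x ^ i * y : ↥(S : Subgroup G)) : G) ≠ 1 := fun h2 =>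
        h.zpow_mul_y_ne i 0 (by rw [zpow_zero]; exact Subtype.ext h2)
      have h2 := congrArg Subtype.val (DFunLike.congr_fun h1
        ⟨_, (hmem _).mpr ((h.mul_y_mem_sub _).mpr ⟨0, by ring⟩), hy⟩)
      simp only [conjPerm_apply, Equiv.Perm.coe_one, id_eq] at h2
      have h3 : x ^ qq n * (x ^ i * y) * (x ^ qq n)⁻¹ = x ^ i * y := Subtype.ext h2
      rw [h.conj_x, h.mul_y_eq] at h3
      obtain ⟨c, hc⟩ := h3
      have : qq n * (2 - 4 * r - 4 * c) = 0 := by linear_combination hc + 2 * qq n * hr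
      rcases mul_eq_zero.mp this with h0 | h0
      · exact h.qq_pos.ne' h0
      · omega)
  refine ⟨h26, h6.trans ⟨?_, ?_⟩⟩
  · rintro ⟨g, hg⟩
    set u := (conjPerm _ P hP g ⟨z, hzT, hz1⟩).1 with hu
    have huT : u ∈ T := (conjPerm _ P hP g ⟨z, hzT, hz1⟩).2.1
    have hu1 : u ≠ 1 := (conjPerm _ P hP g ⟨z, hzT, hz1⟩).2.2
    have hord : orderOf (⟨u, hTS huT⟩ : ↥(S : Subgroup G)) = 2 := by
      refine orderOf_eq_prime (Subtype.ext ?_) fun h2 => hu1 (congrArg Subtype.val h2)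
      rw [SubgroupClass.coe_pow, pow_two]
      exact congrArg Subtype.val (IsKleinFour.mul_self (G := T) ⟨u, huT⟩)
    have hzu : IsConj z u := isConj_iff.mpr ⟨g, rfl⟩
    rcases h.involution_cases hord with h2 | ⟨j, hj, h2⟩
    · refine absurd (Subtype.ext ?_) hg
      exact (congrArg Subtype.val h2 : u = z)
    · refine (hzu.trans ?_).symm
      rw [show u = ((x ^ j * y : ↥(S : Subgroup G)) : G) from congrArg Subtype.val h2]
      exact isConj_even h hj
  · intro hF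
    obtain ⟨g, hg⟩ := isConj_iff.mp ((isConj_even h hi).trans hF)
    rw [← hz] at hg
    have hTa : ∀ a ∈ T, a * ((x ^ i * y : ↥(S : Subgroup G)) : G) =
        ((x ^ i * y : ↥(S : Subgroup G)) : G) * a := fun a ha =>
      congrArg Subtype.val (mul_comm_of_exponent_two (IsKleinFour.exponent_two (G := T)) ⟨a, ha⟩
        ⟨_, (hmem _).mpr ((h.mul_y_mem_sub _).mpr ⟨0, by ring⟩)⟩)
    have hle : T.map (MulAut.conj g).toMonoidHom ≤ Subgroup.centralizer ({z} : Set G) := by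
      rintro _ ⟨a, ha, rfl⟩
      rw [Subgroup.mem_centralizer_singleton_iff]
      simp only [MulEquiv.coe_toMonoidHom, MulAut.conj_apply]
      rw [← hg]
      have h1 := hTa a ha
      generalize ((x ^ i * y : ↥(S : Subgroup G)) : G) = w at h1 ⊢
      calc g * a * g⁻¹ * (g * w * g⁻¹) = g * (a * w) * g⁻¹ := by group
        _ = g * w * g⁻¹ * (g * a * g⁻¹) := by rw [h1]; group
    have hSz : (S : Subgroup G) ≤ Subgroup.centralizer ({z} : Set G) := fun s hs => by
      rw [Subgroup.mem_centralizer_singleton_iff]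
      exact congrArg Subtype.val (h.z_central ⟨s, hs⟩)
    obtain ⟨c, hc, hcS⟩ := exists_conj_into_sylow S hSz hle
      ((S.isPGroup'.to_le hTS).map _)
    have hT' : IsKleinFour ((T.map (MulAut.conj (c * g)).toMonoidHom).subgroupOf (S : Subgroup G)) := by
      have hle' : T.map (MulAut.conj (c * g)).toMonoidHom ≤ (S : Subgroup G) := by
        rintro _ ⟨a, ha, rfl⟩
        have := hcS _ ⟨a, ha, rfl⟩
        simpa [mul_assoc] using this
      let e := (Subgroup.subgroupOfEquivOfLe hle').trans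
        (T.equivMapOfInjective _ (MulAut.conj (c * g)).injective).symm
      exact ⟨by rw [Nat.card_congr e.toEquiv, IsKleinFour.card_four],
        by rw [Monoid.exponent_eq_of_mulEquiv e, IsKleinFour.exponent_two]⟩
    obtain ⟨j, hj, hTj⟩ := h.eq_four hT'
    obtain ⟨k, hk⟩ := h.exists_conj_sub (hh_dvd n) (i := j) (j := i) (by omega)
    have hm : ∀ a ∈ T, ((x ^ k : ↥(S : Subgroup G)) : G) * (c * g) * a *
        (((x ^ k : ↥(S : Subgroup G)) : G) * (c * g))⁻¹ ∈ T := by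
      intro a ha
      have h1 : (MulAut.conj (c * g)) a ∈ (S : Subgroup G) := by
        have := hcS _ ⟨a, ha, rfl⟩
        simpa [mul_assoc] using this
      have h2 : (⟨_, h1⟩ : ↥(S : Subgroup G)) ∈ h.four j := hTj ▸ Subgroup.mem_subgroupOf.mpr ⟨a, ha, rfl⟩
      have h3 := (hmem _).mpr (hk ▸ Subgroup.mem_map_of_mem (MulAut.conj (x ^ k)).toMonoidHom h2)
      convert h3 using 1
      simp only [MulEquiv.coe_toMonoidHom, MulAut.conj_apply, Subgroup.coe_mul, Subgroup.coe_inv]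
      group
    have hN : ((x ^ k : ↥(S : Subgroup G)) : G) * (c * g) ∈ Subgroup.normalizer (T : Set G) :=
      Subgroup.mem_normalizer_fintype hm
    refine ⟨⟨_, hN⟩, fun hfix => ?_⟩
    have hzz := congrArg Subtype.val hfix
    simp only [conjPerm_apply] at hzz
    have hcz : c * z = z * c := Subgroup.mem_centralizer_singleton_iff.mp hc
    have hkz : ((x ^ k : ↥(S : Subgroup G)) : G) * z = z * ((x ^ k : ↥(S : Subgroup G)) : G) :=
      congrArg Subtype.val (h.z_central (x ^ k))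
    have hyz : ((x ^ k : ↥(S : Subgroup G)) : G) * (c * g) * ((x ^ i * y : ↥(S : Subgroup G)) : G) *
        (((x ^ k : ↥(S : Subgroup G)) : G) * (c * g))⁻¹ = z := by
      calc _ = ((x ^ k : ↥(S : Subgroup G)) : G) * (c * (g * ((x ^ i * y : ↥(S : Subgroup G)) : G) * g⁻¹) * c⁻¹) *
            ((x ^ k : ↥(S : Subgroup G)) : G)⁻¹ := by group
        _ = z := by rw [hg, hcz, mul_inv_cancel_right, hkz, mul_inv_cancel_right]
    have := (MulAut.conj (((x ^ k : ↥(S : Subgroup G)) : G) * (c * g))).injective (hyz.trans hzz.symm)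
    exact h.zpow_mul_y_ne i (2 * qq n) (Subtype.ext this)

end QD

end Cfsg.Agent.Invol
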