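import Mathlib
import Cfsg.Agent.Lib.Invol.QuasiDihedralFusion

/-!
# Quaternion subgroups of quasi-dihedral Sylow subgroups, kernels of index 2
-/

namespace Cfsg.Agent.Invol.QD

variable {G : Type*} [Group G] [Finite G] {S : Sylow 2 G} {n : ℕ} {x y : ↥(S : Subgroup G)}

omit [Finite G] in
theorem map_conj_zpowers (g u : G) :
    (Subgroup.zpowers u).map (MulAut.conj g).toMonoidHom = Subgroup.zpowers (g * u * g⁻¹) := by
  rw [MonoidHom.map_zpowers]; rfl

omit [Finite G] in
theorem zpowers_eq_of_mem {u v : G} (hu : orderOf u = 4) (hv : orderOf v = 4)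
    (h : v ∈ Subgroup.zpowers u) : v = u ∨ v = u⁻¹ := by
  obtain ⟨k, rfl⟩ := Subgroup.mem_zpowers_iff.mp h
  have hk : ¬ 2 ∣ k := by
    rintro ⟨d, rfl⟩
    have h1 : (u ^ (2 * d)) ^ 2 = 1 := by
      rw [← zpow_natCast, ← zpow_mul, ← orderOf_dvd_iff_zpow_eq_one, hu]
      exact ⟨d, by push_cast; ring⟩
    have := orderOf_dvd_of_pow_eq_one h1
    rw [hv] at this
    omega
  rcases (show k % 4 = 1 ∨ k % 4 = 3 by omega) with h' | h'
  · left
    conv_rhs => rw [← zpow_one u]
    rw [← orderOf_dvd_sub_iff_zpow_eq_zpow, hu]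
    exact ⟨k / 4, by omega⟩
  · right
    rw [← zpow_neg_one, ← orderOf_dvd_sub_iff_zpow_eq_zpow, hu]
    exact ⟨k / 4 + 1, by omega⟩

omit [Finite G] in
theorem isConj_inv_quarter (h : QD _ n x y) :
    IsConj ((x ^ qq n : ↥(S : Subgroup G)) : G) ((x ^ qq n : ↥(S : Subgroup G)) : G)⁻¹ := by
  rw [← Subgroup.coe_inv, ← zpow_neg]
  exact isConj_quarter h

/-- The normalizer of a quaternion subgroup of `S`. -/
theorem automizer_quat (h : QD _ n x y) {Q : Subgroup G} (hQS : Q ≤ S) (e : Q ≃* QuaternionGroup 2) :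
    ((Q ⊔ Subgroup.centralizer (Q : Set G)).relIndex (Subgroup.normalizer (Q : Set G)) = 2 ∨
      (Q ⊔ Subgroup.centralizer (Q : Set G)).relIndex (Subgroup.normalizer (Q : Set G)) = 6) ∧
    ((Q ⊔ Subgroup.centralizer (Q : Set G)).relIndex (Subgroup.normalizer (Q : Set G)) = 6 ↔
      FusQ n x y) := by
  obtain ⟨i, hi, hQi⟩ := h.eq_quat ((Subgroup.subgroupOfEquivOfLe hQS).trans e)
  obtain ⟨r, hr⟩ := h.qq_even
  have hmem : ∀ s : ↥(S : Subgroup G), (s : G) ∈ Q ↔ s ∈ h.quat i := fun s => by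
    rw [← hQi]; exact Subgroup.mem_subgroupOf.symm
  set a' := x ^ qq n with ha'
  set b' := x ^ i * y with hb'
  set a : G := (a' : G) with ha
  set b : G := (b' : G) with hb
  have haQ : a ∈ Q := (hmem _).mpr ((h.zpow_mem_sub _).mpr dvd_rfl)
  have hbQ : b ∈ Q := (hmem _).mpr ((h.mul_y_mem_sub _).mpr ⟨0, by ring⟩)
  have hoa : orderOf a = 4 := by rw [ha, Subgroup.orderOf_coe, h.orderOf_quarter]
  have hob : orderOf b = 4 := by rw [hb, Subgroup.orderOf_coe, h.orderOf_mul_y_odd hi]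
  have hiq : ¬ 2 ∣ i + qq n := by omega
  have hab : a * b = ((x ^ (i + qq n) * y : ↥(S : Subgroup G)) : G) := by
    rw [ha, hb, ← Subgroup.coe_mul, ha', hb', ← mul_assoc, ← zpow_add, add_comm]
  have hoab : orderOf (a * b) = 4 := by rw [hab, Subgroup.orderOf_coe, h.orderOf_mul_y_odd hiq]
  have hbab : b * a * b⁻¹ = a⁻¹ := by
    have : b' * a' * b'⁻¹ = a'⁻¹ := by
      rw [hb', ha', show x ^ i * y * x ^ qq n * (x ^ i * y)⁻¹ = x ^ i * (y * x ^ qq n * y⁻¹) * (x ^ i)⁻¹ by group,
        h.conj_y_quarter, ← zpow_neg, ← zpow_neg, ← zpow_add, ← zpow_add]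
      congr 1; ring
    exact congrArg Subtype.val this
  have habb : a * b * a⁻¹ = b⁻¹ := by
    have : a' * b' * a'⁻¹ = b'⁻¹ := by
      refine (inv_eq_of_mul_eq_one_right ?_).symm
      rw [hb', ha', h.conj_x, h.mul_y_mul, h.zpow_eq_one]
      obtain ⟨d, hd⟩ : ∃ d, i = 2 * d + 1 := ⟨i / 2, by omega⟩
      exact ⟨d + 3 * r - 2 * r * qq n, by subst hd; linear_combination (6 * qq n - 4 * qq n * qq n) * hr⟩
    exact congrArg Subtype.val this
  have hsub : ∀ w ∈ Q, ∃ k : ℤ, w = a ^ k ∨ w = a ^ k * b := by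
    intro w hw
    obtain ⟨j, hj⟩ := h.cases' (⟨w, hQS hw⟩ : ↥(S : Subgroup G))
    have hm := (hmem ⟨w, hQS hw⟩).mp hw
    rcases hj with hj | hj <;> rw [hj] at hm
    · obtain ⟨c, hc⟩ := (h.zpow_mem_sub _).mp hm
      refine ⟨c, .inl ?_⟩
      rw [ha, ← Subgroup.coe_zpow, ha', ← zpow_mul, ← hc]
      exact congrArg Subtype.val hj
    · obtain ⟨c, hc⟩ := (h.mul_y_mem_sub _).mp hm
      refine ⟨c, .inr ?_⟩
      rw [ha, hb, ← Subgroup.coe_zpow, ← Subgroup.coe_mul, ha', hb', ← mul_assoc, ← zpow_mul,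
        ← zpow_add, show qq n * c + i = j by linarith]
      exact congrArg Subtype.val hj
  let P : Subgroup G → Prop := fun V => ∃ u ∈ Q, orderOf u = 4 ∧ V = Subgroup.zpowers u
  have hP : ∀ g ∈ Subgroup.normalizer (Q : Set G), ∀ A : Subgroup G,
      P (A.map (MulAut.conj g).toMonoidHom) ↔ P A := by
    intro g hg A
    constructor
    · rintro ⟨u, hu, ho, he⟩
      refine ⟨g⁻¹ * u * g, ?_, ?_, ?_⟩
      · have := (Subgroup.mem_normalizer_iff.mp (inv_mem hg) u).mp hu
        rwa [inv_inv] at this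
      · rw [← ho, ← MulAut.conj_symm_apply, MulEquiv.orderOf_eq]
      · refine Subgroup.map_injective (f := (MulAut.conj g).toMonoidHom) (MulAut.conj g).injective ?_
        rw [he, map_conj_zpowers]
        congr 1; group
    · rintro ⟨u, hu, ho, rfl⟩
      exact ⟨g * u * g⁻¹, (Subgroup.mem_normalizer_iff.mp hg u).mp hu,
        by rw [← ho, ← MulAut.conj_apply, MulEquiv.orderOf_eq], map_conj_zpowers g u⟩
  have hexh : ∀ u ∈ Q, orderOf u = 4 → Subgroup.zpowers u = Subgroup.zpowers a ∨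
      Subgroup.zpowers u = Subgroup.zpowers b ∨ Subgroup.zpowers u = Subgroup.zpowers (a * b) := by
    intro u hu ho
    obtain ⟨k, rfl | rfl⟩ := hsub u hu
    · refine .inl ?_
      refine Subgroup.eq_of_le_of_card_ge (Subgroup.zpowers_le.mpr (zpow_mem (Subgroup.mem_zpowers a) k)) ?_
      rw [Nat.card_zpowers, Nat.card_zpowers, ho, hoa]
    · have hpow : ∀ m : ℤ, a ^ m * b = ((x ^ (i + qq n * m) * y : ↥(S : Subgroup G)) : G) := fun m => by
        rw [ha, hb, ← Subgroup.coe_zpow, ← Subgroup.coe_mul, ha', hb', ← zpow_mul, ← mul_assoc, ← zpow_add,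
          add_comm]
      have hinv : ∀ j : ℤ, ¬ 2 ∣ j → Subgroup.zpowers ((x ^ (j + 2 * qq n) * y : ↥(S : Subgroup G)) : G) =
          Subgroup.zpowers ((x ^ j * y : ↥(S : Subgroup G)) : G) := by
        intro j hj
        rw [← Subgroup.zpowers_inv (g := ((x ^ j * y : ↥(S : Subgroup G)) : G)), ← Subgroup.coe_inv]
        congr 2
        refine (inv_eq_of_mul_eq_one_right ?_).symm
        rw [h.mul_y_mul, h.zpow_eq_one]
        obtain ⟨d, hd⟩ : ∃ d, j = 2 * d + 1 := ⟨j / 2, by omega⟩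
        exact ⟨d + qq n, by subst hd; ring⟩
      obtain ⟨c, hc⟩ : ∃ c, k = 4 * c + k % 4 := ⟨k / 4, by omega⟩
      have hk : a ^ k = a ^ (k % 4) := by
        rw [← orderOf_dvd_sub_iff_zpow_eq_zpow, hoa]; exact ⟨c, by push_cast; linarith⟩
      rw [hk, hpow, hab, hb, hb']
      rcases (show k % 4 = 0 ∨ k % 4 = 1 ∨ k % 4 = 2 ∨ k % 4 = 3 by omega) with h' | h' | h' | h' <;>
        rw [h']
      · exact .inr (.inl (by rw [mul_zero, add_zero]))
      · exact .inr (.inr (by rw [mul_one]))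
      · exact .inr (.inl (by rw [mul_comm (qq n) 2, hinv i hi]))
      · exact .inr (.inr (by rw [show i + qq n * 3 = i + qq n + 2 * qq n by ring, hinv _ hiq]))
  have hne : ∀ (j : ℤ) (u : ↥(S : Subgroup G)), u ∈ Subgroup.zpowers x →
      Subgroup.zpowers (u : G) ≠ Subgroup.zpowers ((x ^ j * y : ↥(S : Subgroup G)) : G) := by
    intro j u hu he
    have h1 := he ▸ Subgroup.mem_zpowers ((x ^ j * y : ↥(S : Subgroup G)) : G)
    obtain ⟨c, hc⟩ := Subgroup.mem_zpowers_iff.mp h1
    rw [← Subgroup.coe_zpow] at hc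
    obtain ⟨l, hl⟩ := Subgroup.mem_zpowers_iff.mp (zpow_mem hu c)
    exact h.zpow_mul_y_ne j l (by rw [hl]; exact (Subtype.ext hc).symm)
  have hab_ne : Subgroup.zpowers b ≠ Subgroup.zpowers (a * b) := by
    intro he
    have h1 : b ∈ Subgroup.zpowers (a * b) := he ▸ Subgroup.mem_zpowers b
    rcases zpowers_eq_of_mem hoab hob h1 with h2 | h2
    · have : a = 1 := (mul_eq_right (a := a) (b := b)).mp h2.symm
      rw [this, orderOf_one] at hoa; omega
    · have h3 : a * b * b = 1 := by nth_rewrite 2 [h2]; exact mul_inv_cancel _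
      have h4 : a * a * (b * b) = a := by rw [mul_assoc, ← mul_assoc a b, h3, mul_one]
      have h5 : a * (b * b) = 1 := by rw [← mul_assoc, h3]
      have h6 : a * a = a ^ 2 := (pow_two a).symm
      rw [mul_assoc, h5, mul_one] at h4
      have h7 : b * b = a⁻¹ := eq_inv_of_mul_eq_one_right h5
      have h8 : orderOf (a⁻¹) ∣ 2 := by
        rw [← h7, orderOf_dvd_iff_pow_eq_one, pow_two]
        calc b * b * (b * b) = b ^ 4 := by simp [pow_succ, mul_assoc]
          _ = 1 := by rw [← hob, pow_orderOf_eq_one]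
      rw [orderOf_inv, hoa] at h8
      omega
  have hxq : x ^ qq n ∈ Subgroup.zpowers x := zpow_mem (Subgroup.mem_zpowers x) _
  have hne1 : Subgroup.zpowers a ≠ Subgroup.zpowers b := hne i _ hxq
  have hne2 : Subgroup.zpowers a ≠ Subgroup.zpowers (a * b) := hab ▸ hne (i + qq n) _ hxq
  have hcard : Nat.card {V // P V} = 3 := by
    have hset : {V | P V} = {Subgroup.zpowers a, Subgroup.zpowers b, Subgroup.zpowers (a * b)} := by
      ext V
      constructor
      · rintro ⟨u, hu, ho, rfl⟩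
        exact hexh u hu ho
      · rintro (rfl | rfl | rfl)
        exacts [⟨a, haQ, hoa, rfl⟩, ⟨b, hbQ, hob, rfl⟩, ⟨_, mul_mem haQ hbQ, hoab, rfl⟩]
    change Nat.card ↥{V | P V} = 3
    rw [hset, Nat.card_coe_set_eq, Set.ncard_insert_of_notMem (by simp [hne1, hne2]),
      Set.ncard_pair hab_ne]
  have hQN : Q ≤ Subgroup.normalizer (Q : Set G) := Subgroup.le_normalizer
  have hCN : Subgroup.centralizer (Q : Set G) ≤ Subgroup.normalizer (Q : Set G) := by
    refine fun c hc => Subgroup.mem_normalizer_fintype fun w hw => ?_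
    rwa [← hc w hw, mul_inv_cancel_right]
  have hfix : ∀ q ∈ Q, ∀ V : Subgroup G, P V → V.map (MulAut.conj q).toMonoidHom = V := by
    rintro q hq V ⟨u, hu, ho, rfl⟩
    have hinvol : ∀ v, (v = a ∨ v = b ∨ v = a * b) → ∀ g, (g = a ∨ g = b) →
        (g * v * g⁻¹ = v ∨ g * v * g⁻¹ = v⁻¹) := by
      have ha_ab : a * (a * b) * a⁻¹ = (a * b)⁻¹ := by
        rw [hab, ha, ← Subgroup.coe_inv, ← Subgroup.coe_mul, ← Subgroup.coe_mul, ← Subgroup.coe_inv]
        refine congrArg Subtype.val (inv_eq_of_mul_eq_one_right ?_).symm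
        rw [ha', h.conj_x, h.mul_y_mul, h.zpow_eq_one]
        obtain ⟨d, hd⟩ : ∃ d, i = 2 * d + 1 := ⟨i / 2, by omega⟩
        exact ⟨d + 4 * r - 2 * r * qq n, by subst hd; linear_combination (8 * qq n - 4 * qq n * qq n) * hr⟩
      have hb_ab : b * (a * b) * b⁻¹ = (a * b)⁻¹ := by
        calc b * (a * b) * b⁻¹ = b * a * b⁻¹ * b := by group
          _ = a⁻¹ * b := by rw [hbab]
          _ = (a * b)⁻¹ := by
            rw [hab, ha, hb, ← Subgroup.coe_inv, ← Subgroup.coe_mul, ← Subgroup.coe_inv]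
            refine congrArg Subtype.val (inv_eq_of_mul_eq_one_right ?_).symm
            rw [ha', hb', ← zpow_neg, ← mul_assoc (x ^ (-qq n)), ← zpow_add, h.mul_y_mul, h.zpow_eq_one]
            obtain ⟨d, hd⟩ : ∃ d, i = 2 * d + 1 := ⟨i / 2, by omega⟩
            exact ⟨d + 1 - r, by subst hd; linear_combination (-2 * qq n) * hr⟩
      rintro v (rfl | rfl | rfl) g (rfl | rfl)
      · exact .inl (by group)
      · exact .inr hbab
      · exact .inr habb
      · exact .inl (by group)
      · exact .inr ha_ab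
      · exact .inr hb_ab
    obtain ⟨v, hv, hVv⟩ : ∃ v, (v = a ∨ v = b ∨ v = a * b) ∧ Subgroup.zpowers u = Subgroup.zpowers v := by
      rcases hexh u hu ho with h1 | h1 | h1
      exacts [⟨a, .inl rfl, h1⟩, ⟨b, .inr (.inl rfl), h1⟩, ⟨_, .inr (.inr rfl), h1⟩]
    rw [hVv]
    have hgen : q ∈ Subgroup.closure ({a, b} : Set G) := by
      obtain ⟨k, rfl | rfl⟩ := hsub q hq
      · exact zpow_mem (Subgroup.subset_closure (by simp)) k
      · exact mul_mem (zpow_mem (Subgroup.subset_closure (by simp)) k) (Subgroup.subset_closure (by simp))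
    have hgN : q ∈ Subgroup.normalizer ((Subgroup.zpowers v : Subgroup G) : Set G) := by
      refine (Subgroup.closure_le _).mpr ?_ hgen
      intro g hg
      refine Subgroup.mem_normalizer_fintype fun w hw => ?_
      obtain ⟨m, rfl⟩ := Subgroup.mem_zpowers_iff.mp hw
      rw [← _root_.conj_zpow]
      rcases hinvol v hv g (by simpa using hg) with h1 | h1 <;> rw [h1]
      · exact zpow_mem (Subgroup.mem_zpowers v) m
      · exact zpow_mem (inv_mem (Subgroup.mem_zpowers v)) m
    refine SetLike.ext fun w => ?_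
    rw [Subgroup.mem_map_equiv, MulAut.conj_symm_apply]
    have := Subgroup.mem_normalizer_iff.mp hgN (q⁻¹ * w * q)
    simpa [mul_assoc] using this
  have hker : (conjPermSub _ P hP).ker =
      (Q ⊔ Subgroup.centralizer (Q : Set G)).subgroupOf (Subgroup.normalizer (Q : Set G)) := by
    refine le_antisymm ?_ ?_
    · intro g hg
      rw [MonoidHom.mem_ker] at hg
      have hval : ∀ v ∈ Q, orderOf v = 4 → (g : G) * v * (g : G)⁻¹ = v ∨ (g : G) * v * (g : G)⁻¹ = v⁻¹ := by
        intro v hv ho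
        have h1 := congrArg Subtype.val (DFunLike.congr_fun hg ⟨_, v, hv, ho, rfl⟩)
        simp only [conjPermSub_apply, Equiv.Perm.coe_one, id_eq, map_conj_zpowers] at h1
        refine zpowers_eq_of_mem ho (by rw [← MulAut.conj_apply, MulEquiv.orderOf_eq, ho]) ?_
        rw [← h1]
        exact Subgroup.mem_zpowers _
      have hcen : ∀ w : G, w * a * w⁻¹ = a → w * b * w⁻¹ = b →
          w ∈ Subgroup.centralizer (Q : Set G) := by
        intro w h1 h2 q hq
        have h1' : Commute w a := mul_inv_eq_iff_eq_mul.mp h1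
        have h2' : Commute w b := mul_inv_eq_iff_eq_mul.mp h2
        obtain ⟨k, rfl | rfl⟩ := hsub q hq
        · exact (h1'.zpow_right k).symm.eq
        · exact ((h1'.zpow_right k).mul_right h2').symm.eq
      have hkey : ∀ q ∈ Q, (g : G) * q ∈ Subgroup.centralizer (Q : Set G) →
          g ∈ (Q ⊔ Subgroup.centralizer (Q : Set G)).subgroupOf (Subgroup.normalizer (Q : Set G)) := by
        intro q hq hc
        rw [Subgroup.mem_subgroupOf, show (g : G) = (g : G) * q * q⁻¹ by group]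
        exact mul_mem (Subgroup.mem_sup_right hc) (Subgroup.mem_sup_left (inv_mem hq))
      rcases hval a haQ hoa with ha1 | ha1 <;> rcases hval b hbQ hob with hb1 | hb1
      · exact hkey 1 (one_mem _) (hcen _ (by simpa using ha1) (by simpa using hb1))
      · refine hkey a haQ (hcen _ ?_ ?_)
        · calc (g : G) * a * a * ((g : G) * a)⁻¹ = g * a * (g : G)⁻¹ := by group
            _ = a := ha1
        · calc (g : G) * a * b * ((g : G) * a)⁻¹ = g * (a * b * a⁻¹) * (g : G)⁻¹ := by group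
            _ = (g * b * (g : G)⁻¹)⁻¹ := by rw [habb]; group
            _ = b := by rw [hb1, inv_inv]
      · refine hkey b hbQ (hcen _ ?_ ?_)
        · calc (g : G) * b * a * ((g : G) * b)⁻¹ = g * (b * a * b⁻¹) * (g : G)⁻¹ := by group
            _ = (g * a * (g : G)⁻¹)⁻¹ := by rw [hbab]; group
            _ = a := by rw [ha1, inv_inv]
        · calc (g : G) * b * b * ((g : G) * b)⁻¹ = g * b * (g : G)⁻¹ := by group
            _ = b := hb1
      · refine hkey (a * b) (mul_mem haQ hbQ) (hcen _ ?_ ?_)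
        · calc (g : G) * (a * b) * a * ((g : G) * (a * b))⁻¹ =
              g * (a * (b * a * b⁻¹) * a⁻¹) * (g : G)⁻¹ := by group
            _ = (g * a * (g : G)⁻¹)⁻¹ := by rw [hbab]; group
            _ = a := by rw [ha1, inv_inv]
        · calc (g : G) * (a * b) * b * ((g : G) * (a * b))⁻¹ = g * (a * b * a⁻¹) * (g : G)⁻¹ := by group
            _ = (g * b * (g : G)⁻¹)⁻¹ := by rw [habb]; group
            _ = b := by rw [hb1, inv_inv]
    · intro g hg
      rw [Subgroup.mem_subgroupOf] at hg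
      rw [MonoidHom.mem_ker]
      ext1 ⟨V, hV⟩
      refine Subtype.ext ?_
      simp only [conjPermSub_apply, Equiv.Perm.coe_one, id_eq]
      have hCN' : Subgroup.centralizer (Q : Set G) ≤ Subgroup.normalizer (Q : Set G) := hCN
      obtain ⟨q, hq, c, hc, hqc⟩ : ∃ q ∈ Q, ∃ c ∈ Subgroup.centralizer (Q : Set G), q * c = g :=
        Set.mem_mul.mp ((Subgroup.coe_mul_of_right_le_normalizer_left Q (Subgroup.centralizer (Q : Set G)) hCN').le hg)
      rw [← hqc, show (MulAut.conj (q * c)).toMonoidHom =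
        (MulAut.conj q).toMonoidHom.comp (MulAut.conj c).toMonoidHom by ext; simp [mul_assoc],
        ← Subgroup.map_map]
      obtain ⟨u, hu, ho, rfl⟩ := hV
      rw [map_conj_zpowers c u, show c * u * c⁻¹ = u by rw [← hc u hu, mul_inv_cancel_right]]
      exact hfix q hq _ ⟨u, hu, ho, rfl⟩
  have hσN : ((x ^ r : ↥(S : Subgroup G)) : G) ∈ Subgroup.normalizer (Q : Set G) := by
    refine Subgroup.mem_normalizer_fintype fun w hw => ?_
    have h1 := h.map_conj_sub (quarter_dvd n) r i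
    rw [h.sub_congr (quarter_dvd n) (i := i + 2 * r * (1 - qq n)) (j := i)
      ⟨qq n - 1, by rw [hr]; ring⟩] at h1
    exact (hmem _).mpr (h1 ▸ Subgroup.mem_map_of_mem _ ((hmem ⟨w, hQS hw⟩).mp hw))
  have hσa : ((x ^ r : ↥(S : Subgroup G)) : G) * a * ((x ^ r : ↥(S : Subgroup G)) : G)⁻¹ = a := by
    rw [ha, ha', ← Subgroup.coe_inv, ← Subgroup.coe_mul, ← Subgroup.coe_mul,
      (Commute.zpow_zpow (Commute.refl x) r (qq n)).eq, mul_inv_cancel_right]
  obtain ⟨h26, h6⟩ := index_two_or_six hcard (conjPermSub _ P hP) hker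
    ⟨_, a, haQ, hoa, rfl⟩ ⟨_, hσN⟩
    (Subtype.ext (by rw [conjPermSub_apply, map_conj_zpowers, hσa])) (fun h1 => by
      have h2 := congrArg Subtype.val (DFunLike.congr_fun h1 ⟨_, b, hbQ, hob, rfl⟩)
      simp only [conjPermSub_apply, Equiv.Perm.coe_one, id_eq, map_conj_zpowers] at h2
      have h3 : ((x ^ r : ↥(S : Subgroup G)) : G) * b * ((x ^ r : ↥(S : Subgroup G)) : G)⁻¹ =
          ((x ^ (i + 2 * r * (1 - qq n)) * y : ↥(S : Subgroup G)) : G) := by
        rw [hb, ← Subgroup.coe_inv, ← Subgroup.coe_mul, ← Subgroup.coe_mul, hb', h.conj_x]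
      rw [h3] at h2
      have ho : orderOf ((x ^ (i + 2 * r * (1 - qq n)) * y : ↥(S : Subgroup G)) : G) = 4 := by
        rw [← h3, ← MulAut.conj_apply, MulEquiv.orderOf_eq, hob]
      rcases zpowers_eq_of_mem hob ho (h2 ▸ Subgroup.mem_zpowers _) with h4 | h4
      · obtain ⟨c, hc⟩ := h.mul_y_eq.mp (Subtype.ext h4)
        have : qq n * (1 - qq n - 4 * c) = 0 := by linear_combination hc + (1 - qq n) * hr
        rcases mul_eq_zero.mp this with h0 | h0
        · exact h.qq_pos.ne' h0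
        · omega
      · rw [← habb] at h4
        have h4' : x ^ (i + 2 * r * (1 - qq n)) * y = a' * b' * a'⁻¹ := Subtype.ext h4
        rw [ha', hb', h.conj_x, h.mul_y_eq] at h4'
        obtain ⟨c, hc⟩ := h4'
        have : qq n * (1 - qq n + 4 * c) = 0 := by linear_combination -hc + (1 - qq n) * (-hr)
        rcases mul_eq_zero.mp this with h0 | h0
        · exact h.qq_pos.ne' h0
        · omega)
  refine ⟨h26, h6.trans ⟨?_, ?_⟩⟩
  · rintro ⟨g, hg⟩
    have hu : (g : G) * a * (g : G)⁻¹ ∈ Q := (Subgroup.mem_normalizer_iff.mp g.2 a).mp haQ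
    have ho : orderOf ((g : G) * a * (g : G)⁻¹) = 4 := by rw [← MulAut.conj_apply, MulEquiv.orderOf_eq, hoa]
    obtain ⟨k, hk | hk⟩ := hsub _ hu
    · refine absurd (Subtype.ext ?_) hg
      rw [conjPermSub_apply, map_conj_zpowers]
      refine Subgroup.eq_of_le_of_card_ge (Subgroup.zpowers_le.mpr (hk ▸ zpow_mem (Subgroup.mem_zpowers a) k)) ?_
      rw [Nat.card_zpowers, Nat.card_zpowers, ho, hoa]
    · unfold FusQ
      rw [← ha', ← ha]
      refine (IsConj.trans (isConj_iff.mpr ⟨g, rfl⟩ : IsConj a ((g : G) * a * (g : G)⁻¹)) ?_).symm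
      rw [hk, ha, hb, ← Subgroup.coe_zpow, ← Subgroup.coe_mul, ha', hb', ← mul_assoc, ← zpow_mul,
        ← zpow_add]
      refine isConj_odd h ?_
      intro hd
      have : 2 ∣ qq n * k := Dvd.dvd.mul_right ⟨r, hr⟩ k
      omega
  · intro hF
    obtain ⟨g, hg⟩ := isConj_iff.mp ((isConj_odd h hi).trans hF)
    rw [← ha', ← ha, ← hb', ← hb] at hg
    set H := Subgroup.normalizer ((Subgroup.zpowers a : Subgroup G) : Set G) with hH
    have hSH : (S : Subgroup G) ≤ H := fun s hs => by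
      refine Subgroup.mem_normalizer_fintype fun w hw => ?_
      obtain ⟨m, rfl⟩ := Subgroup.mem_zpowers_iff.mp hw
      rw [← _root_.conj_zpow]
      obtain ⟨j, hj⟩ := h.cases' ⟨s, hs⟩
      rcases hj with hj | hj
      · have : x ^ j * a' * (x ^ j)⁻¹ = a' := by
          rw [ha', (Commute.zpow_zpow (Commute.refl x) j (qq n)).eq, mul_inv_cancel_right]
        rw [← hj] at this
        rw [show s * a * s⁻¹ = a from congrArg Subtype.val this]
        exact zpow_mem (Subgroup.mem_zpowers a) m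
      · have : x ^ j * y * a' * (x ^ j * y)⁻¹ = a'⁻¹ := by
          rw [ha', show x ^ j * y * x ^ qq n * (x ^ j * y)⁻¹ = x ^ j * (y * x ^ qq n * y⁻¹) * (x ^ j)⁻¹ by group,
            h.conj_y_quarter, ← zpow_neg, ← zpow_neg, ← zpow_add, ← zpow_add]
          congr 1; ring
        rw [← hj] at this
        rw [show s * a * s⁻¹ = a⁻¹ from congrArg Subtype.val this]
        exact zpow_mem (inv_mem (Subgroup.mem_zpowers a)) m
    have hle : Q.map (MulAut.conj g).toMonoidHom ≤ H := by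
      rintro _ ⟨q, hq, rfl⟩
      simp only [MulEquiv.coe_toMonoidHom, MulAut.conj_apply]
      have h1 : (Subgroup.zpowers b).map (MulAut.conj q).toMonoidHom = Subgroup.zpowers b :=
        hfix q hq _ ⟨b, hbQ, hob, rfl⟩
      refine Subgroup.mem_normalizer_fintype fun w hw => ?_
      rw [← hg, ← map_conj_zpowers] at hw ⊢
      obtain ⟨v, hv, rfl⟩ := hw
      refine ⟨q * v * q⁻¹, h1.le ⟨v, hv, rfl⟩, ?_⟩
      simp only [MulEquiv.coe_toMonoidHom, MulAut.conj_apply]
      group
    obtain ⟨c, hc, hcS⟩ := exists_conj_into_sylow S hSH hle ((S.isPGroup'.to_le hQS).map _)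
    have hle' : Q.map (MulAut.conj (c * g)).toMonoidHom ≤ (S : Subgroup G) := by
      rintro _ ⟨q, hq, rfl⟩
      have := hcS _ ⟨q, hq, rfl⟩
      simpa [mul_assoc] using this
    obtain ⟨j, hj, hQj⟩ := h.eq_quat (((Subgroup.subgroupOfEquivOfLe hle').trans
      (Q.equivMapOfInjective _ (MulAut.conj (c * g)).injective).symm).trans e)
    obtain ⟨k, hk⟩ := h.exists_conj_sub (quarter_dvd n) (i := j) (j := i) (by omega)
    set s : G := ((x ^ k : ↥(S : Subgroup G)) : G) with hs
    have hN : s * (c * g) ∈ Subgroup.normalizer (Q : Set G) := by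
      refine Subgroup.mem_normalizer_fintype fun q hq => ?_
      have h2 : (⟨_, hle' ⟨q, hq, rfl⟩⟩ : ↥(S : Subgroup G)) ∈ h.quat j :=
        hQj ▸ Subgroup.mem_subgroupOf.mpr ⟨q, hq, rfl⟩
      have h3 := (hmem _).mpr (hk ▸ Subgroup.mem_map_of_mem (MulAut.conj (x ^ k)).toMonoidHom h2)
      rw [SetLike.mem_coe]
      convert h3 using 1
      simp only [MulEquiv.coe_toMonoidHom, MulAut.conj_apply, Subgroup.coe_mul, Subgroup.coe_inv, hs]
      group
    refine ⟨⟨_, hN⟩, fun hfx => hne1 ?_⟩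
    have h1 := congrArg Subtype.val hfx
    have h2 : (Subgroup.zpowers b).map (MulAut.conj (s * (c * g))).toMonoidHom = Subgroup.zpowers a := by
      rw [map_conj_zpowers, show s * (c * g) * b * (s * (c * g))⁻¹ = s * (c * (g * b * g⁻¹) * c⁻¹) * s⁻¹ by group,
        hg, ← map_conj_zpowers, ← map_conj_zpowers]
      have hcH : (Subgroup.zpowers a).map (MulAut.conj c).toMonoidHom = Subgroup.zpowers a := by
        refine SetLike.ext fun w => ?_
        rw [Subgroup.mem_map_equiv, MulAut.conj_symm_apply]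
        have := Subgroup.mem_normalizer_iff.mp hc (c⁻¹ * w * c)
        simpa [mul_assoc] using this
      rw [hcH, map_conj_zpowers]
      congr 1
      rw [hs, ha, ha', ← Subgroup.coe_inv, ← Subgroup.coe_mul, ← Subgroup.coe_mul,
        (Commute.zpow_zpow (Commute.refl x) k (qq n)).eq, mul_inv_cancel_right]
    exact Subgroup.map_injective (f := (MulAut.conj (s * (c * g))).toMonoidHom)
      (MulAut.conj (s * (c * g))).injective (h1.trans h2.symm)

end Cfsg.Agent.Invol.QD
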