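import Mathlib
import Cfsg.Prelude.Def_Transfer
import Cfsg.Agent.Lib.Invol.QuasiDihedralQuat

/-!
# The fusion cases for quasi-dihedral Sylow 2-subgroups
-/

namespace Cfsg.Agent.Invol

variable {G : Type*} [Group G] [Finite G]

/-- Inside a normal subgroup `K` of index 2, a subgroup of index 2 would give a normal subgroup `J`
of `G` with 2-group quotient; fusion of `u` to `v` then yields an element of `J` in `S`. -/
theorem no_index_two {S : Sylow 2 G} {K : Subgroup G} [K.Normal] (hK : K.index = 2)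
    (u v c : G) (hu : u ∈ (S : Subgroup G)) (hv : v ∈ (S : Subgroup G)) (huv : c * u * c⁻¹ = v)
    (hM : ∀ J : Subgroup G, J.Normal → J ≤ K →
      (∃ s ∈ (S : Subgroup G), v * (s * u * s⁻¹)⁻¹ ∈ J) → K ⊓ (S : Subgroup G) ≤ J) :
    ∀ H : Subgroup ↥K, H.index ≠ 2 := by
  intro H hH
  set H' := H.map K.subtype with hH'
  set J := H'.normalCore with hJ
  have hsq : ∀ w : G, w ^ 2 ∈ K := fun w => Subgroup.sq_mem_of_index_two hK w
  have h4 : ∀ w : G, w ^ 4 ∈ J := by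
    intro w d
    rw [show d * w ^ 4 * d⁻¹ = ((d * w * d⁻¹) ^ 2) ^ 2 by rw [← pow_mul, conj_pow]]
    exact ⟨⟨_, hsq _⟩ ^ 2, Subgroup.sq_mem_of_index_two hH _, rfl⟩
  have hJK : J ≤ K := (Subgroup.normalCore_le H').trans (Subgroup.map_subtype_le H)
  have hsup : (S : Subgroup G) ⊔ J = ⊤ := by
    have hp : IsPGroup 2 (G ⧸ J) := fun q => by
      obtain ⟨w, rfl⟩ := QuotientGroup.mk_surjective q
      exact ⟨2, by rw [← QuotientGroup.mk_pow, (QuotientGroup.eq_one_iff _)]; exact h4 w⟩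
    obtain ⟨m, hm⟩ := IsPGroup.iff_card.mp hp
    have h1 : ((S : Subgroup G) ⊔ J).index ∣ 2 ^ m := hm ▸ Subgroup.index_dvd_of_le le_sup_right
    have h2 : ((S : Subgroup G) ⊔ J).index ∣ (S : Subgroup G).index :=
      Subgroup.index_dvd_of_le le_sup_left
    obtain ⟨l, -, hl⟩ := (Nat.dvd_prime_pow Nat.prime_two).mp h1
    rcases l with _ | l
    · exact Subgroup.index_eq_one.mp (by rw [hl, pow_zero])
    · exact absurd ((dvd_pow_self 2 (Nat.succ_ne_zero l)).trans (hl ▸ h2)) S.not_dvd_index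
  have hdec : ∀ w : G, ∃ s ∈ (S : Subgroup G), ∃ j ∈ J, s * j = w := fun w =>
    Subgroup.mem_sup_of_normal_right.mp (hsup ▸ Subgroup.mem_top w)
  have hMJ : K ⊓ (S : Subgroup G) ≤ J := by
    refine hM J inferInstance hJK ?_
    obtain ⟨s, hs, j, hj, rfl⟩ := hdec c
    refine ⟨s, hs, ?_⟩
    rw [← huv, show s * j * u * (s * j)⁻¹ * (s * u * s⁻¹)⁻¹ = s * (j * (u * j⁻¹ * u⁻¹)) * s⁻¹ by group]
    exact Subgroup.Normal.conj_mem inferInstance _
      (mul_mem hj (Subgroup.Normal.conj_mem inferInstance _ (inv_mem hj) u)) s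
  have hKJ : K ≤ J := fun k hk => by
    obtain ⟨s, hs, j, hj, rfl⟩ := hdec k
    have : s ∈ K := by
      have := mul_mem hk (inv_mem (hJK hj))
      rwa [mul_inv_cancel_right] at this
    exact mul_mem (hMJ ⟨this, hs⟩) hj
  have : H = ⊤ := eq_top_iff.mpr fun k _ => by
    obtain ⟨k', hk', he⟩ := Subgroup.normalCore_le H' (hKJ k.2)
    exact Subtype.ext he ▸ hk'
  rw [this, Subgroup.index_top] at hH
  omega

namespace QD

variable {S : Sylow 2 G} {n : ℕ} {x y : ↥(S : Subgroup G)}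

omit [Finite G] in
theorem coatom_le_of_mem (h : QD _ n x y) {N : Subgroup ↥(S : Subgroup G)} [N.Normal] {i : ℤ}
    (hs : x ^ i * y ∈ N) : h.coatom i ≤ N := by
  rintro t ⟨k, ht⟩
  have h1 : ∀ j : ℤ, 2 ∣ j - i → x ^ j * y ∈ N := fun j hj => by
    obtain ⟨k', hk'⟩ := h.conj_mul_y hj
    exact hk' ▸ Subgroup.Normal.conj_mem ‹N.Normal› _ hs _
  rcases ht with rfl | rfl
  · have h2 := mul_mem (h1 (i + k * 2) ⟨k, by ring⟩) (inv_mem hs)
    rwa [mul_inv_rev, mul_assoc, ← mul_assoc y, mul_inv_cancel, one_mul, ← zpow_neg,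
      ← zpow_add, show i + k * 2 + -i = k * 2 by ring] at h2
  · exact h1 _ ⟨k, by ring⟩

/-- In the quaternion case the kernel has no subgroup of index 2. -/
theorem no_index_two_quat (h : QD _ n x y) {K : Subgroup G} [K.Normal] (hK : K.index = 2)
    (hKS : K.subgroupOf (S : Subgroup G) = h.coatom 1) (hQ : FusQ n x y) :
    ∀ H : Subgroup ↥K, H.index ≠ 2 := by
  obtain ⟨c, hc⟩ := isConj_iff.mp hQ.symm
  refine no_index_two (S := S) hK _ _ c (x ^ qq n).2 (x * y).2 hc ?_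
  rintro J hJ - ⟨s, hs, hsJ⟩ w ⟨hwK, hwS⟩
  have hle : h.coatom 1 ≤ J.subgroupOf (S : Subgroup G) := by
    have h1 : x * y * ((⟨s, hs⟩ : ↥(S : Subgroup G)) * x ^ qq n * (⟨s, hs⟩ : ↥(S : Subgroup G))⁻¹)⁻¹ ∈
        J.subgroupOf (S : Subgroup G) := hsJ
    obtain ⟨l, hl⟩ : ∃ l : ℤ, 2 ∣ l ∧
        (⟨s, hs⟩ : ↥(S : Subgroup G)) * x ^ qq n * (⟨s, hs⟩ : ↥(S : Subgroup G))⁻¹ = x ^ l := by
      obtain ⟨r, hr⟩ := h.qq_even
      obtain ⟨j, hj⟩ := h.cases' (⟨s, hs⟩ : ↥(S : Subgroup G))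
      rcases hj with hj | hj <;> rw [hj]
      · exact ⟨qq n, ⟨r, hr⟩, by rw [(Commute.zpow_zpow (Commute.refl x) j (qq n)).eq, mul_inv_cancel_right]⟩
      · refine ⟨-qq n, ⟨-r, by linarith⟩, ?_⟩
        rw [show x ^ j * y * x ^ qq n * (x ^ j * y)⁻¹ = x ^ j * (y * x ^ qq n * y⁻¹) * (x ^ j)⁻¹ by group,
          h.conj_y_quarter, (Commute.zpow_zpow (Commute.refl x) j (-qq n)).eq, mul_inv_cancel_right]
    rw [hl.2, ← zpow_neg, mul_assoc, h.y_mul_zpow, ← mul_assoc] at h1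
    conv at h1 => arg 2; arg 1; arg 1; rw [← zpow_one x]
    rw [← zpow_add] at h1
    obtain ⟨d, hd⟩ := hl.1
    have hj2 : (2 : ℤ) ∣ 1 + -l * (2 * qq n - 1) - 1 := ⟨-d * (2 * qq n - 1), by subst hd; ring⟩
    exact (h.sub_congr (two_dvd n) hj2).le.trans (coatom_le_of_mem h h1)
  have : (⟨w, hwS⟩ : ↥(S : Subgroup G)) ∈ h.coatom 1 := hKS ▸ hwK
  exact hle this

/-- In the dihedral case the kernel has no subgroup of index 2. -/
theorem no_index_two_dih (h : QD _ n x y) {K : Subgroup G} [K.Normal] (hK : K.index = 2)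
    (hKS : K.subgroupOf (S : Subgroup G) = h.coatom 0) (hT : FusT n x y) :
    ∀ H : Subgroup ↥K, H.index ≠ 2 := by
  obtain ⟨c, hc⟩ := isConj_iff.mp hT
  refine no_index_two (S := S) hK _ _ c y.2 (x ^ (2 * qq n)).2 hc ?_
  rintro J hJ - ⟨s, hs, hsJ⟩ w ⟨hwK, hwS⟩
  have hle : h.coatom 0 ≤ J.subgroupOf (S : Subgroup G) := by
    have h1 : x ^ (2 * qq n) * ((⟨s, hs⟩ : ↥(S : Subgroup G)) * y * (⟨s, hs⟩ : ↥(S : Subgroup G))⁻¹)⁻¹ ∈
        J.subgroupOf (S : Subgroup G) := hsJ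
    obtain ⟨l, hl, hsl⟩ : ∃ l : ℤ, 2 ∣ l ∧
        (⟨s, hs⟩ : ↥(S : Subgroup G)) * y * (⟨s, hs⟩ : ↥(S : Subgroup G))⁻¹ = x ^ l * y := by
      obtain ⟨j, hj⟩ := h.cases' (⟨s, hs⟩ : ↥(S : Subgroup G))
      rcases hj with hj | hj <;> rw [hj]
      · refine ⟨0 + 2 * j * (1 - qq n), ⟨j * (1 - qq n), by ring⟩, ?_⟩
        rw [← h.conj_x, zpow_zero, one_mul]
      · refine ⟨0 + 2 * j * (1 - qq n), ⟨j * (1 - qq n), by ring⟩, ?_⟩
        rw [← h.conj_x, zpow_zero, one_mul]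
        group
    have hinv : (x ^ l * y)⁻¹ = x ^ (-(l * (2 * qq n - 1))) * y := by
      rw [mul_inv_rev, h.y_inv, ← zpow_neg, h.y_mul_zpow]
      congr 2; ring
    rw [hsl, hinv, ← mul_assoc, ← zpow_add] at h1
    obtain ⟨d, hd⟩ := hl
    have hj2 : (2 : ℤ) ∣ 2 * qq n + -(l * (2 * qq n - 1)) - 0 :=
      ⟨qq n - d * (2 * qq n - 1), by subst hd; ring⟩
    exact (h.sub_congr (two_dvd n) hj2).le.trans (coatom_le_of_mem h h1)
  have : (⟨w, hwS⟩ : ↥(S : Subgroup G)) ∈ h.coatom 0 := hKS ▸ hwK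
  exact hle this

theorem quaternion_coatom_one (h : QD _ n x y) :
    Nonempty (↥(h.coatom 1) ≃* QuaternionGroup (2 ^ (n - 2))) := by
  have hn := h.hn
  have hx2 : x ^ (2 : ℤ) ∈ h.coatom 1 := (h.zpow_mem_sub _).mpr dvd_rfl
  have hxy : x ^ (1 : ℤ) * y ∈ h.coatom 1 := (h.mul_y_mem_sub _).mpr ⟨0, by ring⟩
  have hord : orderOf (x ^ (2 : ℤ)) = 2 * 2 ^ (n - 2) := by
    rw [zpow_ofNat, orderOf_pow_of_dvd two_ne_zero (h.ox ▸ dvd_pow_self 2 (by omega)), h.ox,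
      ← pow_succ', show n - 2 + 1 = n - 1 by omega, show 2 ^ n / 2 = 2 ^ (n - 1) by
        rw [← Nat.pow_div (by omega) two_pos, pow_one]]
  refine Transfer.MaxClass.nonempty_quaternion (m := 2 ^ (n - 2)) (by positivity) (a := ⟨_, hx2⟩)
    (x := ⟨_, hxy⟩) ?_ ?_ ?_ ?_ ?_
  · rw [Subgroup.orderOf_mk]; exact hord
  · have h1 := (Subgroup.zpowers (⟨_, hx2⟩ : ↥(h.coatom 1))).card_mul_index
    rw [Nat.card_zpowers, Subgroup.orderOf_mk, h.card_sub, hord, mul_comm 2 (2 * 2 ^ (n - 2))] at h1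
    exact Nat.eq_of_mul_eq_mul_left (by positivity) h1
  · intro hm
    obtain ⟨k, hk⟩ := Subgroup.mem_zpowers_iff.mp hm
    have := congrArg Subtype.val hk
    rw [Subgroup.coe_zpow, ← zpow_mul] at this
    exact h.zpow_mul_y_ne _ _ this.symm
  · refine Subtype.ext ?_
    rw [Subgroup.coe_mul, SubgroupClass.coe_pow, h.sq_mul_y, ← zpow_natCast, ← zpow_mul]
    congr 1
    rw [qq]; push_cast; ring
  · refine Subtype.ext ?_
    rw [Subgroup.coe_mul, Subgroup.coe_mul, Subgroup.coe_inv, Subgroup.coe_inv,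
      show x ^ (1 : ℤ) * y * x ^ (2 : ℤ) * (x ^ (1 : ℤ) * y)⁻¹ =
        x ^ (1 : ℤ) * (y * x ^ (2 : ℤ) * y⁻¹) * (x ^ (1 : ℤ))⁻¹ by group,
      h.conj_zpow, (Commute.zpow_zpow (Commute.refl x) 1 _).eq, mul_inv_cancel_right, ← zpow_neg, h.zpow_eq]
    exact ⟨1, by ring⟩

theorem dihedral_coatom_zero (h : QD _ n x y) :
    Nonempty (↥(h.coatom 0) ≃* DihedralGroup (2 ^ (n - 1))) := by
  have hn := h.hn
  have hx2 : x ^ (2 : ℤ) ∈ h.coatom 0 := (h.zpow_mem_sub _).mpr dvd_rfl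
  have hy : x ^ (0 : ℤ) * y ∈ h.coatom 0 := (h.mul_y_mem_sub _).mpr ⟨0, by ring⟩
  have hord : orderOf (x ^ (2 : ℤ)) = 2 ^ (n - 1) := by
    rw [zpow_ofNat, orderOf_pow_of_dvd two_ne_zero (h.ox ▸ dvd_pow_self 2 (by omega)), h.ox,
      ← Nat.pow_div (by omega) two_pos, pow_one]
  refine Transfer.MaxClass.nonempty_dihedral (m := 2 ^ (n - 1)) (by positivity) (a := ⟨_, hx2⟩)
    (s := ⟨_, hy⟩) ?_ ?_ ?_ ?_ ?_
  · rw [Subgroup.orderOf_mk]; exact hord
  · have h1 := (Subgroup.zpowers (⟨_, hx2⟩ : ↥(h.coatom 0))).card_mul_index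
    rw [Nat.card_zpowers, Subgroup.orderOf_mk, h.card_sub, hord, mul_comm 2 (2 ^ (n - 1))] at h1
    exact Nat.eq_of_mul_eq_mul_left (by positivity) h1
  · intro hm
    obtain ⟨k, hk⟩ := Subgroup.mem_zpowers_iff.mp hm
    have := congrArg Subtype.val hk
    rw [Subgroup.coe_zpow, ← zpow_mul] at this
    exact h.zpow_mul_y_ne _ _ this.symm
  · refine Subtype.ext ?_
    rw [Subgroup.coe_mul, Subgroup.coe_one, h.sq_mul_y, zero_mul, zpow_zero]
  · refine Subtype.ext ?_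
    simp only [Subgroup.coe_mul, Subgroup.coe_inv, zpow_zero, one_mul]
    rw [h.conj_zpow, ← zpow_neg, h.zpow_eq]
    exact ⟨1, by ring⟩

theorem center_eq (h : QD _ n x y) :
    Subgroup.center ↥(S : Subgroup G) = Subgroup.zpowers (x ^ (2 * qq n)) := by
  refine le_antisymm ?_ ?_
  · intro s hs
    have := h.conj_four_iff s 0 fun a _ => (Subgroup.mem_center_iff.mp hs a).symm
    obtain ⟨k, rfl | rfl⟩ := this
    · exact Subgroup.mem_zpowers_iff.mpr ⟨k, by rw [← zpow_mul, mul_comm]⟩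
    · exfalso
      have h1 : x ^ (1 : ℤ) * (x ^ (0 + k * (2 * qq n)) * y) = x ^ (0 + k * (2 * qq n)) * y * x ^ (1 : ℤ) :=
        Subgroup.mem_center_iff.mp hs _
      rw [h.mul_y_mul_zpow, ← mul_assoc, ← zpow_add, h.mul_y_eq] at h1
      obtain ⟨c, hc⟩ := h1
      obtain ⟨r, hr⟩ := h.qq_even
      rw [hr] at hc
      have : 2 * (r * (1 + 2 * c)) = 1 := by linarith
      generalize r * (1 + 2 * c) = m at this
      omega
  · rw [Subgroup.zpowers_le, Subgroup.mem_center_iff]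
    exact h.z_central

theorem weaklyClosed_center (h : QD _ n x y) (hT : ¬ FusT n x y) :
    Cfsg.IsWeaklyClosed ((Subgroup.center (S : Subgroup G)).map (S : Subgroup G).subtype)
      (S : Subgroup G) := by
  refine ⟨Subgroup.map_subtype_le _, fun g hg => ?_⟩
  rw [center_eq h, MonoidHom.map_zpowers, map_conj_zpowers] at hg ⊢
  simp only [Subgroup.subtype_apply] at hg ⊢
  congr 1
  set z : G := ((x ^ (2 * qq n) : ↥(S : Subgroup G)) : G) with hz
  have hm : g * z * g⁻¹ ∈ (S : Subgroup G) := hg (Subgroup.mem_zpowers _)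
  have ho : orderOf (⟨_, hm⟩ : ↥(S : Subgroup G)) = 2 := by
    rw [Subgroup.orderOf_mk, ← MulAut.conj_apply, MulEquiv.orderOf_eq, hz, Subgroup.orderOf_coe, h.orderOf_z]
  rcases h.involution_cases ho with h1 | ⟨i, hi, h1⟩
  · exact congrArg Subtype.val h1
  · refine absurd ?_ hT
    refine (isConj_even h hi).symm.trans ?_
    rw [← h1]
    refine isConj_iff.mpr ⟨g⁻¹, ?_⟩
    show g⁻¹ * (g * z * g⁻¹) * g⁻¹⁻¹ = z
    group

/-- A normal subgroup of index 2 with cyclic Sylow 2-subgroup gives a normal 2-complement. -/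
theorem normalComplement_of_cyclic (h : QD _ n x y) {K : Subgroup G} [K.Normal] (hK : K.index = 2)
    (hKS : K.subgroupOf (S : Subgroup G) = Subgroup.zpowers x) : Cfsg.HasNormalPComplement 2 G := by
  obtain ⟨P⟩ : Nonempty (Sylow 2 K) := inferInstance
  obtain ⟨e⟩ := sylow_of_subgroupOf hK P (h.index_zpowers) hKS
  have hcyc : IsCyclic ↥(P : Subgroup K) := isCyclic_of_surjective e.symm e.symm.surjective
  have hPcard : Nat.card ↥(P : Subgroup K) = 2 ^ n := by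
    rw [Nat.card_congr e.toEquiv, Nat.card_zpowers, h.ox]
  have h2K : 2 ∣ Nat.card K := by
    refine dvd_trans ?_ (P : Subgroup K).card_subgroup_dvd_card
    rw [hPcard]; exact dvd_pow_self 2 (by linarith [h.hn])
  have hmin : (Nat.card K).minFac = 2 := (Nat.minFac_eq_two_iff _).mpr h2K
  have hc := hcyc.isComplement' hmin
  set N := (MonoidHom.transferSylow P (hcyc.normalizer_le_centralizer hmin)).ker with hN
  have hNodd : Odd (Nat.card N) := by
    rw [← hc.index_eq_card, Nat.odd_iff, ← Nat.two_dvd_ne_zero]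
    exact P.not_dvd_index
  have hmemN : ∀ k : K, Odd (orderOf k) → k ∈ N := by
    intro k hk
    have h1 : k ^ N.index ∈ N := Subgroup.pow_index_mem N k
    rw [hc.symm.index_eq_card, hPcard] at h1
    have h2 : k ∈ Subgroup.zpowers (k ^ 2 ^ n) := by
      have hcop : (2 ^ n).Coprime (orderOf k) :=
        Nat.Coprime.pow_left _ (Nat.coprime_two_left.mpr hk)
      obtain ⟨m, hm⟩ := exists_pow_eq_self_of_coprime hcop
      exact Subgroup.mem_zpowers_iff.mpr ⟨m, by rw [zpow_natCast]; exact hm⟩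
    exact Subgroup.zpowers_le.mpr h1 h2
  refine ⟨S, N.map K.subtype, ⟨?_⟩, ?_⟩
  · rintro _ ⟨k, hk, rfl⟩ c
    refine ⟨⟨c * k * c⁻¹, Subgroup.Normal.conj_mem inferInstance _ k.2 c⟩, hmemN _ ?_, rfl⟩
    rw [Subgroup.orderOf_mk, ← MulAut.conj_apply, MulEquiv.orderOf_eq, Subgroup.orderOf_coe]
    refine Odd.of_dvd_nat hNodd ?_
    rw [← Subgroup.orderOf_mk k hk]
    exact orderOf_dvd_natCard _
  · have hcN : Nat.card ↥(N.map K.subtype) = Nat.card N :=
      Subgroup.card_map_of_injective K.subtype_injective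
    refine Subgroup.isComplement'_of_coprime ?_ ?_
    · rw [hcN, h.card, pow_succ, ← mul_assoc, ← hPcard, hc.card_mul, ← hK, K.card_mul_index]
    · rw [hcN, h.card]
      exact Nat.Coprime.pow_right _ (Nat.coprime_two_right.mpr hNodd)

end QD

end Cfsg.Agent.Invol
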