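import Mathlib

/-!
# Normal subgroups of 2-power index and the trace of a Sylow 2-subgroup
-/

namespace Cfsg.Agent.Invol

variable {G : Type*} [Group G] [Finite G]

/-- The trace of a normal subgroup on a Sylow subgroup, when the indices agree, is a Sylow subgroup. -/
theorem sylow_equiv_trace {p : ℕ} [Fact p.Prime] (S : Sylow p G) {K : Subgroup G} [K.Normal]
    (P : Sylow p K) {M : Subgroup ↥(S : Subgroup G)} (hM : M.index = K.index)
    (hKS : K.subgroupOf (S : Subgroup G) = M) :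
    Nonempty (↥(P : Subgroup K) ≃* ↥M) := by
  subst hKS
  have hle : K ⊓ (S : Subgroup G) ≤ K := inf_le_left
  have hp : IsPGroup p ((K ⊓ (S : Subgroup G)).subgroupOf K) :=
    IsPGroup.of_injective (S.isPGroup'.to_le inf_le_right : IsPGroup p ↥(K ⊓ (S : Subgroup G)))
      (Subgroup.subgroupOfEquivOfLe hle).toMonoidHom (Subgroup.subgroupOfEquivOfLe hle).injective
  have hnd : ¬ p ∣ ((K ⊓ (S : Subgroup G)).subgroupOf K).index := by
    rw [← Subgroup.relIndex]
    intro hd
    refine S.not_dvd_index ?_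
    have h1 := Subgroup.relIndex_mul_index (inf_le_left : K ⊓ (S : Subgroup G) ≤ K)
    rw [← Subgroup.relIndex_mul_index (inf_le_right : K ⊓ (S : Subgroup G) ≤ S),
      Subgroup.inf_relIndex_right] at h1
    rw [show K.relIndex (S : Subgroup G) = K.index from hM, mul_comm] at h1
    rwa [← Nat.eq_of_mul_eq_mul_left (Nat.pos_of_ne_zero Subgroup.index_ne_zero_of_finite) h1]
  exact ⟨(Sylow.equiv P (hp.toSylow hnd)).trans ((Subgroup.subgroupOfEquivOfLe hle).trans
    ((MulEquiv.subgroupCongr (inf_comm _ _)).trans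
      ((MulEquiv.subgroupCongr (Subgroup.map_subgroupOf_eq_of_le inf_le_left).symm).trans
        (((S : Subgroup G) ⊓ K).subgroupOf (S : Subgroup G) |>.equivMapOfInjective
          (S : Subgroup G).subtype (Subgroup.subtype_injective _)).symm |>.trans
        (MulEquiv.subgroupCongr (Subgroup.inf_subgroupOf_left _ _)))))⟩

/-- Inside a normal subgroup `K` of 2-power index, a subgroup of index 2 would give a normal subgroup `J`
of `G` with 2-group quotient; fusion of `u` to `v` then yields an element of `J` in `S`. -/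
theorem no_index_two_pow {S : Sylow 2 G} {K : Subgroup G} [K.Normal] {a : ℕ} (hK : K.index = 2 ^ a)
    (u v c : G) (huv : c * u * c⁻¹ = v)
    (hM : ∀ J : Subgroup G, J.Normal → J ≤ K →
      (∃ s ∈ (S : Subgroup G), v * (s * u * s⁻¹)⁻¹ ∈ J) → K ⊓ (S : Subgroup G) ≤ J) :
    ∀ H : Subgroup ↥K, H.index ≠ 2 := by
  intro H hH
  set H' := H.map K.subtype with hH'
  set J := H'.normalCore with hJ
  have hJK : J ≤ K := (Subgroup.normalCore_le H').trans (Subgroup.map_subtype_le H)
  have hpow : ∀ w : G, w ^ 2 ^ a ∈ K := fun w => by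
    rw [← hK]; exact Subgroup.pow_index_mem K w
  have hJp : ∀ w : G, (w ^ 2 ^ a) ^ 2 ∈ J := by
    intro w d
    rw [show d * (w ^ 2 ^ a) ^ 2 * d⁻¹ = ((d * w * d⁻¹) ^ 2 ^ a) ^ 2 by rw [conj_pow, conj_pow]]
    exact ⟨⟨_, hpow _⟩ ^ 2, Subgroup.sq_mem_of_index_two hH _, rfl⟩
  have hsup : (S : Subgroup G) ⊔ J = ⊤ := by
    have hp : IsPGroup 2 (G ⧸ J) := fun q => by
      obtain ⟨w, rfl⟩ := QuotientGroup.mk_surjective q
      exact ⟨a + 1, by rw [pow_succ, pow_mul, ← QuotientGroup.mk_pow, ← QuotientGroup.mk_pow,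
        QuotientGroup.eq_one_iff]; exact hJp w⟩
    obtain ⟨m, hm⟩ := IsPGroup.iff_card.mp hp
    have h1 : ((S : Subgroup G) ⊔ J).index ∣ 2 ^ m := hm ▸ Subgroup.index_dvd_of_le le_sup_right
    have h2 : ((S : Subgroup G) ⊔ J).index ∣ (S : Subgroup G).index :=
      Subgroup.index_dvd_of_le le_sup_left
    obtain ⟨l, -, hl⟩ := (Nat.dvd_prime_pow Nat.prime_two).mp h1
    rcases l with _ | l
    · exact Subgroup.index_eq_one.mp (by rw [hl, pow_zero])
    · exact absurd ((dvd_pow_self 2 (Nat.succ_ne_zero l)).trans (hl ▸ h2)) S.not_dvd_index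
  have hdec : ∀ w : G, ∃ s ∈ (S : Subgroup G), ∃ j ∈ J, s * j = w := fun w =>
    Subgroup.mem_sup_of_normal_right.mp (hsup ▸ Subgroup.mem_top w)
  have hMJ : K ⊓ (S : Subgroup G) ≤ J := by
    refine hM J inferInstance hJK ?_
    obtain ⟨s, hs, j, hj, rfl⟩ := hdec c
    refine ⟨s, hs, ?_⟩
    rw [← huv, show s * j * u * (s * j)⁻¹ * (s * u * s⁻¹)⁻¹ = s * (j * (u * j⁻¹ * u⁻¹)) * s⁻¹ by group]
    exact Subgroup.Normal.conj_mem inferInstance _
      (mul_mem hj (Subgroup.Normal.conj_mem inferInstance _ (inv_mem hj) u)) s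
  have hKJ : K ≤ J := fun k hk => by
    obtain ⟨s, hs, j, hj, rfl⟩ := hdec k
    have : s ∈ K := by
      have := mul_mem hk (inv_mem (hJK hj))
      rwa [mul_inv_cancel_right] at this
    exact mul_mem (hMJ ⟨this, hs⟩) hj
  have : H = ⊤ := eq_top_iff.mpr fun k _ => by
    obtain ⟨k', hk', he⟩ := Subgroup.normalCore_le H' (hKJ k.2)
    exact Subtype.ext he ▸ hk'
  rw [this, Subgroup.index_top] at hH
  omega

end Cfsg.Agent.Invol
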