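import Mathlib

/-!
# Extending a fusion-invariant character of a Sylow subgroup
-/

namespace Cfsg.Agent.Invol

variable {G : Type*} [Group G] [Finite G] {p : ℕ} [Fact p.Prime]

/-- A fusion-invariant homomorphism on a Sylow `p`-subgroup onto an abelian `p`-group is the trace of a
normal subgroup of the same index. -/
theorem exists_normal_of_invariant (S : Sylow p G) {A : Type*} [CommGroup A]
    (φ : ↥(S : Subgroup G) →* A) (hsur : Function.Surjective φ)
    (hf : ∀ s t : ↥(S : Subgroup G), IsConj (s : G) (t : G) → φ s = φ t) :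
    ∃ K : Subgroup G, K.Normal ∧ K.index = Nat.card A ∧ K.subgroupOf (S : Subgroup G) = φ.ker := by
  classical
  have hfin : Finite A := Finite.of_surjective φ hsur
  have hAp : IsPGroup p A := S.isPGroup'.of_surjective φ hsur
  obtain ⟨e, he⟩ := hAp.exists_card_eq
  have hcop : (Nat.card A).Coprime (S : Subgroup G).index := by
    rw [he]
    exact Nat.Coprime.pow_left _ ((Nat.Prime.coprime_iff_not_dvd Fact.out).mpr S.not_dvd_index)
  have := Fintype.ofFinite (G ⧸ (S : Subgroup G))
  set T := MonoidHom.transfer φ with hT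
  have htr : ∀ s : ↥(S : Subgroup G), T (s : G) = φ s ^ (S : Subgroup G).index := by
    intro s
    rw [hT, MonoidHom.transfer_eq_prod_quotient_orbitRel_zpowers_quot]
    have hterm : ∀ q : Quotient (MulAction.orbitRel (Subgroup.zpowers (s : G)) (G ⧸ (S : Subgroup G))),
        φ ⟨_, QuotientGroup.out_conj_pow_minimalPeriod_mem (S : Subgroup G) (s : G) q.out⟩ =
          φ s ^ Function.minimalPeriod ((s : G) • ·) q.out := by
      intro q
      rw [← map_pow]
      refine (hf _ _ ?_).symm
      exact isConj_iff.mpr ⟨q.out.out⁻¹, by simp [SubgroupClass.coe_pow]⟩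
    rw [Finset.prod_congr rfl fun q _ => hterm q, Finset.prod_pow_eq_pow_sum,
      ← Subgroup.index_eq_sum_minimalPeriod]
  refine ⟨T.ker, T.normal_ker, ?_, ?_⟩
  · rw [Subgroup.index_ker, MonoidHom.range_eq_top.mpr, Subgroup.card_top]
    intro a
    obtain ⟨b, rfl⟩ := (powCoprime hcop).surjective a
    obtain ⟨s, rfl⟩ := hsur b
    exact ⟨s, htr s⟩
  · ext s
    rw [Subgroup.mem_subgroupOf, MonoidHom.mem_ker, MonoidHom.mem_ker, htr]
    refine ⟨fun h => (powCoprime hcop).injective ?_, fun h => by rw [h, one_pow]⟩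
    rw [powCoprime_apply, powCoprime_apply, h, one_pow]

end Cfsg.Agent.Invol
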