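import Mathlib
import Cfsg.Agent.Lib.Invol.WreathedFusion

/-!
# The automizers of the subgroups `Q Z(S)` of a wreathed Sylow 2-subgroup
-/

namespace Cfsg.Agent.Invol.WR

variable {G : Type*} [Group G] [Finite G] {S : Sylow 2 G} {n : ℕ} {x y z : ↥(S : Subgroup G)}

/-- Square roots of `w` in a slope subgroup, outside the centre. -/
def Root (h : WR _ n x y z) (e : ℤ) (u : G) : Prop :=
  u ∈ h.gSlope e ∧ u ∉ h.gCenter ∧ u * u = h.gE (hh n) (hh n)

omit [Finite G] in
theorem gCenter_le_gSlope (h : WR _ n x y z) (e : ℤ) : h.gCenter ≤ h.gSlope e :=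
  Subgroup.map_mono (h.center_le_slope _)

omit [Finite G] in
theorem w_mem_gCenter (h : WR _ n x y z) : h.gE (hh n) (hh n) ∈ h.gCenter :=
  coe_mem_map.mpr (h.mem_center_el.mpr ⟨0, by ring⟩)

omit [Finite G] in
theorem root_cases (h : WR _ n x y z) {c : ℤ} (hc : hh n = 2 * c) (f : ℤ) {u : G}
    (hu : h.Root (2 * f) u) :
    ∃ k : ℤ, ((u = h.gE (k * c) (k * -c) ∧ ¬ 2 ∣ k) ∨
      u = ((h.el (f + c + k * c) (c - f - k * c) * z : ↥(S : Subgroup G)) : G)) := by
  obtain ⟨⟨s, hs, rfl⟩, hns, hsq⟩ := hu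
  obtain ⟨a, b, ⟨rfl, v, hv⟩ | ⟨rfl, v, hv⟩⟩ := hs
  · have h2 : h.el a b * h.el a b = h.el (hh n) (hh n) := Subtype.ext hsq
    rw [h.el_mul, h.el_eq] at h2
    obtain ⟨⟨p, hp⟩, ⟨q, hq⟩⟩ := h2
    have ha : a = c + 2 * c * p := by rw [hc] at hp; linarith
    have hb : b = c + 2 * c * q := by rw [hc] at hq; linarith
    have hpq : ¬ 2 ∣ p - q := by
      rintro ⟨r, hr⟩
      refine hns (coe_mem_map.mpr (h.mem_center_el.mpr ⟨r, ?_⟩))
      rw [hc]; subst ha hb; linear_combination (2 * c) * hr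
    refine ⟨1 + 2 * p, .inl ⟨congrArg Subtype.val (h.el_eq.mpr ⟨⟨0, ?_⟩, ?_⟩), by omega⟩⟩
    · subst ha; ring
    · obtain ⟨r, hr⟩ : ∃ r, p + q + 1 = 2 * r := ⟨(p + q + 1) / 2, by omega⟩
      exact ⟨r, by rw [hc]; subst hb; linear_combination (2 * c) * hr⟩
  · have h2 : h.el a b * z * (h.el a b * z) = h.el (hh n) (hh n) := Subtype.ext hsq
    rw [h.sq_el_z, h.el_eq] at h2
    obtain ⟨p, hp⟩ := h2.1
    rw [hc] at hp hv
    refine ⟨v + 2 * p, .inr ?_⟩
    have h5 : h.el a b * z = h.el (f + c + (v + 2 * p) * c) (c - f - (v + 2 * p) * c) * z := by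
      rw [mul_left_inj, h.el_eq]
      exact ⟨⟨0, by linarith⟩, ⟨p, by rw [hc]; linarith⟩⟩
    exact congrArg Subtype.val h5

/-- The automizer of an even slope subgroup. -/
theorem automizer_slope (h : WR _ n x y z) {e : ℤ} (he : 2 ∣ e) :
    ((h.gSlope e ⊔ Subgroup.centralizer (h.gSlope e : Set G)).relIndex (Subgroup.normalizer (h.gSlope e : Set G)) = 2 ∨
      (h.gSlope e ⊔ Subgroup.centralizer (h.gSlope e : Set G)).relIndex (Subgroup.normalizer (h.gSlope e : Set G)) = 6) ∧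
    ((h.gSlope e ⊔ Subgroup.centralizer (h.gSlope e : Set G)).relIndex (Subgroup.normalizer (h.gSlope e : Set G)) = 6 →
      IsConj (h.gE (hh n) 0) (z : G) ∧ ∃ c i j : ℤ, hh n = 2 * c ∧ 2 * hh n ∣ i + j - hh n ∧
        IsConj (h.gE c (-c)) ((h.el i j * z : ↥(S : Subgroup G)) : G)) ∧
    ((h.gSlope e ⊔ Subgroup.centralizer (h.gSlope e : Set G)).relIndex (Subgroup.normalizer (h.gSlope e : Set G)) = 2 →
      ∀ g ∈ Subgroup.normalizer (h.gSlope e : Set G), ∃ s ∈ (S : Subgroup G),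
        ∀ d ∈ h.gSlope e, g * d * g⁻¹ = s * d * s⁻¹) := by
  obtain ⟨f, rfl⟩ := he
  obtain ⟨c, hc⟩ := h.hh_even
  have hn := h.hn
  set X := h.gSlope (2 * f) with hX
  set N := Subgroup.normalizer (X : Set G) with hN
  have hXS : X ≤ (S : Subgroup G) := Subgroup.map_subtype_le _
  have hNZ := h.normalizer_slope_centralizes (dvd_mul_right 2 f)
  set i := f + c with hi
  set j := c - f with hj
  set a' := h.el c (-c) with ha'
  set t' := h.el i j * z with ht'
  set a : G := (a' : G) with ha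
  set t : G := (t' : G) with ht
  have haX : a ∈ X := coe_mem_map.mpr ((h.el_mem_slope _).mpr ⟨1, by rw [hc]; ring⟩)
  have htX : t ∈ X := coe_mem_map.mpr ((h.el_z_mem_slope _).mpr ⟨0, by rw [hi, hj]; ring⟩)
  have hpow : ∀ k : ℤ, a ^ k = h.gE (k * c) (k * -c) := fun k => by
    rw [ha, ← Subgroup.coe_zpow, ha', h.el_zpow]
  have hpowt : ∀ k : ℤ, a ^ k * t = ((h.el (i + k * c) (j - k * c) * z : ↥(S : Subgroup G)) : G) := fun k => by
    rw [hpow, ht, ← Subgroup.coe_mul, ht', ← mul_assoc, h.el_mul]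
    congr 3 <;> ring
  have hij : 2 * hh n ∣ i + j - hh n := ⟨0, by rw [hi, hj, hc]; ring⟩
  have hne0 : ∀ k : ℤ, ¬ 2 ∣ k → h.gE (k * c) (k * -c) ∉ h.gCenter := by
    intro k hk hm
    obtain ⟨r, hr⟩ := h.mem_center_el.mp (coe_mem_map.mp hm)
    rw [hc] at hr
    have : c * (2 * k - 4 * r) = 0 := by linarith
    rcases mul_eq_zero.mp this with h0 | h0
    · exact h.hh_pos.ne' (by rw [hc, h0, mul_zero])
    · omega
  have hne1 : ∀ p q : ℤ, ((h.el p q * z : ↥(S : Subgroup G)) : G) ∉ h.gCenter := fun p q hm =>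
    h.el_z_notMem p q (by
      have := coe_mem_map.mp hm
      rw [h.center_eq] at this
      exact (Subgroup.zpowers_le.mpr (h.el_mem_base 1 1)) this)
  have hroot_t : ∀ k : ℤ, h.Root (2 * f) (a ^ k * t) := fun k => by
    refine ⟨mul_mem (zpow_mem haX k) htX, by rw [hpowt]; exact hne1 _ _, ?_⟩
    rw [hpowt, ← Subgroup.coe_mul, h.sq_el_z]
    exact congrArg Subtype.val (h.el_eq.mpr ⟨⟨0, by rw [hi, hj, hc]; ring⟩, ⟨0, by rw [hi, hj, hc]; ring⟩⟩)
  have hroot_a : ∀ k : ℤ, ¬ 2 ∣ k → h.Root (2 * f) (a ^ k) := fun k hk => by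
    refine ⟨zpow_mem haX k, by rw [hpow]; exact hne0 k hk, ?_⟩
    rw [hpow, ← Subgroup.coe_mul, h.el_mul]
    obtain ⟨r, rfl⟩ : ∃ r, k = 2 * r + 1 := ⟨k / 2, by omega⟩
    exact congrArg Subtype.val (h.el_eq.mpr ⟨⟨r, by rw [hc]; ring⟩, ⟨-r - 1, by rw [hc]; ring⟩⟩)
  have hroot : ∀ u, h.Root (2 * f) u → (∃ k : ℤ, u = a ^ k ∧ ¬ 2 ∣ k) ∨ ∃ k : ℤ, u = a ^ k * t := by
    intro u hu
    obtain ⟨k, ⟨hk, hk2⟩ | hk⟩ := h.root_cases hc f hu
    · exact .inl ⟨k, by rw [hpow]; exact hk, hk2⟩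
    · exact .inr ⟨k, by rw [hpowt]; exact hk⟩
  have hrootN : ∀ g ∈ N, ∀ u, h.Root (2 * f) u → h.Root (2 * f) (g * u * g⁻¹) := by
    rintro g hg u ⟨hu, huZ, hu2⟩
    refine ⟨(Subgroup.mem_normalizer_iff.mp hg u).mp hu, fun hz => huZ ?_, ?_⟩
    · have h1 := hNZ hg _ hz
      have : u = g * u * g⁻¹ := by
        calc u = g⁻¹ * (g * u * g⁻¹ * g) := by group
          _ = g⁻¹ * (g * (g * u * g⁻¹)) := by rw [h1]
          _ = g * u * g⁻¹ := by group
      rwa [← this] at hz
    · rw [show g * u * g⁻¹ * (g * u * g⁻¹) = g * (u * u) * g⁻¹ by group, hu2,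
        ← hNZ hg _ h.w_mem_gCenter, mul_inv_cancel_right]
  -- generators of `X`
  have hgen : ∀ d ∈ X, ∃ k : ℤ, ∃ ζ ∈ h.gCenter, d = a ^ k * ζ ∨ d = a ^ k * t * ζ := by
    rintro _ ⟨s, ⟨p, q, ⟨rfl, v, hv⟩ | ⟨rfl, v, hv⟩⟩, rfl⟩ <;> rw [hc] at hv
    · refine ⟨v, h.gE (p - v * c) (p - v * c), coe_mem_map.mpr (h.mem_center_el.mpr ⟨0, by ring⟩), .inl ?_⟩
      rw [hpow, ← Subgroup.coe_mul, h.el_mul]
      exact congrArg Subtype.val (h.el_eq.mpr ⟨⟨0, by ring⟩, ⟨0, by linarith⟩⟩)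
    · refine ⟨v, h.gE (p - i - v * c) (p - i - v * c),
        coe_mem_map.mpr (h.mem_center_el.mpr ⟨0, by ring⟩), .inr ?_⟩
      rw [hpowt, ← Subgroup.coe_mul, h.el_z_mul_el]
      have h5 : h.el p q * z = h.el (i + v * c + (p - i - v * c)) (j - v * c + (p - i - v * c)) * z := by
        rw [mul_left_inj, h.el_eq]
        exact ⟨⟨0, by ring⟩, ⟨0, by rw [hi, hj]; linarith⟩⟩
      exact congrArg Subtype.val h5
  have hoa : orderOf a = 4 := by
    rw [show (4 : ℕ) = 2 ^ (1 + 1) from rfl]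
    refine orderOf_eq_prime_pow (fun h1 => ?_) ?_
    · rw [pow_one, ← zpow_natCast, hpow] at h1
      obtain ⟨⟨r, hr⟩, -⟩ := h.el_eq_one.mp (Subtype.ext h1)
      rw [hc] at hr
      push_cast at hr
      have : c * (2 - 4 * r) = 0 := by linarith
      rcases mul_eq_zero.mp this with h0 | h0
      · exact h.hh_pos.ne' (by rw [hc, h0, mul_zero])
      · omega
    · rw [← zpow_natCast, hpow]
      push_cast
      exact congrArg Subtype.val (h.el_eq_one.mpr ⟨⟨1, by rw [hc]; ring⟩, ⟨-1, by rw [hc]; ring⟩⟩)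
  have htinv : ∀ k : ℤ, (a ^ k * t)⁻¹ = a ^ (k + 2) * t := fun k => by
    rw [hpowt, hpowt, ← Subgroup.coe_inv]
    refine congrArg Subtype.val (inv_eq_of_mul_eq_one_right ?_)
    rw [h.el_z_mul, h.el_eq_one]
    exact ⟨⟨0, by rw [hi, hj, hc]; ring⟩, ⟨1, by rw [hi, hj, hc]; ring⟩⟩
  have hmod : ∀ k : ℤ, a ^ k = a ^ (k % 4) := fun k => by
    rw [← orderOf_dvd_sub_iff_zpow_eq_zpow, hoa]
    exact ⟨k / 4, by omega⟩
  let P : Subgroup G → Prop := fun V => ∃ u, h.Root (2 * f) u ∧ V = Subgroup.zpowers u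
  have hmapz : ∀ g u : G, (Subgroup.zpowers u).map (MulAut.conj g).toMonoidHom = Subgroup.zpowers (g * u * g⁻¹) :=
    fun g u => by rw [MonoidHom.map_zpowers]; rfl
  have hP : ∀ g ∈ N, ∀ A : Subgroup G, P (A.map (MulAut.conj g).toMonoidHom) ↔ P A := by
    intro g hg A
    constructor
    · rintro ⟨u, hu, heq⟩
      refine ⟨g⁻¹ * u * g⁻¹⁻¹, hrootN _ (inv_mem hg) u hu, ?_⟩
      refine Subgroup.map_injective (f := (MulAut.conj g).toMonoidHom) (MulAut.conj g).injective ?_
      rw [heq, hmapz]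
      congr 1; group
    · rintro ⟨u, hu, rfl⟩
      exact ⟨_, hrootN g hg u hu, hmapz g u⟩
  have hexh : ∀ u, h.Root (2 * f) u → Subgroup.zpowers u = Subgroup.zpowers a ∨
      Subgroup.zpowers u = Subgroup.zpowers t ∨ Subgroup.zpowers u = Subgroup.zpowers (a * t) := by
    intro u hu
    rcases hroot u hu with ⟨k, rfl, hk⟩ | ⟨k, rfl⟩
    · left
      rcases (show k % 4 = 1 ∨ k % 4 = 3 by omega) with h' | h'
      · rw [hmod, h', zpow_one]
      · rw [hmod, h', show a ^ (3 : ℤ) = a⁻¹ by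
          rw [← zpow_neg_one, ← orderOf_dvd_sub_iff_zpow_eq_zpow, hoa]; exact ⟨1, by norm_num⟩,
          Subgroup.zpowers_inv]
    · right
      rcases (show k % 4 = 0 ∨ k % 4 = 1 ∨ k % 4 = 2 ∨ k % 4 = 3 by omega) with h' | h' | h' | h'
      · left; rw [hmod, h', zpow_zero, one_mul]
      · right; rw [hmod, h', zpow_one]
      · left
        rw [hmod, h', show a ^ (2 : ℤ) * t = (a ^ (0 : ℤ) * t)⁻¹ from (htinv 0).symm, Subgroup.zpowers_inv,
          zpow_zero, one_mul]
      · right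
        rw [hmod, h', show a ^ (3 : ℤ) * t = (a ^ (1 : ℤ) * t)⁻¹ from (htinv 1).symm, Subgroup.zpowers_inv,
          zpow_one]
  have hbase : ∀ k : ℤ, a ^ k ∈ h.gBase := fun k => by
    rw [hpow]; exact coe_mem_map.mpr (h.el_mem_base _ _)
  have hout : ∀ k : ℤ, a ^ k * t ∉ h.gBase := fun k hm => by
    rw [hpowt] at hm; exact h.el_z_notMem _ _ (coe_mem_map.mp hm)
  have hne_at : ∀ k : ℤ, Subgroup.zpowers a ≠ Subgroup.zpowers (a ^ k * t) := fun k he => by
    have h1 : a ^ k * t ∈ Subgroup.zpowers a := he ▸ Subgroup.mem_zpowers _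
    exact hout k ((Subgroup.zpowers_le.mpr (zpow_one a ▸ hbase 1)) h1)
  have hne_t : Subgroup.zpowers t ≠ Subgroup.zpowers (a * t) := by
    intro he
    have h1 : a * t ∈ Subgroup.zpowers t := he ▸ Subgroup.mem_zpowers _
    have h2 : a ∈ Subgroup.zpowers t := by
      have := mul_mem h1 (inv_mem (Subgroup.mem_zpowers t))
      rwa [mul_inv_cancel_right] at this
    obtain ⟨m, hm⟩ := Subgroup.mem_zpowers_iff.mp h2
    have hm' : t ^ m = a := hm
    rcases Int.even_or_odd m with ⟨r, rfl⟩ | ⟨r, rfl⟩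
    · rw [zpow_add, ← (Commute.refl t).mul_zpow] at hm'
      refine hne0 1 (by omega) ?_
      rw [← hpow, zpow_one, ← hm']
      have htt : t * t = h.gE (hh n) (hh n) := by have := (hroot_t 0).2.2; rwa [zpow_zero, one_mul] at this
      rw [htt]
      exact zpow_mem h.w_mem_gCenter r
    · refine hout 0 ?_
      rw [zpow_zero, one_mul]
      rw [zpow_add, zpow_one, zpow_mul, zpow_ofNat, pow_two] at hm'
      have htt : t * t = h.gE (hh n) (hh n) := by have := (hroot_t 0).2.2; rwa [zpow_zero, one_mul] at this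
      rw [htt] at hm'
      have hwB : h.gE (hh n) (hh n) ^ r ∈ h.gBase := zpow_mem (coe_mem_map.mpr (h.el_mem_base _ _)) r
      have := mul_mem (inv_mem hwB) (zpow_one a ▸ hbase 1)
      rwa [← hm', inv_mul_cancel_left] at this
  have hcard : Nat.card {V // P V} = 3 := by
    have hset : {V | P V} = {Subgroup.zpowers a, Subgroup.zpowers t, Subgroup.zpowers (a * t)} := by
      ext V
      constructor
      · rintro ⟨u, hu, rfl⟩
        exact hexh u hu
      · rintro (rfl | rfl | rfl)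
        · exact ⟨a, by simpa using hroot_a 1 (by omega), rfl⟩
        · exact ⟨t, by simpa using hroot_t 0, rfl⟩
        · exact ⟨a * t, by simpa using hroot_t 1, rfl⟩
    change Nat.card ↥{V | P V} = 3
    rw [hset, Nat.card_coe_set_eq, Set.ncard_insert_of_notMem, Set.ncard_pair hne_t]
    rintro (he | he)
    · exact hne_at 0 (by rwa [zpow_zero, one_mul])
    · exact hne_at 1 (by rwa [zpow_one])
  have hCN : Subgroup.centralizer (X : Set G) ≤ N := by
    refine fun w hw => Subgroup.mem_normalizer_fintype fun v hv => ?_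
    rwa [← hw v hv, mul_inv_cancel_right]
  have hsup : ∀ g ∈ X ⊔ Subgroup.centralizer (X : Set G),
      ∃ q ∈ X, ∀ d ∈ X, g * d * g⁻¹ = q * d * q⁻¹ := by
    intro g hg
    obtain ⟨q, hq, w, hw, rfl⟩ := Set.mem_mul.mp
      ((Subgroup.coe_mul_of_right_le_normalizer_left X (Subgroup.centralizer (X : Set G)) hCN).le hg)
    refine ⟨q, hq, fun d hd => ?_⟩
    rw [show q * w * d * (q * w)⁻¹ = q * (w * d * w⁻¹) * q⁻¹ by group,
      show w * d * w⁻¹ = d by rw [← hw d hd, mul_inv_cancel_right]]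
  have hbab : t * a * t⁻¹ = a⁻¹ := by
    rw [ha, ht, ← Subgroup.coe_inv, ← Subgroup.coe_mul, ← Subgroup.coe_mul, ← Subgroup.coe_inv, ha', ht',
      show ∀ u v : ↥(S : Subgroup G), u * z * v * (u * z)⁻¹ = u * (z * v * z⁻¹) * u⁻¹ by intros; group,
      h.z_conj_el, h.conj_el, h.el_inv, neg_neg]
  have habb : a * t * a⁻¹ = t⁻¹ := by
    calc a * t * a⁻¹ = a * (t * a⁻¹ * t⁻¹) * t := by group
      _ = a * (t * a * t⁻¹)⁻¹ * t := by group
      _ = a ^ (2 : ℤ) * t := by rw [hbab, inv_inv, zpow_ofNat, pow_two]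
      _ = t⁻¹ := by rw [show a ^ (2 : ℤ) * t = (a ^ (0 : ℤ) * t)⁻¹ from (htinv 0).symm, zpow_zero, one_mul]
  have hinner : ∀ q ∈ X, ∀ V : Subgroup G, P V → V.map (MulAut.conj q).toMonoidHom = V := by
    rintro q hq V ⟨u, hu, rfl⟩
    have hat : a * (a * t) * a⁻¹ = (a * t)⁻¹ ∧ t * (a * t) * t⁻¹ = (a * t)⁻¹ := by
      have h1 : (a * t)⁻¹ = a * (a * (a * t)) := by
        have := htinv 1
        rw [zpow_one] at this
        rw [this, show (1 : ℤ) + 2 = 3 by norm_num, zpow_ofNat]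
        simp [pow_succ, mul_assoc]
      constructor
      · rw [h1]
        calc a * (a * t) * a⁻¹ = a * (a * t * a⁻¹) := by group
          _ = a * t⁻¹ := by rw [habb]
          _ = a * (a * (a * t)) := by
              rw [show t⁻¹ = (a ^ (0 : ℤ) * t)⁻¹ by rw [zpow_zero, one_mul], htinv, zero_add, zpow_ofNat, pow_two]
              simp [mul_assoc]
      · calc t * (a * t) * t⁻¹ = t * a * t⁻¹ * t := by group
          _ = a⁻¹ * t := by rw [hbab]
          _ = (a * t)⁻¹ := by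
              rw [h1, ← zpow_neg_one, show a ^ (-1 : ℤ) = a ^ (3 : ℤ) by
                rw [← orderOf_dvd_sub_iff_zpow_eq_zpow, hoa]; exact ⟨-1, by norm_num⟩, zpow_ofNat]
              simp [pow_succ, mul_assoc]
    obtain ⟨v, hv, hVv⟩ : ∃ v, (v = a ∨ v = t ∨ v = a * t) ∧ Subgroup.zpowers u = Subgroup.zpowers v := by
      rcases hexh u hu with h1 | h1 | h1
      exacts [⟨a, .inl rfl, h1⟩, ⟨t, .inr (.inl rfl), h1⟩, ⟨_, .inr (.inr rfl), h1⟩]
    rw [hVv, hmapz]
    have hvX : v ∈ X := by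
      rcases hv with rfl | rfl | rfl
      exacts [haX, htX, mul_mem haX htX]
    have hconj : q * v * q⁻¹ = v ∨ q * v * q⁻¹ = v⁻¹ := by
      have hga : a * v * a⁻¹ = v ∨ a * v * a⁻¹ = v⁻¹ := by
        rcases hv with rfl | rfl | rfl
        exacts [.inl (by group), .inr habb, .inr hat.1]
      have hgt : t * v * t⁻¹ = v ∨ t * v * t⁻¹ = v⁻¹ := by
        rcases hv with rfl | rfl | rfl
        exacts [.inr hbab, .inl (by group), .inr hat.2]
      let M : Subgroup G :=
        { carrier := {w | w * v * w⁻¹ = v ∨ w * v * w⁻¹ = v⁻¹}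
          one_mem' := .inl (by group)
          mul_mem' := fun {p q} hp hq => by
            simp only [Set.mem_ofPred_eq] at hp hq ⊢
            rw [show p * q * v * (p * q)⁻¹ = p * (q * v * q⁻¹) * p⁻¹ by group]
            rcases hq with hq | hq <;> rw [hq]
            · exact hp
            · rw [← conj_inv]
              rcases hp with hp | hp <;> rw [hp]
              · exact .inr rfl
              · exact .inl (inv_inv v)
          inv_mem' := fun {p} hp => by
            simp only [Set.mem_ofPred_eq] at hp ⊢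
            rcases hp with hp | hp
            · left; conv_lhs => arg 1; arg 2; rw [← hp]
              group
            · right
              have hp' : p * v⁻¹ * p⁻¹ = v := by rw [← conj_inv, hp, inv_inv]
              conv_lhs => arg 1; arg 2; rw [← hp']
              group }
      obtain ⟨k, ζ, hζ, hq' | hq'⟩ := hgen q hq
      all_goals
        have hζM : ζ ∈ M := by
          obtain ⟨w, hw, rfl⟩ := hζ
          left
          show (w : G) * v * (w : G)⁻¹ = v
          have := congrArg Subtype.val (Subgroup.mem_center_iff.mp hw ⟨v, hXS hvX⟩)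
          rw [Subgroup.coe_mul, Subgroup.coe_mul] at this
          rw [← this, mul_inv_cancel_right]
        have haM : a ∈ M := hga
        have htM : t ∈ M := hgt
        rw [hq']
      · exact mul_mem (zpow_mem haM k) hζM
      · exact mul_mem (mul_mem (zpow_mem haM k) htM) hζM
    rcases hconj with h1 | h1 <;> rw [h1]
    exact Subgroup.zpowers_inv
  have hker : (conjPermSub N P hP).ker = (X ⊔ Subgroup.centralizer (X : Set G)).subgroupOf N := by
    refine le_antisymm ?_ ?_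
    · intro g hg
      rw [MonoidHom.mem_ker] at hg
      have hval : ∀ v, h.Root (2 * f) v → (g : G) * v * (g : G)⁻¹ = v ∨ (g : G) * v * (g : G)⁻¹ = v⁻¹ := by
        intro v hv
        have h1 := congrArg Subtype.val (DFunLike.congr_fun hg ⟨_, v, hv, rfl⟩)
        simp only [conjPermSub_apply, Equiv.Perm.coe_one, id_eq, hmapz] at h1
        obtain ⟨m, hm⟩ := Subgroup.mem_zpowers_iff.mp
          (h1 ▸ Subgroup.mem_zpowers _ : (g : G) * v * (g : G)⁻¹ ∈ Subgroup.zpowers v)
        have hm' := hm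
        rcases Int.even_or_odd m with ⟨r, rfl⟩ | ⟨r, rfl⟩
        · exfalso
          rw [zpow_add, ← (Commute.refl v).mul_zpow, hv.2.2] at hm
          exact (hrootN g g.2 v hv).2.1 (hm ▸ zpow_mem h.w_mem_gCenter r)
        · rw [zpow_add, zpow_one, zpow_mul, zpow_ofNat, pow_two] at hm
          rcases Int.even_or_odd r with ⟨l, rfl⟩ | ⟨l, rfl⟩
          · left
            rw [← hm, hv.2.2, zpow_add, ← (Commute.refl _).mul_zpow, ← Subgroup.coe_mul, h.el_mul,
              show h.el (hh n + hh n) (hh n + hh n) = 1 from h.el_eq_one.mpr ⟨⟨1, by ring⟩, ⟨1, by ring⟩⟩,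
              Subgroup.coe_one, one_zpow, one_mul]
          · right
            rw [← hm, hv.2.2, zpow_add, zpow_one, zpow_mul, zpow_ofNat, pow_two, ← Subgroup.coe_mul, h.el_mul,
              show h.el (hh n + hh n) (hh n + hh n) = 1 from h.el_eq_one.mpr ⟨⟨1, by ring⟩, ⟨1, by ring⟩⟩,
              Subgroup.coe_one, one_zpow, one_mul, ← hv.2.2]
            refine (inv_eq_of_mul_eq_one_right ?_).symm
            rw [← mul_assoc, ← mul_assoc, mul_assoc (v * v) v v, hv.2.2, ← Subgroup.coe_mul, h.el_mul]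
            exact congrArg Subtype.val (h.el_eq_one.mpr ⟨⟨1, by ring⟩, ⟨1, by ring⟩⟩)
      have hkey : ∀ q ∈ X, (g : G) * q * a * ((g : G) * q)⁻¹ = a → (g : G) * q * t * ((g : G) * q)⁻¹ = t →
          g ∈ (X ⊔ Subgroup.centralizer (X : Set G)).subgroupOf N := by
        intro q hq h1 h2
        rw [Subgroup.mem_subgroupOf, show (g : G) = (g : G) * q * q⁻¹ by group]
        refine mul_mem (Subgroup.mem_sup_right ?_) (Subgroup.mem_sup_left (inv_mem hq))
        have h1' : Commute ((g : G) * q) a := mul_inv_eq_iff_eq_mul.mp h1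
        have h2' : Commute ((g : G) * q) t := mul_inv_eq_iff_eq_mul.mp h2
        intro d hd
        obtain ⟨k, ζ, hζ, rfl | rfl⟩ := hgen d hd
        all_goals
          have h3 : Commute ((g : G) * q) ζ :=
            (hNZ (mul_mem g.2 (Subgroup.le_normalizer hq)) ζ hζ).symm
        · exact ((h1'.zpow_right k).mul_right h3).symm.eq
        · exact (((h1'.zpow_right k).mul_right h2').mul_right h3).symm.eq
      rcases hval a (by simpa using hroot_a 1 (by omega)) with ha1 | ha1 <;>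
        rcases hval t (by simpa using hroot_t 0) with hb1 | hb1
      · exact hkey 1 (one_mem _) (by simpa using ha1) (by simpa using hb1)
      · refine hkey a haX ?_ ?_
        · calc (g : G) * a * a * ((g : G) * a)⁻¹ = g * a * (g : G)⁻¹ := by group
            _ = a := ha1
        · calc (g : G) * a * t * ((g : G) * a)⁻¹ = g * (a * t * a⁻¹) * (g : G)⁻¹ := by group
            _ = (g * t * (g : G)⁻¹)⁻¹ := by rw [habb]; group
            _ = t := by rw [hb1, inv_inv]
      · refine hkey t htX ?_ ?_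
        · calc (g : G) * t * a * ((g : G) * t)⁻¹ = g * (t * a * t⁻¹) * (g : G)⁻¹ := by group
            _ = (g * a * (g : G)⁻¹)⁻¹ := by rw [hbab]; group
            _ = a := by rw [ha1, inv_inv]
        · calc (g : G) * t * t * ((g : G) * t)⁻¹ = g * t * (g : G)⁻¹ := by group
            _ = t := hb1
      · refine hkey (a * t) (mul_mem haX htX) ?_ ?_
        · calc (g : G) * (a * t) * a * ((g : G) * (a * t))⁻¹ =
              g * (a * (t * a * t⁻¹) * a⁻¹) * (g : G)⁻¹ := by group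
            _ = (g * a * (g : G)⁻¹)⁻¹ := by rw [hbab]; group
            _ = a := by rw [ha1, inv_inv]
        · calc (g : G) * (a * t) * t * ((g : G) * (a * t))⁻¹ = g * (a * t * a⁻¹) * (g : G)⁻¹ := by group
            _ = (g * t * (g : G)⁻¹)⁻¹ := by rw [habb]; group
            _ = t := by rw [hb1, inv_inv]
    · intro g hg
      obtain ⟨q, hq, hgq⟩ := hsup _ (Subgroup.mem_subgroupOf.mp hg)
      rw [MonoidHom.mem_ker]
      ext1 ⟨V, hV⟩
      refine Subtype.ext ?_
      simp only [conjPermSub_apply, Equiv.Perm.coe_one, id_eq]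
      obtain ⟨u, hu, rfl⟩ := hV
      rw [hmapz, hgq u hu.1, ← hmapz]
      exact hinner q hq _ ⟨u, hu, rfl⟩
  set σ : G := h.gE c 0 with hσ
  have hσN : σ ∈ N := by
    refine Subgroup.mem_normalizer_fintype fun w hw => ?_
    obtain ⟨v, hv, rfl⟩ := hw
    have h1 := h.map_conj_el_slope (e := 2 * f) (dvd_mul_left (hh n) 2) c 0
    rw [h.slope_congr _ (e := 2 * f + 2 * (c - 0)) (e' := 2 * f) ⟨-1, by rw [hc]; ring⟩] at h1
    exact ⟨_, h1.le (Subgroup.mem_map_of_mem _ hv), rfl⟩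
  have hσa : σ * a * σ⁻¹ = a := congrArg Subtype.val (h.conj_el c 0 c (-c))
  have hσt : σ * t * σ⁻¹ = a * t := by
    calc σ * t * σ⁻¹ = ((h.el (c + i - 0) (0 + j - c) * z : ↥(S : Subgroup G)) : G) :=
          congrArg Subtype.val (h.conj_el_z c 0 i j)
      _ = a ^ (1 : ℤ) * t := by rw [hpowt]; congr 4 <;> ring
      _ = a * t := by rw [zpow_one]
  have hPa : P (Subgroup.zpowers a) := ⟨a, by simpa using hroot_a 1 (by omega), rfl⟩
  have hPt : P (Subgroup.zpowers t) := ⟨t, by simpa using hroot_t 0, rfl⟩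
  obtain ⟨h26, h6⟩ := index_two_or_six hcard (conjPermSub N P hP) hker ⟨_, hPa⟩ ⟨σ, hσN⟩
    (Subtype.ext (by rw [conjPermSub_apply, hmapz, hσa])) (fun h1 => by
      have h2 := congrArg Subtype.val (DFunLike.congr_fun h1 ⟨_, hPt⟩)
      simp only [conjPermSub_apply, Equiv.Perm.coe_one, id_eq, hmapz, hσt] at h2
      exact hne_t h2.symm)
  refine ⟨h26, fun h6' => ?_, fun h2 g hg => ?_⟩
  · obtain ⟨g, hg⟩ := h6.mp h6'
    rcases hroot _ (hrootN g g.2 a (by simpa using hroot_a 1 (by omega))) with ⟨k, hk, hk2⟩ | ⟨k, hk⟩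
    · refine absurd (Subtype.ext ?_) hg
      rw [conjPermSub_apply, hmapz, hk]
      rcases hexh _ (hroot_a k hk2) with h1 | h1 | h1
      · exact h1
      · exact absurd (Subgroup.zpowers_le.mpr (hbase k) (h1 ▸ Subgroup.mem_zpowers t))
          (fun hm => hout 0 (by rwa [zpow_zero, one_mul]))
      · exact absurd (Subgroup.zpowers_le.mpr (hbase k) (h1 ▸ Subgroup.mem_zpowers (a * t)))
          (fun hm => hout 1 (by rwa [zpow_one]))
    · refine ⟨?_, c, i + k * c, j - k * c, hc, ?_, ?_⟩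
      · -- multiply by a central element to get involutions
        have hζ : h.gE c c ∈ h.gCenter := coe_mem_map.mpr (h.mem_center_el.mpr ⟨0, by ring⟩)
        have h1 : a * h.gE c c = h.gE (hh n) 0 := by
          rw [ha, ← Subgroup.coe_mul, ha', h.el_mul, hc]
          congr 2 <;> ring
        have h2 : (g : G) * h.gE (hh n) 0 * (g : G)⁻¹ =
            ((h.el (i + k * c + c) (j - k * c + c) * z : ↥(S : Subgroup G)) : G) := by
          rw [← h1, show (g : G) * (a * h.gE c c) * (g : G)⁻¹ =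
            (g : G) * a * (g : G)⁻¹ * ((g : G) * h.gE c c * (g : G)⁻¹) by group, hk,
            ← hNZ g.2 _ hζ, mul_inv_cancel_right, hpowt, ← Subgroup.coe_mul, h.el_z_mul_el]
        refine (isConj_iff.mpr ⟨(g : G), h2⟩).trans ?_
        have := h.isConj_outside (i := i + k * c + c) (j := j - k * c + c) (k := 0) (l := 0)
          ⟨1, by rw [hi, hj, hc]; ring⟩
        rwa [h.el_zero, one_mul] at this
      · exact ⟨0, by rw [hi, hj, hc]; ring⟩
      · exact isConj_iff.mpr ⟨(g : G), by rw [← hpowt]; exact hk⟩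
  · have hσ : σ ∉ X ⊔ Subgroup.centralizer (X : Set G) := by
      intro hm
      obtain ⟨q, hq, hq'⟩ := hsup σ hm
      have h1 := hinner q hq _ hPt
      rw [hmapz, ← hq' t htX, hσt] at h1
      exact hne_t h1.symm
    rcases cases_of_relIndex_two h2 hσN hσ hg with hm | hm
    · obtain ⟨q, hq, hq'⟩ := hsup g hm
      exact ⟨q, hXS hq, hq'⟩
    · obtain ⟨q, hq, hq'⟩ := hsup _ hm
      refine ⟨σ * q, mul_mem (h.el c 0).2 (hXS hq), fun d hd => ?_⟩
      rw [show σ * q * d * (σ * q)⁻¹ = σ * (q * d * q⁻¹) * σ⁻¹ by group, ← hq' d hd]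
      group

end Cfsg.Agent.Invol.WR
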