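import Mathlib
import Cfsg.Prelude.Def_Transfer
import Cfsg.Agent.Lib.Invol.WreathedAutomizer
import Cfsg.Agent.Lib.Invol.TransferKernel
import Cfsg.Agent.Lib.Invol.SylowTrace

/-!
# The fusion cases for wreathed Sylow 2-subgroups
-/

namespace Cfsg.Agent.Invol.WR

variable {G : Type*} [Group G] [Finite G] {S : Sylow 2 G} {n : ℕ} {x y z : ↥(S : Subgroup G)}

theorem card_two_one (h : WR _ n x y z) (hU : IsConj (h.gE (hh n) 0) (h.gE (hh n) (hh n)))
    (hX : IsConj (h.gE (hh n) 0) (z : G)) :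
    Nat.card {C : ConjClasses G // ∃ t : G, orderOf t = 2 ∧ ConjClasses.mk t = C} = 1 := by
  change Nat.card ↥({C : ConjClasses G | ∃ t : G, orderOf t = 2 ∧ ConjClasses.mk t = C}) = 1
  rw [h.classes_two, ← ConjClasses.mk_eq_mk_iff_isConj.mpr hU,
    ← ConjClasses.mk_eq_mk_iff_isConj.mpr hX, Nat.card_coe_set_eq]
  simp

theorem card_two_two_base (h : WR _ n x y z) (hU : IsConj (h.gE (hh n) 0) (h.gE (hh n) (hh n)))
    (hX : ¬ IsConj (h.gE (hh n) 0) (z : G)) :
    Nat.card {C : ConjClasses G // ∃ t : G, orderOf t = 2 ∧ ConjClasses.mk t = C} = 2 := by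
  change Nat.card ↥({C : ConjClasses G | ∃ t : G, orderOf t = 2 ∧ ConjClasses.mk t = C}) = 2
  rw [h.classes_two, ← ConjClasses.mk_eq_mk_iff_isConj.mpr hU, Nat.card_coe_set_eq, Set.insert_eq_of_mem
    (Set.mem_insert _ _), Set.ncard_pair]
  exact fun he => hX (ConjClasses.mk_eq_mk_iff_isConj.mp he)

theorem card_two_two_center (h : WR _ n x y z) (hX : IsConj (h.gE (hh n) 0) (z : G))
    (hU : ¬ IsConj (h.gE (hh n) (hh n)) (h.gE (hh n) 0)) :
    Nat.card {C : ConjClasses G // ∃ t : G, orderOf t = 2 ∧ ConjClasses.mk t = C} = 2 := by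
  change Nat.card ↥({C : ConjClasses G | ∃ t : G, orderOf t = 2 ∧ ConjClasses.mk t = C}) = 2
  rw [h.classes_two, ← ConjClasses.mk_eq_mk_iff_isConj.mpr hX, Nat.card_coe_set_eq, Set.pair_eq_singleton,
    Set.ncard_pair]
  exact fun he => hU (ConjClasses.mk_eq_mk_iff_isConj.mp he)

theorem card_two_three (h : WR _ n x y z) (h₁ : ¬ IsConj (h.gE (hh n) (hh n)) (h.gE (hh n) 0))
    (h₂ : ¬ IsConj (h.gE (hh n) (hh n)) (z : G)) (h₃ : ¬ IsConj (h.gE (hh n) 0) (z : G)) :
    Nat.card {C : ConjClasses G // ∃ t : G, orderOf t = 2 ∧ ConjClasses.mk t = C} = 3 := by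
  change Nat.card ↥({C : ConjClasses G | ∃ t : G, orderOf t = 2 ∧ ConjClasses.mk t = C}) = 3
  rw [h.classes_two, Nat.card_coe_set_eq, Set.ncard_insert_of_notMem, Set.ncard_pair]
  · exact fun he => h₃ (ConjClasses.mk_eq_mk_iff_isConj.mp he)
  · rintro (he | he)
    exacts [h₁ (ConjClasses.mk_eq_mk_iff_isConj.mp he), h₂ (ConjClasses.mk_eq_mk_iff_isConj.mp he)]

/-- The elements of the centre are isolated when the base group is no source of fusion. -/
theorem center_isolated (h : WR _ n x y z) {e : ℤ} (he : 2 ∣ e)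
    (hU : (Subgroup.centralizer (h.gBase : Set G)).relIndex (Subgroup.normalizer (h.gBase : Set G)) = 2)
    {ζ g : G} (hζ : ζ ∈ h.gCenter) (hg : g * ζ * g⁻¹ ∈ (S : Subgroup G)) : g * ζ * g⁻¹ = ζ := by
  classical
  let f : G → Option G := fun w => if w ∈ h.gCenter then some w else none
  have hcen : ∀ s ∈ (S : Subgroup G), ∀ w ∈ h.gCenter, s * w * s⁻¹ = w := by
    rintro s hs _ ⟨w, hw, rfl⟩
    have := congrArg Subtype.val (Subgroup.mem_center_iff.mp hw ⟨s, hs⟩)
    simp only [Subgroup.coe_mul] at this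
    rw [show (Subgroup.subtype (S : Subgroup G)) w = (w : G) from rfl, this, mul_inv_cancel_right]
  have hgen : ∀ s : G, (∀ w ∈ h.gCenter, s * w * s⁻¹ = w) → ∀ d : G, f (s * d * s⁻¹) = f d := by
    intro s hs d
    by_cases hd : d ∈ h.gCenter
    · rw [hs d hd]
    · have hd' : s * d * s⁻¹ ∉ h.gCenter := fun hm => hd (by
        have h1 := hs _ hm
        have h2 : s * d * s⁻¹ = d := (MulAut.conj s).injective (by simpa using h1)
        rwa [h2] at hm)
      simp only [f, if_neg hd, if_neg hd']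
  have hf : f (g * ζ * g⁻¹) = f ζ := h.invariant f (fun s hs d _ => hgen s (hcen s hs) d)
    (fun g hg d hd => by
      obtain ⟨s, hs, hsd⟩ := h.base_preserved hU hg
      rw [hsd d hd]; exact hgen s (hcen s hs) d)
    he (fun g hg d _ => hgen g (fun w hw => by
      rw [← h.normalizer_slope_centralizes he hg w hw, mul_inv_cancel_right]) d)
    (Subgroup.map_subtype_le _ hζ) hg
  simp only [f, if_pos hζ] at hf
  by_cases hm : g * ζ * g⁻¹ ∈ h.gCenter
  · rw [if_pos hm] at hf; exact Option.some.inj hf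
  · rw [if_neg hm] at hf; exact absurd hf (by simp)

theorem not_isConj_w (h : WR _ n x y z) {e : ℤ} (he : 2 ∣ e)
    (hU : (Subgroup.centralizer (h.gBase : Set G)).relIndex (Subgroup.normalizer (h.gBase : Set G)) = 2)
    {s : ↥(S : Subgroup G)} (hs : s ≠ h.el (hh n) (hh n)) :
    ¬ IsConj (h.gE (hh n) (hh n)) (s : G) := by
  intro hc
  obtain ⟨g, hg⟩ := isConj_iff.mp hc
  have h1 := h.center_isolated he hU h.w_mem_gCenter (g := g) (by rw [hg]; exact s.2)
  exact hs (Subtype.ext (hg.symm.trans h1))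

/-- The base group contains every conjugate of its elements when the slope subgroups are no source. -/
theorem base_invariant (h : WR _ n x y z) {e : ℤ} (he : 2 ∣ e)
    (hX : (h.gSlope e ⊔ Subgroup.centralizer (h.gSlope e : Set G)).relIndex
      (Subgroup.normalizer (h.gSlope e : Set G)) = 2)
    {s g : G} (hs : s ∈ (S : Subgroup G)) (hg : g * s * g⁻¹ ∈ (S : Subgroup G)) :
    (g * s * g⁻¹ ∈ h.gBase) = (s ∈ h.gBase) := by
  have hS : ∀ t ∈ (S : Subgroup G), ∀ d : G, (t * d * t⁻¹ ∈ h.gBase) = (d ∈ h.gBase) := fun t ht d =>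
    propext (Subgroup.mem_normalizer_iff.mp (h.sylow_le_normalizer_base ht) d).symm
  exact h.invariant (fun w => w ∈ h.gBase) (fun t ht d _ => hS t ht d)
    (fun t ht d _ => propext (Subgroup.mem_normalizer_iff.mp ht d).symm) he
    (fun t ht d hd => by
      obtain ⟨r, hr, hrd⟩ := (h.automizer_slope he).2.2 hX t ht
      rw [hrd d hd]; exact hS r hr d) hs hg

/-- In the case of no fusion at all, `G` has a normal 2-complement. -/
theorem fusion_trivial (h : WR _ n x y z) {e : ℤ} (he : 2 ∣ e)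
    (hU : (Subgroup.centralizer (h.gBase : Set G)).relIndex (Subgroup.normalizer (h.gBase : Set G)) = 2)
    (hX : (h.gSlope e ⊔ Subgroup.centralizer (h.gSlope e : Set G)).relIndex
      (Subgroup.normalizer (h.gSlope e : Set G)) = 2)
    {s g : G} (hs : s ∈ (S : Subgroup G)) (hg : g * s * g⁻¹ ∈ (S : Subgroup G)) :
    ∃ r ∈ (S : Subgroup G), r * s * r⁻¹ = g * s * g⁻¹ := by
  let f : G → Set G := fun w => {u | ∃ r ∈ (S : Subgroup G), r * w * r⁻¹ = u}
  have hS : ∀ t ∈ (S : Subgroup G), ∀ d : G, f (t * d * t⁻¹) = f d := by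
    intro t ht d
    ext u
    constructor
    · rintro ⟨r, hr, rfl⟩
      exact ⟨r * t, mul_mem hr ht, by group⟩
    · rintro ⟨r, hr, rfl⟩
      exact ⟨r * t⁻¹, mul_mem hr (inv_mem ht), by group⟩
  have hf : f (g * s * g⁻¹) = f s := h.invariant f (fun t ht d _ => hS t ht d)
    (fun t ht d hd => by
      obtain ⟨r, hr, hrd⟩ := h.base_preserved hU ht
      rw [hrd d hd]; exact hS r hr d) he
    (fun t ht d hd => by
      obtain ⟨r, hr, hrd⟩ := (h.automizer_slope he).2.2 hX t ht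
      rw [hrd d hd]; exact hS r hr d) hs hg
  have : g * s * g⁻¹ ∈ f (g * s * g⁻¹) := ⟨1, one_mem _, by group⟩
  rw [hf] at this
  exact this

/-- The quaternion coset is preserved when the base group is no source of fusion. -/
theorem quat_invariant (h : WR _ n x y z) {e : ℤ} (he : 2 ∣ e)
    (hU : (Subgroup.centralizer (h.gBase : Set G)).relIndex (Subgroup.normalizer (h.gBase : Set G)) = 2)
    (s t : ↥(S : Subgroup G)) (hst : IsConj (s : G) (t : G)) : t * s⁻¹ ∈ h.bigQuat := by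
  classical
  have hnQ := h.bigQuat_normal
  have hcom : ∀ a b : ↥(S : Subgroup G), a * b * a⁻¹ * b⁻¹ ∈ h.bigQuat := fun a b => by
    refine le_twoExt ?_
    rw [anti, ← h.commutator_eq, commutator_def]
    exact Subgroup.commutator_mem_commutator (Subgroup.mem_top _) (Subgroup.mem_top _)
  let F : G → Option (↥(S : Subgroup G) ⧸ h.bigQuat) := fun w =>
    if hw : w ∈ (S : Subgroup G) then some (QuotientGroup.mk ⟨w, hw⟩) else none
  have hF : ∀ a b : ↥(S : Subgroup G), b * a⁻¹ ∈ h.bigQuat → F (b : G) = F (a : G) := by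
    intro a b hab
    simp only [F, dif_pos a.2, dif_pos b.2, Option.some.injEq]
    refine (QuotientGroup.eq.mpr ?_)
    have := hnQ.conj_mem _ (inv_mem hab) b⁻¹
    simpa [mul_assoc] using this
  have hS : ∀ r : ↥(S : Subgroup G), ∀ d : ↥(S : Subgroup G),
      F ((r : G) * (d : G) * (r : G)⁻¹) = F (d : G) := fun r d =>
    hF d (r * d * r⁻¹) (hcom r d)
  obtain ⟨g, hg⟩ := isConj_iff.mp hst
  have hmem : g * (s : G) * g⁻¹ ∈ (S : Subgroup G) := hg ▸ t.2
  have hroot : ∀ (c f : ℤ), hh n = 2 * c → ∀ u, h.Root (2 * f) u →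
      ∃ q : ↥(S : Subgroup G), q ∈ h.bigQuat ∧ u = q := by
    intro c f hc u hu
    obtain ⟨k, ⟨rfl, -⟩ | rfl⟩ := h.root_cases hc f hu
    · exact ⟨_, le_twoExt (h.mem_anti.mpr ⟨0, by ring⟩), rfl⟩
    · refine ⟨_, .inr ?_, rfl⟩
      rw [mul_inv_rev, mul_assoc, ← mul_assoc z, mul_inv_cancel, one_mul, h.el_inv, h.el_mul, h.mem_anti]
      exact ⟨0, by rw [hc]; ring⟩
  have key := h.invariant F (fun r hr d hd => hS ⟨r, hr⟩ ⟨d, hd⟩)
    (fun r hr d hd => by
      obtain ⟨q, hq, hqd⟩ := h.base_preserved hU hr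
      rw [hqd d hd]
      exact hS ⟨q, hq⟩ ⟨d, Subgroup.map_subtype_le _ hd⟩) he
    (fun r hr d hd => by
      obtain ⟨c, hc⟩ := h.hh_even
      obtain ⟨f, rfl⟩ := he
      have hnz := h.normalizer_slope_centralizes (dvd_mul_right 2 f) hr
      obtain ⟨w, hw, rfl⟩ := hd
      -- write `w` as a root times a central element
      have hdec : ∃ (u : G) (ζ : G), h.Root (2 * f) u ∧ ζ ∈ h.gCenter ∧
          ((w : G) = ζ ∨ (w : G) = u * ζ) := by
        obtain ⟨p, q, ⟨rfl, v, hv⟩ | ⟨rfl, v, hv⟩⟩ := hw <;> rw [hc] at hv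
        · rcases Int.even_or_odd v with ⟨r, hr⟩ | ⟨r, hr⟩
          · refine ⟨((h.el (f + c) (c - f) * z : ↥(S : Subgroup G)) : G), _, ?_, coe_mem_map.mpr
              (h.mem_center_el.mpr ⟨r, ?_⟩), .inl rfl⟩
            · refine ⟨coe_mem_map.mpr ((h.el_z_mem_slope _).mpr ⟨0, by ring⟩), fun hm => ?_, ?_⟩
              · have := coe_mem_map.mp hm
                rw [h.center_eq] at this
                exact h.el_z_notMem _ _ ((Subgroup.zpowers_le.mpr (h.el_mem_base 1 1)) this)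
              · rw [← Subgroup.coe_mul, h.sq_el_z]
                exact congrArg Subtype.val (h.el_eq.mpr ⟨⟨0, by rw [hc]; ring⟩, ⟨0, by rw [hc]; ring⟩⟩)
            · rw [hc]; subst hr; linarith
          · refine ⟨h.gE (v * c) (v * -c), h.gE (p - v * c) (p - v * c), ?_,
              coe_mem_map.mpr (h.mem_center_el.mpr ⟨0, by ring⟩), .inr ?_⟩
            · refine ⟨coe_mem_map.mpr ((h.el_mem_slope _).mpr ⟨v, by rw [hc]; ring⟩), fun hm => ?_, ?_⟩
              · obtain ⟨r', hr'⟩ := h.mem_center_el.mp (coe_mem_map.mp hm)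
                rw [hc] at hr'
                have : c * (2 * v - 4 * r') = 0 := by linarith
                rcases mul_eq_zero.mp this with h0 | h0
                · exact h.hh_pos.ne' (by rw [hc, h0, mul_zero])
                · omega
              · rw [← Subgroup.coe_mul, h.el_mul]
                exact congrArg Subtype.val (h.el_eq.mpr ⟨⟨r, by rw [hc, hr]; ring⟩, ⟨-r - 1, by rw [hc, hr]; ring⟩⟩)
            · rw [← Subgroup.coe_mul, h.el_mul]
              exact congrArg Subtype.val (h.el_eq.mpr ⟨⟨0, by ring⟩, ⟨0, by linarith⟩⟩)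
        · refine ⟨((h.el (f + c + v * c) (c - f - v * c) * z : ↥(S : Subgroup G)) : G),
            h.gE (p - f - c - v * c) (p - f - c - v * c), ?_,
            coe_mem_map.mpr (h.mem_center_el.mpr ⟨0, by ring⟩), .inr ?_⟩
          · refine ⟨coe_mem_map.mpr ((h.el_z_mem_slope _).mpr ⟨v, by rw [hc]; ring⟩), fun hm => ?_, ?_⟩
            · have := coe_mem_map.mp hm
              rw [h.center_eq] at this
              exact h.el_z_notMem _ _ ((Subgroup.zpowers_le.mpr (h.el_mem_base 1 1)) this)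
            · rw [← Subgroup.coe_mul, h.sq_el_z]
              exact congrArg Subtype.val (h.el_eq.mpr ⟨⟨0, by rw [hc]; ring⟩, ⟨0, by rw [hc]; ring⟩⟩)
          · rw [← Subgroup.coe_mul, h.el_z_mul_el]
            have h5 : h.el p q * z = h.el (f + c + v * c + (p - f - c - v * c))
                (c - f - v * c + (p - f - c - v * c)) * z := by
              rw [mul_left_inj, h.el_eq]
              exact ⟨⟨0, by ring⟩, ⟨0, by linarith⟩⟩
            exact congrArg Subtype.val h5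
      obtain ⟨u, ζ, hu, hζ, hwd | hwd⟩ := hdec
      · rw [show (Subgroup.subtype (S : Subgroup G)) w = (w : G) from rfl, hwd, ← hnz ζ hζ,
          mul_inv_cancel_right]
      · have hu' : h.Root (2 * f) (r * u * r⁻¹) := by
          refine ⟨(Subgroup.mem_normalizer_iff.mp hr u).mp hu.1, fun hm => hu.2.1 ?_, ?_⟩
          · have h1 := hnz _ hm
            have : u = r * u * r⁻¹ := by
              calc u = r⁻¹ * (r * u * r⁻¹ * r) := by group
                _ = r⁻¹ * (r * (r * u * r⁻¹)) := by rw [h1]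
                _ = r * u * r⁻¹ := by group
            rwa [← this] at hm
          · rw [show r * u * r⁻¹ * (r * u * r⁻¹) = r * (u * u) * r⁻¹ by group, hu.2.2,
              ← hnz _ h.w_mem_gCenter, mul_inv_cancel_right]
        obtain ⟨q₁, hq₁, hu₁⟩ := hroot c f hc u hu
        obtain ⟨q₂, hq₂, hu₂⟩ := hroot c f hc _ hu'
        obtain ⟨ζ', hζ', rfl⟩ := hζ
        rw [show (Subgroup.subtype (S : Subgroup G)) w = (w : G) from rfl, hwd,
          show r * (u * (Subgroup.subtype (S : Subgroup G)) ζ') * r⁻¹ =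
            r * u * r⁻¹ * (r * (Subgroup.subtype (S : Subgroup G)) ζ' * r⁻¹) by group,
          ← hnz _ ⟨ζ', hζ', rfl⟩, mul_inv_cancel_right, hu₂, hu₁]
        exact hF (q₁ * ζ') (q₂ * ζ') (by
          rw [mul_inv_rev, mul_assoc, ← mul_assoc ζ', mul_inv_cancel, one_mul]
          exact mul_mem hq₂ (inv_mem hq₁))
    ) s.2 hmem
  rw [hg] at key
  simp only [F, dif_pos t.2, dif_pos s.2, Option.some.injEq] at key
  have := QuotientGroup.eq.mp key
  have h2 := inv_mem (hnQ.conj_mem _ this t)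
  simpa [mul_assoc] using h2

theorem no_index_two_base (h : WR _ n x y z) {g : G}
    (hgN : g ∈ Subgroup.normalizer (h.gBase : Set G))
    (hg : g * h.gE (hh n) 0 * g⁻¹ = h.gE (hh n) (hh n)) :
    ∃ p q : ℤ, ¬ 2 ∣ p ∧ ¬ 2 ∣ q ∧ g * h.gE 1 0 * g⁻¹ = h.gE p q := by
  obtain ⟨_, ⟨p, q, rfl⟩, hb⟩ := (Subgroup.mem_normalizer_iff.mp hgN _).mp
    (coe_mem_map.mpr (h.el_mem_base 1 0))
  refine ⟨p, q, ?_⟩
  have hb' : g * h.gE 1 0 * g⁻¹ = h.gE p q := hb.symm
  have h1 : h.gE (hh n * p) (hh n * q) = h.gE (hh n) (hh n) := by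
    have h2 : ∀ a b k : ℤ, h.gE a b ^ k = h.gE (k * a) (k * b) := fun a b k => by
      rw [← Subgroup.coe_zpow, h.el_zpow]
    have h3 := congrArg (fun u => u ^ hh n) hb'
    simp only [conj_zpow, h2, mul_one, mul_zero] at h3
    rw [← h3, hg]
  obtain ⟨⟨c, hc⟩, ⟨d, hd⟩⟩ := h.el_eq.mp (Subtype.ext h1)
  refine ⟨?_, ?_, hb'⟩ <;> rintro ⟨r, rfl⟩
  · have : hh n * (2 * r - 1 - 2 * c) = 0 := by linarith
    rcases mul_eq_zero.mp this with h0 | h0
    · exact h.hh_pos.ne' h0
    · omega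
  · have : hh n * (2 * r - 1 - 2 * d) = 0 := by linarith
    rcases mul_eq_zero.mp this with h0 | h0
    · exact h.hh_pos.ne' h0
    · omega

theorem kernel_base_no_index_two (h : WR _ n x y z) {K : Subgroup G} [K.Normal] (hK : K.index = 2)
    (hKS : K.subgroupOf (S : Subgroup G) = h.base) {g : G}
    (hgN : g ∈ Subgroup.normalizer (h.gBase : Set G))
    (hg : g * h.gE (hh n) 0 * g⁻¹ = h.gE (hh n) (hh n)) :
    ∀ H : Subgroup ↥K, H.index ≠ 2 := by
  obtain ⟨p, q, hp, hq, hc⟩ := h.no_index_two_base hgN hg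
  refine no_index_two_pow (S := S) (a := 1) (by rw [hK]; rfl) _ _ g hc ?_
  rintro J hJ - ⟨s, hs, hsJ⟩ w ⟨hwK, hwS⟩
  set J' := J.subgroupOf (S : Subgroup G) with hJ'
  have hJn : J'.Normal := hJ.subgroupOf _
  have hxy : ∀ a b : ℤ, ¬ 2 ∣ a + b → h.el a b ∈ J' → h.base ≤ J' := by
    intro a b hab hm
    have hswap : h.el b a ∈ J' := by
      have := hJn.conj_mem _ hm z
      rwa [h.z_conj_el] at this
    have hD : ¬ 2 ∣ a * a - b * b := by
      intro hd
      rw [show a * a - b * b = (a + b) * (a - b) by ring] at hd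
      rcases Int.prime_two.dvd_mul.mp hd with hd | hd <;> omega
    obtain ⟨u, v, huv⟩ : IsCoprime (a * a - b * b) (2 * hh n) := by
      have hd : 2 * hh n = (2 : ℤ) ^ n := by rw [← h.orderOf_cast, h.ox]; push_cast; rfl
      rw [hd]
      obtain ⟨d, hd⟩ : ∃ d, a * a - b * b = 2 * d + 1 := ⟨(a * a - b * b) / 2, by
        generalize a * a - b * b = m at hD ⊢; omega⟩
      rw [hd]
      exact IsCoprime.pow_right ⟨1, -d, by ring⟩
    have hx : h.el 1 0 ∈ J' := by
      have h1 := mul_mem (zpow_mem hm (u * a)) (zpow_mem hswap (-(u * b)))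
      rw [h.el_zpow, h.el_zpow, h.el_mul] at h1
      convert h1 using 1
      rw [h.el_eq]
      exact ⟨⟨v, by linarith⟩, ⟨0, by ring⟩⟩
    rintro _ ⟨c, d, rfl⟩
    have hy : h.el 0 1 ∈ J' := by
      have := hJn.conj_mem _ hx z
      rwa [h.z_conj_el] at this
    have h2 := mul_mem (zpow_mem hx c) (zpow_mem hy d)
    rw [h.el_zpow, h.el_zpow, h.el_mul] at h2
    convert h2 using 1
    congr 1 <;> ring
  have hle : h.base ≤ J' := by
    have h1 : h.el p q * ((⟨s, hs⟩ : ↥(S : Subgroup G)) * h.el 1 0 * (⟨s, hs⟩ : ↥(S : Subgroup G))⁻¹)⁻¹ ∈ J' := hsJ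
    obtain ⟨a, b, hab | hab⟩ := h.cases' (⟨s, hs⟩ : ↥(S : Subgroup G))
    · rw [hab, h.conj_el, h.el_inv, h.el_mul] at h1
      exact hxy _ _ (by omega) h1
    · rw [hab, show h.el a b * z * h.el 1 0 * (h.el a b * z)⁻¹ =
        h.el a b * (z * h.el 1 0 * z⁻¹) * (h.el a b)⁻¹ by group, h.z_conj_el, h.conj_el, h.el_inv, h.el_mul] at h1
      exact hxy _ _ (by omega) h1
  have hw : (⟨w, hwS⟩ : ↥(S : Subgroup G)) ∈ h.base := hKS ▸ hwK
  exact hle hw

theorem kernel_quat_no_index_two (h : WR _ n x y z) {K : Subgroup G} [K.Normal] {a : ℕ}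
    (hK : K.index = 2 ^ a) (hKS : K.subgroupOf (S : Subgroup G) = h.bigQuat) {c i j : ℤ}
    (hij : 2 * hh n ∣ i + j - hh n) (hcz : IsConj (h.gE c (-c)) ((h.el i j * z : ↥(S : Subgroup G)) : G)) :
    ∀ H : Subgroup ↥K, H.index ≠ 2 := by
  obtain ⟨g, hg⟩ := isConj_iff.mp hcz
  refine no_index_two_pow (S := S) hK _ _ g hg ?_
  rintro J hJ - ⟨s, hs, hsJ⟩ w ⟨hwK, hwS⟩
  set J' := J.subgroupOf (S : Subgroup G) with hJ'
  have hJn : J'.Normal := hJ.subgroupOf _
  have hxy : ∀ p q : ℤ, 2 * hh n ∣ p + q - hh n → h.el p q * z ∈ J' → h.bigQuat ≤ J' := by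
    intro p q hpq hm
    have hanti : ∀ d : ℤ, h.el d (-d) ∈ J' := fun d => by
      have h1 := mul_mem (hJn.conj_mem _ hm (h.el d 0)) (inv_mem hm)
      rwa [h.conj_el_z, mul_inv_rev, mul_assoc, ← mul_assoc z, mul_inv_cancel, one_mul, h.el_inv, h.el_mul,
        show d + p - 0 + -p = d by ring, show 0 + q - d + -q = -d by ring] at h1
    have ha : h.anti ≤ J' := Subgroup.zpowers_le.mpr (hanti 1)
    rintro t (ht | ht)
    · exact ha ht
    · obtain ⟨v, hv⟩ := hpq
      have h2 := mul_mem (mul_mem (ha ht) (ha ((h.mem_anti (i := hh n - p) (j := -q)).mpr ⟨-v, by linarith⟩))) hm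
      convert h2 using 1
      rw [mul_assoc, mul_assoc, ← mul_assoc (h.el (hh n - p) (-q)), h.el_mul, sub_add_cancel, neg_add_cancel,
        inv_mul_cancel, mul_one]
  have hle : h.bigQuat ≤ J' := by
    have h1 : h.el i j * z * ((⟨s, hs⟩ : ↥(S : Subgroup G)) * h.el c (-c) * (⟨s, hs⟩ : ↥(S : Subgroup G))⁻¹)⁻¹ ∈ J' := hsJ
    obtain ⟨a, b, hab | hab⟩ := h.cases' (⟨s, hs⟩ : ↥(S : Subgroup G))
    · rw [hab, h.conj_el, h.el_inv, h.el_z_mul_el] at h1
      exact hxy _ _ (by rw [show i + - -c + (j + -c) - hh n = i + j - hh n by ring]; exact hij) h1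
    · rw [hab, show h.el a b * z * h.el c (-c) * (h.el a b * z)⁻¹ =
        h.el a b * (z * h.el c (-c) * z⁻¹) * (h.el a b)⁻¹ by group, h.z_conj_el, h.conj_el, h.el_inv,
        h.el_z_mul_el] at h1
      exact hxy _ _ (by rw [show i + -c + (j + - -c) - hh n = i + j - hh n by ring]; exact hij) h1
  have hw : (⟨w, hwS⟩ : ↥(S : Subgroup G)) ∈ h.bigQuat := hKS ▸ hwK
  exact hle hw

/-- No subgroup of index 2 when both kinds of fusion occur. -/
theorem no_index_two_both (h : WR _ n x y z) {g : G}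
    (hgN : g ∈ Subgroup.normalizer (h.gBase : Set G))
    (hg : g * h.gE (hh n) 0 * g⁻¹ = h.gE (hh n) (hh n))
    (hX : IsConj (h.gE (hh n) 0) (z : G)) (H : Subgroup G) : H.index ≠ 2 := by
  intro hH
  have hHn := Subgroup.normal_of_index_eq_two hH
  obtain ⟨c, hc⟩ := h.hh_even
  have hsq : ∀ u : G, u * u ∈ H := fun u => by
    rw [← pow_two]; exact Subgroup.sq_mem_of_index_two hH u
  have ha0 : h.gE (hh n) 0 ∈ H := by
    have h1 := hsq (h.gE c 0)
    rwa [← Subgroup.coe_mul, h.el_mul, ← two_mul, ← hc, add_zero] at h1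
  have hz : (z : G) ∈ H := by
    obtain ⟨d, hd⟩ := isConj_iff.mp hX
    exact hd ▸ hHn.conj_mem _ ha0 d
  have hanti : h.gE (-1) 1 ∈ H := by
    have h1 := mul_mem hz (hHn.conj_mem _ (inv_mem hz) (h.gE 1 0))
    rw [← Subgroup.coe_inv, ← Subgroup.coe_inv, ← Subgroup.coe_mul, ← Subgroup.coe_mul, ← Subgroup.coe_mul,
      show z * (h.el 1 0 * z⁻¹ * (h.el 1 0)⁻¹) = z * h.el 1 0 * z⁻¹ * (h.el 1 0)⁻¹ by group,
      h.z_conj_el, h.el_inv, h.el_mul] at h1
    norm_num at h1
    exact h1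
  obtain ⟨p, q, hp, hq, hpq⟩ := h.no_index_two_base hgN hg
  have hv : h.gE p q ∈ H := by
    obtain ⟨r, hr⟩ : ∃ r, p + q = 2 * r := ⟨(p + q) / 2, by omega⟩
    have h1 := mul_mem (hsq (h.gE r 0)) (zpow_mem hanti q)
    rw [← Subgroup.coe_mul, ← Subgroup.coe_zpow, ← Subgroup.coe_mul, h.el_mul, h.el_zpow, h.el_mul] at h1
    convert h1 using 3 <;> linarith
  have hxH : h.gE 1 0 ∈ H := by
    have h1 := hHn.conj_mem _ (hpq ▸ hv : g * h.gE 1 0 * g⁻¹ ∈ H) g⁻¹
    simpa [mul_assoc] using h1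
  have hyH : h.gE 0 1 ∈ H := by
    have h1 := mul_mem hanti hxH
    rw [← Subgroup.coe_mul, h.el_mul] at h1
    norm_num at h1
    exact h1
  have hle : (S : Subgroup G) ≤ H := by
    intro s hs
    have hbase : ∀ a b : ℤ, h.gE a b ∈ H := fun a b => by
      have h1 := mul_mem (zpow_mem hxH a) (zpow_mem hyH b)
      rw [← Subgroup.coe_zpow, ← Subgroup.coe_zpow, ← Subgroup.coe_mul, h.el_zpow, h.el_zpow, h.el_mul] at h1
      convert h1 using 3 <;> ring
    obtain ⟨a, b, hab | hab⟩ := h.cases' (⟨s, hs⟩ : ↥(S : Subgroup G))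
    · rw [show s = h.gE a b from congrArg Subtype.val hab]
      exact hbase a b
    · rw [show s = h.gE a b * (z : G) from congrArg Subtype.val hab]
      exact mul_mem (hbase a b) hz
  have hd := Subgroup.index_dvd_of_le hle
  rw [hH] at hd
  exact S.not_dvd_index hd

theorem exists_kernel_base (h : WR _ n x y z) {e : ℤ} (he : 2 ∣ e)
    (hX : (h.gSlope e ⊔ Subgroup.centralizer (h.gSlope e : Set G)).relIndex
      (Subgroup.normalizer (h.gSlope e : Set G)) = 2) :
    ∃ K : Subgroup G, K.Normal ∧ K.index = 2 ∧ K.subgroupOf (S : Subgroup G) = h.base := by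
  have := Subgroup.normal_of_index_eq_two h.index_base
  have hp : Nat.card (↥(S : Subgroup G) ⧸ h.base) = 2 := by rw [← Subgroup.index_eq_card, h.index_base]
  have : IsCyclic (↥(S : Subgroup G) ⧸ h.base) := isCyclic_of_prime_card (p := 2) hp
  let _ : CommGroup (↥(S : Subgroup G) ⧸ h.base) := IsCyclic.commGroup
  obtain ⟨K, hK, hK2, hKS⟩ := exists_normal_of_invariant S (QuotientGroup.mk' h.base)
    (QuotientGroup.mk'_surjective _) (fun s t hst => by
      obtain ⟨g, hg⟩ := isConj_iff.mp hst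
      have h1 := h.base_invariant he hX s.2 (g := g) (hg ▸ t.2)
      rw [hg, eq_iff_iff] at h1
      rw [QuotientGroup.mk'_apply, QuotientGroup.mk'_apply, QuotientGroup.eq]
      refine (Subgroup.mul_mem_iff_of_index_two h.index_base).2 ?_
      rw [Subgroup.inv_mem_iff, ← coe_mem_map (V := h.base) (s := s), ← coe_mem_map (V := h.base) (s := t)]
      exact h1.symm)
  exact ⟨K, hK, hK2.trans hp, hKS.trans (QuotientGroup.ker_mk' _)⟩

theorem exists_kernel_quat (h : WR _ n x y z) {e : ℤ} (he : 2 ∣ e)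
    (hU : (Subgroup.centralizer (h.gBase : Set G)).relIndex (Subgroup.normalizer (h.gBase : Set G)) = 2) :
    ∃ K : Subgroup G, K.Normal ∧ K.index = 2 ^ n ∧ K.subgroupOf (S : Subgroup G) = h.bigQuat ∧
      h.bigQuat.index = K.index := by
  have hnQ := h.bigQuat_normal
  have hidx : h.bigQuat.index = 2 ^ n := by
    have h1 := h.bigQuat.card_mul_index
    rw [h.card_bigQuat, h.card, show 2 * n + 1 = n + 1 + n by omega, pow_add 2 (n + 1) n] at h1
    exact Nat.eq_of_mul_eq_mul_left (by positivity) h1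
  let _ : CommGroup (↥(S : Subgroup G) ⧸ h.bigQuat) :=
    { (inferInstance : Group (↥(S : Subgroup G) ⧸ h.bigQuat)) with
      mul_comm := by
        intro a b
        obtain ⟨a, rfl⟩ := QuotientGroup.mk_surjective a
        obtain ⟨b, rfl⟩ := QuotientGroup.mk_surjective b
        rw [← QuotientGroup.mk_mul, ← QuotientGroup.mk_mul, QuotientGroup.eq]
        refine le_twoExt ?_
        rw [anti, ← h.commutator_eq, commutator_def,
          show (a * b)⁻¹ * (b * a) = b⁻¹ * a⁻¹ * b⁻¹⁻¹ * a⁻¹⁻¹ by group]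
        exact Subgroup.commutator_mem_commutator (Subgroup.mem_top _) (Subgroup.mem_top _) }
  obtain ⟨K, hK, hK2, hKS⟩ := exists_normal_of_invariant S (QuotientGroup.mk' h.bigQuat)
    (QuotientGroup.mk'_surjective _) (fun s t hst => by
      rw [QuotientGroup.mk'_apply, QuotientGroup.mk'_apply, QuotientGroup.eq]
      have := hnQ.conj_mem _ (h.quat_invariant he hU s t hst) s⁻¹
      simpa [mul_assoc] using this)
  rw [← Subgroup.index_eq_card, hidx] at hK2
  exact ⟨K, hK, hK2, hKS.trans (QuotientGroup.ker_mk' _), hidx.trans hK2.symm⟩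

theorem weaklyClosed_center (h : WR _ n x y z) {e : ℤ} (he : 2 ∣ e)
    (hU : (Subgroup.centralizer (h.gBase : Set G)).relIndex (Subgroup.normalizer (h.gBase : Set G)) = 2)
    {Z₀ : Subgroup G} (hZ : Z₀ ≤ h.gCenter) : Cfsg.IsWeaklyClosed Z₀ (S : Subgroup G) := by
  refine ⟨hZ.trans (Subgroup.map_subtype_le _), fun g hg => ?_⟩
  refine Subgroup.eq_of_le_of_card_ge ?_
    (Subgroup.card_map_of_injective (MulAut.conj g).injective).ge
  rintro _ ⟨w, hw, rfl⟩
  have h1 := h.center_isolated he hU (hZ hw) (g := g) (hg ⟨w, hw, rfl⟩)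
  show g * w * g⁻¹ ∈ Z₀
  rw [h1]
  exact hw

end Cfsg.Agent.Invol.WR
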