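import Mathlib
import Cfsg.Prelude.Def_Transfer
import Cfsg.Agent.Lib.Invol.WreathedCases
import Cfsg.Agent.Lib.Invol.QuasiDihedralKernel

/-!
# Centralizers of involutions with quasi-dihedral or wreathed Sylow 2-subgroups
-/

namespace Cfsg.Agent.Invol

theorem exists_index_two_of_two_pow {G : Type*} [Group G] [Finite G] {K : Subgroup G} [K.Normal]
    {n : ℕ} (hn : 1 ≤ n) (hK : K.index = 2 ^ n) : ∃ H : Subgroup G, H.index = 2 := by
  have hc : Nat.card (G ⧸ K) = 2 ^ n := by rw [← Subgroup.index_eq_card, hK]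
  obtain ⟨M, hM⟩ := Sylow.exists_subgroup_card_pow_prime 2 (n := n - 1)
    (show 2 ^ (n - 1) ∣ Nat.card (G ⧸ K) by rw [hc]; exact pow_dvd_pow 2 (Nat.sub_le n 1))
  refine ⟨M.comap (QuotientGroup.mk' K), ?_⟩
  rw [Subgroup.index_comap_of_surjective M (QuotientGroup.mk'_surjective K)]
  have h := M.card_mul_index
  rw [hM, hc, show 2 ^ n = 2 ^ (n - 1) * 2 by rw [← pow_succ]; congr 1; omega] at h
  exact Nat.eq_of_mul_eq_mul_left (by positivity) h

section map

variable {S T : Type*} [Group S] [Group T] {n : ℕ} {x y z : S}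

theorem QD.map (h : QD S n x y) (f : S ≃* T) : QD T n (f x) (f y) where
  hn := h.hn
  card := (Nat.card_congr f.toEquiv).symm.trans h.card
  ox := (f.orderOf_eq x).trans h.ox
  oy := (f.orderOf_eq y).trans h.oy
  conj := by rw [← map_inv, ← map_mul, ← map_mul, h.conj, map_pow]

theorem WR.map (h : WR S n x y z) (f : S ≃* T) : WR T n (f x) (f y) (f z) where
  hn := h.hn
  card := (Nat.card_congr f.toEquiv).symm.trans h.card
  ox := (f.orderOf_eq x).trans h.ox
  comm := by rw [← map_mul, ← map_mul, h.comm]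
  disj := by
    rw [← MulEquiv.coe_toMonoidHom, ← MonoidHom.map_zpowers, ← MonoidHom.map_zpowers,
      ← Subgroup.map_inf _ _ _ f.injective, h.disj, Subgroup.map_bot]
  oz := (f.orderOf_eq z).trans h.oz
  conj := by rw [← map_inv, ← map_mul, ← map_mul, h.conj]

theorem WR.map_el (h : WR S n x y z) (f : S ≃* T) (i j : ℤ) : (h.map f).el i j = f (h.el i j) := by
  simp [WR.el, map_mul, map_zpow]

end map

variable {G : Type*} [Group G] [Finite G] {S : Sylow 2 G} {n : ℕ}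

/-- The Sylow subgroup as a Sylow subgroup of an overgroup. -/
noncomputable def sylowIncl {C : Subgroup G} (hSC : (S : Subgroup G) ≤ C) :
    ↥(S : Subgroup G) ≃* ↥((S.subtype hSC : Sylow 2 C) : Subgroup C) :=
  ((MulEquiv.subgroupCongr (S.coe_subtype (h := hSC))).trans (Subgroup.subgroupOfEquivOfLe hSC)).symm

omit [Finite G] in
theorem coe_sylowIncl {C : Subgroup G} (hSC : (S : Subgroup G) ≤ C) (s : ↥(S : Subgroup G)) :
    (((sylowIncl hSC s : ↥((S.subtype hSC : Sylow 2 C) : Subgroup C)) : C) : G) = (s : G) := rfl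

omit [Finite G] in
theorem isConj_sylowIncl {u : G} (hSC : (S : Subgroup G) ≤ Subgroup.centralizer {u})
    {s t : ↥(S : Subgroup G)} (hs : (s : G) * s = u) (ht : (t : G) * t = u)
    (hst : IsConj (s : G) (t : G)) :
    IsConj (((sylowIncl hSC s : _) : ↥(Subgroup.centralizer ({u} : Set G))))
      ((sylowIncl hSC t : _) : ↥(Subgroup.centralizer ({u} : Set G))) := by
  obtain ⟨g, hg⟩ := isConj_iff.mp hst
  have hu : g * u * g⁻¹ = u := by
    calc g * u * g⁻¹ = (g * s * g⁻¹) * (g * s * g⁻¹) := by rw [← hs]; group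
      _ = u := by rw [hg, ht]
  exact isConj_iff.mpr ⟨⟨g, Subgroup.mem_centralizer_singleton_iff.mpr (mul_inv_eq_iff_eq_mul.mp hu)⟩,
    Subtype.ext hg⟩

omit [Finite G] in
theorem not_isConj_centralizer {u : G} {C : Subgroup G} (hC : C ≤ Subgroup.centralizer {u})
    {a b : C} (ha : (a : G) ≠ u) (hb : (b : G) = u) : ¬ IsConj a b := fun h => by
  obtain ⟨c, hc⟩ := isConj_iff.mp h
  refine ha ?_
  have h1 : (c : G) * a * (c : G)⁻¹ = u := (congrArg Subtype.val hc).trans hb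
  have h2 := Subgroup.mem_centralizer_singleton_iff.mp (hC c.2)
  rw [mul_inv_eq_iff_eq_mul, ← h2] at h1
  exact mul_left_cancel h1

namespace QD

variable {x y : ↥(S : Subgroup G)}

theorem fus_of_no_index_two (h : QD _ n x y) (hG : ∀ H : Subgroup G, H.index ≠ 2) :
    FusT n x y ∧ FusQ n x y := by
  constructor
  · by_contra hf
    obtain ⟨K, -, hK, -⟩ := exists_kernel (h.coatom 1) (h.index_coatom 1)
      (fun s t => h.respects_coatom_one hf)
    exact hG K hK
  · by_contra hf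
    obtain ⟨K, -, hK, -⟩ := exists_kernel (h.coatom 0) (h.index_coatom 0)
      (fun s t => h.respects_coatom_zero hf)
    exact hG K hK

theorem all_conj (h : QD _ n x y) (hG : ∀ H : Subgroup G, H.index ≠ 2) {t : G} (ht : orderOf t = 2) :
    IsConj ((x ^ (2 * qq n) : ↥(S : Subgroup G)) : G) t := by
  have h1 : ConjClasses.mk t ∈ {C : ConjClasses G | ∃ t : G, orderOf t = 2 ∧ ConjClasses.mk t = C} :=
    ⟨t, ht, rfl⟩
  rw [h.classes_two] at h1
  rcases h1 with h1 | h1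
  · exact (ConjClasses.mk_eq_mk_iff_isConj.mp h1).symm
  · exact ((ConjClasses.mk_eq_mk_iff_isConj.mp h1).trans (h.fus_of_no_index_two hG).1).symm

theorem centralizer_structure (h : QD _ n x y) (hG : ∀ H : Subgroup G, H.index ≠ 2) {u : G}
    (hu : ((x ^ (2 * qq n) : ↥(S : Subgroup G)) : G) = u) :
    ∃ R : Sylow 2 ↥(Subgroup.centralizer ({u} : Set G)), Nat.card R = Nat.card S ∧
      (∃ K : Subgroup ↥(Subgroup.centralizer ({u} : Set G)), K.Normal ∧ (∃ a : ℕ, K.index = 2 ^ a) ∧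
        (∀ H : Subgroup ↥K, H.index ≠ 2) ∧ (∀ P : Sylow 2 ↥K, ∃ m : ℕ, 1 ≤ m ∧
          Nonempty ((P : Subgroup ↥K) ≃* QuaternionGroup (2 ^ m)))) ∧
      (∀ Z₀ : Subgroup ↥(Subgroup.centralizer ({u} : Set G)),
        Z₀ ≤ ((Subgroup.center (R : Subgroup ↥(Subgroup.centralizer ({u} : Set G)))).map
          (R : Subgroup ↥(Subgroup.centralizer ({u} : Set G))).subtype) →
          Cfsg.IsWeaklyClosed Z₀ (R : Subgroup ↥(Subgroup.centralizer ({u} : Set G)))) := by
  have hSC : (S : Subgroup G) ≤ Subgroup.centralizer {u} := fun s hs => by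
    rw [Subgroup.mem_centralizer_singleton_iff, ← hu]
    exact congrArg Subtype.val (h.z_central ⟨s, hs⟩)
  have hR := h.map (sylowIncl hSC)
  have hT : ¬ FusT n (sylowIncl hSC x) (sylowIncl hSC y) := by
    refine not_isConj_centralizer le_rfl ?_ ?_
    · rw [coe_sylowIncl, ← hu]
      exact fun he => h.zpow_mul_y_ne 0 (2 * qq n) (by rw [zpow_zero, one_mul]; exact Subtype.ext he)
    · rw [← map_zpow, coe_sylowIncl, hu]
  have hQ : FusQ n (sylowIncl hSC x) (sylowIncl hSC y) := by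
    unfold FusQ
    rw [← map_mul, ← map_zpow]
    refine isConj_sylowIncl hSC ?_ ?_ (h.fus_of_no_index_two hG).2
    · rw [← Subgroup.coe_mul, ← hu]
      have := h.sq_mul_y 1
      rw [zpow_one, one_mul] at this
      rw [this]
    · rw [← Subgroup.coe_mul, ← zpow_add, ← two_mul, hu]
  refine ⟨S.subtype hSC, (Nat.card_congr (sylowIncl hSC).toEquiv).symm, ?_, ?_⟩
  · obtain ⟨K, hK, hK2, hKS⟩ := exists_kernel (hR.coatom 1) (hR.index_coatom 1)
      (fun s t => hR.respects_coatom_one hT)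
    refine ⟨K, hK, ⟨1, by rw [hK2, pow_one]⟩, hR.no_index_two_quat hK2 hKS hQ, fun P => ?_⟩
    obtain ⟨e⟩ := sylow_of_subgroupOf hK2 P (hR.index_coatom 1) hKS
    obtain ⟨e'⟩ := hR.quaternion_coatom_one
    exact ⟨n - 2, by have := h.hn; omega, ⟨e.trans e'⟩⟩
  · intro Z₀ hZ
    refine ⟨hZ.trans (Subgroup.map_subtype_le _), fun g _ => ?_⟩
    have hfix : ∀ w ∈ Z₀, g * w * g⁻¹ = w := fun w hw => by
      obtain ⟨v, hv, rfl⟩ := hZ hw
      rw [center_eq hR] at hv
      obtain ⟨k, rfl⟩ := Subgroup.mem_zpowers_iff.mp hv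
      rw [← map_zpow, ← map_zpow (sylowIncl hSC), Subgroup.subtype_apply]
      refine Subtype.ext (mul_inv_eq_iff_eq_mul.mpr ?_)
      simp only [Subgroup.coe_mul, coe_sylowIncl, SubgroupClass.coe_zpow]
      rw [show (x : G) ^ (2 * qq n) = u by rw [← SubgroupClass.coe_zpow, hu]]
      exact (Commute.zpow_right (Subgroup.mem_centralizer_singleton_iff.mp g.2) k)
    ext w
    exact ⟨fun ⟨v, hv, he⟩ => he ▸ (show g * v * g⁻¹ ∈ Z₀ by rw [hfix v hv]; exact hv),
      fun hw => ⟨w, hw, hfix w hw⟩⟩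

end QD

namespace WR

variable {x y z : ↥(S : Subgroup G)}

theorem fus_of_no_index_two (h : WR _ n x y z) (hG : ∀ H : Subgroup G, H.index ≠ 2) :
    (∃ g : G, g * h.gE (hh n) 0 * g⁻¹ = h.gE (hh n) (hh n)) ∧ IsConj (h.gE (hh n) 0) (z : G) ∧
      ∃ c i j : ℤ, hh n = 2 * c ∧ 2 * hh n ∣ i + j - hh n ∧
        IsConj (h.gE c (-c)) ((h.el i j * z : ↥(S : Subgroup G)) : G) := by
  have he : (2 : ℤ) ∣ 0 := dvd_zero _
  have h2 := (h.automizer_slope he).1.resolve_left fun hX => by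
    obtain ⟨K, -, hK, -⟩ := h.exists_kernel_base he hX
    exact hG K hK
  have h1 := h.automizer_base.1.resolve_left fun hU => by
    obtain ⟨K, hKn, hK, -⟩ := h.exists_kernel_quat he hU
    obtain ⟨H, hH⟩ := exists_index_two_of_two_pow (by have := h.hn; omega) hK
    exact hG H hH
  obtain ⟨g, -, hg⟩ := h.automizer_base.2.1 h1
  exact ⟨⟨g, hg⟩, (h.automizer_slope he).2.1 h2⟩

theorem all_conj (h : WR _ n x y z) (hG : ∀ H : Subgroup G, H.index ≠ 2) {t : G} (ht : orderOf t = 2) :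
    IsConj (h.gE (hh n) (hh n)) t := by
  obtain ⟨hU, hX, -⟩ := h.fus_of_no_index_two hG
  have hU' : IsConj (h.gE (hh n) 0) (h.gE (hh n) (hh n)) := isConj_iff.mpr hU
  have h1 : ConjClasses.mk t ∈ {C : ConjClasses G | ∃ t : G, orderOf t = 2 ∧ ConjClasses.mk t = C} :=
    ⟨t, ht, rfl⟩
  rw [h.classes_two] at h1
  rcases h1 with h1 | h1 | h1 <;> have h1' := (ConjClasses.mk_eq_mk_iff_isConj.mp h1).symm
  · exact h1'
  · exact hU'.symm.trans h1'
  · exact (hU'.symm.trans hX).trans h1'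

theorem centralizer_structure (h : WR _ n x y z) (hG : ∀ H : Subgroup G, H.index ≠ 2) {u : G}
    (hu : h.gE (hh n) (hh n) = u) :
    ∃ R : Sylow 2 ↥(Subgroup.centralizer ({u} : Set G)), Nat.card R = Nat.card S ∧
      (∃ K : Subgroup ↥(Subgroup.centralizer ({u} : Set G)), K.Normal ∧ (∃ a : ℕ, K.index = 2 ^ a) ∧
        (∀ H : Subgroup ↥K, H.index ≠ 2) ∧ (∀ P : Sylow 2 ↥K, ∃ m : ℕ, 1 ≤ m ∧
          Nonempty ((P : Subgroup ↥K) ≃* QuaternionGroup (2 ^ m)))) ∧
      (∀ Z₀ : Subgroup ↥(Subgroup.centralizer ({u} : Set G)),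
        Z₀ ≤ ((Subgroup.center (R : Subgroup ↥(Subgroup.centralizer ({u} : Set G)))).map
          (R : Subgroup ↥(Subgroup.centralizer ({u} : Set G))).subtype) →
          Cfsg.IsWeaklyClosed Z₀ (R : Subgroup ↥(Subgroup.centralizer ({u} : Set G)))) := by
  have hSC : (S : Subgroup G) ≤ Subgroup.centralizer {u} := fun s hs => by
    rw [Subgroup.mem_centralizer_singleton_iff, ← hu]
    exact congrArg Subtype.val (Subgroup.mem_center_iff.mp
      (h.mem_center_el.mpr ⟨0, by ring⟩ : h.el (hh n) (hh n) ∈ _) ⟨s, hs⟩)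
  have hR := h.map (sylowIncl hSC)
  have he : (2 : ℤ) ∣ 0 := dvd_zero _
  have hU := hR.automizer_base.1.resolve_right fun h6 => by
    obtain ⟨g, -, hg⟩ := hR.automizer_base.2.1 h6
    refine not_isConj_centralizer le_rfl ?_ ?_ (isConj_iff.mpr ⟨g, hg⟩)
    · rw [gE, h.map_el, coe_sylowIncl, ← hu]
      intro heq
      have := h.el_eq.mp (Subtype.ext heq)
      obtain ⟨d, hd⟩ := this.2
      have := h.hh_pos
      rcases le_or_gt 0 d with hd0 | hd0 <;> nlinarith
    · rw [gE, h.map_el, coe_sylowIncl]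
      exact hu
  obtain ⟨-, -, c, i, j, hc, hij, hcz⟩ := h.fus_of_no_index_two hG
  have hcz' : IsConj (hR.gE c (-c)) ((hR.el i j * sylowIncl hSC z : _) : _) := by
    rw [gE, h.map_el, h.map_el, ← map_mul]
    refine isConj_sylowIncl hSC ?_ ?_ hcz
    · rw [← Subgroup.coe_mul, h.el_mul, ← hu]
      refine congrArg Subtype.val (h.el_eq.mpr ⟨⟨0, by linarith⟩, ⟨-1, by linarith⟩⟩)
    · rw [← Subgroup.coe_mul, h.el_z_mul, ← hu]
      obtain ⟨d, hd⟩ := hij
      refine congrArg Subtype.val (h.el_eq.mpr ⟨⟨d, by linarith⟩, ⟨d, by linarith⟩⟩)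
  obtain ⟨K, hKn, hKi, hKS, hbi⟩ := hR.exists_kernel_quat he hU
  refine ⟨S.subtype hSC, (Nat.card_congr (sylowIncl hSC).toEquiv).symm,
    ⟨K, hKn, ⟨n, hKi⟩, hR.kernel_quat_no_index_two hKi hKS hij hcz', fun P => ?_⟩,
    fun Z₀ hZ => hR.weaklyClosed_center he hU hZ⟩
  obtain ⟨f⟩ := sylow_equiv_trace (S.subtype hSC) P hbi hKS
  obtain ⟨f'⟩ := hR.bigQuat_equiv
  exact ⟨n - 1, by have := h.hn; omega, ⟨f.trans f'⟩⟩

end WR

end Cfsg.Agent.Invol
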