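import Mathlib
import Cfsg.Prelude
import Cfsg.Agent.Lib.Transfer.NormalComplement
import Cfsg.Agent.Lib.Transfer.Fusion
import Cfsg.Agent.Lib.Grp.Cores
import Cfsg.Agent.Lib.Grp.Coprime

/-!
Thompson transfer with a dihedral complement.
-/

set_option autoImplicit false

open scoped Classical

namespace Cfsg.Agent.Invol.TransferDihedral

open Subgroup

universe u

variable {G : Type u} [Group G] [Finite G]

/-- The sign of the action on the cosets. -/
noncomputable def cosetSign (M : Subgroup G) : G →* ℤˣ :=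
  letI : Fintype (G ⧸ M) := Fintype.ofFinite _
  Equiv.Perm.sign.comp (MulAction.toPermHom G (G ⧸ M))

/-- An element whose cycles on the cosets are long and odd in number gives a sign character. -/
theorem cosetSign_eq_neg_one (M : Subgroup G) {c : G} {j m : ℕ} (hj : orderOf c = 2 ^ (j + 1))
    (hidx : M.index = 2 ^ (j + 1) * m) (hm : Odd m)
    (hfix : ∀ g : G, g * c ^ 2 ^ j * g⁻¹ ∉ M) : cosetSign M c = -1 := by
  letI : Fintype (G ⧸ M) := Fintype.ofFinite _
  obtain ⟨σ, hσ⟩ : ∃ σ, σ = MulAction.toPermHom G (G ⧸ M) c := ⟨_, rfl⟩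
  show Equiv.Perm.sign (MulAction.toPermHom G (G ⧸ M) c) = -1
  rw [← hσ]
  have hmove : ∀ a : G ⧸ M, (σ ^ 2 ^ j) a ≠ a := by
    intro a
    induction a using QuotientGroup.induction_on with
    | _ g =>
      rw [hσ, ← map_pow, MulAction.toPermHom_apply, MulAction.toPerm_apply]
      intro e
      rw [MulAction.Quotient.smul_mk, smul_eq_mul, QuotientGroup.eq] at e
      have h := inv_mem e
      rw [mul_inv_rev, inv_inv, ← mul_assoc] at h
      exact hfix g⁻¹ (by simpa using h)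
  have hpow : σ ^ 2 ^ (j + 1) = 1 := by rw [hσ, ← map_pow, ← hj, pow_orderOf_eq_one, map_one]
  have hsupp : σ.support = Finset.univ := Finset.eq_univ_iff_forall.mpr fun a =>
    Equiv.Perm.mem_support.mpr fun e => hmove a (Equiv.Perm.pow_apply_eq_self_of_apply_eq_self e _)
  have hord : orderOf σ ∣ 2 ^ (j + 1) := orderOf_dvd_of_pow_eq_one hpow
  have hall : ∀ n ∈ σ.cycleType, n = 2 ^ (j + 1) := by
    intro n hn
    have hdvd : n ∣ 2 ^ (j + 1) := (Equiv.Perm.dvd_of_mem_cycleType hn).trans hord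
    obtain ⟨i, hi, e⟩ := (Nat.dvd_prime_pow Nat.prime_two).mp hdvd
    by_contra hne
    have hij : i ≤ j := by
      rcases hi.lt_or_eq with h | h
      · omega
      · exact absurd (h ▸ e) hne
    rw [Equiv.Perm.cycleType_def, Multiset.mem_map] at hn
    obtain ⟨τ, hτ, hτn⟩ := hn
    obtain ⟨hcyc, hτσ⟩ := Equiv.Perm.mem_cycleFactorsFinset_iff.mp hτ
    obtain ⟨a, ha⟩ : τ.support.Nonempty := by
      rw [Finset.nonempty_iff_ne_empty, Ne, Equiv.Perm.support_eq_empty_iff]
      exact hcyc.ne_one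
    have hcof : σ.cycleOf a = τ :=
      (Equiv.Perm.cycle_is_cycleOf ha hτ).symm
    refine hmove a ?_
    have h1 : τ ^ 2 ^ j = 1 := by
      apply orderOf_dvd_iff_pow_eq_one.mp
      rw [hcyc.orderOf, show τ.support.card = n from hτn, e]
      exact pow_dvd_pow 2 hij
    rw [← Equiv.Perm.cycleOf_pow_apply_self, hcof, h1, Equiv.Perm.one_apply]
  have hrep : σ.cycleType = Multiset.replicate (Multiset.card σ.cycleType) (2 ^ (j + 1)) :=
    Multiset.eq_replicate_card.mpr hall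
  have hsum : σ.cycleType.sum = 2 ^ (j + 1) * m := by
    rw [Equiv.Perm.sum_cycleType, hsupp, Finset.card_univ, ← Nat.card_eq_fintype_card, ← hidx]
    rfl
  have hcount : Multiset.card σ.cycleType = m := by
    rw [hrep, Multiset.sum_replicate, smul_eq_mul, mul_comm] at hsum
    exact Nat.eq_of_mul_eq_mul_left (pow_pos two_pos _) hsum
  rw [Equiv.Perm.sign_of_cycleType, hsum, hcount]
  refine Odd.neg_one_pow ?_
  exact (Nat.even_pow.mpr ⟨even_two, Nat.succ_ne_zero j⟩).mul_right m |>.add_odd hm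

omit [Finite G] in
theorem eq_one_of_odd (φ : G →* ℤˣ) {g : G} (hg : (orderOf g).Coprime 2) : φ g = 1 := by
  have h1 : φ g ^ 2 = 1 := Int.units_sq _
  have h2 : φ g ^ orderOf g = 1 := by rw [← map_pow, pow_orderOf_eq_one, map_one]
  simpa [hg.gcd_eq_one] using pow_gcd_eq_one.mpr ⟨h2, h1⟩

omit [Finite G] in
theorem pResidual_le_ker (φ : G →* ℤˣ) : Cfsg.pResidual 2 G ≤ φ.ker :=
  (closure_le _).mpr fun g hg => eq_one_of_odd φ hg

theorem card_product {T B M : Subgroup G} (hT : T ≤ M) (hB : B ≤ M) (hinf : B ⊓ T = ⊥)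
    (h : ∀ s ∈ M, ∃ t ∈ T, ∃ b ∈ B, s = t * b) : Nat.card M = Nat.card T * Nat.card B := by
  rw [← Nat.card_prod]
  refine (Nat.card_congr (Equiv.ofBijective
    (fun x : ↥T × ↥B => (⟨(x.1 : G) * x.2, mul_mem (hT x.1.2) (hB x.2.2)⟩ : ↥M)) ⟨?_, ?_⟩)).symm
  · rintro ⟨t, b⟩ ⟨t', b'⟩ e
    exact Subgroup.mul_injective_of_disjoint (disjoint_iff.mpr (inf_comm B T ▸ hinf))
      (congrArg Subtype.val e)
  · rintro ⟨s, hs⟩
    obtain ⟨t, ht, b, hb, e⟩ := h s hs
    exact ⟨(⟨t, ht⟩, ⟨b, hb⟩), Subtype.ext e.symm⟩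

theorem involution_of_not_mem {D C : Subgroup G} (hDih : ∃ n : ℕ, 2 ≤ n ∧ Nonempty (↥D ≃* DihedralGroup n))
    (hC : IsCyclic ↥C) (hCD : C ≤ D) (hCi : C.relIndex D = 2) :
    ∀ x ∈ D, x ∉ C → orderOf x = 2 := by
  obtain ⟨n, hn, ⟨e⟩⟩ := hDih
  haveI : NeZero n := ⟨by omega⟩
  have hcardD : Nat.card D = 2 * n := by rw [Nat.card_congr e.toEquiv, DihedralGroup.nat_card]
  have hcardC : Nat.card C = n := by
    have h := Nat.card_congr (subgroupOfEquivOfLe hCD).toEquiv
    have h2 := (C.subgroupOf D).card_mul_index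
    rw [h, show (C.subgroupOf D).index = 2 from hCi, hcardD] at h2
    omega
  intro x hx hxC
  have hx1 : x ≠ 1 := fun h => hxC (h ▸ one_mem C)
  refine orderOf_eq_prime ?_ hx1
  have key : (e ⟨x, hx⟩) ^ 2 = 1 := by
    rcases hex : e ⟨x, hx⟩ with k | k
    swap
    · rw [pow_two, DihedralGroup.sr_mul_self]
    rcases eq_or_lt_of_le hn with hn2 | hn3
    · subst hn2
      fin_cases k <;> decide
    · exfalso
      obtain ⟨⟨g, hg⟩, hgen⟩ := hC.exists_generator
      have hgord : orderOf g = n := by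
        rw [← hcardC, ← orderOf_eq_card_of_forall_mem_zpowers hgen, orderOf_mk]
      rcases heg : e ⟨g, hCD hg⟩ with i | i
      swap
      · have h := congrArg orderOf heg
        rw [DihedralGroup.orderOf_sr, MulEquiv.orderOf_eq, orderOf_mk, hgord] at h
        omega
      have hi : (DihedralGroup.r i : DihedralGroup n) ∈ zpowers (DihedralGroup.r (1 : ZMod n)) :=
        ⟨(i.val : ℤ), by simp⟩
      have hsub : zpowers (DihedralGroup.r i : DihedralGroup n) = zpowers (DihedralGroup.r 1) := by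
        refine eq_of_le_of_card_ge (zpowers_le.mpr hi) ?_
        rw [Nat.card_zpowers, Nat.card_zpowers, DihedralGroup.orderOf_r_one, ← heg, MulEquiv.orderOf_eq,
          orderOf_mk, hgord]
      have hk : (DihedralGroup.r k : DihedralGroup n) ∈ zpowers (DihedralGroup.r i) := by
        rw [hsub]; exact ⟨(k.val : ℤ), by simp⟩
      obtain ⟨z, hz⟩ := mem_zpowers_iff.mp hk
      rw [← heg, ← map_zpow, ← hex] at hz
      have hz' := congrArg Subtype.val (e.injective hz)
      simp only [SubgroupClass.coe_zpow] at hz'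
      exact hxC (hz' ▸ zpow_mem hg z)
  have := congrArg e.symm key
  rw [map_pow, MulEquiv.symm_apply_apply, map_one] at this
  exact congrArg Subtype.val this

theorem transfer (L T S D C : Subgroup G) (hL : Cfsg.pResidual 2 ↥L = ⊤)
    (hTL : T ≤ L) (hT2 : IsPGroup 2 T) (hTsyl : ¬ 2 ∣ T.relIndex L)
    (hS2 : IsPGroup 2 S) (hSsyl : ¬ 2 ∣ S.index) (hTS : T ≤ S)
    (hDS : D ≤ S) (hDih : ∃ n : ℕ, 2 ≤ n ∧ Nonempty (↥D ≃* DihedralGroup n)) (hDT : D ⊓ T = ⊥)
    (hTDc : Nat.card T * Nat.card D = Nat.card S)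
    (hCD : C ≤ D) (hC : IsCyclic ↥C) (hCi : C.relIndex D = 2)
    (h1 : ∀ x ∈ D, x ∉ C → orderOf x = 2 → ∀ g : G, g * x * g⁻¹ ∈ T ⊔ C → False)
    (h2 : ∀ c ∈ C, orderOf c = 2 → ∀ g : G, g * c * g⁻¹ ∈ T → False) :
    ∃ K : Subgroup G, K.Normal ∧ K ⊔ D = ⊤ ∧
      ∀ T' : Subgroup G, T' ≤ L → IsPGroup 2 T' → ¬ 2 ∣ T'.relIndex L → T' ≤ K ∧ ¬ 2 ∣ T'.relIndex K := by
  have hinv := involution_of_not_mem hDih hC hCD hCi
  have hprod : ∀ s ∈ S, ∃ t ∈ T, ∃ d ∈ D, s = t * d := by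
    intro s hs
    have hb : Function.Bijective
        (fun x : ↥T × ↥D => (⟨(x.1 : G) * x.2, mul_mem (hTS x.1.2) (hDS x.2.2)⟩ : ↥S)) := by
      rw [Nat.bijective_iff_injective_and_card]
      refine ⟨fun x y e => Subgroup.mul_injective_of_disjoint (disjoint_iff.mpr (inf_comm D T ▸ hDT))
        (congrArg Subtype.val e), by rw [Nat.card_prod, hTDc]⟩
    obtain ⟨⟨t, d⟩, e⟩ := hb.2 ⟨s, hs⟩
    exact ⟨t, t.2, d, d.2, (congrArg Subtype.val e).symm⟩
  obtain ⟨x, hx, hxC⟩ : ∃ x ∈ D, x ∉ C := by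
    by_contra h
    push Not at h
    have : D = C := le_antisymm h hCD
    rw [this, relIndex_self] at hCi
    omega
  obtain ⟨M, hM⟩ : ∃ M, M = T ⊔ C := ⟨_, rfl⟩
  rw [← hM] at h1
  have hTM : T ≤ M := hM ▸ le_sup_left
  have hCM : C ≤ M := hM ▸ le_sup_right
  have hDM : ∀ d ∈ D, d ∈ M → d ∈ C := fun d hd hdM => by_contra fun hdC =>
    h1 d hd hdC (hinv d hd hdC) 1 (by simpa using hdM)
  have hMS : M ≤ S := hM ▸ sup_le hTS (hCD.trans hDS)
  have hMprod : ∀ s ∈ M, ∃ t ∈ T, ∃ c ∈ C, s = t * c := by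
    intro s hs
    obtain ⟨t, ht, d, hd, rfl⟩ := hprod s (hMS hs)
    refine ⟨t, ht, d, hDM d hd ?_, rfl⟩
    have := mul_mem (inv_mem (hTM ht)) hs
    rwa [inv_mul_cancel_left] at this
  have hCT : C ⊓ T = ⊥ := le_bot_iff.mp (hDT ▸ inf_le_inf_right T hCD)
  have hcardM := card_product hTM hCM hCT hMprod
  have hcardS : Nat.card S = 2 * Nat.card M := by
    have h := Nat.card_congr (subgroupOfEquivOfLe hCD).toEquiv
    have h2 := (C.subgroupOf D).card_mul_index
    rw [h, show (C.subgroupOf D).index = 2 from hCi] at h2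
    rw [hcardM, ← hTDc, ← h2]; ring
  have hMindex : M.index = 2 ^ (0 + 1) * S.index := by
    have e1 := M.card_mul_index
    rw [← S.card_mul_index, hcardS] at e1
    refine Nat.eq_of_mul_eq_mul_left (Nat.card_pos : 0 < Nat.card M) ?_
    rw [e1]; ring
  have hodd : Odd S.index := Nat.not_even_iff_odd.mp fun h => hSsyl (even_iff_two_dvd.mp h)
  -- the sign on the cosets of `T ⊔ C`
  obtain ⟨φ, hφ⟩ : ∃ φ, φ = cosetSign M := ⟨_, rfl⟩
  have hφx : ∀ d ∈ D, d ∉ C → φ d = -1 := fun d hd hdC =>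
    hφ ▸ cosetSign_eq_neg_one M (j := 0) (by simpa using hinv d hd hdC) hMindex hodd
      (fun g hg => h1 d hd hdC (hinv d hd hdC) g (by simpa using hg))
  obtain ⟨R, hR⟩ : ∃ R, R = Cfsg.pResidual 2 G := ⟨_, rfl⟩
  have hRφ : R ≤ φ.ker := hR ▸ pResidual_le_ker φ
  have hLR : L ≤ R := by
    intro l hl
    have hmem : (⟨l, hl⟩ : ↥L) ∈ (R.comap L.subtype) := by
      have hle : Cfsg.pResidual 2 ↥L ≤ R.comap L.subtype := (closure_le _).mpr fun g hg => by
        rw [hR]
        refine subset_closure ?_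
        show (orderOf (g : G)).Coprime 2
        rw [Subgroup.orderOf_coe]; exact hg
      exact hle (hL ▸ mem_top _)
    exact hmem
  have hTR : T ≤ R := hTL.trans hLR
  have hSR : ∀ s ∈ S, s ∈ R → ∃ t ∈ T, ∃ c ∈ C ⊓ R, s = t * c := by
    intro s hs hsR
    obtain ⟨t, ht, d, hd, rfl⟩ := hprod s hs
    have hdR : d ∈ R := by
      have := mul_mem (inv_mem (hTR ht)) hsR
      rwa [inv_mul_cancel_left] at this
    refine ⟨t, ht, d, ⟨?_, hdR⟩, rfl⟩
    by_contra hdC
    have := hφx d hd hdC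
    rw [MonoidHom.mem_ker.mp (hRφ hdR)] at this
    exact absurd this (by decide)
  haveI hRn : R.Normal := hR ▸ inferInstance
  have hSp : (S.subgroupOf R).index.Coprime 2 ∧ (S ⊓ R).relIndex R = (S.subgroupOf R).index := by
    refine ⟨?_, by rw [inf_relIndex_right]; rfl⟩
    rw [Nat.coprime_comm, Nat.prime_two.coprime_iff_not_dvd]
    let SS : Sylow 2 G := hS2.toSylow hSsyl
    have h := Grp.sylow_inf_normal_relIndex SS R
    exact h
  have hCR : C ⊓ R = ⊥ := by
    by_contra hne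
    obtain ⟨⟨c, hc⟩, hgen⟩ := (isCyclic_of_injective (inclusion (inf_le_left : C ⊓ R ≤ C))
      (inclusion_injective _)).exists_generator
    have hord : orderOf c = Nat.card ↥(C ⊓ R) := by
      rw [← orderOf_eq_card_of_forall_mem_zpowers hgen, orderOf_mk]
    obtain ⟨j, hj⟩ := (hS2.to_le (inf_le_left.trans (hCD.trans hDS) : C ⊓ R ≤ S)).exists_card_eq
    rcases j with _ | j
    · exact hne (eq_bot_of_card_eq _ (by simpa using hj))
    have hcardSR : Nat.card ↥(S ⊓ R) = Nat.card T * Nat.card ↥(C ⊓ R) :=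
      card_product (le_inf hTS hTR) (inf_le_inf_right R (hCD.trans hDS))
        (le_bot_iff.mp (hCT ▸ inf_le_inf_right T inf_le_left)) (fun s hs => hSR s hs.1 hs.2)
    have hTidx : (T.subgroupOf R).index = 2 ^ (j + 1) * (S.subgroupOf R).index := by
      have e1 := (T.subgroupOf R).card_mul_index
      rw [Nat.card_congr (subgroupOfEquivOfLe hTR).toEquiv] at e1
      have e2 := ((S ⊓ R).subgroupOf R).card_mul_index
      rw [Nat.card_congr (subgroupOfEquivOfLe (inf_le_right : S ⊓ R ≤ R)).toEquiv, inf_subgroupOf_right,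
        ← e1, hcardSR, hj, mul_assoc] at e2
      exact (Nat.eq_of_mul_eq_mul_left Nat.card_pos e2).symm
    have hoddR : Odd (S.subgroupOf R).index := Nat.not_even_iff_odd.mp fun h =>
      (Nat.prime_two.coprime_iff_not_dvd.mp (Nat.coprime_comm.mp hSp.1)) (even_iff_two_dvd.mp h)
    obtain ⟨ψ, hψd⟩ : ∃ ψ, ψ = cosetSign (T.subgroupOf R) := ⟨_, rfl⟩
    have hψ : ψ ⟨c, hc.2⟩ = -1 := hψd ▸ cosetSign_eq_neg_one (T.subgroupOf R) (c := (⟨c, hc.2⟩ : ↥R)) (j := j)
      (by rw [orderOf_mk, hord, hj]) hTidx hoddR (fun g hg => by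
        refine h2 (c ^ 2 ^ j) (pow_mem hc.1 _) ?_ g ?_
        · rw [orderOf_pow' c (pow_ne_zero j two_ne_zero), hord, hj,
            Nat.gcd_eq_right (pow_dvd_pow 2 (Nat.le_succ j)), pow_succ,
            Nat.mul_div_cancel_left _ (pow_pos two_pos j)]
        · simpa [mem_subgroupOf] using hg)
    have hker : (⊤ : Subgroup ↥R) ≤ ψ.ker := by
      have hle : R ≤ ψ.ker.map R.subtype := by
        intro r hr
        rw [hR] at hr
        induction hr using closure_induction with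
        | mem g hg => exact ⟨⟨g, hR ▸ subset_closure hg⟩, eq_one_of_odd ψ (by rwa [orderOf_mk]), rfl⟩
        | one => exact one_mem _
        | mul a b _ _ ha hb => exact mul_mem ha hb
        | inv a _ ha => exact inv_mem ha
      rintro ⟨r, hr⟩ -
      exact (mem_map_iff_mem R.subtype_injective).mp (hle hr)
    have := MonoidHom.mem_ker.mp (hker (mem_top (⟨c, hc.2⟩ : ↥R)))
    rw [hψ] at this
    exact absurd this (by decide)
  have hSRT : S ⊓ R = T := by
    refine le_antisymm (fun s hs => ?_) (le_inf hTS hTR)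
    obtain ⟨t, ht, c, hc, rfl⟩ := hSR s hs.1 hs.2
    rw [hCR, mem_bot] at hc
    rwa [hc, mul_one]
  refine ⟨R, hRn, ?_, fun T' hT'L hT'p hT's => ⟨hT'L.trans hLR, ?_⟩⟩
  · have h := Transfer.sylow_sup_pResidual (hS2.toSylow hSsyl : Sylow 2 G)
    rw [← hR] at h
    refine top_le_iff.mp (h.ge.trans (sup_le (fun s hs => ?_) le_sup_left))
    obtain ⟨t, ht, d, hd, rfl⟩ := hprod s hs
    exact mul_mem (mem_sup_left (hTR ht)) (mem_sup_right hd)
  · have hcards : Nat.card T' = Nat.card T :=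
      (Grp.IsSylowIn.card (⟨hT'L, hT'p, hT's⟩ : Grp.IsSylowIn 2 T' L)).trans (Grp.IsSylowIn.card (⟨hTL, hT2, hTsyl⟩ : Grp.IsSylowIn 2 T L)).symm
    have hTrel : ¬ 2 ∣ T.relIndex R := by
      rw [← hSRT, hSp.2]
      exact (Nat.prime_two.coprime_iff_not_dvd.mp (Nat.coprime_comm.mp hSp.1))
    have e : T'.relIndex R = T.relIndex R := by
      have e1 := (T'.subgroupOf R).card_mul_index
      have e2 := (T.subgroupOf R).card_mul_index
      rw [Nat.card_congr (subgroupOfEquivOfLe (hT'L.trans hLR)).toEquiv, hcards, ← e2,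
        Nat.card_congr (subgroupOfEquivOfLe hTR).toEquiv] at e1
      exact Nat.eq_of_mul_eq_mul_left Nat.card_pos e1
    rwa [e]

end Cfsg.Agent.Invol.TransferDihedral
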