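import Cfsg.Agent.Lib.Invol.BSChar
import Cfsg.Agent.Lib.Char.ModP
import Cfsg.Agent.Lib.Char.Constituent
import Cfsg.Agent.Lib.Char.Kernel
import Cfsg.Agent.Lib.Grp.Cores

/-!
# The Brauer–Suzuki theorem

In a finite group of 2-rank one every involution is central modulo the odd core.
-/

set_option linter.style.haveILetI false

namespace Cfsg.Agent.BS

open Cfsg

universe u

theorem odd_iff_coprime_two {n : ℕ} : Odd n ↔ n.Coprime 2 := Nat.coprime_two_right.symm

/-- A perfect group of 2-rank one has a proper normal subgroup containing its involutions. -/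
theorem exists_proper_normal {G : Type u} [Group G] [Finite G] (h : TwoRankOne G) (D : QData G) :
    ∃ K : Subgroup G, K.Normal ∧ K ≠ ⊤ ∧ D.zz ∈ K := by
  classical
  cases nonempty_fintype G
  by_cases hperf : commutator G = ⊤
  · obtain ⟨M, hM⟩ := Cfsg.Agent.Char.exists_isPModular 2 Nat.prime_two
    obtain ⟨χ, hχ, hker⟩ := exists_kernel_char D h hM hperf
    refine ⟨Cfsg.Agent.Char.charKer (Block.irr_isChar χ), Cfsg.Agent.Char.charKer_normal _,
      fun htop => hχ ?_, (Cfsg.Agent.Char.mem_charKer _).2 hker⟩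
    have hall : ∀ g : G, (χ : G → ℂ) g = (χ : G → ℂ) 1 := fun g =>
      (Cfsg.Agent.Char.mem_charKer (Block.irr_isChar χ)).1 (htop ▸ Subgroup.mem_top g)
    refine Subtype.ext (Cfsg.Agent.Char.eq_of_constituent_irr χ.2 Cfsg.Agent.Char.isIrr_one ?_)
    rw [classInner, Finset.sum_congr rfl (g := fun _ => (χ : G → ℂ) 1) fun g _ => by
      rw [hall g]; show _ * (starRingEnd ℂ) (1 : ℂ) = _; rw [map_one, mul_one]]
    simp [Block.irr_one_ne_zero χ, Nat.card_pos.ne']
  · refine ⟨commutator G, inferInstance, hperf, ?_⟩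
    obtain ⟨q, hq, hqC⟩ := D.exists_notMem
    have hmem : (D.b ^ 2)⁻¹ ∈ commutator G := by
      have := Subgroup.commutator_mem_commutator (Subgroup.mem_top q) (Subgroup.mem_top D.b)
      rw [← commutator_def, commutatorElement_def, D.hinv q hq hqC] at this
      rwa [pow_two, mul_inv_rev]
    have h2 : D.zz = (D.b ^ 2) ^ (orderOf D.b / 4) := by
      rw [QData.zz, ← pow_mul]
      congr 1
      obtain ⟨c, hc⟩ := D.h4
      omega
    rw [h2]
    exact pow_mem ((Subgroup.inv_mem_iff _).1 hmem) _

theorem commutator_mem_oddCore : ∀ (n : ℕ) (G : Type u) [Group G] [Finite G], Nat.card G = n →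
    TwoRankOne G → ∀ z : G, orderOf z = 2 → ∀ g : G, z * g * z⁻¹ * g⁻¹ ∈ pPrimeCore 2 G := by
  intro n
  induction n using Nat.strong_induction_on with
  | _ n ih =>
    intro G _ _ hn h z hz g
    haveI : Fact (Nat.Prime 2) := ⟨Nat.prime_two⟩
    obtain ⟨P⟩ := (inferInstance : Nonempty (Sylow 2 G))
    by_cases hP : IsCyclic P
    · obtain ⟨N, hN, hodd, hmem⟩ :=
        exists_odd_commutator_of_cyclic P (hz ▸ orderOf_dvd_natCard z)
      exact Grp.le_pPrimeCore hN (odd_iff_coprime_two.1 hodd) (hmem z g)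
    obtain ⟨D⟩ := nonempty_qData h P hP
    obtain ⟨K, hKn, hKtop, hKz⟩ := exists_proper_normal h D
    have hzK : z ∈ K := by
      obtain ⟨c, hc⟩ := isConj_iff.1 (isConj_involution h D.zz_order hz)
      exact hc ▸ hKn.conj_mem _ hKz c
    have hlt : Nat.card K < n := by
      rw [← hn]
      rcases (Nat.le_of_dvd Nat.card_pos (Subgroup.card_subgroup_dvd_card K)).lt_or_eq with h1 | h1
      · exact h1
      · exact absurd (Subgroup.eq_top_of_card_eq K h1) hKtop
    have hwK : g * z * g⁻¹ ∈ K := hKn.conj_mem z hzK g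
    have key := ih _ hlt K rfl (h.subgroup K) ⟨z, hzK⟩ (by rwa [Subgroup.orderOf_mk])
      ⟨g * z * g⁻¹, hwK⟩
    have hcore : z * (g * z * g⁻¹) * z⁻¹ * (g * z * g⁻¹)⁻¹ ∈ pPrimeCore 2 G := by
      have := Subgroup.mem_map_of_mem K.subtype key
      rw [Grp.pPrimeCore_map_eq] at this
      exact this.1
    have hzi := Invol.inv_of_orderOf_two hz
    have hgz : orderOf (g * z * g⁻¹) = 2 := by rw [Invol.orderOf_conj_eq, hz]
    have he : z * g * z⁻¹ * g⁻¹ = z * (g * z * g⁻¹) := by rw [hzi]; group
    rw [he]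
    set w := g * z * g⁻¹ with hw
    have hsq : (z * w) * (z * w) ∈ pPrimeCore 2 G := by
      rw [hzi, Invol.inv_of_orderOf_two hgz] at hcore
      simpa [mul_assoc] using hcore
    obtain ⟨m, hm⟩ := odd_orderOf_mul h hz hgz
    have : z * w = ((z * w) * (z * w)) ^ (m + 1) := by
      rw [← pow_two, ← pow_mul, show 2 * (m + 1) = orderOf (z * w) + 1 by omega, pow_succ,
        pow_orderOf_eq_one, one_mul]
    rw [this]
    exact pow_mem hsq _

/-- Brauer–Suzuki, for groups of 2-rank one. -/
theorem exists_odd_normal {G : Type u} [Group G] [Finite G] (h : TwoRankOne G) {z : G}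
    (hz : orderOf z = 2) :
    ∃ N : Subgroup G, N.Normal ∧ Odd (Nat.card N) ∧ ∀ g : G, z * g * z⁻¹ * g⁻¹ ∈ N :=
  ⟨pPrimeCore 2 G, Grp.pPrimeCore_isNormal, odd_iff_coprime_two.2 Grp.pPrimeCore_coprime,
    commutator_mem_oddCore _ G rfl h z hz⟩

theorem twoRankOne_of_no_klein {G : Type*} [Group G]
    (h : ∀ E : Subgroup G, ¬ IsKleinFour E) : TwoRankOne G := by
  intro u v hu hv huv
  by_contra hne
  have huu := Invol.mul_self_of_orderOf_two hu
  have hvv := Invol.mul_self_of_orderOf_two hv
  have hvu : v * u = u * v := huv.eq.symm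
  have huuv : ∀ x : G, u * (u * x) = x := fun x => by rw [← mul_assoc, huu, one_mul]
  have hvvx : ∀ x : G, v * (v * x) = x := fun x => by rw [← mul_assoc, hvv, one_mul]
  have hvux : ∀ x : G, v * (u * x) = u * (v * x) := fun x => by rw [← mul_assoc, hvu, mul_assoc]
  let E : Subgroup G :=
    { carrier := {x | x = 1 ∨ x = u ∨ x = v ∨ x = u * v}
      one_mem' := .inl rfl
      mul_mem' := by
        rintro x y (rfl | rfl | rfl | rfl) (rfl | rfl | rfl | rfl) <;>
          simp [huu, hvv, hvu, huuv, hvvx, hvux, mul_assoc]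
      inv_mem' := by
        rintro x (rfl | rfl | rfl | rfl) <;>
          simp [Invol.inv_of_orderOf_two hu, Invol.inv_of_orderOf_two hv, hvu] }
  have hu1 := Invol.ne_one_of_orderOf_two hu
  have hv1 := Invol.ne_one_of_orderOf_two hv
  have huv1 : u * v ≠ 1 := fun e => hne (by
    rw [eq_inv_of_mul_eq_one_left e, Invol.inv_of_orderOf_two hv])
  have huvu : u * v ≠ u := fun e => hv1 (mul_eq_left.1 e)
  have huvv : u * v ≠ v := fun e => hu1 (mul_eq_right.1 e)
  have hcard : Nat.card E = 4 := by
    classical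
    have hset : (E : Set G) = (({1, u, v, u * v} : Finset G) : Set G) := by
      ext x
      simp only [Finset.coe_insert, Finset.coe_singleton, Set.mem_insert_iff, Set.mem_singleton_iff]
      exact Iff.rfl
    rw [← SetLike.coe_sort_coe, hset, Nat.card_coe_set_eq, Set.ncard_coe_finset,
      Finset.card_insert_of_notMem, Finset.card_insert_of_notMem, Finset.card_insert_of_notMem,
      Finset.card_singleton] <;>
      simp [hu1.symm, hv1.symm, huv1.symm, huvu.symm, huvv.symm, hne]
  have hsq : ∀ x : E, x ^ 2 = 1 := by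
    rintro ⟨x, rfl | rfl | rfl | rfl⟩ <;> refine Subtype.ext ?_ <;>
      simp [pow_two, huu, hvv, hvu, huuv, hvvx, hvux, mul_assoc]
  haveI : Finite E := Nat.finite_of_card_ne_zero (by omega)
  haveI : Nontrivial E := Finite.one_lt_card_iff_nontrivial.1 (by omega)
  refine h E ⟨hcard, ?_⟩
  exact (Nat.prime_two.eq_one_or_self_of_dvd _
    (Monoid.exponent_dvd_of_forall_pow_eq_one hsq)).resolve_left fun e => by
      have := Monoid.exp_eq_one_iff.1 e
      exact not_subsingleton E this

theorem twoRankOne_of_sylow {G : Type*} [Group G] [Finite G] (S : Sylow 2 G)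
    (h : ∀ u ∈ (S : Subgroup G), ∀ v ∈ (S : Subgroup G), orderOf u = 2 → orderOf v = 2 → u = v) :
    TwoRankOne G := by
  haveI : Fact (Nat.Prime 2) := ⟨Nat.prime_two⟩
  intro u v hu hv huv
  by_contra hne
  have huv1 : u * v ≠ 1 := fun e => hne (by
    rw [eq_inv_of_mul_eq_one_left e, Invol.inv_of_orderOf_two hv])
  have hord : orderOf (u * v) = 2 ^ 1 := by
    rw [pow_one]
    refine orderOf_eq_prime ?_ huv1
    rw [huv.mul_pow, pow_two, pow_two, Invol.mul_self_of_orderOf_two hu,
      Invol.mul_self_of_orderOf_two hv, one_mul]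
  obtain ⟨g, hg⟩ := Invol.exists_conj_subset_sylow (Invol.isPGroup_closure_pair hu hv hord) S
  have he := h _ (hg u Invol.left_mem_closure_pair) _ (hg v Invol.right_mem_closure_pair)
    (by rw [Invol.orderOf_conj_eq, hu]) (by rw [Invol.orderOf_conj_eq, hv])
  exact hne (mul_left_cancel (mul_right_cancel he))

/-- Squares of central elements and uniqueness of the involution in `QuaternionGroup m`. -/
theorem quaternion_sq_one {m : ℕ} [NeZero m] {x : QuaternionGroup m} (hx : x ^ 2 = 1) :
    x = 1 ∨ x = QuaternionGroup.a (m : ZMod (2 * m)) := by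
  cases x with
  | a i =>
    rw [pow_two, QuaternionGroup.a_mul_a, QuaternionGroup.one_def] at hx
    have h2 : i + i = 0 := QuaternionGroup.a.inj hx
    have h3 := congrArg ZMod.val h2
    rw [ZMod.val_add, ZMod.val_zero] at h3
    have h4 := ZMod.val_lt i
    have h5 : i.val = 0 ∨ i.val = m := by
      obtain ⟨c, hc⟩ := Nat.dvd_of_mod_eq_zero h3
      rcases c with _ | _ | c
      · left; omega
      · right; omega
      · exfalso; nlinarith
    rcases h5 with e | e
    · left
      rw [QuaternionGroup.one_def]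
      congr 1
      exact (ZMod.val_eq_zero i).1 e
    · right
      congr 1
      exact ((ZMod.natCast_zmod_val i).symm.trans (congrArg Nat.cast e))
  | xa i =>
    exfalso
    have h1 := QuaternionGroup.orderOf_xa (n := m) i
    have h2 := orderOf_dvd_of_pow_eq_one hx
    rw [h1] at h2
    norm_num at h2

theorem quaternion_center_sq {m : ℕ} [NeZero m] (hm : 2 ≤ m) {x : QuaternionGroup m}
    (hx : ∀ y : QuaternionGroup m, y * x = x * y) : x ^ 2 = 1 := by
  cases x with
  | a i =>
    have h := hx (QuaternionGroup.xa 0)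
    rw [QuaternionGroup.a_mul_xa, QuaternionGroup.xa_mul_a] at h
    have h1 : (0 : ZMod (2 * m)) + i = 0 - i := QuaternionGroup.xa.inj h
    rw [pow_two, QuaternionGroup.a_mul_a, QuaternionGroup.one_def]
    congr 1
    linear_combination h1
  | xa i =>
    exfalso
    have h := hx (QuaternionGroup.a 1)
    rw [QuaternionGroup.a_mul_xa, QuaternionGroup.xa_mul_a] at h
    have h1 : i - 1 = i + 1 := QuaternionGroup.xa.inj h
    have h2 : ((2 : ℕ) : ZMod (2 * m)) = 0 := by
      push_cast
      linear_combination -h1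
    rw [ZMod.natCast_eq_zero_iff] at h2
    have := Nat.le_of_dvd two_pos h2
    omega

end Cfsg.Agent.BS
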