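import Cfsg.Agent.Lib.Invol.SPEmbedded
import Cfsg.Agent.Lib.Invol.BrauerSuzuki
import Cfsg.Agent.Lib.Invol.Sylow
import Cfsg.Agent.Lib.Grp.CoprimeAbelian
import Cfsg.Agent.Lib.Grp.Cores

/-!
Elementary properties of strongly `p`-embedded subgroups: cores, coprime normal subgroups, and the
case of Sylow subgroups with a single subgroup of order `p`.
-/

set_option autoImplicit false

namespace Cfsg.Agent.Invol

variable {G : Type*} [Group G] [Finite G] {p : ℕ} [Fact p.Prime]

/-- No conjugate of `H` by an element outside meets `H` in a group of order divisible by `p`. -/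
def SPClassical (p : ℕ) (H : Subgroup G) : Prop :=
  ∀ g : G, g ∉ H → ¬ p ∣ Nat.card ↥(H ⊓ H.map (MulAut.conj g).toMonoidHom)

theorem SPClassical.mem_of_conj {H : Subgroup G} (hY : SPClassical p H) {x a : G} (ha : a ∈ H)
    (hao : orderOf a = p) (hxa : x * a * x⁻¹ ∈ H) : x ∈ H := by
  by_contra hx
  refine hY x hx (dvd_card_of_mem (z := x * a * x⁻¹) ?_ (Subgroup.mem_inf.mpr ⟨hxa, ⟨a, ha, rfl⟩⟩))
  rw [← MulAut.conj_apply, MulEquiv.orderOf_eq, hao]

theorem SPClassical.normal_not_dvd {H : Subgroup G} (hY : SPClassical p H) (hH : H ≠ ⊤)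
    {N : Subgroup G} (hN : N.Normal) (hNH : N ≤ H) : ¬ p ∣ Nat.card N := by
  intro hd
  obtain ⟨z, hz, hzo⟩ := exists_orderOf_prime_mem hd
  exact hH (Subgroup.eq_top_iff' _ |>.mpr fun x =>
    hY.mem_of_conj (hNH hz) hzo (hNH (hN.conj_mem z hz x)))

theorem isMulCommutative_closure_pair {z w : G} (h : Commute z w) :
    IsMulCommutative ↥(Subgroup.closure ({z, w} : Set G)) := by
  refine Subgroup.isMulCommutative_closure ?_
  rintro a (rfl | rfl) b (rfl | rfl)
  · rfl
  · exact h.eq
  · exact h.symm.eq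
  · rfl

theorem not_isCyclic_closure_pair {z w : G} (h : Commute z w) (hz : orderOf z = p)
    (hw : w ^ p = 1) (hne : w ∉ Subgroup.zpowers z) :
    ¬ IsCyclic ↥(Subgroup.closure ({z, w} : Set G)) := by
  intro hc
  have := isMulCommutative_closure_pair h
  set A := Subgroup.closure ({z, w} : Set G)
  have hpow : ∀ a ∈ A, a ^ p = 1 := by
    intro a ha
    induction ha using Subgroup.closure_induction with
    | mem a ha =>
      rcases ha with rfl | rfl
      · rw [← hz]; exact pow_orderOf_eq_one _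
      · exact hw
    | one => exact one_pow _
    | mul a b ha hb h1 h2 =>
      rw [(show Commute a b from congrArg Subtype.val
        (this.is_comm.comm (⟨a, ha⟩ : A) ⟨b, hb⟩)).mul_pow, h1, h2, mul_one]
    | inv a _ h1 => rw [inv_pow, h1, inv_one]
  have h1 : Nat.card A ≤ p := by
    rw [← IsCyclic.exponent_eq_card]
    exact Nat.le_of_dvd (Fact.out : p.Prime).pos
      (Monoid.exponent_dvd_of_forall_pow_eq_one fun a => Subtype.ext (hpow a a.2))
  have h2 : Subgroup.zpowers z = A := Subgroup.eq_of_le_of_card_ge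
    (Subgroup.zpowers_le.mpr (Subgroup.subset_closure (Set.mem_insert _ _)))
    (by rwa [Nat.card_zpowers, hz])
  exact hne (h2.ge (Subgroup.subset_closure (Set.mem_insert_of_mem _ rfl)))

/-- A normal `p'`-subgroup lies in `H` as soon as `H` contains a noncyclic abelian `p`-group. -/
theorem SPClassical.pPrime_le {H : Subgroup G} (hY : SPClassical p H) {A : Subgroup G}
    [IsMulCommutative A] (hA : IsPGroup p A) (hnc : ¬ IsCyclic A) (hAH : A ≤ H) {K : Subgroup G}
    [K.Normal] (hK : (Nat.card K).Coprime p) : K ≤ H := by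
  rw [← Grp.generated_by_centralizers A K hnc (fun a _ =>
    (Subgroup.normalizer_eq_top K).ge (Subgroup.mem_top a)) (by
      obtain ⟨k, hk⟩ := hA.exists_card_eq
      exact hk ▸ (hK.pow_right k).symm)]
  refine iSup₂_le fun a ha x hx => ?_
  obtain ⟨haA, ha1⟩ := ha
  obtain ⟨k, hk⟩ := IsPGroup.iff_orderOf.mp hA ⟨a, haA⟩
  rw [Subgroup.orderOf_mk] at hk
  obtain ⟨b, hb, hbo⟩ : ∃ b ∈ Subgroup.zpowers a, orderOf b = p := by
    refine exists_orderOf_prime_mem ?_
    rw [Nat.card_zpowers, hk]
    refine dvd_pow_self p fun h0 => ha1 ?_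
    rwa [h0, pow_zero, orderOf_eq_one_iff] at hk
  refine hY.mem_of_conj (hAH (Subgroup.zpowers_le.mpr haA hb)) hbo ?_
  obtain ⟨i, rfl⟩ := Subgroup.mem_zpowers_iff.mp hb
  rw [((show Commute x a from Subgroup.mem_centralizer_singleton_iff.mp hx.2).zpow_right i).eq,
    mul_inv_cancel_right]
  exact zpow_mem (hAH haA) i

/-- If every element with `y ^ p = 1` of a Sylow subgroup lies in `⟨z⟩` and `O_p(G) = 1`, the
normalizer of `⟨z⟩` is strongly `p`-embedded. -/
theorem spClassical_normalizer_zpowers (hO : Cfsg.pCore p G = ⊥) (T : Sylow p G) {z : G}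
    (hzT : z ∈ T) (hz : orderOf z = p) (h : ∀ y ∈ T, y ^ p = 1 → y ∈ Subgroup.zpowers z) :
    Subgroup.normalizer (Subgroup.zpowers z : Set G) ≠ ⊤ ∧
      p ∣ Nat.card ↥(Subgroup.normalizer (Subgroup.zpowers z : Set G)) ∧
      SPClassical p (Subgroup.normalizer (Subgroup.zpowers z : Set G)) := by
  have hzp : IsPGroup p ↥(Subgroup.zpowers z) := isPGroup_zpowers (n := 1) (by rw [hz, pow_one])
  refine ⟨fun e => ?_, dvd_card_of_mem hz (Subgroup.le_normalizer (Subgroup.mem_zpowers z)), ?_⟩
  · have hn : (Subgroup.zpowers z).Normal := Subgroup.normalizer_eq_top_iff.mp e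
    have := (Grp.le_pCore hn hzp).trans hO.le (Subgroup.mem_zpowers z)
    rw [Subgroup.mem_bot] at this
    rw [this, orderOf_one] at hz
    exact (Fact.out : p.Prime).ne_one hz.symm
  intro g hg hd
  obtain ⟨w, hwm, hw⟩ := exists_orderOf_prime_mem hd
  -- an element of order `p` normalizing `⟨z⟩` generates it
  have key : ∀ v : G, orderOf v = p → v ∈ Subgroup.normalizer (Subgroup.zpowers z : Set G) →
      Subgroup.zpowers v = Subgroup.zpowers z := by
    intro v hv hvN
    have hvp : IsPGroup p ↥(Subgroup.zpowers v) := isPGroup_zpowers (n := 1) (by rw [hv, pow_one])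
    obtain ⟨c, hc⟩ := exists_conj_subset_sylow
      (hvp.to_sup_of_normal_right' hzp (Subgroup.zpowers_le.mpr hvN)) T
    have h1 : ∀ u : G, u ^ p = 1 → u ∈ Subgroup.zpowers v ⊔ Subgroup.zpowers z →
        c * u * c⁻¹ ∈ Subgroup.zpowers z := fun u hu hm =>
      h _ (hc u hm) (by rw [conj_pow, hu, mul_one, mul_inv_cancel])
    have e : ∀ u : G, orderOf u = p → u ∈ Subgroup.zpowers v ⊔ Subgroup.zpowers z →
        Subgroup.zpowers (MulAut.conj c u) = Subgroup.zpowers z := fun u hu hm =>
      Subgroup.eq_of_le_of_card_ge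
        (Subgroup.zpowers_le.mpr (h1 u (by rw [← hu]; exact pow_orderOf_eq_one u) hm))
        (by rw [Nat.card_zpowers, Nat.card_zpowers, MulEquiv.orderOf_eq, hz, hu])
    have e1 := (e v hv (Subgroup.mem_sup_left (Subgroup.mem_zpowers v))).trans
      (e z hz (Subgroup.mem_sup_right (Subgroup.mem_zpowers z))).symm
    rw [← MulEquiv.coe_toMonoidHom, ← MonoidHom.map_zpowers, ← MonoidHom.map_zpowers] at e1
    exact Subgroup.map_injective (MulAut.conj c).injective e1
  obtain ⟨hwN, w', hw'N, rfl⟩ := Subgroup.mem_inf.mp hwm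
  refine hg ?_
  have hw' : orderOf w' = p := by
    rw [← MulEquiv.orderOf_eq (MulAut.conj g)]; exact hw
  have e1 := key _ hw hwN
  have e2 := key _ hw' hw'N
  rw [← MonoidHom.map_zpowers, e2] at e1
  refine Subgroup.mem_normalizer_fintype fun u hu => ?_
  exact e1.le ⟨u, hu, rfl⟩

/-- The Sylow subgroups of a group with a cyclic or quaternion Sylow subgroup have one subgroup of
order `p`. -/
theorem exists_generator_of_cyclic_or_quaternion {T : Type*} [Group T] [Finite T]
    (hT : IsPGroup p T) (hne : Nontrivial T)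
    (h : IsCyclic T ∨ ∃ n : ℕ, Nonempty (T ≃* QuaternionGroup n)) :
    ∃ z : T, orderOf z = p ∧ ∀ y : T, y ^ p = 1 → y ∈ Subgroup.zpowers z := by
  obtain ⟨k, hk⟩ := hT.exists_card_eq
  have hk0 : k ≠ 0 := by
    rintro rfl
    have := Finite.one_lt_card (α := T)
    rw [hk, pow_zero] at this
    omega
  obtain ⟨z, hz⟩ := exists_prime_orderOf_dvd_card' (G := T) p (hk ▸ dvd_pow_self p hk0)
  refine ⟨z, hz, fun y hy => ?_⟩
  rcases h with h | ⟨n, ⟨e⟩⟩
  · by_contra hyz
    letI := h.commGroup
    exact not_isCyclic_closure_pair (show Commute z y from mul_comm z y) hz hy hyz inferInstance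
  · have : NeZero n := ⟨by
      rintro rfl
      have := Finite.of_equiv T e.toEquiv
      exact Int.infinite.not_finite (Finite.of_injective (fun i : ℤ => QuaternionGroup.a (n := 0) i)
        fun a b h => QuaternionGroup.a.inj h)⟩
    have hp2 : p = 2 := by
      have h4 : 4 * n = p ^ k := by rw [← QuaternionGroup.card (n := n), ← Nat.card_eq_fintype_card, ← Nat.card_congr e.toEquiv, hk]
      have h2 : 2 ∣ p ^ k := ⟨2 * n, by omega⟩
      exact ((Nat.prime_dvd_prime_iff_eq Nat.prime_two Fact.out).mp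
        (Nat.prime_two.dvd_of_dvd_pow h2)).symm
    subst hp2
    rcases BS.quaternion_sq_one (x := e y) (by rw [← map_pow, hy, map_one]) with h1 | h1
    · rw [show y = 1 from e.injective (h1.trans (map_one e).symm)]
      exact one_mem _
    · rcases BS.quaternion_sq_one (x := e z) (by rw [← map_pow, ← hz, pow_orderOf_eq_one, map_one]) with h2 | h2
      · rw [show z = 1 from e.injective (h2.trans (map_one e).symm), orderOf_one] at hz
        omega
      · rw [e.injective (h1.trans h2.symm)]
        exact Subgroup.mem_zpowers z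

/-- Otherwise a nontrivial `p`-group has a noncyclic abelian subgroup. -/
theorem exists_noncyclic_or_unique {P : Subgroup G} (hP : IsPGroup p P) (hne : P ≠ ⊥) :
    (∃ A : Subgroup G, A ≤ P ∧ IsMulCommutative A ∧ ¬ IsCyclic A) ∨
      ∀ H K : Subgroup P, Nat.card H = p → Nat.card K = p → H = K := by
  have : Nontrivial P := P.nontrivial_iff_ne_bot.mpr hne
  have := hP.center_nontrivial
  obtain ⟨k, hk⟩ := (hP.to_subgroup (Subgroup.center P)).exists_card_eq
  have hk0 : k ≠ 0 := by
    rintro rfl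
    have := Finite.one_lt_card (α := Subgroup.center P)
    rw [hk, pow_zero] at this
    omega
  obtain ⟨⟨z, hzc⟩, hz⟩ := exists_prime_orderOf_dvd_card' (G := Subgroup.center P) p
    (hk ▸ dvd_pow_self p hk0)
  rw [Subgroup.orderOf_mk] at hz
  by_cases h : ∃ y : P, y ^ p = 1 ∧ y ∉ Subgroup.zpowers z
  · obtain ⟨y, hy, hyz⟩ := h
    have hcomm : Commute (z : G) y :=
      (congrArg Subtype.val (Subgroup.mem_center_iff.mp hzc y)).symm
    refine .inl ⟨Subgroup.closure ({(z : G), (y : G)} : Set G), ?_,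
      isMulCommutative_closure_pair hcomm, not_isCyclic_closure_pair hcomm
        (by rw [Subgroup.orderOf_coe]; exact hz) (congrArg Subtype.val hy) fun hm => hyz ?_⟩
    · rw [Subgroup.closure_le]
      rintro a (rfl | rfl)
      · exact z.2
      · exact y.2
    · obtain ⟨i, hi⟩ := Subgroup.mem_zpowers_iff.mp hm
      exact Subgroup.mem_zpowers_iff.mpr ⟨i, Subtype.ext (by rw [SubgroupClass.coe_zpow, hi])⟩
  · push Not at h
    refine .inr fun H K hH hK => ?_
    have key : ∀ L : Subgroup P, Nat.card L = p → L = Subgroup.zpowers z := fun L hL =>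
      Subgroup.eq_of_le_of_card_ge (fun l hl => h l (by
        have h1 := pow_card_eq_one' (G := L) (x := ⟨l, hl⟩)
        rw [hL] at h1
        exact congrArg Subtype.val h1)) (by rw [Nat.card_zpowers, hz, hL])
    rw [key H hH, key K hK]

theorem isPGroup_of_pPrime_disjoint {Q K : Subgroup G} (hQ : IsPGroup p Q)
    (hK : (Nat.card K).Coprime p) : Q ⊓ K = ⊥ := by
  obtain ⟨k, hk⟩ := (hQ.to_le (inf_le_left : Q ⊓ K ≤ Q)).exists_card_eq
  exact Subgroup.card_eq_one.mp (Nat.eq_one_of_dvd_coprimes (hK.pow_right k)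
    (Subgroup.card_dvd_of_le inf_le_right) (by rw [hk]))

end Cfsg.Agent.Invol
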