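import Mathlib
import Cfsg.Agent.Lib.Fus.SmallSimple

/-!
Any two simple groups of order `360` are isomorphic: each is conjugate, inside the symmetric group on
its ten Sylow `3`-subgroups, to one explicit subgroup.
-/

set_option autoImplicit false
set_option linter.style.haveILetI false

namespace Cfsg.Agent.Invol.O360

open Equiv Subgroup

/-- The nine finite points are `i + 3 j`; the tenth point is fixed by `t₁`, `t₂` and `mm`. -/
def pt (i j : Fin 3) : Fin 10 := ⟨i.val + 3 * j.val, by omega⟩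

/-- The two coordinates of a point. -/
def xx (x : Fin 10) : Fin 3 := ⟨x.val % 3, Nat.mod_lt _ (by norm_num)⟩

/-- The second coordinate. -/
def yy (x : Fin 10) : Fin 3 := ⟨x.val / 3 % 3, Nat.mod_lt _ (by norm_num)⟩

/-- An affine map on the nine points. -/
def aff (p q r s c d : Fin 3) (x : Fin 10) : Fin 10 :=
  if x = 9 then 9 else pt (p * xx x + q * yy x + c) (r * xx x + s * yy x + d)

/-- Translation. -/
def t₁ : Perm (Fin 10) :=
  ⟨aff 1 0 0 1 1 0, aff 1 0 0 1 2 0, by decide +kernel, by decide +kernel⟩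

/-- Translation. -/
def t₂ : Perm (Fin 10) :=
  ⟨aff 1 0 0 1 0 1, aff 1 0 0 1 0 2, by decide +kernel, by decide +kernel⟩

/-- The quarter turn. -/
def mm : Perm (Fin 10) :=
  ⟨aff 0 2 1 0 0 0, aff 0 1 2 0 0 0, by decide +kernel, by decide +kernel⟩

/-- The involution exchanging the two fixed points of `mm`. -/
def w₀ : Perm (Fin 10) := swap 0 9 * swap 3 6 * swap 4 5 * swap 7 8

/-- The candidate involutions. -/
def cand (A B : Fin 10) (s : Fin 2) : Fin 10 → Fin 10 :=
  let n : Fin 10 → Fin 10 := if s = 0 then mm else mm.symm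
  ![9, A, n (n A), n A, B, n B, n (n (n A)), n (n (n B)), n (n B), 0]

/-- The point `y` has period exactly `L`. -/
def Per (f : Fin 10 → Fin 10) (L : ℕ) : Prop :=
  ∃ y, f^[L] y = y ∧ ∀ k : Fin L, (k : ℕ) ≠ 0 → f^[(k : ℕ)] y ≠ y

instance (f : Fin 10 → Fin 10) (L : ℕ) : Decidable (Per f L) := by unfold Per; infer_instance

/-- Orders that do not occur. -/
def Bad (f : Fin 10 → Fin 10) : Prop :=
  Per f 8 ∨ Per f 7 ∨ Per f 6 ∨ (Per f 3 ∧ (Per f 2 ∨ Per f 4))

instance (f : Fin 10 → Fin 10) : Decidable (Bad f) := by unfold Bad; infer_instance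

theorem cand_cases : ∀ (A B : Fin 10) (s : Fin 2),
    (∀ x, cand A B s (cand A B s x) = x) →
      Bad (fun x => t₁ (cand A B s x)) ∨ Bad (fun x => t₂ (cand A B s x)) ∨
        Bad (fun x => t₁ (t₂ (cand A B s x))) ∨
          ∃ k : Fin 4, ∀ x, cand A B s x = w₀ ((mm ^ (k : ℕ)) x) := by
  decide +kernel

theorem lin_cases : ∀ p q r s : Fin 3, (∀ x, aff p q r s 0 0 (aff p q r s 0 0 x) = x) →
    4 ∣ (Finset.univ.filter fun x => aff p q r s 0 0 x ≠ x).card →
      (∀ x, aff p q r s 0 0 x = x) ∨ ∀ x, aff p q r s 0 0 x = aff 2 0 0 2 0 0 x := by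
  decide +kernel

theorem moved_four {σ : Perm (Fin 10)} (h2 : σ * σ = 1) (hs : Perm.sign σ = 1) :
    4 ∣ (Finset.univ.filter fun x => σ x ≠ x).card := by
  have hsupp : σ.support = Finset.univ.filter fun x => σ x ≠ x := by ext x; simp
  rw [← hsupp, ← Perm.sum_cycleType]
  have hct : ∀ n ∈ σ.cycleType, n = 2 := fun n hn => by
    have h := Perm.dvd_of_mem_cycleType hn
    have h2' : orderOf σ ∣ 2 := orderOf_dvd_of_pow_eq_one (by rw [pow_two, h2])
    have h3 := Nat.le_of_dvd (by norm_num) (h.trans h2')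
    have h4 := Perm.two_le_of_mem_cycleType hn
    omega
  have hrep : σ.cycleType = Multiset.replicate σ.cycleType.card 2 := Multiset.eq_replicate_card.2 hct
  rw [Perm.sign_of_cycleType, hrep] at hs
  rw [hrep]
  simp only [Multiset.sum_replicate, Multiset.card_replicate, smul_eq_mul] at hs ⊢
  obtain ⟨k, hk⟩ : Even σ.cycleType.card := by
    rcases Nat.even_or_odd σ.cycleType.card with h | h
    · exact h
    · rw [show σ.cycleType.card * 2 + σ.cycleType.card = 3 * σ.cycleType.card by ring, pow_mul] at hs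
      rw [show ((-1 : ℤˣ) ^ 3) = -1 by decide, h.neg_one_pow] at hs
      exact absurd hs (by decide)
  exact ⟨k, by omega⟩

variable {G : Type*} [Group G] [Finite G] [IsSimpleGroup G]

theorem not_comm (h : Nat.card G = 360) : ¬ IsMulCommutative G := by
  intro hc
  haveI := hc
  letI : CommGroup G := { (inferInstance : Group G) with mul_comm := fun a b => hc.is_comm.comm a b }
  have := IsSimpleGroup.prime_card (α := G)
  rw [h] at this
  exact absurd this (by norm_num)

theorem hom_injective {K : Type*} [Group K] (f : G →* K) (hf : f.range ≠ ⊥) : Function.Injective f := by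
  rw [← MonoidHom.ker_eq_bot_iff]
  rcases IsSimpleGroup.eq_bot_or_eq_top_of_normal _ (MonoidHom.normal_ker f) with h | h
  · exact h
  · exact absurd (MonoidHom.range_eq_bot_iff.2 (MonoidHom.ker_eq_top_iff.1 h)) hf

theorem sign_eq_one (h : Nat.card G = 360) {α : Type*} [Fintype α] [DecidableEq α] (f : G →* Perm α)
    (g : G) : Perm.sign (f g) = 1 := by
  by_contra hne
  have hinj : Function.Injective (Perm.sign.comp f) := hom_injective _ fun hb =>
    hne ((MonoidHom.range_eq_bot_iff.1 hb ▸ rfl : (Perm.sign.comp f) g = (1 : G →* ℤˣ) g))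
  have h1 := Nat.card_le_card_of_injective _ hinj
  rw [h, Nat.card_eq_fintype_card, Fintype.card_units_int] at h1
  omega

/-- A proper subgroup has order at most `60`. -/
theorem proper_card_le (h : Nat.card G = 360) {H : Subgroup G} (hH : H ≠ ⊤) : Nat.card H ≤ 60 := by
  classical
  by_contra hlt
  push Not at hlt
  have h1 := H.card_mul_index
  rw [h] at h1
  have hi : H.index ≤ 5 := by nlinarith
  haveI := Fintype.ofFinite (G ⧸ H)
  have hinj : Function.Injective (MulAction.toPermHom G (G ⧸ H)) := by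
    refine hom_injective _ fun hb => hH ?_
    rw [MonoidHom.range_eq_bot_iff] at hb
    refine (Subgroup.eq_top_iff' _).2 fun g => ?_
    have h2 : g • ((1 : G) : G ⧸ H) = ((1 : G) : G ⧸ H) := by
      simpa [MulAction.toPermHom_apply] using DFunLike.congr_fun (DFunLike.congr_fun hb g) ((1 : G) : G ⧸ H)
    rw [MulAction.Quotient.smul_coe, smul_eq_mul, mul_one] at h2
    simpa using QuotientGroup.eq.1 h2
  have h2 := Nat.card_le_card_of_injective _ hinj
  rw [h, Nat.card_perm, ← Subgroup.index_eq_card] at h2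
  exact absurd (h2.trans (Nat.factorial_le hi)) (by decide)

theorem not_burnside (h : Nat.card G = 360) {p : ℕ} [Fact p.Prime] (hp : p ∣ 360) (P : Sylow p G) :
    ¬ normalizer ((P : Subgroup G) : Set G) ≤ centralizer ((P : Subgroup G) : Set G) :=
  fun hP => Cfsg.Agent.Fus.simple_no_complement (not_comm h) (h ▸ hp)
    ⟨P, _, inferInstance, MonoidHom.ker_transferSylow_isComplement' P hP⟩

theorem sylow_three_card (h : Nat.card G = 360) [Fact (Nat.Prime 3)] (P : Sylow 3 G) :
    Nat.card (P : Subgroup G) = 9 := by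
  have h1 := Sylow.card_eq_multiplicity P
  rw [h] at h1
  rw [h1, show (360 : ℕ) = 3 ^ 2 * 40 by norm_num, Nat.factorization_mul (by norm_num) (by norm_num),
    Finsupp.add_apply, Nat.Prime.factorization_pow (by norm_num),
    Nat.factorization_eq_zero_of_not_dvd (by norm_num : ¬ 3 ∣ 40)]
  simp

theorem sylow_three (h : Nat.card G = 360) [Fact (Nat.Prime 3)] (P : Sylow 3 G) :
    Nat.card (Sylow 3 G) = 10 ∧ Nat.card (normalizer ((P : Subgroup G) : Set G)) = 36 := by
  have h9 := sylow_three_card h P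
  have hn : Nat.card (Sylow 3 G) = (normalizer ((P : Subgroup G) : Set G)).index :=
    P.card_eq_index_normalizer
  have h1 := (normalizer ((P : Subgroup G) : Set G)).card_mul_index
  rw [← hn, h] at h1
  have hmod := card_sylow_modEq_one 3 G
  rw [Nat.ModEq] at hmod
  obtain ⟨c, hc⟩ : 9 ∣ Nat.card (normalizer ((P : Subgroup G) : Set G)) :=
    h9 ▸ Subgroup.card_dvd_of_le Subgroup.le_normalizer
  have hd : Nat.card (Sylow 3 G) ∣ 40 := ⟨c, by rw [hc] at h1; nlinarith⟩
  have hle := Nat.le_of_dvd (by norm_num) hd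
  have hcases : Nat.card (Sylow 3 G) = 1 ∨ Nat.card (Sylow 3 G) = 4 ∨ Nat.card (Sylow 3 G) = 10 ∨
      Nat.card (Sylow 3 G) = 40 :=
    (by decide : ∀ n ≤ 40, n ∣ 40 → n % 3 = 1 → n = 1 ∨ n = 4 ∨ n = 10 ∨ n = 40) _ hle hd hmod
  rcases hcases with e | e | e | e <;> rw [e] at h1
  · exfalso
    have htop : normalizer ((P : Subgroup G) : Set G) = ⊤ :=
      Subgroup.eq_top_of_card_eq _ (by omega)
    rcases IsSimpleGroup.eq_bot_or_eq_top_of_normal _ (Subgroup.normalizer_eq_top_iff.1 htop) with e' | e' <;>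
      rw [e'] at h9
    · simp at h9
    · rw [Subgroup.card_top, h] at h9; norm_num at h9
  · exfalso
    have hne : normalizer ((P : Subgroup G) : Set G) ≠ ⊤ := by
      intro e'; rw [e', Subgroup.card_top, h] at h1; omega
    have := proper_card_le h hne
    omega
  · exact ⟨e, by omega⟩
  · exfalso
    refine not_burnside h (by norm_num) P ?_
    have hPN : (P : Subgroup G) = normalizer ((P : Subgroup G) : Set G) :=
      Subgroup.eq_of_le_of_card_ge Subgroup.le_normalizer (by omega)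
    haveI : IsMulCommutative (P : Subgroup G) :=
      ⟨⟨IsPGroup.commutative_of_card_eq_prime_sq (p := 3) (by rw [h9]; norm_num)⟩⟩
    rw [← hPN]
    exact Subgroup.le_centralizer _

/-- Distinct Sylow `3`-subgroups meet trivially. -/
theorem inf_eq_bot (h : Nat.card G = 360) [Fact (Nat.Prime 3)] {P Q : Sylow 3 G} (hne : P ≠ Q) :
    (P : Subgroup G) ⊓ (Q : Subgroup G) = ⊥ := by
  classical
  by_contra hX
  obtain ⟨x, hx, hx1⟩ := (Subgroup.bot_or_exists_ne_one _).resolve_left hX
  set C := centralizer ({x} : Set G) with hC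
  have hle : ∀ R : Sylow 3 G, x ∈ (R : Subgroup G) → (R : Subgroup G) ≤ C := fun R hR y hy =>
    Subgroup.mem_centralizer_singleton_iff.2 (congrArg Subtype.val
      ((IsPGroup.commutative_of_card_eq_prime_sq (p := 3)
        (by rw [sylow_three_card h R]; norm_num)) ⟨y, hy⟩ ⟨x, hR⟩))
  have hPC := hle P hx.1
  have hQC := hle Q hx.2
  have hCne : C ≠ ⊤ := by
    intro e
    have hxc : x ∈ Subgroup.center G := Subgroup.mem_center_iff.2 fun y =>
      Subgroup.mem_centralizer_singleton_iff.1 (e ▸ Subgroup.mem_top y : y ∈ C)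
    rcases IsSimpleGroup.eq_bot_or_eq_top_of_normal (Subgroup.center G) inferInstance with e' | e'
    · exact hx1 (Subgroup.mem_bot.1 (e' ▸ hxc))
    · exact not_comm h ⟨⟨fun a b => (Subgroup.mem_center_iff.1 (e' ▸ Subgroup.mem_top a) b).symm⟩⟩
  have h60 := proper_card_le h hCne
  have h9 : 9 ∣ Nat.card C := sylow_three_card h P ▸ Subgroup.card_dvd_of_le hPC
  have hd : Nat.card C ∣ 360 := h ▸ C.card_subgroup_dvd_card
  set P' : Sylow 3 C := P.subtype hPC
  have hP' : Nat.card (P' : Subgroup C) = 9 := by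
    rw [show ((P' : Sylow 3 C) : Subgroup C) = (P : Subgroup G).subgroupOf C from rfl,
      Nat.card_congr (Subgroup.subgroupOfEquivOfLe hPC).toEquiv, sylow_three_card h P]
  have hn1 : Nat.card (Sylow 3 C) ≠ 1 := by
    intro e
    haveI : Subsingleton (Sylow 3 C) := (Nat.card_eq_one_iff_unique.1 e).1
    have heq : Q.subtype hQC = P' := Subsingleton.elim _ _
    refine hne (Sylow.ext (le_antisymm (fun y hy => ?_) fun y hy => ?_))
    · have : (⟨y, hPC hy⟩ : C) ∈ (Q.subtype hQC : Sylow 3 C).toSubgroup := heq ▸ hy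
      exact this
    · have : (⟨y, hQC hy⟩ : C) ∈ (P' : Sylow 3 C).toSubgroup := heq ▸ hy
      exact this
  have hidx : Nat.card (Sylow 3 C) = (normalizer ((P' : Subgroup C) : Set C)).index :=
    P'.card_eq_index_normalizer
  have hNd := (normalizer ((P' : Subgroup C) : Set C)).card_mul_index
  rw [← hidx] at hNd
  obtain ⟨c, hc⟩ : 9 ∣ Nat.card (normalizer ((P' : Subgroup C) : Set C)) :=
    hP' ▸ Subgroup.card_dvd_of_le Subgroup.le_normalizer
  have hmod := card_sylow_modEq_one 3 C
  rw [Nat.ModEq] at hmod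
  rw [hc] at hNd
  obtain ⟨hC36, hc1⟩ : Nat.card C = 36 ∧ c = 1 := by
    obtain ⟨d, hd'⟩ := h9
    have hcd : c * Nat.card (Sylow 3 C) = d := by nlinarith
    have hd6 : d ≤ 6 := by omega
    have hdd : d ∣ 40 := Nat.dvd_of_mul_dvd_mul_left (by norm_num : 0 < 9) (hd' ▸ hd)
    have hs2 : 4 ≤ Nat.card (Sylow 3 C) := by
      have := Nat.card_pos (α := Sylow 3 C)
      omega
    have hc0 : c ≠ 0 := by rintro rfl; rw [mul_zero, zero_mul] at hNd; exact Nat.card_pos.ne' hNd.symm
    have hc1 : c = 1 := by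
      by_contra h'
      have : 2 * 4 ≤ c * Nat.card (Sylow 3 C) := Nat.mul_le_mul (by omega) hs2
      omega
    subst hc1
    rw [one_mul] at hcd
    have h4 : d = 4 :=
      (by decide : ∀ d ≤ 6, d ∣ 40 → d % 3 = 1 → d ≠ 1 → d = 4) d hd6 hdd (hcd ▸ hmod) (by omega)
    exact ⟨by omega, rfl⟩
  haveI : IsMulCommutative (P' : Subgroup C) :=
    ⟨⟨IsPGroup.commutative_of_card_eq_prime_sq (p := 3) (by rw [hP']; norm_num)⟩⟩
  have hPN : (P' : Subgroup C) = normalizer ((P' : Subgroup C) : Set C) :=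
    Subgroup.eq_of_le_of_card_ge Subgroup.le_normalizer (by rw [hc, hc1, hP'])
  have hcompl := MonoidHom.ker_transferSylow_isComplement' P' (hPN ▸ Subgroup.le_centralizer _)
  set K := (MonoidHom.transferSylow P' (hPN ▸ Subgroup.le_centralizer _)).ker
  haveI hKn : K.Normal := MonoidHom.normal_ker _
  have hK4 : Nat.card K = 4 := by
    have := hcompl.card_mul_card
    rw [hC36, hP'] at this
    omega
  set K' := K.map C.subtype with hK'
  have hK'4 : Nat.card K' = 4 := by rw [hK', card_map_of_injective C.subtype_injective, hK4]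
  have hCN : C ≤ normalizer (K' : Set G) := fun y hy =>
    Subgroup.le_normalizer_map C.subtype
      (Subgroup.mem_map.2 ⟨⟨y, hy⟩, by rw [Subgroup.normalizer_eq_top_iff.2 hKn]; trivial, rfl⟩)
  haveI := Fact.mk Nat.prime_two
  obtain ⟨T, hT8, hKT⟩ := Sylow.exists_subgroup_card_pow_succ (G := G) (p := 2) (n := 2)
    (by rw [h]; norm_num) (by rw [hK'4]; norm_num : Nat.card K' = 2 ^ 2)
  have hTN : T ≤ normalizer (K' : Set G) := by
    have hn : (K'.subgroupOf T).Normal := Subgroup.normal_of_index_eq_two (by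
      have := (K'.subgroupOf T).card_mul_index
      rw [Nat.card_congr (Subgroup.subgroupOfEquivOfLe hKT).toEquiv, hK'4, hT8] at this
      omega)
    exact (Subgroup.normal_subgroupOf_iff_le_normalizer hKT).1 hn
  have hne' : normalizer (K' : Set G) ≠ ⊤ := by
    intro e
    rcases IsSimpleGroup.eq_bot_or_eq_top_of_normal _ (Subgroup.normalizer_eq_top_iff.1 e) with e' | e'
    · rw [e', Subgroup.card_bot] at hK'4; norm_num at hK'4
    · rw [e', Subgroup.card_top, h] at hK'4; norm_num at hK'4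
  have hle' := proper_card_le h hne'
  have hd1 := Subgroup.card_dvd_of_le hCN
  have hd2 := Subgroup.card_dvd_of_le hTN
  rw [hC36] at hd1
  rw [hT8] at hd2
  have h72 : 72 ∣ Nat.card (normalizer (K' : Set G)) := Nat.lcm_dvd hd1 hd2
  have := Nat.le_of_dvd Nat.card_pos h72
  omega

theorem sq_add_one_ne : ∀ z : ZMod 3, z * z + 1 ≠ 0 := by decide

/-- No element of order `8`. -/
theorem no_eight (h : Nat.card G = 360) (g : G) : orderOf g ≠ 8 := by
  intro hg
  haveI := Fact.mk Nat.prime_two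
  let T : Sylow 2 G := Sylow.ofCard (zpowers g) (by
    rw [Nat.card_zpowers, hg, h, show (360 : ℕ) = 2 ^ 3 * 45 by norm_num,
      Nat.factorization_mul (by norm_num) (by norm_num), Finsupp.add_apply,
      Nat.Prime.factorization_pow (by norm_num), Nat.factorization_eq_zero_of_not_dvd (by norm_num : ¬ 2 ∣ 45)]
    simp)
  have hT : IsCyclic (T : Subgroup G) := (inferInstance : IsCyclic (zpowers g))
  refine not_burnside h (by norm_num) T (hT.normalizer_le_centralizer (P := T) ?_)
  rw [h]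
  exact (Nat.minFac_eq_two_iff _).2 (by norm_num)

/-- The Sylow action. -/
theorem fix_only (h : Nat.card G = 360) [Fact (Nat.Prime 3)] {P Q : Sylow 3 G} (hne : P ≠ Q) {a : G}
    (ha : a ∈ (P : Subgroup G)) (hQ : a • Q = Q) : a = 1 := by
  have h1 : a ∈ normalizer ((Q : Subgroup G) : Set G) := Sylow.smul_eq_iff_mem_normalizer.1 hQ
  have hp : IsPGroup 3 (zpowers a) := P.isPGroup'.to_le (zpowers_le.2 ha)
  have hsup := hp.to_sup_of_normal_right' Q.isPGroup' (zpowers_le.2 h1)
  have h2 := Q.3 hsup le_sup_right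
  have h3 : a ∈ (Q : Subgroup G) := h2 ▸ (le_sup_left : zpowers a ≤ _) (mem_zpowers a)
  exact Subgroup.mem_bot.1 (inf_eq_bot h hne ▸ ⟨ha, h3⟩)

/-- The point stabiliser labelled by a basis of its Sylow subgroup. -/
theorem label (h : Nat.card G = 360) [Fact (Nat.Prime 3)] {P Q : Sylow 3 G} (hne : P ≠ Q) {a b : G}
    (ha : a ∈ (P : Subgroup G)) (hb : b ∈ (P : Subgroup G)) (ha1 : a ≠ 1)
    (hb1 : b ∉ zpowers a) (ha3 : a ^ 3 = 1) (hb3 : b ^ 3 = 1) :
    ∃ f : G →* Perm (Fin 10), Function.Injective f ∧ f a = t₁ ∧ f b = t₂ ∧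
      (∀ u : G, f u 9 = 9 ↔ u ∈ normalizer ((P : Subgroup G) : Set G)) ∧
      (∀ u : G, f u 0 = 0 ↔ u • Q = Q) ∧
      (∀ u : G, f u 9 = 9 → f u 0 = 0 → ∀ p q r s : Fin 3,
        u * a * u⁻¹ = a ^ (p : ℕ) * b ^ (r : ℕ) → u * b * u⁻¹ = a ^ (q : ℕ) * b ^ (s : ℕ) →
        ∀ x, f u x = aff p q r s 0 0 x) ∧
      ∀ y ∈ (P : Subgroup G), ∃ i j : Fin 3, y = a ^ (i : ℕ) * b ^ (j : ℕ) := by
  classical
  have hcomm' := IsPGroup.commutative_of_card_eq_prime_sq (p := 3) (by rw [sylow_three_card h P]; norm_num :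
    Nat.card (P : Subgroup G) = 3 ^ 2)
  have hcomm : Commute a b :=
    show a * b = b * a from congrArg Subtype.val (hcomm' ⟨a, ha⟩ ⟨b, hb⟩)
  set el : Fin 3 → Fin 3 → G := fun i j => a ^ (i : ℕ) * b ^ (j : ℕ) with hel
  have helP : ∀ i j, el i j ∈ (P : Subgroup G) := fun i j => mul_mem (pow_mem ha _) (pow_mem hb _)
  have hmula : ∀ i i' : Fin 3, a ^ (i : ℕ) * a ^ (i' : ℕ) = a ^ ((i + i' : Fin 3) : ℕ) := fun i i' => by
    rw [← pow_add, Fin.val_add, ← pow_eq_pow_mod _ ha3]
  have hmulb : ∀ i i' : Fin 3, b ^ (i : ℕ) * b ^ (i' : ℕ) = b ^ ((i + i' : Fin 3) : ℕ) := fun i i' => by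
    rw [← pow_add, Fin.val_add, ← pow_eq_pow_mod _ hb3]
  have helmul : ∀ i j i' j', el i j * el i' j' = el (i + i') (j + j') := fun i j i' j' => by
    simp only [hel]
    rw [← hmula, ← hmulb, (hcomm.pow_pow (i' : ℕ) (j : ℕ)).symm.mul_mul_mul_comm]
  have hel00 : el 0 0 = 1 := by simp [hel]
  have hinj : ∀ i j i' j', el i j = el i' j' → i = i' ∧ j = j' := by
    intro i j i' j' e
    have h0 : el (i - i') (j - j') = 1 := by
      have h1 : el (i - i') (j - j') * el i' j' = el i j := by rw [helmul, sub_add_cancel, sub_add_cancel]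
      rw [← e, mul_eq_right] at h1
      exact h1
    have hj : j - j' = 0 := by
      by_contra hne'
      refine hb1 ?_
      have hbj : b ^ ((j - j' : Fin 3) : ℕ) ∈ zpowers a := by
        simp only [hel] at h0
        rw [← eq_inv_of_mul_eq_one_right h0 |>.symm]
        exact inv_mem (pow_mem (mem_zpowers a) _)
      rcases (by decide : ∀ k : Fin 3, k ≠ 0 → (k : ℕ) = 1 ∨ (k : ℕ) = 2) _ hne' with e' | e' <;>
        rw [e'] at hbj
      · rwa [pow_one] at hbj
      · have := pow_mem hbj 2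
        rwa [← pow_mul, pow_eq_pow_mod _ hb3, pow_one] at this
    simp only [hel, hj, Fin.val_zero, pow_zero, mul_one] at h0
    refine ⟨?_, sub_eq_zero.1 hj⟩
    rcases (by decide : ∀ k : Fin 3, k = 0 ∨ (k : ℕ) = 1 ∨ (k : ℕ) = 2) (i - i') with e' | e' | e'
    · exact sub_eq_zero.1 e'
    · rw [e', pow_one] at h0; exact absurd h0 ha1
    · rw [e'] at h0
      have : a ^ 3 = a := by rw [pow_succ, h0, one_mul]
      rw [ha3] at this
      exact absurd this.symm ha1
  -- the labelling
  set v : Fin 10 → Sylow 3 G := fun x => if x = 9 then P else el (xx x) (yy x) • Q with hv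
  have hvinj : Function.Injective v := by
    have hpt : ∀ x y : Fin 10, x ≠ 9 → y ≠ 9 → xx x = xx y → yy x = yy y → x = y := by decide
    have hfixP : ∀ i j, el i j • P = P := fun i j =>
      Sylow.smul_eq_iff_mem_normalizer.2 (Subgroup.le_normalizer (helP i j))
    intro x y e
    simp only [hv] at e
    by_cases hx : x = 9 <;> by_cases hy : y = 9
    · rw [hx, hy]
    · rw [if_pos hx, if_neg hy] at e
      exact absurd (smul_left_cancel _ ((hfixP _ _).trans e)) hne
    · rw [if_neg hx, if_pos hy] at e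
      exact absurd (smul_left_cancel _ ((hfixP _ _).trans e.symm)) hne
    · rw [if_neg hx, if_neg hy] at e
      have h1 : ((el (xx x) (yy x))⁻¹ * el (xx y) (yy y)) • Q = Q := by rw [mul_smul, ← e, inv_smul_smul]
      have h2 := fix_only h hne (mul_mem (inv_mem (helP _ _)) (helP _ _)) h1
      obtain ⟨e1, e2⟩ := hinj _ _ _ _ (inv_mul_eq_one.1 h2)
      exact hpt x y hx hy e1 e2
  have hvbij : Function.Bijective v := (Nat.bijective_iff_injective_and_card v).2
    ⟨hvinj, by rw [Nat.card_eq_fintype_card, Fintype.card_fin, (sylow_three h P).1]⟩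
  set e : Fin 10 ≃ Sylow 3 G := Equiv.ofBijective v hvbij
  set f : G →* Perm (Fin 10) := e.symm.permCongrHom.toMonoidHom.comp (MulAction.toPermHom G (Sylow 3 G))
  have hf : ∀ u x, v (f u x) = u • v x := fun u x => e.apply_symm_apply (u • e x)
  have hf' : ∀ u x y, u • v x = v y → f u x = y := fun u x y hxy => hvinj ((hf u x).trans hxy)
  have hv9 : v 9 = P := by simp [hv]
  have hvp : ∀ i j, v (pt i j) = el i j • Q := by
    intro i j
    have h1 : ∀ i j : Fin 3, pt i j ≠ 9 ∧ xx (pt i j) = i ∧ yy (pt i j) = j := by decide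
    simp only [hv, if_neg (h1 i j).1, (h1 i j).2.1, (h1 i j).2.2]
  have hv0 : v 0 = Q := by
    rw [show (0 : Fin 10) = pt 0 0 by decide, hvp, hel00, one_smul]
  have hcases : ∀ x : Fin 10, x = 9 ∨ x = pt (xx x) (yy x) := by decide
  have htrans : ∀ i₀ j₀ x, f (el i₀ j₀) x = aff 1 0 0 1 i₀ j₀ x := by
    intro i₀ j₀ x
    refine hf' _ _ _ ?_
    by_cases hx : x = 9
    · subst hx
      rw [aff, if_pos rfl, hv9]
      exact Sylow.smul_eq_iff_mem_normalizer.2 (Subgroup.le_normalizer (helP _ _))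
    · rw [aff, if_neg hx, hvp]
      conv_lhs => rw [(hcases x).resolve_left hx, hvp, ← mul_smul, helmul]
      simp only [one_mul, zero_mul, add_zero, zero_add, add_comm i₀, add_comm j₀]
  refine ⟨f, hom_injective f ?_, ?_, ?_, ?_, ?_, ?_, ?_⟩
  · intro hb'
    rw [MonoidHom.range_eq_bot_iff] at hb'
    have h1 : f a = 1 := DFunLike.congr_fun hb' a
    have h2 := htrans 1 0 0
    simp only [hel, Fin.val_one, Fin.val_zero, pow_zero, pow_one, mul_one, h1] at h2
    exact absurd h2 (by decide)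
  · refine Equiv.ext fun x => ?_
    have h1 := htrans 1 0 x
    simp only [hel, Fin.val_one, Fin.val_zero, pow_zero, pow_one, mul_one] at h1
    exact h1
  · refine Equiv.ext fun x => ?_
    have h1 := htrans 0 1 x
    simp only [hel, Fin.val_one, Fin.val_zero, pow_zero, pow_one, one_mul] at h1
    exact h1
  · intro u
    refine Iff.trans ?_ Sylow.smul_eq_iff_mem_normalizer
    refine ⟨fun e' => ?_, fun e' => hf' _ _ _ (by rw [hv9, e'])⟩
    have := hf u 9
    rw [e', hv9] at this
    exact this.symm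
  · intro u
    refine ⟨fun e' => ?_, fun e' => hf' _ _ _ (by rw [hv0, e'])⟩
    have := hf u 0
    rw [e', hv0] at this
    exact this.symm
  · intro u h9 h0 p q r s hua hub x
    refine hf' _ _ _ ?_
    by_cases hx : x = 9
    · subst hx
      rw [aff, if_pos rfl]
      have := hf u 9
      rw [h9] at this
      exact this.symm
    · have hQu : u • Q = Q := by
        have := hf u 0
        rw [h0, hv0] at this
        exact this.symm
      rw [aff, if_neg hx, hvp]
      conv_lhs => rw [(hcases x).resolve_left hx, hvp]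
      have hpow : ∀ (i : Fin 3) (p r : Fin 3), (el p r) ^ (i : ℕ) = el (p * i) (r * i) := by
        intro i p r
        fin_cases i
        · simp [hel00]
        · simp
        · rw [show ((⟨2, by omega⟩ : Fin 3) : ℕ) = 2 from rfl, pow_two, helmul]
          congr 1 <;> ((try revert p); (try revert r); decide)
      have hconj : u * el (xx x) (yy x) * u⁻¹ =
          el (p * xx x + q * yy x) (r * xx x + s * yy x) := by
        rw [← helmul, ← hpow, ← hpow]
        simp only [hel]
        rw [← hua, ← hub, conj_pow, conj_pow]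
        group
      rw [← mul_smul, show u * el (xx x) (yy x) = (u * el (xx x) (yy x) * u⁻¹) * u by group, mul_smul,
        hQu, hconj]
      simp
  · intro y hy
    obtain ⟨x, hx⟩ := hvbij.2 (y • Q)
    have hx9 : x ≠ 9 := by
      rintro rfl
      rw [hv9] at hx
      have hyP : y • P = P := Sylow.smul_eq_iff_mem_normalizer.2 (Subgroup.le_normalizer hy)
      exact hne (smul_left_cancel _ (hyP.trans hx))
    simp only [hv, if_neg hx9] at hx
    refine ⟨xx x, yy x, ?_⟩
    have h1 : ((el (xx x) (yy x))⁻¹ * y) • Q = Q := by rw [mul_smul, ← hx, inv_smul_smul]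
    exact (inv_mul_eq_one.1 (fix_only h hne (mul_mem (inv_mem (helP _ _)) hy) h1)).symm

theorem per_dvd {f : Perm (Fin 10)} {n L : ℕ} (hn : f ^ n = 1) (hL : 0 < L)
    (h : Per (f : Fin 10 → Fin 10) L) : L ∣ n := by
  obtain ⟨y, hy, hmin⟩ := h
  rw [Nat.dvd_iff_mod_eq_zero]
  by_contra hr
  refine hmin ⟨n % L, Nat.mod_lt _ hL⟩ hr ?_
  have h1 : (f : Fin 10 → Fin 10)^[n] y = y := by rw [← Equiv.Perm.coe_pow, hn]; rfl
  have h2 : (f : Fin 10 → Fin 10)^[L * (n / L)] y = y :=
    Function.IsPeriodicPt.mul_const (show Function.IsPeriodicPt (f : Fin 10 → Fin 10) L y from hy) _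
  conv_lhs at h1 => rw [← Nat.mod_add_div n L, Function.iterate_add_apply, h2]
  exact h1

/-- Normal form. -/
theorem exists_normal_form (h : Nat.card G = 360) :
    ∃ f : G →* Perm (Fin 10), Function.Injective f ∧ f.range = closure {t₁, t₂, mm, w₀} := by
  classical
  haveI := Fact.mk (show Nat.Prime 3 by norm_num)
  haveI := Fact.mk Nat.prime_two
  obtain ⟨P⟩ : Nonempty (Sylow 3 G) := inferInstance
  have h9 := sylow_three_card h P
  have hcomP := IsPGroup.commutative_of_card_eq_prime_sq (p := 3) (by rw [h9]; norm_num :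
    Nat.card (P : Subgroup G) = 3 ^ 2)
  obtain ⟨Q, hQ⟩ : ∃ Q : Sylow 3 G, P ≠ Q := by
    haveI : Nontrivial (Sylow 3 G) :=
      Finite.one_lt_card_iff_nontrivial.1 (by rw [(sylow_three h P).1]; norm_num)
    obtain ⟨Q, hQ⟩ := exists_ne P
    exact ⟨Q, hQ.symm⟩
  set N := normalizer ((P : Subgroup G) : Set G) with hN
  -- the two point stabiliser
  set M := N ⊓ MulAction.stabilizer G Q with hM
  have hMsplit : ∀ n ∈ N, ∃ a ∈ (P : Subgroup G), ∃ u ∈ M, n = a * u := by
    intro n hn
    have hnP : n • P = P := Sylow.smul_eq_iff_mem_normalizer.2 hn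
    have hbij : Function.Bijective (fun a : (P : Subgroup G) =>
        (⟨(a : G) • Q, fun e => hQ (smul_left_cancel _
          ((Sylow.smul_eq_iff_mem_normalizer.2 (Subgroup.le_normalizer a.2)).trans e.symm))⟩ :
            {R : Sylow 3 G // R ≠ P})) := by
      refine (Nat.bijective_iff_injective_and_card _).2 ⟨fun a b e => ?_, ?_⟩
      · have e' : (a : G) • Q = (b : G) • Q := congrArg Subtype.val e
        have h1 : ((a : G)⁻¹ * b) • Q = Q := by rw [mul_smul, ← e', inv_smul_smul]
        exact Subtype.ext (inv_mul_eq_one.1 (fix_only h hQ (mul_mem (inv_mem a.2) b.2) h1))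
      · rw [h9]
        haveI := Fintype.ofFinite (Sylow 3 G)
        rw [Nat.card_eq_fintype_card, Fintype.card_subtype_compl, Fintype.card_subtype_eq,
          ← Nat.card_eq_fintype_card, (sylow_three h P).1]
    obtain ⟨a, ha⟩ := hbij.2 ⟨n • Q, fun e => hQ (smul_left_cancel _ (hnP.trans e.symm))⟩
    have ha' : (a : G) • Q = n • Q := congrArg Subtype.val ha
    refine ⟨a, a.2, (a : G)⁻¹ * n, Subgroup.mem_inf.2
      ⟨mul_mem (inv_mem (Subgroup.le_normalizer a.2)) hn, ?_⟩, by group⟩
    rw [MulAction.mem_stabilizer_iff, mul_smul, ← ha', inv_smul_smul]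
  have hM4 : Nat.card M = 4 := by
    let φ : ↥(P : Subgroup G) × ↥M → ↥N := fun x =>
      ⟨(x.1 : G) * x.2, mul_mem (Subgroup.le_normalizer x.1.2) x.2.2.1⟩
    have hφ : Function.Bijective φ := by
      refine ⟨fun x y e => ?_, fun n => ?_⟩
      · have e' : (x.1 : G) * x.2 = y.1 * y.2 := congrArg Subtype.val e
        have h1 : ((y.1 : G)⁻¹ * x.1) = (y.2 : G) * (x.2 : G)⁻¹ := by
          rw [eq_mul_inv_iff_mul_eq, mul_assoc, e', inv_mul_cancel_left]
        have h2 : ((y.1 : G)⁻¹ * x.1) • Q = Q := by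
          rw [h1]; exact (M.mul_mem y.2.2 (M.inv_mem x.2.2)).2
        have h3 := fix_only h hQ (mul_mem (inv_mem y.1.2) x.1.2) h2
        rw [h3, eq_comm, mul_inv_eq_one] at h1
        rw [inv_mul_eq_one] at h3
        exact Prod.ext (Subtype.ext h3.symm) (Subtype.ext h1.symm)
      · obtain ⟨a, ha, u, hu, e⟩ := hMsplit n n.2
        exact ⟨(⟨a, ha⟩, ⟨u, hu⟩), Subtype.ext e.symm⟩
    have := Nat.card_congr (Equiv.ofBijective φ hφ)
    rw [Nat.card_prod, h9, (sylow_three h P).2] at this
    omega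
  -- an involution inverts `P`
  have hfaith : ∀ u ∈ M, (∀ y ∈ (P : Subgroup G), u * y * u⁻¹ = y) → u = 1 := by
    intro u hu hc
    have hker : ∀ R : Sylow 3 G, u • R = R := by
      intro R
      by_cases hR : R = P
      · rw [hR]; exact Sylow.smul_eq_iff_mem_normalizer.2 hu.1
      · have hbij : Function.Bijective (fun a : (P : Subgroup G) =>
            (⟨(a : G) • Q, fun e => hQ (smul_left_cancel _
              ((Sylow.smul_eq_iff_mem_normalizer.2 (Subgroup.le_normalizer a.2)).trans e.symm))⟩ :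
                {R : Sylow 3 G // R ≠ P})) := by
          refine (Nat.bijective_iff_injective_and_card _).2 ⟨fun a b e => ?_, ?_⟩
          · have e' : (a : G) • Q = (b : G) • Q := congrArg Subtype.val e
            have h1 : ((a : G)⁻¹ * b) • Q = Q := by rw [mul_smul, ← e', inv_smul_smul]
            exact Subtype.ext (inv_mul_eq_one.1 (fix_only h hQ (mul_mem (inv_mem a.2) b.2) h1))
          · rw [h9]
            haveI := Fintype.ofFinite (Sylow 3 G)
            rw [Nat.card_eq_fintype_card, Fintype.card_subtype_compl, Fintype.card_subtype_eq,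
              ← Nat.card_eq_fintype_card, (sylow_three h P).1]
        obtain ⟨a, ha⟩ := hbij.2 ⟨R, hR⟩
        have ha' : (a : G) • Q = R := congrArg Subtype.val ha
        rw [← ha', ← mul_smul, show u * (a : G) = (u * a * u⁻¹) * u by group, hc a a.2, mul_smul]
        rw [MulAction.mem_stabilizer_iff.1 hu.2]
    have hinj : Function.Injective (MulAction.toPermHom G (Sylow 3 G)) := by
      refine hom_injective _ fun hb => hQ ?_
      rw [MonoidHom.range_eq_bot_iff] at hb
      obtain ⟨g, hg⟩ := MulAction.exists_smul_eq G P Q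
      rw [← hg]
      exact (DFunLike.congr_fun (DFunLike.congr_fun hb g) P).symm
    refine hinj ?_
    rw [map_one]
    exact Equiv.ext hker
  have hMP : ∀ v ∈ M, v ∈ (P : Subgroup G) → v = 1 := fun v hv hvP => fix_only h hQ hvP hv.2
  have hexp : ∀ x ∈ (P : Subgroup G), x ^ 3 = 1 := by
    intro x hx
    by_contra hx3
    have hx9 : orderOf x = 9 := by
      have hd : orderOf x ∣ 3 ^ 2 := (Subgroup.orderOf_dvd_natCard _ hx).trans (dvd_of_eq h9)
      obtain ⟨k, hk, hke⟩ := (Nat.dvd_prime_pow (Fact.out : Nat.Prime 3)).1 hd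
      have h1 : ¬ orderOf x ∣ 3 := fun e => hx3 (orderOf_dvd_iff_pow_eq_one.1 e)
      rw [hke] at h1 ⊢
      interval_cases k <;> first | rfl | exact absurd (by norm_num) h1
    have hPx : zpowers x = (P : Subgroup G) :=
      Subgroup.eq_of_le_of_card_ge (zpowers_le.2 hx) (by rw [h9, Nat.card_zpowers, hx9])
    have hex : ∀ v : M, ∃ k : Fin 9, (v : G) * x * (v : G)⁻¹ = x ^ (k : ℕ) := by
      intro v
      have h1 := (Subgroup.mem_normalizer_iff.1 v.2.1 x).1 hx
      rw [← hPx, ← mem_powers_iff_mem_zpowers, Submonoid.mem_powers_iff] at h1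
      obtain ⟨i, hi⟩ := h1
      exact ⟨⟨i % 9, Nat.mod_lt _ (by norm_num)⟩,
        hi.symm.trans (pow_eq_pow_mod i (hx9 ▸ pow_orderOf_eq_one x))⟩
    choose κ hκ using hex
    have hκ2 : ∀ v : M, κ v = 1 ∨ κ v = 8 := by
      intro v
      have hv4 : (v : G) ^ 4 = 1 := by
        have := congrArg Subtype.val (pow_card_eq_one' (x := v))
        rwa [hM4] at this
      have hit : ∀ n : ℕ, (v : G) ^ n * x * ((v : G) ^ n)⁻¹ = x ^ ((κ v : ℕ) ^ n) := by
        intro n
        induction n with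
        | zero => simp
        | succ n ih =>
          rw [pow_succ' (v : G), show (v : G) * (v : G) ^ n * x * ((v : G) * (v : G) ^ n)⁻¹ =
            (v : G) * ((v : G) ^ n * x * ((v : G) ^ n)⁻¹) * (v : G)⁻¹ by group, ih, ← conj_pow, hκ v,
            ← pow_mul, pow_succ']
      have h1 := hit 4
      rw [hv4, one_mul, inv_one, mul_one] at h1
      conv_lhs at h1 => rw [← pow_one x]
      rw [pow_eq_pow_iff_modEq, hx9] at h1
      exact (by decide : ∀ k : Fin 9, 1 % 9 = (k : ℕ) ^ 4 % 9 → k = 1 ∨ k = 8) _ h1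
    have hinj : Function.Injective κ := by
      intro v v' e
      have h1 : ((v : G)⁻¹ * v') * x * ((v : G)⁻¹ * v')⁻¹ = x := by
        rw [show ((v : G)⁻¹ * v') * x * ((v : G)⁻¹ * v')⁻¹ =
          (v : G)⁻¹ * ((v' : G) * x * (v' : G)⁻¹) * v by group, hκ v', ← e, ← hκ v]
        group
      refine Subtype.ext (inv_mul_eq_one.1 (hfaith _ (mul_mem (inv_mem v.2) v'.2) fun y hy => ?_))
      rw [← hPx] at hy
      obtain ⟨k, rfl⟩ := mem_zpowers_iff.1 hy
      rw [← conj_zpow, h1]
    haveI := Fintype.ofFinite M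
    have h1 : (Finset.univ.image κ).card ≤ 2 := by
      refine (Finset.card_le_card (t := {1, 8}) fun k hk => ?_).trans (by decide)
      obtain ⟨v, -, rfl⟩ := Finset.mem_image.1 hk
      rcases hκ2 v with e | e <;> rw [e] <;> simp
    rw [Finset.card_image_of_injective _ hinj, Finset.card_univ, ← Nat.card_eq_fintype_card, hM4] at h1
    omega
  have key : ∀ v ∈ M, v * v = 1 → v ≠ 1 → ∀ y ∈ (P : Subgroup G), v * y * v⁻¹ = y⁻¹ := by
    intro v hv hv2 hv1 y hy
    by_contra hne'
    set z := y * (v * y * v⁻¹) with hz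
    have hvy : v * y * v⁻¹ ∈ (P : Subgroup G) := (Subgroup.mem_normalizer_iff.1 hv.1 y).1 hy
    have hzP : z ∈ (P : Subgroup G) := mul_mem hy hvy
    have hz1 : z ≠ 1 := fun e => hne' (eq_inv_of_mul_eq_one_right e)
    have hzc : v * z * v⁻¹ = z := by
      have hvv : v⁻¹ = v := inv_eq_of_mul_eq_one_right hv2
      have hcm : y * (v * y * v⁻¹) = (v * y * v⁻¹) * y :=
        congrArg Subtype.val (hcomP ⟨y, hy⟩ ⟨_, hvy⟩)
      have e1 : v * (v * y * v⁻¹) * v⁻¹ = y := by
        rw [hvv, ← mul_assoc, ← mul_assoc, hv2, one_mul, mul_assoc, hv2, mul_one]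
      rw [hz, show v * (y * (v * y * v⁻¹)) * v⁻¹ = (v * y * v⁻¹) * (v * (v * y * v⁻¹) * v⁻¹) by group,
        e1, hcm]
    obtain ⟨b, hb, hbz⟩ : ∃ b ∈ (P : Subgroup G), b ∉ zpowers z := by
      by_contra hall
      push Not at hall
      have h1 := Nat.le_of_dvd (by norm_num) (orderOf_dvd_of_pow_eq_one (hexp z hzP))
      have h2 := Subgroup.card_le_of_le (show (P : Subgroup G) ≤ zpowers z from hall)
      rw [h9, Nat.card_zpowers] at h2
      omega
    obtain ⟨f, hfi, -, -, hf9, hf0, hlin, hspan⟩ :=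
      label h hQ hzP hb hz1 hbz (hexp z hzP) (hexp b hb)
    obtain ⟨q, s, hqs⟩ := hspan _ ((Subgroup.mem_normalizer_iff.1 hv.1 b).1 hb)
    have hfv : ∀ x, f v x = aff 1 q 0 s 0 0 x :=
      hlin v ((hf9 v).2 hv.1) ((hf0 v).2 hv.2) 1 q 0 s (by simpa using hzc) hqs
    have hff : ∀ x, aff 1 q 0 s 0 0 (aff 1 q 0 s 0 0 x) = x := fun x => by
      rw [← hfv, ← hfv, ← Perm.mul_apply, ← map_mul, hv2, map_one]; rfl
    have h4 := moved_four (σ := f v) (by rw [← map_mul, hv2, map_one]) (sign_eq_one h f v)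
    simp only [hfv] at h4
    rcases lin_cases _ _ _ _ hff h4 with h1 | h1
    · refine hv1 (hfi ?_)
      rw [map_one]
      exact Equiv.ext fun x => (hfv x).trans (h1 x)
    · exact (by decide : ∀ q s : Fin 3, aff 1 q 0 s 0 0 1 ≠ aff 2 0 0 2 0 0 1) q s (h1 1)
  obtain ⟨u, huM, hu2⟩ : ∃ u ∈ M, u * u ≠ 1 := by
    by_contra hall
    push Not at hall
    haveI := Fintype.ofFinite M
    have huniq : ∀ v w : M, v ≠ 1 → w ≠ 1 → v = w := by
      intro v w hv hw
      have e1 := key v v.2 (hall _ v.2) (fun e => hv (Subtype.ext e))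
      have e2 := key w w.2 (hall _ w.2) (fun e => hw (Subtype.ext e))
      refine Subtype.ext (inv_mul_eq_one.1 (hfaith _ (mul_mem (inv_mem v.2) w.2) fun y hy => ?_))
      rw [show ((v : G)⁻¹ * w) * y * ((v : G)⁻¹ * w)⁻¹ = (v : G)⁻¹ * ((w : G) * y * (w : G)⁻¹) * v by group,
        e2 y hy, ← e1 y hy]
      group
    have h1 : (Finset.univ.erase (1 : M)).card ≤ 1 := Finset.card_le_one.2 fun v hv w hw =>
      huniq v w (Finset.ne_of_mem_erase hv) (Finset.ne_of_mem_erase hw)
    rw [Finset.card_erase_of_mem (Finset.mem_univ _), Finset.card_univ, ← Nat.card_eq_fintype_card,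
      hM4] at h1
    omega
  have hu4 : u ^ 4 = 1 := by
    have := congrArg Subtype.val (pow_card_eq_one' (x := (⟨u, huM⟩ : M)))
    rwa [hM4] at this
  have hu22 : u * u * (u * u) = 1 := by
    rw [← pow_two, ← pow_two, ← pow_mul]; exact hu4
  have huo : orderOf u = 4 := orderOf_eq_prime_pow (p := 2) (n := 1)
    (by rw [pow_one, pow_two]; exact hu2) (by simpa using hu4)
  have hinv2 : ∀ y ∈ (P : Subgroup G), u * (u * y * u⁻¹) * u⁻¹ = y⁻¹ := fun y hy => by
    have h1 := key (u * u) (mul_mem huM huM) hu22 hu2 y hy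
    rw [← h1]; group
  obtain ⟨a, ha, ha1⟩ := (Subgroup.bot_or_exists_ne_one (P : Subgroup G)).resolve_left
    (fun e => by rw [e, Subgroup.card_bot] at h9; norm_num at h9)
  set b := u * a * u⁻¹ with hbdef
  have hb : b ∈ (P : Subgroup G) := (Subgroup.mem_normalizer_iff.1 huM.1 a).1 ha
  have ha3 := hexp a ha
  have hba : b ∉ zpowers a := by
    intro hz
    obtain ⟨k, hk⟩ := mem_zpowers_iff.1 hz
    have h1 := hinv2 a ha
    rw [← hbdef, ← hk, ← conj_zpow, ← hbdef, ← hk, ← zpow_mul] at h1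
    have h2 : a ^ (k * k + 1) = 1 := by rw [zpow_add, zpow_one, h1, inv_mul_cancel]
    have h3 : ((orderOf a : ℕ) : ℤ) ∣ k * k + 1 := orderOf_dvd_iff_zpow_eq_one.2 h2
    rw [orderOf_eq_prime ha3 ha1] at h3
    have h4 : ((k * k + 1 : ℤ) : ZMod 3) = 0 := (ZMod.intCast_zmod_eq_zero_iff_dvd _ 3).2 h3
    push_cast at h4
    exact sq_add_one_ne _ h4
  obtain ⟨f, hfi, hfa, hfb, hf9, hf0, hlin, hspan⟩ := label h hQ ha hb ha1 hba ha3 (hexp b hb)
  have hfu : f u = mm := Equiv.ext fun x => by
    rw [hlin u ((hf9 u).2 huM.1) ((hf0 u).2 huM.2) 0 2 1 0 (by simp [hbdef]) (by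
      rw [hbdef, hinv2 a ha, Fin.val_zero, pow_zero, mul_one]
      exact inv_eq_of_mul_eq_one_right (by rw [← pow_succ']; exact ha3))]
    rfl
  -- an involution exchanging the two points
  obtain ⟨w, hw2, hw9, hw0⟩ : ∃ w : G, w * w = 1 ∧ f w 9 = 0 ∧ f w 0 = 9 := by
    obtain ⟨v, hv2, hv9⟩ : ∃ v : G, v * v = 1 ∧ f v 9 ≠ 9 := by
      by_contra hall
      push Not at hall
      set K := Subgroup.normalClosure ({u * u} : Set G) with hK
      have hKtop : K = ⊤ := (IsSimpleGroup.eq_bot_or_eq_top_of_normal K Subgroup.normalClosure_normal).resolve_left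
        fun e => hu2 (Subgroup.mem_bot.1 (e ▸ Subgroup.subset_normalClosure rfl))
      have hle : K ≤ N := by
        rw [hK, Subgroup.normalClosure, Subgroup.closure_le]
        intro y hy
        obtain ⟨c, hc, hcy⟩ := Group.mem_conjugatesOfSet_iff.1 hy
        obtain ⟨g, hg⟩ := isConj_iff.1 hcy
        rw [Set.mem_singleton_iff] at hc
        refine (hf9 y).1 (hall y ?_)
        have e := hu22
        rw [← hg, hc]
        calc g * (u * u) * g⁻¹ * (g * (u * u) * g⁻¹) = g * (u * u * (u * u)) * g⁻¹ := by group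
          _ = 1 := by rw [e]; group
      have h1 := Subgroup.card_le_of_le (hKtop ▸ hle)
      rw [Subgroup.card_top, h, (sylow_three h P).2] at h1
      omega
    set x := f v 9
    have hkey : ∀ x : Fin 10, x ≠ 9 → (t₁ ^ (xx x : ℕ) * t₂ ^ (yy x : ℕ)) 0 = x ∧
        (t₁ ^ (xx x : ℕ) * t₂ ^ (yy x : ℕ)) 9 = 9 := by decide +kernel
    set t := a ^ (xx x : ℕ) * b ^ (yy x : ℕ)
    have hft : f t = t₁ ^ (xx x : ℕ) * t₂ ^ (yy x : ℕ) := by
      simp only [t, map_mul, map_pow, hfa, hfb]
    have hw2 : t⁻¹ * v * t * (t⁻¹ * v * t) = 1 := by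
      calc t⁻¹ * v * t * (t⁻¹ * v * t) = t⁻¹ * (v * v) * t := by group
        _ = 1 := by rw [hv2]; group
    have h90 : f (t⁻¹ * v * t) 9 = 0 := by
      rw [map_mul, map_mul, map_inv, Perm.mul_apply, Perm.mul_apply, hft, (hkey x hv9).2]
      show (t₁ ^ (xx x : ℕ) * t₂ ^ (yy x : ℕ))⁻¹ x = 0
      rw [Equiv.Perm.inv_eq_iff_eq]
      exact (hkey x hv9).1.symm
    refine ⟨t⁻¹ * v * t, hw2, h90, ?_⟩
    rw [← h90, ← Perm.mul_apply, ← map_mul, hw2, map_one]
    rfl
  obtain ⟨s, hs⟩ : ∃ s : Fin 2, ∀ x, f w (mm x) =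
      (if s = 0 then (mm : Fin 10 → Fin 10) else mm.symm) (f w x) := by
    have hwu : w * u * w⁻¹ ∈ M := by
      have hwi : w⁻¹ = w := inv_eq_of_mul_eq_one_right hw2
      refine ⟨(hf9 _).1 ?_, (hf0 _).1 ?_⟩
      · rw [hwi, map_mul, map_mul, Perm.mul_apply, Perm.mul_apply, hw9, (hf0 u).2 huM.2, hw0]
      · rw [hwi, map_mul, map_mul, Perm.mul_apply, Perm.mul_apply, hw0, (hf9 u).2 huM.1, hw9]
    have hMu : zpowers u = M :=
      Subgroup.eq_of_le_of_card_ge (zpowers_le.2 huM) (by rw [Nat.card_zpowers, huo, hM4])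
    rw [← hMu, ← mem_powers_iff_mem_zpowers, Submonoid.mem_powers_iff] at hwu
    obtain ⟨i, hi⟩ := hwu
    have hi' : u ^ (i % 4) = w * u * w⁻¹ := by rw [← hi, ← huo, pow_mod_orderOf]
    have hcase : i % 4 = 1 ∨ i % 4 = 3 := by
      have ho : orderOf (u ^ (i % 4)) = 4 := by
        rw [hi', ← MulAut.conj_apply, MulEquiv.orderOf_eq, huo]
      have hlt := Nat.mod_lt i (show 4 > 0 by norm_num)
      interval_cases hr : (i % 4)
      · rw [pow_zero, orderOf_one] at ho; omega
      · exact Or.inl rfl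
      · have h5 := Nat.le_of_dvd (by norm_num) (orderOf_dvd_of_pow_eq_one
          (show (u ^ 2) ^ 2 = 1 by rw [← pow_mul]; exact hu4))
        omega
      · exact Or.inr rfl
    rcases hcase with e | e <;> rw [e] at hi'
    · refine ⟨0, fun x => ?_⟩
      have h1 : w * u = u * w := by rw [← mul_inv_eq_iff_eq_mul, ← hi', pow_one]
      have h2 := DFunLike.congr_fun (congrArg f h1) x
      rw [map_mul, map_mul, hfu] at h2
      exact h2
    · refine ⟨1, fun x => ?_⟩
      have h1 : w * u = u⁻¹ * w := by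
        rw [← mul_inv_eq_iff_eq_mul, ← hi']
        exact eq_inv_of_mul_eq_one_left (by rw [← pow_succ]; exact hu4)
      have h2 := DFunLike.congr_fun (congrArg f h1) x
      rw [map_mul, map_mul, map_inv, hfu] at h2
      exact h2
  have hcand : ∀ x, f w x = cand (f w 1) (f w 4) s x := by
    intro x
    have h2 : f w 3 = _ := (congrArg (f w) (by decide : (3 : Fin 10) = mm 1)).trans (hs 1)
    have h3 : f w 2 = _ := (congrArg (f w) (by decide : (2 : Fin 10) = mm 3)).trans (hs 3)
    have h4 : f w 6 = _ := (congrArg (f w) (by decide : (6 : Fin 10) = mm 2)).trans (hs 2)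
    have h5 : f w 5 = _ := (congrArg (f w) (by decide : (5 : Fin 10) = mm 4)).trans (hs 4)
    have h6 : f w 8 = _ := (congrArg (f w) (by decide : (8 : Fin 10) = mm 5)).trans (hs 5)
    have h7 : f w 7 = _ := (congrArg (f w) (by decide : (7 : Fin 10) = mm 8)).trans (hs 8)
    rw [h2] at h3
    rw [h3] at h4
    rw [h5] at h6
    rw [h6] at h7
    fin_cases x
    · exact hw0
    · rfl
    · exact h3
    · exact h2
    · rfl
    · exact h5
    · exact h4
    · exact h7
    · exact h6
    · exact hw9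
  have hinvw : ∀ x, cand (f w 1) (f w 4) s (cand (f w 1) (f w 4) s x) = x := fun x => by
    rw [← hcand, ← hcand, ← Perm.mul_apply, ← map_mul, hw2, map_one]
    rfl
  -- no element of order six
  have hno6 : ∀ g : G, ¬ 6 ∣ orderOf g := by
    rintro g ⟨k, hk⟩
    have hk0 : k ≠ 0 := by rintro rfl; exact (orderOf_pos g).ne' hk
    set g₆ := g ^ k
    have hg6 : orderOf g₆ = 6 := by
      rw [orderOf_pow_of_dvd hk0 (dvd_of_mul_left_eq 6 hk.symm), hk,
        Nat.mul_div_left _ (Nat.pos_of_ne_zero hk0)]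
    have hx : orderOf (g₆ ^ 2) = 3 := by rw [orderOf_pow_of_dvd (by norm_num) (by rw [hg6]; norm_num), hg6]
    obtain ⟨R, hR⟩ := (IsPGroup.of_card (n := 1) (by rw [Nat.card_zpowers, hx, pow_one]) :
      IsPGroup 3 (zpowers (g₆ ^ 2))).exists_le_sylow
    obtain ⟨g', hg'⟩ := MulAction.exists_smul_eq G R P
    set x := g' * g₆ ^ 2 * g'⁻¹ with hxdef
    set c := g' * g₆ ^ 3 * g'⁻¹ with hcdef
    have hxP : x ∈ (P : Subgroup G) := by
      rw [← hg']
      exact Subgroup.mem_map_of_mem (MulAut.conj g').toMonoidHom (hR (mem_zpowers _))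
    have hxo : orderOf x = 3 := by rw [hxdef, ← MulAut.conj_apply, MulEquiv.orderOf_eq, hx]
    have hco : orderOf c = 2 := by
      rw [hcdef, ← MulAut.conj_apply, MulEquiv.orderOf_eq,
        orderOf_pow_of_dvd (by norm_num) (by rw [hg6]; norm_num), hg6]
    have hcx : c * x = x * c := by
      rw [hcdef, hxdef, ← MulAut.conj_apply, ← MulAut.conj_apply, ← map_mul, ← map_mul,
        ← pow_add, ← pow_add]
    have hcN : c ∈ N := by
      rw [hN]
      refine Sylow.smul_eq_iff_mem_normalizer.1 ?_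
      by_contra hne'
      have h1 : x ∈ ((c • P : Sylow 3 G) : Subgroup G) := by
        refine ⟨x, hxP, ?_⟩
        show c * x * c⁻¹ = x
        rw [hcx, mul_inv_cancel_right]
      have h2 := Subgroup.mem_bot.1 (inf_eq_bot h (Ne.symm hne') ▸ ⟨hxP, h1⟩ :
        x ∈ (⊥ : Subgroup G))
      rw [h2, orderOf_one] at hxo
      omega
    obtain ⟨y, hy, v, hv, hcv⟩ := hMsplit c hcN
    have hvx : v * x = x * v := by
      have hxy : y * x = x * y := congrArg Subtype.val (hcomP ⟨y, hy⟩ ⟨x, hxP⟩)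
      have h1 : y * (v * x) = y * (x * v) := by
        rw [← mul_assoc, ← hcv, hcx, hcv, ← mul_assoc, ← mul_assoc, hxy]
      exact mul_left_cancel h1
    have hc2 : c * c = 1 := by rw [← pow_two, ← hco, pow_orderOf_eq_one]
    have hvv : v * v = 1 := by
      refine hMP _ (mul_mem hv hv) ?_
      have e : v * v = (y * (v * y * v⁻¹))⁻¹ * (c * c) := by rw [hcv]; group
      rw [e, hc2, mul_one]
      exact inv_mem (mul_mem hy ((Subgroup.mem_normalizer_iff.1 hv.1 y).1 hy))
    by_cases hv1 : v = 1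
    · rw [hv1, mul_one] at hcv
      have h3 := Subgroup.orderOf_dvd_natCard _ hy
      rw [← hcv, hco, h9] at h3
      norm_num at h3
    · have h3 := key v hv hvv hv1 x hxP
      rw [hvx, mul_inv_cancel_right, eq_inv_iff_mul_eq_one, ← pow_two] at h3
      have := Nat.le_of_dvd (by norm_num) (orderOf_dvd_of_pow_eq_one h3)
      omega
  have hbad : ∀ g : G, ¬ Bad (f g : Fin 10 → Fin 10) := by
    intro g hB
    have hp : f g ^ orderOf g = 1 := by rw [← map_pow, pow_orderOf_eq_one, map_one]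
    rcases hB with hP8 | hP7 | hP6 | ⟨hP3, hP24⟩
    · obtain ⟨k, hk⟩ := per_dvd hp (by norm_num) hP8
      have hk0 : k ≠ 0 := by rintro rfl; exact (orderOf_pos g).ne' hk
      refine no_eight h (g ^ k) ?_
      rw [orderOf_pow_of_dvd hk0 (dvd_of_mul_left_eq 8 hk.symm), hk,
        Nat.mul_div_left _ (Nat.pos_of_ne_zero hk0)]
    · have h7 := (per_dvd hp (by norm_num) hP7).trans (orderOf_dvd_natCard g)
      rw [h] at h7
      norm_num at h7
    · exact hno6 g (per_dvd hp (by norm_num) hP6)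
    · refine hno6 g ?_
      rcases hP24 with h2 | h2
      · exact (by norm_num : Nat.Coprime 2 3).mul_dvd_of_dvd_of_dvd (per_dvd hp (by norm_num) h2)
          (per_dvd hp (by norm_num) hP3)
      · exact (by norm_num : Nat.Coprime 2 3).mul_dvd_of_dvd_of_dvd
          ((by norm_num : 2 ∣ 4).trans (per_dvd hp (by norm_num) h2)) (per_dvd hp (by norm_num) hP3)
  refine ⟨f, hfi, ?_⟩
  have hfw : (f w : Fin 10 → Fin 10) = cand (f w 1) (f w 4) s := funext hcand
  rcases cand_cases _ _ s hinvw with h1 | h1 | h1 | ⟨k, hk⟩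
  · refine absurd ?_ (hbad (a * w))
    rw [map_mul, hfa, Equiv.Perm.coe_mul, hfw]
    exact h1
  · refine absurd ?_ (hbad (b * w))
    rw [map_mul, hfb, Equiv.Perm.coe_mul, hfw]
    exact h1
  · refine absurd ?_ (hbad (a * b * w))
    rw [map_mul, map_mul, hfa, hfb, Equiv.Perm.coe_mul, Equiv.Perm.coe_mul, hfw]
    exact h1
  · set H := closure ({t₁, t₂, mm, w₀} : Set (Perm (Fin 10))) with hH
    have hW : f w = w₀ * mm ^ (k : ℕ) := Equiv.ext fun x => (hcand x).trans (hk x)
    have hw₀ : w₀ ∈ f.range := ⟨w * (u ^ (k : ℕ))⁻¹, by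
      rw [map_mul, map_inv, map_pow, hfu, hW, mul_inv_cancel_right]⟩
    have hHR : H ≤ f.range := (closure_le _).2 (by
      rintro _ (rfl | rfl | rfl | rfl)
      · exact ⟨a, hfa⟩
      · exact ⟨b, hfb⟩
      · exact ⟨u, hfu⟩
      · exact hw₀)
    have htop : H.comap f = ⊤ := by
      have hmemH : ∀ g : G, f g ∈ ({t₁, t₂, mm, w₀} : Set (Perm (Fin 10))) → g ∈ H.comap f :=
        fun g hg => subset_closure hg
      have haH := hmemH a (by simp [hfa])
      have hbH := hmemH b (by simp [hfb])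
      have huH := hmemH u (by simp [hfu])
      have hwH : w ∈ H.comap f := by
        show f w ∈ H
        rw [hW]
        exact mul_mem (subset_closure (by simp)) (pow_mem (subset_closure (by simp)) _)
      have hMu : M ≤ H.comap f := by
        rw [← Subgroup.eq_of_le_of_card_ge (zpowers_le.2 huM) (by rw [Nat.card_zpowers, huo, hM4])]
        exact zpowers_le.2 huH
      have hNH : N ≤ H.comap f := by
        intro n hn
        obtain ⟨y, hy, v, hv, rfl⟩ := hMsplit n hn
        obtain ⟨i, j, rfl⟩ := hspan y hy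
        exact mul_mem (mul_mem (pow_mem haH _) (pow_mem hbH _)) (hMu hv)
      by_contra hne'
      have hle := proper_card_le h hne'
      have hd := Subgroup.card_dvd_of_le hNH
      rw [(sylow_three h P).2] at hd
      have hne36 : Nat.card (H.comap f) ≠ 36 := by
        intro e
        have heq := Subgroup.eq_of_le_of_card_ge hNH (by rw [e, (sylow_three h P).2])
        have h9' := (hf9 w).2 (by rw [← hN, heq]; exact hwH)
        rw [hw9] at h9'
        exact absurd h9' (by decide)
      obtain ⟨d, hd⟩ := hd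
      have : 0 < Nat.card (H.comap f) := Nat.card_pos
      omega
    refine le_antisymm ?_ hHR
    rw [MonoidHom.range_eq_map, ← htop]
    exact Subgroup.map_comap_le f H

/-- Uniqueness. -/
theorem iso {H : Type*} [Group H] [Finite H] [IsSimpleGroup H] (hG : Nat.card G = 360)
    (hH : Nat.card H = 360) : Nonempty (G ≃* H) := by
  obtain ⟨f, hf, hfr⟩ := exists_normal_form hG
  obtain ⟨g, hg, hgr⟩ := exists_normal_form hH
  exact ⟨((MonoidHom.ofInjective hf).trans (MulEquiv.subgroupCongr (hfr.trans hgr.symm))).trans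
    (MonoidHom.ofInjective hg).symm⟩

end Cfsg.Agent.Invol.O360
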