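import Mathlib
import Cfsg.Prelude.Def_CaseTheorems
import Cfsg.Agent.Lib.Grp.Cores
import Cfsg.Agent.Lib.Grp.Subnormal
import Cfsg.Agent.Lib.Invol.QDWCentralizer

/-!
# One class of involutions: a simple normal subgroup of odd index
-/

namespace Cfsg.Agent.Invol

universe u

variable {X : Type u} [Group X] [Finite X]

theorem exists_simple_normal_of_one_class (hO : Cfsg.pPrimeCore 2 X = ⊥)
    (hconj : ∀ s t : X, orderOf s = 2 → orderOf t = 2 → IsConj s t)
    (hnc : ∃ s t : X, orderOf s = 2 ∧ orderOf t = 2 ∧ s * t ≠ t * s) :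
    ∃ L : Subgroup X, L.Normal ∧ IsSimpleGroup L ∧ ¬ IsMulCommutative L ∧
      ∀ t : X, orderOf t = 2 → t ∈ L := by
  have : Fact (Nat.Prime 2) := ⟨Nat.prime_two⟩
  obtain ⟨a, b, ha, hb, hab⟩ := hnc
  have hbot : (⊤ : Subgroup X) ≠ ⊥ := by
    intro h
    have h1 : a ∈ (⊥ : Subgroup X) := h ▸ Subgroup.mem_top a
    rw [Subgroup.mem_bot] at h1
    exact hab (by simp [h1])
  obtain ⟨L, ⟨hLn, hL⟩, hLmin⟩ := Set.exists_min_image {N : Subgroup X | N.Normal ∧ N ≠ ⊥}
    (fun N => Nat.card N) (Set.toFinite _) ⟨⊤, inferInstance, hbot⟩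
  have hcore : ∀ M : Subgroup X, M.IsSubnormal → M ≠ ⊥ → 2 ∣ Nat.card M := by
    intro M hM hne
    by_contra h2
    exact hne (le_bot_iff.mp (hO ▸ Grp.le_pPrimeCore_of_isSubnormal hM
      ((Nat.prime_two.coprime_iff_not_dvd.mpr h2).symm)))
  have hLsub : L.IsSubnormal := .step L ⊤ le_top .top (hLn.subgroupOf _)
  have hinv : ∀ t : X, orderOf t = 2 → t ∈ L := by
    obtain ⟨s, hs⟩ := exists_prime_orderOf_dvd_card' 2 (hcore L hLsub hL)
    intro t ht
    obtain ⟨g, hg⟩ := isConj_iff.mp (hconj s t (by rw [Subgroup.orderOf_coe, hs]) ht)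
    exact hg ▸ hLn.conj_mem _ s.2 g
  have hLnc : ¬ IsMulCommutative L := fun h =>
    hab (congrArg Subtype.val (h.is_comm.comm ⟨a, hinv a ha⟩ ⟨b, hinv b hb⟩))
  let P : Subgroup X → Prop := fun M => M ≤ L ∧ M ≠ ⊥ ∧ L ≤ Subgroup.normalizer (M : Set X)
  obtain ⟨M, ⟨hML, hM, hMN⟩, hMmin⟩ := Set.exists_min_image {M : Subgroup X | P M}
    (fun N => Nat.card N) (Set.toFinite _) ⟨L, le_rfl, hL, Subgroup.le_normalizer⟩
  let cj : X → Subgroup X := fun g => M.map (MulAut.conj g).toMonoidHom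
  have hmem : ∀ g a : X, a ∈ cj g ↔ g⁻¹ * a * g ∈ M := by
    intro g a
    simp only [cj, Subgroup.mem_map, MulEquiv.coe_toMonoidHom, MulAut.conj_apply]
    constructor
    · rintro ⟨w, hw, rfl⟩
      convert hw using 1; group
    · exact fun hw => ⟨_, hw, by group⟩
  have hcjP : ∀ g, cj g ≤ L ∧ ∀ l ∈ L, ∀ c, c ∈ cj g → l * c * l⁻¹ ∈ cj g := by
    intro g
    refine ⟨fun c hc => ?_, fun l hl c hc => ?_⟩
    · have := hLn.conj_mem _ (hML ((hmem g c).mp hc)) g
      simpa [mul_assoc] using this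
    · rw [hmem] at hc ⊢
      have := (Subgroup.mem_normalizer_iff.mp (hMN (by simpa using hLn.conj_mem l hl g⁻¹)) _).mp hc
      convert this using 1; group
  have hdisj : ∀ g h : X, cj g = cj h ∨ ∀ c ∈ cj g, ∀ d ∈ cj h, c * d = d * c := by
    intro g h
    by_cases hbot : cj g ⊓ cj h = ⊥
    · refine .inr fun c hc d hd => ?_
      have h1 : c * d * c⁻¹ * d⁻¹ ∈ cj g ⊓ cj h :=
        Subgroup.mem_inf.mpr ⟨by
            have h2 := mul_mem hc ((hcjP g).2 d ((hcjP h).1 hd) _ (inv_mem hc))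
            simpa [mul_assoc] using h2,
          mul_mem ((hcjP h).2 c ((hcjP g).1 hc) d hd) (inv_mem hd)⟩
      rw [hbot, Subgroup.mem_bot] at h1
      exact mul_inv_eq_iff_eq_mul.mp (mul_inv_eq_one.mp h1)
    · left
      have hP : P (cj g ⊓ cj h) := ⟨inf_le_left.trans (hcjP g).1, hbot, fun l hl =>
        Subgroup.mem_normalizer_fintype fun c hc =>
          ⟨(hcjP g).2 l hl c hc.1, (hcjP h).2 l hl c hc.2⟩⟩
      have hcard := hMmin _ hP
      have hg : Nat.card (cj g) = Nat.card M := Subgroup.card_map_of_injective (MulAut.conj g).injective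
      have hh : Nat.card (cj h) = Nat.card M := Subgroup.card_map_of_injective (MulAut.conj h).injective
      exact (Subgroup.eq_of_le_of_card_ge inf_le_left (hg ▸ hcard)).symm.trans
        (Subgroup.eq_of_le_of_card_ge inf_le_right (hh ▸ hcard))
  have hone : cj 1 = M := by ext a; rw [hmem]; simp
  have hMnc : ¬ ∀ c ∈ M, ∀ d ∈ M, c * d = d * c := by
    intro hcomm
    have hcl : Subgroup.normalClosure (M : Set X) = L := by
      refine Subgroup.eq_of_le_of_card_ge (Subgroup.normalClosure_le_normal hML) (hLmin _ ⟨inferInstance, ?_⟩)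
      exact fun he => hM (le_bot_iff.mp (he ▸ Subgroup.le_normalClosure))
    refine hLnc ?_
    rw [← hcl, Subgroup.normalClosure]
    refine Subgroup.isMulCommutative_closure ?_
    intro c hc d hd
    obtain ⟨m, hm, hc⟩ := Group.mem_conjugatesOfSet_iff.mp hc
    obtain ⟨m', hm', hd⟩ := Group.mem_conjugatesOfSet_iff.mp hd
    obtain ⟨g, rfl⟩ := isConj_iff.mp hc
    obtain ⟨h, rfl⟩ := isConj_iff.mp hd
    have h1 : g * m * g⁻¹ ∈ cj g := ⟨m, hm, rfl⟩
    have h2 : h * m' * h⁻¹ ∈ cj h := ⟨m', hm', rfl⟩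
    rcases hdisj g h with he | he
    · rw [← he, hmem] at h2
      have h3 := hcomm m hm _ h2
      calc g * m * g⁻¹ * (h * m' * h⁻¹) = g * (m * (g⁻¹ * (h * m' * h⁻¹) * g)) * g⁻¹ := by group
        _ = g * (g⁻¹ * (h * m' * h⁻¹) * g * m) * g⁻¹ := by rw [h3]
        _ = h * m' * h⁻¹ * (g * m * g⁻¹) := by group
    · exact he _ h1 _ h2
  have hMsub : M.IsSubnormal := .step M L hML hLsub (Subgroup.normal_subgroupOf_iff_le_normalizer hML |>.mpr hMN)
  obtain ⟨⟨t, htM⟩, ht⟩ := exists_prime_orderOf_dvd_card' 2 (hcore M hMsub hM)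
  rw [Subgroup.orderOf_mk] at ht
  have hZ : ∀ c ∈ M, (∀ d ∈ M, d * c = c * d) → c = 1 := by
    intro c hc hcd
    by_contra hne
    set Z := M ⊓ Subgroup.centralizer (M : Set X) with hZdef
    have hcZ : c ∈ Z := ⟨hc, Subgroup.mem_centralizer_iff.mpr hcd⟩
    have hP : P Z := by
      refine ⟨inf_le_left.trans hML, fun h => hne (Subgroup.mem_bot.mp (h ▸ hcZ)), fun l hl =>
        Subgroup.mem_normalizer_fintype fun e he => ⟨(Subgroup.mem_normalizer_iff.mp (hMN hl) e).mp he.1, ?_⟩⟩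
      show _ ∈ Subgroup.centralizer (M : Set X)
      rw [Subgroup.mem_centralizer_iff]
      intro d hd
      have h1 : l⁻¹ * d * l ∈ M := by
        have := (Subgroup.mem_normalizer_iff.mp (hMN (inv_mem hl)) d).mp hd
        simpa using this
      have h2 := Subgroup.mem_centralizer_iff.mp he.2 _ h1
      calc d * (l * e * l⁻¹) = l * (l⁻¹ * d * l * e) * l⁻¹ := by group
        _ = l * (e * (l⁻¹ * d * l)) * l⁻¹ := by rw [h2]
        _ = l * e * l⁻¹ * d := by group
    have heq : Z = M := Subgroup.eq_of_le_of_card_ge inf_le_left (hMmin _ hP)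
    exact hMnc fun e he d hd => (Subgroup.mem_centralizer_iff.mp ((heq.ge hd).2) e he)
  have hMn : M.Normal := by
    refine ⟨fun c hc g => ?_⟩
    have h0 : g * c * g⁻¹ ∈ cj g := ⟨c, hc, rfl⟩
    rcases hdisj 1 g with he | he
    · rwa [← he, hone] at h0
    exfalso
    rw [hone] at he
    have hu : g * t * g⁻¹ ∈ cj g := ⟨t, htM, rfl⟩
    have hcomm := he t htM _ hu
    have hoU : orderOf (g * t * g⁻¹) = 2 := by rw [← MulAut.conj_apply, MulEquiv.orderOf_eq, ht]
    have ht1 : t ≠ 1 := fun h => by simp [h] at ht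
    have hne : g * t * g⁻¹ ∉ M := fun hm => by
      have := hZ _ hm fun d hd => he d hd _ hu
      rw [this] at hoU; simp at hoU
    have hne1 : t * (g * t * g⁻¹) ≠ 1 := fun h => hne (eq_inv_of_mul_eq_one_right h ▸ inv_mem htM)
    have hord : orderOf (t * (g * t * g⁻¹)) = 2 := by
      refine orderOf_eq_prime ?_ hne1
      rw [(show Commute t (g * t * g⁻¹) from hcomm).mul_pow, ← ht, pow_orderOf_eq_one, one_mul, ht, ← hoU,
        pow_orderOf_eq_one]
    obtain ⟨h, hh⟩ := isConj_iff.mp (hconj t _ ht hord)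
    have hh' : t * (g * t * g⁻¹) ∈ cj h := hh ▸ ⟨t, htM, rfl⟩
    rcases hdisj 1 h with he' | he'
    · rw [← he', hone] at hh'
      exact hne ((mul_mem_cancel_left htM).mp hh')
    · rw [hone] at he'
      refine ht1 (hZ t htM fun d hd => ?_)
      have h1 := he' d hd _ hh'
      have h3 := he d hd _ hu
      refine mul_right_cancel (b := g * t * g⁻¹) ?_
      calc d * t * (g * t * g⁻¹) = d * (t * (g * t * g⁻¹)) := mul_assoc _ _ _
        _ = t * (g * t * g⁻¹) * d := h1
        _ = t * (g * t * g⁻¹ * d) := mul_assoc _ _ _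
        _ = t * (d * (g * t * g⁻¹)) := by rw [h3]
        _ = t * d * (g * t * g⁻¹) := (mul_assoc _ _ _).symm
  have hML' : M = L := Subgroup.eq_of_le_of_card_ge hML (hLmin _ ⟨hMn, hM⟩)
  subst hML'
  refine ⟨M, hMn, ?_, hLnc, hinv⟩
  have : Nontrivial M := (Subgroup.nontrivial_iff_ne_bot M).mpr hL
  refine ⟨fun N hN => ?_⟩
  by_cases hNb : N = ⊥
  · exact .inl hNb
  right
  have hP : P (N.map M.subtype) := by
    refine ⟨Subgroup.map_subtype_le _, fun h => hNb ((Subgroup.map_eq_bot_iff_of_injective _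
      (Subgroup.subtype_injective _)).mp h), fun l hl => Subgroup.mem_normalizer_fintype ?_⟩
    rintro _ ⟨e, he, rfl⟩
    exact ⟨_, hN.conj_mem e he ⟨l, hl⟩, rfl⟩
  have h1 := Subgroup.eq_of_le_of_card_ge (Subgroup.map_subtype_le _) (hMmin _ hP)
  rw [← Subgroup.comap_map_eq_self_of_injective (Subgroup.subtype_injective M) N, h1]
  exact (Subgroup.subgroupOf_self _)

/-- A normal subgroup with cyclic Sylow 2-subgroup modulo it has odd index, without index 2. -/
theorem odd_index_of_cyclic_mod (P : Sylow 2 X) (hX : ∀ H : Subgroup X, H.index ≠ 2) {L : Subgroup X}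
    [L.Normal] {a : X} (haP : a ∈ (P : Subgroup X))
    (hgen : ∀ s ∈ (P : Subgroup X), ∃ k : ℤ, a ^ (-k) * s ∈ L) : Odd L.index := by
  have : Fact (Nat.Prime 2) := ⟨Nat.prime_two⟩
  refine Nat.not_even_iff_odd.mp fun he => ?_
  set Q := P.mapSurjective (QuotientGroup.mk'_surjective L) with hQdef
  have hQ : (Q : Subgroup (X ⧸ L)) = Subgroup.zpowers (QuotientGroup.mk' L a) := by
    refine le_antisymm ?_ (Subgroup.zpowers_le.mpr ⟨a, haP, rfl⟩)
    rintro _ ⟨s, hs, rfl⟩
    obtain ⟨k, hk⟩ := hgen s hs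
    refine ⟨k, ?_⟩
    show QuotientGroup.mk' L a ^ k = QuotientGroup.mk' L s
    rw [← map_zpow]
    exact QuotientGroup.eq.mpr (by rwa [← zpow_neg])
  have hcyc : IsCyclic ↥(Q : Subgroup (X ⧸ L)) := by rw [hQ]; infer_instance
  have h2 : 2 ∣ Nat.card (X ⧸ L) := by rw [← Subgroup.index_eq_card]; exact even_iff_two_dvd.mp he
  have hmin : (Nat.card (X ⧸ L)).minFac = 2 := (Nat.minFac_eq_two_iff _).mpr h2
  have hc := hcyc.isComplement' hmin
  set N := (MonoidHom.transferSylow Q (hcyc.normalizer_le_centralizer hmin)).ker with hN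
  obtain ⟨k, hk⟩ := IsPGroup.iff_card.mp Q.isPGroup'
  have hk1 : 1 ≤ k := by
    rcases Nat.eq_zero_or_pos k with rfl | hk1
    · refine absurd h2 ?_
      rw [← (Q : Subgroup (X ⧸ L)).card_mul_index, hk, pow_zero, one_mul]
      exact Q.not_dvd_index
    · exact hk1
  obtain ⟨H, hH⟩ := exists_index_two_of_two_pow (K := N) hk1 (hc.symm.index_eq_card.trans hk)
  exact hX (H.comap (QuotientGroup.mk' L))
    ((H.index_comap_of_surjective (QuotientGroup.mk'_surjective L)).trans hH)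

theorem simple_normal_odd_index (hO : Cfsg.pPrimeCore 2 X = ⊥) (hX : ∀ H : Subgroup X, H.index ≠ 2)
    (P : Sylow 2 X)
    (hP : Cfsg.IsQuasiDihedral (P : Subgroup X) ∨ Cfsg.IsWreathed (P : Subgroup X)) :
    ∃ L : Subgroup X, L.Normal ∧ Odd L.index ∧ IsSimpleGroup L ∧ ¬ IsMulCommutative L := by
  rcases hP with hP | hP
  · obtain ⟨n, x, y, h⟩ := exists_qd hP
    obtain ⟨L, hLn, hLs, hLc, hinv⟩ := exists_simple_normal_of_one_class hO
      (fun s t hs ht => (h.all_conj hX hs).symm.trans (h.all_conj hX ht))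
      ⟨y, (x ^ (2 : ℤ) * y : ↥(P : Subgroup X)), by rw [Subgroup.orderOf_coe, h.oy],
        by rw [Subgroup.orderOf_coe, h.orderOf_mul_y_even dvd_rfl], fun hc => by
          have h1 : x ^ (0 : ℤ) * y * (x ^ (2 : ℤ) * y) = x ^ (2 : ℤ) * y * (x ^ (0 : ℤ) * y) := by
            rw [zpow_zero, one_mul]; exact Subtype.ext hc
          rw [h.mul_y_mul, h.mul_y_mul, h.zpow_eq] at h1
          obtain ⟨d, hd⟩ := h1
          obtain ⟨r, hr⟩ := h.qq_even
          have : 4 * qq n * (1 - d) = 4 := by linarith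
          rw [hr] at this
          have h8 : (8 : ℤ) ∣ 4 := ⟨r * (1 - d), by linarith⟩
          norm_num at h8⟩
    refine ⟨L, hLn, odd_index_of_cyclic_mod P hX (a := (x : X)) x.2 ?_, hLs, hLc⟩
    intro s hs
    obtain ⟨i, hi | hi⟩ := h.cases' (⟨s, hs⟩ : ↥(P : Subgroup X))
    · refine ⟨i, ?_⟩
      rw [show s = ((x ^ i : ↥(P : Subgroup X)) : X) from congrArg Subtype.val hi, Subgroup.coe_zpow,
        ← zpow_add, neg_add_cancel, zpow_zero]
      exact one_mem _
    · refine ⟨i, ?_⟩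
      rw [show s = ((x ^ i * y : ↥(P : Subgroup X)) : X) from congrArg Subtype.val hi, Subgroup.coe_mul,
        Subgroup.coe_zpow, ← mul_assoc, ← zpow_add, neg_add_cancel, zpow_zero, one_mul]
      exact hinv _ (by rw [Subgroup.orderOf_coe, h.oy])
  · obtain ⟨n, x, y, z, h⟩ := exists_wr hP
    obtain ⟨L, hLn, hLs, hLc, hinv⟩ := exists_simple_normal_of_one_class hO
      (fun s t hs ht => (h.all_conj hX hs).symm.trans (h.all_conj hX ht))
      ⟨(z : X), h.gE (hh n) 0, by rw [Subgroup.orderOf_coe, h.oz],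
        by rw [WR.gE, Subgroup.orderOf_coe, h.orderOf_half], fun hc => by
          have h1 : z * h.el (hh n) 0 = h.el (hh n) 0 * z := Subtype.ext hc
          rw [h.z_el, mul_left_inj, h.el_eq] at h1
          obtain ⟨d, hd⟩ := h1.2
          have := h.hh_pos
          rcases lt_or_ge 0 d with hd0 | hd0 <;> nlinarith⟩
    have hzL : (z : X) ∈ L := hinv _ (by rw [Subgroup.orderOf_coe, h.oz])
    have hanti : ∀ d : ℤ, h.gE d (-d) ∈ L := fun d => by
      have h1 := mul_mem (hLn.conj_mem _ hzL (h.gE d 0)) (inv_mem hzL)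
      have h2 : h.el d 0 * z * (h.el d 0)⁻¹ * z⁻¹ = h.el d (-d) := by
        have := h.conj_el_z d 0 0 0
        rw [h.el_zero, one_mul] at this
        rw [this, mul_inv_cancel_right]
        ring_nf
      simp only [WR.gE] at h1 ⊢
      rw [← h2]
      simpa using h1
    refine ⟨L, hLn, odd_index_of_cyclic_mod P hX (a := h.gE 1 0) (h.el 1 0).2 ?_, hLs, hLc⟩
    intro s hs
    have hred : ∀ i j : ℤ, (h.gE 1 0) ^ (-(i + j)) * h.gE i j = h.gE (-j) (- -j) := fun i j => by
      rw [← Subgroup.coe_zpow, ← Subgroup.coe_mul, h.el_zpow, h.el_mul]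
      ring_nf
    obtain ⟨i, j, hij | hij⟩ := h.cases' (⟨s, hs⟩ : ↥(P : Subgroup X))
    · refine ⟨i + j, ?_⟩
      rw [show s = h.gE i j from congrArg Subtype.val hij, hred]
      exact hanti _
    · refine ⟨i + j, ?_⟩
      rw [show s = h.gE i j * (z : X) from congrArg Subtype.val hij, ← mul_assoc, hred]
      exact mul_mem (hanti _) hzL

end Cfsg.Agent.Invol
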