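import Cfsg.Agent.Lib.Invol.V4Order

/-!
Groups with one class of involutions and centralizer of order four.
-/

set_option autoImplicit false
set_option linter.unusedSectionVars false
set_option linter.style.haveILetI false

namespace Cfsg.Agent.Invol.V4Order

universe u

variable {G : Type u} [Group G] [Finite G]

/-- An element of order five cannot normalize a four group of self-centralizing involutions. -/
theorem five_not_normalize (t : G) (ht1 : t ≠ 1) (U : Subgroup G) (hU : Nat.card U = 4) (htU : t ∈ U)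
    (hC : ∀ q : G, orderOf q = 5 → q * t ≠ t * q) (q : G) (hq : orderOf q = 5) :
    q ∉ Subgroup.normalizer (U : Set G) := by
  classical
  intro hqn
  haveI := Fintype.ofFinite U
  let f : Fin 5 → U := fun i => ⟨q ^ (i : ℕ) * t * (q ^ (i : ℕ))⁻¹,
    (Subgroup.mem_normalizer_iff.1 (pow_mem hqn (i : ℕ)) t).1 htU⟩
  obtain ⟨i, j, hij, hfij⟩ := Fintype.exists_ne_map_eq_of_card_lt f (by
    rw [← Nat.card_eq_fintype_card, hU, Fintype.card_fin]; norm_num)
  wlog h : (i : ℕ) < (j : ℕ) generalizing i j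
  · exact this j i hij.symm hfij.symm (lt_of_le_of_ne (not_lt.1 h) fun e => hij (Fin.ext e.symm))
  have he : q ^ (i : ℕ) * t * (q ^ (i : ℕ))⁻¹ = q ^ (j : ℕ) * t * (q ^ (j : ℕ))⁻¹ := congrArg Subtype.val hfij
  obtain ⟨d, hd⟩ := Nat.exists_eq_add_of_lt h
  have hc : q ^ (d + 1) * t = t * q ^ (d + 1) := by
    rw [hd, add_assoc, pow_add] at he
    calc q ^ (d + 1) * t = (q ^ (i : ℕ))⁻¹ *
          (q ^ (i : ℕ) * q ^ (d + 1) * t * (q ^ (i : ℕ) * q ^ (d + 1))⁻¹) * q ^ (i : ℕ) * q ^ (d + 1) := by group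
      _ = t * q ^ (d + 1) := by rw [← he]; group
  refine hC (q ^ (d + 1)) ?_ hc
  have := j.isLt
  rw [orderOf_pow' _ (by omega), hq]
  have : d < 4 := by omega
  interval_cases d <;> norm_num

variable {t : G} (ht : orderOf t = 2)
    (h4 : Nat.card (Subgroup.centralizer ({t} : Set G)) = 4)
    (hexp : ∀ c ∈ Subgroup.centralizer ({t} : Set G), c * c = 1)
    (hone : ∀ u : G, orderOf u = 2 → IsConj t u)

include ht h4 hexp hone

/-- There are no normal subgroups of odd order. -/
theorem odd_bot (N : Subgroup G) [N.Normal] (hN : ¬ 2 ∣ Nat.card N) : N = ⊥ := by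
  haveI := Fact.mk Nat.prime_two
  have h2 : t * t = 1 := by rw [← pow_two, ← ht, pow_orderOf_eq_one]
  have hfix : ∀ n ∈ N, n * t = t * n → n = 1 := by
    intro n hn hc
    have h1 : orderOf n ∣ Nat.card N := Subgroup.orderOf_dvd_natCard _ hn
    have h2 : orderOf n ∣ 2 ^ 2 :=
      (Subgroup.orderOf_dvd_natCard _ (Subgroup.mem_centralizer_singleton_iff.2 hc)).trans (dvd_of_eq h4)
    refine orderOf_eq_one_iff.1 (Nat.eq_one_of_dvd_coprimes ?_ h1 h2)
    exact Nat.Coprime.pow_right _ ((Nat.prime_two.coprime_iff_not_dvd.2 hN).symm)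
  have key : ∀ m ∈ N, t * m * t⁻¹ = m⁻¹ := by
    intro m hm
    let φ : N → N := fun a => ⟨(a : G)⁻¹ * (t * a * t⁻¹),
      N.mul_mem (N.inv_mem a.2) (Subgroup.Normal.conj_mem inferInstance _ a.2 t)⟩
    have hφ : Function.Injective φ := by
      intro a b h
      have h' : (a : G)⁻¹ * (t * a * t⁻¹) = (b : G)⁻¹ * (t * b * t⁻¹) := congrArg Subtype.val h
      have hc : ((b : G) * (a : G)⁻¹) * t = t * ((b : G) * (a : G)⁻¹) := by
        calc (b : G) * (a : G)⁻¹ * t = (b : G) * ((a : G)⁻¹ * (t * a * t⁻¹)) * (t * (a : G)⁻¹) := by group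
          _ = _ := by rw [h']; group
      exact Subtype.ext (mul_inv_eq_one.1 (hfix _ (N.mul_mem b.2 (N.inv_mem a.2)) hc)).symm
    obtain ⟨a, ha⟩ := Finite.injective_iff_surjective.1 hφ ⟨m, hm⟩
    have ha' : (a : G)⁻¹ * (t * a * t⁻¹) = m := congrArg Subtype.val ha
    have htt : t⁻¹ = t := inv_eq_of_mul_eq_one_right h2
    rw [← ha', mul_inv_rev, mul_inv_rev, inv_inv, inv_inv, htt]
    calc t * ((a : G)⁻¹ * (t * a * t)) * t = t * (a : G)⁻¹ * t * a * (t * t) := by group
      _ = _ := by rw [h2, mul_one, mul_inv_rev, htt]; group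
  have hinv : ∀ w : G, w * w = 1 → w ≠ 1 → ∀ n ∈ N, w * n * w⁻¹ = n⁻¹ := by
    intro w hw hw1 n hn
    obtain ⟨g, rfl⟩ := isConj_iff.1 (hone w (orderOf_eq_prime (by rw [pow_two, hw]) hw1))
    have hm : g⁻¹ * n * g ∈ N := by simpa using Subgroup.Normal.conj_mem inferInstance n hn g⁻¹
    calc g * t * g⁻¹ * n * (g * t * g⁻¹)⁻¹ = g * (t * (g⁻¹ * n * g) * t⁻¹) * g⁻¹ := by group
      _ = n⁻¹ := by rw [key _ hm]; group
  obtain ⟨u, hu, hu1, hut⟩ : ∃ u ∈ Subgroup.centralizer ({t} : Set G), u ≠ 1 ∧ u ≠ t := by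
    by_contra h
    push Not at h
    have hsub : ((Subgroup.centralizer ({t} : Set G)) : Set G) ⊆ {1, t} := fun x hx => by
      by_cases hx1 : x = 1
      · exact Or.inl hx1
      · exact Or.inr (h x hx hx1)
    have := (Set.ncard_le_ncard hsub (Set.toFinite _)).trans (Set.ncard_insert_le _ _)
    rw [Set.ncard_singleton, ← Nat.card_coe_set_eq, SetLike.coe_sort_coe, h4] at this
    omega
  have htC : t ∈ Subgroup.centralizer ({t} : Set G) := Subgroup.mem_centralizer_singleton_iff.2 rfl
  rw [Subgroup.eq_bot_iff_forall]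
  intro n hn
  have h1 := hinv (t * u) (hexp _ (Subgroup.mul_mem _ htC hu))
    (fun h => hut (by rw [← mul_right_inj t, h2, h])) n hn
  rw [show t * u * n * (t * u)⁻¹ = t * (u * n * u⁻¹) * t⁻¹ by group, hinv u (hexp u hu) hu1 n hn,
    key _ (N.inv_mem hn), inv_inv] at h1
  have h3 : orderOf n ∣ 2 := orderOf_dvd_of_pow_eq_one (by
    rw [pow_two]; nth_rewrite 2 [h1]; rw [mul_inv_cancel])
  refine orderOf_eq_one_iff.1 (Nat.eq_one_of_dvd_coprimes ?_ (Subgroup.orderOf_dvd_natCard _ hn) h3)
  exact (Nat.prime_two.coprime_iff_not_dvd.2 hN).symm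

/-- In order twelve the four group is normal. -/
theorem normal_of_twelve (h : Nat.card G = 12) : (Subgroup.centralizer ({t} : Set G)).Normal := by
  classical
  haveI := Fintype.ofFinite G
  set C := Subgroup.centralizer ({t} : Set G) with hC
  have ht1 : t ≠ 1 := fun h => by rw [h, orderOf_one] at ht; omega
  set K := Finset.univ.filter (fun u : G => IsConj t u) with hK
  have hKc : K.card = 3 := by
    have hh := D8Order.sum_conj_eq t (fun _ => (1 : ℂ))
    rw [Finset.sum_const, Finset.sum_const, Finset.card_univ, ← Nat.card_eq_fintype_card, h, ← hC, h4, ← hK] at hh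
    simp only [nsmul_eq_mul, mul_one] at hh
    have : (4 * K.card : ℕ) = 12 := by exact_mod_cast hh.symm
    omega
  set A := (Finset.univ.filter (fun u : G => u ∈ C)).erase 1 with hA
  have hAc : A.card = 3 := by
    rw [hA, Finset.card_erase_of_mem (Finset.mem_filter.2 ⟨Finset.mem_univ _, C.one_mem⟩),
      ← Fintype.card_subtype, ← Nat.card_eq_fintype_card, h4]
  have hAK : A = K := Finset.eq_of_subset_of_card_le (fun u hu => by
    obtain ⟨hu1, hu⟩ := Finset.mem_erase.1 hu
    exact Finset.mem_filter.2 ⟨Finset.mem_univ _, hone u (orderOf_eq_prime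
      (by rw [pow_two]; exact hexp u (Finset.mem_filter.1 hu).2) hu1)⟩) (by omega)
  refine ⟨fun c hc g => ?_⟩
  by_cases hc1 : c = 1
  · simp [hc1]
  · have hcK : c ∈ K := hAK ▸ Finset.mem_erase.2 ⟨hc1, Finset.mem_filter.2 ⟨Finset.mem_univ _, hc⟩⟩
    have hgK : g * c * g⁻¹ ∈ K := Finset.mem_filter.2 ⟨Finset.mem_univ _,
      (Finset.mem_filter.1 hcK).2.trans (isConj_iff.2 ⟨g, rfl⟩)⟩
    rw [← hAK] at hgK
    exact (Finset.mem_filter.1 (Finset.mem_erase.1 hgK).2).2

/-- Order sixty: the group is simple. -/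
theorem simple_of_sixty (h : Nat.card G = 60) : IsSimpleGroup G := by
  classical
  haveI := Fact.mk Nat.prime_two
  haveI : Fact (Nat.Prime 5) := ⟨by norm_num⟩
  set C := Subgroup.centralizer ({t} : Set G) with hC
  have ht1 : t ≠ 1 := fun h => by rw [h, orderOf_one] at ht; omega
  have h60 : (60 : ℕ).factorization 2 = 2 := by
    rw [show (60 : ℕ) = 2 ^ 2 * 15 by norm_num, Nat.factorization_mul (by norm_num) (by norm_num),
      Finsupp.add_apply, Nat.Prime.factorization_pow Nat.prime_two, Finsupp.single_eq_same,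
      Nat.factorization_eq_zero_of_not_dvd (by norm_num : ¬ 2 ∣ 15)]
  let S : Sylow 2 G := Sylow.ofCard C (by rw [h4, h, h60]; rfl)
  have hSC : (S : Subgroup G) = C := rfl
  haveI : Nontrivial G := ⟨⟨t, 1, ht1⟩⟩
  refine ⟨fun N hN => ?_⟩
  by_cases hev : 2 ∣ Nat.card N
  · right
    obtain ⟨⟨v, hv⟩, hvo⟩ := exists_prime_orderOf_dvd_card' (G := N) 2 hev
    rw [Subgroup.orderOf_mk] at hvo
    have hCN : C ≤ N := by
      intro c hc
      by_cases hc1 : c = 1
      · exact hc1 ▸ N.one_mem
      obtain ⟨g, hg⟩ := isConj_iff.1 ((hone v hvo).symm.trans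
        (hone c (orderOf_eq_prime (by rw [pow_two]; exact hexp c hc) hc1)))
      exact hg ▸ hN.conj_mem v hv g
    have hSN : (S : Subgroup G) ≤ N := hCN
    have hfr := Sylow.normalizer_sup_eq_top (S.subtype hSN)
    rw [show ((S.subtype hSN : Sylow 2 N) : Subgroup N).map N.subtype = (S : Subgroup G) from
      Subgroup.map_subgroupOf_eq_of_le hSN] at hfr
    set M := Subgroup.normalizer ((S : Subgroup G) : Set G) with hM
    have hM5 : ¬ 5 ∣ Nat.card M := fun h5 => by
      obtain ⟨⟨q, hq⟩, hqo⟩ := exists_prime_orderOf_dvd_card' (G := M) 5 h5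
      rw [Subgroup.orderOf_mk] at hqo
      refine five_not_normalize t ht1 C h4 (Subgroup.mem_centralizer_singleton_iff.2 rfl) ?_ q hqo (hSC ▸ hq)
      intro q' hq' hc'
      have := Subgroup.orderOf_dvd_natCard _ (Subgroup.mem_centralizer_singleton_iff.2 hc' : q' ∈ C)
      rw [hq', h4] at this
      norm_num at this
    have h1 := N.card_mul_index
    have h2 := N.relIndex_dvd_card M
    rw [← Subgroup.relIndex_sup_right, hfr, Subgroup.relIndex_top_right] at h2
    have hidx : N.index ∣ 15 := by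
      have h3 : 4 ∣ Nat.card N := h4 ▸ Subgroup.card_dvd_of_le hCN
      obtain ⟨k, hk⟩ := h3
      refine ⟨k, ?_⟩
      rw [h, hk] at h1
      nlinarith
    have h5 : ¬ 5 ∣ N.index := fun h5 => hM5 (h5.trans h2)
    have hle : N.index ≤ 15 := Nat.le_of_dvd (by norm_num) hidx
    rcases (show N.index = 1 ∨ N.index = 3 by
      interval_cases N.index <;> omega) with hi | hi
    · exact Subgroup.index_eq_one.1 hi
    · exfalso
      have hN20 : Nat.card N = 20 := by rw [hi, h] at h1; omega
      obtain ⟨Q⟩ : Nonempty (Sylow 5 N) := inferInstance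
      have hQc : Nat.card (Q : Subgroup N) = 5 := by
        rw [Q.card_eq_multiplicity, hN20, show (20 : ℕ) = 5 * 4 by norm_num,
          Nat.factorization_mul (by norm_num) (by norm_num), Finsupp.add_apply,
          Nat.Prime.factorization_self (by norm_num),
          Nat.factorization_eq_zero_of_not_dvd (by norm_num : ¬ 5 ∣ 4)]
        norm_num
      have hn : Nat.card (Sylow 5 N) = 1 := by
        have hmod := card_sylow_modEq_one 5 N
        have hd : Nat.card (Sylow 5 N) ∣ 4 := by
          have hi4 := (Q : Subgroup N).card_mul_index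
          rw [hQc, hN20] at hi4
          exact (Q.card_dvd_index).trans (dvd_of_eq (by omega))
        have hle := Nat.le_of_dvd (by norm_num) hd
        unfold Nat.ModEq at hmod
        interval_cases (Nat.card (Sylow 5 N)) <;> omega
      haveI : Subsingleton (Sylow 5 N) := (Nat.card_eq_one_iff_unique.1 hn).1
      haveI := Q.characteristic_of_subsingleton
      haveI := ConjAct.normal_of_characteristic_of_normal (H := N) (K := (Q : Subgroup N))
      have hmap : Nat.card ((Q : Subgroup N).map N.subtype) = 5 := by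
        refine Eq.trans ?_ hQc
        exact Nat.card_congr ((Q : Subgroup N).equivMapOfInjective _ N.subtype_injective).toEquiv.symm
      have hbot := odd_bot ht h4 hexp hone ((Q : Subgroup N).map N.subtype) (by rw [hmap]; norm_num)
      rw [hbot, Subgroup.card_bot] at hmap
      omega
  · left
    exact odd_bot ht h4 hexp hone N hev

end Cfsg.Agent.Invol.V4Order
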