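import Mathlib
import Cfsg.Agent.Lib.Block.Order168Klein

/-!
Any two simple groups of order `168` are isomorphic: each is conjugate, inside the symmetric group on
seven points, to one explicit subgroup.
-/

set_option autoImplicit false
set_option linter.style.haveILetI false

namespace Cfsg.Agent.Invol.O168

open Equiv Subgroup

/-- The seven cycle `x ↦ x + 1`. -/
def cc : Perm (Fin 7) := ⟨fun x => x + 1, fun x => x - 1, by decide, by decide⟩

/-- `x ↦ 2 x`. -/
def mm : Perm (Fin 7) := ⟨fun x => 2 * x, fun x => 4 * x, by decide, by decide⟩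

/-- `x ↦ 3 x`. -/
def kk : Perm (Fin 7) := ⟨fun x => 3 * x, fun x => 5 * x, by decide, by decide⟩

/-- The distinguished involution. -/
def w₀ : Perm (Fin 7) := swap 2 4 * swap 5 6

/-- The candidate involutions. -/
def cand (a b : Fin 7) : Fin 7 → Fin 7 := ![0, a, 4 * a, b, 2 * a, 2 * b, 4 * b]

/-- The excluded orders. -/
def Bad {n : ℕ} (f : Fin n → Fin n) : Prop :=
  (∃ x, f^[3] x ≠ x) ∧ (∃ x, f^[4] x ≠ x) ∧ ∃ x, f^[7] x ≠ x

instance {n : ℕ} (f : Fin n → Fin n) : Decidable (Bad f) := by unfold Bad; infer_instance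

theorem cand_cases : ∀ a b : Fin 7, (∀ x, cand a b (cand a b x) = x) →
    (∀ x, cand a b x = x) ∨ (∃ i : Fin 7, Bad (fun x => (cc ^ (i : ℕ)) (cand a b x))) ∨
      ∃ j : Fin 6, ∀ x, (kk ^ (j : ℕ)) (cand a b x) = w₀ ((kk ^ (j : ℕ)) x) := by
  decide +kernel

theorem cc_facts : Perm.IsCycle cc ∧ cc.support.card = 7 := by
  refine ⟨⟨0, by decide, fun y _ => ⟨((y : ℕ) : ℤ), ?_⟩⟩, by decide⟩
  rw [zpow_natCast]
  revert y
  decide

theorem kk_cc : kk * cc * kk⁻¹ = cc ^ 3 := by decide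

theorem kk_cc_pow (j : ℕ) : kk ^ j * cc * (kk ^ j)⁻¹ = cc ^ (3 ^ j) := by
  induction j with
  | zero => simp
  | succ j ih =>
    rw [pow_succ' kk, mul_inv_rev, show kk * kk ^ j * cc * ((kk ^ j)⁻¹ * kk⁻¹) =
      kk * (kk ^ j * cc * (kk ^ j)⁻¹) * kk⁻¹ by group, ih, ← conj_pow, kk_cc, ← pow_mul, pow_succ' 3]

variable {G : Type*} [Group G] [Finite G] [IsSimpleGroup G]

/-- Seven divides and two divides the order: the whole group. -/
theorem eq_top_of_two_seven (h : Nat.card G = 168) {H : Subgroup G} (h2 : 2 ∣ Nat.card H)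
    (h7 : 7 ∣ Nat.card H) : H = ⊤ := by
  classical
  haveI := Fact.mk (show Nat.Prime 7 by norm_num)
  by_contra hne
  have hle := Cfsg.Agent.Block.o168_proper_card_le h hne
  have hd : Nat.card H ∣ 168 := h ▸ H.card_subgroup_dvd_card
  have h14 : 14 ∣ Nat.card H := (by norm_num : Nat.Coprime 2 7).mul_dvd_of_dvd_of_dvd h2 h7
  obtain ⟨c, hc⟩ := h14
  have hH : Nat.card H = 14 := by
    have : 0 < c := Nat.pos_of_mul_pos_left (hc ▸ Nat.card_pos)
    omega
  obtain ⟨S⟩ : Nonempty (Sylow 7 H) := inferInstance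
  obtain ⟨P, hP⟩ := (S.isPGroup'.map H.subtype).exists_le_sylow
  have hn : Nat.card (Sylow 7 H) = 1 := by
    have h1 := card_sylow_modEq_one 7 H
    have h3 : Nat.card (Sylow 7 H) ∣ Nat.card H := by
      rw [S.card_eq_index_normalizer]; exact Subgroup.index_dvd_card _
    rw [hH] at h3
    have h4 := Nat.le_of_dvd (by norm_num) h3
    rw [Nat.ModEq] at h1
    interval_cases (Nat.card (Sylow 7 H)) <;> omega
  haveI : Subsingleton (Sylow 7 H) := (Nat.card_eq_one_iff_unique.1 hn).1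
  have hmap : (S : Subgroup H).map H.subtype = (P : Subgroup G) := by
    refine Subgroup.eq_of_le_of_card_ge hP ?_
    rw [(Cfsg.Agent.Block.o168_seven h P).1, Subgroup.card_map_of_injective H.subtype_injective]
    exact Nat.le_of_dvd Nat.card_pos (S.dvd_card_of_dvd_card (hH ▸ by norm_num))
  have hHN : H ≤ normalizer ((P : Subgroup G) : Set G) := by
    intro x hx
    rw [← hmap]
    refine Subgroup.le_normalizer_map H.subtype (Subgroup.mem_map.2 ⟨⟨x, hx⟩, ?_, rfl⟩)
    exact Sylow.smul_eq_iff_mem_normalizer.1 (Subsingleton.elim _ _)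
  have h21 := Subgroup.card_dvd_of_le hHN
  rw [hH, (Cfsg.Agent.Block.o168_seven h P).2.2.1] at h21
  norm_num at h21

/-- A faithful action on seven points. -/
theorem exists_hom (h : Nat.card G = 168) : ∃ f : G →* Perm (Fin 7), Function.Injective f := by
  classical
  haveI := Fact.mk Nat.prime_two
  obtain ⟨U, hU⟩ : ∃ U : Subgroup G, U.index = 7 := by
    obtain ⟨T⟩ : Nonempty (Sylow 2 G) := inferInstance
    obtain ⟨e⟩ := Cfsg.Agent.Block.o168_dihedral h T
    haveI : IsKleinFour (Cfsg.Agent.Block.d4Four 0) :=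
      Cfsg.Agent.Block.isKleinFour_of (Cfsg.Agent.Block.d4Four_card 0) fun x => Subtype.ext
        (((Cfsg.Agent.Block.d4Four_facts 0 x).1 (Cfsg.Agent.Block.mem_d4Four.1 x.2)).1)
    set U := ((Cfsg.Agent.Block.d4Four 0).map e.symm.toMonoidHom).map (T : Subgroup G).subtype
    haveI hK : IsKleinFour U := by
      let φ := ((Cfsg.Agent.Block.d4Four 0).equivMapOfInjective e.symm.toMonoidHom e.symm.injective).trans
        (((Cfsg.Agent.Block.d4Four 0).map e.symm.toMonoidHom).equivMapOfInjective _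
          (T : Subgroup G).subtype_injective)
      exact ⟨(Nat.card_congr φ.toEquiv).symm.trans IsKleinFour.card_four,
        (Monoid.exponent_eq_of_mulEquiv φ).symm.trans IsKleinFour.exponent_two⟩
    refine ⟨normalizer (U : Set G), ?_⟩
    have h1 := (normalizer (U : Set G)).card_mul_index
    rw [Cfsg.Agent.Block.klein_normalizer_card h hK, h] at h1
    omega
  let e : G ⧸ U ≃ Fin 7 := (Finite.equivFinOfCardEq (by rw [← Subgroup.index_eq_card, hU]))
  refine ⟨(e.permCongrHom.toMonoidHom).comp (MulAction.toPermHom G (G ⧸ U)), ?_⟩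
  show Function.Injective (e.permCongrHom ∘ (MulAction.toPermHom G (G ⧸ U) : G → Perm (G ⧸ U)))
  refine Function.Injective.comp e.permCongrHom.injective ?_
  rw [← MonoidHom.ker_eq_bot_iff]
  rcases IsSimpleGroup.eq_bot_or_eq_top_of_normal _ (MonoidHom.normal_ker (MulAction.toPermHom G (G ⧸ U)))
    with h1 | h1
  · exact h1
  · exfalso
    have hUtop : U = ⊤ := by
      refine Subgroup.eq_top_iff' _ |>.2 fun g => ?_
      have hg : MulAction.toPermHom G (G ⧸ U) g = 1 := MonoidHom.mem_ker.1 (h1 ▸ Subgroup.mem_top g)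
      have h2 : g • ((1 : G) : G ⧸ U) = ((1 : G) : G ⧸ U) := by
        simpa [MulAction.toPermHom_apply] using DFunLike.congr_fun hg ((1 : G) : G ⧸ U)
      rw [MulAction.Quotient.smul_coe, smul_eq_mul, mul_one] at h2
      simpa using QuotientGroup.eq.1 h2
    rw [hUtop, Subgroup.index_top] at hU
    omega

theorem orderOf_cases (h : Nat.card G = 168) {f : G →* Perm (Fin 7)} (g : G) :
    ¬ Bad (f g : Fin 7 → Fin 7) := by
  rintro ⟨⟨x, hx⟩, ⟨y, hy⟩, ⟨z, hz⟩⟩
  have key : ∀ n : ℕ, g ^ n = 1 → ∀ x, (f g)^[n] x = x := fun n hn x => by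
    rw [← Equiv.Perm.coe_pow, ← map_pow, hn, map_one]; rfl
  have hg := pow_orderOf_eq_one g
  rcases Cfsg.Agent.Block.o168_orders h g with e | e | e | e | e <;> rw [e] at hg
  · exact hx (key 3 (by rw [pow_one] at hg; rw [hg, one_pow]) x)
  · exact hy (key 4 (by rw [show 4 = 2 * 2 from rfl, pow_mul, hg, one_pow]) y)
  · exact hx (key 3 hg x)
  · exact hy (key 4 hg y)
  · exact hz (key 7 hg z)

/-- Normal form. -/
theorem exists_normal_form (h : Nat.card G = 168) :
    ∃ f : G →* Perm (Fin 7), Function.Injective f ∧ f.range = closure {cc, w₀} := by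
  classical
  haveI := Fact.mk (show Nat.Prime 7 by norm_num)
  haveI := Fact.mk (show Nat.Prime 3 by norm_num)
  obtain ⟨f₀, hf₀⟩ := exists_hom h
  obtain ⟨g₇, hg₇⟩ := exists_prime_orderOf_dvd_card' (G := G) 7 (h ▸ by norm_num)
  -- the seven cycle
  have hc₀ : orderOf (f₀ g₇) = 7 := (orderOf_injective f₀ hf₀ g₇).trans hg₇
  have hcyc : Perm.IsCycle (f₀ g₇) :=
    Equiv.Perm.isCycle_of_prime_order'' (by rw [Fintype.card_fin]; norm_num) (by rw [hc₀, Fintype.card_fin])
  obtain ⟨π, hπ⟩ := isConj_iff.1 (hcyc.isConj cc_facts.1 (by rw [cc_facts.2, ← hcyc.orderOf, hc₀]))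
  set f₁ := (MulAut.conj π).toMonoidHom.comp f₀ with hf₁
  have hf₁i : Function.Injective f₁ := (MulAut.conj π).injective.comp hf₀
  have hf₁c : f₁ g₇ = cc := by rw [← hπ]; rfl
  -- an element of order three normalising it
  obtain ⟨P, hP⟩ := (IsPGroup.of_card (n := 1) (by rw [Nat.card_zpowers, hg₇, pow_one]) :
    IsPGroup 7 (zpowers g₇)).exists_le_sylow
  have hPz : zpowers g₇ = (P : Subgroup G) := Subgroup.eq_of_le_of_card_ge hP (by
    rw [(Cfsg.Agent.Block.o168_seven h P).1, Nat.card_zpowers, hg₇])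
  obtain ⟨⟨m, hmN⟩, hm⟩ := exists_prime_orderOf_dvd_card' (G := normalizer ((P : Subgroup G) : Set G)) 3
    (by rw [(Cfsg.Agent.Block.o168_seven h P).2.2.1]; norm_num)
  rw [Subgroup.orderOf_mk] at hm
  obtain ⟨i, hi, hconj⟩ : ∃ i : ℕ, (i = 2 ∨ i = 4) ∧ m * g₇ * m⁻¹ = g₇ ^ i := by
    have h1 : m * g₇ * m⁻¹ ∈ (P : Subgroup G) :=
      (Subgroup.mem_normalizer_iff.1 hmN g₇).1 (hPz ▸ mem_zpowers g₇)
    rw [← hPz, ← mem_powers_iff_mem_zpowers, Submonoid.mem_powers_iff] at h1
    obtain ⟨i, hi⟩ := h1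
    have hi' : g₇ ^ (i % 7) = m * g₇ * m⁻¹ := by rw [← hi, ← hg₇, pow_mod_orderOf]
    refine ⟨i % 7, ?_, hi'.symm⟩
    have hm3 : m ^ 3 = 1 := hm ▸ pow_orderOf_eq_one m
    have h3 : g₇ ^ (i % 7 * (i % 7) * (i % 7)) = g₇ := by
      calc g₇ ^ (i % 7 * (i % 7) * (i % 7)) = ((g₇ ^ (i % 7)) ^ (i % 7)) ^ (i % 7) := by rw [pow_mul, pow_mul]
        _ = m ^ 3 * g₇ * (m ^ 3)⁻¹ := by
          rw [hi', conj_pow, hi', conj_pow, conj_pow, hi', pow_succ m 2, pow_two]; group
        _ = g₇ := by rw [hm3]; group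
    have h4 : (i % 7 * (i % 7) * (i % 7)) % 7 = 1 := by
      conv_rhs at h3 => rw [← pow_one g₇]
      rw [pow_eq_pow_iff_modEq, hg₇] at h3
      exact h3
    have hne1 : i % 7 ≠ 1 := by
      intro e
      rw [e, pow_one] at hi'
      have hmC : m ∈ centralizer ((P : Subgroup G) : Set G) := by
        refine mem_centralizer_iff.2 fun x hx => ?_
        rw [SetLike.mem_coe, ← hPz] at hx
        obtain ⟨k, rfl⟩ := mem_zpowers_iff.1 hx
        exact ((show Commute m g₇ by rw [commute_iff_eq, ← mul_inv_eq_iff_eq_mul, ← hi']).zpow_right k).eq.symm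
      rw [(Cfsg.Agent.Block.o168_seven h P).2.2.2] at hmC
      have h5 := (P : Subgroup G).orderOf_dvd_natCard hmC
      rw [hm, (Cfsg.Agent.Block.o168_seven h P).1] at h5
      norm_num at h5
    have hlt := Nat.mod_lt i (show 7 > 0 by norm_num)
    exact (by decide : ∀ r < 7, r * r * r % 7 = 1 → r ≠ 1 → r = 2 ∨ r = 4) _ hlt h4 hne1
  obtain ⟨m₂, hm₂o, hm₂⟩ : ∃ m₂ : G, orderOf m₂ = 3 ∧ m₂ * g₇ * m₂⁻¹ = g₇ ^ 2 := by
    rcases hi with rfl | rfl
    · exact ⟨m, hm, hconj⟩
    · refine ⟨m⁻¹, by rw [orderOf_inv, hm], ?_⟩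
      have h2 : m⁻¹ * g₇ ^ 8 * m⁻¹⁻¹ = g₇ ^ 2 := by
        rw [show g₇ ^ 8 = (g₇ ^ 4) ^ 2 by rw [← pow_mul], ← hconj, conj_pow]; group
      rwa [show g₇ ^ 8 = g₇ by rw [← pow_mod_orderOf, hg₇]; norm_num] at h2
  -- move its fixed point to zero
  set M := f₁ m₂ with hMdef
  have hMc : ∀ x, M (cc x) = (cc ^ 2) (M x) := fun x => by
    have := congrArg f₁ hm₂
    simp only [map_mul, map_inv, map_pow, hf₁c] at this
    have h2 := DFunLike.congr_fun this (M x)
    simp only [← hMdef, Perm.mul_apply, Perm.inv_def, Equiv.symm_apply_apply] at h2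
    exact h2
  set π₂ : Perm (Fin 7) := cc ^ ((M 0 : Fin 7) : ℕ) with hπ₂
  set f := (MulAut.conj π₂).toMonoidHom.comp f₁ with hfdef
  have hfi : Function.Injective f := (MulAut.conj π₂).injective.comp hf₁i
  have hfc : f g₇ = cc := by
    show π₂ * f₁ g₇ * π₂⁻¹ = cc
    rw [hf₁c, hπ₂]; group
  have hfm : f m₂ = mm := by
    show π₂ * M * π₂⁻¹ = mm
    have hM : ∀ x : Fin 7, M x = M 0 + 2 * x := by
      have hstep : ∀ x : Fin 7, M (x + 1) = M x + 2 := fun x => by
        have h1 := hMc x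
        have h2 : ∀ y : Fin 7, (cc ^ 2) y = y + 2 := by decide
        rw [h2] at h1
        exact h1
      intro x
      have h3 : ∀ n : ℕ, M (Fin.ofNat 7 n) = M 0 + 2 * (Fin.ofNat 7 n) := by
        intro n
        induction n with
        | zero => simp
        | succ n ih =>
          have e : Fin.ofNat 7 (n + 1) = Fin.ofNat 7 n + 1 := by ext; simp [Fin.val_add, Nat.add_mod]
          have e2 : ∀ a b : Fin 7, a + 2 * b + 2 = a + 2 * (b + 1) := by decide
          rw [e, hstep, ih, e2]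
      simpa using h3 x.val
    have key : ∀ t y : Fin 7, ((cc ^ (t : ℕ) : Perm (Fin 7)) (t + 2 * ((cc ^ (t : ℕ))⁻¹ : Perm (Fin 7)) y)) =
        mm y := by decide +kernel
    ext1 y
    rw [Perm.mul_apply, Perm.mul_apply, hM, hπ₂]
    exact key _ y
  -- an involution inverting it
  obtain ⟨Q, hQ⟩ := (IsPGroup.of_card (n := 1) (by rw [Nat.card_zpowers, hm₂o, pow_one]) :
    IsPGroup 3 (zpowers m₂)).exists_le_sylow
  have hQz : zpowers m₂ = (Q : Subgroup G) := Subgroup.eq_of_le_of_card_ge hQ (by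
    rw [(Cfsg.Agent.Block.o168_three h Q).1, Nat.card_zpowers, hm₂o])
  haveI := Fact.mk Nat.prime_two
  obtain ⟨⟨w, hwN⟩, hw⟩ := exists_prime_orderOf_dvd_card' (G := normalizer ((Q : Subgroup G) : Set G)) 2
    (by rw [(Cfsg.Agent.Block.o168_three h Q).2.2.1]; norm_num)
  rw [Subgroup.orderOf_mk] at hw
  have hwm : w * m₂ * w⁻¹ = m₂⁻¹ := by
    have h1 : w * m₂ * w⁻¹ ∈ (Q : Subgroup G) :=
      (Subgroup.mem_normalizer_iff.1 hwN m₂).1 (hQz ▸ mem_zpowers m₂)
    rw [← hQz, ← mem_powers_iff_mem_zpowers, Submonoid.mem_powers_iff] at h1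
    obtain ⟨i, hi⟩ := h1
    have hi' : m₂ ^ (i % 3) = w * m₂ * w⁻¹ := by rw [← hi, ← hm₂o, pow_mod_orderOf]
    have hlt := Nat.mod_lt i (show 3 > 0 by norm_num)
    interval_cases hr : (i % 3)
    · have : m₂ = 1 := by
        rw [pow_zero] at hi'
        rwa [eq_comm, mul_inv_eq_one, mul_eq_left] at hi'
      rw [this, orderOf_one] at hm₂o
      norm_num at hm₂o
    · rw [pow_one] at hi'
      have hwC : w ∈ centralizer ((Q : Subgroup G) : Set G) := by
        refine mem_centralizer_iff.2 fun x hx => ?_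
        rw [SetLike.mem_coe, ← hQz] at hx
        obtain ⟨k, rfl⟩ := mem_zpowers_iff.1 hx
        exact ((show Commute w m₂ by rw [commute_iff_eq, ← mul_inv_eq_iff_eq_mul, ← hi']).zpow_right k).eq.symm
      rw [(Cfsg.Agent.Block.o168_three h Q).2.2.2] at hwC
      have h5 := (Q : Subgroup G).orderOf_dvd_natCard hwC
      rw [hw, (Cfsg.Agent.Block.o168_three h Q).1] at h5
      norm_num at h5
    · rw [← hi']
      refine eq_inv_of_mul_eq_one_left ?_
      rw [← pow_succ]
      exact (congrArg (fun n => m₂ ^ n) hm₂o.symm).trans (pow_orderOf_eq_one m₂)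
  set W := f w with hWdef
  have hWm : ∀ x, W (mm x) = mm⁻¹ (W x) := fun x => by
    have := congrArg f hwm
    simp only [map_mul, map_inv, hfm] at this
    have h2 := DFunLike.congr_fun this (W x)
    simp only [← hWdef, Perm.mul_apply, Perm.inv_def, Equiv.symm_apply_apply] at h2
    exact h2
  have hW2 : ∀ x, W (W x) = x := fun x => by
    rw [← Perm.mul_apply, ← sq, hWdef, ← map_pow, ← hw, pow_orderOf_eq_one, map_one]; rfl
  have hminv : ∀ y : Fin 7, (mm⁻¹ : Perm (Fin 7)) y = 4 * y := by decide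
  have hW0 : W 0 = 0 := by
    have h1 := hWm 0
    have h2 : mm 0 = 0 := by decide
    rw [h2, hminv] at h1
    exact (by decide : ∀ y : Fin 7, y = 4 * y → y = 0) _ h1
  have hWcand : ∀ x, W x = cand (W 1) (W 3) x := by
    have hs : ∀ y, W (2 * y) = 4 * W y := fun y => by
      have h1 := hWm y
      rw [hminv] at h1
      exact h1
    intro x
    fin_cases x
    · exact hW0
    · rfl
    · exact (show W (2 * 1) = 4 * W 1 from hs 1)
    · rfl
    · show W 4 = 2 * W 1
      rw [show (4 : Fin 7) = 2 * (2 * 1) by decide, hs, hs,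
        show ∀ y : Fin 7, 4 * (4 * y) = 2 * y by decide]
    · show W 5 = 2 * W 3
      rw [show (5 : Fin 7) = 2 * (2 * 3) by decide, hs, hs,
        show ∀ y : Fin 7, 4 * (4 * y) = 2 * y by decide]
    · exact (show W (2 * 3) = 4 * W 3 from hs 3)
  have hinv : ∀ x, cand (W 1) (W 3) (cand (W 1) (W 3) x) = x := fun x => by
    rw [← hWcand, ← hWcand]; exact hW2 x
  rcases cand_cases _ _ hinv with h1 | ⟨i, hi⟩ | ⟨j, hj⟩
  · exfalso
    have : f w = 1 := Equiv.ext fun x => (hWcand x).trans (h1 x)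
    rw [← map_one f] at this
    rw [hfi this, orderOf_one] at hw
    norm_num at hw
  · exfalso
    refine orderOf_cases h (f := f) (g₇ ^ (i : ℕ) * w) ?_
    have he : ((f (g₇ ^ (i : ℕ) * w) : Perm (Fin 7)) : Fin 7 → Fin 7) =
        fun x => (cc ^ (i : ℕ)) (cand (W 1) (W 3) x) := by
      funext x
      rw [map_mul, map_pow, hfc, Perm.mul_apply, ← hWdef, hWcand]
    rw [he]
    exact hi
  · refine ⟨(MulAut.conj (kk ^ (j : ℕ))).toMonoidHom.comp f, (MulAut.conj _).injective.comp hfi, ?_⟩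
    set F := (MulAut.conj (kk ^ (j : ℕ))).toMonoidHom.comp f with hF
    have hFi : Function.Injective F := (MulAut.conj _).injective.comp hfi
    have hcR : cc ∈ F.range := by
      have h1 : cc ^ (3 ^ (j : ℕ)) ∈ F.range :=
        ⟨g₇, by rw [← kk_cc_pow]; show kk ^ (j : ℕ) * f g₇ * _ = _; rw [hfc]⟩
      obtain ⟨t, ht⟩ : ∃ t, (3 ^ (j : ℕ) * t) % 7 = 1 :=
        ((by decide : ∀ i : Fin 6, ∃ t : Fin 7, ((3 : ℕ) ^ (i : ℕ) * (t : ℕ)) % 7 = 1) j).elim
          fun t ht => ⟨(t : ℕ), ht⟩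
      have h2 := F.range.pow_mem h1 t
      have hco : orderOf cc = 7 := by rw [cc_facts.1.orderOf, cc_facts.2]
      rwa [← pow_mul, ← pow_mod_orderOf, hco, ht, pow_one] at h2
    have hwR : w₀ ∈ F.range := by
      refine ⟨w, Equiv.ext fun x => ?_⟩
      show (kk ^ (j : ℕ) * W * (kk ^ (j : ℕ))⁻¹) x = w₀ x
      rw [Perm.mul_apply, Perm.mul_apply, hWcand, hj]
      simp
    set H := closure ({cc, w₀} : Set (Perm (Fin 7))) with hH
    have hHR : H ≤ F.range := (closure_le _).2 (by rintro _ (rfl | rfl) <;> assumption)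
    have htop : H.comap F = ⊤ := by
      obtain ⟨a, ha⟩ := hcR
      obtain ⟨b, hb⟩ := hwR
      have haH : a ∈ H.comap F := show F a ∈ H by rw [ha]; exact subset_closure (Or.inl rfl)
      have hbH : b ∈ H.comap F := show F b ∈ H by rw [hb]; exact subset_closure (Or.inr rfl)
      refine eq_top_of_two_seven h ?_ ?_
      · have h2 : orderOf b = 2 := by
          rw [← orderOf_injective F hFi, hb]
          exact orderOf_eq_prime (by decide) (by decide)
        exact (dvd_of_eq h2.symm).trans ((H.comap F).orderOf_dvd_natCard hbH)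
      · have h2 : orderOf a = 7 := by rw [← orderOf_injective F hFi, ha, cc_facts.1.orderOf, cc_facts.2]
        exact (dvd_of_eq h2.symm).trans ((H.comap F).orderOf_dvd_natCard haH)
    refine le_antisymm ?_ hHR
    rw [MonoidHom.range_eq_map, ← htop]
    exact Subgroup.map_comap_le F H

/-- Uniqueness. -/
theorem iso {H : Type*} [Group H] [Finite H] [IsSimpleGroup H] (hG : Nat.card G = 168)
    (hH : Nat.card H = 168) : Nonempty (G ≃* H) := by
  obtain ⟨f, hf, hfr⟩ := exists_normal_form hG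
  obtain ⟨g, hg, hgr⟩ := exists_normal_form hH
  exact ⟨((MonoidHom.ofInjective hf).trans (MulEquiv.subgroupCongr (hfr.trans hgr.symm))).trans
    (MonoidHom.ofInjective hg).symm⟩

end Cfsg.Agent.Invol.O168
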