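import Mathlib
import Cfsg.Agent.Lib.Invol.Sylow

/-!
# Groups with a Klein four Sylow 2-subgroup: classes of involutions
-/

namespace Cfsg.Agent.Invol

variable {G : Type*} [Group G] [Finite G] (P : Sylow 2 G)

/-- Conjugacy classes of involutions. -/
abbrev InvolClass (G : Type*) [Group G] :=
  {C : ConjClasses G // ∃ t : G, orderOf t = 2 ∧ ConjClasses.mk t = C}

theorem klein_orderOf (hP : IsKleinFour (P : Subgroup G)) {x : G} (hx : x ∈ P) (h1 : x ≠ 1) :
    orderOf x = 2 := by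
  have := hP
  refine orderOf_two_iff.mpr ⟨?_, h1⟩
  exact congrArg Subtype.val (IsKleinFour.mul_self (⟨x, hx⟩ : (P : Subgroup G)))

theorem klein_comm (hP : IsKleinFour (P : Subgroup G)) {x y : G} (hx : x ∈ P) (hy : y ∈ P) :
    x * y = y * x :=
  have := hP
  congrArg Subtype.val
    ((IsKleinFour.isMulCommutative (G := (P : Subgroup G))).is_comm.comm ⟨x, hx⟩ ⟨y, hy⟩)

theorem klein_fusion (hP : IsKleinFour (P : Subgroup G)) {x y : G} (hx : x ∈ P) (hy : y ∈ P)
    (h : IsConj x y) : ∃ n ∈ Subgroup.normalizer (P : Set G), n * x * n⁻¹ = y := by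
  have := hP
  have : IsMulCommutative (P : Subgroup G) := IsKleinFour.isMulCommutative
  obtain ⟨g, rfl⟩ := isConj_iff.mp h
  obtain ⟨n, hn, hn'⟩ := P.conj_eq_normalizer_conj_of_mem x g⁻¹ hx (by simpa using hy)
  refine ⟨n⁻¹, inv_mem hn, ?_⟩
  simpa using hn'.symm

/-- If some element of `P` is conjugate to another one, all involutions are conjugate. -/
theorem klein_all_conj (hP : IsKleinFour (P : Subgroup G)) {a b : G} (ha : a ∈ P) (hb : b ∈ P)
    (ha1 : a ≠ 1) (hab : a ≠ b) (h : IsConj a b) {x : G} (hx : x ∈ P) (hx1 : x ≠ 1) :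
    IsConj a x := by
  classical
  have := hP
  obtain ⟨n, hn, rfl⟩ := klein_fusion P hP ha hb h
  set b := n * a * n⁻¹ with hbdef
  have hb1 : b ≠ 1 := by simpa [hbdef] using ha1
  -- the odd part of `n` acts as `n` does
  obtain ⟨k, o, ho, hord⟩ := Nat.exists_eq_two_pow_mul_odd (orderOf_pos n).ne'
  obtain ⟨j, hj⟩ := ho
  have hcent : n ^ o * a * (n ^ o)⁻¹ = a := by
    have ho2 : orderOf (n ^ o) = 2 ^ k := by
      rw [orderOf_pow' _ (by omega : o ≠ 0), hord, Nat.gcd_eq_right (dvd_mul_left o _),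
        Nat.mul_div_cancel _ (by omega : 0 < o)]
    have hp : IsPGroup 2 (Subgroup.zpowers (n ^ o)) := isPGroup_zpowers ho2
    have hle : Subgroup.zpowers (n ^ o) ≤ P := by
      rw [← inf_eq_left, ← hp.inf_normalizer_sylow, inf_eq_left, Subgroup.zpowers_le]
      exact pow_mem hn o
    rw [klein_comm P hP (hle (Subgroup.mem_zpowers _)) ha, mul_inv_cancel_right]
  -- so `n` moves `b` to the third involution
  have hc : n * b * n⁻¹ ≠ a := by
    intro hba
    have h2 : ∀ i : ℕ, n ^ (2 * i) * a * (n ^ (2 * i))⁻¹ = a := by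
      intro i
      induction i with
      | zero => simp
      | succ i ih =>
        calc n ^ (2 * (i + 1)) * a * (n ^ (2 * (i + 1)))⁻¹
            = n * (n * (n ^ (2 * i) * a * (n ^ (2 * i))⁻¹) * n⁻¹) * n⁻¹ := by
              rw [show 2 * (i + 1) = 2 * i + 1 + 1 by ring, pow_succ', pow_succ']
              simp [mul_assoc]
          _ = a := by rw [ih, ← hbdef, hba]
    apply hab
    calc a = n ^ o * a * (n ^ o)⁻¹ := hcent.symm
      _ = n * (n ^ (2 * j) * a * (n ^ (2 * j))⁻¹) * n⁻¹ := by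
        rw [hj, pow_succ']; simp [mul_assoc]
      _ = b := by rw [h2, hbdef]
  have hb2 : n * b * n⁻¹ ∈ P := (Subgroup.mem_normalizer_iff.mp hn b).mp hb
  have hb21 : n * b * n⁻¹ ≠ 1 := by simpa using hb1
  have hb2b : n * b * n⁻¹ ≠ b := by
    intro he
    apply hab
    have : n * b * n⁻¹ = n * a * n⁻¹ := he
    simpa [hbdef] using (mul_left_cancel (mul_right_cancel this)).symm
  have third : ∀ z : G, z ∈ P → z ≠ 1 → z ≠ a → z ≠ b → z = a * b := by
    intro z hz hz1 hza hzb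
    exact congrArg Subtype.val (IsKleinFour.eq_mul_of_ne_all
      (x := (⟨a, ha⟩ : (P : Subgroup G))) (y := ⟨b, hb⟩) (z := ⟨z, hz⟩)
      (fun e => ha1 (congrArg Subtype.val e)) (fun e => hb1 (congrArg Subtype.val e))
      (fun e => hab (congrArg Subtype.val e))
      (fun e => hz1 (congrArg Subtype.val e)) (fun e => hza (congrArg Subtype.val e))
      (fun e => hzb (congrArg Subtype.val e)))
  rcases eq_or_ne x a with rfl | hxa
  · exact IsConj.refl _
  rcases eq_or_ne x b with rfl | hxb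
  · exact isConj_iff.mpr ⟨n, rfl⟩
  rw [third x hx hx1 hxa hxb, ← third _ hb2 hb21 hc hb2b]
  exact (isConj_iff.mpr ⟨n, rfl⟩).trans (isConj_iff.mpr ⟨n, rfl⟩)

theorem klein_exists_rep (C : InvolClass G) :
    ∃ x : G, x ∈ P ∧ x ≠ 1 ∧ ConjClasses.mk x = C.1 := by
  obtain ⟨C, t, ht, rfl⟩ := C
  obtain ⟨g, hg⟩ := exists_conj_mem_sylow (p := 2) (n := 1) (by rw [ht, pow_one]) P
  refine ⟨_, hg, by simpa using ne_one_of_orderOf_two ht, ?_⟩
  exact ConjClasses.mk_eq_mk_iff_isConj.mpr (isConj_iff.mpr ⟨g, rfl⟩).symm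

/-- Fusion in a Klein four Sylow 2-subgroup is trivial. -/
def KleinUnfused : Prop := ∀ x ∈ P, ∀ y ∈ P, IsConj x y → x = y

theorem card_involClass_of_unfused (hP : IsKleinFour (P : Subgroup G)) (h : KleinUnfused P) :
    Nat.card (InvolClass G) = 3 := by
  classical
  have := hP
  let f : {x : (P : Subgroup G) // ¬ x = 1} → InvolClass G := fun x =>
    ⟨ConjClasses.mk (x.1 : G), x.1.1, klein_orderOf P hP x.1.2 (fun e => x.2 (Subtype.ext e)), rfl⟩
  have hf : Function.Bijective f := by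
    refine ⟨fun x y e => ?_, fun C => ?_⟩
    · exact Subtype.ext (Subtype.ext
        (h _ x.1.2 _ y.1.2 (ConjClasses.mk_eq_mk_iff_isConj.mp (congrArg Subtype.val e))))
    · obtain ⟨x, hx, hx1, hxC⟩ := klein_exists_rep P C
      exact ⟨⟨⟨x, hx⟩, fun e => hx1 (congrArg Subtype.val e)⟩, Subtype.ext hxC⟩
  have h4 : Nat.card (P : Subgroup G) = 4 := IsKleinFour.card_four
  rw [← Nat.card_congr (Equiv.ofBijective f hf)]
  have := Fintype.ofFinite (P : Subgroup G)
  rw [Nat.card_eq_fintype_card, Fintype.card_subtype_compl, Fintype.card_subtype_eq,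
    ← Nat.card_eq_fintype_card, h4]

theorem card_involClass_of_fused (hP : IsKleinFour (P : Subgroup G)) (h : ¬ KleinUnfused P) :
    Nat.card (InvolClass G) = 1 := by
  simp only [KleinUnfused, not_forall] at h
  obtain ⟨a, ha, b, hb, hab, hne⟩ := h
  have ha1 : a ≠ 1 := by
    rintro rfl
    exact hne (by obtain ⟨c, rfl⟩ := isConj_iff.mp hab; simp)
  rw [Nat.card_eq_one_iff_unique]
  refine ⟨⟨fun C D => ?_⟩, ⟨⟨ConjClasses.mk a, a, klein_orderOf P hP ha ha1, rfl⟩⟩⟩
  obtain ⟨x, hx, hx1, hxC⟩ := klein_exists_rep P C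
  obtain ⟨y, hy, hy1, hyD⟩ := klein_exists_rep P D
  refine Subtype.ext ?_
  rw [← hxC, ← hyD]
  exact ConjClasses.mk_eq_mk_iff_isConj.mpr
    ((klein_all_conj P hP ha hb ha1 hne hab hx hx1).symm.trans
      (klein_all_conj P hP ha hb ha1 hne hab hy hy1))

end Cfsg.Agent.Invol
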