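import Cfsg.Agent.Lib.Block.KleinOrder
import Cfsg.Agent.Lib.Char.ModP

/-!
The order formula bounds the index of the centralizer of a Klein four Sylow subgroup which is also
the centralizer of its involutions.
-/

set_option autoImplicit false
set_option linter.unusedSectionVars false
set_option linter.style.haveILetI false

namespace Cfsg.Agent.Invol.KleinIndex

open Cfsg Cfsg.Agent.Block

universe u

theorem centralizer_index_lt {G : Type u} [Group G] [Finite G] {P : Sylow 2 G}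
    (hP : IsKleinFour (P : Subgroup G))
    (hone : ∀ s t : G, orderOf s = 2 → orderOf t = 2 → IsConj s t) {J : G}
    (hJP : J ∈ (P : Subgroup G)) (hJ : orderOf J = 2)
    (hc : Subgroup.centralizer ({J} : Set G) = Subgroup.centralizer ((P : Subgroup G) : Set G)) :
    (Subgroup.centralizer ({J} : Set G)).index < 24 := by
  classical
  cases nonempty_fintype G
  haveI : Fact (Nat.Prime 2) := ⟨Nat.prime_two⟩
  obtain ⟨M, hM⟩ := Cfsg.Agent.Char.exists_isPModular 2 Nat.prime_two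
  obtain ⟨z₂, z₃, z₄, ε, hε, n2, n3, d23, d24, d34, hB, hval, h2, h3, h4, hrel⟩ :=
    Block.klein_principal hM P hP hone
  obtain ⟨v2, v3, v4⟩ := hval J hJ
  have t4 : Block.trivialIrr G ≠ z₄ := fun h => by
    have : (z₄ : G → ℂ) J = 1 := by rw [← h]; rfl
    rw [v4] at this
    norm_num at this
  have t2 : Block.trivialIrr G ≠ z₂ := fun h => n2 (by rw [← h]; rfl)
  have t3 : Block.trivialIrr G ≠ z₃ := fun h => n3 (by rw [← h]; rfl)
  set A := Finset.univ.filter (fun χ : IrrCharacter G => χ ∈ Cfsg.principalBlock M G) with hA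
  have hAeq : A = {Block.trivialIrr G, z₂, z₃, z₄} := by
    ext χ
    simp only [A, Finset.mem_filter, Finset.mem_univ, true_and, hB, Set.mem_setOf_eq,
      Finset.mem_insert, Finset.mem_singleton]
    exact or_congr ⟨fun h => Subtype.ext h, fun h => by rw [h]; rfl⟩ Iff.rfl
  have hf := Block.KleinOrder.order_formula hM hP hone hJP hJ
  simp only [← hA] at hf
  rw [hAeq, Finset.sum_insert (by simp [t2, t3, t4]), Finset.sum_insert (by simp [d23, d24]),
    Finset.sum_pair d34, ← hc] at hf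
  rw [show ((Block.trivialIrr G : IrrCharacter G) : G → ℂ) J = 1 from rfl,
    show ((Block.trivialIrr G : IrrCharacter G) : G → ℂ) 1 = 1 from rfl, v2, v3, v4,
    Block.charDeg_spec', Block.charDeg_spec', Block.charDeg_spec'] at hf
  set C := Subgroup.centralizer ({J} : Set G) with hC
  set x₂ := Cfsg.charDegree (z₂ : G → ℂ) with hx₂
  set x₃ := Cfsg.charDegree (z₃ : G → ℂ) with hx₃
  set x₄ := Cfsg.charDegree (z₄ : G → ℂ) with hx₄
  have hp2 : (1 : ℤ) ≤ (x₂ : ℤ) := by have := Block.charDeg_pos z₂; omega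
  have hp3 : (1 : ℤ) ≤ (x₃ : ℤ) := by have := Block.charDeg_pos z₃; omega
  have hp4 : (3 : ℤ) ≤ (x₄ : ℤ) := by have := Block.charDeg_pos z₄; omega
  have hQ : (8 : ℚ) = (C.index : ℚ) * (1 + 1 / (x₂ : ℚ) + (ε : ℚ) ^ 3 / (x₃ : ℚ) - 1 / (x₄ : ℚ)) := by
    have hc0 : (Nat.card C : ℂ) ≠ 0 := Nat.cast_ne_zero.2 Nat.card_pos.ne'
    have hGc : (Nat.card G : ℂ) = (Nat.card C : ℂ) * (C.index : ℂ) := by exact_mod_cast C.card_mul_index.symm
    rw [hGc] at hf
    have : (((8 : ℚ) : ℚ) : ℂ) =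
        (((C.index : ℚ) * (1 + 1 / (x₂ : ℚ) + (ε : ℚ) ^ 3 / (x₃ : ℚ) - 1 / (x₄ : ℚ)) : ℚ) : ℂ) := by
      push_cast
      refine mul_right_cancel₀ (pow_ne_zero 3 hc0) ?_
      linear_combination hf
    exact_mod_cast this
  have q2 : (0 : ℚ) < 1 / (x₂ : ℚ) := div_pos one_pos (by exact_mod_cast (by omega : 0 < x₂))
  have q4 : 1 / (x₄ : ℚ) ≤ 1 / 3 :=
    one_div_le_one_div_of_le (by norm_num) (by exact_mod_cast (by omega : 3 ≤ x₄))
  have q3 : -(1 / 3 : ℚ) ≤ (ε : ℚ) ^ 3 / (x₃ : ℚ) := by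
    rcases hε with rfl | rfl
    · have : (0 : ℚ) < 1 / (x₃ : ℚ) := div_pos one_pos (by exact_mod_cast (by omega : 0 < x₃))
      push_cast; rw [one_pow]; linarith
    · have h33 : (3 : ℤ) ≤ (x₃ : ℤ) := by omega
      have := one_div_le_one_div_of_le (by norm_num : (0 : ℚ) < 3)
        (show (3 : ℚ) ≤ (x₃ : ℚ) by exact_mod_cast h33)
      push_cast
      rw [show ((-1 : ℚ)) ^ 3 = -1 by norm_num, neg_div]
      linarith
  have hlt : (C.index : ℚ) < 24 := by
    have : (0 : ℚ) ≤ (C.index : ℚ) := Nat.cast_nonneg _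
    nlinarith
  exact_mod_cast hlt

end Cfsg.Agent.Invol.KleinIndex
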