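import Cfsg.Agent.Lib.Fus.SmallSimple

/-!
Simple groups with Sylow two-subgroup of order four and a subgroup of index at most seven.
-/

set_option autoImplicit false
set_option linter.unusedSectionVars false
set_option linter.style.haveILetI false

namespace Cfsg.Agent.Invol.SmallIndex

universe u

variable {G : Type u} [Group G] [Finite G]

/-- The image of a simple group in the symmetric group of degree seven is small. -/
theorem card_le_of_seven [IsSimpleGroup G] (hna : ¬ IsMulCommutative G) {H : Subgroup G} (hH : H.index = 7) :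
    Nat.card G ≤ 360 ∨ Nat.card G = 2520 := by
  classical
  haveI : Fintype (G ⧸ H) := Fintype.ofFinite _
  have hne : H ≠ ⊤ := fun h => by rw [h, Subgroup.index_top] at hH; omega
  have hk : H.normalCore = ⊥ :=
    (IsSimpleGroup.eq_bot_or_eq_top_of_normal _ H.normalCore_normal).resolve_right fun e =>
      hne (top_le_iff.mp (e ▸ H.normalCore_le))
  have hinj : Function.Injective (MulAction.toPermHom G (G ⧸ H)) :=
    (MonoidHom.ker_eq_bot_iff _).mp (H.normalCore_eq_ker ▸ hk)
  set f := MulAction.toPermHom G (G ⧸ H) with hf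
  have hsign : ∀ g, Equiv.Perm.sign (f g) = 1 := by
    set s : G →* ℤˣ := (Equiv.Perm.sign).comp f with hs
    rcases IsSimpleGroup.eq_bot_or_eq_top_of_normal s.ker inferInstance with h | h
    · exfalso
      have hsi : Function.Injective s := (MonoidHom.ker_eq_bot_iff _).mp h
      exact hna ⟨⟨fun a b => hsi (by rw [map_mul, map_mul, mul_comm])⟩⟩
    · intro g
      exact MonoidHom.mem_ker.mp (h.ge (Subgroup.mem_top g))
  have hc7 : Nat.card (G ⧸ H) = 7 := hH
  set R := f.range.subgroupOf (alternatingGroup (G ⧸ H)) with hR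
  have hle : f.range ≤ alternatingGroup (G ⧸ H) := by
    rintro _ ⟨g, rfl⟩; exact hsign g
  have hRc : Nat.card R = Nat.card G := by
    rw [hR, Nat.card_congr (Subgroup.subgroupOfEquivOfLe hle).toEquiv,
      ← Nat.card_congr (MonoidHom.ofInjective hinj).toEquiv]
  have hA : Nat.card (alternatingGroup (G ⧸ H)) = 2520 := by
    haveI : Nontrivial (G ⧸ H) := Finite.one_lt_card_iff_nontrivial.1 (by omega)
    rw [nat_card_alternatingGroup, hc7]
    rfl
  have hmul := R.card_mul_index
  rw [hA, hRc] at hmul
  by_cases hR1 : R = ⊤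
  · right
    rw [hR1, Subgroup.index_top, mul_one] at hmul
    exact hmul
  · left
    haveI : IsSimpleGroup (alternatingGroup (G ⧸ H)) := alternatingGroup.isSimpleGroup (by omega)
    have hd := Fus.card_dvd_factorial_index hR1
    rw [hA] at hd
    have : 7 ≤ R.index := by
      by_contra hlt
      push Not at hlt
      interval_cases R.index <;> simp_all [Nat.factorial]
    nlinarith

theorem card_le_hundred [IsSimpleGroup G] (hna : ¬ IsMulCommutative G) {g₀ : ℕ}
    (hG : Nat.card G = 4 * g₀) (hodd : ¬ 2 ∣ g₀) {H : Subgroup G} (hne : H ≠ ⊤) (hi : H.index ≤ 7)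
    (hio : ¬ 2 ∣ H.index) : Nat.card G ≤ 100 := by
  classical
  have hd := Fus.card_dvd_factorial_index hne
  have h1 : H.index ≠ 1 := fun h => hne (Subgroup.index_eq_one.1 h)
  rw [hG] at hd
  have hidx : H.index ∣ 4 * g₀ := hG ▸ H.index_dvd_card
  have h720 : ∀ {k : ℕ}, 4 * g₀ ∣ 4 * k → g₀ ∣ k := fun h => Nat.dvd_of_mul_dvd_mul_left (by norm_num) h
  rcases (show H.index = 3 ∨ H.index = 5 ∨ H.index = 7 by omega) with h | h | h <;> rw [h] at hd hidx
  · have := Nat.le_of_dvd (by norm_num) hd
    simp [Nat.factorial] at this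
    omega
  · -- index five
    have hg : g₀ ∣ 30 := h720 (by simpa [Nat.factorial] using hd)
    have hle := Nat.le_of_dvd (by norm_num) hg
    rw [hG]
    interval_cases g₀ <;> omega
  · -- index seven
    rcases card_le_of_seven hna h with h360 | h2520
    · have hg : g₀ ∣ 1260 := h720 (by simpa [Nat.factorial] using hd)
      have h7 : 7 ∣ g₀ := (Nat.Coprime.dvd_of_dvd_mul_left (by norm_num) hidx)
      obtain ⟨c, rfl⟩ := h7
      have hc : c ∣ 45 := by
        refine Nat.Coprime.dvd_of_dvd_mul_left (show Nat.Coprime c 4 from ?_) ?_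
        · exact (Nat.Coprime.pow_right 2 ((Nat.prime_two.coprime_iff_not_dvd.2
            (fun h => hodd (Dvd.dvd.mul_left h 7))).symm) : c.Coprime (2 ^ 2))
        · exact Nat.dvd_of_mul_dvd_mul_left (by norm_num : 0 < 7) (hg.trans (by norm_num))
      exfalso
      haveI : Fact (Nat.Prime 7) := ⟨by norm_num⟩
      obtain ⟨Q⟩ : Nonempty (Sylow 7 G) := inferInstance
      have hle : c ≤ 12 := by omega
      have hcases : c = 1 ∨ c = 3 ∨ c = 5 ∨ c = 9 := by
        have : c ≠ 0 := by omega
        interval_cases c <;> omega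
      have hQ : Nat.card (Q : Subgroup G) = 7 := by
        rw [Q.card_eq_multiplicity, hG]
        rcases hcases with rfl | rfl | rfl | rfl <;>
          · rw [show 4 * (7 * _) = 7 * (4 * _) from (mul_left_comm _ _ _),
              Nat.factorization_mul (by norm_num) (by norm_num), Finsupp.add_apply,
              Nat.Prime.factorization_self (by norm_num),
              Nat.factorization_eq_zero_of_not_dvd (by norm_num)]
            norm_num
      have hQi := (Q : Subgroup G).card_mul_index
      rw [hQ, hG] at hQi
      have hnd : Nat.card (Sylow 7 G) ∣ 4 * c := Q.card_dvd_index.trans (dvd_of_eq (by omega))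
      have hmod := card_sylow_modEq_one 7 G
      unfold Nat.ModEq at hmod
      have hQne : (Q : Subgroup G) ≠ ⊥ := fun e => by rw [e, Subgroup.card_bot] at hQ; omega
      have hQnt : (Q : Subgroup G) ≠ ⊤ := fun e => by rw [e, Subgroup.card_top, hG] at hQ; omega
      have hn1 : Nat.card (Sylow 7 G) ≠ 1 := fun e => by
        haveI : Subsingleton (Sylow 7 G) := (Nat.card_eq_one_iff_unique.1 e).1
        rcases IsSimpleGroup.eq_bot_or_eq_top_of_normal _ Q.normal_of_subsingleton with e' | e'
        · exact hQne e'
        · exact hQnt e'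
      have hn36 : Nat.card (Sylow 7 G) = 36 ∧ c = 9 := by
        have hle' := Nat.le_of_dvd (by omega) hnd
        rcases hcases with rfl | rfl | rfl | rfl <;>
          interval_cases (Nat.card (Sylow 7 G)) <;> omega
      have hNQ : Subgroup.normalizer ((Q : Subgroup G) : Set G) = (Q : Subgroup G) := by
        refine (Subgroup.eq_of_le_of_card_ge Subgroup.le_normalizer ?_).symm
        have h1 := (Subgroup.normalizer ((Q : Subgroup G) : Set G)).card_mul_index
        rw [show (Subgroup.normalizer ((Q : Subgroup G) : Set G)).index = 36 from Q.card_eq_index_normalizer.symm.trans hn36.1, hG, hn36.2] at h1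
        omega
      refine Fus.simple_no_complement (p := 7) hna (by rw [hG]; exact Dvd.dvd.mul_left (dvd_mul_right 7 c) 4) ?_
      have hc' : Subgroup.normalizer ((Q : Subgroup G) : Set G) ≤ Subgroup.centralizer ((Q : Subgroup G) : Set G) := by
        rw [hNQ]
        haveI : IsCyclic (Q : Subgroup G) := isCyclic_of_prime_card hQ
        intro a ha b hb
        exact congrArg Subtype.val ((IsCyclic.commGroup (α := (Q : Subgroup G))).mul_comm ⟨b, hb⟩ ⟨a, ha⟩)
      exact ⟨Q, _, inferInstance, MonoidHom.ker_transferSylow_isComplement' Q hc'⟩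
    · exfalso; omega

end Cfsg.Agent.Invol.SmallIndex
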