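import Cfsg.Agent.Lib.Block.IndicatorInd
import Cfsg.Agent.Lib.Block.Central
import Cfsg.Agent.Lib.Block.ClassMul

/-!
An involution outside a subgroup of index two with centralizer of order two in it: the twisted
indicator bounds the inverted elements by the degree sum, so the common kernel of the
representations of degree at most two has order at most four.
-/

set_option autoImplicit false
set_option linter.unusedSectionVars false
set_option linter.style.haveILetI false

open scoped ComplexConjugate Kronecker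

namespace Cfsg.Agent.Invol.Half

open Cfsg Cfsg.Agent Cfsg.Agent.Block

universe u

variable {G : Type u} [Group G] {M : Subgroup G} [hMn : M.Normal] {x : G}

/-- Conjugation by `x`. -/
def cx (x : G) (m : M) : M := ⟨x * m * x⁻¹, hMn.conj_mem m m.2 x⟩

theorem cx_mul (a b : M) : cx x (a * b) = cx x a * cx x b :=
  Subtype.ext (by simp [cx])

theorem sum_split [Finite G] [Fintype G] [Fintype M] (hM : M.index = 2) (hx : x ∉ M) (f : G → ℂ) :
    ∑ g : G, f g = ∑ m : M, f m + ∑ m : M, f (m * x) := by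
  classical
  rw [← Finset.sum_filter_add_sum_filter_not Finset.univ (fun g : G => g ∈ M)]
  congr 1
  · exact Finset.sum_subtype _ (fun g => by simp) f
  · refine Finset.sum_bij' (fun g hg => (⟨g * x⁻¹, ?_⟩ : M)) (fun m _ => (m : G) * x)
      (fun _ _ => Finset.mem_univ _) ?_ ?_ ?_ ?_
    · have h := (Finset.mem_filter.1 hg).2
      refine (Subgroup.mul_mem_iff_of_index_two hM).2 ?_
      simp only [inv_mem_iff]
      tauto
    · intro m _
      refine Finset.mem_filter.2 ⟨Finset.mem_univ _, fun h => hx ?_⟩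
      exact (Subgroup.mul_mem_cancel_left M m.2).1 h
    · intro g _; simp
    · intro m _; exact Subtype.ext (by simp)
    · intro g _; simp

/-- The character of `G` on the tensor product of a representation with its conjugate. -/
theorem exists_tensor_char (hM : M.index = 2) (hx : x ∉ M) (hxx : x * x = 1) {θ : M → ℂ}
    (hθ : IsCharacter M θ) :
    ∃ Φ : G → ℂ, IsCharacter G Φ ∧
      ∀ m : M, Φ m = θ m * θ (cx x m) ∧ Φ ((m : G) * x) = θ (m * cx x m) := by
  classical
  obtain ⟨n, ρ, rfl⟩ := hθ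
  let A : M → Matrix (Fin n) (Fin n) ℂ := fun g => LinearMap.toMatrix' (ρ g)
  have hA1 : A 1 = 1 := by simp [A]
  have hAm : ∀ a b, A (a * b) = A a * A b := fun a b => by
    simp [A, LinearMap.toMatrix'_mul]
  have htr : ∀ g, (A g).trace = ρ.character g := fun g => by
    rw [Representation.character, ← Matrix.trace_toLin'_eq, Matrix.toLin'_toMatrix']
  have hxi : x⁻¹ = x := inv_eq_of_mul_eq_one_right hxx
  have hcc : ∀ m : M, cx x (cx x m) = m := fun m => Subtype.ext (by
    show x * (x * m * x⁻¹) * x⁻¹ = m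
    rw [show x * (x * (m : G) * x⁻¹) * x⁻¹ = (x * x) * m * (x * x)⁻¹ by group, hxx]; simp)
  let P : M → Matrix (Fin n × Fin n) (Fin n × Fin n) ℂ := fun m => A m ⊗ₖ A (cx x m)
  have hP : ∀ a b, P (a * b) = P a * P b := fun a b => by
    simp only [P]; rw [cx_mul, hAm, hAm, Matrix.mul_kronecker_mul]
  have hP1 : P 1 = 1 := by
    simp only [P]
    rw [show cx x (1 : M) = 1 from Subtype.ext (by simp [cx]), hA1, Matrix.one_kronecker_one]
  have hSP : ∀ m, FS.swapMat n * P m = P (cx x m) * FS.swapMat n := fun m => by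
    simp only [P]; rw [hcc]; exact FS.swap_kron _ _
  have hout : ∀ g, g ∉ M → g * x ∈ M := fun g hg =>
    (Subgroup.mul_mem_iff_of_index_two hM).2 (by tauto)
  let R : G → Matrix (Fin n × Fin n) (Fin n × Fin n) ℂ := fun g =>
    if h : g ∈ M then P ⟨g, h⟩ else P ⟨g * x, hout g h⟩ * FS.swapMat n
  have hRin : ∀ m : M, R m = P m := fun m => by simp only [R]; rw [dif_pos m.2]
  have hRout : ∀ m : M, R ((m : G) * x) = P m * FS.swapMat n := fun m => by
    have hn : (m : G) * x ∉ M := fun h => hx ((Subgroup.mul_mem_cancel_left M m.2).1 h)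
    simp only [R]; rw [dif_neg hn]
    congr 2
    exact Subtype.ext (by show (m : G) * x * x = m; rw [mul_assoc, hxx, mul_one])
  have hdec : ∀ g : G, (∃ m : M, g = m) ∨ (∃ m : M, g = (m : G) * x) := fun g => by
    by_cases h : g ∈ M
    · exact Or.inl ⟨⟨g, h⟩, rfl⟩
    · exact Or.inr ⟨⟨g * x, hout g h⟩, by show g = g * x * x; rw [mul_assoc, hxx, mul_one]⟩
  have hmove : ∀ b : M, x * (b : G) = (cx x b : G) * x := fun b => by
    show x * (b : G) = x * b * x⁻¹ * x
    group
  let R' : G →* Matrix (Fin n × Fin n) (Fin n × Fin n) ℂ :=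
    { toFun := R
      map_one' := by rw [← OneMemClass.coe_one M, hRin, hP1]
      map_mul' := fun g h => by
        rcases hdec g with ⟨a, rfl⟩ | ⟨a, rfl⟩ <;> rcases hdec h with ⟨b, rfl⟩ | ⟨b, rfl⟩
        · rw [← Subgroup.coe_mul, hRin, hRin, hRin, hP]
        · rw [← mul_assoc, ← Subgroup.coe_mul, hRout, hRin, hRout, hP, mul_assoc]
        · rw [mul_assoc, hmove, ← mul_assoc, ← Subgroup.coe_mul, hRout, hRout, hRin, hP, mul_assoc,
            mul_assoc, hSP]
        · rw [show (a : G) * x * ((b : G) * x) = (a : G) * (x * b) * x by group, hmove,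
            show (a : G) * ((cx x b : G) * x) * x = (a : G) * (cx x b : G) * (x * x) by group, hxx,
            mul_one, ← Subgroup.coe_mul, hRin, hRout, hRout, hP]
          calc P a * P (cx x b) = P a * (FS.swapMat n * (FS.swapMat n * P (cx x b))) := by
                rw [← mul_assoc (FS.swapMat n), FS.swapMat_sq, one_mul]
            _ = _ := by rw [hSP (cx x b), hcc]; simp only [mul_assoc] }
  let σ : Representation ℂ G (Fin n × Fin n → ℂ) :=
    ((Matrix.toLinAlgEquiv' : Matrix (Fin n × Fin n) (Fin n × Fin n) ℂ ≃ₐ[ℂ] _).toMonoidHom).comp R'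
  have hσ : ∀ g, σ.character g = (R g).trace := fun g => by
    rw [Representation.character, ← Matrix.trace_toLin'_eq]
    rfl
  refine ⟨σ.character, Cfsg.Agent.Char.isCharacter_character σ, fun m => ⟨?_, ?_⟩⟩
  · rw [hσ, hRin]
    simp only [P, Matrix.trace_kronecker, htr]
  · rw [hσ, hRout]
    simp only [P, FS.trace_kron_mul_swap, ← hAm, htr]

/-- The twisted indicator is at most one in absolute value. -/
theorem twisted_bound [Finite G] [Fintype G] [Fintype M] (hM : M.index = 2) (hx : x ∉ M)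
    (hxx : x * x = 1) (θ : IrrCharacter M) :
    ∃ ν : ℤ, ∑ m : M, (θ : M → ℂ) (m * cx x m) = (Nat.card M : ℂ) * ν ∧ ν ≤ 1 := by
  classical
  obtain ⟨Φ, hΦ, hv⟩ := exists_tensor_char hM hx hxx (irr_isChar θ)
  let ε : G →* ℂˣ :=
    { toFun := fun g => if g ∈ M then 1 else -1
      map_one' := if_pos M.one_mem
      map_mul' := fun a b => by
        have := Subgroup.mul_mem_iff_of_index_two hM (a := a) (b := b)
        by_cases ha : a ∈ M <;> by_cases hb : b ∈ M <;> simp [ha, hb, this] }
  obtain ⟨a, ha⟩ := Cfsg.Agent.Char.IsChar.classInner_nat hΦ Cfsg.Agent.Char.IsChar.one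
  obtain ⟨b, hb⟩ := Cfsg.Agent.Char.IsChar.classInner_nat hΦ
    (Cfsg.Agent.Char.IsIrr.isCharacter (Cfsg.Agent.Char.isIrr_linear ε))
  have hG : (Nat.card G : ℂ) = 2 * (Nat.card M : ℂ) := by
    rw [← M.card_mul_index, hM]; push_cast; ring
  have hM0 : (Nat.card M : ℂ) ≠ 0 := Nat.cast_ne_zero.mpr Nat.card_pos.ne'
  have hεin : ∀ m : M, (ε (m : G) : ℂ) = 1 := fun m => by simp [ε, m.2]
  have hεout : ∀ m : M, (ε ((m : G) * x) : ℂ) = -1 := fun m => by
    have : (m : G) * x ∉ M := fun h => hx ((Subgroup.mul_mem_cancel_left M m.2).1 h)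
    simp [ε, this]
  rw [classInner, hG, sum_split hM hx] at ha
  simp only [(hv _).1, (hv _).2, map_one, mul_one] at ha
  rw [classInner, hG, sum_split hM hx] at hb
  simp only [(hv _).1, (hv _).2, hεin, hεout, map_neg, map_one, mul_one, mul_neg,
    Finset.sum_neg_distrib] at hb
  refine ⟨(a : ℤ) - b, ?_, ?_⟩
  · push_cast
    field_simp at ha hb
    linear_combination ha / 2 - hb / 2
  · let e : M ≃* M := MulEquiv.mk' ⟨cx x, cx x,
      fun m => Subtype.ext (by
        show x * (x * m * x⁻¹) * x⁻¹ = m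
        rw [show x * (x * (m : G) * x⁻¹) * x⁻¹ = (x * x) * m * (x * x)⁻¹ by group, hxx]; simp),
      fun m => Subtype.ext (by
        show x * (x * m * x⁻¹) * x⁻¹ = m
        rw [show x * (x * (m : G) * x⁻¹) * x⁻¹ = (x * x) * m * (x * x)⁻¹ by group, hxx]; simp)⟩ cx_mul
    have hirr : IsIrrCharacter M (fun m => conj ((θ : M → ℂ) (cx x m))) :=
      Cfsg.Agent.Char.IsIrr.conj (Cfsg.Agent.Char.IsIrr.comp_mulEquiv e θ.2)
    have hab : ((a + b : ℕ) : ℂ) = classInner (θ : M → ℂ) (fun m => conj ((θ : M → ℂ) (cx x m))) := by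
      rw [classInner]
      simp only [Complex.conj_conj]
      push_cast
      field_simp at ha hb ⊢
      linear_combination -ha / 2 - hb / 2
    rw [Cfsg.Agent.Char.classInner_irr_eq_ite θ.2 hirr] at hab
    have : a + b ≤ 1 := by
      split_ifs at hab with h
      · have : a + b = 1 := by exact_mod_cast hab
        omega
      · have : a + b = 0 := by exact_mod_cast hab
        omega
    omega

/-- The common kernel of the representations of degree at most two. -/
def smallKer (M : Type u) [Group M] : Subgroup M :=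
  ⨅ d : ℕ, ⨅ (_ : d ≤ 2), ⨅ ρ : Representation ℂ M (Fin d → ℂ), ρ.ker

theorem mem_smallKer {N : Type u} [Group N] {n : N} :
    n ∈ smallKer N ↔ ∀ d : ℕ, d ≤ 2 → ∀ ρ : Representation ℂ N (Fin d → ℂ), ρ n = 1 := by
  simp [smallKer, Subgroup.mem_iInf, MonoidHom.mem_ker]

theorem map_mem_smallKer {N : Type u} [Group N] {n : N} (e : N →* N) (hn : n ∈ smallKer N) :
    e n ∈ smallKer N := by
  rw [mem_smallKer] at hn ⊢
  exact fun d hd ρ => hn d hd (ρ.comp e)

/-- The inverted elements are few, so the common kernel is small. -/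
theorem card_smallKer_le [Finite G] (hM : M.index = 2) (hx : x ∉ M) (hxx : x * x = 1)
    (hc : Nat.card ↥(Subgroup.centralizer ({x} : Set G) ⊓ M) = 2) :
    Nat.card (smallKer M) ≤ 4 := by
  classical
  haveI := Fintype.ofFinite G
  haveI := Fintype.ofFinite M
  set L := smallKer M with hL
  have hM0 : (Nat.card M : ℂ) ≠ 0 := Nat.cast_ne_zero.mpr Nat.card_pos.ne'
  -- regular character
  have hreg : ∀ g : M, ∑ χ : IrrCharacter M, (χ : M → ℂ) g * (χ : M → ℂ) 1 =
      if g = 1 then (Nat.card M : ℂ) else 0 := fun g => by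
    have h := Cfsg.Agent.Char.sum_irr_mul_conj g (1 : M)
    refine Eq.trans ?_ (Eq.trans h ?_)
    · refine Finset.sum_congr rfl fun χ _ => ?_
      rw [charDeg_spec', map_natCast]
    by_cases hg : g = 1
    · rw [hg, if_pos (IsConj.refl _), if_pos rfl]
      congr 1
      rw [show Subgroup.centralizer ({(1 : M)} : Set M) = ⊤ by
        ext a; simp [Subgroup.mem_centralizer_singleton_iff], Subgroup.card_top]
    · rw [if_neg hg, if_neg fun h => hg (isConj_one_left.1 h)]
  set I := Finset.univ.filter (fun m : M => m * cx x m = 1) with hI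
  -- many inverted elements
  have hIlow : Nat.card M ≤ 2 * I.card := by
    set f : M → M := fun m => ⟨(m : G) * x * (m : G)⁻¹ * x⁻¹, by
      rw [show (m : G) * x * (m : G)⁻¹ * x⁻¹ = (m : G) * (x * (m : G)⁻¹ * x⁻¹) by group]
      exact M.mul_mem m.2 (hMn.conj_mem _ (M.inv_mem m.2) x)⟩ with hf
    have hmaps : ∀ m ∈ (Finset.univ : Finset M), f m ∈ I := fun m _ =>
      Finset.mem_filter.2 ⟨Finset.mem_univ _, Subtype.ext (by
        show (m : G) * x * (m : G)⁻¹ * x⁻¹ * (x * ((m : G) * x * (m : G)⁻¹ * x⁻¹) * x⁻¹) = 1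
        have hxi : x⁻¹ = x := inv_eq_of_mul_eq_one_right hxx
        rw [show (m : G) * x * (m : G)⁻¹ * x⁻¹ * (x * ((m : G) * x * (m : G)⁻¹ * x⁻¹) * x⁻¹) =
          (m : G) * (x * x) * (m : G)⁻¹ * (x⁻¹ * x⁻¹) by group, hxx, hxi, hxx]
        group)⟩
    have hfib : ∀ v ∈ I, (Finset.univ.filter (fun m => f m = v)).card ≤ 2 := by
      intro v _
      rcases (Finset.univ.filter (fun m => f m = v)).eq_empty_or_nonempty with h | ⟨m₀, hm₀⟩
      · simp [h]
      rw [← hc, Nat.card_eq_fintype_card, ← Fintype.card_coe]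
      have hmem : ∀ m : ↥(Finset.univ.filter (fun m => f m = v)),
          ((m₀ : M) : G)⁻¹ * ((m : M) : G) ∈ Subgroup.centralizer ({x} : Set G) ⊓ M := by
        intro m
        refine ⟨Subgroup.mem_centralizer_singleton_iff.2 ?_, M.mul_mem (M.inv_mem m₀.2) (m : M).2⟩
        have h1 : ((m : M) : G) * x * ((m : M) : G)⁻¹ * x⁻¹ = (m₀ : G) * x * (m₀ : G)⁻¹ * x⁻¹ :=
          congrArg Subtype.val ((Finset.mem_filter.1 m.2).2.trans (Finset.mem_filter.1 hm₀).2.symm)
        have h2 := mul_right_cancel h1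
        calc (m₀ : G)⁻¹ * ((m : M) : G) * x =
              (m₀ : G)⁻¹ * (((m : M) : G) * x * ((m : M) : G)⁻¹) * ((m : M) : G) := by group
          _ = x * ((m₀ : G)⁻¹ * ((m : M) : G)) := by rw [h2]; group
      exact Fintype.card_le_of_injective (fun m => ⟨_, hmem m⟩) fun a b h =>
        Subtype.ext (Subtype.ext (mul_left_cancel (congrArg Subtype.val h :)))
    calc Nat.card M = (Finset.univ : Finset M).card := by rw [Nat.card_eq_fintype_card]; rfl
      _ = ∑ v ∈ I, (Finset.univ.filter (fun m => f m = v)).card := Finset.card_eq_sum_card_fiberwise hmaps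
      _ ≤ ∑ v ∈ I, 2 := Finset.sum_le_sum hfib
      _ = 2 * I.card := by rw [Finset.sum_const, smul_eq_mul, mul_comm]
  -- few inverted elements
  choose ν hν hν1 using fun θ : IrrCharacter M => twisted_bound hM hx hxx θ
  have hIsum : (I.card : ℂ) = ∑ χ : IrrCharacter M, (charDegree (χ : M → ℂ) : ℂ) * (ν χ : ℂ) := by
    have h1 : ∑ m : M, ∑ χ : IrrCharacter M, (χ : M → ℂ) (m * cx x m) * (χ : M → ℂ) 1 =
        (Nat.card M : ℂ) * (I.card : ℂ) := by
      rw [Finset.sum_congr rfl fun m _ => hreg (m * cx x m), Finset.sum_ite, Finset.sum_const_zero,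
        add_zero, Finset.sum_const, nsmul_eq_mul, ← hI, mul_comm]
    rw [Finset.sum_comm, Finset.sum_congr rfl fun (χ : IrrCharacter M) _ => show _ =
      (Nat.card M : ℂ) * ((charDegree (χ : M → ℂ) : ℂ) * (ν χ : ℂ)) by
        rw [← Finset.sum_mul, hν, charDeg_spec']; ring, ← Finset.mul_sum] at h1
    exact (mul_left_cancel₀ hM0 h1).symm
  set deg : IrrCharacter M → ℤ := fun χ => (charDegree (χ : M → ℂ) : ℤ) with hdeg
  have hsum : (I.card : ℤ) ≤ ∑ χ, deg χ := by
    have h : (I.card : ℤ) = ∑ χ, deg χ * ν χ := by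
      have : ((I.card : ℤ) : ℂ) = ((∑ χ, deg χ * ν χ : ℤ) : ℂ) := by
        push_cast [hdeg]; exact_mod_cast hIsum
      exact_mod_cast this
    rw [h]
    refine Finset.sum_le_sum fun χ _ => ?_
    calc deg χ * ν χ ≤ deg χ * 1 := mul_le_mul_of_nonneg_left (hν1 χ) (Int.natCast_nonneg _)
      _ = deg χ := mul_one _
  set A := ∑ χ ∈ Finset.univ.filter (fun χ => deg χ ≤ 2), deg χ ^ 2 with hA
  have hsq : ∑ χ, deg χ ^ 2 = (Nat.card M : ℤ) := by
    have h := hreg 1
    rw [if_pos rfl] at h
    have : ((∑ χ, deg χ ^ 2 : ℤ) : ℂ) = ((Nat.card M : ℤ) : ℂ) := by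
      push_cast [hdeg]
      rw [← h]
      exact Finset.sum_congr rfl fun χ _ => by rw [charDeg_spec']; ring
    exact_mod_cast this
  have h3 : 3 * ∑ χ, deg χ ≤ 2 * A + (Nat.card M : ℤ) := by
    rw [← hsq, hA, Finset.sum_filter, Finset.mul_sum, Finset.mul_sum, ← Finset.sum_add_distrib]
    refine Finset.sum_le_sum fun χ _ => ?_
    have h0 : (1 : ℤ) ≤ deg χ := by
      show (1 : ℤ) ≤ (charDegree (χ : M → ℂ) : ℤ)
      have := charDeg_pos χ; omega
    split_ifs with h <;> nlinarith
  have hLA : (Nat.card L : ℤ) * A ≤ (Nat.card M : ℤ) := by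
    have h1 : ∑ l : L, ∑ χ : IrrCharacter M, (χ : M → ℂ) l * (χ : M → ℂ) 1 = (Nat.card M : ℂ) := by
      refine (Finset.sum_congr rfl fun l _ => hreg _).trans ?_
      rw [Finset.sum_eq_single (1 : L)]
      · rw [if_pos (OneMemClass.coe_one L)]
      · intro l _ hl; rw [if_neg fun h => hl (Subtype.ext (h.trans (OneMemClass.coe_one L).symm))]
      · simp
    rw [Finset.sum_comm] at h1
    have hval : ∀ χ : IrrCharacter M, ∃ k : ℕ, ∑ l : L, (χ : M → ℂ) l * (χ : M → ℂ) 1 = k ∧
        (deg χ ≤ 2 → (k : ℤ) = Nat.card L * deg χ ^ 2) := by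
      intro χ
      by_cases hd : deg χ ≤ 2
      · obtain ⟨d, ρ, hρ⟩ := irr_isChar χ
        have hone : ∀ g : M, ρ g = 1 → (χ : M → ℂ) g = (d : ℂ) := fun g hg => by
          rw [← hρ, Representation.character, hg]; simp
        have hd1 : charDegree (χ : M → ℂ) = d := by
          have := hone 1 (map_one ρ)
          rw [charDeg_spec'] at this
          exact_mod_cast this
        refine ⟨Nat.card L * d ^ 2, ?_, fun _ => ?_⟩
        · rw [Finset.sum_congr rfl (g := fun _ => (d : ℂ) * d) fun l _ => by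
            rw [charDeg_spec', hd1, hone l (mem_smallKer.1 l.2 d (by simp [hdeg, hd1] at hd; omega) ρ)]]
          rw [Finset.sum_const, Finset.card_univ, ← Nat.card_eq_fintype_card, nsmul_eq_mul]
          push_cast; ring
        · simp [hdeg, hd1]
      · obtain ⟨k, hk⟩ := Cfsg.Agent.Char.IsChar.classInner_nat
          (Cfsg.Agent.Char.IsChar.comp L.subtype (irr_isChar χ)) Cfsg.Agent.Char.IsChar.one
        refine ⟨Nat.card L * k * charDegree (χ : M → ℂ), ?_, fun h => absurd h hd⟩
        rw [classInner] at hk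
        simp only [map_one, mul_one, Subgroup.coe_subtype] at hk
        have hL0 : (Nat.card L : ℂ) ≠ 0 := Nat.cast_ne_zero.mpr Nat.card_pos.ne'
        rw [← Finset.sum_mul, charDeg_spec']
        push_cast
        field_simp at hk
        rw [hk]
    choose k hk hk2 using hval
    rw [Finset.sum_congr rfl fun χ _ => hk χ] at h1
    have h2 : ∑ χ, k χ = Nat.card M := by exact_mod_cast h1
    calc (Nat.card L : ℤ) * A = ∑ χ ∈ Finset.univ.filter (fun χ => deg χ ≤ 2), (k χ : ℤ) := by
          rw [hA, Finset.mul_sum]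
          exact Finset.sum_congr rfl fun χ hχ => (hk2 χ (Finset.mem_filter.1 hχ).2).symm
      _ ≤ ∑ χ, (k χ : ℤ) := Finset.sum_le_sum_of_subset_of_nonneg (Finset.subset_univ _)
          fun j _ _ => Int.natCast_nonneg _
      _ = Nat.card M := by exact_mod_cast h2
  have hMpos : (0 : ℤ) < Nat.card M := by exact_mod_cast Nat.card_pos
  have : (Nat.card L : ℤ) ≤ 4 := by
    have hlow : (Nat.card M : ℤ) ≤ 4 * A := by
      have : (Nat.card M : ℤ) ≤ 2 * (I.card : ℤ) := by exact_mod_cast hIlow
      linarith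
    nlinarith
  exact_mod_cast this

end Cfsg.Agent.Invol.Half
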