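import Cfsg.Prelude.Def_Transfer
import Cfsg.Agent.Lib.Invol.HalfInverted
import Cfsg.Agent.Lib.Transfer.NormalComplement
import Cfsg.Agent.Lib.Grp.Frattini
import Cfsg.Agent.S0111

/-!
An involution with centralizer a four group: a larger Sylow subgroup gives a subgroup of index two
avoiding it, and then the group has a normal complement or a small normal elementary subgroup.
-/

set_option autoImplicit false
set_option linter.unusedSectionVars false
set_option linter.style.haveILetI false

namespace Cfsg.Agent.Invol.V4Cent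

open Cfsg Cfsg.Agent
open scoped commutatorElement

universe u

variable {G : Type u} [Group G] [Finite G]

/-- In a larger Sylow subgroup some subgroup of index two misses the class, so transfer applies. -/
theorem exists_index_two' (x : G) (hx : orderOf x = 2) (S : Sylow 2 G) (hxS : x ∈ (S : Subgroup G))
    (V : Subgroup G) (hV : Nat.card V ≤ 4)
    (hCV : ∀ s ∈ Subgroup.centralizer ({x} : Set G), (∃ k, orderOf s = 2 ^ k) → s ∈ V)
    (hS4 : 4 < Nat.card (S : Subgroup G)) : ∃ M : Subgroup G, M.Normal ∧ M.index = 2 ∧ x ∉ M := by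
  classical
  haveI := Fact.mk Nat.prime_two
  haveI := Fintype.ofFinite (S : Subgroup G)
  have hxx : x * x = 1 := by rw [← pow_two, ← hx, pow_orderOf_eq_one]
  set x₀ : ↥(S : Subgroup G) := ⟨x, hxS⟩ with hx₀
  let X : ↥(S : Subgroup G) → Prop := fun y => ∃ g : G, g * x * g⁻¹ = (y : G)
  have hXx : X x₀ := ⟨1, by simp [hx₀]⟩
  have hXc : ∀ y, X y → ∀ s : ↥(S : Subgroup G), X (s * y * s⁻¹) := by
    rintro y ⟨g, hg⟩ s
    exact ⟨(s : G) * g, by rw [Subgroup.coe_mul, Subgroup.coe_mul, Subgroup.coe_inv, ← hg]; group⟩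
  have h2pow : ∀ (g : G) (s : ↥(S : Subgroup G)), ∃ k, orderOf (g⁻¹ * (s : G) * g) = 2 ^ k := by
    intro g s
    obtain ⟨k, hk⟩ := IsPGroup.iff_orderOf.1 S.isPGroup' s
    refine ⟨k, ?_⟩
    rw [show g⁻¹ * (s : G) * g = MulAut.conj g⁻¹ (s : G) by simp, MulEquiv.orderOf_eq, Subgroup.orderOf_coe, hk]
  -- centralizers in the Sylow subgroup are small
  have hcent : ∀ y, X y → Nat.card (Subgroup.centralizer ({y} : Set ↥(S : Subgroup G))) ≤ 4 := by
    rintro y ⟨g, hg⟩
    refine le_trans (Nat.card_le_card_of_injective (fun s =>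
      (⟨g⁻¹ * ((s : ↥(S : Subgroup G)) : G) * g, hCV _ ?_ (h2pow g _)⟩ : V)) ?_) hV
    · have h := congrArg Subtype.val (Subgroup.mem_centralizer_singleton_iff.1 s.2)
      simp only [Subgroup.coe_mul, ← hg] at h
      rw [Subgroup.mem_centralizer_singleton_iff]
      calc g⁻¹ * ((s : ↥(S : Subgroup G)) : G) * g * x =
            g⁻¹ * (((s : ↥(S : Subgroup G)) : G) * (g * x * g⁻¹)) * g := by group
        _ = x * (g⁻¹ * ((s : ↥(S : Subgroup G)) : G) * g) := by rw [h]; group
    · intro a b h
      have h' : g⁻¹ * ((a : ↥(S : Subgroup G)) : G) * g = g⁻¹ * ((b : ↥(S : Subgroup G)) : G) * g :=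
        congrArg Subtype.val h
      exact Subtype.ext (Subtype.ext (mul_left_cancel (mul_right_cancel h')))
  have habove : (∀ s : ↥(S : Subgroup G), s * x₀ = x₀ * s) → False := by
    intro hall
    have : Nat.card ↥(S : Subgroup G) ≤ 4 := le_trans (Nat.card_le_card_of_injective (fun s =>
      (⟨(s : G), hCV _ (Subgroup.mem_centralizer_singleton_iff.2 (congrArg Subtype.val (hall s)))
        (by simpa using h2pow 1 s)⟩ : V)) (fun a b h => Subtype.ext (congrArg Subtype.val h :))) hV
    omega
  set D := commutator ↥(S : Subgroup G) with hD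
  -- a class lies in a coset of the commutator subgroup
  set cls : ↥(S : Subgroup G) → Finset ↥(S : Subgroup G) := fun y => Finset.univ.filter (fun u => IsConj y u) with hcls
  set cst : ↥(S : Subgroup G) → Finset ↥(S : Subgroup G) := fun y => Finset.univ.filter (fun u => y⁻¹ * u ∈ D) with hcst
  have hsub : ∀ y, cls y ⊆ cst y := by
    intro y u hu
    obtain ⟨s, rfl⟩ := isConj_iff.1 (Finset.mem_filter.1 hu).2
    refine Finset.mem_filter.2 ⟨Finset.mem_univ _, ?_⟩
    have : ⁅y⁻¹, s⁆ ∈ D := Subgroup.commutator_mem_commutator (Subgroup.mem_top _) (Subgroup.mem_top _)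
    rwa [commutatorElement_def, show y⁻¹ * s * y⁻¹⁻¹ * s⁻¹ = y⁻¹ * (s * y * s⁻¹) by group] at this
  have hcstc : ∀ y, (cst y).card = Nat.card D := by
    intro y
    rw [Nat.card_eq_fintype_card, ← Finset.card_univ]
    refine Finset.card_bij' (fun u hu => (⟨y⁻¹ * u, (Finset.mem_filter.1 hu).2⟩ : D))
      (fun d _ => y * (d : ↥(S : Subgroup G))) (fun _ _ => Finset.mem_univ _)
      (fun d _ => Finset.mem_filter.2 ⟨Finset.mem_univ _, by simp⟩) (fun u _ => by simp) (fun d _ => by simp)
  have hlow : ∀ y, X y → Nat.card ↥(S : Subgroup G) ≤ 4 * (cls y).card := by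
    intro y hy
    have h1 := Cfsg.Agent.Char.card_conjClass_finset (G := ↥(S : Subgroup G)) y
    have h2 := (Subgroup.centralizer ({y} : Set ↥(S : Subgroup G))).card_mul_index
    have h3 : (cls y).card = (Subgroup.centralizer ({y} : Set ↥(S : Subgroup G))).index := by rw [← h1]
    rw [h3]
    calc Nat.card ↥(S : Subgroup G) = Nat.card (Subgroup.centralizer ({y} : Set ↥(S : Subgroup G))) * (Subgroup.centralizer ({y} : Set ↥(S : Subgroup G))).index := h2.symm
      _ ≤ _ := Nat.mul_le_mul_right _ (hcent y hy)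
  have hDmul := D.card_mul_index
  have hDi : D.index ≤ 4 := by
    have h1 := (hlow x₀ hXx).trans (Nat.mul_le_mul_left 4 ((Finset.card_le_card (hsub x₀)).trans (hcstc x₀).le))
    rw [← hDmul, mul_comm 4] at h1
    exact Nat.le_of_mul_le_mul_left h1 Nat.card_pos
  -- the abelianization is not cyclic
  have hnc : ∀ g : ↥(S : Subgroup G), Subgroup.zpowers g ⊔ D ≠ ⊤ := by
    intro g hg
    have h1 : Subgroup.zpowers g = ⊤ := frattini_nongenerating (top_le_iff.1 (hg ▸
      sup_le_sup le_rfl (Grp.pGroup_commutator_le_frattini S.isPGroup')))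
    refine habove fun s => ?_
    obtain ⟨i, hi⟩ := Subgroup.mem_zpowers_iff.1 (h1.ge (Subgroup.mem_top s))
    obtain ⟨j, hj⟩ := Subgroup.mem_zpowers_iff.1 (h1.ge (Subgroup.mem_top x₀))
    rw [← hi, ← hj, ← zpow_add, ← zpow_add, add_comm]
  have hover : ∀ g : ↥(S : Subgroup G), g ∉ D → (Subgroup.zpowers g ⊔ D).index * 2 ≤ D.index := by
    intro g hg
    have hr := Subgroup.relIndex_mul_index (show D ≤ Subgroup.zpowers g ⊔ D from le_sup_right)
    have hne : D.relIndex (Subgroup.zpowers g ⊔ D) ≠ 1 := fun h =>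
      hg (Subgroup.relIndex_eq_one.1 h (Subgroup.mem_sup_left (Subgroup.mem_zpowers g)))
    have h0 : D.relIndex (Subgroup.zpowers g ⊔ D) ≠ 0 := Subgroup.index_ne_zero_of_finite
    rw [← hr, mul_comm]
    exact Nat.mul_le_mul_right _ (by omega)
  have hne1 : D.index ≠ 1 := fun h => hnc 1 (by rw [Subgroup.index_eq_one.1 h, sup_top_eq])
  have hidx : D.index = 4 := by
    have hd : D.index ∣ 2 ^ (S.isPGroup'.exists_card_eq.choose) :=
      (Dvd.intro_left _ hDmul).trans (dvd_of_eq S.isPGroup'.exists_card_eq.choose_spec)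
    obtain ⟨k, -, hk⟩ := (Nat.dvd_prime_pow Nat.prime_two).1 hd
    have : k ≤ 2 := by
      by_contra h
      have : 2 ^ 3 ≤ 2 ^ k := Nat.pow_le_pow_right (by norm_num) (by omega)
      omega
    interval_cases k
    · simp_all
    · exfalso
      obtain ⟨g, hg⟩ : ∃ g, g ∉ D := by
        by_contra h
        push Not at h
        exact hne1 (Subgroup.index_eq_one.2 (top_le_iff.1 fun g _ => h g))
      refine hnc g (Subgroup.index_eq_one.1 ?_)
      have := hover g hg
      have : (Subgroup.zpowers g ⊔ D).index ≠ 0 := Subgroup.index_ne_zero_of_finite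
      omega
    · simpa using hk
  have hind2 : ∀ g : ↥(S : Subgroup G), g ∉ D → (Subgroup.zpowers g ⊔ D).index = 2 := by
    intro g hg
    have h1 := hover g hg
    have h2 : (Subgroup.zpowers g ⊔ D).index ≠ 1 := fun h => hnc g (Subgroup.index_eq_one.1 h)
    have h0 : (Subgroup.zpowers g ⊔ D).index ≠ 0 := Subgroup.index_ne_zero_of_finite
    omega
  have hXout : ∀ y, X y → y ∉ D := by
    intro y hy hyD
    have hss : cls y ⊂ cst y := by
      refine Finset.ssubset_iff_of_subset (hsub y) |>.2 ⟨1, Finset.mem_filter.2 ⟨Finset.mem_univ _, by simpa using hyD⟩, ?_⟩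
      intro h
      obtain ⟨g, hg⟩ := hy
      have h1 : y = 1 := isConj_one_left.1 (Finset.mem_filter.1 h).2
      rw [h1, OneMemClass.coe_one, mul_inv_eq_one, mul_eq_left] at hg
      rw [hg, orderOf_one] at hx
      omega
    have h1 := Finset.card_lt_card hss
    rw [hcstc] at h1
    have h2 := hlow y hy
    rw [← hDmul, hidx] at h2
    omega
  have hfull : ∀ y, X y → ∀ d ∈ D, X (y * d) := by
    intro y hy d hd
    have heq : cls y = cst y := Finset.eq_of_subset_of_card_le (hsub y) (by
      rw [hcstc]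
      have h2 := hlow y hy
      rw [← hDmul, hidx] at h2
      omega)
    have hmem : y * d ∈ cls y := heq ▸ Finset.mem_filter.2 ⟨Finset.mem_univ _, by simpa using hd⟩
    obtain ⟨s, hs⟩ := isConj_iff.1 (Finset.mem_filter.1 hmem).2
    exact hs ▸ hXc y hy s
  obtain ⟨w, hwD, hwX⟩ : ∃ w, w ∉ D ∧ ¬ X w := by
    by_contra hall
    push Not at hall
    have hinv : ∀ y, y ∉ D → y * y = 1 := fun y hy => by
      obtain ⟨g, hg⟩ := hall y hy
      apply Subtype.ext
      rw [Subgroup.coe_mul, ← hg, OneMemClass.coe_one,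
        show g * x * g⁻¹ * (g * x * g⁻¹) = g * (x * x) * g⁻¹ by group, hxx]
      group
    have hxD := hXout x₀ hXx
    obtain ⟨b, hb⟩ : ∃ b, b ∉ Subgroup.zpowers x₀ ⊔ D := by
      by_contra h
      push Not at h
      exact hnc x₀ (top_le_iff.1 fun g _ => h g)
    have hbD : b ∉ D := fun h => hb (Subgroup.mem_sup_right h)
    have hxbD : x₀ * b ∉ D := fun h => hb (by
      have := Subgroup.mul_mem (Subgroup.zpowers x₀ ⊔ D)
        (Subgroup.inv_mem _ (Subgroup.mem_sup_left (Subgroup.mem_zpowers x₀)))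
        (Subgroup.mem_sup_right (S := Subgroup.zpowers x₀) h)
      rwa [inv_mul_cancel_left] at this)
    have hconj : ∀ a, a ∉ D → ∀ s ∈ D, a * s * a⁻¹ = s⁻¹ := by
      intro a ha s hs
      have h1 := hinv (a * s) (fun h => ha (by have := D.mul_mem h (D.inv_mem hs); rwa [mul_inv_cancel_right] at this))
      have h2 : a⁻¹ = a := inv_eq_of_mul_eq_one_right (hinv a ha)
      rw [h2, ← mul_eq_one_iff_eq_inv]
      rw [show a * s * a * s = a * s * (a * s) by group, h1]
    have hall2 : ∀ s : ↥(S : Subgroup G), s * s = 1 := fun s => by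
      by_cases hs : s ∈ D
      · have h1 := hconj (x₀ * b) hxbD s hs
        rw [show x₀ * b * s * (x₀ * b)⁻¹ = x₀ * (b * s * b⁻¹) * x₀⁻¹ by group, hconj b hbD s hs,
          hconj x₀ hxD _ (D.inv_mem hs), inv_inv] at h1
        nth_rewrite 2 [h1]
        exact mul_inv_cancel s
      · exact hinv s hs
    refine habove fun s => ?_
    calc s * x₀ = (s * x₀)⁻¹ := eq_inv_of_mul_eq_one_left (hall2 _)
      _ = x₀ * s := by rw [mul_inv_rev, inv_eq_of_mul_eq_one_right (hall2 s), inv_eq_of_mul_eq_one_right (hall2 x₀)]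
  set Q := Subgroup.zpowers w ⊔ D with hQ
  have hQ2 : Q.index = 2 := hind2 w hwD
  have hQX : ∀ q ∈ Q, ¬ X q := by
    intro q hq hqX
    have hqD := hXout q hqX
    have hrel : D.relIndex Q = 2 := by
      have := Subgroup.relIndex_mul_index (show D ≤ Q from le_sup_right)
      rw [hQ2, hidx] at this
      omega
    have hmem : (⟨q, hq⟩ : Q)⁻¹ * ⟨w, Subgroup.mem_sup_left (Subgroup.mem_zpowers w)⟩ ∈ D.subgroupOf Q :=
      (Subgroup.mul_mem_iff_of_index_two (H := D.subgroupOf Q) hrel).2 (by
        simp only [inv_mem_iff, Subgroup.mem_subgroupOf]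
        tauto)
    have hd : q⁻¹ * w ∈ D := by simpa [Subgroup.mem_subgroupOf] using hmem
    refine hwX ?_
    have := hfull q hqX _ hd
    rwa [mul_inv_cancel_left] at this
  rcases Cfsg.Agent.S0111.result S (Q.map (S : Subgroup G).subtype) (Subgroup.map_subtype_le Q)
      (by rw [Subgroup.relIndex, Subgroup.subgroupOf, Subgroup.comap_map_eq_self_of_injective
            (Subgroup.subtype_injective _)]; exact hQ2)
      x hx hxS (by
        rintro ⟨q, hq, hqx⟩
        exact hQX q hq ⟨1, by simpa using hqx.symm⟩) with h | ⟨g, q, hq, hqg⟩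
  · exact h
  · exact absurd ⟨g, hqg.symm⟩ (hQX q hq)

/-- The same with the centralizer a four group. -/
theorem exists_index_two (x : G) (hx : orderOf x = 2) (S : Sylow 2 G)
    (hC4 : Nat.card (Subgroup.centralizer ({x} : Set G)) = 4)
    (hCS : Subgroup.centralizer ({x} : Set G) ≤ (S : Subgroup G))
    (hS4 : 4 < Nat.card (S : Subgroup G)) : ∃ M : Subgroup G, M.Normal ∧ M.index = 2 ∧ x ∉ M :=
  exists_index_two' x hx S (hCS (Subgroup.mem_centralizer_singleton_iff.2 rfl))
    (Subgroup.centralizer ({x} : Set G)) hC4.le (fun _ hs _ => hs) hS4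

/-- A subgroup of index two avoiding the involution forces a complement or a small normal subgroup. -/
theorem false_of_index_two (x : G) (hx : orderOf x = 2)
    (hC4 : Nat.card (Subgroup.centralizer ({x} : Set G)) = 4)
    (hCe : ∀ c ∈ Subgroup.centralizer ({x} : Set G), c * c = 1)
    (hnc : ¬ Cfsg.HasNormalPComplement 2 G)
    (hne : ∀ E : Subgroup G, E.Normal → Cfsg.IsElementaryAbelian 2 E → Nat.card E ≠ 2 ∧ Nat.card E ≠ 4)
    (M : Subgroup G) [hMn : M.Normal] (hM : M.index = 2) (hxM : x ∉ M) : False := by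
  classical
  haveI := Fact.mk Nat.prime_two
  have hxx : x * x = 1 := by rw [← pow_two, ← hx, pow_orderOf_eq_one]
  set C := Subgroup.centralizer ({x} : Set G) with hC
  have hxC : x ∈ C := Subgroup.mem_centralizer_singleton_iff.2 rfl
  have hc : Nat.card ↥(C ⊓ M) = 2 := by
    have h1 : M.relIndex C ∣ 2 := hM ▸ M.relIndex_dvd_index_of_normal C
    have h2 : M.relIndex C ≠ 1 := fun h => hxM (Subgroup.relIndex_eq_one.1 h hxC)
    have h3 := (M.subgroupOf C).card_mul_index
    rw [← Subgroup.relIndex, hC4, ← Subgroup.inf_subgroupOf_left,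
      Nat.card_congr (Subgroup.subgroupOfEquivOfLe inf_le_left).toEquiv] at h3
    rcases (Nat.dvd_prime Nat.prime_two).1 h1 with h | h
    · exact absurd h h2
    · rw [h] at h3; omega
  obtain ⟨z, hz1, hzall⟩ : ∃ z : ↥(C ⊓ M), z ≠ 1 ∧ ∀ c : ↥(C ⊓ M), c = 1 ∨ c = z := by
    haveI : Nontrivial ↥(C ⊓ M) := Finite.one_lt_card_iff_nontrivial.1 (by omega)
    obtain ⟨z, hz⟩ := exists_ne (1 : ↥(C ⊓ M))
    refine ⟨z, hz, fun c => ?_⟩
    obtain ⟨a, b, hab, huniv⟩ := Nat.card_eq_two_iff.1 hc
    have hm : ∀ y, y = a ∨ y = b := fun y => by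
      have := huniv.ge (Set.mem_univ y); simpa using this
    rcases hm 1 with h | h <;> rcases hm z with h' | h' <;> rcases hm c with h'' | h'' <;>
      first | exact Or.inl (h''.trans h.symm) | exact Or.inr (h''.trans h'.symm) |
        exact absurd (h'.trans h.symm) hz
  have hzC : (z : G) ∈ C := z.2.1
  have hzz : (z : G) * z = 1 := hCe _ hzC
  set ζ : M := ⟨z, z.2.2⟩ with hζ
  -- normal subgroups of G inside M
  have hconjM : ∀ g : G, ∀ m : M, g * (m : G) * g⁻¹ ∈ M := fun g m => hMn.conj_mem m m.2 g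
  let cj : G → (M →* M) := fun g =>
    { toFun := fun m => ⟨g * m * g⁻¹, hconjM g m⟩
      map_one' := Subtype.ext (by simp)
      map_mul' := fun a b => Subtype.ext (by simp [mul_assoc]) }
  have hnormal : ∀ H : Subgroup M, (∀ g : G, ∀ m ∈ H, cj g m ∈ H) → (H.map M.subtype).Normal := by
    intro H hH
    refine ⟨fun n hn g => ?_⟩
    obtain ⟨m, hm, rfl⟩ := hn
    exact ⟨cj g m, hH g m hm, rfl⟩
  set L := Half.smallKer M with hL
  set L' := L.map M.subtype with hL'
  haveI hL'n : L'.Normal := hnormal L fun g m hm => Half.map_mem_smallKer (cj g) hm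
  have hL'c : Nat.card L' = Nat.card L :=
    (Nat.card_congr (L.equivMapOfInjective _ M.subtype_injective).toEquiv).symm
  have hLle : Nat.card L ≤ 4 := Half.card_smallKer_le hM hxM hxx hc
  -- the kernel has odd order
  have hodd : ¬ 2 ∣ Nat.card L' := by
    intro h2
    have hpos : 0 < Nat.card L' := Nat.card_pos
    have helem : ∀ E : Subgroup G, E.Normal → (∀ a ∈ E, a * a = 1) → Nat.card E = 2 ∨ Nat.card E = 4 → False := by
      intro E hE hsq hcard
      have hEA : Cfsg.IsElementaryAbelian 2 E := by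
        refine ⟨⟨⟨fun a b => ?_⟩⟩, fun a ha => by rw [pow_two]; exact hsq a ha⟩
        have hi : ∀ c : E, c⁻¹ = c := fun c => inv_eq_of_mul_eq_one_right (Subtype.ext (hsq c c.2))
        calc a * b = (a * b)⁻¹ := (hi _).symm
          _ = b * a := by rw [mul_inv_rev, hi, hi]
      rcases hcard with h | h
      · exact (hne E hE hEA).1 h
      · exact (hne E hE hEA).2 h
    have hcases : Nat.card L' = 2 ∨ Nat.card L' = 4 := by
      rw [hL'c] at h2 hpos ⊢
      obtain ⟨k, hk⟩ := h2
      omega
    by_cases hexp : ∀ a ∈ L', a * a = 1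
    · exact helem L' hL'n hexp hcases
    push Not at hexp
    obtain ⟨a, ha, ha2⟩ := hexp
    have ha4 : orderOf a = 4 := by
      have hd : orderOf a ∣ 2 ^ 2 := (Subgroup.orderOf_dvd_natCard _ ha).trans (by
        rcases hcases with h | h <;> rw [h] <;> norm_num)
      obtain ⟨k, hk, hk'⟩ := (Nat.dvd_prime_pow Nat.prime_two).1 hd
      interval_cases k
      · rw [pow_zero, orderOf_eq_one_iff] at hk'; exact absurd (by rw [hk']; simp) ha2
      · rw [pow_one] at hk'
        exact absurd (by rw [← pow_two, ← hk', pow_orderOf_eq_one]) ha2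
      · simpa using hk'
    have hLz : L' = Subgroup.zpowers a := by
      refine (Subgroup.eq_of_le_of_card_ge (Subgroup.zpowers_le.2 ha) ?_).symm
      rw [Nat.card_zpowers, ha4]
      rcases hcases with h | h <;> rw [h] <;> norm_num
    have haa2 : orderOf (a * a) = 2 := by rw [← pow_two, orderOf_pow' _ (by norm_num), ha4]; rfl
    have huniq : ∀ b ∈ L', b * b = 1 → b = 1 ∨ b = a * a := by
      intro b hb hbb
      rw [hLz, ← mem_powers_iff_mem_zpowers, Submonoid.mem_powers_iff] at hb
      obtain ⟨k, rfl⟩ := hb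
      have h0 : a ^ k = a ^ (k % 4) := pow_eq_pow_mod k (ha4 ▸ pow_orderOf_eq_one a)
      rw [← pow_add] at hbb
      have hd := orderOf_dvd_of_pow_eq_one hbb
      rw [ha4] at hd
      rw [h0]
      have hlt := Nat.mod_lt k (show 4 > 0 by norm_num)
      rcases (show k % 4 = 0 ∨ k % 4 = 2 by omega) with h | h <;> rw [h]
      · left; simp
      · right; rw [pow_two]
    refine helem (Subgroup.zpowers (a * a)) ⟨fun b hb g => ?_⟩ (fun b hb => ?_)
      (Or.inl (by rw [Nat.card_zpowers, haa2]))
    · have hsq : b * b = 1 := by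
        have := orderOf_dvd_iff_pow_eq_one.1 ((Subgroup.orderOf_dvd_natCard _ hb).trans
          (dvd_of_eq (by rw [Nat.card_zpowers, haa2])))
        rwa [pow_two] at this
      have hbL : b ∈ L' := Subgroup.zpowers_le.2 (L'.mul_mem ha ha) hb
      rcases huniq _ (hL'n.conj_mem b hbL g) (by
          rw [show g * b * g⁻¹ * (g * b * g⁻¹) = g * (b * b) * g⁻¹ by group, hsq]; group) with h | h
      · rw [h]; exact one_mem _
      · rw [h]; exact Subgroup.mem_zpowers _
    · have := orderOf_dvd_iff_pow_eq_one.1 ((Subgroup.orderOf_dvd_natCard _ hb).trans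
        (dvd_of_eq (by rw [Nat.card_zpowers, haa2])))
      rwa [pow_two] at this
  by_cases hzM : ζ ∈ commutator M
  · -- the involution is central modulo the kernel
    have hscal : ∀ d : ℕ, d ≤ 2 → ∀ ρ : Representation ℂ M (Fin d → ℂ), ∀ m : M, ρ m * ρ ζ = ρ ζ * ρ m := by
      intro d hd ρ m
      let A : M →* Matrix (Fin d) (Fin d) ℂ :=
        (LinearMap.toMatrixAlgEquiv' : ((Fin d → ℂ) →ₗ[ℂ] Fin d → ℂ) ≃ₐ[ℂ] _).toMonoidHom.comp ρ
      suffices h : A m * A ζ = A ζ * A m from
        LinearMap.toMatrixAlgEquiv'.injective (by simpa [A, map_mul] using h)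
      have hdet : (A ζ).det = 1 := by
        have hk := Abelianization.commutator_subset_ker
          ((Matrix.detMonoidHom.comp A).toHomUnits) hzM
        rw [MonoidHom.mem_ker] at hk
        exact congrArg Units.val hk
      have hsq : A ζ * A ζ = 1 := by
        rw [← map_mul, show ζ * ζ = 1 from Subtype.ext hzz, map_one]
      interval_cases d
      · exact Subsingleton.elim _ _
      · have e : A ζ = 1 := by
          ext i j
          fin_cases i; fin_cases j
          rw [Matrix.det_fin_one] at hdet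
          simpa using hdet
        rw [e, mul_one, one_mul]
      · rw [Matrix.det_fin_two] at hdet
        have e00 := congrFun (congrFun hsq 0) 0
        have e01 := congrFun (congrFun hsq 0) 1
        have e10 := congrFun (congrFun hsq 1) 0
        have e11 := congrFun (congrFun hsq 1) 1
        simp only [Matrix.mul_apply, Fin.sum_univ_two, Matrix.one_apply_eq,
          Matrix.one_apply_ne (show (0 : Fin 2) ≠ 1 by decide),
          Matrix.one_apply_ne (show (1 : Fin 2) ≠ 0 by decide)] at e00 e01 e10 e11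
        have htr : A ζ 0 0 + A ζ 1 1 ≠ 0 := fun h => by
          have h2 : (2 : ℂ) = 0 := by linear_combination -e00 - hdet + A ζ 0 0 * h
          norm_num at h2
        have h01 : A ζ 0 1 = 0 := (mul_eq_zero.1 (show (A ζ 0 0 + A ζ 1 1) * A ζ 0 1 = 0 by
          linear_combination e01)).resolve_left htr
        have h10 : A ζ 1 0 = 0 := (mul_eq_zero.1 (show (A ζ 0 0 + A ζ 1 1) * A ζ 1 0 = 0 by
          linear_combination e10)).resolve_left htr
        have h11 : A ζ 1 1 = A ζ 0 0 := by
          rw [h01, h10] at hdet e00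
          linear_combination A ζ 0 0 * hdet - A ζ 1 1 * e00
        have e : A ζ = A ζ 0 0 • (1 : Matrix (Fin 2) (Fin 2) ℂ) := by
          ext i j
          fin_cases i <;> fin_cases j <;> simp [h01, h10, h11]
        rw [e, Matrix.mul_smul, Matrix.smul_mul, mul_one, one_mul]
    have hcomm : ∀ m : M, m * ζ * m⁻¹ * ζ⁻¹ ∈ L := fun m => Half.mem_smallKer.2 fun d hd ρ => by
      rw [map_mul, map_mul, map_mul, hscal d hd ρ m, mul_assoc (ρ ζ), ← map_mul ρ m, mul_inv_cancel, map_one,
        mul_one, ← map_mul, mul_inv_cancel, map_one]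
    -- it centralizes the kernel
    have hoddL : ¬ 2 ∣ Nat.card L := hL'c ▸ hodd
    have hcyc : IsCyclic L := by
      have hpos : 0 < Nat.card L := Nat.card_pos
      rcases (show Nat.card L = 1 ∨ Nat.card L = 3 by omega) with h | h
      · haveI := (Nat.card_eq_one_iff_unique.1 h).1
        infer_instance
      · haveI : Fact (Nat.Prime 3) := ⟨Nat.prime_three⟩
        exact isCyclic_of_prime_card h
    have hLn : L.Normal := ⟨fun n hn m => Half.map_mem_smallKer (MulAut.conj m).toMonoidHom hn⟩
    have hker : commutator M ≤ (MulAut.conjNormal (H := L)).ker := by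
      rw [commutator_def, Subgroup.commutator_le]
      intro a _ b _
      rw [MonoidHom.mem_ker, map_commutatorElement, commutatorElement_eq_one_iff_commute]
      obtain ⟨i, hi⟩ := MonoidHom.map_cyclic (MulAut.conjNormal a : MulAut L).toMonoidHom
      obtain ⟨j, hj⟩ := MonoidHom.map_cyclic (MulAut.conjNormal b : MulAut L).toMonoidHom
      have hi' : ∀ l, (MulAut.conjNormal a : MulAut L) l = l ^ i := hi
      have hj' : ∀ l, (MulAut.conjNormal b : MulAut L) l = l ^ j := hj
      exact MulEquiv.ext fun l => by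
        rw [MulAut.mul_apply, MulAut.mul_apply, hj', hi', hi', hj', ← zpow_mul, ← zpow_mul, mul_comm i]
    have hzl : ∀ l ∈ L, ζ * l = l * ζ := fun l hl => by
      have h := congrArg Subtype.val (congrArg (fun f : MulAut L => f ⟨l, hl⟩) (MonoidHom.mem_ker.1 (hker hzM)))
      simp only [MulAut.conjNormal_apply, MulAut.one_apply] at h
      exact mul_inv_eq_iff_eq_mul.1 h
    have hcen : ∀ m : M, m * ζ = ζ * m := fun m => by
      set c := m * ζ * m⁻¹ * ζ⁻¹ with hcdef
      have hc1 := hcomm m
      have hζ2 : ζ * ζ = 1 := Subtype.ext hzz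
      have he : m * ζ * m⁻¹ = c * ζ := by rw [hcdef]; group
      have hcc : c * c = 1 := by
        have h1 : (m * ζ * m⁻¹) * (m * ζ * m⁻¹) = 1 := by
          rw [show (m * ζ * m⁻¹) * (m * ζ * m⁻¹) = m * (ζ * ζ) * m⁻¹ by group, hζ2]; group
        rw [he, show c * ζ * (c * ζ) = c * (ζ * c) * ζ by group, hzl c hc1,
          show c * (c * ζ) * ζ = c * c * (ζ * ζ) by group, hζ2, mul_one] at h1
        exact h1
      have hce : c = 1 := by
        by_contra hne'
        have ho : orderOf c = 2 := orderOf_eq_prime (by rw [pow_two, hcc]) hne'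
        exact hoddL (ho ▸ Subgroup.orderOf_dvd_natCard _ hc1)
      rw [hce, one_mul] at he
      exact mul_inv_eq_iff_eq_mul.1 he
    have hzG : ∀ g : G, g * (z : G) = z * g := by
      intro g
      by_cases hg : g ∈ M
      · exact congrArg Subtype.val (hcen ⟨g, hg⟩)
      · have hgx : g * x ∈ M := (Subgroup.mul_mem_iff_of_index_two hM).2 (by tauto)
        have h1 : g * x * (z : G) = z * (g * x) := congrArg Subtype.val (hcen ⟨g * x, hgx⟩)
        have hzx : x * (z : G) = z * x := (Subgroup.mem_centralizer_singleton_iff.1 hzC).symm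
        refine mul_right_cancel (b := x) ?_
        rw [mul_assoc g (z : G) x, ← hzx, ← mul_assoc, h1, mul_assoc]
    have hzo : orderOf (z : G) = 2 := orderOf_eq_prime (by rw [pow_two, hzz]) fun h => hz1 (Subtype.ext h)
    have hE : (Subgroup.zpowers (z : G)).Normal := ⟨fun n hn g => by
      obtain ⟨i, rfl⟩ := Subgroup.mem_zpowers_iff.1 hn
      rw [← conj_zpow, hzG, mul_inv_cancel_right]
      exact Subgroup.zpow_mem_zpowers _ _⟩
    refine (hne _ hE ⟨inferInstance, fun a ha => ?_⟩).1 (by rw [Nat.card_zpowers, hzo])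
    exact orderOf_dvd_iff_pow_eq_one.1 ((Subgroup.orderOf_dvd_natCard _ ha).trans
      (dvd_of_eq (by rw [Nat.card_zpowers, hzo])))
  · -- a fixed point free normal subgroup of two-power index
    set n := Nat.card (Abelianization M) with hn
    set n₀ := n / 2 ^ n.factorization 2 with hn₀
    have hn₀odd : ¬ 2 ∣ n₀ := Nat.not_dvd_ordCompl Nat.prime_two Nat.card_pos.ne'
    set M₁ : Subgroup M := (powMonoidHom n₀ : Abelianization M →* Abelianization M).ker.comap Abelianization.of
      with hM₁
    have hmem : ∀ m, m ∈ M₁ ↔ Abelianization.of m ^ n₀ = 1 := fun m => Iff.rfl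
    set N := M₁.map M.subtype with hN
    haveI hNn : N.Normal := hnormal M₁ fun g m hm => by
      rw [hmem] at hm ⊢
      rw [← Abelianization.map_of, ← map_pow, hm, map_one]
    have hζ1 : ζ ∉ M₁ := by
      intro h
      rw [hmem] at h
      refine hzM ?_
      have hd1 := orderOf_dvd_of_pow_eq_one h
      have hd2 : orderOf (Abelianization.of ζ) ∣ 2 := (orderOf_map_dvd _ _).trans
        (orderOf_dvd_of_pow_eq_one (by rw [pow_two]; exact Subtype.ext hzz))
      have h1 : orderOf (Abelianization.of ζ) = 1 :=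
        Nat.eq_one_of_dvd_coprimes ((Nat.prime_two.coprime_iff_not_dvd.2 hn₀odd).symm) hd1 hd2
      exact (QuotientGroup.eq_one_iff ζ).1 (orderOf_eq_one_iff.1 h1)
    have hNodd : ¬ 2 ∣ Nat.card N := by
      intro h2
      obtain ⟨⟨v, hv⟩, hvo⟩ := exists_prime_orderOf_dvd_card' (G := N) 2 h2
      rw [Subgroup.orderOf_mk] at hvo
      have hfix : ∀ a ∈ N, a * x = x * a → a = 1 := by
        rintro _ ⟨a, ha, rfl⟩ hc'
        rcases hzall ⟨(a : G), Subgroup.mem_centralizer_singleton_iff.2 hc', a.2⟩ with h | h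
        · exact congrArg Subtype.val h
        · exact absurd ((Subtype.ext (congrArg Subtype.val h :) : a = ζ) ▸ ha) hζ1
      let φ : N → N := fun a => ⟨(a : G)⁻¹ * (x * a * x⁻¹),
        N.mul_mem (N.inv_mem a.2) (hNn.conj_mem _ a.2 x)⟩
      have hφ : Function.Injective φ := by
        intro a b h
        have h' : (a : G)⁻¹ * (x * a * x⁻¹) = (b : G)⁻¹ * (x * b * x⁻¹) := congrArg Subtype.val h
        have hc' : ((b : G) * (a : G)⁻¹) * x = x * ((b : G) * (a : G)⁻¹) := by
          calc (b : G) * (a : G)⁻¹ * x = (b : G) * ((a : G)⁻¹ * (x * a * x⁻¹)) * (x * (a : G)⁻¹) := by group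
            _ = _ := by rw [h']; group
        exact Subtype.ext (mul_inv_eq_one.1 (hfix _ (N.mul_mem b.2 (N.inv_mem a.2)) hc')).symm
      obtain ⟨a, ha⟩ := Finite.injective_iff_surjective.1 hφ ⟨v, hv⟩
      have ha' : (a : G)⁻¹ * (x * a * x⁻¹) = v := congrArg Subtype.val ha
      have hxi : x⁻¹ = x := inv_eq_of_mul_eq_one_right hxx
      have hvi : v⁻¹ = v := inv_eq_of_mul_eq_one_right (by rw [← pow_two, ← hvo, pow_orderOf_eq_one])
      have hxv : x * v * x⁻¹ = v := by
        refine Eq.trans ?_ hvi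
        rw [← ha', mul_inv_rev, mul_inv_rev, mul_inv_rev, inv_inv, inv_inv, hxi,
          show x * ((a : G)⁻¹ * (x * a * x)) * x = x * (a : G)⁻¹ * x * a * (x * x) by group, hxx, mul_one]
        group
      have := hfix v hv (mul_inv_eq_iff_eq_mul.1 hxv).symm
      rw [this, orderOf_one] at hvo
      omega
    refine hnc (Transfer.hasNormalPComplement_iff_exists.2 ⟨N, hNn, hNodd, ?_⟩)
    have hpg : IsPGroup 2 (M ⧸ M₁) := by
      intro q
      induction q using QuotientGroup.induction_on with
      | H m =>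
        refine ⟨n.factorization 2, ?_⟩
        rw [← QuotientGroup.mk_pow, QuotientGroup.eq_one_iff, hmem, map_pow, ← pow_mul, hn₀,
          Nat.ordProj_mul_ordCompl_eq_self, hn]
        exact pow_card_eq_one'
    obtain ⟨k, hk⟩ := IsPGroup.iff_card.1 hpg
    refine ⟨k + 1, ?_⟩
    rw [hN, Subgroup.index_map_subtype, hM, pow_succ, ← hk]
    rfl

end Cfsg.Agent.Invol.V4Cent
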