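import Mathlib
import Cfsg.Agent.Lib.Char.SelfCentChars
import Cfsg.Agent.Lib.Fus.SmallOrders

/-!
Simple groups of order 7920: the elements of order eleven and the characters not vanishing there.
-/

set_option autoImplicit false
set_option linter.style.haveILetI false

namespace Cfsg.Agent.Invol.M11Ord

open Cfsg Cfsg.Agent.Block Cfsg.Agent.Char

universe u

variable {G : Type u} [Group G] [Finite G] [IsSimpleGroup G]

/-- The degree. -/
noncomputable abbrev dg (χ : IrrCharacter G) : ℕ := charDegree (χ : G → ℂ)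

omit [IsSimpleGroup G] in
theorem dg_trivial : dg (trivialIrr G) = 1 := charDeg_trivial

theorem not_comm (hG : Nat.card G = 7920) : ¬ IsMulCommutative G := fun h => by
  have h1 := card_prime_of_simple_of_comm (G := G) fun a b => h.1.1 a b
  rw [hG] at h1
  norm_num at h1

omit [IsSimpleGroup G] in
theorem hyp_of_sylow {p : ℕ} [Fact p.Prime] (P : Sylow p G) (hP : Nat.card P = p)
    (hC : Nat.card (Subgroup.centralizer ((P : Subgroup G) : Set G)) = p) :
    ∃ x : G, SCP.Hyp p x ∧ SCP.e x = (Subgroup.centralizer ((P : Subgroup G) : Set G)).relIndex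
      (Subgroup.normalizer ((P : Subgroup G) : Set G)) := by
  obtain ⟨x, hx⟩ := exists_prime_orderOf_dvd_card' (G := (P : Subgroup G)) p
    (dvd_of_eq hP.symm)
  rw [← Subgroup.orderOf_coe] at hx
  have hz : Subgroup.zpowers (x : G) = (P : Subgroup G) :=
    Subgroup.eq_of_le_of_card_ge (Subgroup.zpowers_le.2 x.2) (by rw [Nat.card_zpowers, hx]; exact hP.le)
  have hCP : Subgroup.centralizer ((P : Subgroup G) : Set G) = (P : Subgroup G) := by
    haveI : IsCyclic (P : Subgroup G) := isCyclic_of_prime_card (p := p) hP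
    refine (Subgroup.eq_of_le_of_card_ge (fun a ha => Subgroup.mem_centralizer_iff.2 fun b hb =>
      congrArg Subtype.val (mul_comm' (⟨b, hb⟩ : (P : Subgroup G)) ⟨a, ha⟩)) ?_).symm
    rw [hC]; exact hP.ge
  refine ⟨x, ⟨hx, ?_⟩, ?_⟩
  · refine Eq.trans ?_ (((congrArg (fun H : Subgroup G => Subgroup.centralizer (H : Set G)) hz).trans
      hCP).trans hz.symm)
    ext g
    rw [Subgroup.mem_centralizer_singleton_iff, Subgroup.mem_centralizer_iff]
    refine ⟨fun h y hy => ?_, fun h => (h _ (Subgroup.mem_zpowers _)).symm⟩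
    obtain ⟨i, rfl⟩ := hy
    exact ((show Commute g (x : G) from h).zpow_right i).eq.symm
  · unfold SCP.e SCP.P SCP.N
    rw [hz]
    exact congrArg (fun H : Subgroup G => H.relIndex _) hCP.symm

/-- Elements of order eleven generate their centralizers, and the automizer has order five. -/
theorem exists_eleven (hG : Nat.card G = 7920) : ∃ x : G, SCP.Hyp 11 x ∧ SCP.e x = 5 := by
  haveI : Fact (Nat.Prime 11) := ⟨by norm_num⟩
  have hna := not_comm hG
  obtain ⟨P⟩ : Nonempty (Sylow 11 G) := inferInstance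
  obtain ⟨e, c, hL, hP, hcm, he, hC⟩ := Fus.SmallOrd.options hna (p := 11) (m := 720)
    (by rw [hG]) (by norm_num) (by norm_num) (by norm_num) [(2, 8), (5, 1)] (by decide +kernel) P
  simp only [List.mem_cons, List.not_mem_nil, or_false, Prod.mk.injEq] at hL
  rcases hL with ⟨rfl, rfl⟩ | ⟨rfl, rfl⟩
  · exact (Fus.SmallOrd.two_elim hna hG (m := 720) (by norm_num) (by norm_num) (by norm_num) P hP
      hcm he hC (by norm_num) (by decide +kernel)).elim
  · obtain ⟨x, hx, hxe⟩ := hyp_of_sylow P hP (by rw [hC])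
    exact ⟨x, hx, hxe.trans he⟩

omit [IsSimpleGroup G] in
theorem sum_sq_nat [Fintype (IrrCharacter G)] (hG : Nat.card G = 7920) :
    ∑ χ : IrrCharacter G, dg χ ^ 2 = 7920 := by
  apply Nat.cast_injective (R := ℂ)
  push_cast
  rw [show (7920 : ℂ) = (Nat.card G : ℂ) by rw [hG]; norm_num, ← sum_degree_sq (G := G)]
  refine Finset.sum_congr (by ext; simp) fun χ _ => ?_
  rw [charDeg_spec']

omit [IsSimpleGroup G] in
theorem sum_sq_le (hG : Nat.card G = 7920) (S : Finset (IrrCharacter G)) :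
    ∑ χ ∈ S, dg χ ^ 2 ≤ 7920 := by
  cases nonempty_fintype (IrrCharacter G)
  rw [← sum_sq_nat hG]
  exact Finset.sum_le_univ_sum_of_nonneg fun χ => Nat.zero_le _

theorem deg_bounds (hG : Nat.card G = 7920) {χ : IrrCharacter G} (h : χ ≠ trivialIrr G) :
    2 ≤ dg χ ∧ dg χ ∣ 7920 ∧ dg χ ≤ 88 := by
  refine ⟨OrdP.two_le_deg (not_comm hG) h, hG ▸ charDeg_dvd χ, ?_⟩
  have h1 := sum_sq_le hG {χ}
  rw [Finset.sum_singleton] at h1
  nlinarith

/-- The characters not vanishing on elements of order eleven: those not of degree 12, 45 split as below. -/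
theorem chars_eleven [Fintype G] (hG : Nat.card G = 7920) :
    ∃ (T Y : Finset (IrrCharacter G)) (σ : IrrCharacter G → ℤ),
      T.card = 4 ∧ Y.card = 2 ∧ Disjoint T Y ∧ trivialIrr G ∉ T ∪ Y ∧
      (∀ χ ∈ T, (σ χ = -1 ∧ dg χ = 10) ∨ (σ χ = 1 ∧ (dg χ = 12 ∨ dg χ = 45))) ∧
      (∀ χ ∈ T, ∀ g : G, orderOf g = 11 → (χ : G → ℂ) g = σ χ) ∧
      (∀ χ, χ ∉ insert (trivialIrr G) (T ∪ Y) →
        11 ∣ dg χ ∧ ∀ g : G, orderOf g = 11 → (χ : G → ℂ) g = 0) ∧
      (((T.filter fun χ => dg χ = 10).card = 2 ∧ (T.filter fun χ => dg χ = 12).card = 2) ∨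
        ((T.filter fun χ => dg χ = 10).card = 3 ∧ (T.filter fun χ => dg χ = 45).card = 1 ∧
          (∀ ψ ∈ Y, dg ψ = 16) ∧ ∀ ψ ∈ Y, ∀ g : G, ¬ 11 ∣ orderOf g →
            -1 + (∑ χ ∈ T, -(σ χ : ℂ) * (χ : G → ℂ) g) + (ψ : G → ℂ) g = 0)) := by
  classical
  haveI : Fact (Nat.Prime 11) := ⟨by norm_num⟩
  obtain ⟨x, hx, hxe⟩ := exists_eleven hG
  obtain ⟨X, Y, c, ε, hc⟩ := SCP.exists_chars hx
  rw [hxe] at hc
  have hY2 : Y.card = 2 := by have := hc.card_Y; omega
  have htX : trivialIrr G ∈ X := by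
    rcases Finset.mem_union.1 hc.trivial_mem with h | h
    · exact h
    · exfalso
      have h1 := hc.deg_Y _ h
      rw [show charDegree ((trivialIrr G : IrrCharacter G) : G → ℂ) = 1 from dg_trivial,
        Int.ModEq] at h1
      rcases hc.ε_sign with e | e <;> rw [e] at h1 <;> norm_num at h1
  have hct : c (trivialIrr G) = -1 := by
    have h1 := hc.deg_X _ htX
    rw [show charDegree ((trivialIrr G : IrrCharacter G) : G → ℂ) = 1 from dg_trivial,
      Int.ModEq] at h1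
    rcases hc.c_sign _ htX with e | e <;> rw [e] at h1 ⊢
    norm_num at h1
  set T := X.erase (trivialIrr G) with hT
  have hTc : T.card = 4 := by rw [hT, Finset.card_erase_of_mem htX, hc.card_X]
  have hkT : ∀ χ ∈ T, (c χ = 1 ∧ dg χ = 10) ∨ (c χ = -1 ∧ (dg χ = 12 ∨ dg χ = 45)) := by
    intro χ hχ
    obtain ⟨hne, hχX⟩ := Finset.mem_erase.1 hχ
    obtain ⟨h2, hdv, hle⟩ := deg_bounds hG hne
    have h1 := hc.deg_X χ hχX
    rw [Int.ModEq] at h1
    rcases hc.c_sign χ hχX with e | e <;> rw [e] at h1 ⊢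
    · refine Or.inl ⟨rfl, ?_⟩
      obtain ⟨q, hq⟩ : ∃ q, dg χ = 11 * q + 10 := ⟨dg χ / 11, by unfold dg; omega⟩
      have hq7 : q ≤ 7 := by omega
      interval_cases q <;> first | omega | (rw [hq] at hdv; norm_num at hdv)
    · refine Or.inr ⟨rfl, ?_⟩
      obtain ⟨q, hq⟩ : ∃ q, dg χ = 11 * q + 1 := ⟨dg χ / 11, by unfold dg; omega⟩
      have hq7 : q ≤ 7 := by omega
      interval_cases q <;> first | omega | (rw [hq] at hdv; norm_num at hdv)
  have hTY : Disjoint T Y := hc.disj.mono_left (Finset.erase_subset _ _)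
  have htY : trivialIrr G ∉ Y := Finset.disjoint_left.1 hc.disj htX
  have hone : ∀ ψ ∈ Y, -1 + (∑ χ ∈ T, c χ * (dg χ : ℤ)) + ε * (dg ψ : ℤ) = 0 := by
    intro ψ hψ
    have h1 := hc.regular ψ hψ 1 (by rw [orderOf_one]; norm_num)
    rw [← Finset.add_sum_erase X _ htX, hct] at h1
    apply Int.cast_injective (α := ℂ)
    push_cast
    rw [← h1]
    simp only [charDeg_spec', dg]
    rw [show charDegree ((trivialIrr G : IrrCharacter G) : G → ℂ) = 1 from dg_trivial]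
    push_cast
    rw [hT]
    ring
  obtain ⟨ψ₁, ψ₂, hne12, hYe⟩ := Finset.card_eq_two.1 hY2
  have hψ₁ : ψ₁ ∈ Y := by rw [hYe]; simp
  have hψ₂ : ψ₂ ∈ Y := by rw [hYe]; simp
  have hYd : ∀ ψ ∈ Y, dg ψ = dg ψ₁ := fun ψ hψ => by
    have h1 := hone ψ hψ
    have h2 := hone ψ₁ hψ₁
    have : ε * (dg ψ : ℤ) = ε * (dg ψ₁ : ℤ) := by linarith
    rcases hc.ε_sign with e | e <;> rw [e] at this <;> omega
  have hsq := sum_sq_le hG (insert (trivialIrr G) (T ∪ Y))
  rw [Finset.sum_insert (by rw [Finset.mem_union]; exact not_or.2 ⟨Finset.notMem_erase _ _, htY⟩),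
    Finset.sum_union hTY, dg_trivial, Finset.sum_congr rfl fun ψ hψ => congrArg (· ^ 2) (hYd ψ hψ),
    Finset.sum_const, hY2, smul_eq_mul] at hsq
  have key : ∀ (F : IrrCharacter G → ℤ) (a b b' : ℤ),
      (∀ χ ∈ T, (dg χ = 10 → F χ = a) ∧ (dg χ = 12 → F χ = b) ∧ (dg χ = 45 → F χ = b')) →
      ∑ χ ∈ T, F χ = a * ((T.filter fun χ => dg χ = 10).card : ℤ) +
        b * ((T.filter fun χ => dg χ = 12).card : ℤ) + b' * ((T.filter fun χ => dg χ = 45).card : ℤ) := by
    intro F a b b' hF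
    rw [Finset.sum_congr rfl (g := fun χ => a * (if dg χ = 10 then 1 else 0) +
      b * (if dg χ = 12 then 1 else 0) + b' * (if dg χ = 45 then 1 else 0)) fun χ hχ => by
        obtain ⟨h1, h2, h3⟩ := hF χ hχ
        rcases hkT χ hχ with ⟨-, e⟩ | ⟨-, e | e⟩
        · simp [e, h1 e]
        · simp [e, h2 e]
        · simp [e, h3 e]]
    simp only [Finset.sum_add_distrib, ← Finset.mul_sum, Finset.sum_boole]
  have hcnt := key (fun _ => 1) 1 1 1 fun χ _ => ⟨fun _ => rfl, fun _ => rfl, fun _ => rfl⟩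
  rw [Finset.sum_const, hTc] at hcnt
  have hlin := key (fun χ => c χ * (dg χ : ℤ)) 10 (-12) (-45) fun χ hχ => by
    rcases hkT χ hχ with ⟨ec, e⟩ | ⟨ec, e | e⟩ <;> simp [ec, e]
  have hquad := key (fun χ => ((dg χ ^ 2 : ℕ) : ℤ)) 100 144 2025 fun χ hχ => by
    rcases hkT χ hχ with ⟨ec, e⟩ | ⟨ec, e | e⟩ <;> simp [e]
  rw [← Nat.cast_sum] at hquad
  set A := (T.filter fun χ => dg χ = 10).card
  set B := (T.filter fun χ => dg χ = 12).card
  set C := (T.filter fun χ => dg χ = 45).card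
  set Q := ∑ χ ∈ T, dg χ ^ 2
  have h₁ := hone ψ₁ hψ₁
  rw [hlin] at h₁
  obtain ⟨hd2, hdd, hd88⟩ := deg_bounds hG (χ := ψ₁) fun e => htY (e ▸ hψ₁)
  have hdY := hc.deg_Y ψ₁ hψ₁
  rw [Int.ModEq] at hdY
  have hd62 : dg ψ₁ ≤ 62 := by nlinarith
  norm_num at hcnt
  have hkY : (ε = 1 ∧ (dg ψ₁ = 5 ∨ dg ψ₁ = 16 ∨ dg ψ₁ = 60)) ∨ (ε = -1 ∧ dg ψ₁ = 6) := by
    rcases hc.ε_sign with e | e <;> rw [e] at hdY ⊢
    · refine Or.inl ⟨rfl, ?_⟩
      obtain ⟨q, hq⟩ : ∃ q, dg ψ₁ = 11 * q + 5 := ⟨dg ψ₁ / 11, by unfold dg; omega⟩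
      have hq5 : q ≤ 5 := by omega
      interval_cases q <;> first | omega | (rw [hq] at hdd; norm_num at hdd)
    · refine Or.inr ⟨rfl, ?_⟩
      obtain ⟨q, hq⟩ : ∃ q, dg ψ₁ = 11 * q + 6 := ⟨dg ψ₁ / 11, by unfold dg; omega⟩
      have hq5 : q ≤ 5 := by omega
      interval_cases q <;> first | omega | (rw [hq] at hdd; norm_num at hdd)
  have hpair : (A = 2 ∧ B = 2) ∨ (A = 3 ∧ C = 1 ∧ dg ψ₁ = 16 ∧ ε = 1) := by
    rcases hkY with ⟨e, hd | hd | hd⟩ | ⟨e, hd⟩ <;> rw [e, hd] at h₁ <;> rw [hd] at hsq <;>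
      push_cast at h₁ <;> omega
  refine ⟨T, Y, fun χ => -c χ, hTc, hY2, hTY, ?_, ?_, ?_, ?_, ?_⟩
  · rw [Finset.mem_union]
    exact not_or.2 ⟨Finset.notMem_erase _ _, htY⟩
  · intro χ hχ
    rcases hkT χ hχ with ⟨ec, e⟩ | ⟨ec, e⟩
    · exact Or.inl ⟨by simp [ec], e⟩
    · exact Or.inr ⟨by simp [ec], e⟩
  · intro χ hχ g hg
    rw [hc.value χ (Finset.mem_of_mem_erase hχ) g hg]
    push_cast
    rfl
  · intro χ hχ
    have hχ' : χ ∉ X ∪ Y := by
      intro h
      apply hχ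
      rcases Finset.mem_union.1 h with h | h
      · rcases eq_or_ne χ (trivialIrr G) with e | e
        · exact e ▸ Finset.mem_insert_self _ _
        · exact Finset.mem_insert_of_mem (Finset.mem_union_left _ (Finset.mem_erase.2 ⟨e, h⟩))
      · exact Finset.mem_insert_of_mem (Finset.mem_union_right _ h)
    exact ⟨hc.dvd_deg χ hχ', hc.vanish χ hχ'⟩
  · rcases hpair with h | ⟨hA, hC, hd, e⟩
    · exact Or.inl h
    · refine Or.inr ⟨hA, hC, fun ψ hψ => (hYd ψ hψ).trans hd, fun ψ hψ g hg => ?_⟩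
      have h1 := hc.regular ψ hψ g hg
      rw [← Finset.add_sum_erase X _ htX, hct, e] at h1
      rw [← h1, show ((trivialIrr G : IrrCharacter G) : G → ℂ) g = 1 from rfl]
      push_cast
      simp only [neg_neg, mul_one, one_mul]
      rfl

end Cfsg.Agent.Invol.M11Ord
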