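import Mathlib
import Cfsg.Agent.Lib.Invol.Order7920Eleven

/-!
Simple groups of order 7920: the elements of order five and the list of the irreducible characters.
-/

set_option autoImplicit false
set_option linter.style.haveILetI false

namespace Cfsg.Agent.Invol.M11Ord

open Cfsg Cfsg.Agent.Block Cfsg.Agent.Char

universe u

variable {G : Type u} [Group G] [Finite G] [IsSimpleGroup G]

theorem exists_deg_ten (hG : Nat.card G = 7920) : ∃ χ : IrrCharacter G, dg χ = 10 := by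
  classical
  haveI := Fintype.ofFinite G
  obtain ⟨T, Y, σ, -, -, -, -, -, -, -, h⟩ := chars_eleven hG
  have : 0 < (T.filter fun χ => dg χ = 10).card := by
    rcases h with ⟨h, -⟩ | ⟨h, -⟩ <;> omega
  obtain ⟨χ, hχ⟩ := Finset.card_pos.1 this
  exact ⟨χ, (Finset.mem_filter.1 hχ).2⟩

theorem no_involution_five (hG : Nat.card G = 7920) {u v : G} (hu : orderOf u = 5)
    (hv : orderOf v = 2) (hc : v * u = u * v) : False := by
  have hna := not_comm hG
  obtain ⟨χ, hχ⟩ := exists_deg_ten hG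
  have hne : χ ≠ trivialIrr G := fun e => by rw [e, dg_trivial] at hχ; omega
  obtain ⟨a, ha, h4⟩ := OrdP.involution_value hna χ
    (show v ^ 2 = 1 by rw [← hv]; exact pow_orderOf_eq_one v)
  have hb := OrdP.norm_value_le χ v
  rw [ha, show charDegree (χ : G → ℂ) = 10 from hχ, Complex.norm_intCast] at hb
  have hb' : |a| ≤ 10 := by exact_mod_cast hb
  have hd := OrdP.index_dvd χ ha
  rw [show charDegree (χ : G → ℂ) = 10 from hχ] at hd h4
  have h5C : 5 ∣ Nat.card (Subgroup.centralizer ({v} : Set G)) :=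
    hu ▸ Subgroup.orderOf_dvd_natCard _ (Subgroup.mem_centralizer_singleton_iff.2 hc.symm)
  have hidx := Subgroup.index_mul_card (Subgroup.centralizer ({v} : Set G))
  rw [hG] at hidx
  have hn5 : ¬ (5 : ℤ) ∣ ((Subgroup.centralizer ({v} : Set G)).index : ℤ) := fun h => by
    have h' : 5 ∣ (Subgroup.centralizer ({v} : Set G)).index := by exact_mod_cast h
    have := Nat.mul_dvd_mul h' h5C
    rw [hidx] at this
    norm_num at this
  have h5 : (5 : ℤ) ∣ a :=
    ((Nat.prime_iff_prime_int.1 (by norm_num : Nat.Prime 5)).dvd_or_dvd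
      (dvd_trans (by norm_num) hd)).resolve_left hn5
  obtain ⟨k, rfl⟩ := h5
  obtain ⟨j, hj⟩ := h4
  push_cast at hj
  rw [abs_le] at hb'
  have hk : k = 2 ∨ k = -2 := by omega
  have hv1 : v ≠ 1 := fun e => by rw [e, orderOf_one] at hv; omega
  refine hna ⟨⟨comm_of_central_ne_one hv1 (Subgroup.mem_center_iff.2 fun g => ?_)⟩⟩
  obtain ⟨n, ρ, hρ, hρχ, hn, -⟩ := IsIrr.exists_rep χ.2
  have hn10 : n = 10 := by
    rw [← hχ]
    exact Nat.cast_injective (R := ℂ) (hn.symm.trans (charDeg_spec' χ))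
  obtain ⟨ω, hω⟩ := (norm_character_eq_iff ρ v).1 (by
    rw [show ρ.character v = (χ : G → ℂ) v by rw [← hρχ], ha, Module.finrank_fin_fun,
      Complex.norm_intCast, hn10]
    rcases hk with rfl | rfl <;> norm_num)
  have hcomm : ρ (g * v) = ρ (v * g) := by
    rw [map_mul, map_mul, hω, ← Module.End.one_eq_id, mul_smul_comm, smul_mul_assoc, mul_one, one_mul]
  have h1 : ρ (v * g * (g * v)⁻¹) = 1 := by
    rw [map_mul, ← hcomm, ← map_mul, mul_inv_cancel, map_one]
  have h2 : v * g * (g * v)⁻¹ = 1 := OrdP.eq_one_of_value hne (by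
    rw [← hρχ]
    show LinearMap.trace ℂ _ (ρ _) = LinearMap.trace ℂ _ (ρ 1)
    exact congrArg _ (h1.trans (map_one ρ).symm))
  exact (mul_inv_eq_one.1 h2).symm

/-- Elements of order five generate their centralizers, and the automizer has order four. -/
theorem exists_five (hG : Nat.card G = 7920) : ∃ x : G, SCP.Hyp 5 x ∧ SCP.e x = 4 := by
  haveI : Fact (Nat.Prime 5) := ⟨by norm_num⟩
  haveI : Fact (Nat.Prime 11) := ⟨by norm_num⟩
  have hna := not_comm hG
  obtain ⟨P⟩ : Nonempty (Sylow 5 G) := inferInstance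
  obtain ⟨e, c, hL, hP, hcm, he, hC⟩ := Fus.SmallOrd.options hna (p := 5) (m := 1584)
    (by rw [hG]) (by norm_num) (by norm_num) (by norm_num)
    [(2, 72), (4, 36), (2, 22), (4, 11), (2, 12), (4, 6), (2, 2), (4, 1)] (by decide +kernel) P
  obtain ⟨z, hz⟩ := exists_prime_orderOf_dvd_card' (G := (P : Subgroup G)) 5 (dvd_of_eq hP.symm)
  rw [← Subgroup.orderOf_coe] at hz
  have hno : ∀ q : ℕ, q = 2 ∨ q = 11 → ¬ q ∣ c := by
    intro q hq hqc
    haveI : Fact q.Prime := ⟨by rcases hq with rfl | rfl <;> norm_num⟩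
    obtain ⟨v, hv⟩ := exists_prime_orderOf_dvd_card'
      (G := Subgroup.centralizer ((P : Subgroup G) : Set G)) q (hC ▸ dvd_mul_of_dvd_right hqc 5)
    rw [← Subgroup.orderOf_coe] at hv
    have hvz : (v : G) * z = z * v := (Subgroup.mem_centralizer_iff.1 v.2 z z.2).symm
    rcases hq with rfl | rfl
    · exact no_involution_five hG hz hv hvz
    · obtain ⟨x, hx, -⟩ := exists_eleven hG
      have h := SCP.hyp_of_ord hx hv
      have h1 := Subgroup.orderOf_dvd_natCard _ (SCP.mem_P_of_comm h hvz.symm)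
      rw [hz, SCP.card_P h] at h1
      norm_num at h1
  simp only [List.mem_cons, List.not_mem_nil, or_false, Prod.mk.injEq] at hL
  rcases hL with ⟨rfl, rfl⟩ | ⟨rfl, rfl⟩ | ⟨rfl, rfl⟩ | ⟨rfl, rfl⟩ | ⟨rfl, rfl⟩ | ⟨rfl, rfl⟩ |
    ⟨rfl, rfl⟩ | ⟨rfl, rfl⟩
  iterate 3 exact absurd (by norm_num) (hno 2 (Or.inl rfl))
  · exact absurd (by norm_num) (hno 11 (Or.inr rfl))
  iterate 3 exact absurd (by norm_num) (hno 2 (Or.inl rfl))
  obtain ⟨x, hx, hxe⟩ := hyp_of_sylow P hP (by rw [hC])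
  exact ⟨x, hx, hxe.trans he⟩

/-- The characters not vanishing on elements of order five. -/
theorem chars_five [Fintype G] (hG : Nat.card G = 7920) :
    ∃ (Z : Finset (IrrCharacter G)) (σ : IrrCharacter G → ℤ),
      Z.card = 5 ∧ trivialIrr G ∈ Z ∧
      (∀ χ ∈ Z, (σ χ = 1 ∨ σ χ = -1) ∧ (dg χ : ℤ) ≡ σ χ [ZMOD 5]) ∧
      (∀ χ, χ ∉ Z → 5 ∣ dg χ) ∧
      ∀ g : G, ¬ 5 ∣ orderOf g → ∑ χ ∈ Z, (σ χ : ℂ) * (χ : G → ℂ) g = 0 := by
  classical
  haveI : Fact (Nat.Prime 5) := ⟨by norm_num⟩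
  obtain ⟨x, hx, hxe⟩ := exists_five hG
  obtain ⟨X, Y, c, ε, hc⟩ := SCP.exists_chars hx
  rw [hxe] at hc
  have hY1 : Y.card = 1 := by have := hc.card_Y; omega
  obtain ⟨ψ, rfl⟩ := Finset.card_eq_one.1 hY1
  have hψX : ψ ∉ X := fun h => Finset.disjoint_left.1 hc.disj h (Finset.mem_singleton_self ψ)
  set σ : IrrCharacter G → ℤ := fun χ => if χ = ψ then -ε else -c χ with hσ
  refine ⟨insert ψ X, σ, ?_, ?_, ?_, ?_, ?_⟩
  · rw [Finset.card_insert_of_notMem hψX, hc.card_X]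
  · have := hc.trivial_mem
    rw [Finset.mem_union, Finset.mem_singleton] at this
    rw [Finset.mem_insert]
    exact this.symm
  · intro χ hχ
    rcases Finset.mem_insert.1 hχ with rfl | h
    · simp only [hσ, if_true]
      refine ⟨?_, ?_⟩
      · rcases hc.ε_sign with e | e <;> simp [e]
      · have h1 := hc.deg_Y χ (Finset.mem_singleton_self χ)
        rw [Int.ModEq] at h1 ⊢
        rcases hc.ε_sign with e | e <;> rw [e] at h1 ⊢ <;> norm_num at h1 ⊢ <;> exact h1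
    · have hne : χ ≠ ψ := fun e => hψX (e ▸ h)
      simp only [hσ, if_neg hne]
      refine ⟨?_, ?_⟩
      · rcases hc.c_sign χ h with e | e <;> simp [e]
      · exact hc.deg_X χ h
  · intro χ hχ
    exact hc.dvd_deg χ (by rw [Finset.mem_union, Finset.mem_singleton, or_comm, ← Finset.mem_insert]
                           exact hχ)
  · intro g hg
    have h1 := hc.regular ψ (Finset.mem_singleton_self ψ) g hg
    rw [Finset.sum_insert hψX, Finset.sum_congr rfl (g := fun χ => -((c χ : ℂ) * (χ : G → ℂ) g))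
      fun χ hχ => by simp [hσ, show χ ≠ ψ from fun e => hψX (e ▸ hχ)], Finset.sum_neg_distrib]
    simp only [hσ, if_true, Int.cast_neg]
    linear_combination (-1 : ℂ) * h1

/-- The ten irreducible characters of a simple group of order 7920. -/
structure Tab (G : Type u) [Group G] [Finite G] [Fintype (IrrCharacter G)] where
  a : IrrCharacter G
  b : IrrCharacter G
  c : IrrCharacter G
  f : IrrCharacter G
  y : IrrCharacter G
  y' : IrrCharacter G
  u : IrrCharacter G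
  w : IrrCharacter G
  v : IrrCharacter G
  da : dg a = 10
  db : dg b = 10
  dc : dg c = 10
  df : dg f = 45
  dy : dg y = 16
  dy' : dg y' = 16
  du : dg u = 11
  dw : dg w = 44
  dv : dg v = 55
  mem : ∀ χ, χ = trivialIrr G ∨ χ = a ∨ χ = b ∨ χ = c ∨ χ = f ∨ χ = y ∨ χ = y' ∨ χ = u ∨ χ = w ∨ χ = v
  hsum : ∀ F : IrrCharacter G → ℂ, ∑ χ, F χ =
    F (trivialIrr G) + F a + F b + F c + F f + F y + F y' + F u + F w + F v
  eleven : ∀ g : G, orderOf g = 11 → (a : G → ℂ) g = -1 ∧ (b : G → ℂ) g = -1 ∧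
    (c : G → ℂ) g = -1 ∧ (f : G → ℂ) g = 1 ∧
    (u : G → ℂ) g = 0 ∧ (w : G → ℂ) g = 0 ∧ (v : G → ℂ) g = 0
  rel11 : ∀ g : G, ¬ 11 ∣ orderOf g →
    -1 + (a : G → ℂ) g + (b : G → ℂ) g + (c : G → ℂ) g - (f : G → ℂ) g + (y : G → ℂ) g = 0 ∧
      (y' : G → ℂ) g = (y : G → ℂ) g
  rel5 : ∀ g : G, ¬ 5 ∣ orderOf g →
    1 + (y : G → ℂ) g + (y' : G → ℂ) g + (u : G → ℂ) g - (w : G → ℂ) g = 0

theorem exists_tab [Fintype G] [Fintype (IrrCharacter G)] (hG : Nat.card G = 7920) :
    Nonempty (Tab G) := by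
  classical
  haveI : Fact (Nat.Prime 11) := ⟨by norm_num⟩
  obtain ⟨T, Y, τ, hTc, hYc, hTY, htTY, hkT, hvalT, hout, hcase⟩ := chars_eleven hG
  obtain ⟨Z, σ, hZc, htZ, hkZ, hZout, hZrel⟩ := chars_five hG
  -- no character of degree twelve
  have hno12 : ∀ χ : IrrCharacter G, dg χ ≠ 12 := by
    intro χ hχ
    by_cases h : χ ∈ Z
    · obtain ⟨hs, hd⟩ := hkZ χ h
      rw [hχ, Int.ModEq] at hd
      rcases hs with e | e <;> rw [e] at hd <;> norm_num at hd
    · have := hZout χ h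
      rw [hχ] at this
      norm_num at this
  rcases hcase with ⟨-, hB⟩ | ⟨hA, hC, hY16, hrel⟩
  · obtain ⟨χ, hχ⟩ := Finset.card_pos.1 (by omega : 0 < (T.filter fun χ => dg χ = 12).card)
    exact absurd (Finset.mem_filter.1 hχ).2 (hno12 χ)
  obtain ⟨a, b, c, hab, hac, hbc, hAe⟩ := Finset.card_eq_three.1 hA
  obtain ⟨f, hCe⟩ := Finset.card_eq_one.1 hC
  obtain ⟨y, y', hyy, rfl⟩ := Finset.card_eq_two.1 hYc
  have hTmem : ∀ χ, χ ∈ T ↔ χ = a ∨ χ = b ∨ χ = c ∨ χ = f := by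
    intro χ
    have h10 : χ ∈ T ∧ dg χ = 10 ↔ χ = a ∨ χ = b ∨ χ = c := by
      have := congrArg (χ ∈ ·) hAe
      simpa using this
    have h45 : χ ∈ T ∧ dg χ = 45 ↔ χ = f := by
      have := congrArg (χ ∈ ·) hCe
      simpa using this
    refine ⟨fun h => ?_, ?_⟩
    · rcases hkT χ h with ⟨-, e⟩ | ⟨-, e | e⟩
      · rcases h10.1 ⟨h, e⟩ with r | r | r <;> simp [r]
      · exact absurd e (hno12 χ)
      · simp [h45.1 ⟨h, e⟩]
    · rintro (r | r | r | r)
      · exact (h10.2 (Or.inl r)).1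
      · exact (h10.2 (Or.inr (Or.inl r))).1
      · exact (h10.2 (Or.inr (Or.inr r))).1
      · exact (h45.2 r).1
  have hd3 : dg a = 10 ∧ dg b = 10 ∧ dg c = 10 := by
    refine ⟨?_, ?_, ?_⟩ <;>
    · refine ((Finset.mem_filter (s := T) (p := fun χ => dg χ = 10)).1 ?_).2
      rw [hAe]; simp
  obtain ⟨da, db, dc⟩ := hd3
  have df : dg f = 45 := ((Finset.mem_filter (s := T) (p := fun χ => dg χ = 45)).1
    (by rw [hCe]; simp)).2
  have hfa : a ≠ f ∧ b ≠ f ∧ c ≠ f := by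
    refine ⟨?_, ?_, ?_⟩ <;> intro e <;> simp only [← e, da, db, dc] at df <;> omega
  have dy : dg y = 16 := hY16 y (by simp)
  have dy' : dg y' = 16 := hY16 y' (by simp)
  have hTe : T = {a, b, c, f} := by ext χ; simp [hTmem]
  have hsumT : ∀ {M : Type} [AddCommMonoid M] (F : IrrCharacter G → M),
      ∑ χ ∈ T, F χ = F a + F b + F c + F f := by
    intro M _ F
    obtain ⟨h1, h2, h3⟩ := hfa
    rw [hTe, Finset.sum_insert (by simp [hab, hac, h1]), Finset.sum_insert (by simp [hbc, h2]),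
      Finset.sum_insert (by simp [h3]), Finset.sum_singleton]
    abel
  -- the two further characters not vanishing on elements of order five
  have hmemZ : ∀ χ, ¬ 5 ∣ dg χ → χ ∈ Z := fun χ h => by_contra fun h' => h (hZout χ h')
  have hnmemZ : ∀ χ, 5 ∣ dg χ → χ ∉ Z := fun χ h hz => by
    obtain ⟨hs, hd⟩ := hkZ χ hz
    rw [Int.ModEq] at hd
    rcases hs with e | e <;> rw [e] at hd <;> omega
  have hyZ : y ∈ Z := hmemZ y (by rw [dy]; norm_num)
  have hy'Z : y' ∈ Z := hmemZ y' (by rw [dy']; norm_num)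
  have hty : trivialIrr G ≠ y := fun e => htTY (e ▸ by simp)
  have hty' : trivialIrr G ≠ y' := fun e => htTY (e ▸ by simp)
  set Z0 := ({trivialIrr G, y, y'} : Finset (IrrCharacter G)) with hZ0
  have hZ0c : Z0.card = 3 := by simp [hZ0, hty, hty', hyy]
  have hZ0Z : Z0 ⊆ Z := by
    intro χ hχ
    simp only [hZ0, Finset.mem_insert, Finset.mem_singleton] at hχ
    rcases hχ with rfl | rfl | rfl <;> assumption
  obtain ⟨p, q, hpq, hpqe⟩ := Finset.card_eq_two.1
    (show (Z \ Z0).card = 2 by rw [Finset.card_sdiff_of_subset hZ0Z, hZc, hZ0c])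
  have hsig : σ (trivialIrr G) = 1 ∧ σ y = 1 ∧ σ y' = 1 := by
    refine ⟨?_, ?_, ?_⟩
    · obtain ⟨hs, hd⟩ := hkZ _ htZ
      rw [dg_trivial, Int.ModEq] at hd
      rcases hs with e | e <;> rw [e] at hd ⊢ <;> norm_num at hd
    · obtain ⟨hs, hd⟩ := hkZ _ hyZ
      rw [dy, Int.ModEq] at hd
      rcases hs with e | e <;> rw [e] at hd ⊢ <;> norm_num at hd
    · obtain ⟨hs, hd⟩ := hkZ _ hy'Z
      rw [dy', Int.ModEq] at hd
      rcases hs with e | e <;> rw [e] at hd ⊢ <;> norm_num at hd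
  have hk : ∀ χ ∈ Z \ Z0, χ ∉ insert (trivialIrr G) (T ∪ {y, y'}) ∧
      ((σ χ = 1 ∧ (dg χ = 11 ∨ dg χ = 66)) ∨ (σ χ = -1 ∧ dg χ = 44)) := by
    intro χ hχ
    obtain ⟨hχZ, hχ0⟩ := Finset.mem_sdiff.1 hχ
    have hχT : χ ∉ insert (trivialIrr G) (T ∪ {y, y'}) := by
      intro h
      rcases Finset.mem_insert.1 h with h | h
      · exact hχ0 (by simp [hZ0, h])
      rcases Finset.mem_union.1 h with h | h
      · rcases (hTmem χ).1 h with r | r | r | r <;>
          exact hnmemZ χ (by rw [r]; simp [da, db, dc, df]) hχZ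
      · simp only [Finset.mem_insert, Finset.mem_singleton] at h
        exact hχ0 (by rcases h with r | r <;> simp [hZ0, r])
    refine ⟨hχT, ?_⟩
    have h11 := (hout χ hχT).1
    obtain ⟨h2, hdv, h88⟩ := deg_bounds hG (χ := χ)
      (fun e => hχT (e ▸ Finset.mem_insert_self _ _))
    obtain ⟨hs, hd⟩ := hkZ χ hχZ
    obtain ⟨k, hk⟩ := h11
    have hk8 : k ≤ 8 := by omega
    rw [Int.ModEq] at hd
    rcases hs with e | e <;> rw [e] at hd ⊢ <;> rw [hk] at hd hdv ⊢ <;> interval_cases k <;>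
      first | omega | (norm_num at hd; done) | (norm_num at hdv; done) | norm_num
  have hZsum : ∀ F : IrrCharacter G → ℂ, ∑ χ ∈ Z, F χ =
      F (trivialIrr G) + F y + F y' + F p + F q := by
    intro F
    rw [← Finset.sum_sdiff hZ0Z, hpqe, Finset.sum_pair hpq, hZ0,
      Finset.sum_insert (by simp [hty, hty']), Finset.sum_insert (by simp [hyy]), Finset.sum_singleton]
    abel
  have h51 := hZrel 1 (by rw [orderOf_one]; norm_num)
  rw [hZsum] at h51
  simp only [hsig.1, hsig.2.1, hsig.2.2, charDeg_spec', Int.cast_one, one_mul] at h51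
  rw [show charDegree ((trivialIrr G : IrrCharacter G) : G → ℂ) = 1 from dg_trivial,
    show charDegree (y : G → ℂ) = 16 from dy, show charDegree (y' : G → ℂ) = 16 from dy'] at h51
  have h51' : 33 + σ p * (dg p : ℤ) + σ q * (dg q : ℤ) = 0 := by
    apply Int.cast_injective (α := ℂ)
    push_cast
    linear_combination h51
  obtain ⟨u, w, huw, hsu, hsw, du, dw, huwe⟩ : ∃ u w : IrrCharacter G, u ≠ w ∧ σ u = 1 ∧ σ w = -1 ∧
      dg u = 11 ∧ dg w = 44 ∧ Z \ Z0 = {u, w} := by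
    obtain ⟨-, hp'⟩ := hk p (hpqe ▸ Finset.mem_insert_self p {q})
    obtain ⟨-, hq'⟩ := hk q (by rw [hpqe]; simp)
    rcases hp' with ⟨sp, dp | dp⟩ | ⟨sp, dp⟩ <;> rcases hq' with ⟨sq, dq | dq⟩ | ⟨sq, dq⟩ <;>
      rw [sp, sq, dp, dq] at h51' <;> norm_num at h51'
    · exact ⟨p, q, hpq, sp, sq, dp, dq, hpqe⟩
    · exact ⟨q, p, hpq.symm, sq, sp, dq, dp, by rw [hpqe, Finset.pair_comm]⟩
  have hu0 := (hk u (by rw [huwe]; simp)).1
  have hw0 := (hk w (by rw [huwe]; simp)).1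
  set K := insert (trivialIrr G) (T ∪ {y, y'}) with hK
  have hsumK : ∀ {M : Type} [AddCommMonoid M] (F : IrrCharacter G → M),
      ∑ χ ∈ K, F χ = F (trivialIrr G) + F a + F b + F c + F f + F y + F y' := by
    intro M _ F
    rw [hK, Finset.sum_insert htTY, Finset.sum_union hTY, hsumT, Finset.sum_pair hyy]
    abel
  -- the remaining character
  set R := Finset.univ \ (K ∪ {u, w}) with hR
  have hKd : Disjoint K {u, w} := by simp [hu0, hw0]
  have hR55 : ∀ χ ∈ R, dg χ = 55 := by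
    intro χ hχ
    simp only [hR, Finset.mem_sdiff, Finset.mem_univ, true_and, Finset.mem_union, not_or] at hχ
    have h11 := (hout χ hχ.1).1
    have h5 : 5 ∣ dg χ := hZout χ fun hz => by
      by_cases h0 : χ ∈ Z0
      · simp only [hZ0, Finset.mem_insert, Finset.mem_singleton] at h0
        exact hχ.1 (by rcases h0 with r | r | r <;> simp [hK, r])
      · exact hχ.2 (huwe ▸ Finset.mem_sdiff.2 ⟨hz, h0⟩)
    obtain ⟨h2, -, h88⟩ := deg_bounds hG (χ := χ)
      (fun e => hχ.1 (e ▸ Finset.mem_insert_self _ _))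
    omega
  have hsq := sum_sq_nat hG
  rw [← Finset.sum_sdiff (Finset.subset_univ (K ∪ {u, w})), Finset.sum_union hKd, hsumK,
    Finset.sum_pair huw, Finset.sum_congr rfl fun χ hχ => congrArg (· ^ 2) (hR55 χ hχ),
    Finset.sum_const, smul_eq_mul, dg_trivial, da, db, dc, df, dy, dy', du, dw] at hsq
  obtain ⟨v, hv⟩ := Finset.card_eq_one.1 (show R.card = 1 by
    rw [hR] at hsq ⊢; omega)
  have hmem : ∀ χ, χ ∈ K ∨ χ = u ∨ χ = w ∨ χ = v := by
    intro χ
    by_cases h : χ ∈ K ∪ {u, w}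
    · simp only [Finset.mem_union, Finset.mem_insert, Finset.mem_singleton] at h
      tauto
    · have : χ ∈ R := Finset.mem_sdiff.2 ⟨Finset.mem_univ _, h⟩
      rw [hv, Finset.mem_singleton] at this
      exact Or.inr (Or.inr (Or.inr this))
  have hvR : v ∈ R := by rw [hv]; simp
  have hv0 : v ∉ K := fun h =>
    (Finset.mem_sdiff.1 hvR).2 (Finset.mem_union_left _ h)
  have haT : a ∈ T := (hTmem a).2 (Or.inl rfl)
  have hbT : b ∈ T := (hTmem b).2 (Or.inr (Or.inl rfl))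
  have hcT : c ∈ T := (hTmem c).2 (Or.inr (Or.inr (Or.inl rfl)))
  have hfT : f ∈ T := (hTmem f).2 (Or.inr (Or.inr (Or.inr rfl)))
  have hτ : τ a = -1 ∧ τ b = -1 ∧ τ c = -1 ∧ τ f = 1 := by
    refine ⟨?_, ?_, ?_, ?_⟩
    · rcases hkT a haT with ⟨e, -⟩ | ⟨-, e | e⟩ <;> omega
    · rcases hkT b hbT with ⟨e, -⟩ | ⟨-, e | e⟩ <;> omega
    · rcases hkT c hcT with ⟨e, -⟩ | ⟨-, e | e⟩ <;> omega
    · rcases hkT f hfT with ⟨-, e⟩ | ⟨e, -⟩ <;> omega
  refine ⟨⟨a, b, c, f, y, y', u, w, v, da, db, dc, df, dy, dy', du, dw, hR55 v hvR, ?_, ?_, ?_, ?_, ?_⟩⟩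
  · intro χ
    rcases hmem χ with h | h
    · rcases Finset.mem_insert.1 h with h | h
      · exact Or.inl h
      rcases Finset.mem_union.1 h with h | h
      · rcases (hTmem χ).1 h with r | r | r | r <;> simp [r]
      · simp only [Finset.mem_insert, Finset.mem_singleton] at h
        rcases h with r | r <;> simp [r]
    · rcases h with r | r | r <;> simp [r]
  · intro F
    rw [← Finset.sum_sdiff (Finset.subset_univ (K ∪ {u, w})), ← hR, hv, Finset.sum_singleton,
      Finset.sum_union hKd, hsumK, Finset.sum_pair huw]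
    abel
  · intro g hg
    rw [hvalT a haT g hg, hvalT b hbT g hg, hvalT c hcT g hg, hvalT f hfT g hg,
      (hout u hu0).2 g hg, (hout w hw0).2 g hg, (hout v hv0).2 g hg, hτ.1, hτ.2.1, hτ.2.2.1, hτ.2.2.2]
    norm_num
  · intro g hg
    have h1 := hrel y (by simp) g hg
    have h2 := hrel y' (by simp) g hg
    rw [hsumT, hτ.1, hτ.2.1, hτ.2.2.1, hτ.2.2.2] at h1 h2
    push_cast at h1 h2
    exact ⟨by linear_combination h1, by linear_combination h2 - h1⟩
  · intro g hg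
    have h1 := hZrel g hg
    rw [← Finset.sum_sdiff hZ0Z, huwe, Finset.sum_pair huw, hZ0,
      Finset.sum_insert (by simp [hty, hty']), Finset.sum_insert (by simp [hyy]), Finset.sum_singleton,
      hsu, hsw, hsig.1, hsig.2.1, hsig.2.2, show ((trivialIrr G : IrrCharacter G) : G → ℂ) g = 1 from rfl] at h1
    push_cast at h1
    linear_combination h1

end Cfsg.Agent.Invol.M11Ord
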