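import Mathlib
import Cfsg.Agent.Lib.Invol.Order7920Five

/-!
Simple groups of order 7920: the degrees, the involution centralizers and the Sylow 3-normalizers.
-/

set_option autoImplicit false
set_option linter.style.haveILetI false

namespace Cfsg.Agent.Invol.M11Ord

open scoped ComplexConjugate
open Cfsg Cfsg.Agent.Block Cfsg.Agent.Char

universe u

variable {G : Type u} [Group G] [Finite G] [IsSimpleGroup G]

theorem exists_tab' (hG : Nat.card G = 7920) : Nonempty (Tab G) := by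
  haveI := Fintype.ofFinite G
  exact exists_tab hG

theorem card_and_degrees (hG : Nat.card G = 7920) :
    Nat.card (IrrCharacter G) = 10 ∧ ∀ n : ℕ,
      Nat.card {χ : IrrCharacter G // charDegree (χ : G → ℂ) = n} =
        (if n = 1 ∨ n = 11 ∨ n = 44 ∨ n = 45 ∨ n = 55 then 1
          else if n = 10 then 3 else if n = 16 then 2 else 0) := by
  classical
  obtain ⟨K⟩ := exists_tab' hG
  have hN : ∀ F : IrrCharacter G → ℕ, ∑ χ, F χ =
      F (trivialIrr G) + F K.a + F K.b + F K.c + F K.f + F K.y + F K.y' + F K.u + F K.w + F K.v := by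
    intro F
    apply Nat.cast_injective (R := ℂ)
    push_cast
    exact K.hsum _
  refine ⟨?_, fun n => ?_⟩
  · rw [Nat.card_eq_fintype_card, Fintype.card, Finset.card_eq_sum_ones, hN]
  rw [Nat.card_eq_fintype_card, Fintype.card_subtype, Finset.card_filter, hN]
  simp only [show charDegree ((trivialIrr G : IrrCharacter G) : G → ℂ) = 1 from dg_trivial,
    show charDegree (K.a : G → ℂ) = 10 from K.da, show charDegree (K.b : G → ℂ) = 10 from K.db,
    show charDegree (K.c : G → ℂ) = 10 from K.dc, show charDegree (K.f : G → ℂ) = 45 from K.df,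
    show charDegree (K.y : G → ℂ) = 16 from K.dy, show charDegree (K.y' : G → ℂ) = 16 from K.dy',
    show charDegree (K.u : G → ℂ) = 11 from K.du, show charDegree (K.w : G → ℂ) = 44 from K.dw,
    show charDegree (K.v : G → ℂ) = 55 from K.dv]
  split_ifs <;> omega

omit [IsSimpleGroup G] in
theorem value_one_nat (χ : IrrCharacter G) : (χ : G → ℂ) 1 = (dg χ : ℂ) := charDeg_spec' χ

omit [IsSimpleGroup G] in
/-- Orthogonality of a nontrivial column with the column of the identity. -/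
theorem orth_one (K : Tab G) {g : G} (hg : g ≠ 1) :
    1 + 10 * ((K.a : G → ℂ) g + (K.b : G → ℂ) g + (K.c : G → ℂ) g) + 45 * (K.f : G → ℂ) g +
      16 * ((K.y : G → ℂ) g + (K.y' : G → ℂ) g) + 11 * (K.u : G → ℂ) g + 44 * (K.w : G → ℂ) g +
      55 * (K.v : G → ℂ) g = 0 := by
  classical
  have h := sum_irr_mul_conj g 1
  rw [if_neg (fun hc => hg (isConj_one_left.1 hc)), K.hsum] at h
  simp only [value_one_nat, dg_trivial, K.da, K.db, K.dc, K.df, K.dy, K.dy', K.du, K.dw, K.dv,
    map_natCast, show ((trivialIrr G : IrrCharacter G) : G → ℂ) g = 1 from rfl] at h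
  push_cast at h
  linear_combination h

omit [IsSimpleGroup G] in
/-- The order of a centralizer. -/
theorem cent_sum (K : Tab G) (g : G) :
    ((Nat.card (Subgroup.centralizer ({g} : Set G)) : ℕ) : ℝ) = 1 + Complex.normSq ((K.a : G → ℂ) g) +
      Complex.normSq ((K.b : G → ℂ) g) + Complex.normSq ((K.c : G → ℂ) g) +
      Complex.normSq ((K.f : G → ℂ) g) + Complex.normSq ((K.y : G → ℂ) g) +
      Complex.normSq ((K.y' : G → ℂ) g) + Complex.normSq ((K.u : G → ℂ) g) +
      Complex.normSq ((K.w : G → ℂ) g) + Complex.normSq ((K.v : G → ℂ) g) := by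
  classical
  have h := sum_irr_mul_conj g g
  rw [if_pos (IsConj.refl g), K.hsum, show ((trivialIrr G : IrrCharacter G) : G → ℂ) g = 1 from rfl] at h
  simp only [Complex.mul_conj, map_one, mul_one] at h
  apply Complex.ofReal_injective
  push_cast
  exact h.symm

omit [IsSimpleGroup G] in
theorem cent_dvd_aux (hG : Nat.card G = 7920) {q : ℕ} (hq : q.Prime)
    (hyp : ∀ z : G, orderOf z = q → SCP.Hyp q z)
    {g : G} (hg : g ≠ 1) (hqg : ¬ q ∣ orderOf g) :
    Nat.Coprime q (Nat.card (Subgroup.centralizer ({g} : Set G))) := by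
  haveI : Fact q.Prime := ⟨hq⟩
  refine hq.coprime_iff_not_dvd.2 fun hd => ?_
  obtain ⟨z, hz⟩ := exists_prime_orderOf_dvd_card' q hd
  rw [← Subgroup.orderOf_coe] at hz
  have h := hyp _ hz
  have h1 := Subgroup.orderOf_dvd_natCard _
    (SCP.mem_P_of_comm h (Subgroup.mem_centralizer_singleton_iff.1 z.2).symm)
  rw [SCP.card_P h, Nat.dvd_prime hq] at h1
  rcases h1 with h1 | h1
  · exact hg (orderOf_eq_one_iff.1 h1)
  · exact hqg (h1 ▸ dvd_refl _)

theorem hyp_eleven (hG : Nat.card G = 7920) : ∀ z : G, orderOf z = 11 → SCP.Hyp 11 z := by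
  haveI : Fact (Nat.Prime 11) := ⟨by norm_num⟩
  obtain ⟨x, hx, -⟩ := exists_eleven hG
  exact fun z hz => SCP.hyp_of_ord hx hz

theorem hyp_five (hG : Nat.card G = 7920) : ∀ z : G, orderOf z = 5 → SCP.Hyp 5 z := by
  haveI : Fact (Nat.Prime 5) := ⟨by norm_num⟩
  obtain ⟨x, hx, -⟩ := exists_five hG
  exact fun z hz => SCP.hyp_of_ord hx hz

theorem cent_dvd (hG : Nat.card G = 7920) {g : G} (hg : g ≠ 1) (h5 : ¬ 5 ∣ orderOf g)
    (h11 : ¬ 11 ∣ orderOf g) : Nat.card (Subgroup.centralizer ({g} : Set G)) ∣ 144 := by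
  have c5 := cent_dvd_aux hG (by norm_num) (hyp_five hG) hg h5
  have c11 := cent_dvd_aux hG (by norm_num) (hyp_eleven hG) hg h11
  have hd : Nat.card (Subgroup.centralizer ({g} : Set G)) ∣ 144 * (5 * 11) := by
    have := Subgroup.card_subgroup_dvd_card (Subgroup.centralizer ({g} : Set G))
    rwa [hG] at this
  exact (Nat.Coprime.mul_right c5.symm c11.symm).dvd_of_dvd_mul_right hd

omit [IsSimpleGroup G] in
theorem pair_sum {x t : G} (hz : ∀ k : G, ¬ IsConj (t * (k * t * k⁻¹)) x) :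
    ∑ χ : IrrCharacter G, conj ((χ : G → ℂ) x) *
      ((χ : G → ℂ) t * (χ : G → ℂ) t / (χ : G → ℂ) 1) = 0 := by
  classical
  haveI := Fintype.ofFinite G
  have h : ∑ k : G, ∑ χ : IrrCharacter G,
      (χ : G → ℂ) (t * (k * t * k⁻¹)) * conj ((χ : G → ℂ) x) = 0 :=
    Finset.sum_eq_zero fun k _ => by rw [sum_irr_mul_conj, if_neg (hz k)]
  rw [Finset.sum_comm] at h
  have hN : (Nat.card G : ℂ) ≠ 0 := Nat.cast_ne_zero.mpr Nat.card_pos.ne'
  refine (mul_eq_zero.1 (Eq.trans ?_ h)).resolve_left hN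
  rw [Finset.mul_sum]
  refine Finset.sum_congr rfl fun χ _ => ?_
  rw [← Finset.sum_mul, sum_mul_conj]
  ring

/-- No product of two involutions has order eleven. -/
theorem no_pair_eleven (hG : Nat.card G = 7920) {x t : G} (hx : orderOf x = 11) (ht : orderOf t = 2)
    (k : G) : ¬ IsConj (t * (k * t * k⁻¹)) x := by
  intro hc
  haveI : Fact (Nat.Prime 11) := ⟨by norm_num⟩
  obtain ⟨x₀, hx₀, he₀⟩ := exists_eleven hG
  set z := t * (k * t * k⁻¹) with hzd
  obtain ⟨d, hd⟩ := isConj_iff.1 hc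
  have hz : orderOf z = 11 := by
    rw [← hx, ← hd]
    exact ((MulAut.conj d).orderOf_eq z).symm
  have h := SCP.hyp_of_ord hx₀ hz
  have htt : t⁻¹ = t := by
    rw [inv_eq_iff_mul_eq_one, ← sq, ← ht]
    exact pow_orderOf_eq_one t
  have hinv : t * z * t⁻¹ = z⁻¹ := by
    simp only [hzd, mul_inv_rev, inv_inv, htt, mul_assoc]
    rw [← mul_assoc t t, show t * t = 1 by rw [mul_eq_one_iff_eq_inv, htt], one_mul]
  have hN : t ∈ SCP.N z := SCP.mem_N_of_conj h (Subgroup.mem_zpowers z) (SCP.ne_one h)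
    (by rw [hinv]; exact inv_mem (Subgroup.mem_zpowers z))
  have h1 := Subgroup.orderOf_dvd_natCard _ hN
  have e1 := SCP.classes_mul_e h
  have e2 := SCP.classes_mul_e hx₀
  rw [he₀] at e2
  rw [show Nat.card {C : ConjClasses G // ∃ g ∈ C.carrier, orderOf g = 11} = 2 by omega] at e1
  rw [SCP.card_N h, show SCP.e z = 5 by omega, ht] at h1
  norm_num at h1

/-- The centralizer of an involution. -/
theorem involution_centralizer (hG : Nat.card G = 7920) {t : G} (ht : orderOf t = 2) :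
    Nat.card (Subgroup.centralizer ({t} : Set G)) = 48 := by
  classical
  have hna := not_comm hG
  obtain ⟨K⟩ := exists_tab' hG
  have ht1 : t ≠ 1 := fun e => by rw [e, orderOf_one] at ht; omega
  have ht2 : t ^ 2 = 1 := by rw [← ht]; exact pow_orderOf_eq_one t
  haveI : Fact (Nat.Prime 11) := ⟨by norm_num⟩
  haveI : Fact (Nat.Prime 2) := ⟨Nat.prime_two⟩
  obtain ⟨x, hx, -⟩ := exists_eleven hG
  obtain ⟨M, hM⟩ := exists_isPModular 2 Nat.prime_two
  have hy : ∀ χ : IrrCharacter G, dg χ = 16 → (χ : G → ℂ) t = 0 := fun χ hχ =>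
    defectZero_vanish hM χ (by
      rw [show charDegree (χ : G → ℂ) = 16 from hχ, hG, show (16 : ℕ) = 2 ^ 4 by norm_num,
        show (7920 : ℕ) = 2 ^ 4 * 495 by norm_num, Nat.factorization_mul (by norm_num) (by norm_num),
        Finsupp.add_apply, Nat.factorization_eq_zero_of_not_dvd (by norm_num : ¬ 2 ∣ 495), add_zero])
      (by rw [ht])
  have hbound : ∀ χ : IrrCharacter G, ∀ m : ℤ, (χ : G → ℂ) t = m → |m| ≤ (dg χ : ℤ) := by
    intro χ m hm
    have hb := OrdP.norm_value_le χ t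
    rw [hm, Complex.norm_intCast] at hb
    exact_mod_cast hb
  obtain ⟨a, ha, ha4⟩ := OrdP.involution_value hna K.a ht2
  obtain ⟨b, hb, hb4⟩ := OrdP.involution_value hna K.b ht2
  obtain ⟨c, hc, hc4⟩ := OrdP.involution_value hna K.c ht2
  obtain ⟨f, hf, hf4⟩ := OrdP.involution_value hna K.f ht2
  obtain ⟨u, hu, hu4⟩ := OrdP.involution_value hna K.u ht2
  obtain ⟨w, hw, -⟩ := OrdP.involution_value hna K.w ht2
  obtain ⟨v, hv, -⟩ := OrdP.involution_value hna K.v ht2
  have hy1 := hy K.y K.dy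
  have hy2 := hy K.y' K.dy'
  have r11 := (K.rel11 t (by rw [ht]; norm_num)).1
  have r5 := K.rel5 t (by rw [ht]; norm_num)
  have ro := orth_one K ht1
  rw [ha, hb, hc, hf, hy1] at r11
  rw [hy1, hy2, hu, hw] at r5
  rw [ha, hb, hc, hf, hy1, hy2, hu, hw, hv] at ro
  have e11 : -1 + a + b + c - f = 0 := by
    apply Int.cast_injective (α := ℂ); push_cast; linear_combination r11
  have e5 : 1 + u - w = 0 := by
    apply Int.cast_injective (α := ℂ); push_cast; linear_combination r5
  have eo : 1 + 10 * (a + b + c) + 45 * f + 11 * u + 44 * w + 55 * v = 0 := by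
    apply Int.cast_injective (α := ℂ); push_cast; linear_combination ro
  have hp := pair_sum (fun k => no_pair_eleven hG hx.ord ht k)
  obtain ⟨xa, xb, xc, xf, xu, xw, xv⟩ := K.eleven x hx.ord
  rw [K.hsum, show ((trivialIrr G : IrrCharacter G) : G → ℂ) x = 1 from rfl,
    show ((trivialIrr G : IrrCharacter G) : G → ℂ) t = 1 from rfl,
    ha, hb, hc, hf, hy1, hy2, xa, xb, xc, xf, xu, xw, xv] at hp
  simp only [value_one_nat, dg_trivial, K.da, K.db, K.dc, K.df, map_zero, map_neg, map_one,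
    zero_mul, zero_div, mul_zero, add_zero] at hp
  push_cast at hp
  have ep : 90 - 9 * (a * a + b * b + c * c) + 2 * (f * f) = 0 := by
    apply Int.cast_injective (α := ℂ); push_cast; linear_combination (90 : ℂ) * hp
  have hA := abs_le.1 (hbound _ a ha)
  have hB := abs_le.1 (hbound _ b hb)
  have hC := abs_le.1 (hbound _ c hc)
  rw [K.da] at hA
  rw [K.db] at hB
  rw [K.dc] at hC
  rw [show charDegree (K.a : G → ℂ) = 10 from K.da] at ha4
  rw [show charDegree (K.b : G → ℂ) = 10 from K.db] at hb4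
  rw [show charDegree (K.c : G → ℂ) = 10 from K.dc] at hc4
  rw [show charDegree (K.f : G → ℂ) = 45 from K.df] at hf4
  rw [show charDegree (K.u : G → ℂ) = 11 from K.du] at hu4
  have six : ∀ m : ℤ, (4 : ℤ) ∣ ((10 : ℕ) : ℤ) - m → -((10 : ℕ) : ℤ) ≤ m → m ≤ ((10 : ℕ) : ℤ) →
      m = -10 ∨ m = -6 ∨ m = -2 ∨ m = 2 ∨ m = 6 ∨ m = 10 := by
    intro m h h1 h2
    push_cast at h h1 h2
    omega
  obtain ⟨hfv, hQ, hS⟩ : f = -3 ∧ a * a + b * b + c * c = 12 ∧ a + b + c = -2 := by
    obtain rfl : f = a + b + c - 1 := by omega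
    rcases six a ha4 hA.1 hA.2 with rfl | rfl | rfl | rfl | rfl | rfl <;>
      rcases six b hb4 hB.1 hB.2 with rfl | rfl | rfl | rfl | rfl | rfl <;>
      rcases six c hc4 hC.1 hC.2 with rfl | rfl | rfl | rfl | rfl | rfl <;>
      first | omega | (norm_num at ep; done) | (norm_num at ep hf4)
  have hwv : w = 1 + u := by omega
  have hvv : v = 2 - u := by omega
  have hs := cent_sum K t
  rw [ha, hb, hc, hf, hy1, hy2, hu, hw, hv] at hs
  simp only [Complex.normSq_intCast, map_zero, add_zero] at hs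
  set n := Nat.card (Subgroup.centralizer ({t} : Set G)) with hn
  have hn' : (n : ℤ) = 27 + 3 * (u * u) - 2 * u := by
    have h1 : (n : ℤ) = 1 + a * a + b * b + c * c + f * f + u * u + w * w + v * v := by
      apply Int.cast_injective (α := ℝ); push_cast; linear_combination hs
    rw [h1, hfv, hwv, hvv]
    linear_combination hQ
  have hd : n ∣ 144 := cent_dvd hG ht1 (by rw [ht]; norm_num) (by rw [ht]; norm_num)
  have hle : n ≤ 144 := Nat.le_of_dvd (by norm_num) hd
  have hu1 : -7 ≤ u := by nlinarith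
  have hu2 : u ≤ 7 := by nlinarith
  push_cast at hu4
  interval_cases u <;> first
    | omega
    | (have h3 : n = 32 := by omega
       rw [h3] at hd; norm_num at hd)
    | (have h3 : n = 112 := by omega
       rw [h3] at hd; norm_num at hd)

omit [IsSimpleGroup G] in
/-- A value shared by all characters of the same degree is an integer. -/
theorem int_value (χ : IrrCharacter G) (g : G)
    (h : ∀ ψ : IrrCharacter G, dg ψ = dg χ → (ψ : G → ℂ) g = (χ : G → ℂ) g) :
    ∃ m : ℤ, (χ : G → ℂ) g = m := by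
  refine IsChar.exists_int_of_fixed (IsIrr.isCharacter χ.2) g fun k hk => ?_
  obtain ⟨k', hk', hmod⟩ := exists_coprime_lift (N := Nat.card G) Nat.card_pos
    (orderOf_dvd_natCard g) hk
  rw [← pow_eq_pow_iff_modEq.2 hmod]
  refine h ⟨fun y => (χ : G → ℂ) (y ^ k'), IsIrr.pow_map χ.2 hk'⟩ ?_
  apply Nat.cast_injective (R := ℂ)
  rw [← value_one_nat, ← value_one_nat]
  show (χ : G → ℂ) (1 ^ k') = _
  rw [one_pow]

/-- The column of a nontrivial 3-element. -/
theorem three_column (hG : Nat.card G = 7920) (K : Tab G) {x : G} (hx1 : x ≠ 1)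
    (hx : ∃ j : ℕ, orderOf x = 3 ^ j) (h9 : 9 ∣ Nat.card (Subgroup.centralizer ({x} : Set G))) :
    Nat.card (Subgroup.centralizer ({x} : Set G)) = 18 ∧
    (K.a : G → ℂ) x = 1 ∧ (K.b : G → ℂ) x = 1 ∧ (K.c : G → ℂ) x = 1 ∧ (K.f : G → ℂ) x = 0 ∧
    (K.y : G → ℂ) x = -2 ∧ (K.y' : G → ℂ) x = -2 ∧ (K.u : G → ℂ) x = 2 ∧
    (K.w : G → ℂ) x = -1 ∧ (K.v : G → ℂ) x = 1 := by
  classical
  obtain ⟨j, hj⟩ := hx
  haveI : Fact (Nat.Prime 3) := ⟨Nat.prime_three⟩
  obtain ⟨M, hM⟩ := exists_isPModular 3 Nat.prime_three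
  have h3x : 3 ∣ orderOf x := by
    rcases Nat.eq_zero_or_pos j with e | e
    · rw [e, pow_zero] at hj; exact absurd (orderOf_eq_one_iff.1 hj) hx1
    · exact hj ▸ dvd_pow_self 3 (by omega)
  have hn : ∀ q : ℕ, q.Prime → q ≠ 3 → ¬ q ∣ orderOf x := fun q hq hne hd => by
    rw [hj] at hd
    exact hne ((Nat.prime_dvd_prime_iff_eq hq Nat.prime_three).1 (hq.dvd_of_dvd_pow hd))
  have h5 := hn 5 (by norm_num) (by norm_num)
  have h11 := hn 11 (by norm_num) (by norm_num)
  have hf : (K.f : G → ℂ) x = 0 := defectZero_vanish hM K.f (by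
      rw [show charDegree (K.f : G → ℂ) = 45 from K.df, hG, show (45 : ℕ) = 3 ^ 2 * 5 by norm_num,
        show (7920 : ℕ) = 3 ^ 2 * 880 by norm_num, Nat.factorization_mul (by norm_num) (by norm_num),
        Nat.factorization_mul (by norm_num) (by norm_num), Finsupp.add_apply, Finsupp.add_apply,
        Nat.factorization_eq_zero_of_not_dvd (by norm_num : ¬ 3 ∣ 5),
        Nat.factorization_eq_zero_of_not_dvd (by norm_num : ¬ 3 ∣ 880)]) h3x
  obtain ⟨r11, hyy⟩ := K.rel11 x h11
  have r5 := K.rel5 x h5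
  have ro := orth_one K hx1
  obtain ⟨y, hy⟩ := int_value K.y x fun ψ hψ => by
    rw [K.dy] at hψ
    rcases K.mem ψ with e | e | e | e | e | e | e | e | e | e <;>
      simp only [e, dg_trivial, K.da, K.db, K.dc, K.df, K.du, K.dw, K.dv] at hψ ⊢ <;>
      first | omega | exact hyy
  have uniq : ∀ χ : IrrCharacter G, dg χ = 11 ∨ dg χ = 44 ∨ dg χ = 55 →
      ∀ ψ : IrrCharacter G, dg ψ = dg χ → ψ = χ := by
    intro χ hχ ψ hψ
    rcases K.mem χ with e | e | e | e | e | e | e | e | e | e <;>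
      rcases K.mem ψ with e' | e' | e' | e' | e' | e' | e' | e' | e' | e' <;>
      simp only [e, e', dg_trivial, K.da, K.db, K.dc, K.df, K.dy, K.dy', K.du, K.dw, K.dv] at hχ hψ ⊢ <;>
      omega
  obtain ⟨u, hu⟩ := int_value K.u x fun ψ hψ => by rw [uniq K.u (Or.inl K.du) ψ hψ]
  have hcong : ∀ (χ : IrrCharacter G) (m : ℤ), (χ : G → ℂ) x = m → (3 : ℤ) ∣ m - (dg χ : ℤ) := by
    intro χ m hm
    refine (intCast_mem_iff (p := 3) hM _).1 ?_
    have h := IsChar.sub_degree_mem (IsIrr.isCharacter χ.2) hM (g := x) ⟨j, hj⟩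
    convert h using 1
    apply Subtype.val_injective
    simp [hm, value_one_nat]
  have hy3 := hcong _ _ hy
  have hu3 := hcong _ _ hu
  rw [K.dy] at hy3
  rw [K.du] at hu3
  rw [hyy, hy, hu] at r5
  have hw : (K.w : G → ℂ) x = ((1 + 2 * y + u : ℤ) : ℂ) := by
    push_cast; linear_combination -r5
  rw [hf, hy] at r11
  rw [hf, hyy, hy, hu, hw] at ro
  have hS : (K.a : G → ℂ) x + (K.b : G → ℂ) x + (K.c : G → ℂ) x = ((1 - y : ℤ) : ℂ) := by
    push_cast; linear_combination r11
  have hv : (K.v : G → ℂ) x = ((-(1 + 2 * y + u) : ℤ) : ℂ) := by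
    rw [hS] at ro
    push_cast at ro ⊢
    linear_combination (1 / 55 : ℂ) * ro
  set n := Nat.card (Subgroup.centralizer ({x} : Set G)) with hnd
  have hn144 : n ∣ 144 := cent_dvd hG hx1 h5 h11
  have hidx := Subgroup.index_mul_card (Subgroup.centralizer ({x} : Set G))
  rw [hG, ← hnd] at hidx
  have hdvd := OrdP.index_dvd K.y hy
  rw [show charDegree (K.y : G → ℂ) = 16 from K.dy] at hdvd
  have hs := cent_sum K x
  rw [hf, hyy, hy, hu, hw, hv] at hs
  simp only [Complex.normSq_intCast, map_zero, add_zero] at hs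
  rw [← hnd] at hs
  set A := (K.a : G → ℂ) x
  set B := (K.b : G → ℂ) x
  set C := (K.c : G → ℂ) x
  have hSre : A.re + B.re + C.re = ((1 - y : ℤ) : ℝ) := by
    have h := congrArg Complex.re hS
    simpa using h
  simp only [Complex.normSq_apply] at hs
  push_cast at hs hSre
  have hineq : (3 + (1 - y) * (1 - y) + 6 * (y * y) + 3 * (u * u) +
      6 * ((1 + 2 * y + u) * (1 + 2 * y + u)) : ℤ) ≤ 3 * (n : ℤ) := by
    have h : ((3 + (1 - y) * (1 - y) + 6 * (y * y) + 3 * (u * u) +
      6 * ((1 + 2 * y + u) * (1 + 2 * y + u)) : ℤ) : ℝ) ≤ ((3 * (n : ℤ) : ℤ) : ℝ) := by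
      push_cast
      rw [← hSre]
      linarith only [hs, mul_self_nonneg (A.re - B.re), mul_self_nonneg (A.re - C.re),
        mul_self_nonneg (B.re - C.re), mul_self_nonneg A.im, mul_self_nonneg B.im, mul_self_nonneg C.im]
    exact_mod_cast h
  have hn5 : n = 9 ∨ n = 18 ∨ n = 36 ∨ n = 72 ∨ n = 144 := by
    obtain ⟨k, hk⟩ := h9
    have hk16 : k ∣ 16 := by
      have : 9 * k ∣ 9 * 16 := hk ▸ hn144
      exact Nat.dvd_of_mul_dvd_mul_left (by norm_num) this
    have : k ≤ 16 := Nat.le_of_dvd (by norm_num) hk16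
    interval_cases k <;> first | omega | norm_num at hk16
  have hn144' : n ≤ 144 := Nat.le_of_dvd (by norm_num) hn144
  have hy1 : -8 ≤ y := by nlinarith [mul_self_nonneg u, mul_self_nonneg (1 + 2 * y + u), mul_self_nonneg (1 - y)]
  have hy2 : y ≤ 8 := by nlinarith [mul_self_nonneg u, mul_self_nonneg (1 + 2 * y + u), mul_self_nonneg (1 - y)]
  have hu1 : -12 ≤ u := by nlinarith [mul_self_nonneg y, mul_self_nonneg (1 + 2 * y + u), mul_self_nonneg (1 - y)]
  have hu2 : u ≤ 12 := by nlinarith [mul_self_nonneg y, mul_self_nonneg (1 + 2 * y + u), mul_self_nonneg (1 - y)]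
  obtain ⟨hn18, rfl, rfl⟩ : n = 18 ∧ y = -2 ∧ u = 2 := by
    push_cast at hy3 hu3 hdvd
    rcases hn5 with e | e | e | e | e
    all_goals
      rw [e] at hidx hineq
      have hi : ((Subgroup.centralizer ({x} : Set G)).index : ℤ) * (n : ℤ) = 7920 := by
        rw [e]; exact_mod_cast hidx
      rw [e] at hi
      push_cast at hi hineq
      obtain ⟨i, hiv⟩ : ∃ i : ℤ, ((Subgroup.centralizer ({x} : Set G)).index : ℤ) = i := ⟨_, rfl⟩
      rw [hiv] at hi hdvd
      refine ⟨?_, ?_⟩ <;> clear hs hSre hn144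
      all_goals interval_cases y <;> first
        | omega
        | (interval_cases u <;> first | omega | (norm_num at hineq))
  push_cast at hs hSre
  rw [hn18] at hs
  norm_num at hs hSre
  have key : ∀ z : ℂ, (z.re - 1) * (z.re - 1) + z.im * z.im = 0 → z = 1 := by
    intro z hz
    have h1 : (z.re - 1) * (z.re - 1) = 0 := by
      linarith [mul_self_nonneg (z.re - 1), mul_self_nonneg z.im]
    have h2 : z.im * z.im = 0 := by
      linarith [mul_self_nonneg (z.re - 1), mul_self_nonneg z.im]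
    apply Complex.ext
    · have := mul_self_eq_zero.1 h1; simp; linarith
    · have := mul_self_eq_zero.1 h2; simpa using this
  refine ⟨hn18, key A ?_, key B ?_, key C ?_, hf, ?_, ?_, ?_, ?_, ?_⟩
  iterate 3
    linarith [mul_self_nonneg (A.re - 1), mul_self_nonneg (B.re - 1), mul_self_nonneg (C.re - 1),
      mul_self_nonneg A.im, mul_self_nonneg B.im, mul_self_nonneg C.im]
  · rw [hy]; norm_num
  · rw [hyy, hy]; norm_num
  · rw [hu]; norm_num
  · rw [hw]; norm_num
  · rw [hv]; norm_num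

/-- The Sylow 3-normalizers. -/
theorem sylow_three_normalizer (hG : Nat.card G = 7920) (P : Sylow 3 G) :
    Nat.card (Subgroup.normalizer ((P : Subgroup G) : Set G)) = 144 := by
  classical
  haveI : Fact (Nat.Prime 3) := ⟨Nat.prime_three⟩
  obtain ⟨K⟩ := exists_tab' hG
  have hP : Nat.card (P : Subgroup G) = 3 ^ 2 := by
    rw [P.card_eq_multiplicity, hG, show (7920 : ℕ) = 3 ^ 2 * 880 by norm_num,
      Nat.factorization_mul (by norm_num) (by norm_num), Finsupp.add_apply,
      Nat.Prime.factorization_pow Nat.prime_three, Finsupp.single_eq_same,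
      Nat.factorization_eq_zero_of_not_dvd (by norm_num : ¬ 3 ∣ 880)]
  haveI hPc : IsMulCommutative P := ⟨⟨fun a b => IsPGroup.commutative_of_card_eq_prime_sq hP a b⟩⟩
  have h9 : ∀ x ∈ (P : Subgroup G), 9 ∣ Nat.card (Subgroup.centralizer ({x} : Set G)) := by
    intro x hx
    have h := Subgroup.card_dvd_of_le (show (P : Subgroup G) ≤ Subgroup.centralizer {x} from
      fun a ha => Subgroup.mem_centralizer_singleton_iff.2 (congrArg Subtype.val
        (IsPGroup.commutative_of_card_eq_prime_sq hP (⟨a, ha⟩ : (P : Subgroup G)) ⟨x, hx⟩)))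
    rwa [hP] at h
  have hcol : ∀ x ∈ (P : Subgroup G), x ≠ 1 → _ := fun x hx hx1 => three_column hG K hx1 (by
    obtain ⟨j, hj⟩ := P.isPGroup' ⟨x, hx⟩
    obtain ⟨i, -, hi⟩ := (Nat.dvd_prime_pow Nat.prime_three).1
      (orderOf_dvd_of_pow_eq_one (congrArg Subtype.val hj : x ^ 3 ^ j = 1))
    exact ⟨i, hi⟩) (h9 x hx)
  obtain ⟨x₀, hx₀⟩ := exists_prime_orderOf_dvd_card' (G := (P : Subgroup G)) 3
    (by rw [hP]; exact dvd_pow_self 3 two_ne_zero)
  rw [← Subgroup.orderOf_coe] at hx₀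
  have hx1 : (x₀ : G) ≠ 1 := fun e => by rw [e, orderOf_one] at hx₀; omega
  set N := Subgroup.normalizer ((P : Subgroup G) : Set G) with hNd
  -- the normalizer is transitive on the nontrivial elements
  set N' := N.map (ConjAct.toConjAct : G ≃* ConjAct G).toMonoidHom with hN'
  have horb : MulAction.orbit N' (x₀ : G) = ((P : Subgroup G) : Set G) \ {1} := by
    ext z
    simp only [Set.mem_diff, Set.mem_singleton_iff, SetLike.mem_coe]
    constructor
    · rintro ⟨⟨-, n, hn, rfl⟩, rfl⟩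
      show ConjAct.toConjAct n • (x₀ : G) ∈ (P : Subgroup G) ∧ ¬ ConjAct.toConjAct n • (x₀ : G) = 1
      rw [ConjAct.smul_def, ConjAct.ofConjAct_toConjAct]
      refine ⟨(Subgroup.mem_normalizer_iff.1 hn _).1 x₀.2, fun e => hx1 ?_⟩
      simpa [mul_inv_eq_one] using e
    · rintro ⟨hz, hz1⟩
      obtain ⟨-, a1, b1, c1, f1, y1, y1', u1, w1, v1⟩ := hcol _ x₀.2 hx1
      obtain ⟨-, a2, b2, c2, f2, y2, y2', u2, w2, v2⟩ := hcol z hz hz1
      have hconj : IsConj (x₀ : G) z := (isConj_iff_irr _ _).2 fun χ => by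
        rcases K.mem χ with e | e | e | e | e | e | e | e | e | e <;> rw [e]
        · rfl
        all_goals simp only [a1, b1, c1, f1, y1, y1', u1, w1, v1, a2, b2, c2, f2, y2, y2', u2, w2, v2]
      obtain ⟨g, hg⟩ := isConj_iff.1 hconj
      obtain ⟨n, hn, hn'⟩ := Sylow.conj_eq_normalizer_conj_of_mem P (x₀ : G) g⁻¹ x₀.2
        (by rwa [inv_inv, hg])
      rw [inv_inv, hg] at hn'
      refine ⟨⟨ConjAct.toConjAct n⁻¹, n⁻¹, inv_mem hn, rfl⟩, ?_⟩
      show ConjAct.toConjAct n⁻¹ • (x₀ : G) = z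
      rw [ConjAct.smul_def, ConjAct.ofConjAct_toConjAct, inv_inv, ← hn']
  have hcardN : Nat.card N' = Nat.card N :=
    (Nat.card_congr (Subgroup.equivMapOfInjective N _
      (ConjAct.toConjAct : G ≃* ConjAct G).injective).toEquiv).symm
  have h8 : Nat.card (MulAction.orbit N' (x₀ : G)) = 8 := by
    rw [horb, Nat.card_coe_set_eq, Set.ncard_diff_singleton_of_mem (one_mem _),
      ← Nat.card_coe_set_eq]
    show Nat.card (P : Subgroup G) - 1 = 8
    rw [hP]; norm_num
  have hmul : 8 * Nat.card (MulAction.stabilizer N' (x₀ : G)) = Nat.card N := by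
    rw [← h8, ← Nat.card_prod, ← hcardN]
    exact Nat.card_congr (MulAction.orbitProdStabilizerEquivGroup N' (x₀ : G))
  have h18 := (hcol _ x₀.2 hx1).1
  have hstab : Nat.card (MulAction.stabilizer N' (x₀ : G)) ∣ 18 := by
    rw [← h18]
    refine Subgroup.card_dvd_of_injective
      ({ toFun := fun s => ⟨ConjAct.ofConjAct ((s : N') : ConjAct G), ?_⟩
         map_one' := Subtype.ext rfl
         map_mul' := fun s s' => Subtype.ext rfl } :
        MulAction.stabilizer N' (x₀ : G) →* Subgroup.centralizer ({(x₀ : G)} : Set G)) ?_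
    · rw [Subgroup.mem_centralizer_singleton_iff]
      have h : ((s : N') : ConjAct G) • (x₀ : G) = x₀ := s.2
      rw [ConjAct.smul_def] at h
      exact mul_inv_eq_iff_eq_mul.1 h
    · intro s s' h
      have h' := congrArg Subtype.val h
      exact Subtype.ext (Subtype.ext (ConjAct.ofConjAct.injective h'))
  have hPN : 3 ^ 2 ∣ Nat.card N := hP ▸ Subgroup.card_dvd_of_le Subgroup.le_normalizer
  have hn3 := Sylow.card_eq_index_normalizer P
  have hmod := card_sylow_modEq_one 3 G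
  have hidx := Subgroup.index_mul_card N
  rw [hG] at hidx
  rw [hn3, Nat.ModEq] at hmod
  change N.index % 3 = 1 % 3 at hmod
  set s := Nat.card (MulAction.stabilizer N' (x₀ : G))
  have hs18 : s ≤ 18 := Nat.le_of_dvd (by norm_num) hstab
  rw [← hmul] at hidx hPN ⊢
  have hs9 : s = 9 ∨ s = 18 := by
    interval_cases s <;> first | omega | (norm_num at hPN)
  rcases hs9 with e | e <;> rw [e] at hidx ⊢
  · omega

end Cfsg.Agent.Invol.M11Ord
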