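import Mathlib
import Cfsg.Agent.Lib.Invol.Order7920Local
import Cfsg.Agent.Lib.Block.SmallOrd.Middle
import Cfsg.Agent.Lib.Char.DefectOneValues

/-!
Simple groups of order 5616: the characters of the principal 13-block, the involutions, the elements
of order three commuting with an involution.
-/

set_option autoImplicit false
set_option linter.style.haveILetI false

namespace Cfsg.Agent.Invol.L33Ord

open scoped ComplexConjugate
open Cfsg Cfsg.Agent.Block Cfsg.Agent.Char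
open Cfsg.Agent.Invol.M11Ord (dg dg_trivial value_one_nat int_value hyp_of_sylow pair_sum)

universe u

variable {G : Type u} [Group G] [Finite G] [IsSimpleGroup G]

theorem not_comm (hG : Nat.card G = 5616) : ¬ IsMulCommutative G := fun h => by
  have h1 := card_prime_of_simple_of_comm (G := G) fun a b => h.1.1 a b
  rw [hG] at h1
  norm_num at h1

theorem exists_thirteen (hG : Nat.card G = 5616) : ∃ x : G, SCP.Hyp 13 x ∧ SCP.e x = 3 := by
  haveI : Fact (Nat.Prime 13) := ⟨by norm_num⟩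
  have hna := not_comm hG
  obtain ⟨P⟩ : Nonempty (Sylow 13 G) := inferInstance
  obtain ⟨e, c, hL, hP, he, -, -, hC, -⟩ := SmallOrd.configs hna (p := 13) (B := 420) hG
    [(27, 2, 8), (27, 4, 4), (144, 3, 1)] (by decide +kernel) P
  simp only [List.mem_cons, List.not_mem_nil, or_false, Prod.mk.injEq] at hL
  rcases hL with ⟨hn, rfl, rfl⟩ | ⟨hn, rfl, rfl⟩ | ⟨-, rfl, rfl⟩
  · exact (SmallOrd.false_of_two_orbits P hP (by rw [hn]) hC (by norm_num) (by norm_num)).elim
  · exact (SmallOrd.false_of_two_orbits P hP (by rw [hn]) hC (by norm_num) (by norm_num)).elim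
  · obtain ⟨x, hx, hxe⟩ := hyp_of_sylow P hP (by rw [hC])
    exact ⟨x, hx, hxe.trans he⟩

omit [IsSimpleGroup G] in
theorem sum_sq (hG : Nat.card G = 5616) :
    ∑ χ : IrrCharacter G, dg χ ^ 2 = 5616 := by
  apply Nat.cast_injective (R := ℂ)
  push_cast
  rw [show (5616 : ℂ) = (Nat.card G : ℂ) by rw [hG]; norm_num, ← sum_degree_sq (G := G)]
  refine Finset.sum_congr (by ext; simp) fun χ _ => ?_
  rw [charDeg_spec']

theorem deg_bounds (hG : Nat.card G = 5616) {χ : IrrCharacter G} (h : χ ≠ trivialIrr G) :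
    2 ≤ dg χ ∧ dg χ ∣ 5616 ∧ dg χ ≤ 74 := by
  classical
  refine ⟨OrdP.two_le_deg (not_comm hG) h, hG ▸ charDeg_dvd χ, ?_⟩
  have h1 := sum_sq (G := G) hG
  rw [← Finset.add_sum_erase _ _ (Finset.mem_univ χ)] at h1
  by_contra hgt
  have h2 : 75 ^ 2 ≤ dg χ ^ 2 := Nat.pow_le_pow_left (by omega) 2
  omega

/-- The characters of degree 12, 27 and 16 and the others. -/
structure Tab (G : Type u) [Group G] [Finite G] where
  a : IrrCharacter G
  b : IrrCharacter G
  Y : Finset (IrrCharacter G)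
  O : Finset (IrrCharacter G)
  da : dg a = 12
  db : dg b = 27
  dY : ∀ χ ∈ Y, dg χ = 16
  cY : Y.card = 4
  uniq_a : ∀ χ, dg χ = 12 → χ = a
  uniq_b : ∀ χ, dg χ = 27 → χ = b
  hsum : ∀ F : IrrCharacter G → ℂ, ∑ χ, F χ =
    F (trivialIrr G) + F a + F b + ∑ χ ∈ Y, F χ + ∑ χ ∈ O, F χ
  thirteen : ∀ g : G, orderOf g = 13 → (a : G → ℂ) g = -1 ∧ (b : G → ℂ) g = 1 ∧
    ∀ χ ∈ O, (χ : G → ℂ) g = 0
  rel : ∀ ψ ∈ Y, ∀ g : G, ¬ 13 ∣ orderOf g → (ψ : G → ℂ) g = 1 - (a : G → ℂ) g + (b : G → ℂ) g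

theorem exists_tab (hG : Nat.card G = 5616) : Nonempty (Tab G) := by
  classical
  haveI := Fintype.ofFinite G
  haveI : Fact (Nat.Prime 13) := ⟨by norm_num⟩
  obtain ⟨x, hx, hxe⟩ := exists_thirteen hG
  obtain ⟨X, Y, c, ε, hc⟩ := SCP.exists_chars hx
  rw [hxe] at hc
  have hY4 : Y.card = 4 := by have := hc.card_Y; omega
  have htY : trivialIrr G ∉ Y := fun h => by
    have h1 := hc.deg_Y _ h
    rw [show charDegree ((trivialIrr G : IrrCharacter G) : G → ℂ) = 1 from dg_trivial,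
      Int.ModEq] at h1
    rcases hc.ε_sign with e | e <;> rw [e] at h1 <;> norm_num at h1
  have htX : trivialIrr G ∈ X := (Finset.mem_union.1 hc.trivial_mem).resolve_right htY
  have hct : c (trivialIrr G) = -1 := by
    have h1 := hc.deg_X _ htX
    rw [show charDegree ((trivialIrr G : IrrCharacter G) : G → ℂ) = 1 from dg_trivial,
      Int.ModEq] at h1
    rcases hc.c_sign _ htX with e | e <;> rw [e] at h1 ⊢
    norm_num at h1
  have hkT : ∀ χ ∈ X, χ ≠ trivialIrr G →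
      (c χ = 1 ∧ dg χ = 12) ∨ (c χ = -1 ∧ dg χ = 27) := by
    intro χ hχX hne
    obtain ⟨h2, hdv, hle⟩ := deg_bounds hG hne
    have h1 := hc.deg_X χ hχX
    rw [Int.ModEq] at h1
    rcases hc.c_sign χ hχX with e | e <;> rw [e] at h1 ⊢
    · refine Or.inl ⟨rfl, ?_⟩
      obtain ⟨q, hq⟩ : ∃ q, dg χ = 13 * q + 12 := ⟨dg χ / 13, by unfold dg; omega⟩
      have hq7 : q ≤ 4 := by omega
      interval_cases q <;> first | omega | (rw [hq] at hdv; norm_num at hdv)
    · refine Or.inr ⟨rfl, ?_⟩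
      obtain ⟨q, hq⟩ : ∃ q, dg χ = 13 * q + 1 := ⟨dg χ / 13, by unfold dg; omega⟩
      have hq7 : q ≤ 5 := by omega
      interval_cases q <;> first | omega | (rw [hq] at hdv; norm_num at hdv)
  have hkY : ∀ χ ∈ Y, (ε = 1 ∧ (dg χ = 3 ∨ dg χ = 16)) ∨ (ε = -1 ∧ dg χ = 36) := by
    intro χ hχ
    obtain ⟨h2, hdv, hle⟩ := deg_bounds hG (χ := χ) fun e => htY (e ▸ hχ)
    have h1 := hc.deg_Y χ hχ
    rw [Int.ModEq] at h1
    rcases hc.ε_sign with e | e <;> rw [e] at h1 ⊢
    · refine Or.inl ⟨rfl, ?_⟩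
      obtain ⟨q, hq⟩ : ∃ q, dg χ = 13 * q + 3 := ⟨dg χ / 13, by unfold dg; omega⟩
      have hq7 : q ≤ 5 := by omega
      interval_cases q <;> first | omega | (rw [hq] at hdv; norm_num at hdv)
    · refine Or.inr ⟨rfl, ?_⟩
      obtain ⟨q, hq⟩ : ∃ q, dg χ = 13 * q + 10 := ⟨dg χ / 13, by unfold dg; omega⟩
      have hq7 : q ≤ 5 := by omega
      interval_cases q <;> first | omega | (rw [hq] at hdv; norm_num at hdv)
  obtain ⟨u, v, huv, he⟩ := Finset.card_eq_two.1 (show (X.erase (trivialIrr G)).card = 2 by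
    rw [Finset.card_erase_of_mem htX, hc.card_X])
  have huX : u ≠ trivialIrr G ∧ u ∈ X := Finset.mem_erase.1 (by rw [he]; simp)
  have hvX : v ≠ trivialIrr G ∧ v ∈ X := Finset.mem_erase.1 (by rw [he]; simp)
  have hone : ∀ ψ ∈ Y, -1 + c u * (dg u : ℤ) + c v * (dg v : ℤ) + ε * (dg ψ : ℤ) = 0 := by
    intro ψ hψ
    have h1 := hc.regular ψ hψ 1 (by rw [orderOf_one]; norm_num)
    rw [← Finset.add_sum_erase X _ htX, hct, he, Finset.sum_pair huv] at h1
    apply Int.cast_injective (α := ℂ)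
    push_cast
    rw [← h1]
    simp only [charDeg_spec', dg]
    rw [show charDegree ((trivialIrr G : IrrCharacter G) : G → ℂ) = 1 from dg_trivial]
    push_cast
    ring
  obtain ⟨ψ₀, hψ₀⟩ : Y.Nonempty := Finset.card_pos.1 (by omega)
  obtain ⟨a, b, haX, hbX, hca, hda, hcb, hdb, heab⟩ : ∃ a b : IrrCharacter G, a ∈ X ∧ b ∈ X ∧
      c a = 1 ∧ dg a = 12 ∧ c b = -1 ∧ dg b = 27 ∧ X.erase (trivialIrr G) = {a, b} := by
    have h0 := hone ψ₀ hψ₀
    rcases hkT u huX.2 huX.1 with ⟨cu, du⟩ | ⟨cu, du⟩ <;>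
      rcases hkT v hvX.2 hvX.1 with ⟨cv, dv⟩ | ⟨cv, dv⟩ <;> rw [cu, du, cv, dv] at h0
    · rcases hkY ψ₀ hψ₀ with ⟨e, d | d⟩ | ⟨e, d⟩ <;> rw [e, d] at h0 <;> norm_num at h0
    · exact ⟨u, v, huX.2, hvX.2, cu, du, cv, dv, he⟩
    · exact ⟨v, u, hvX.2, huX.2, cv, dv, cu, du, by rw [he, Finset.pair_comm]⟩
    · rcases hkY ψ₀ hψ₀ with ⟨e, d | d⟩ | ⟨e, d⟩ <;> rw [e, d] at h0 <;> norm_num at h0
  have hab : a ≠ b := fun e => by rw [e] at hda; omega
  have hat : a ≠ trivialIrr G := fun e => by rw [e, dg_trivial] at hda; omega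
  have hbt : b ≠ trivialIrr G := fun e => by rw [e, dg_trivial] at hdb; omega
  have hεd : ε = 1 ∧ ∀ ψ ∈ Y, dg ψ = 16 := by
    have key : ∀ ψ ∈ Y, ε = 1 ∧ dg ψ = 16 := by
      intro ψ hψ
      have h1 := hc.regular ψ hψ 1 (by rw [orderOf_one]; norm_num)
      rw [← Finset.add_sum_erase X _ htX, hct, heab, Finset.sum_pair hab, hca, hcb] at h1
      simp only [charDeg_spec'] at h1
      rw [show charDegree ((trivialIrr G : IrrCharacter G) : G → ℂ) = 1 from dg_trivial,
        show charDegree (a : G → ℂ) = 12 from hda, show charDegree (b : G → ℂ) = 27 from hdb] at h1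
      rcases hkY ψ hψ with ⟨e, d | d⟩ | ⟨e, d⟩ <;>
        rw [e, show charDegree (ψ : G → ℂ) = _ from d] at h1
      · norm_num at h1
      · exact ⟨e, d⟩
      · norm_num at h1
    exact ⟨(key ψ₀ hψ₀).1, fun ψ hψ => (key ψ hψ).2⟩
  obtain ⟨hε, hdY⟩ := hεd
  have hXeq : X = {trivialIrr G, a, b} := by rw [← Finset.insert_erase htX, heab]
  have huniq : ∀ (χ : IrrCharacter G) (d : ℕ), dg χ = d → ¬ 13 ∣ d → d ≠ 1 → d ≠ 16 →
      χ = a ∨ χ = b := by
    intro χ d hd h13 h1 h16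
    by_cases hm : χ ∈ X ∪ Y
    · rcases Finset.mem_union.1 hm with h | h
      · rw [hXeq, Finset.mem_insert, Finset.mem_insert, Finset.mem_singleton] at h
        rcases h with rfl | h | h
        · exact absurd (hd.symm.trans dg_trivial) h1
        exacts [Or.inl h, Or.inr h]
      · exact absurd (hd.symm.trans (hdY χ h)) h16
    · exact absurd (hd ▸ hc.dvd_deg χ hm) h13
  refine ⟨⟨a, b, Y, (X ∪ Y)ᶜ, hda, hdb, hdY, hY4, ?_, ?_, ?_, ?_, ?_⟩⟩
  · intro χ hχ
    rcases huniq χ 12 hχ (by norm_num) (by norm_num) (by norm_num) with h | h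
    · exact h
    · rw [h, hdb] at hχ; omega
  · intro χ hχ
    rcases huniq χ 27 hχ (by norm_num) (by norm_num) (by norm_num) with h | h
    · rw [h, hda] at hχ; omega
    · exact h
  · intro F
    rw [← Finset.sum_add_sum_compl (X ∪ Y), Finset.sum_union hc.disj, hXeq,
      Finset.sum_insert (by simp [hat.symm, hbt.symm]), Finset.sum_pair hab]
    ring
  · intro g hg
    refine ⟨?_, ?_, fun χ hχ => hc.vanish χ (Finset.mem_compl.1 hχ) g hg⟩
    · rw [hc.value a haX g hg, hca]; norm_num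
    · rw [hc.value b hbX g hg, hcb]; norm_num
  · intro ψ hψ g hg
    have h1 := hc.regular ψ hψ g hg
    rw [← Finset.add_sum_erase X _ htX, hct, heab, Finset.sum_pair hab, hca, hcb, hε,
      show ((trivialIrr G : IrrCharacter G) : G → ℂ) g = 1 from rfl] at h1
    push_cast at h1
    linear_combination h1

omit [IsSimpleGroup G] in
/-- The two small characters have rational integral values. -/
theorem int_values (K : Tab G) (g : G) :
    ∃ m n : ℤ, (K.a : G → ℂ) g = m ∧ (K.b : G → ℂ) g = n := by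
  obtain ⟨m, hm⟩ := int_value K.a g fun ψ hψ => by rw [K.uniq_a ψ (hψ.trans K.da)]
  obtain ⟨n, hn⟩ := int_value K.b g fun ψ hψ => by rw [K.uniq_b ψ (hψ.trans K.db)]
  exact ⟨m, n, hm, hn⟩

omit [IsSimpleGroup G] in
/-- The sum of the exceptional values at an element of order thirteen. -/
theorem sum_Y_thirteen (K : Tab G) {x : G} (hx : orderOf x = 13) :
    ∑ χ ∈ K.Y, conj ((χ : G → ℂ) x) = -1 := by
  classical
  have hx1 : x ≠ 1 := fun e => by rw [e, orderOf_one] at hx; omega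
  have h := sum_irr_mul_conj (1 : G) x
  rw [if_neg (fun hc => hx1 (isConj_one_right.1 hc)), K.hsum] at h
  obtain ⟨xa, xb, xo⟩ := K.thirteen x hx
  rw [show ((trivialIrr G : IrrCharacter G) : G → ℂ) x = 1 from rfl, xa, xb,
    Finset.sum_eq_zero (s := K.O) fun χ hχ => by rw [xo χ hχ, map_zero, mul_zero]] at h
  simp only [value_one_nat, dg_trivial, K.da, K.db, map_neg, map_one] at h
  have hsY : ∑ χ ∈ K.Y, (dg χ : ℂ) * conj ((χ : G → ℂ) x) = 16 * ∑ χ ∈ K.Y, conj ((χ : G → ℂ) x) := by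
    rw [Finset.mul_sum]
    exact Finset.sum_congr rfl fun χ hχ => by rw [K.dY χ hχ]; norm_num
  rw [hsY] at h
  push_cast at h
  linear_combination (1 / 16 : ℂ) * h

omit [IsSimpleGroup G] in
/-- The column sum of the product of a class with another, at an element of order thirteen. -/
theorem pair_eval (K : Tab G) {x g h : G} (hx : orderOf x = 13) {η : ℂ}
    (hηg : ∀ χ ∈ K.Y, (χ : G → ℂ) g * (χ : G → ℂ) h = η) :
    ∑ χ : IrrCharacter G, conj ((χ : G → ℂ) x) * ((χ : G → ℂ) g * (χ : G → ℂ) h / (χ : G → ℂ) 1) =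
      1 - (K.a : G → ℂ) g * (K.a : G → ℂ) h / 12 + (K.b : G → ℂ) g * (K.b : G → ℂ) h / 27 - η / 16 := by
  rw [K.hsum]
  obtain ⟨xa, xb, xo⟩ := K.thirteen x hx
  rw [Finset.sum_eq_zero (s := K.O) fun χ hχ => by rw [xo χ hχ, map_zero, zero_mul], add_zero,
    show ∑ χ ∈ K.Y, conj ((χ : G → ℂ) x) * ((χ : G → ℂ) g * (χ : G → ℂ) h / (χ : G → ℂ) 1) =
      (∑ χ ∈ K.Y, conj ((χ : G → ℂ) x)) * (η / 16) by
        rw [Finset.sum_mul]
        exact Finset.sum_congr rfl fun χ hχ => by rw [hηg χ hχ, value_one_nat, K.dY χ hχ]; norm_num,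
    sum_Y_thirteen K hx, xa, xb]
  simp only [value_one_nat, dg_trivial, K.da, K.db,
    show ∀ y : G, ((trivialIrr G : IrrCharacter G) : G → ℂ) y = 1 from fun _ => rfl, map_neg, map_one]
  push_cast
  ring

omit [IsSimpleGroup G] in
/-- The number of solutions is a natural number. -/
theorem pair_nonneg (x g h : G) :
    ∃ N : ℕ, (Nat.card G : ℂ) * (∑ χ : IrrCharacter G,
      conj ((χ : G → ℂ) x) * ((χ : G → ℂ) g * (χ : G → ℂ) h / (χ : G → ℂ) 1)) = N := by
  classical
  haveI := Fintype.ofFinite G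
  have hterm : ∀ k : G, ∃ N : ℕ, ∑ χ : IrrCharacter G,
      (χ : G → ℂ) (g * (k * h * k⁻¹)) * conj ((χ : G → ℂ) x) = N := fun k => by
    rw [sum_irr_mul_conj]
    split_ifs
    exacts [⟨_, rfl⟩, ⟨0, Nat.cast_zero.symm⟩]
  choose N hN using hterm
  refine ⟨∑ k : G, N k, ?_⟩
  push_cast
  simp only [← hN]
  rw [Finset.sum_comm, Finset.mul_sum]
  refine Finset.sum_congr rfl fun χ _ => ?_
  rw [← Finset.sum_mul, sum_mul_conj]
  ring

/-- No product of two conjugate involutions has order thirteen. -/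
theorem no_pair_thirteen (hG : Nat.card G = 5616) {x t : G} (hx : orderOf x = 13) (ht : orderOf t = 2)
    (k : G) : ¬ IsConj (t * (k * t * k⁻¹)) x := by
  intro hc
  haveI : Fact (Nat.Prime 13) := ⟨by norm_num⟩
  obtain ⟨x₀, hx₀, he₀⟩ := exists_thirteen hG
  set z := t * (k * t * k⁻¹) with hzd
  obtain ⟨d, hd⟩ := isConj_iff.1 hc
  have hz : orderOf z = 13 := by
    rw [← hx, ← hd]
    exact ((MulAut.conj d).orderOf_eq z).symm
  have h := SCP.hyp_of_ord hx₀ hz
  have htt : t⁻¹ = t := by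
    rw [inv_eq_iff_mul_eq_one, ← sq, ← ht]
    exact pow_orderOf_eq_one t
  have hinv : t * z * t⁻¹ = z⁻¹ := by
    simp only [hzd, mul_inv_rev, inv_inv, htt, mul_assoc]
    rw [← mul_assoc t t, show t * t = 1 by rw [mul_eq_one_iff_eq_inv, htt], one_mul]
  have hN : t ∈ SCP.N z := SCP.mem_N_of_conj h (Subgroup.mem_zpowers z) (SCP.ne_one h)
    (by rw [hinv]; exact inv_mem (Subgroup.mem_zpowers z))
  have h1 := Subgroup.orderOf_dvd_natCard _ hN
  have e1 := SCP.classes_mul_e h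
  have e2 := SCP.classes_mul_e hx₀
  rw [he₀] at e2
  rw [show Nat.card {C : ConjClasses G // ∃ g ∈ C.carrier, orderOf g = 13} = 4 by omega] at e1
  rw [SCP.card_N h, show SCP.e z = 3 by omega, ht] at h1
  norm_num at h1

theorem cent_coprime_thirteen (hG : Nat.card G = 5616) {g : G} (hg : g ≠ 1) (h13 : ¬ 13 ∣ orderOf g) :
    Nat.card (Subgroup.centralizer ({g} : Set G)) ∣ 432 := by
  haveI : Fact (Nat.Prime 13) := ⟨by norm_num⟩
  obtain ⟨x₀, hx₀, -⟩ := exists_thirteen hG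
  have hc : Nat.Coprime 13 (Nat.card (Subgroup.centralizer ({g} : Set G))) := by
    refine (Nat.Prime.coprime_iff_not_dvd (by norm_num)).2 fun hd => ?_
    obtain ⟨z, hz⟩ := exists_prime_orderOf_dvd_card' 13 hd
    rw [← Subgroup.orderOf_coe] at hz
    have h := SCP.hyp_of_ord hx₀ hz
    have h1 := Subgroup.orderOf_dvd_natCard _
      (SCP.mem_P_of_comm h (Subgroup.mem_centralizer_singleton_iff.1 z.2).symm)
    rw [SCP.card_P h, Nat.dvd_prime (by norm_num)] at h1
    rcases h1 with h1 | h1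
    · exact hg (orderOf_eq_one_iff.1 h1)
    · exact h13 (h1 ▸ dvd_refl _)
  refine (Nat.Coprime.dvd_of_dvd_mul_left hc.symm (?_ : _ ∣ 13 * 432))
  have := Subgroup.card_subgroup_dvd_card (Subgroup.centralizer ({g} : Set G))
  rwa [hG] at this

omit [IsSimpleGroup G] in
/-- The squares of the values of the characters outside the principal block. -/
theorem cent_sum (K : Tab G) (g : G) :
    (Nat.card (Subgroup.centralizer ({g} : Set G)) : ℂ) = 1 + (K.a : G → ℂ) g * conj ((K.a : G → ℂ) g) +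
      (K.b : G → ℂ) g * conj ((K.b : G → ℂ) g) + ∑ χ ∈ K.Y, (χ : G → ℂ) g * conj ((χ : G → ℂ) g) +
      ∑ χ ∈ K.O, (χ : G → ℂ) g * conj ((χ : G → ℂ) g) := by
  classical
  have h := sum_irr_mul_conj g g
  rw [if_pos (IsConj.refl g), K.hsum, show ((trivialIrr G : IrrCharacter G) : G → ℂ) g = 1 from rfl,
    map_one, mul_one] at h
  exact h.symm

/-- The involutions: values, centralizers. -/
theorem involution (hG : Nat.card G = 5616) (K : Tab G) {t : G} (ht : orderOf t = 2) :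
    (K.a : G → ℂ) t = 4 ∧ (K.b : G → ℂ) t = 3 ∧ (∀ ψ ∈ K.Y, (ψ : G → ℂ) t = 0) ∧
      Nat.card (Subgroup.centralizer ({t} : Set G)) = 48 := by
  classical
  have hna := not_comm hG
  have ht1 : t ≠ 1 := fun e => by rw [e, orderOf_one] at ht; omega
  have ht2 : t ^ 2 = 1 := by rw [← ht]; exact pow_orderOf_eq_one t
  have h13 : ¬ 13 ∣ orderOf t := by rw [ht]; norm_num
  haveI : Fact (Nat.Prime 2) := ⟨Nat.prime_two⟩
  haveI : Fact (Nat.Prime 13) := ⟨by norm_num⟩
  obtain ⟨x, hx⟩ := exists_prime_orderOf_dvd_card' (G := G) 13 (by rw [hG]; norm_num)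
  obtain ⟨M, hM⟩ := exists_isPModular 2 Nat.prime_two
  have hY : ∀ ψ ∈ K.Y, (ψ : G → ℂ) t = 0 := fun ψ hψ =>
    defectZero_vanish hM ψ (by
      rw [show charDegree (ψ : G → ℂ) = 16 from K.dY ψ hψ, hG, show (16 : ℕ) = 2 ^ 4 by norm_num,
        show (5616 : ℕ) = 2 ^ 4 * 351 by norm_num, Nat.factorization_mul (by norm_num) (by norm_num),
        Finsupp.add_apply, Nat.factorization_eq_zero_of_not_dvd (by norm_num : ¬ 2 ∣ 351), add_zero])
      (by rw [ht])
  obtain ⟨a, b, ha, hb⟩ := int_values K t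
  obtain ⟨ψ, hψ⟩ : K.Y.Nonempty := Finset.card_pos.1 (by rw [K.cY]; norm_num)
  have hr := K.rel ψ hψ t h13
  rw [hY ψ hψ, ha, hb] at hr
  have e1 : a = 1 + b := by
    apply Int.cast_injective (α := ℂ); push_cast; linear_combination hr
  have hp := pair_sum (x := x) (t := t) (fun k => no_pair_thirteen hG hx ht k)
  rw [pair_eval K hx (η := 0) (fun χ hχ => by rw [hY χ hχ, mul_zero]), ha, hb] at hp
  have e2 : 324 - 27 * (a * a) + 12 * (b * b) = 0 := by
    apply Int.cast_injective (α := ℂ); push_cast; linear_combination (324 : ℂ) * hp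
  have eb : b = 3 := by
    subst e1
    have hl : -7 ≤ b := by nlinarith
    have hu : b ≤ 4 := by nlinarith
    interval_cases b <;> first | rfl | (norm_num at e2)
  have ea : a = 4 := by omega
  subst eb ea
  refine ⟨by rw [ha]; norm_num, by rw [hb]; norm_num, hY, ?_⟩
  set n := Nat.card (Subgroup.centralizer ({t} : Set G)) with hn
  have hge : 26 ≤ n := by
    have h := cent_sum K t
    rw [ha, hb, Finset.sum_eq_zero (s := K.Y) fun χ hχ => by rw [hY χ hχ, zero_mul], ← hn] at h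
    have hO : 0 ≤ ∑ χ ∈ K.O, Complex.normSq ((χ : G → ℂ) t) :=
      Finset.sum_nonneg fun χ _ => Complex.normSq_nonneg _
    have h' : (n : ℝ) = 26 + ∑ χ ∈ K.O, Complex.normSq ((χ : G → ℂ) t) := by
      apply Complex.ofReal_injective
      push_cast
      rw [h, show ∑ χ ∈ K.O, (χ : G → ℂ) t * conj ((χ : G → ℂ) t) =
        ∑ χ ∈ K.O, ((Complex.normSq ((χ : G → ℂ) t) : ℝ) : ℂ) from
        Finset.sum_congr rfl fun χ _ => Complex.mul_conj ((χ : G → ℂ) t)]
      simp only [map_intCast]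
      push_cast
      ring
    exact_mod_cast (by linarith : (26 : ℝ) ≤ (n : ℝ))
  have hd : n ∣ 432 := cent_coprime_thirteen hG ht1 h13
  have hi := OrdP.index_dvd K.b hb
  rw [show charDegree (K.b : G → ℂ) = 27 from K.db] at hi
  have hm := Subgroup.card_mul_index (Subgroup.centralizer ({t} : Set G))
  rw [hG, ← hn] at hm
  obtain ⟨j, hj⟩ := hi
  push_cast at hj
  obtain ⟨i, hi9⟩ : 9 ∣ (Subgroup.centralizer ({t} : Set G)).index := by
    have : (9 : ℤ) ∣ ((Subgroup.centralizer ({t} : Set G)).index : ℤ) := ⟨j, by omega⟩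
    exact_mod_cast this
  rw [hi9] at hm
  have h624 : n ∣ 624 := ⟨i, by nlinarith⟩
  have h48 : n ∣ 48 := by have := Nat.dvd_gcd hd h624; norm_num at this; exact this
  have := Nat.le_of_dvd (by norm_num) h48
  interval_cases n <;> first | rfl | (norm_num at h48)

/-- The involutions are conjugate. -/
theorem involution_conj (hG : Nat.card G = 5616) (K : Tab G) {t t' : G} (ht : orderOf t = 2)
    (ht' : orderOf t' = 2) : IsConj t t' := by
  classical
  by_contra hne
  obtain ⟨ha, hb, hY, hc⟩ := involution hG K ht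
  obtain ⟨ha', hb', hY', hc'⟩ := involution hG K ht'
  have h := sum_irr_mul_conj t t'
  rw [if_neg hne, K.hsum, Finset.sum_eq_zero (s := K.Y) fun χ hχ => by rw [hY χ hχ, zero_mul],
    show ((trivialIrr G : IrrCharacter G) : G → ℂ) t = 1 from rfl,
    show ((trivialIrr G : IrrCharacter G) : G → ℂ) t' = 1 from rfl, ha, hb, ha', hb'] at h
  simp only [map_one, map_ofNat, mul_one, add_zero] at h
  have s1 := cent_sum K t
  have s2 := cent_sum K t'
  rw [hc, ha, hb, Finset.sum_eq_zero (s := K.Y) fun χ hχ => by rw [hY χ hχ, zero_mul]] at s1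
  rw [hc', ha', hb', Finset.sum_eq_zero (s := K.Y) fun χ hχ => by rw [hY' χ hχ, zero_mul]] at s2
  simp only [map_ofNat, add_zero, Nat.cast_ofNat] at s1 s2
  have hreal : ∀ χ : IrrCharacter G, ∀ s : G, orderOf s = 2 → conj ((χ : G → ℂ) s) = (χ : G → ℂ) s :=
    fun χ s hs => by
      obtain ⟨m, hm, -⟩ := OrdP.involution_value (not_comm hG) χ
        (show s ^ 2 = 1 by rw [← hs]; exact pow_orderOf_eq_one s)
      rw [hm, map_intCast]
  have hs0 : 0 ≤ ∑ χ ∈ K.O, Complex.normSq ((χ : G → ℂ) t + (χ : G → ℂ) t') :=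
    Finset.sum_nonneg fun χ _ => Complex.normSq_nonneg _
  have hs : ∑ χ ∈ K.O, Complex.normSq ((χ : G → ℂ) t + (χ : G → ℂ) t') = (-8 : ℝ) := by
    apply Complex.ofReal_injective
    push_cast
    rw [show ∑ χ ∈ K.O, ((Complex.normSq ((χ : G → ℂ) t + (χ : G → ℂ) t') : ℝ) : ℂ) =
      ∑ χ ∈ K.O, ((χ : G → ℂ) t * conj ((χ : G → ℂ) t) + (χ : G → ℂ) t' * conj ((χ : G → ℂ) t') +
        2 * ((χ : G → ℂ) t * conj ((χ : G → ℂ) t'))) from Finset.sum_congr rfl fun χ _ => by
        rw [← Complex.mul_conj, map_add, hreal χ t ht, hreal χ t' ht']; ring,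
      Finset.sum_add_distrib, Finset.sum_add_distrib, ← Finset.mul_sum]
    linear_combination 2 * h - s1 - s2
  linarith

/-- Four does not divide the order of the centralizer of an element of order three. -/
theorem three_centralizer (hG : Nat.card G = 5616) (K : Tab G) {y : G} (hy : orderOf y = 3) :
    ¬ 4 ∣ Nat.card (Subgroup.centralizer ({y} : Set G)) := by
  classical
  haveI := Fintype.ofFinite G
  intro h4
  haveI : Fact (Nat.Prime 3) := ⟨Nat.prime_three⟩
  haveI : Fact (Nat.Prime 13) := ⟨by norm_num⟩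
  obtain ⟨x, hx⟩ := exists_prime_orderOf_dvd_card' (G := G) 13 (by rw [hG]; norm_num)
  obtain ⟨M, hM⟩ := exists_isPModular 3 Nat.prime_three
  have h13 : ∀ s : G, orderOf s = 3 → ¬ 13 ∣ orderOf s := fun s hs => by rw [hs]; norm_num
  have hb0 : ∀ s : G, orderOf s = 3 → (K.b : G → ℂ) s = 0 := fun s hs =>
    defectZero_vanish hM K.b (by
      rw [show charDegree (K.b : G → ℂ) = 27 from K.db, hG, show (27 : ℕ) = 3 ^ 3 by norm_num,
        show (5616 : ℕ) = 3 ^ 3 * 208 by norm_num, Nat.factorization_mul (by norm_num) (by norm_num),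
        Finsupp.add_apply, Nat.factorization_eq_zero_of_not_dvd (by norm_num : ¬ 3 ∣ 208), add_zero])
      (by rw [hs])
  have hy' : orderOf y⁻¹ = 3 := by rw [orderOf_inv, hy]
  obtain ⟨a, -, ha, -⟩ := int_values K y
  have ha' : (K.a : G → ℂ) y⁻¹ = a := by rw [IsIrr.apply_inv K.a.2, ha, map_intCast]
  have hη : ∀ s : G, orderOf s = 3 → (K.a : G → ℂ) s = a → ∀ χ ∈ K.Y, (χ : G → ℂ) s = 1 - (a : ℂ) :=
    fun s hs hsa χ hχ => by rw [K.rel χ hχ s (h13 s hs), hb0 s hs, hsa, add_zero]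
  obtain ⟨N, hN⟩ := pair_nonneg (G := G) x y y⁻¹
  rw [pair_eval K hx (η := (1 - (a : ℂ)) * (1 - (a : ℂ)))
    (fun χ hχ => by rw [hη y hy ha χ hχ, hη y⁻¹ hy' ha' χ hχ]), ha, ha', hb0 y hy, hG] at hN
  have hineq : 0 ≤ 48 - 4 * (a * a) - 3 * ((1 - a) * (1 - a)) := by
    have h1 : ((N : ℤ) : ℂ) = ((117 * (48 - 4 * (a * a) - 3 * ((1 - a) * (1 - a))) : ℤ) : ℂ) := by
      push_cast
      rw [← hN]
      push_cast
      ring
    have h2 := Int.cast_injective (α := ℂ) h1
    omega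
  have hmod := DefectOne.degree_congr hM K.a (x := y) (z := a) (by rw [← hy, pow_orderOf_eq_one])
    (by rw [ha, sub_self]; exact ideal_zero hM)
  rw [show charDegree (K.a : G → ℂ) = 12 from K.da, Int.ModEq] at hmod
  have h03 : a = 0 ∨ a = 3 := by
    have : -3 ≤ a := by nlinarith
    have : a ≤ 4 := by nlinarith
    interval_cases a <;> first | (left; rfl) | (right; rfl) | omega
  obtain ⟨ψ, hψ⟩ : K.Y.Nonempty := Finset.card_pos.1 (by rw [K.cY]; norm_num)
  have hi := OrdP.index_dvd ψ (g := y) (z := 1 - a) (by rw [hη y hy ha ψ hψ]; push_cast; ring)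
  rw [show charDegree (ψ : G → ℂ) = 16 from K.dY ψ hψ] at hi
  obtain ⟨j, hj⟩ := hi
  push_cast at hj
  have h8 : 8 ∣ (Subgroup.centralizer ({y} : Set G)).index := by
    have : (8 : ℤ) ∣ ((Subgroup.centralizer ({y} : Set G)).index : ℤ) := by
      rcases h03 with rfl | rfl
      · exact ⟨2 * j, by omega⟩
      · exact ⟨-j, by omega⟩
    exact_mod_cast this
  have hm := Subgroup.card_mul_index (Subgroup.centralizer ({y} : Set G))
  rw [hG] at hm
  have := Nat.mul_dvd_mul h4 h8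
  rw [hm] at this
  norm_num at this

end Cfsg.Agent.Invol.L33Ord
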