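import Mathlib
import Cfsg.Agent.Lib.Char.Induce
import Cfsg.Agent.Lib.Char.StarWeights

/-!
Five generalized characters of `GL(2,3)` supported on the roots of the central involution.
-/

set_option autoImplicit false
set_option maxRecDepth 100000

namespace Cfsg.Agent.Invol.GL23

open scoped ComplexConjugate
open Cfsg Cfsg.Agent.Char Cfsg.Agent.Block Matrix

/-- The group. -/
abbrev Q : Type := GL (Fin 2) (ZMod 3)

/-- Matrices as quadruples. -/
abbrev V : Type := ZMod 3 × ZMod 3 × ZMod 3 × ZMod 3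

/-- Determinant. -/
def dv : V → ZMod 3
  | (a, b, c, d) => a * d - b * c

/-- Product. -/
def mv : V → V → V
  | (a, b, c, d), (a', b', c', d') =>
    (a * a' + b * c', a * b' + b * d', c * a' + d * c', c * b' + d * d')

/-- The identity. -/
def ov : V := (1, 0, 0, 1)

/-- Inverse. -/
def iv : V → V
  | (a, b, c, d) => (dv (a, b, c, d) * d, -(dv (a, b, c, d) * b), -(dv (a, b, c, d) * c),
      dv (a, b, c, d) * a)

/-- The quadruple of a matrix. -/
def toV (g : Q) : V :=
  ((g : Matrix (Fin 2) (Fin 2) (ZMod 3)) 0 0, (g : Matrix (Fin 2) (Fin 2) (ZMod 3)) 0 1,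
    (g : Matrix (Fin 2) (Fin 2) (ZMod 3)) 1 0, (g : Matrix (Fin 2) (Fin 2) (ZMod 3)) 1 1)

theorem toV_injective : Function.Injective toV := fun g h e => by
  simp only [toV, Prod.mk.injEq] at e
  exact Units.ext (by ext i j; fin_cases i <;> fin_cases j <;> simp [e])

theorem toV_one : toV 1 = ov := by simp [toV, ov]

theorem toV_mul (g h : Q) : toV (g * h) = mv (toV g) (toV h) := by
  simp [toV, mv, Matrix.mul_apply, Fin.sum_univ_two]

theorem dv_toV (g : Q) : dv (toV g) = (g : Matrix (Fin 2) (Fin 2) (ZMod 3)).det := by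
  simp [toV, dv, Matrix.det_fin_two]

theorem dv_ne_zero (g : Q) : dv (toV g) ≠ 0 := by
  rw [dv_toV]; exact ((Matrix.isUnit_iff_isUnit_det _).1 g.isUnit).ne_zero

theorem toV_surj {v : V} (hv : dv v ≠ 0) : ∃ g : Q, toV g = v := by
  obtain ⟨a, b, c, d⟩ := v
  have hu : IsUnit (!![a, b; c, d] : Matrix (Fin 2) (Fin 2) (ZMod 3)) :=
    (Matrix.isUnit_iff_isUnit_det _).2 (by rw [Matrix.det_fin_two_of]; exact isUnit_iff_ne_zero.2 hv)
  exact ⟨hu.unit, by simp [toV, IsUnit.unit_spec]⟩

theorem iv_spec : ∀ v : V, dv v ≠ 0 → dv (iv v) ≠ 0 ∧ mv (iv v) v = ov := by decide +kernel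

theorem toV_inv (g : Q) : toV g⁻¹ = iv (toV g) := by
  obtain ⟨h1, h2⟩ := iv_spec _ (dv_ne_zero g)
  obtain ⟨k, hk⟩ := toV_surj h1
  rw [← hk] at h2 ⊢
  rw [← toV_mul, ← toV_one] at h2
  rw [eq_inv_of_mul_eq_one_left (toV_injective h2)]

/-- The invertible quadruples. -/
def units : Finset V := Finset.univ.filter fun v => dv v ≠ 0

theorem sum_toV {M : Type*} [AddCommMonoid M] (f : V → M) : ∑ g : Q, f (toV g) = ∑ v ∈ units, f v := by
  refine Finset.sum_bij (fun g _ => toV g) (fun g _ => Finset.mem_filter.2 ⟨Finset.mem_univ _, dv_ne_zero g⟩)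
    (fun g _ h _ e => toV_injective e) (fun v hv => ?_) fun g _ => rfl
  obtain ⟨g, hg⟩ := toV_surj (Finset.mem_filter.1 hv).2
  exact ⟨g, Finset.mem_univ _, hg⟩

/-- Conjugate. -/
def cjv (v w : V) : V := mv (mv (iv v) w) v

theorem toV_conj (x g : Q) : toV (x⁻¹ * g * x) = cjv (toV x) (toV g) := by
  rw [toV_mul, toV_mul, toV_inv]; rfl

/-- The type of a class: `1, -1`, orders `3, 6, 4`, non-central involutions, the two kinds of order `8`. -/
def tyv : V → Fin 8
  | (a, b, c, d) =>
    if (a, b, c, d) = ov then 0 else if (a, b, c, d) = (2, 0, 0, 2) then 1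
    else if dv (a, b, c, d) = 1 then (if a + d = 2 then 2 else if a + d = 1 then 3 else 4)
    else (if a + d = 0 then 5 else if a + d = 1 then 6 else 7)

/-- The type of an element. -/
def ty (g : Q) : Fin 8 := tyv (toV g)

/-- The class sizes. -/
def size : Fin 8 → ℕ := ![1, 1, 8, 8, 6, 12, 6, 6]

theorem size_spec : ∀ j : Fin 8, (units.filter fun v => tyv v = j).card = size j := by decide +kernel

theorem card_Q : Nat.card Q = 48 := by
  rw [Matrix.card_GL_field]; simp [Fin.prod_univ_two]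

theorem sum_ty {M : Type*} [AddCommMonoid M] (f : Fin 8 → M) :
    ∑ g : Q, f (ty g) = ∑ j : Fin 8, size j • f j := by
  rw [show ∑ g : Q, f (ty g) = ∑ v ∈ units, f (tyv v) from sum_toV fun v => f (tyv v),
    ← Finset.sum_fiberwise units tyv]
  refine Finset.sum_congr rfl fun j _ => ?_
  rw [Finset.sum_congr rfl fun v hv => by rw [(Finset.mem_filter.1 hv).2], Finset.sum_const, size_spec]

theorem classInner_ty (f h : Fin 8 → ℂ) :
    classInner (fun g : Q => f (ty g)) (fun g => h (ty g)) =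
      (48 : ℂ)⁻¹ * ∑ j : Fin 8, (size j : ℂ) * (f j * conj (h j)) := by
  rw [classInner, card_Q, sum_ty fun j => f j * conj (h j)]
  simp [nsmul_eq_mul]

/-! ### Linear characters of subgroups -/

/-- The subgroup cut out by a test on quadruples. -/
def cut (p : V → Bool) (h1 : p ov = true)
    (hm : ∀ v ∈ units, ∀ w ∈ units, p v = true → p w = true → p (mv v w) = true)
    (hi : ∀ v ∈ units, p v = true → p (iv v) = true) : Subgroup Q where
  carrier := {g | p (toV g) = true}
  one_mem' := by show p (toV 1) = true; rw [toV_one]; exact h1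
  mul_mem' := fun {g h} hg hh => by
    show p (toV (g * h)) = true
    rw [toV_mul]
    exact hm _ (Finset.mem_filter.2 ⟨Finset.mem_univ _, dv_ne_zero g⟩) _
      (Finset.mem_filter.2 ⟨Finset.mem_univ _, dv_ne_zero h⟩) hg hh
  inv_mem' := fun {g} hg => by
    show p (toV g⁻¹) = true
    rw [toV_inv]
    exact hi _ (Finset.mem_filter.2 ⟨Finset.mem_univ _, dv_ne_zero g⟩) hg

theorem mem_cut {p : V → Bool} {h1 hm hi} {g : Q} : g ∈ cut p h1 hm hi ↔ p (toV g) = true := Iff.rfl

theorem card_cut {p : V → Bool} {h1 hm hi} :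
    Nat.card (cut p h1 hm hi) = (units.filter fun v => p v = true).card := by
  rw [← Nat.card_eq_finsetCard]
  refine Nat.card_congr (Equiv.ofBijective (fun g => ⟨toV (g : Q),
    Finset.mem_filter.2 ⟨Finset.mem_filter.2 ⟨Finset.mem_univ _, dv_ne_zero _⟩, g.2⟩⟩) ⟨fun g h e => ?_, fun v => ?_⟩)
  · exact Subtype.ext (toV_injective (congrArg Subtype.val e))
  · obtain ⟨g, hg⟩ := toV_surj (Finset.mem_filter.1 (Finset.mem_filter.1 v.2).1).2
    exact ⟨⟨g, by rw [mem_cut, hg]; exact (Finset.mem_filter.1 v.2).2⟩, Subtype.ext hg⟩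

/-- An integral linear character given on quadruples. -/
def signHom (H : Subgroup Q) (s : V → ℤˣ) (hs : ∀ g ∈ H, ∀ h ∈ H, s (mv (toV g) (toV h)) = s (toV g) * s (toV h)) :
    H →* ℂˣ :=
  (Units.map (Int.castRingHom ℂ).toMonoidHom).comp
    (MonoidHom.mk' (fun g : H => s (toV g)) fun g h => by
      show s (toV ((g : Q) * h)) = _
      rw [toV_mul, hs _ g.2 _ h.2])

theorem ind_sign {p : V → Bool} {h1 hm hi} (s : V → ℤˣ) (hs) (c : ℕ) (I : Fin 8 → ℤ)
    (hc : (units.filter fun v => p v = true).card = c)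
    (htab : ∀ w ∈ units, (∑ v ∈ units, if p (cjv v w) = true then (s (cjv v w) : ℤ) else 0) = (c : ℤ) * I (tyv w))
    (g : Q) : indFun (cut p h1 hm hi) (fun h => (signHom (cut p h1 hm hi) s hs h : ℂ)) g = (I (ty g) : ℂ) := by
  classical
  have hw : toV g ∈ units := Finset.mem_filter.2 ⟨Finset.mem_univ _, dv_ne_zero g⟩
  have hterm : ∀ x : Q, extendByZero (cut p h1 hm hi) (fun h => (signHom (cut p h1 hm hi) s hs h : ℂ))
      (x⁻¹ * g * x) = ((if p (cjv (toV x) (toV g)) = true then (s (cjv (toV x) (toV g)) : ℤ) else 0 : ℤ) : ℂ) := by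
    intro x
    by_cases h : x⁻¹ * g * x ∈ cut p h1 hm hi
    · rw [extendByZero_of_mem _ h, if_pos (by rw [← toV_conj]; exact mem_cut.1 h), ← toV_conj]
      rfl
    · rw [extendByZero_not_mem _ h, if_neg (by rw [← toV_conj]; exact fun e => h (mem_cut.2 e)), Int.cast_zero]
  have hcc : Nat.card (cut p h1 hm hi) = c := card_cut.trans hc
  have hc0 : (c : ℂ) ≠ 0 := by rw [← hcc]; exact Nat.cast_ne_zero.2 Nat.card_pos.ne'
  simp only [indFun, hterm]
  rw [hcc, ← Int.cast_sum, sum_toV (fun v => if p (cjv v (toV g)) = true then (s (cjv v (toV g)) : ℤ) else 0),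
    htab _ hw]
  push_cast
  rw [inv_mul_cancel_left₀ hc0]
  rfl

/-- Upper triangular. -/
def pB : V → Bool
  | (_, _, c, _) => decide (c = 0)

/-- A generator of a cyclic subgroup of order eight. -/
def w8 : V := (0, 1, 1, 1)

/-- Commuting with the generator. -/
def pC : V → Bool := fun v => decide (mv v w8 = mv w8 v)

/-- Normalizing the cyclic subgroup. -/
def pS : V → Bool := fun v => decide (mv v w8 = mv w8 v ∨ mv v w8 = mv (mv (mv w8 w8) w8) v)

/-- The subgroup of order 12. -/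
def Bor : Subgroup Q := cut pB (by decide +kernel) (by decide +kernel) (by decide +kernel)

/-- The subgroup of order 16. -/
def Semi : Subgroup Q := cut pS (by decide +kernel) (by decide +kernel) (by decide +kernel)

/-- The cyclic subgroup of order 8. -/
def Cyc : Subgroup Q := cut pC (by decide +kernel) (by decide +kernel) (by decide +kernel)

/-- Sign of the determinant. -/
def sdet : V → ℤˣ := fun v => if dv v = 1 then 1 else -1

/-- Sign of the first entry. -/
def sfst : V → ℤˣ
  | (a, _, _, _) => if a = 1 then 1 else -1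

theorem sdet_mul : ∀ v ∈ units, ∀ w ∈ units, sdet (mv v w) = sdet v * sdet w := by decide +kernel

theorem sfst_mul : ∀ v ∈ units, ∀ w ∈ units, pB v = true → pB w = true → sfst (mv v w) = sfst v * sfst w := by
  decide +kernel

theorem mem_units (g : Q) : toV g ∈ units := Finset.mem_filter.2 ⟨Finset.mem_univ _, dv_ne_zero g⟩

/-- The determinant character. -/
def detHom (H : Subgroup Q) : H →* ℂˣ :=
  signHom H sdet fun g _ h _ => sdet_mul _ (mem_units g) _ (mem_units h)

/-- The trivial character as a sign character. -/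
def oneHom (H : Subgroup Q) : H →* ℂˣ := signHom H (fun _ => 1) fun _ _ _ _ => (mul_one 1).symm

/-- The first entry character of the triangular group. -/
def fstHom : Bor →* ℂˣ :=
  signHom Bor sfst fun g hg h hh => sfst_mul _ (mem_units g) _ (mem_units h) hg hh

theorem ind_S (g : Q) :
    indFun Semi (fun h => (oneHom Semi h : ℂ)) g = ((![3, 3, 0, 0, 3, 1, 1, 1] (ty g) : ℤ) : ℂ) :=
  ind_sign _ _ 16 _ (by decide +kernel) (by decide +kernel) g

theorem ind_B (g : Q) :
    indFun Bor (fun h => (oneHom Bor h : ℂ)) g = ((![4, 4, 1, 1, 0, 2, 0, 0] (ty g) : ℤ) : ℂ) :=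
  ind_sign _ _ 12 _ (by decide +kernel) (by decide +kernel) g

theorem ind_B_det (g : Q) :
    indFun Bor (fun h => (detHom Bor h : ℂ)) g = ((![4, 4, 1, 1, 0, -2, 0, 0] (ty g) : ℤ) : ℂ) :=
  ind_sign _ _ 12 _ (by decide +kernel) (by decide +kernel) g

theorem ind_B_fst (g : Q) :
    indFun Bor (fun h => (fstHom h : ℂ)) g = ((![4, -4, 1, -1, 0, 0, 0, 0] (ty g) : ℤ) : ℂ) :=
  ind_sign _ _ 12 _ (by decide +kernel) (by decide +kernel) g

/-! ### The faithful character of the cyclic subgroup -/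

/-- The power of the generator. -/
def pw : ℕ → V
  | 0 => ov
  | n + 1 => mv w8 (pw n)

/-- The exponent. -/
def lg (v : V) : Fin 8 :=
  if v = pw 1 then 1 else if v = pw 2 then 2 else if v = pw 3 then 3 else if v = pw 4 then 4
  else if v = pw 5 then 5 else if v = pw 6 then 6 else if v = pw 7 then 7 else 0

theorem lg_mul : ∀ v ∈ units, ∀ w ∈ units, pC v = true → pC w = true → lg (mv v w) = lg v + lg w := by
  decide +kernel

/-- A primitive eighth root of unity. -/
noncomputable def zeta : ℂ := Complex.exp (2 * Real.pi * Complex.I / 8)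

theorem zeta_isPrimitive : IsPrimitiveRoot zeta 8 := by
  have h := Complex.isPrimitiveRoot_exp 8 (by norm_num)
  simpa [zeta] using h

theorem zeta_four : zeta ^ 4 = -1 :=
  IsPrimitiveRoot.eq_neg_one_of_two_right
    (IsPrimitiveRoot.pow (by norm_num) zeta_isPrimitive (show 8 = 4 * 2 by norm_num))

theorem zeta_eight : zeta ^ 8 = 1 := zeta_isPrimitive.pow_eq_one

/-- `√-2`. -/
noncomputable def u : ℂ := zeta + zeta ^ 3

theorem u_mul_u : u * u = -2 := by
  rw [u]; linear_combination (2 + zeta ^ 2) * zeta_four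

theorem conj_zeta : conj zeta = -zeta ^ 3 := by
  have h1 : conj zeta * zeta = 1 := by
    rw [mul_comm, Complex.mul_conj, Complex.normSq_eq_norm_sq, zeta_isPrimitive.norm'_eq_one (by norm_num)]
    norm_num
  have h2 : (-zeta ^ 3) * zeta = 1 := by linear_combination -zeta_four
  exact mul_right_cancel₀ (zeta_isPrimitive.ne_zero (by norm_num)) (h1.trans h2.symm)

theorem conj_u : conj u = -u := by
  rw [u, map_add, map_pow, conj_zeta]
  linear_combination (-zeta ^ 5 + zeta) * zeta_four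

/-- The generating unit. -/
noncomputable def zU : ℂˣ := (zeta_isPrimitive.isUnit (by norm_num)).unit

/-- The faithful character. -/
noncomputable def lamHom : Cyc →* ℂˣ :=
  MonoidHom.mk' (fun g => zU ^ (lg (toV g) : ℕ)) fun g h => by
    show zU ^ (lg (toV ((g : Q) * h)) : ℕ) = _
    rw [toV_mul, lg_mul _ (mem_units g) _ (mem_units h) g.2 h.2, ← pow_add, Fin.val_add, ← pow_eq_pow_mod]
    exact Units.ext (by simp [zU, zeta_eight])

theorem lamHom_apply (g : Cyc) : (lamHom g : ℂ) = zeta ^ (lg (toV g) : ℕ) := by simp [lamHom, zU]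

/-- How often each power occurs among the conjugates. -/
def cnt : Fin 8 → Fin 8 → ℕ :=
  ![![48, 0, 0, 0, 0, 0, 0, 0], ![0, 0, 0, 0, 48, 0, 0, 0], ![0, 0, 0, 0, 0, 0, 0, 0],
    ![0, 0, 0, 0, 0, 0, 0, 0], ![0, 0, 8, 0, 0, 0, 8, 0], ![0, 0, 0, 0, 0, 0, 0, 0],
    ![0, 8, 0, 8, 0, 0, 0, 0], ![0, 0, 0, 0, 0, 8, 0, 8]]

theorem cnt_spec : ∀ w ∈ units, ∀ k : Fin 8,
    (units.filter fun v => pC (cjv v w) = true ∧ lg (cjv v w) = k).card = cnt (tyv w) k := by decide +kernel

theorem card_Cyc : Nat.card Cyc = 8 := card_cut.trans (by decide +kernel)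

theorem ind_C (g : Q) :
    indFun Cyc (fun h => (lamHom h : ℂ)) g = ![6, -6, 0, 0, 0, 0, u, -u] (ty g) := by
  classical
  have hterm : ∀ x : Q, extendByZero Cyc (fun h => (lamHom h : ℂ)) (x⁻¹ * g * x) =
      ∑ k : Fin 8, if pC (cjv (toV x) (toV g)) = true ∧ lg (cjv (toV x) (toV g)) = k then zeta ^ (k : ℕ) else 0 := by
    intro x
    by_cases h : x⁻¹ * g * x ∈ Cyc
    · rw [extendByZero_of_mem _ h, lamHom_apply]
      have hp : pC (cjv (toV x) (toV g)) = true := by rw [← toV_conj]; exact h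
      rw [toV_conj]
      simp only [hp, true_and, Finset.sum_ite_eq, Finset.mem_univ, if_true]
    · have hp : ¬ pC (cjv (toV x) (toV g)) = true := by rw [← toV_conj]; exact h
      rw [extendByZero_not_mem _ h]
      simp [hp]
  simp only [indFun, hterm]
  rw [card_Cyc, sum_toV (fun v => ∑ k : Fin 8,
    if pC (cjv v (toV g)) = true ∧ lg (cjv v (toV g)) = k then zeta ^ (k : ℕ) else 0), Finset.sum_comm,
    Finset.sum_congr rfl fun k _ => by
      rw [← Finset.sum_filter, Finset.sum_const, cnt_spec _ (mem_units g) k, nsmul_eq_mul]]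
  show _ = ![6, -6, 0, 0, 0, 0, u, -u] (tyv (toV g))
  have h4 := zeta_four
  generalize tyv (toV g) = j
  fin_cases j <;> simp [cnt, Fin.sum_univ_eight, u]
  · norm_num
  · linear_combination 6 * h4
  · linear_combination 8 * zeta ^ 2 * h4
  · ring
  · linear_combination (zeta + zeta ^ 3) * h4

/-! ### The generalized characters -/

/-- The tables. -/
noncomputable def tab : Fin 5 → Fin 8 → ℂ :=
  ![![0, 8, 0, 2, 4, 0, 0, 0], ![0, 0, 0, 0, 4, 0, 2, 2], ![0, 0, 0, 0, 4, 0, -2, -2],
    ![0, 4, 0, -2, 2, 0, -u, u], ![0, 4, 0, -2, 2, 0, u, -u]]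

/-- The five functions. -/
noncomputable def Phi (i : Fin 5) : Q → ℂ := fun g => tab i (ty g)

/-- The Gram matrix. -/
def gram : Fin 5 → Fin 5 → ℤ :=
  ![![4, 2, 2, 1, 1], ![2, 3, 1, 1, 1], ![2, 1, 3, 1, 1], ![1, 1, 1, 2, 1], ![1, 1, 1, 1, 2]]

theorem gram_spec (i j : Fin 5) : classInner (Phi i) (Phi j) = (gram i j : ℂ) := by
  show classInner (fun g => tab i (ty g)) (fun g => tab j (ty g)) = _
  rw [classInner_ty, Fin.sum_univ_eight]
  fin_cases i <;> fin_cases j <;> simp [tab, gram, size, conj_u, u_mul_u, map_ofNat] <;> norm_num [u_mul_u]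

theorem trivial_spec (i : Fin 5) :
    classInner (Phi i) (fun _ : Q => 1) = ((![1, 1, 0, 0, 0] i : ℤ) : ℂ) := by
  show classInner (fun g => tab i (ty g)) (fun g : Q => (fun _ => (1 : ℂ)) (ty g)) = _
  rw [classInner_ty (tab i) (fun _ => 1), Fin.sum_univ_eight]
  fin_cases i <;> simp [tab, size] <;> norm_num <;> ring

/-- Has integral inner products with characters. -/
def IntInner (f : Q → ℂ) : Prop := ∀ ξ : Q → ℂ, IsCharacter Q ξ → ∃ n : ℤ, classInner f ξ = (n : ℂ)

theorem IntInner.ind (H : Subgroup Q) (l : H →* ℂˣ) : IntInner (indFun H fun h => (l h : ℂ)) := by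
  classical
  intro ξ hξ
  rw [classInner_indFun H _ (IsChar.classFun hξ)]
  obtain ⟨n, hn⟩ := IsChar.classInner_nat (Star.isCharacter_hom l) (IsChar.res hξ H)
  exact ⟨n, by rw [hn]; simp⟩

theorem IntInner.hom (l : Q →* ℂˣ) : IntInner fun g => (l g : ℂ) := by
  intro ξ hξ
  obtain ⟨n, hn⟩ := IsChar.classInner_nat (Star.isCharacter_hom l) hξ
  exact ⟨n, by rw [hn]; simp⟩

theorem IntInner.add {f h : Q → ℂ} (hf : IntInner f) (hh : IntInner h) : IntInner (f + h) := by
  intro ξ hξ
  obtain ⟨a, ha⟩ := hf ξ hξ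
  obtain ⟨b, hb⟩ := hh ξ hξ
  refine ⟨a + b, ?_⟩
  rw [Int.cast_add, ← ha, ← hb]
  simp [classInner, add_mul, Finset.sum_add_distrib, mul_add]

theorem IntInner.neg {f : Q → ℂ} (hf : IntInner f) : IntInner (-f) := by
  intro ξ hξ
  obtain ⟨a, ha⟩ := hf ξ hξ
  refine ⟨-a, ?_⟩
  rw [Int.cast_neg, ← ha]
  simp [classInner]

theorem IntInner.sub {f h : Q → ℂ} (hf : IntInner f) (hh : IntInner h) : IntInner (f - h) := by
  rw [sub_eq_add_neg]; exact hf.add hh.neg

theorem IntInner.conj' {f : Q → ℂ} (hf : IntInner f) : IntInner fun g => conj (f g) := by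
  intro ξ hξ
  obtain ⟨a, ha⟩ := hf (fun g => conj (ξ g)) (IsChar.conj hξ)
  refine ⟨a, ?_⟩
  have := congrArg conj ha
  simp only [classInner, map_mul, map_sum, Complex.conj_conj, map_inv₀, map_natCast, map_intCast] at this
  rw [← this]
  rfl

theorem intInner_Phi (i : Fin 5) : IntInner (Phi i) := by
  let det' : Q →* ℂˣ := (detHom ⊤).comp Subgroup.topEquiv.symm.toMonoidHom
  have hdet : ∀ g : Q, (det' g : ℂ) = ((![1, 1, 1, 1, 1, -1, -1, -1] (ty g) : ℤ) : ℂ) := by
    intro g
    have key : ∀ v ∈ units, ((sdet v : ℤˣ) : ℤ) = ![1, 1, 1, 1, 1, -1, -1, -1] (tyv v) := by decide +kernel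
    rw [show ty g = tyv (toV g) from rfl, ← key _ (mem_units g)]
    rfl
  let one' : Q →* ℂˣ := 1
  have h0 : Phi 0 = (fun g => (det' g : ℂ)) + indFun Semi (fun h => (oneHom Semi h : ℂ)) -
      indFun Bor (fun h => (fstHom h : ℂ)) := by
    funext g
    simp only [Pi.add_apply, Pi.sub_apply, hdet, ind_S, ind_B_fst, Phi]
    generalize ty g = j
    fin_cases j <;> simp [tab] <;> norm_num
  have h1 : Phi 1 = (fun g => (one' g : ℂ)) + indFun Semi (fun h => (oneHom Semi h : ℂ)) -
      indFun Bor (fun h => (oneHom Bor h : ℂ)) := by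
    funext g
    simp only [Pi.add_apply, Pi.sub_apply, ind_S, ind_B, Phi, one', MonoidHom.one_apply, Units.val_one]
    generalize ty g = j
    fin_cases j <;> simp [tab] <;> norm_num
  have h2 : Phi 2 = (fun g => (det' g : ℂ)) + (fun g => (det' g : ℂ)) +
      indFun Semi (fun h => (oneHom Semi h : ℂ)) - (fun g => (one' g : ℂ)) -
      indFun Bor (fun h => (detHom Bor h : ℂ)) := by
    funext g
    simp only [Pi.add_apply, Pi.sub_apply, hdet, ind_S, ind_B_det, Phi, one', MonoidHom.one_apply, Units.val_one]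
    generalize ty g = j
    fin_cases j <;> simp [tab] <;> norm_num
  have h3 : Phi 3 = indFun Semi (fun h => (oneHom Semi h : ℂ)) - (fun g => (one' g : ℂ)) -
      indFun Cyc (fun h => (lamHom h : ℂ)) + indFun Bor (fun h => (fstHom h : ℂ)) := by
    funext g
    simp only [Pi.add_apply, Pi.sub_apply, ind_S, ind_C, ind_B_fst, Phi, one', MonoidHom.one_apply, Units.val_one]
    generalize ty g = j
    fin_cases j <;> simp [tab] <;> norm_num
  have hI3 : IntInner (Phi 3) :=
    h3 ▸ (((IntInner.ind _ _).sub (IntInner.hom _)).sub (IntInner.ind _ _)).add (IntInner.ind _ _)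
  have h4 : Phi 4 = fun g => conj (Phi 3 g) := by
    funext g
    simp only [Phi]
    generalize ty g = j
    fin_cases j <;> simp [tab, conj_u, map_ofNat]
  fin_cases i
  · exact h0 ▸ ((IntInner.hom _).add (IntInner.ind _ _)).sub (IntInner.ind _ _)
  · exact h1 ▸ ((IntInner.hom _).add (IntInner.ind _ _)).sub (IntInner.ind _ _)
  · exact h2 ▸ ((((IntInner.hom _).add (IntInner.hom _)).add (IntInner.ind _ _)).sub (IntInner.hom _)).sub
      (IntInner.ind _ _)
  · exact hI3
  · exact h4 ▸ hI3.conj'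

end Cfsg.Agent.Invol.GL23
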