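import Mathlib
import Cfsg.Agent.Lib.Invol.GLTwoThreeTable
import Cfsg.Agent.Lib.Invol.ThompsonTransferDihedral

/-!
An involution centralizer isomorphic to `GL(2,3)`: local facts and the induced generalized characters.
-/

set_option autoImplicit false
set_option maxRecDepth 100000
set_option linter.style.haveILetI false

namespace Cfsg.Agent.Invol.GL23

open scoped ComplexConjugate
open Cfsg Cfsg.Agent.Char Cfsg.Agent.Block

/-! ### Tables -/

/-- The central involution as a quadruple. -/
def nv : V := (2, 0, 0, 2)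

/-- Powers of quadruples. -/
def pv (v : V) : ℕ → V
  | 0 => ov
  | n + 1 => mv (pv v n) v

theorem toV_pow (g : Q) : ∀ k : ℕ, toV (g ^ k) = pv (toV g) k
  | 0 => by rw [pow_zero, toV_one]; rfl
  | k + 1 => by rw [pow_succ, toV_mul, toV_pow g k]; rfl

/-- The types of roots of the central involution. -/
def din (j : Fin 8) : Bool := decide (j = 1 ∨ j = 3 ∨ j = 4 ∨ j = 6 ∨ j = 7)

theorem root_spec : ∀ w ∈ units, din (tyv w) = true → ∃ k ∈ Finset.range 5, pv w k = nv := by decide +kernel

theorem root_unique : ∀ w ∈ units, din (tyv w) = true → ∀ k ∈ Finset.range 5,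
    mv (pv w k) (pv w k) = ov → pv w k = ov ∨ pv w k = nv := by decide +kernel

theorem ty_cjv : ∀ v ∈ units, ∀ w ∈ units, tyv (cjv v w) = tyv w := by decide +kernel

/-- Representatives. -/
def rep : Fin 8 → V :=
  ![ov, nv, (1, 1, 0, 1), (2, 1, 0, 2), (0, 1, 2, 0), (1, 0, 0, 2), (0, 1, 1, 1), (0, 2, 2, 2)]

theorem rep_spec : ∀ j : Fin 8, rep j ∈ units ∧ tyv (rep j) = j := by decide +kernel

theorem conj_rep : ∀ w ∈ units, ∃ v ∈ units, cjv v (rep (tyv w)) = w := by decide +kernel

/-- The chosen element of each type. -/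
noncomputable def el (j : Fin 8) : Q := (toV_surj (Finset.mem_filter.1 (rep_spec j).1).2).choose

theorem toV_el (j : Fin 8) : toV (el j) = rep j :=
  (toV_surj (Finset.mem_filter.1 (rep_spec j).1).2).choose_spec

theorem ty_el (j : Fin 8) : ty (el j) = j := by rw [ty, toV_el]; exact (rep_spec j).2

/-- The central involution. -/
noncomputable def neg : Q := el 1

theorem toV_neg : toV neg = nv := toV_el 1

theorem isConj_el (g : Q) : ∃ x : Q, x⁻¹ * el (ty g) * x = g := by
  obtain ⟨v, hv, he⟩ := conj_rep _ (mem_units g)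
  obtain ⟨x, hx⟩ := toV_surj (Finset.mem_filter.1 hv).2
  exact ⟨x, toV_injective (by rw [toV_conj, hx, toV_el]; exact he)⟩

theorem classFun_ty {ξ : Q → ℂ} (hξ : IsClassFunction Q ξ) (g : Q) : ξ g = ξ (el (ty g)) := by
  obtain ⟨x, hx⟩ := isConj_el g
  refine (IsClass.eq_of_isConj hξ ?_).symm
  exact isConj_iff.2 ⟨x⁻¹, by rw [inv_inv]; exact hx⟩

theorem ty_conj (x g : Q) : ty (x⁻¹ * g * x) = ty g := by
  rw [ty, ty, toV_conj]; exact ty_cjv _ (mem_units x) _ (mem_units g)

theorem exists_root {g : Q} (h : din (ty g) = true) : ∃ k < 5, g ^ k = neg := by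
  obtain ⟨k, hk, he⟩ := root_spec _ (mem_units g) h
  exact ⟨k, Finset.mem_range.1 hk, toV_injective (by rw [toV_pow, he, toV_neg])⟩

theorem root_eq_neg {g : Q} (h : din (ty g) = true) {k : ℕ} (hk : k < 5) (h2 : g ^ k * g ^ k = 1)
    (h1 : g ^ k ≠ 1) : g ^ k = neg := by
  rcases root_unique _ (mem_units g) h k (Finset.mem_range.2 hk)
    (by rw [← toV_pow, ← toV_mul, h2, toV_one]) with e | e
  · exact absurd (toV_injective (by rw [toV_pow, e, toV_one])) h1
  · exact toV_injective (by rw [toV_pow, e, toV_neg])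

theorem tab_ne_zero {i : Fin 5} {j : Fin 8} (h : tab i j ≠ 0) : din j = true := by
  fin_cases j <;> first | rfl | (exfalso; apply h; fin_cases i <;> simp [tab])

theorem neg_central_table : ∀ v ∈ units, (∀ w ∈ units, mv v w = mv w v) → v = ov ∨ v = nv := by
  decide +kernel

theorem neg_comm_table : ∀ w ∈ units, mv nv w = mv w nv := by decide +kernel

theorem neg_comm (g : Q) : neg * g = g * neg :=
  toV_injective (by rw [toV_mul, toV_mul, toV_neg]; exact neg_comm_table _ (mem_units g))

theorem central_eq_neg {a : Q} (h : ∀ g : Q, a * g = g * a) (h1 : a ≠ 1) : a = neg := by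
  rcases neg_central_table _ (mem_units a) (fun w hw => by
    obtain ⟨g, rfl⟩ := toV_surj (Finset.mem_filter.1 hw).2
    rw [← toV_mul, ← toV_mul, h g]) with e | e
  · exact absurd (toV_injective (by rw [e, toV_one])) h1
  · exact toV_injective (by rw [e, toV_neg])

theorem invol_table : ∀ w ∈ units, mv w w = ov → w ≠ ov → tyv w = 1 ∨ tyv w = 5 := by decide +kernel

theorem neg_ne_one : neg ≠ 1 := fun e => by
  have := congrArg toV e
  rw [toV_neg, toV_one] at this
  exact absurd this (by decide)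

theorem neg_mul_neg : neg * neg = 1 := toV_injective (by rw [toV_mul, toV_neg, toV_one]; decide)

theorem orderOf_neg : orderOf neg = 2 := orderOf_eq_prime (by rw [sq, neg_mul_neg]) neg_ne_one

theorem card_Semi : Nat.card Semi = 16 := card_cut.trans (by decide +kernel)

theorem card_Cyc_invol : ∀ w ∈ units, pC w = true → mv w w = ov → w ≠ ov → w = nv := by decide +kernel

/-- Commutes with the subgroup of order 16. -/
def commS (w : V) : Bool := decide (∀ v ∈ units, pS v = true → mv w v = mv v w)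

theorem semi_central_table : ∀ w ∈ units, pS w = true → mv w w = ov → w ≠ ov →
    commS w = true → w = nv := by decide +kernel

/-- Involutions as a test. -/
def invB (v : V) : Bool := decide (mv v v = ov ∧ v ≠ ov)

/-- Number of factorisations into two involutions. -/
def npairs : Fin 8 → ℕ := ![13, 12, 6, 6, 4, 2, 0, 0]

theorem pairs_spec : ∀ j : Fin 8, din j = true →
    (units.filter fun a => invB a = true ∧ invB (mv (iv a) (rep j)) = true).card = npairs j := by
  decide +kernel

theorem invB_iff (a : Q) : invB (toV a) = true ↔ a * a = 1 ∧ a ≠ 1 := by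
  rw [invB, decide_eq_true_eq, ← toV_mul, ← toV_one, toV_injective.eq_iff, toV_injective.ne_iff]

/-! ### The setting -/

universe u

variable {G : Type u} [Group G]

/-- An embedding of `GL(2,3)` onto the centralizer of the image of its central involution. -/
structure Emb (ψ : Q →* G) : Prop where
  inj : Function.Injective ψ
  range : ∀ g : G, g * ψ neg = ψ neg * g → ∃ a, ψ a = g

theorem exists_emb {t : G} (ht : orderOf t = 2) (e : ↥(Subgroup.centralizer ({t} : Set G)) ≃* Q) :
    ∃ ψ : Q →* G, Emb ψ ∧ ψ neg = t := by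
  let ψ : Q →* G := (Subgroup.centralizer ({t} : Set G)).subtype.comp e.symm.toMonoidHom
  have htC : t ∈ Subgroup.centralizer ({t} : Set G) := Subgroup.mem_centralizer_singleton_iff.2 rfl
  have h : e ⟨t, htC⟩ = neg := by
    refine central_eq_neg (fun g => ?_) fun he => ?_
    · obtain ⟨c, rfl⟩ := e.surjective g
      rw [← map_mul, ← map_mul]
      exact congrArg e (Subtype.ext (Subgroup.mem_centralizer_singleton_iff.1 c.2).symm)
    · have h1 : (⟨t, htC⟩ : ↥(Subgroup.centralizer ({t} : Set G))) = 1 := e.injective (by rw [he, map_one])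
      rw [show t = 1 from congrArg Subtype.val h1, orderOf_one] at ht
      omega
  have hψ : ψ neg = t := by
    show ((e.symm neg : ↥(Subgroup.centralizer ({t} : Set G))) : G) = t
    rw [← h, e.symm_apply_apply]
  refine ⟨ψ, ⟨fun a b hab => e.symm.injective (Subtype.ext hab), fun g hg => ?_⟩, hψ⟩
  rw [hψ] at hg
  exact ⟨e ⟨g, Subgroup.mem_centralizer_singleton_iff.2 hg⟩, by
    show ((e.symm (e _) : ↥(Subgroup.centralizer ({t} : Set G))) : G) = g
    rw [e.symm_apply_apply]⟩

variable {ψ : Q →* G} (h : Emb ψ)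
include h

theorem mem_range_iff (g : G) : g ∈ ψ.range ↔ g * ψ neg = ψ neg * g :=
  ⟨fun ⟨a, ha⟩ => by rw [← ha, ← map_mul, ← map_mul, neg_comm], h.range g⟩

theorem orderOf_z : orderOf (ψ neg) = 2 := by rw [orderOf_injective ψ h.inj, orderOf_neg]

theorem card_range : Nat.card ψ.range = 48 := by
  rw [← Nat.card_congr (MonoidHom.ofInjective h.inj).toEquiv, card_Q]

/-- Conjugating one root to another fixes the central involution. -/
theorem root_conj {g c : Q} (hg : din (ty g) = true) (hc : din (ty c) = true) {x : G}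
    (hx : x⁻¹ * ψ g * x = ψ c) : x ∈ ψ.range := by
  obtain ⟨k, hk, hgk⟩ := exists_root hg
  have hck : ψ (c ^ k) = x⁻¹ * ψ neg * x := by
    rw [map_pow, ← hx, ← hgk, map_pow]
    simpa using (conj_pow (i := k) (a := x⁻¹) (b := ψ g))
  have hxz : ψ (c ^ k) = ψ neg := by
    refine congrArg ψ (root_eq_neg hc hk (h.inj ?_) fun e => neg_ne_one (h.inj ?_))
    · rw [map_mul, hck, map_one, show x⁻¹ * ψ neg * x * (x⁻¹ * ψ neg * x) = x⁻¹ * (ψ neg * ψ neg) * x by
        group, ← map_mul, neg_mul_neg, map_one]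
      group
    · rw [e, map_one] at hck
      rw [map_one]
      calc ψ neg = x * (x⁻¹ * ψ neg * x) * x⁻¹ := by group
        _ = 1 := by rw [← hck]; group
  rw [hxz] at hck
  rw [mem_range_iff h]
  calc x * ψ neg = x * (x⁻¹ * ψ neg * x) := by rw [← hck]
    _ = ψ neg * x := by group

variable [Finite G]

theorem sylow_sixteen : ¬ 32 ∣ Nat.card G := by
  haveI : Fact (Nat.Prime 2) := ⟨Nat.prime_two⟩
  intro h32
  have hcard : Nat.card (Semi.map ψ) = 2 ^ 4 := by
    rw [Subgroup.card_map_of_injective h.inj, card_Semi]; norm_num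
  obtain ⟨R, hR, hle⟩ := Sylow.exists_subgroup_card_pow_succ (p := 2) (n := 4) (by simpa using h32) hcard
  have hidx : ((Semi.map ψ).subgroupOf R).index = 2 := by
    have := Subgroup.card_mul_index ((Semi.map ψ).subgroupOf R)
    rw [Nat.card_congr (Subgroup.subgroupOfEquivOfLe hle).toEquiv, hcard, hR] at this
    omega
  have hnorm := Subgroup.normal_of_index_eq_two hidx
  have hRC : R ≤ ψ.range := by
    intro r hr
    have hzS : neg ∈ Semi := by
      show pS (toV neg) = true
      rw [toV_neg]; decide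
    obtain ⟨a, haS, ha⟩ : r * ψ neg * r⁻¹ ∈ Semi.map ψ :=
      hnorm.conj_mem ⟨ψ neg, hle (Subgroup.mem_map_of_mem ψ hzS)⟩ (Subgroup.mem_map_of_mem ψ hzS) ⟨r, hr⟩
    have ha' : a = neg := by
      refine toV_injective ((semi_central_table _ (mem_units a) haS ?_ ?_ (decide_eq_true ?_)).trans toV_neg.symm)
      · rw [← toV_mul, ← toV_one]
        refine congrArg toV (h.inj ?_)
        rw [map_mul, ha, map_one, show r * ψ neg * r⁻¹ * (r * ψ neg * r⁻¹) = r * (ψ neg * ψ neg) * r⁻¹ by group,
          ← map_mul, neg_mul_neg, map_one]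
        group
      · rw [← toV_one]
        refine fun e => neg_ne_one (h.inj ?_)
        rw [toV_injective e, map_one] at ha
        rw [map_one]
        exact conj_eq_one_iff.1 ha.symm
      · intro v hv hvS
        obtain ⟨b, rfl⟩ := toV_surj (Finset.mem_filter.1 hv).2
        rw [← toV_mul, ← toV_mul]
        refine congrArg toV (h.inj ?_)
        obtain ⟨c, hcS, hc⟩ : r⁻¹ * ψ b * r⁻¹⁻¹ ∈ Semi.map ψ :=
          hnorm.conj_mem ⟨ψ b, hle (Subgroup.mem_map_of_mem ψ hvS)⟩ (Subgroup.mem_map_of_mem ψ hvS)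
            ⟨r⁻¹, inv_mem hr⟩
        have hb : ψ b = r * ψ c * r⁻¹ := by rw [hc]; group
        rw [map_mul, map_mul, ha, hb,
          show r * ψ neg * r⁻¹ * (r * ψ c * r⁻¹) = r * (ψ neg * ψ c) * r⁻¹ by group,
          show r * ψ c * r⁻¹ * (r * ψ neg * r⁻¹) = r * (ψ c * ψ neg) * r⁻¹ by group,
          ← map_mul, ← map_mul, neg_comm]
    rw [ha'] at ha
    rw [mem_range_iff h]
    calc r * ψ neg = (r * ψ neg * r⁻¹) * r := by group
      _ = ψ neg * r := by rw [← ha]
  have := Subgroup.card_dvd_of_le hRC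
  rw [hR, card_range h] at this
  norm_num at this

/-- Without a subgroup of index two the involutions of the centralizer fuse. -/
theorem fuse (hO : pResidual 2 G = ⊤) {a : Q} (ha : a * a = 1) (ha1 : a ≠ 1) :
    IsConj (ψ neg) (ψ a) := by
  classical
  rcases invol_table _ (mem_units a) (by rw [← toV_mul, ha, toV_one])
    (fun e => ha1 (toV_injective (e.trans toV_one.symm))) with ht | ht
  · obtain ⟨x, hx⟩ := isConj_el a
    rw [show ty a = 1 from ht] at hx
    rw [← show x⁻¹ * neg * x = a from hx, mul_assoc, neg_comm, inv_mul_cancel_left]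
  set M := Cyc.map ψ with hMdef
  have hMc : Nat.card M = 8 := by rw [hMdef, Subgroup.card_map_of_injective h.inj, card_Cyc]
  have hexists : ∃ g : G, g * ψ a * g⁻¹ ∈ M := by
    by_contra hne
    push Not at hne
    have h16 : 16 ∣ Nat.card G := by
      have := Subgroup.card_subgroup_dvd_card ψ.range
      rw [card_range h] at this
      exact (show 16 ∣ 48 by norm_num).trans this
    have h32 := sylow_sixteen h
    have hidx := M.index_mul_card
    rw [hMc] at hidx
    have hsign := TransferDihedral.cosetSign_eq_neg_one M (c := ψ a) (j := 0) (m := M.index / 2)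
      (by rw [orderOf_injective ψ h.inj, orderOf_eq_prime (by rw [sq, ha]) ha1]; norm_num)
      (by omega) (Nat.odd_iff.2 (by omega)) (fun g => by simpa using hne g)
    have := TransferDihedral.pResidual_le_ker (TransferDihedral.cosetSign M)
    rw [hO] at this
    rw [MonoidHom.mem_ker.1 (this (Subgroup.mem_top (ψ a)))] at hsign
    exact absurd hsign (by decide)
  obtain ⟨g, c, hcC, hc⟩ := hexists
  have hc' : c = neg := by
    refine toV_injective ((card_Cyc_invol _ (mem_units c) hcC ?_ ?_).trans toV_neg.symm)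
    · rw [← toV_mul, ← toV_one]
      refine congrArg toV (h.inj ?_)
      rw [map_mul, hc, map_one, show g * ψ a * g⁻¹ * (g * ψ a * g⁻¹) = g * (ψ a * ψ a) * g⁻¹ by group,
        ← map_mul, ha, map_one]
      group
    · rw [← toV_one]
      refine fun e => ha1 (h.inj ?_)
      rw [toV_injective e, map_one] at hc
      rw [map_one]
      exact conj_eq_one_iff.1 hc.symm
  rw [hc'] at hc
  exact (isConj_iff.2 ⟨g, hc.symm⟩).symm

/-! ### Induced functions -/

theorem card_conj_eq (a : G) (b : G) :
    Nat.card {c : G // c * a * c⁻¹ = b} =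
      (open Classical in if IsConj a b then Nat.card (Subgroup.centralizer ({a} : Set G)) else 0) := by
  classical
  split_ifs with hc
  · obtain ⟨c0, hc0⟩ := isConj_iff.1 hc
    refine Nat.card_congr
      { toFun := fun c => ⟨c0⁻¹ * c.1, Subgroup.mem_centralizer_singleton_iff.2 ?_⟩
        invFun := fun d => ⟨c0 * d.1, ?_⟩
        left_inv := fun c => Subtype.ext (mul_inv_cancel_left _ _)
        right_inv := fun d => Subtype.ext (inv_mul_cancel_left _ _) }
    · calc c0⁻¹ * c.1 * a = c0⁻¹ * (c.1 * a * c.1⁻¹) * c.1 := by group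
        _ = c0⁻¹ * (c0 * a * c0⁻¹) * c.1 := by rw [c.2, hc0]
        _ = a * (c0⁻¹ * c.1) := by group
    · have hd := Subgroup.mem_centralizer_singleton_iff.1 d.2
      calc c0 * d.1 * a * (c0 * d.1)⁻¹ = c0 * (d.1 * a) * d.1⁻¹ * c0⁻¹ := by group
        _ = c0 * a * c0⁻¹ := by rw [hd]; group
        _ = b := hc0
  · haveI : IsEmpty {c : G // c * a * c⁻¹ = b} := ⟨fun c => hc (isConj_iff.2 ⟨c.1, c.2⟩)⟩
    exact Nat.card_of_isEmpty

variable [Fintype G]

/-- The induced function. -/
noncomputable def psiInd (i : Fin 5) : G → ℂ :=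
  haveI := Fintype.ofFinite ψ.range
  indFun ψ.range fun g => Phi i ((MonoidHom.ofInjective h.inj).symm g)

theorem psiInd_classFun (i : Fin 5) : IsClassFunction G (psiInd h i) := indFun_classFun _ _

theorem psiInd_one (i : Fin 5) : psiInd h i 1 = 0 := by
  rw [psiInd, indFun_one_eq, map_one, show Phi i 1 = tab i (ty 1) from rfl,
    show ty 1 = 0 by rw [ty, toV_one]; decide]
  fin_cases i <;> simp [tab]

theorem psiInd_apply (i : Fin 5) {g : Q} (hg : din (ty g) = true) : psiInd h i (ψ g) = Phi i g := by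
  classical
  haveI := Fintype.ofFinite ψ.range
  have hterm : ∀ x : G, extendByZero ψ.range (fun r => Phi i ((MonoidHom.ofInjective h.inj).symm r))
      (x⁻¹ * ψ g * x) = if x ∈ ψ.range then Phi i g else 0 := by
    intro x
    have hval : ∀ (c : Q) (hm : ψ c ∈ ψ.range),
        Phi i ((MonoidHom.ofInjective h.inj).symm ⟨ψ c, hm⟩) = Phi i c := fun c hm => by
      congr 1; exact (MonoidHom.ofInjective h.inj).symm_apply_apply c
    split_ifs with hx
    · obtain ⟨a, rfl⟩ := hx
      rw [← map_inv, ← map_mul, ← map_mul, extendByZero_of_mem _ (show ψ (a⁻¹ * g * a) ∈ ψ.range from ⟨_, rfl⟩), hval]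
      show tab i (ty _) = tab i (ty g)
      rw [ty_conj]
    · by_cases hm : x⁻¹ * ψ g * x ∈ ψ.range
      · obtain ⟨c, hc⟩ := hm
        rw [← hc, extendByZero_of_mem _ (show ψ c ∈ ψ.range from ⟨c, rfl⟩), hval]
        by_contra hne
        exact hx (root_conj h hg (tab_ne_zero hne) hc.symm)
      · exact extendByZero_not_mem _ hm
  simp only [psiInd, indFun, hterm]
  rw [← Finset.sum_filter, Finset.sum_const, nsmul_eq_mul]
  have : (Finset.univ.filter fun x => x ∈ ψ.range).card = Nat.card ψ.range := by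
    rw [Nat.card_eq_fintype_card, Fintype.card_subtype]
  rw [this, inv_mul_cancel_left₀ (Nat.cast_ne_zero.2 Nat.card_pos.ne')]

theorem psiInd_inner (i : Fin 5) {f : G → ℂ} (hf : IsClassFunction G f) :
    classInner (psiInd h i) f = classInner (Phi i) (fun g => f (ψ g)) := by
  classical
  haveI := Fintype.ofFinite ψ.range
  rw [psiInd, classInner_indFun _ _ hf]
  simp only [classInner]
  rw [← Nat.card_congr (MonoidHom.ofInjective h.inj).toEquiv]
  congr 1
  refine (Fintype.sum_equiv (MonoidHom.ofInjective h.inj).toEquiv _ _ fun g => ?_).symm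
  show _ = Phi i ((MonoidHom.ofInjective h.inj).symm (MonoidHom.ofInjective h.inj g)) * _
  rw [MulEquiv.symm_apply_apply]
  rfl

theorem psiInd_gram (i j : Fin 5) : classInner (psiInd h i) (psiInd h j) = (gram i j : ℂ) := by
  rw [psiInd_inner h i (psiInd_classFun h j), ← gram_spec i j]
  simp only [classInner]
  congr 1
  refine Finset.sum_congr rfl fun g _ => ?_
  by_cases hz : Phi i g = 0
  · simp [hz]
  · rw [psiInd_apply h j (tab_ne_zero hz)]

/-- Pairs of conjugates of the central involution with given product. -/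
theorem pairs (hO : pResidual 2 G = ⊤) {j : Fin 8} (hj : din j = true) :
    Nat.card {p : G × G // p.1 * ψ neg * p.1⁻¹ * (p.2 * ψ neg * p.2⁻¹) = ψ (el j)} =
      2304 * npairs j := by
  classical
  set z := ψ neg with hz
  set y := ψ (el j) with hy
  have hzz : z * z = 1 := by rw [hz, ← map_mul, neg_mul_neg, map_one]
  have hzi : z⁻¹ = z := inv_eq_of_mul_eq_one_right hzz
  have hCz : Nat.card (Subgroup.centralizer ({z} : Set G)) = 48 := by
    rw [← card_range h]
    exact Nat.card_congr (Equiv.subtypeEquivRight fun g => by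
      rw [Subgroup.mem_centralizer_singleton_iff, mem_range_iff h])
  have hfib : ∀ x : G, IsConj z x → Nat.card {c : G // c * z * c⁻¹ = x} = 48 := fun x hx => by
    rw [card_conj_eq h, if_pos hx, hCz]
  -- conjugates in the range
  have hK : ∀ a : Q, IsConj z (ψ a) ↔ invB (toV a) = true := by
    intro a
    rw [invB_iff]
    refine ⟨fun hc => ?_, fun ⟨h2, h1⟩ => fuse h hO h2 h1⟩
    obtain ⟨c, hc⟩ := isConj_iff.1 hc
    refine ⟨h.inj ?_, fun e => ?_⟩
    · rw [map_mul, ← hc, map_one, show c * z * c⁻¹ * (c * z * c⁻¹) = c * (z * z) * c⁻¹ by group, hzz]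
      group
    · rw [e, map_one] at hc
      exact neg_ne_one (h.inj (by rw [map_one]; exact conj_eq_one_iff.1 hc))
  -- both factors lie in the range
  have hin : ∀ u v : G, IsConj z u → IsConj z v → u * v = y → u ∈ ψ.range := by
    intro u v hu hv huv
    have sq1 : ∀ x : G, IsConj z x → x⁻¹ = x := fun x hx => by
      obtain ⟨c, rfl⟩ := isConj_iff.1 hx
      rw [mul_inv_rev, mul_inv_rev, inv_inv, hzi, mul_assoc]
    obtain ⟨k, hk, hgk⟩ := exists_root (g := el j) (by rw [ty_el]; exact hj)
    have h1 : u * y * u⁻¹ = y⁻¹ := by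
      rw [← huv, mul_inv_rev, sq1 u hu, sq1 v hv]
      rw [show u * (u * v) * u = u * u * v * u by group,
        show u * u = 1 by nth_rewrite 1 [← sq1 u hu]; exact inv_mul_cancel u, one_mul]
    have h2 : u * y ^ k * u⁻¹ = y⁻¹ ^ k := by
      rw [← h1]; exact (conj_pow (i := k) (a := u) (b := y)).symm
    have h3 : y ^ k = z := by rw [hy, ← map_pow, hgk]
    rw [inv_pow, h3, hzi] at h2
    rw [mem_range_iff h]
    exact mul_inv_eq_iff_eq_mul.1 h2
  let pairsF : Finset Q := Finset.univ.filter fun a =>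
    invB (toV a) = true ∧ invB (toV (a⁻¹ * el j)) = true
  have hpc : pairsF.card = npairs j := by
    rw [← pairs_spec j hj, Finset.card_filter, Finset.card_filter, ← sum_toV]
    refine Finset.sum_congr rfl fun a _ => ?_
    rw [toV_mul, toV_inv, toV_el]
  let toF : {p : G × G // p.1 * z * p.1⁻¹ * (p.2 * z * p.2⁻¹) = y} →
      Σ a : ↥pairsF, {c : G // c * z * c⁻¹ = ψ a.1} × {c : G // c * z * c⁻¹ = ψ (a.1⁻¹ * el j)} := fun p => by
    have hr : p.1.1 * z * p.1.1⁻¹ ∈ ψ.range :=
      hin _ _ (isConj_iff.2 ⟨_, rfl⟩) (isConj_iff.2 ⟨_, rfl⟩) p.2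
    refine ⟨⟨hr.choose, ?_⟩, ⟨p.1.1, hr.choose_spec.symm⟩, ⟨p.1.2, ?_⟩⟩
    · have e2 : p.1.2 * z * p.1.2⁻¹ = ψ (hr.choose⁻¹ * el j) := by
        rw [map_mul, map_inv, hr.choose_spec, eq_inv_mul_iff_mul_eq]; exact p.2
      exact Finset.mem_filter.2 ⟨Finset.mem_univ _, (hK _).1 (isConj_iff.2 ⟨_, hr.choose_spec.symm⟩),
        (hK _).1 (isConj_iff.2 ⟨_, e2⟩)⟩
    · show p.1.2 * z * p.1.2⁻¹ = ψ (hr.choose⁻¹ * el j)
      rw [map_mul, map_inv, hr.choose_spec, eq_inv_mul_iff_mul_eq]; exact p.2
  have htoF : Function.Bijective toF := by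
    constructor
    · intro p q e
      have e1 := congrArg (fun s => ((s.2.1 : G), (s.2.2 : G))) e
      exact Subtype.ext e1
    · rintro ⟨⟨a, ha⟩, ⟨x, hx⟩, ⟨w, hw⟩⟩
      refine ⟨⟨(x, w), ?_⟩, ?_⟩
      · show x * z * x⁻¹ * (w * z * w⁻¹) = y
        rw [hx, hw, map_mul, map_inv, mul_inv_cancel_left]
      · have hr : x * z * x⁻¹ ∈ ψ.range := ⟨a, hx.symm⟩
        obtain rfl : hr.choose = a := h.inj (hr.choose_spec.trans hx)
        rfl
  rw [Nat.card_congr (Equiv.ofBijective toF htoF), Nat.card_sigma,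
    Finset.sum_congr rfl fun a _ => by
      rw [Nat.card_prod, hfib _ ((hK _).2 (Finset.mem_filter.1 a.2).2.1),
        hfib _ ((hK _).2 (Finset.mem_filter.1 a.2).2.2)],
    Finset.sum_const, Finset.card_univ, Fintype.card_coe, hpc, smul_eq_mul]
  ring

end Cfsg.Agent.Invol.GL23
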