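import Mathlib
import Cfsg.Agent.Lib.Invol.GLTwoThreeEmbed
import Cfsg.Agent.Lib.Block.ClassMul
import Cfsg.Agent.Lib.Block.Central
import Cfsg.Agent.Lib.Char.Det

/-!
Involution centralizer `GL(2,3)`: the group has order 5616 or 7920.
-/

set_option autoImplicit false
set_option maxRecDepth 100000
set_option linter.style.haveILetI false

namespace Cfsg.Agent.Invol.GL23

open scoped ComplexConjugate
open Cfsg Cfsg.Agent.Char Cfsg.Agent.Block

universe u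

/-! ### Integer vectors of small norm -/

theorem small_value {v k : ℤ} (h : v * v ≤ k) (hk : k ≤ 3) : v = 0 ∨ v = 1 ∨ v = -1 := by
  have h1 : -2 < v ∧ v < 2 := ⟨by nlinarith, by nlinarith⟩
  omega

theorem zero_outside {ι : Type*} [DecidableEq ι] {s t : Finset ι} (hst : s ⊆ t) (f : ι → ℤ) {k : ℤ}
    (ht : ∑ i ∈ t, f i * f i = k) (hs : ∑ i ∈ s, f i * f i = k) : ∀ i ∈ t, i ∉ s → f i = 0 := by
  intro i hi hni
  have h := Finset.sum_sdiff hst (f := fun i => f i * f i)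
  rw [hs, ht] at h
  have h0 : ∑ i ∈ t \ s, f i * f i = 0 := by linarith
  exact mul_self_eq_zero.1
    ((Finset.sum_eq_zero_iff_of_nonneg fun i _ => mul_self_nonneg (f i)).1 h0 i (Finset.mem_sdiff.2 ⟨hi, hni⟩))

theorem on_set {ι : Type*} [DecidableEq ι] (t : Finset ι) (f : ι → ℤ) {k : ℤ} (hk : k ≤ 3)
    (h : ∑ i ∈ t, f i * f i = k) :
    (∀ i ∈ t, f i = 0 ∨ f i = 1 ∨ f i = -1) ∧ ((t.filter fun i => f i ≠ 0).card : ℤ) = k := by
  have hv : ∀ i ∈ t, f i = 0 ∨ f i = 1 ∨ f i = -1 := fun i hi =>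
    small_value (h ▸ Finset.single_le_sum (f := fun i => f i * f i) (fun j _ => mul_self_nonneg _) hi) hk
  refine ⟨hv, ?_⟩
  rw [← h, Finset.card_filter, Nat.cast_sum]
  refine Finset.sum_congr rfl fun i hi => ?_
  rcases hv i hi with e | e | e <;> simp [e]

theorem on_one {ι : Type*} [DecidableEq ι] (t : Finset ι) (f : ι → ℤ) (h : ∑ i ∈ t, f i * f i = 1) :
    ∃ r ∈ t, (f r = 1 ∨ f r = -1) ∧ ∀ i ∈ t, i ≠ r → f i = 0 := by
  obtain ⟨hv, hc⟩ := on_set t f (by norm_num) h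
  obtain ⟨r, hr⟩ := Finset.card_eq_one.1 (show (t.filter fun i => f i ≠ 0).card = 1 by omega)
  have hm : r ∈ t.filter fun i => f i ≠ 0 := by rw [hr]; simp
  rw [Finset.mem_filter] at hm
  refine ⟨r, hm.1, (hv r hm.1).resolve_left hm.2, fun i hi hne => ?_⟩
  by_contra h0
  have : i ∈ t.filter fun i => f i ≠ 0 := Finset.mem_filter.2 ⟨hi, h0⟩
  rw [hr, Finset.mem_singleton] at this
  exact hne this

theorem on_two {ι : Type*} [DecidableEq ι] (t : Finset ι) (f : ι → ℤ) (h : ∑ i ∈ t, f i * f i = 2) :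
    ∃ p q, p ∈ t ∧ q ∈ t ∧ p ≠ q ∧ (f p = 1 ∨ f p = -1) ∧ (f q = 1 ∨ f q = -1) ∧
      ∀ i ∈ t, i ≠ p → i ≠ q → f i = 0 := by
  obtain ⟨hv, hc⟩ := on_set t f (by norm_num) h
  obtain ⟨p, q, hpq, hr⟩ := Finset.card_eq_two.1 (show (t.filter fun i => f i ≠ 0).card = 2 by omega)
  have hp : p ∈ t.filter fun i => f i ≠ 0 := by rw [hr]; simp
  have hq : q ∈ t.filter fun i => f i ≠ 0 := by rw [hr]; simp
  rw [Finset.mem_filter] at hp hq
  refine ⟨p, q, hp.1, hq.1, hpq, (hv p hp.1).resolve_left hp.2, (hv q hq.1).resolve_left hq.2,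
    fun i hi hip hiq => ?_⟩
  by_contra h0
  have : i ∈ t.filter fun i => f i ≠ 0 := Finset.mem_filter.2 ⟨hi, h0⟩
  rw [hr] at this
  simp [hip, hiq] at this

theorem sum_support {ι M : Type*} [Fintype ι] [DecidableEq ι] [AddCommMonoid M] (s : Finset ι) (f : ι → M)
    (hf : ∀ i, i ∉ s → f i = 0) : ∑ i, f i = ∑ i ∈ s, f i :=
  (Finset.sum_subset (Finset.subset_univ s) fun i _ hi => hf i hi).symm

theorem sum_erase_two {ι : Type*} [Fintype ι] [DecidableEq ι] (f : ι → ℤ) {p q : ι} (h : p ≠ q) :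
    ∑ i ∈ (Finset.univ.erase p).erase q, f i = ∑ i, f i - f p - f q := by
  rw [Finset.sum_erase_eq_sub (Finset.mem_erase.2 ⟨h.symm, Finset.mem_univ q⟩),
    Finset.sum_erase_eq_sub (Finset.mem_univ p)]

/-- An abstract configuration of five coefficient functions. -/
structure Cfg (ι : Type*) [Fintype ι] [DecidableEq ι] (o : ι) (n : ι → ℤ) (a : Fin 5 → ι → ℤ) : Prop where
  pos : ∀ i, 0 < n i
  n_o : n o = 1
  a_o : ∀ k, a k o = ![1, 1, 0, 0, 0] k
  dot : ∀ k l, ∑ i, a k i * a l i = gram k l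
  deg : ∀ k, ∑ i, a k i * n i = 0

/-- The shape of a configuration. -/
structure Shape {ι : Type*} [Fintype ι] [DecidableEq ι] (o : ι) (n : ι → ℤ) (a : Fin 5 → ι → ℤ)
    (th e1 e2 ps p1 p2 p3 : ι) (ε δ δ1 δ2 δ3 : ℤ) : Prop where
  sign : (ε = 1 ∨ ε = -1) ∧ (δ = 1 ∨ δ = -1) ∧ (δ1 = 1 ∨ δ1 = -1) ∧ (δ2 = 1 ∨ δ2 = -1) ∧ (δ3 = 1 ∨ δ3 = -1)
  v_th : ∀ k, a k th = ε * ![1, 1, 1, 1, 1] k
  v_e1 : ∀ k, a k e1 = -ε * ![0, 0, 0, 1, 0] k
  v_e2 : ∀ k, a k e2 = -ε * ![0, 0, 0, 0, 1] k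
  v_ps : ∀ k, a k ps = δ * ![0, 1, 0, 0, 0] k
  v_p1 : ∀ k, a k p1 = δ1 * ![1, 0, 1, 0, 0] k
  v_p2 : ∀ k, a k p2 = δ2 * ![0, 0, 1, 0, 0] k
  v_p3 : ∀ k, a k p3 = δ3 * ![1, 0, 0, 0, 0] k
  other : ∀ i, i ≠ o → i ≠ th → i ≠ e1 → i ≠ e2 → i ≠ ps → i ≠ p1 → i ≠ p2 → i ≠ p3 → ∀ k, a k i = 0
  deg_e : n e1 = n th ∧ n e2 = n th
  deg_ps : 1 + ε * n th + δ * n ps = 0
  deg_p2 : ε * n th + δ1 * n p1 + δ2 * n p2 = 0
  deg_p3 : 1 + ε * n th + δ1 * n p1 + δ3 * n p3 = 0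

theorem pick {v w w' ε : ℤ} (hε : ε = 1 ∨ ε = -1) (hv : v = 0 ∨ v = 1 ∨ v = -1)
    (hw : w = 0 ∨ w = 1 ∨ w = -1) (hw' : w' = 0 ∨ w' = 1 ∨ w' = -1) (h : ε * (v - w) = 1)
    (h' : ε * (v - w') = 1) : (v = ε ∧ w = 0 ∧ w' = 0) ∨ (v = 0 ∧ w = -ε ∧ w' = -ε) := by
  rcases hε with rfl | rfl <;> omega

theorem pick_four {v u ε δ : ℤ} (hε : ε = 1 ∨ ε = -1) (hδ : δ = 1 ∨ δ = -1)
    (h : ε * v + δ * u = 1) : (v = ε → u = 0) ∧ (v = 0 → u = δ) := by
  rcases hε with rfl | rfl <;> rcases hδ with rfl | rfl <;> omega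

theorem share {u v c d : ℤ} (hu : u = 1 ∨ u = -1) (hv : v = 1 ∨ v = -1) (hc : c = 0 ∨ c = 1 ∨ c = -1)
    (hd : d = 0 ∨ d = 1 ∨ d = -1) (h : u * c + v * d = 1) : (c = u ∧ d = 0) ∨ (d = v ∧ c = 0) := by
  rcases hu with rfl | rfl <;> rcases hv with rfl | rfl <;> omega

theorem opposite {u v n m : ℤ} (hu : u = 1 ∨ u = -1) (hv : v = 1 ∨ v = -1) (hn : 0 < n) (hm : 0 < m)
    (h : u * n + v * m = 0) : v = -u ∧ m = n := by
  rcases hu with rfl | rfl <;> rcases hv with rfl | rfl <;> omega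

/-- Two vectors of norm two. -/
theorem pair_shape {ι : Type*} [Fintype ι] [DecidableEq ι] {n : ι → ℤ} {f g : ι → ℤ} (hn : ∀ i, 0 < n i)
    (hf : ∑ i, f i * f i = 2) (hg : ∑ i, g i * g i = 2) (hfg : ∑ i, f i * g i = 1)
    (hfn : ∑ i, f i * n i = 0) (hgn : ∑ i, g i * n i = 0) :
    ∃ th e1 e2 ε, (ε = 1 ∨ ε = -1) ∧ th ≠ e1 ∧ th ≠ e2 ∧ e1 ≠ e2 ∧
      (f th = ε ∧ f e1 = -ε ∧ ∀ i, i ≠ th → i ≠ e1 → f i = 0) ∧
      (g th = ε ∧ g e2 = -ε ∧ ∀ i, i ≠ th → i ≠ e2 → g i = 0) ∧ n e1 = n th ∧ n e2 = n th := by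
  obtain ⟨p, q, -, -, hpq, hp, hq, hf0⟩ := on_two Finset.univ f hf
  obtain ⟨r, s, -, -, hrs, hr, hs, hg0⟩ := on_two Finset.univ g hg
  have hsum : ∀ h : ι → ℤ, ∑ i, f i * h i = f p * h p + f q * h q := fun h => by
    rw [sum_support {p, q} _ fun i hi => by
      simp only [Finset.mem_insert, Finset.mem_singleton, not_or] at hi
      rw [hf0 i (Finset.mem_univ i) hi.1 hi.2, zero_mul], Finset.sum_pair hpq]
  have hsumg : ∀ h : ι → ℤ, ∑ i, g i * h i = g r * h r + g s * h s := fun h => by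
    rw [sum_support {r, s} _ fun i hi => by
      simp only [Finset.mem_insert, Finset.mem_singleton, not_or] at hi
      rw [hg0 i (Finset.mem_univ i) hi.1 hi.2, zero_mul], Finset.sum_pair hrs]
  rw [hsum] at hfn hfg
  rw [hsumg] at hgn
  obtain ⟨hqv, hnq⟩ := opposite hp hq (hn p) (hn q) hfn
  obtain ⟨hsv, hns⟩ := opposite hr hs (hn r) (hn s) hgn
  have hgv : ∀ i, g i = 0 ∨ g i = 1 ∨ g i = -1 := fun i => (on_set Finset.univ g (by norm_num) hg).1 i (Finset.mem_univ i)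
  have fin : ∀ th e1 : ι, th ≠ e1 → (f th = 1 ∨ f th = -1) → f e1 = -f th →
      (∀ i, i ≠ th → i ≠ e1 → f i = 0) → n e1 = n th → g th = f th → g e1 = 0 →
      ∃ th e1 e2 ε, (ε = 1 ∨ ε = -1) ∧ th ≠ e1 ∧ th ≠ e2 ∧ e1 ≠ e2 ∧
        (f th = ε ∧ f e1 = -ε ∧ ∀ i, i ≠ th → i ≠ e1 → f i = 0) ∧
        (g th = ε ∧ g e2 = -ε ∧ ∀ i, i ≠ th → i ≠ e2 → g i = 0) ∧ n e1 = n th ∧ n e2 = n th := by
    intro th e1 hne h1 h2 h3 h4 h5 h6
    by_cases hrt : th = r
    · subst hrt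
      refine ⟨th, e1, s, f th, h1, hne, hrs, ?_, ⟨rfl, h2, h3⟩,
        ⟨h5, by rw [hsv, h5], fun i a b => hg0 i (Finset.mem_univ i) a b⟩, h4, hns⟩
      intro e; rw [e] at h6; rw [h6] at hs; omega
    · have hts : th = s := by
        by_contra hts
        have h0 := hg0 th (Finset.mem_univ th) hrt hts
        rw [h5] at h0
        rw [h0] at h1
        omega
      subst hts
      refine ⟨th, e1, r, f th, h1, hne, hrs.symm, ?_, ⟨rfl, h2, h3⟩,
        ⟨h5, by rw [← h5, hsv, neg_neg], fun i a b => hg0 i (Finset.mem_univ i) b a⟩, h4, hns.symm⟩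
      intro e; rw [e] at h6; rw [h6] at hr; omega
  rcases share hp hq (hgv p) (hgv q) hfg with ⟨e, e'⟩ | ⟨e, e'⟩
  · exact fin p q hpq hp hqv (fun i a b => hf0 i (Finset.mem_univ i) a b) hnq e e'
  · exact fin q p hpq.symm hq (by rw [hqv, neg_neg]) (fun i a b => hf0 i (Finset.mem_univ i) b a) hnq.symm e e'

theorem Cfg.shape {ι : Type*} [Fintype ι] [DecidableEq ι] {o : ι} {n : ι → ℤ} {a : Fin 5 → ι → ℤ}
    (C : Cfg ι o n a) :
    ∃ th e1 e2 ps p1 p2 p3 ε δ δ1 δ2 δ3, Shape o n a th e1 e2 ps p1 p2 p3 ε δ δ1 δ2 δ3 := by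
  have a0 : a 0 o = 1 := C.a_o 0
  have a1 : a 1 o = 1 := C.a_o 1
  have a2 : a 2 o = 0 := C.a_o 2
  have a3 : a 3 o = 0 := C.a_o 3
  have a4 : a 4 o = 0 := C.a_o 4
  obtain ⟨th, e1, e2, ε, hε, hte1, hte2, hee, ⟨f3t, f3e, f30⟩, ⟨f4t, f4e, f40⟩, ne1, ne2⟩ :=
    pair_shape C.pos (C.dot 3 3) (C.dot 4 4) (C.dot 3 4) (C.deg 3) (C.deg 4)
  have hε0 : ε ≠ 0 := by rcases hε with rfl | rfl <;> decide
  have hot : o ≠ th := fun e => hε0 (by rw [← f3t, ← e, a3])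
  have hoe1 : o ≠ e1 := fun e => hε0 (by rw [← neg_eq_zero, ← f3e, ← e, a3])
  have hoe2 : o ≠ e2 := fun e => hε0 (by rw [← neg_eq_zero, ← f4e, ← e, a4])
  have h3 : ∀ k, ε * (a k th - a k e1) = gram k 3 := fun k => by
    rw [← C.dot k 3, sum_support {th, e1} _ fun i hi => by
      simp only [Finset.mem_insert, Finset.mem_singleton, not_or] at hi
      rw [f30 i hi.1 hi.2, mul_zero], Finset.sum_pair hte1, f3t, f3e]
    ring
  have h4 : ∀ k, ε * (a k th - a k e2) = gram k 4 := fun k => by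
    rw [← C.dot k 4, sum_support {th, e2} _ fun i hi => by
      simp only [Finset.mem_insert, Finset.mem_singleton, not_or] at hi
      rw [f40 i hi.1 hi.2, mul_zero], Finset.sum_pair hte2, f4t, f4e]
    ring
  -- the second
  have hv1 : ∀ i, a 1 i = 0 ∨ a 1 i = 1 ∨ a 1 i = -1 := fun i =>
    (on_set Finset.univ (a 1) (k := 3) (by norm_num) (C.dot 1 1)).1 i (Finset.mem_univ i)
  obtain ⟨b1t, b1e1, b1e2⟩ : a 1 th = ε ∧ a 1 e1 = 0 ∧ a 1 e2 = 0 := by
    refine (pick hε (hv1 th) (hv1 e1) (hv1 e2) (h3 1) (h4 1)).resolve_right fun ⟨q1, q2, q3⟩ => ?_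
    have hz := zero_outside (Finset.subset_univ ({o, e1, e2} : Finset ι)) (a 1) (k := 3) (C.dot 1 1) (by
      rw [Finset.sum_insert (by simp [hoe1, hoe2]), Finset.sum_pair hee, a1, q2, q3]
      rcases hε with rfl | rfl <;> norm_num)
    have hd := C.deg 1
    rw [sum_support {o, e1, e2} _ fun i hi => by rw [hz i (Finset.mem_univ i) hi, zero_mul],
      Finset.sum_insert (by simp [hoe1, hoe2]), Finset.sum_pair hee, a1, q2, q3, C.n_o, ne1, ne2] at hd
    rcases hε with rfl | rfl <;> omega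
  obtain ⟨ps, hpsm, hps, b10⟩ := on_one ((Finset.univ.erase o).erase th) (a 1) (by
    rw [sum_erase_two _ hot, C.dot 1 1, a1, b1t]
    rcases hε with rfl | rfl <;> decide)
  simp only [Finset.mem_erase, Finset.mem_univ, and_true] at hpsm
  obtain ⟨hpst, hpso⟩ := hpsm
  have b10' : ∀ i, i ≠ o → i ≠ th → i ≠ ps → a 1 i = 0 := fun i x y z => b10 i (by simp [x, y]) z
  have hpse1 : ps ≠ e1 := fun e => by rw [e, b1e1] at hps; norm_num at hps
  have hpse2 : ps ≠ e2 := fun e => by rw [e, b1e2] at hps; norm_num at hps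
  generalize hδ : a 1 ps = δ at hps
  have hδ0 : δ ≠ 0 := by rcases hps with rfl | rfl <;> decide
  have h1 : ∀ f : ι → ℤ, ∑ i, a 1 i * f i = f o + (ε * f th + δ * f ps) := fun f => by
    rw [sum_support {o, th, ps} _ fun i hi => by
      simp only [Finset.mem_insert, Finset.mem_singleton, not_or] at hi
      rw [b10' i hi.1 hi.2.1 hi.2.2, zero_mul],
      Finset.sum_insert (by simp [hot, hpso.symm]), Finset.sum_pair hpst.symm, a1, b1t, hδ, one_mul]
  have hd1 := C.deg 1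
  rw [h1, C.n_o] at hd1
  -- the first
  have hA : ∑ i ∈ Finset.univ.erase o, a 0 i * a 0 i = 3 := by
    rw [Finset.sum_erase_eq_sub (Finset.mem_univ o), C.dot 0 0, a0]; rfl
  have hv0 : ∀ i, i ≠ o → a 0 i = 0 ∨ a 0 i = 1 ∨ a 0 i = -1 := fun i hi =>
    (on_set _ (a 0) (k := 3) (by norm_num) hA).1 i (by simp [hi])
  have h01 : ε * a 0 th + δ * a 0 ps = 1 := by
    have := C.dot 1 0
    rw [h1, a0] at this
    exact add_left_cancel (this.trans (show gram 1 0 = 1 + 1 from rfl))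
  obtain ⟨c0t, c0e1, c0e2, c0ps⟩ : a 0 th = ε ∧ a 0 e1 = 0 ∧ a 0 e2 = 0 ∧ a 0 ps = 0 := by
    rcases pick hε (hv0 th hot.symm) (hv0 e1 hoe1.symm) (hv0 e2 hoe2.symm) (h3 0) (h4 0) with
      ⟨q1, q2, q3⟩ | ⟨q1, q2, q3⟩
    · exact ⟨q1, q2, q3, (pick_four hε hps h01).1 q1⟩
    exfalso
    have q4 := (pick_four hε hps h01).2 q1
    have hz := zero_outside (Finset.subset_univ ({o, e1, e2, ps} : Finset ι)) (a 0) (k := 4) (C.dot 0 0) (by
      rw [Finset.sum_insert (by simp [hoe1, hoe2, hpso.symm]), Finset.sum_insert (by simp [hee, hpse1.symm]),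
        Finset.sum_pair hpse2.symm, a0, q2, q3, q4]
      rcases hε with rfl | rfl <;> rcases hps with rfl | rfl <;> norm_num)
    have hd := C.deg 0
    rw [sum_support {o, e1, e2, ps} _ fun i hi => by rw [hz i (Finset.mem_univ i) hi, zero_mul],
      Finset.sum_insert (by simp [hoe1, hoe2, hpso.symm]), Finset.sum_insert (by simp [hee, hpse1.symm]),
      Finset.sum_pair hpse2.symm, a0, q2, q3, q4, C.n_o, ne1, ne2] at hd
    have := C.pos th
    rcases hε with rfl | rfl <;> linarith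
  obtain ⟨x, y, hxm, hym, hxy, hxv, hyv, c00⟩ := on_two ((Finset.univ.erase o).erase th) (a 0) (by
    rw [sum_erase_two _ hot, C.dot 0 0, a0, c0t]
    rcases hε with rfl | rfl <;> decide)
  simp only [Finset.mem_erase, Finset.mem_univ, and_true] at hxm hym
  have h0 : ∀ f : ι → ℤ, ∑ i, a 0 i * f i = f o + (ε * f th + (a 0 x * f x + a 0 y * f y)) := fun f => by
    rw [sum_support {o, th, x, y} _ fun i hi => by
      simp only [Finset.mem_insert, Finset.mem_singleton, not_or] at hi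
      rw [c00 i (by simp [hi.1, hi.2.1]) hi.2.2.1 hi.2.2.2, zero_mul],
      Finset.sum_insert (by simp [hot, hxm.2.symm, hym.2.symm]),
      Finset.sum_insert (by simp [hxm.1.symm, hym.1.symm]), Finset.sum_pair hxy, a0, c0t, one_mul]
  -- the third
  have hv2 : ∀ i, a 2 i = 0 ∨ a 2 i = 1 ∨ a 2 i = -1 := fun i =>
    (on_set Finset.univ (a 2) (k := 3) (by norm_num) (C.dot 2 2)).1 i (Finset.mem_univ i)
  have h21 : ε * a 2 th + δ * a 2 ps = 1 := by
    have := C.dot 1 2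
    rw [h1, a2, zero_add] at this
    exact this
  obtain ⟨d2t, d2e1, d2e2, d2ps⟩ : a 2 th = ε ∧ a 2 e1 = 0 ∧ a 2 e2 = 0 ∧ a 2 ps = 0 := by
    rcases pick hε (hv2 th) (hv2 e1) (hv2 e2) (h3 2) (h4 2) with ⟨q1, q2, q3⟩ | ⟨q1, q2, q3⟩
    · exact ⟨q1, q2, q3, (pick_four hε hps h21).1 q1⟩
    exfalso
    have q4 := (pick_four hε hps h21).2 q1
    have hz := zero_outside (Finset.subset_univ ({e1, e2, ps} : Finset ι)) (a 2) (k := 3) (C.dot 2 2) (by
      rw [Finset.sum_insert (by simp [hee, hpse1.symm]), Finset.sum_pair hpse2.symm, q2, q3, q4]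
      rcases hε with rfl | rfl <;> rcases hps with rfl | rfl <;> norm_num)
    have h02 := C.dot 0 2
    rw [Finset.sum_eq_zero fun i _ => ?_] at h02
    · exact absurd h02 (by decide)
    · by_cases hi : i ∈ ({e1, e2, ps} : Finset ι)
      · simp only [Finset.mem_insert, Finset.mem_singleton] at hi
        rcases hi with e | e | e <;> subst e
        · rw [c0e1, zero_mul]
        · rw [c0e2, zero_mul]
        · rw [c0ps, zero_mul]
      · rw [hz i (Finset.mem_univ i) hi, mul_zero]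
  have h02 : a 0 x * a 2 x + a 0 y * a 2 y = 1 := by
    have := C.dot 0 2
    rw [h0, a2, d2t, zero_add] at this
    have hee' : ε * ε = 1 := by rcases hε with rfl | rfl <;> rfl
    rw [hee'] at this
    exact add_left_cancel (this.trans (show gram 0 2 = 1 + 1 from rfl))
  obtain ⟨p1, p3, h13, hp1m, hp3m, hp1v, hp3v, e0, e00, d21, d23⟩ : ∃ p1 p3, p1 ≠ p3 ∧
      (p1 ≠ th ∧ p1 ≠ o) ∧ (p3 ≠ th ∧ p3 ≠ o) ∧ (a 0 p1 = 1 ∨ a 0 p1 = -1) ∧ (a 0 p3 = 1 ∨ a 0 p3 = -1) ∧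
      (∀ f : ι → ℤ, ∑ i, a 0 i * f i = f o + (ε * f th + (a 0 p1 * f p1 + a 0 p3 * f p3))) ∧
      (∀ i, i ≠ o → i ≠ th → i ≠ p1 → i ≠ p3 → a 0 i = 0) ∧ a 2 p1 = a 0 p1 ∧ a 2 p3 = 0 := by
    rcases share hxv hyv (hv2 x) (hv2 y) h02 with ⟨q, q'⟩ | ⟨q, q'⟩
    · exact ⟨x, y, hxy, hxm, hym, hxv, hyv, h0, fun i u v w z => c00 i (by simp [u, v]) w z, q, q'⟩
    · exact ⟨y, x, hxy.symm, hym, hxm, hyv, hxv, fun f => by rw [h0]; ring,
        fun i u v w z => c00 i (by simp [u, v]) z w, q, q'⟩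
  obtain ⟨p2, hp2m, hp2v, d20⟩ := on_one ((Finset.univ.erase th).erase p1) (a 2) (by
    rw [sum_erase_two _ hp1m.1.symm, C.dot 2 2, d2t, d21]
    rcases hε with rfl | rfl <;> rcases hp1v with q | q <;> rw [q] <;> decide)
  simp only [Finset.mem_erase, Finset.mem_univ, and_true] at hp2m
  have d20' : ∀ i, i ≠ th → i ≠ p1 → i ≠ p2 → a 2 i = 0 := fun i u v w => d20 i (by simp [u, v]) w
  have hn0 : ∀ {v : ℤ}, (v = 1 ∨ v = -1) → v ≠ 0 := fun hv => by rcases hv with rfl | rfl <;> decide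
  have hp1e : p1 ≠ e1 ∧ p1 ≠ e2 ∧ p1 ≠ ps :=
    ⟨fun e => hn0 hp1v (by rw [e, c0e1]), fun e => hn0 hp1v (by rw [e, c0e2]), fun e => hn0 hp1v (by rw [e, c0ps])⟩
  have hp3e : p3 ≠ e1 ∧ p3 ≠ e2 ∧ p3 ≠ ps :=
    ⟨fun e => hn0 hp3v (by rw [e, c0e1]), fun e => hn0 hp3v (by rw [e, c0e2]), fun e => hn0 hp3v (by rw [e, c0ps])⟩
  have hp2e : p2 ≠ o ∧ p2 ≠ e1 ∧ p2 ≠ e2 ∧ p2 ≠ ps ∧ p2 ≠ p3 :=
    ⟨fun e => hn0 hp2v (by rw [e, a2]), fun e => hn0 hp2v (by rw [e, d2e1]),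
      fun e => hn0 hp2v (by rw [e, d2e2]), fun e => hn0 hp2v (by rw [e, d2ps]),
      fun e => hn0 hp2v (by rw [e, d23])⟩
  refine ⟨th, e1, e2, ps, p1, p2, p3, ε, δ, a 0 p1, a 2 p2, a 0 p3, ⟨hε, hps, hp1v, hp2v, hp3v⟩, ?_, ?_, ?_, ?_, ?_,
    ?_, ?_, ?_, ⟨ne1, ne2⟩, ?_, ?_, ?_⟩
  · intro k; fin_cases k <;> simp [c0t, b1t, d2t, f3t, f4t]
  · intro k; fin_cases k <;> simp [c0e1, b1e1, d2e1, f3e, f40 e1 hte1.symm hee]
  · intro k; fin_cases k <;> simp [c0e2, b1e2, d2e2, f4e, f30 e2 hte2.symm hee.symm]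
  · intro k
    fin_cases k <;> simp [c0ps, hδ, d2ps, f30 ps hpst hpse1, f40 ps hpst hpse2]
  · intro k
    fin_cases k <;> simp [d21, b10' p1 hp1m.2 hp1m.1 hp1e.2.2, f30 p1 hp1m.1 hp1e.1, f40 p1 hp1m.1 hp1e.2.1]
  · intro k
    fin_cases k <;> simp [e00 p2 hp2e.1 hp2m.2 hp2m.1 hp2e.2.2.2.2, b10' p2 hp2e.1 hp2m.2 hp2e.2.2.2.1,
      f30 p2 hp2m.2 hp2e.2.1, f40 p2 hp2m.2 hp2e.2.2.1]
  · intro k
    fin_cases k <;> simp [b10' p3 hp3m.2 hp3m.1 hp3e.2.2, d23, f30 p3 hp3m.1 hp3e.1, f40 p3 hp3m.1 hp3e.2.1]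
  · intro i ho ht u1 u2 us q1 q2 q3 k
    fin_cases k
    · exact e00 i ho ht q1 q3
    · exact b10' i ho ht us
    · exact d20' i ht q1 q2
    · exact f30 i ht u1
    · exact f40 i ht u2
  · linear_combination hd1
  · have hd := C.deg 2
    rw [sum_support {th, p1, p2} _ fun i hi => by
      simp only [Finset.mem_insert, Finset.mem_singleton, not_or] at hi
      rw [d20' i hi.1 hi.2.1 hi.2.2, zero_mul],
      Finset.sum_insert (by simp [hp1m.1.symm, hp2m.2.symm]), Finset.sum_pair hp2m.1.symm, d2t, d21] at hd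
    linear_combination hd
  · have hd := C.deg 0
    rw [e0, C.n_o] at hd
    linear_combination hd

/-! ### The group -/

variable {G : Type u} [Group G] [Fintype G] {ψ : Q →* G} (h : Emb ψ)
include h

theorem exists_coeff (χ : IrrCharacter G) (i : Fin 5) :
    ∃ n : ℤ, classInner (psiInd h i) (χ : G → ℂ) = (n : ℂ) := by
  rw [psiInd_inner h i (IsIrr.classFun χ.2)]
  exact intInner_Phi i _ (IsChar.comp ψ (IsIrr.isCharacter χ.2))

/-- The coefficients. -/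
noncomputable def co (i : Fin 5) (χ : IrrCharacter G) : ℤ := (exists_coeff h χ i).choose

theorem co_spec (i : Fin 5) (χ : IrrCharacter G) :
    classInner (psiInd h i) (χ : G → ℂ) = (co h i χ : ℂ) := (exists_coeff h χ i).choose_spec

theorem expansion (i : Fin 5) : psiInd h i = ∑ χ : IrrCharacter G, (co h i χ : ℂ) • (χ : G → ℂ) :=
  (classFunction_expansion (psiInd_classFun h i)).trans
    (Finset.sum_congr rfl fun χ _ => by rw [co_spec h i χ])

theorem cfg [DecidableEq (IrrCharacter G)] :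
    Cfg (IrrCharacter G) (trivialIrr G) (fun χ => (charDegree (χ : G → ℂ) : ℤ)) (co h) where
  pos χ := by
    obtain ⟨m, hm, he⟩ := IsIrr.one_eq_pos χ.2
    rw [charDeg_spec'] at he
    have : charDegree (χ : G → ℂ) = m := by exact_mod_cast he
    show (0 : ℤ) < (charDegree (χ : G → ℂ) : ℤ)
    omega
  n_o := by
    have h1 := charDeg_spec' (trivialIrr G)
    have h2 : (1 : ℂ) = (charDegree ((trivialIrr G : IrrCharacter G) : G → ℂ) : ℂ) := h1
    exact_mod_cast h2.symm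
  a_o k := by
    have h1 := co_spec h k (trivialIrr G)
    rw [psiInd_inner h k (IsIrr.classFun (trivialIrr G).2)] at h1
    have h2 := trivial_spec k
    rw [show (fun g : Q => ((trivialIrr G : IrrCharacter G) : G → ℂ) (ψ g)) = fun _ => 1 from rfl, h2] at h1
    exact_mod_cast h1.symm
  dot k l := by
    have h1 := psiInd_gram h k l
    rw [expansion h k, expansion h l, classInner_sum_sum] at h1
    simp only [map_intCast] at h1
    exact_mod_cast h1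
  deg k := by
    have h1 := psiInd_one h k
    rw [expansion h k, Finset.sum_apply] at h1
    simp only [Pi.smul_apply, smul_eq_mul, charDeg_spec'] at h1
    exact_mod_cast h1

/-- The values of a character on the roots. -/
theorem values (χ : IrrCharacter G) :
    (χ : G → ℂ) (ψ (el 1)) = ((4 * co h 0 χ + 2 * (co h 3 χ + co h 4 χ) - 3 * (co h 1 χ + co h 2 χ) : ℤ) : ℂ) ∧
      (χ : G → ℂ) (ψ (el 4)) = ((co h 1 χ + co h 2 χ : ℤ) : ℂ) ∧
      (χ : G → ℂ) (ψ (el 6)) + (χ : G → ℂ) (ψ (el 7)) = ((2 * (co h 1 χ - co h 2 χ) : ℤ) : ℂ) := by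
  set c : Fin 8 → ℂ := fun j => (χ : G → ℂ) (ψ (el j)) with hc
  have hm : ∀ i, (48 : ℂ)⁻¹ * ∑ j : Fin 8, (size j : ℂ) * (conj (tab i j) * c j) = (co h i χ : ℂ) := by
    intro i
    have h1 := co_spec h i χ
    rw [psiInd_inner h i (IsIrr.classFun χ.2)] at h1
    have hξ : (fun g : Q => (χ : G → ℂ) (ψ g)) = fun g => c (ty g) := funext fun g =>
      classFun_ty (IsChar.classFun (IsChar.comp ψ (IsIrr.isCharacter χ.2))) g
    rw [hξ, show Phi i = fun g => tab i (ty g) from rfl, classInner_ty] at h1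
    have h2 := congrArg conj h1
    simp only [map_mul, map_sum, map_inv₀, map_natCast, map_ofNat, Complex.conj_conj, map_intCast] at h2
    rw [← h2]
  have e0 := hm 0
  have e1 := hm 1
  have e2 := hm 2
  have e3 := hm 3
  have e4 := hm 4
  simp [Fin.sum_univ_eight, tab, size, conj_u, map_ofNat] at e0 e1 e2 e3 e4
  push_cast
  show c 1 = _ ∧ c 4 = _ ∧ c 6 + c 7 = _
  refine ⟨?_, ?_, ?_⟩
  · linear_combination 4 * e0 + 2 * (e3 + e4) - 3 * (e1 + e2)
  · linear_combination e1 + e2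
  · linear_combination 2 * e1 - 2 * e2

/-- The structure constants. -/
theorem class_sum (hO : pResidual 2 G = ⊤) {j : Fin 8} (hj : din j = true) :
    (Nat.card G : ℂ) * ∑ χ : IrrCharacter G,
      (χ : G → ℂ) (ψ neg) * (χ : G → ℂ) (ψ neg) / (χ : G → ℂ) 1 * conj ((χ : G → ℂ) (ψ (el j))) =
      (2304 * npairs j : ℕ) := by
  classical
  set z := ψ neg
  set y := ψ (el j)
  rw [← pairs h hO hj, Finset.mul_sum]
  have h1 : ∀ χ : IrrCharacter G, (Nat.card G : ℂ) * ((χ : G → ℂ) z * (χ : G → ℂ) z / (χ : G → ℂ) 1 *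
      conj ((χ : G → ℂ) y)) = ∑ k : G, (χ : G → ℂ) (z * (k * z * k⁻¹)) * conj ((χ : G → ℂ) y) := by
    intro χ
    rw [← Finset.sum_mul, sum_mul_conj]
    ring
  simp only [h1]
  rw [Finset.sum_comm]
  have h2 : ∀ k : G, ∑ χ : IrrCharacter G, (χ : G → ℂ) (z * (k * z * k⁻¹)) * conj ((χ : G → ℂ) y) =
      ((Nat.card {c : G // c * (z * (k * z * k⁻¹)) * c⁻¹ = y} : ℕ) : ℂ) := by
    intro k
    rw [sum_irr_mul_conj, card_conj_eq h]
    split_ifs with hc
    · obtain ⟨c, hc'⟩ := isConj_iff.1 hc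
      congr 1
      rw [← hc']
      exact Nat.card_congr ((MulAut.conj c).toEquiv.subtypeEquiv fun g => by
        show _ ↔ MulAut.conj c g ∈ _
        rw [Subgroup.mem_centralizer_singleton_iff, Subgroup.mem_centralizer_singleton_iff,
          ← MulAut.conj_apply c, ← map_mul, ← map_mul, EmbeddingLike.apply_eq_iff_eq]).symm
    · simp
  rw [Finset.sum_congr rfl fun k _ => h2 k, ← Nat.cast_sum, Nat.cast_inj, ← Nat.card_sigma]
  refine Nat.card_congr
    { toFun := fun s => ⟨(s.2.1, s.2.1 * s.1), ?_⟩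
      invFun := fun p => ⟨p.1.1⁻¹ * p.1.2, ⟨p.1.1, ?_⟩⟩
      left_inv := fun ⟨k, c⟩ => Sigma.subtype_ext (inv_mul_cancel_left _ _) rfl
      right_inv := fun p => Subtype.ext (Prod.ext rfl (mul_inv_cancel_left _ _)) }
  · refine Eq.trans ?_ s.2.2
    show s.2.1 * z * (s.2.1 : G)⁻¹ * (s.2.1 * s.1 * z * (s.2.1 * s.1)⁻¹) = _
    group
  · refine Eq.trans ?_ p.2
    show p.1.1 * (ψ neg * (p.1.1⁻¹ * p.1.2 * ψ neg * (p.1.1⁻¹ * p.1.2)⁻¹)) * p.1.1⁻¹ = _
    group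

/-- Values at the central involution have the parity of the degree. -/
theorem parity (χ : IrrCharacter G) {c : ℤ} (hc : (χ : G → ℂ) (ψ neg) = (c : ℂ)) :
    (2 : ℤ) ∣ (charDegree (χ : G → ℂ) : ℤ) - c := by
  classical
  obtain ⟨n, ρ, hρ, hχ, hn, -⟩ := IsIrr.exists_rep χ.2
  have hd : n = charDegree (χ : G → ℂ) :=
    Nat.cast_injective (R := ℂ) (hn.symm.trans (charDeg_spec' χ))
  obtain ⟨b, e, hb, he⟩ := exists_eigenbasis (ρ (ψ neg)) two_pos
    (by rw [← map_pow, ← map_pow, sq, neg_mul_neg, map_one, map_one])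
  have he' : ∀ i, e i = 1 ∨ e i = -1 := fun i => mul_self_eq_one_iff.1 (by rw [← sq]; exact he i)
  set m := (Finset.univ.filter fun i => ¬ e i = 1).card with hm
  have hval : (χ : G → ℂ) (ψ neg) = ((n : ℤ) - 2 * (m : ℤ) : ℤ) := by
    rw [← hχ]
    show LinearMap.trace ℂ _ (ρ (ψ neg)) = _
    rw [trace_of_eigenbasis (ρ (ψ neg)) b e hb,
      Finset.sum_congr rfl (g := fun i => (1 : ℂ) - 2 * (if ¬ e i = 1 then 1 else 0)) fun i _ => by
        rcases he' i with h | h <;> simp [h] <;> norm_num,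
      Finset.sum_sub_distrib, ← Finset.mul_sum, Finset.sum_boole, ← hm, Finset.sum_const,
      Finset.card_univ, Fintype.card_fin, Module.finrank_fin_fun, nsmul_eq_mul, mul_one]
    push_cast
    ring
  rw [hc] at hval
  have : c = (n : ℤ) - 2 * (m : ℤ) := by exact_mod_cast hval
  rw [← hd]
  exact ⟨m, by omega⟩

omit h in
theorem hom_neg_one_absurd (hO : pResidual 2 G = ⊤) (l : G →* ℂˣ) {g : G} (hg : (l g : ℂ) = -1) : False := by
  set m := Nat.card G / 2 ^ (Nat.card G).factorization 2 with hm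
  have hodd : ¬ 2 ∣ m := Nat.not_dvd_ordCompl Nat.prime_two Nat.card_pos.ne'
  let f : G →* ℂˣ := (powMonoidHom m).comp l
  have hle : pResidual 2 G ≤ f.ker := (Subgroup.closure_le _).2 fun x hx => by
    show l x ^ m = 1
    rw [← map_pow, orderOf_dvd_iff_pow_eq_one.1 (?_ : orderOf x ∣ m), map_one]
    refine Nat.Coprime.dvd_of_dvd_mul_left (Nat.Coprime.pow_right ((Nat.card G).factorization 2) hx) ?_
    rw [hm, Nat.ordProj_mul_ordCompl_eq_self]
    exact orderOf_dvd_natCard x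
  rw [hO] at hle
  have h1 : ((l g ^ m : ℂˣ) : ℂ) = 1 := by
    rw [show l g ^ m = 1 from hle (Subgroup.mem_top g), Units.val_one]
  rw [Units.val_pow_eq_pow_val, hg, (Nat.odd_iff.2 (by omega) : Odd m).neg_one_pow] at h1
  norm_num at h1

omit h in
theorem arith {N P D : ℤ} (hD : 0 < D) (h32 : ¬ 32 ∣ D) (h48 : 48 ∣ D) (hN : 2 ∣ N) (hP : ¬ 2 ∣ P)
    (hP1 : P ≠ 1 ∧ P ≠ -1) (hN0 : N ≠ 0) (hPN : (N - 8) * P + N * (N + 1) = 0)
    (hD' : D * (N - 2) ^ 2 = 4608 * N * (N + 1)) : D = 5616 ∨ D = 7920 := by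
  have h72 : N - 8 ∣ 72 := ⟨-(P + N + 9), by linear_combination hPN⟩
  have hb : -64 ≤ N ∧ N ≤ 80 := by
    have h1 := Int.le_of_dvd (by norm_num) h72
    have h2 := Int.le_of_dvd (by norm_num) ((neg_dvd).2 h72)
    omega
  have table : ∀ k ∈ Finset.range 145, ((k : ℤ) - 64) % 2 = 0 → ((k : ℤ) - 72) ≠ 0 →
      (72 : ℤ) % ((k : ℤ) - 72) = 0 →
      ∀ p : ℤ, p = -(((k : ℤ) - 64) * ((k : ℤ) - 63)) / ((k : ℤ) - 72) → p % 2 ≠ 0 → p ≠ 1 → p ≠ -1 →
      (k : ℤ) - 64 ≠ 0 → (k : ℤ) - 66 ≠ 0 →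
      ∀ d : ℤ, d = 4608 * ((k : ℤ) - 64) * ((k : ℤ) - 63) / ((k : ℤ) - 66) ^ 2 →
      d * ((k : ℤ) - 66) ^ 2 = 4608 * ((k : ℤ) - 64) * ((k : ℤ) - 63) → d % 48 = 0 → d % 32 ≠ 0 →
      d = 5616 ∨ d = 7920 := by
    intro k hk
    simp only [forall_eq]
    revert k hk
    decide +kernel
  have hN8 : N - 8 ≠ 0 := fun e => by rw [e, show N = 8 by omega] at hPN; omega
  have hN2 : N - 2 ≠ 0 := fun e => by rw [e, show N = 2 by omega] at hD'; omega
  obtain ⟨k, hk⟩ : ∃ k : ℕ, (k : ℤ) = N + 64 := ⟨(N + 64).toNat, by omega⟩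
  have e1 : N = (k : ℤ) - 64 := by omega
  have e2 : N + 1 = (k : ℤ) - 63 := by omega
  have e3 : N - 8 = (k : ℤ) - 72 := by omega
  have e4 : N - 2 = (k : ℤ) - 66 := by omega
  refine table k (Finset.mem_range.2 (by omega)) (by omega) (by omega) ?_ P ?_ (by omega) hP1.1 hP1.2
    (by omega) (by omega) D ?_ ?_ (by omega) (by omega)
  · rw [← e3]; exact Int.emod_eq_zero_of_dvd h72
  · rw [← e1, ← e2, ← e3, show -(N * (N + 1)) = P * (N - 8) by linear_combination -hPN,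
      Int.mul_ediv_cancel _ hN8]
  · rw [← e1, ← e2, ← e4, ← hD', Int.mul_ediv_cancel _ (pow_ne_zero 2 hN2)]
  · rw [← e1, ← e2, ← e4]; exact hD'

omit h in
/-- A group without subgroup of index two with involution centralizer `GL(2,3)`. -/
theorem natCard_of_centralizer {G : Type u} [Group G] [Finite G] (hO : pResidual 2 G = ⊤) {t : G}
    (ht : orderOf t = 2) (e : ↥(Subgroup.centralizer ({t} : Set G)) ≃* Q) :
    Nat.card G = 5616 ∨ Nat.card G = 7920 := by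
  classical
  cases nonempty_fintype G
  obtain ⟨ψ, h, -⟩ := exists_emb ht e
  obtain ⟨th, e1, e2, ps, p1, p2, p3, ε, δ, δ1, δ2, δ3, S⟩ := (cfg h).shape
  obtain ⟨hε, hδ, hδ1, hδ2, hδ3⟩ := S.sign
  have hpos := (cfg h).pos
  set n : IrrCharacter G → ℤ := fun χ => (charDegree (χ : G → ℂ) : ℤ) with hn
  set cz : IrrCharacter G → ℤ :=
    fun χ => 4 * co h 0 χ + 2 * (co h 3 χ + co h 4 χ) - 3 * (co h 1 χ + co h 2 χ) with hcz
  have hz : ∀ χ : IrrCharacter G, (χ : G → ℂ) (ψ neg) = (cz χ : ℂ) := fun χ => (values h χ).1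
  have vo : cz (trivialIrr G) = 1 := by
    simp [hcz, (cfg h).a_o]
  have vth : cz th = 2 * ε := by simp [hcz, S.v_th]; ring
  have vps : cz ps = -3 * δ := by simp [hcz, S.v_ps]
  have vp1 : cz p1 = δ1 := by simp [hcz, S.v_p1]; ring
  have vp2 : cz p2 = -3 * δ2 := by simp [hcz, S.v_p2]
  -- the two equations
  have eq4 := class_sum h hO (j := 4) rfl
  have eq6 := class_sum h hO (j := 6) rfl
  have eq7 := class_sum h hO (j := 7) rfl
  set t4 : IrrCharacter G → ℂ := fun χ =>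
    ((cz χ * cz χ * (co h 1 χ + co h 2 χ) : ℤ) : ℂ) / (n χ : ℂ) with ht4
  set t8 : IrrCharacter G → ℂ := fun χ =>
    ((cz χ * cz χ * (2 * (co h 1 χ - co h 2 χ)) : ℤ) : ℂ) / (n χ : ℂ) with ht8
  have E4 : (Nat.card G : ℂ) * ∑ χ, t4 χ = 9216 := by
    have : ∑ χ, t4 χ = ∑ χ : IrrCharacter G,
        (χ : G → ℂ) (ψ neg) * (χ : G → ℂ) (ψ neg) / (χ : G → ℂ) 1 * conj ((χ : G → ℂ) (ψ (el 4))) := by
      refine Finset.sum_congr rfl fun χ _ => ?_
      rw [hz, (values h χ).2.1, charDeg_spec', map_intCast, ht4, hn]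
      push_cast
      ring
    rw [this, eq4, show npairs 4 = 4 from rfl]
    norm_num
  have E8 : ∑ χ, t8 χ = 0 := by
    have : ∑ χ, t8 χ = ∑ χ : IrrCharacter G,
        ((χ : G → ℂ) (ψ neg) * (χ : G → ℂ) (ψ neg) / (χ : G → ℂ) 1 * conj ((χ : G → ℂ) (ψ (el 6))) +
         (χ : G → ℂ) (ψ neg) * (χ : G → ℂ) (ψ neg) / (χ : G → ℂ) 1 * conj ((χ : G → ℂ) (ψ (el 7)))) := by
      refine Finset.sum_congr rfl fun χ _ => ?_
      rw [← mul_add, ← map_add, hz, (values h χ).2.2, charDeg_spec', map_intCast, ht8, hn]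
      push_cast
      ring
    have h0 : (Nat.card G : ℂ) * ∑ χ, t8 χ = 0 := by
      rw [this, Finset.sum_add_distrib, mul_add, eq6, eq7, show npairs 6 = 0 from rfl, show npairs 7 = 0 from rfl]
      norm_num
    exact (mul_eq_zero.1 h0).resolve_left (Nat.cast_ne_zero.2 Nat.card_pos.ne')
  -- distinctness
  have ne : ∀ {x y : IrrCharacter G} (k : Fin 5), co h k x ≠ co h k y → x ≠ y := fun k hk e => hk (e ▸ rfl)
  have o_th : trivialIrr G ≠ th := ne 2 (by rw [(cfg h).a_o, S.v_th]; simp; omega)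
  have o_ps : trivialIrr G ≠ ps := ne 0 (by rw [(cfg h).a_o, S.v_ps]; simp)
  have o_p1 : trivialIrr G ≠ p1 := ne 2 (by rw [(cfg h).a_o, S.v_p1]; simp; omega)
  have o_p2 : trivialIrr G ≠ p2 := ne 2 (by rw [(cfg h).a_o, S.v_p2]; simp; omega)
  have th_ps : th ≠ ps := ne 2 (by rw [S.v_th, S.v_ps]; simp; omega)
  have th_p1 : th ≠ p1 := ne 3 (by rw [S.v_th, S.v_p1]; simp; omega)
  have th_p2 : th ≠ p2 := ne 3 (by rw [S.v_th, S.v_p2]; simp; omega)
  have ps_p1 : ps ≠ p1 := ne 2 (by rw [S.v_ps, S.v_p1]; simp; omega)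
  have ps_p2 : ps ≠ p2 := ne 2 (by rw [S.v_ps, S.v_p2]; simp; omega)
  have p1_p2 : p1 ≠ p2 := ne 0 (by rw [S.v_p1, S.v_p2]; simp; omega)
  have hsum : ∀ f : IrrCharacter G → ℂ, (∀ χ, co h 1 χ = 0 → co h 2 χ = 0 → f χ = 0) →
      ∑ χ, f χ = f (trivialIrr G) + (f th + (f ps + (f p1 + f p2))) := by
    intro f hf
    rw [← Finset.sum_subset (Finset.subset_univ ({trivialIrr G, th, ps, p1, p2} : Finset (IrrCharacter G)))
      fun χ _ hχ => ?_]
    · rw [Finset.sum_insert (by simp [o_th, o_ps, o_p1, o_p2]), Finset.sum_insert (by simp [th_ps, th_p1, th_p2]),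
        Finset.sum_insert (by simp [ps_p1, ps_p2]), Finset.sum_pair p1_p2]
    simp only [Finset.mem_insert, Finset.mem_singleton, not_or] at hχ
    obtain ⟨q0, q1, q2, q3, q4⟩ := hχ
    have : ∀ k : Fin 5, k = 1 ∨ k = 2 → co h k χ = 0 := by
      intro k hk
      by_cases r1 : χ = e1
      · subst r1; rw [S.v_e1]; rcases hk with rfl | rfl <;> simp
      by_cases r2 : χ = e2
      · subst r2; rw [S.v_e2]; rcases hk with rfl | rfl <;> simp
      by_cases r3 : χ = p3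
      · subst r3; rw [S.v_p3]; rcases hk with rfl | rfl <;> simp
      exact S.other χ q0 q1 r1 r2 q2 q3 q4 r3 k
    exact hf χ (this 1 (Or.inl rfl)) (this 2 (Or.inr rfl))
  rw [hsum t4 fun χ a b => by simp [ht4, a, b]] at E4
  rw [hsum t8 fun χ a b => by simp [ht8, a, b]] at E8
  simp only [ht4, ht8, vo, vth, vps, vp1, vp2, S.v_th, S.v_ps, S.v_p1, S.v_p2, (cfg h).a_o] at E4 E8
  have hno : n (trivialIrr G) = 1 := (cfg h).n_o
  simp [hno, -Nat.card_eq_fintype_card] at E4 E8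
  -- signed degrees
  set N := ε * n th with hN
  set M := δ * n ps with hM
  set P := δ1 * n p1 with hP
  set R := δ2 * n p2 with hR
  have sgn : ∀ {s : ℤ}, s = 1 ∨ s = -1 → (s : ℂ) * (s : ℂ) = 1 := fun hs => by
    rcases hs with rfl | rfl <;> norm_num
  have hth0 : (n th : ℂ) ≠ 0 := Int.cast_ne_zero.2 (hpos th).ne'
  have hps0 : (n ps : ℂ) ≠ 0 := Int.cast_ne_zero.2 (hpos ps).ne'
  have hp10 : (n p1 : ℂ) ≠ 0 := Int.cast_ne_zero.2 (hpos p1).ne'
  have hp20 : (n p2 : ℂ) ≠ 0 := Int.cast_ne_zero.2 (hpos p2).ne'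
  have cs : ∀ {s m : ℤ} (k : ℂ), (s = 1 ∨ s = -1) → (m : ℂ) ≠ 0 →
      k * (s : ℂ) / (m : ℂ) = k / ((s * m : ℤ) : ℂ) := fun {s m} k hs hm => by
    rcases hs with rfl | rfl <;> push_cast <;> field_simp
  have E4' : (Nat.card G : ℂ) * (1 + 8 / (N : ℂ) + 9 / (M : ℂ) + 1 / (P : ℂ) + 9 / (R : ℂ)) = 9216 := by
    rw [hN, hM, hP, hR, ← cs 8 hε hth0, ← cs 9 hδ hps0, ← cs 1 hδ1 hp10, ← cs 9 hδ2 hp20, ← E4]
    congr 1
    rcases hε with rfl | rfl <;> rcases hδ with rfl | rfl <;> rcases hδ1 with rfl | rfl <;>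
      rcases hδ2 with rfl | rfl <;> push_cast <;> ring
  have E8' : 1 + 9 / (M : ℂ) - 1 / (P : ℂ) - 9 / (R : ℂ) = 0 := by
    rw [hM, hP, hR, ← cs 9 hδ hps0, ← cs 1 hδ1 hp10, ← cs 9 hδ2 hp20]
    rcases hε with rfl | rfl <;> rcases hδ with rfl | rfl <;> rcases hδ1 with rfl | rfl <;>
      rcases hδ2 with rfl | rfl <;> push_cast at E8 ⊢ <;> linear_combination E8 / 2
  have hN0 : (N : ℂ) ≠ 0 := by
    rw [hN]; push_cast; exact mul_ne_zero (Int.cast_ne_zero.2 (by omega)) hth0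
  have hM0 : (M : ℂ) ≠ 0 := by
    rw [hM]; push_cast; exact mul_ne_zero (Int.cast_ne_zero.2 (by omega)) hps0
  have hP0 : (P : ℂ) ≠ 0 := by
    rw [hP]; push_cast; exact mul_ne_zero (Int.cast_ne_zero.2 (by omega)) hp10
  have hR0 : (R : ℂ) ≠ 0 := by
    rw [hR]; push_cast; exact mul_ne_zero (Int.cast_ne_zero.2 (by omega)) hp20
  field_simp at E4' E8'
  have I4 : (Nat.card G : ℤ) * (N * M * P * R + 8 * M * P * R + 9 * N * P * R + N * M * R + 9 * N * M * P) =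
      9216 * (N * M * P * R) := by
    have : (((Nat.card G : ℤ) * (N * M * P * R + 8 * M * P * R + 9 * N * P * R + N * M * R + 9 * N * M * P) : ℤ) : ℂ) =
        ((9216 * (N * M * P * R) : ℤ) : ℂ) := by push_cast; linear_combination E4'
    exact_mod_cast this
  have I8 : M * P * R + 9 * P * R - M * R - 9 * M * P = 0 := by
    have : ((M * P * R + 9 * P * R - M * R - 9 * M * P : ℤ) : ℂ) = ((0 : ℤ) : ℂ) := by
      push_cast; linear_combination E8'
    exact_mod_cast this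
  have hMv : M = -1 - N := by rw [hM, hN]; have := S.deg_ps; omega
  have hRv : R = -N - P := by rw [hR, hN, hP]; have := S.deg_p2; omega
  -- the character of degree one
  have hP1 : P ≠ 1 ∧ P ≠ -1 := by
    suffices n p1 ≠ 1 by
      have : 0 < n p1 := hpos p1
      rcases hδ1 with rfl | rfl <;> omega
    intro hone
    obtain ⟨l, hl⟩ := linearHom_of_isCharacter (IsIrr.isCharacter p1.2) (by
      rw [charDeg_spec', show charDegree (p1 : G → ℂ) = 1 by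
        have h' : (charDegree (p1 : G → ℂ) : ℤ) = 1 := hone
        exact_mod_cast h', Nat.cast_one])
    obtain ⟨hv1, hv4, hv8⟩ := values h p1
    simp [S.v_p1] at hv1 hv4 hv8
    have hl' : ∀ g, (p1 : G → ℂ) g = (l g : ℂ) := fun g => congrFun hl g
    rcases hδ1 with rfl | rfl
    · have hy : (el 7 : Q) = neg * el 6 := toV_injective (by rw [toV_mul, toV_el, toV_neg, toV_el]; decide)
      rw [hl', hl', hy, map_mul, map_mul, Units.val_mul, show ((l (ψ neg)) : ℂ) = 1 by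
        rw [← hl']; rw [show (neg : Q) = el 1 from rfl, hv1]; norm_num, one_mul] at hv8
      exact hom_neg_one_absurd hO l (g := ψ (el 6)) (by push_cast at hv8; linear_combination hv8 / 2)
    · exact hom_neg_one_absurd hO l (g := ψ (el 1)) (by rw [← hl', hv1]; norm_num)
  have hcast : (Nat.card G : ℤ) = 5616 ∨ (Nat.card G : ℤ) = 7920 := by
    have hN0' : N ≠ 0 := Int.cast_ne_zero.1 hN0
    have hM0' : M ≠ 0 := Int.cast_ne_zero.1 hM0
    have hPN : (N - 8) * P + N * (N + 1) = 0 := by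
      have : (P - 1) * ((N - 8) * P + N * (N + 1)) = 0 := by
        rw [hMv, hRv] at I8; linear_combination I8
      exact (mul_eq_zero.1 this).resolve_left (sub_ne_zero.2 hP1.1)
    refine arith (N := N) (P := P) (by exact_mod_cast Nat.card_pos) ?_ ?_ ?_ ?_ hP1 hN0' hPN ?_
    · intro hd; exact sylow_sixteen h (by exact_mod_cast hd)
    · have := Subgroup.card_subgroup_dvd_card ψ.range
      rw [card_range h] at this
      exact_mod_cast this
    · have := parity h th (hz th)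
      rw [vth] at this
      rw [hN]
      exact dvd_mul_of_dvd_right (show (2 : ℤ) ∣ (charDegree (th : G → ℂ) : ℤ) by omega) ε
    · have := parity h p1 (hz p1)
      rw [vp1] at this
      rw [hP, show n p1 = (charDegree (p1 : G → ℂ) : ℤ) from rfl]
      rcases hδ1 with rfl | rfl <;> omega
    · have hK : (Nat.card G : ℤ) * (2 * N * M + 8 * M + 18 * N) = 9216 * (N * M) := by
        have hPR : P * R ≠ 0 := mul_ne_zero (Int.cast_ne_zero.1 hP0) (Int.cast_ne_zero.1 hR0)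
        refine mul_right_cancel₀ hPR ?_
        linear_combination I4 + (Nat.card G : ℤ) * N * I8
      rw [hMv] at hK
      exact mul_left_cancel₀ (two_ne_zero (α := ℤ)) (by linear_combination -hK)
  omega

end Cfsg.Agent.Invol.GL23
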