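import Mathlib
import Cfsg.Agent.Lib.Invol.GLTwoThreeCount
import Cfsg.Agent.Lib.Invol.PResidual

/-!
Involution centralizer `GL(2,3)` and no quotient of 2-power order: one class of involutions, simplicity.
-/

set_option autoImplicit false
set_option maxRecDepth 100000
set_option linter.style.haveILetI false

namespace Cfsg.Agent.Invol.GL23

open Cfsg Cfsg.Agent.Char Cfsg.Agent.Block

universe u

/-! ### Tables -/

theorem three_type : ∀ w ∈ units, mv (mv w w) w = ov → w ≠ ov → tyv w = 2 := by decide +kernel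

theorem three_moves : ∀ w ∈ units, tyv w = 2 →
    ∃ v ∈ units, cjv v w ≠ ov ∧ cjv v w ≠ w ∧ cjv v w ≠ mv w w := by decide +kernel

theorem det_one_pairs : ∀ v ∈ units, dv v = 1 → ∃ a ∈ units, mv a a = ov ∧ mv (mv a v) (mv a v) = ov := by
  decide +kernel

theorem det_other : ∀ v ∈ units, dv v ≠ 1 → dv (mv (1, 0, 0, 2) v) = 1 := by decide +kernel

variable {G : Type u} [Group G]

/-- A subgroup containing every image of an involution contains the centralizer. -/
theorem range_le_of_invol {ψ : Q →* G} {M : Subgroup G} (hM : ∀ a : Q, a * a = 1 → ψ a ∈ M) :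
    ψ.range ≤ M := by
  have key : ∀ g : Q, dv (toV g) = 1 → ψ g ∈ M := by
    intro g hg
    obtain ⟨w, hw, haa, hab⟩ := det_one_pairs _ (mem_units g) hg
    obtain ⟨a, rfl⟩ := toV_surj (Finset.mem_filter.1 hw).2
    rw [← toV_mul, ← toV_one] at haa
    rw [← toV_mul, ← toV_mul, ← toV_one] at hab
    have ha : a * a = 1 := toV_injective haa
    have hb : a * g * (a * g) = 1 := toV_injective hab
    rw [show g = a * (a * g) by rw [← mul_assoc, ha, one_mul], map_mul]
    exact M.mul_mem (hM a ha) (hM _ hb)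
  rintro _ ⟨g, rfl⟩
  by_cases hg : dv (toV g) = 1
  · exact key g hg
  obtain ⟨r, hr⟩ := toV_surj (v := (1, 0, 0, 2)) (by decide)
  have hrr : r * r = 1 := toV_injective (by rw [toV_mul, hr, toV_one]; decide)
  rw [show g = r * (r * g) by rw [← mul_assoc, hrr, one_mul], map_mul]
  exact M.mul_mem (hM r hrr) (key _ (by rw [toV_mul, hr]; exact det_other _ (mem_units g) hg))

/-- A fixed point free involutory conjugation inverts. -/
theorem inverts_of_fixed_free [Finite G] {M : Subgroup G} {v : G} (hv : v * v = 1)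
    (hn : ∀ m ∈ M, v * m * v⁻¹ ∈ M) (hff : ∀ m ∈ M, v * m = m * v → m = 1) :
    ∀ m ∈ M, v * m * v⁻¹ = m⁻¹ := by
  let φ : ↥M →* ↥M :=
    { toFun := fun m => ⟨v * m * v⁻¹, hn m m.2⟩
      map_one' := Subtype.ext (by simp)
      map_mul' := fun a b => Subtype.ext (show v * (a * b : G) * v⁻¹ = v * a * v⁻¹ * (v * b * v⁻¹) by group) }
  have h1 : MonoidHom.FixedPointFree φ := by
    intro m hm
    refine Subtype.ext (hff m m.2 ?_)
    have e : v * (m : G) * v⁻¹ = m := congrArg Subtype.val hm
    calc v * (m : G) = v * (m : G) * v⁻¹ * v := by group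
      _ = m * v := by rw [e]
  have h2 : Function.Involutive φ := fun m => Subtype.ext (by
    show v * (v * (m : G) * v⁻¹) * v⁻¹ = m
    rw [inv_eq_of_mul_eq_one_right hv, show v * (v * (m : G) * v) * v = v * v * m * (v * v) by group, hv,
      one_mul, mul_one])
  intro m hm
  exact congrArg Subtype.val (congrFun (h1.coe_eq_inv_of_involutive h2) ⟨m, hm⟩)

variable {ψ : Q →* G} (h : Emb ψ)
include h

theorem Emb.conj (g : G) : Emb ((MulAut.conj g).toMonoidHom.comp ψ) := by
  refine ⟨fun a b e => h.inj ((MulAut.conj g).injective e), fun x hx => ?_⟩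
  simp only [MonoidHom.comp_apply, MulEquiv.coe_toMonoidHom, MulAut.conj_apply] at hx ⊢
  obtain ⟨a, ha⟩ := h.range (g⁻¹ * x * g) (by
    calc g⁻¹ * x * g * ψ neg = g⁻¹ * (x * (g * ψ neg * g⁻¹)) * g := by group
      _ = ψ neg * (g⁻¹ * x * g) := by rw [hx]; group)
  exact ⟨a, by rw [ha]; group⟩

variable [Finite G]

theorem sixteen_dvd : 48 ∣ Nat.card G := by
  have := Subgroup.card_subgroup_dvd_card ψ.range
  rwa [card_range h] at this

/-- All involutions are conjugate. -/
theorem all_conj (hO : pResidual 2 G = ⊤) {v : G} (hv : orderOf v = 2) : IsConj (ψ neg) v := by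
  haveI : Fact (Nat.Prime 2) := ⟨Nat.prime_two⟩
  have hcard : Nat.card (Semi.map ψ) = 16 := by
    rw [Subgroup.card_map_of_injective h.inj, card_Semi]
  obtain ⟨S₀, hS₀⟩ := (IsPGroup.of_card (p := 2) (n := 4) (hcard.trans (by norm_num))).exists_le_sylow
  have hS₀c : Nat.card (S₀ : Subgroup G) = 16 := by
    obtain ⟨k, hk⟩ := S₀.isPGroup'.exists_card_eq
    have h1 := Subgroup.card_dvd_of_le hS₀
    rw [hcard, hk] at h1
    have h2 : k ≤ 4 := by
      by_contra hk4
      refine sylow_sixteen h (dvd_trans (dvd_trans (Nat.pow_dvd_pow 2 (show 5 ≤ k by omega)) ?_)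
        (Subgroup.card_subgroup_dvd_card (S₀ : Subgroup G)))
      rw [hk]
    have h3 : 16 ≤ 2 ^ k := Nat.le_of_dvd (by positivity) h1
    have h4 : 2 ^ k ≤ 2 ^ 4 := Nat.pow_le_pow_right (by norm_num) h2
    rw [hk]; omega
  have hS₀eq : Semi.map ψ = (S₀ : Subgroup G) := Subgroup.eq_of_le_of_card_ge hS₀ (by omega)
  obtain ⟨S, hS⟩ := (IsPGroup.of_card (p := 2) (n := 1) (show Nat.card (Subgroup.zpowers v) = 2 ^ 1 by
    rw [Nat.card_zpowers, hv]; norm_num)).exists_le_sylow
  obtain ⟨g, hg⟩ := MulAction.exists_smul_eq G S₀ S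
  have hvS : v ∈ ((g • S₀ : Sylow 2 G) : Subgroup G) := hg.symm ▸ hS (Subgroup.mem_zpowers v)
  rw [Sylow.coe_subgroup_smul, Subgroup.mem_pointwise_smul_iff_inv_smul_mem, ← hS₀eq] at hvS
  obtain ⟨a, -, ha⟩ := hvS
  rw [← map_inv, MulAut.smul_def, MulAut.conj_apply, inv_inv] at ha
  have ho : orderOf (g⁻¹ * v * g) = 2 := by
    have := MulEquiv.orderOf_eq (MulAut.conj g⁻¹) v
    rwa [MulAut.conj_apply, inv_inv, hv] at this
  rw [← ha, orderOf_injective ψ h.inj] at ho
  have h1 : a * a = 1 := by have := pow_orderOf_eq_one a; rwa [ho, sq] at this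
  have h2 : a ≠ 1 := fun e => by rw [e, orderOf_one] at ho; omega
  exact (fuse h hO h1 h2).trans (isConj_iff.2 ⟨g, by rw [ha]; group⟩)

/-- An embedding at any involution. -/
theorem emb_at (hO : pResidual 2 G = ⊤) {v : G} (hv : orderOf v = 2) :
    ∃ ψ' : Q →* G, Emb ψ' ∧ ψ' neg = v := by
  obtain ⟨g, hg⟩ := isConj_iff.1 (all_conj h hO hv)
  exact ⟨_, h.conj g, by simpa using hg⟩

/-- A group with such an involution centralizer is simple. -/
theorem simple (hO : pResidual 2 G = ⊤) : IsSimpleGroup G := by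
  haveI : Fact (Nat.Prime 2) := ⟨Nat.prime_two⟩
  have htt : ψ neg * ψ neg = 1 := by rw [← map_mul, neg_mul_neg, map_one]
  -- normal subgroups of odd order are trivial
  have odd_case : ∀ M : Subgroup G, M.Normal → ¬ 2 ∣ Nat.card M → M = ⊥ := by
    intro M hMn hodd
    have hff : ∀ m ∈ M, ψ neg * m = m * ψ neg → m = 1 := by
      intro m hm hc
      obtain ⟨a, rfl⟩ := h.range m hc.symm
      set K := M.comap ψ with hK
      have hK2 : ¬ 2 ∣ Nat.card K := fun hd => hodd (dvd_trans hd (by
        rw [← Subgroup.card_map_of_injective (K := K) h.inj]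
        exact Subgroup.card_dvd_of_le (Subgroup.map_comap_le ψ M)))
      have hKd : Nat.card K ∣ 3 := by
        have h1 : Nat.card K ∣ 2 ^ 4 * 3 := by
          have := Subgroup.card_subgroup_dvd_card K
          rwa [card_Q] at this
        exact (Nat.Coprime.pow_right 4 ((Nat.Prime.coprime_iff_not_dvd Nat.prime_two).2 hK2).symm).dvd_of_dvd_mul_left h1
      have hK3 : ∀ b ∈ K, b ^ 3 = 1 := fun b hb => by
        have := orderOf_dvd_iff_pow_eq_one.1 ((K.orderOf_dvd_natCard hb).trans hKd)
        exact this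
      by_contra hne
      have ha1 : a ≠ 1 := fun e => hne (by rw [e, map_one])
      have haK : a ∈ K := hm
      have hty : tyv (toV a) = 2 := three_type _ (mem_units a)
        (by rw [← toV_mul, ← toV_mul, ← toV_one, ← hK3 a haK, pow_three, mul_assoc])
        (fun e => ha1 (toV_injective (e.trans toV_one.symm)))
      obtain ⟨w, hw, w0, w1, w2⟩ := three_moves _ (mem_units a) hty
      obtain ⟨x, rfl⟩ := toV_surj (Finset.mem_filter.1 hw).2
      rw [← toV_conj] at w0 w1 w2
      have hbK : x⁻¹ * a * x ∈ K := by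
        show ψ (x⁻¹ * a * x) ∈ M
        rw [map_mul, map_mul, map_inv]
        simpa using hMn.conj_mem _ hm (ψ x)⁻¹
      have hcK : Nat.card K = 3 := by
        rcases (Nat.dvd_prime Nat.prime_three).1 hKd with e | e
        · rw [Subgroup.card_eq_one.1 e, Subgroup.mem_bot] at haK; exact absurd haK ha1
        · exact e
      have hz : Subgroup.zpowers a = K := Subgroup.eq_of_le_of_card_ge (Subgroup.zpowers_le.2 haK) (by
        rw [hcK, Nat.card_zpowers, orderOf_eq_prime (p := 3) (hK3 a haK) ha1])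
      rw [← hz, mem_zpowers_iff_mem_range_orderOf,
        orderOf_eq_prime (p := 3) (hK3 a haK) ha1] at hbK
      simp only [Finset.mem_image, Finset.mem_range] at hbK
      obtain ⟨k, hk, hk'⟩ := hbK
      interval_cases k
      · exact w0 (by rw [← hk', pow_zero, toV_one])
      · exact w1 (by rw [← hk', pow_one])
      · exact w2 (by rw [← hk', pow_two, toV_mul])
    have hti := inverts_of_fixed_free htt (fun m hm => hMn.conj_mem m hm _) hff
    have hall : ∀ {v : G}, IsConj (ψ neg) v → ∀ m ∈ M, v * m * v⁻¹ = m⁻¹ := by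
      intro v hv m hm
      obtain ⟨g, rfl⟩ := isConj_iff.1 hv
      have := hti (g⁻¹ * m * g) (by simpa using hMn.conj_mem m hm g⁻¹)
      calc g * ψ neg * g⁻¹ * m * (g * ψ neg * g⁻¹)⁻¹
          = g * (ψ neg * (g⁻¹ * m * g) * (ψ neg)⁻¹) * g⁻¹ := by group
        _ = m⁻¹ := by rw [this]; group
    obtain ⟨r, hr⟩ := toV_surj (v := (1, 0, 0, 2)) (by decide)
    have hrr : r * r = 1 := toV_injective (by rw [toV_mul, hr, toV_one]; decide)
    have hr1 : r ≠ 1 := fun e => by rw [e, toV_one] at hr; exact absurd hr (by decide)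
    have hnr : neg * r ≠ 1 := fun e => by
      have := congrArg toV e
      rw [toV_mul, toV_neg, hr, toV_one] at this
      exact absurd this (by decide)
    have hnr2 : neg * r * (neg * r) = 1 := toV_injective (by rw [toV_mul, toV_mul, toV_neg, hr, toV_one]; decide)
    rw [Subgroup.eq_bot_iff_forall]
    intro m hm
    have e1 := hall (fuse h hO hnr2 hnr) m hm
    have e2 := hall (fuse h hO hrr hr1) m hm
    rw [map_mul, show ψ neg * ψ r * m * (ψ neg * ψ r)⁻¹ = ψ neg * (ψ r * m * (ψ r)⁻¹) * (ψ neg)⁻¹ by group,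
      e2, hti _ (inv_mem hm), inv_inv] at e1
    have hsq : m ^ 2 = 1 := by
      rw [sq]
      nth_rewrite 1 [e1]
      rw [inv_mul_cancel]
    by_contra hne
    exact hodd (orderOf_eq_prime hsq hne ▸ M.orderOf_dvd_natCard hm)
  -- normal subgroups of even order contain the centralizer
  have even_case : ∀ M : Subgroup G, M.Normal → 2 ∣ Nat.card M → ψ.range ≤ M := by
    intro M hMn heven
    obtain ⟨⟨v, hvM⟩, hv⟩ := exists_prime_orderOf_dvd_card' (G := M) 2 heven
    rw [Subgroup.orderOf_mk] at hv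
    refine range_le_of_invol fun a ha => ?_
    by_cases ha1 : a = 1
    · rw [ha1, map_one]; exact one_mem M
    obtain ⟨g, hg⟩ := isConj_iff.1 ((all_conj h hO hv).symm.trans (fuse h hO ha ha1))
    rw [← hg]
    exact hMn.conj_mem v hvM g
  haveI : Nontrivial G := ⟨⟨ψ neg, 1, fun e => neg_ne_one (h.inj (e.trans (map_one ψ).symm))⟩⟩
  refine ⟨fun M hMn => ?_⟩
  by_contra hM
  rw [not_or] at hM
  obtain ⟨hMb, hMt⟩ := hM
  have hMe : 2 ∣ Nat.card M := by
    by_contra hodd; exact hMb (odd_case M hMn hodd)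
  have hCM := even_case M hMn hMe
  haveI := hMn
  set R := (pResidual 2 ↥M).map M.subtype with hR
  have hRM : R ≤ M := Subgroup.map_subtype_le _
  have hRn : R.Normal := inferInstance
  obtain ⟨e₀, he₀⟩ := toV_surj (v := (1, 1, 0, 1)) (by decide)
  have he3 : orderOf (ψ e₀) = 3 := by
    haveI : Fact (Nat.Prime 3) := ⟨Nat.prime_three⟩
    rw [orderOf_injective ψ h.inj]
    refine orderOf_eq_prime (toV_injective ?_) fun e => ?_
    · rw [toV_pow, he₀, toV_one]; decide +kernel
    · rw [e, toV_one] at he₀; exact absurd he₀ (by decide)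
  have he₀M : ψ e₀ ∈ M := hCM ⟨e₀, rfl⟩
  have heR : ψ e₀ ∈ R := ⟨⟨ψ e₀, he₀M⟩, mem_pResidual (by rw [Subgroup.orderOf_mk, he3]; decide), rfl⟩
  have hRe : 2 ∣ Nat.card R := by
    by_contra hodd
    rw [odd_case R hRn hodd, Subgroup.mem_bot] at heR
    rw [heR, orderOf_one] at he3
    norm_num at he3
  have hCR := even_case R hRn hRe
  have hRtop : pResidual 2 ↥M = ⊤ := by
    obtain ⟨k, hk⟩ := (isPGroup_quotient_pResidual (p := 2) (G := ↥M)).exists_card_eq
    rw [← Subgroup.index_eq_card] at hk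
    have hodd : ¬ 2 ∣ (pResidual 2 ↥M).index := by
      intro hd
      refine sylow_sixteen h ?_
      have h48 : 48 ∣ Nat.card (pResidual 2 ↥M) := by
        rw [← Subgroup.card_map_of_injective (K := pResidual 2 ↥M) M.subtype_injective, ← card_range h]
        exact Subgroup.card_dvd_of_le hCR
      refine dvd_trans ?_ (Subgroup.card_subgroup_dvd_card M)
      rw [← (pResidual 2 ↥M).card_mul_index]
      exact dvd_trans (show 32 ∣ 48 * 2 by norm_num) (Nat.mul_dvd_mul h48 hd)
    refine Subgroup.index_eq_one.1 ?_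
    rw [hk] at hodd ⊢
    rcases Nat.eq_zero_or_pos k with rfl | hk0
    · rfl
    · exact absurd (dvd_pow_self 2 hk0.ne') hodd
  have htM : ψ neg ∈ M := hCM ⟨neg, rfl⟩
  let tM : ↥M := ⟨ψ neg, htM⟩
  have hCeq : Subgroup.centralizer ({tM} : Set ↥M) =
      (Subgroup.centralizer ({ψ neg} : Set G)).subgroupOf M := by
    ext x
    rw [Subgroup.mem_subgroupOf, Subgroup.mem_centralizer_singleton_iff, Subgroup.mem_centralizer_singleton_iff,
      Subtype.ext_iff]
    rfl
  have hrange : Subgroup.centralizer ({ψ neg} : Set G) = ψ.range :=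
    Subgroup.ext fun x => by rw [Subgroup.mem_centralizer_singleton_iff, mem_range_iff h]
  have eC : ↥(Subgroup.centralizer ({ψ neg} : Set G)) ≃* Q :=
    (MulEquiv.subgroupCongr hrange).trans (MonoidHom.ofInjective h.inj).symm
  have hcM : Nat.card ↥M = 5616 ∨ Nat.card ↥M = 7920 := natCard_of_centralizer hRtop
    (show orderOf tM = 2 by rw [Subgroup.orderOf_mk, orderOf_z h])
    (((MulEquiv.subgroupCongr hCeq).trans
      (Subgroup.subgroupOfEquivOfLe (by rw [hrange]; exact hCM))).trans eC)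
  have hcG : Nat.card G = 5616 ∨ Nat.card G = 7920 := natCard_of_centralizer hO (orderOf_z h) eC
  have hd := Subgroup.card_subgroup_dvd_card M
  refine hMt (Subgroup.eq_top_of_card_eq M ?_)
  rcases hcM with e | e <;> rcases hcG with e' | e' <;> rw [e, e'] at hd ⊢ <;> norm_num at hd

end Cfsg.Agent.Invol.GL23
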