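import Mathlib

/-!
Commuting pairs of elements of order three, and small subgroup facts used for groups of order 5616.
-/

set_option autoImplicit false

namespace Cfsg.Agent.Invol

universe u

variable {G : Type u} [Group G]

/-- Two commuting independent elements of order three. -/
structure PairThree (x a : G) : Prop where
  ox : orderOf x = 3
  oa : orderOf a = 3
  comm : x * a = a * x
  ne : a ∉ Subgroup.zpowers x

theorem pow_mod_three {x : G} (h : orderOf x = 3) (i : ℕ) : x ^ i = x ^ (i % 3) := by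
  have := (pow_mod_orderOf x i).symm
  rwa [h] at this

theorem PairThree.mul_mk {x a : G} (h : PairThree x a) (i j k l : ℕ) :
    x ^ i * a ^ j * (x ^ k * a ^ l) = x ^ (i + k) * a ^ (j + l) := by
  have hc : Commute (a ^ j) (x ^ k) := (Commute.pow_pow (Commute.symm h.comm) j k)
  rw [pow_add, pow_add, mul_assoc, ← mul_assoc (a ^ j), hc.eq, mul_assoc, ← mul_assoc (x ^ i)]

theorem PairThree.mk_pow {x a : G} (h : PairThree x a) (i j m : ℕ) :
    (x ^ i * a ^ j) ^ m = x ^ (i * m) * a ^ (j * m) := by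
  rw [(Commute.pow_pow (show Commute x a from h.comm) i j).mul_pow, pow_mul, pow_mul]

theorem PairThree.mk_mod {x a : G} (h : PairThree x a) (i j : ℕ) :
    x ^ i * a ^ j = x ^ (i % 3) * a ^ (j % 3) := by
  rw [← pow_mod_three h.ox, ← pow_mod_three h.oa]

theorem PairThree.eq_iff {x a : G} (h : PairThree x a) (i j k l : ℕ) :
    x ^ i * a ^ j = x ^ k * a ^ l ↔ i % 3 = k % 3 ∧ j % 3 = l % 3 := by
  refine ⟨fun e => ?_, fun ⟨e1, e2⟩ => by rw [h.mk_mod i j, h.mk_mod k l, e1, e2]⟩
  have key : ∀ m n : ℕ, x ^ m * a ^ n = 1 → m % 3 = 0 ∧ n % 3 = 0 := by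
    intro m n e
    have ha : a ^ n ∈ Subgroup.zpowers x := by
      rw [eq_inv_of_mul_eq_one_right e]; exact inv_mem (Subgroup.npow_mem_zpowers x m)
    have hn : n % 3 = 0 := by
      by_contra hn
      refine h.ne ?_
      have e3 : (a ^ n) ^ n = a := by
        rw [← pow_mul, pow_mod_three h.oa]
        have : n * n % 3 = 1 := by
          rw [Nat.mul_mod]; rcases (show n % 3 = 1 ∨ n % 3 = 2 by omega) with r | r <;> rw [r]
        rw [this, pow_one]
      exact e3 ▸ pow_mem ha n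
    refine ⟨?_, hn⟩
    rw [pow_mod_three h.oa n, hn, pow_zero, mul_one, ← orderOf_dvd_iff_pow_eq_one, h.ox] at e
    omega
  obtain ⟨h1, h2⟩ := key (i + 2 * k) (j + 2 * l) (by
    rw [← h.mul_mk, e, h.mul_mk, h.mk_mod, show (k + 2 * k) % 3 = 0 by omega,
      show (l + 2 * l) % 3 = 0 by omega]; simp)
  omega

theorem PairThree.symm {x a : G} (h : PairThree x a) : PairThree a x := by
  refine ⟨h.oa, h.ox, h.comm.symm, fun hx => h.ne ?_⟩
  have hle : Subgroup.zpowers x ≤ Subgroup.zpowers a := Subgroup.zpowers_le.2 hx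
  haveI : Finite (Subgroup.zpowers a) := Nat.finite_of_card_ne_zero (by rw [Nat.card_zpowers, h.oa]; norm_num)
  rw [Subgroup.eq_of_le_of_card_ge hle (by rw [Nat.card_zpowers, Nat.card_zpowers, h.ox, h.oa])]
  exact Subgroup.mem_zpowers a

theorem PairThree.cover {x a : G} (h : PairThree x a) {H : Subgroup G} [Finite H] (hH : Nat.card H ≤ 9)
    (hx : x ∈ H) (ha : a ∈ H) {g : G} (hg : g ∈ H) : ∃ i j, i < 3 ∧ j < 3 ∧ g = x ^ i * a ^ j := by
  let f : Fin 3 × Fin 3 → H := fun p => ⟨x ^ (p.1 : ℕ) * a ^ (p.2 : ℕ), mul_mem (pow_mem hx _) (pow_mem ha _)⟩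
  have hf : Function.Injective f := fun p q e => by
    obtain ⟨e1, e2⟩ := (h.eq_iff _ _ _ _).1 (congrArg Subtype.val e)
    rw [Nat.mod_eq_of_lt p.1.2, Nat.mod_eq_of_lt q.1.2] at e1
    rw [Nat.mod_eq_of_lt p.2.2, Nat.mod_eq_of_lt q.2.2] at e2
    exact Prod.ext (Fin.ext e1) (Fin.ext e2)
  have hb : Function.Bijective f := (Nat.bijective_iff_injective_and_card f).2 ⟨hf, by
    have := Nat.card_le_card_of_injective f hf
    simp only [Nat.card_eq_fintype_card (α := Fin 3 × Fin 3), Fintype.card_prod, Fintype.card_fin] at this ⊢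
    omega⟩
  obtain ⟨p, hp⟩ := hb.2 ⟨g, hg⟩
  exact ⟨p.1, p.2, p.1.2, p.2.2, (congrArg Subtype.val hp).symm⟩

/-- An element of 3-power order fixing `x` and normalising `⟨x, a⟩` shears `a` along `x`. -/
theorem PairThree.shear {x a p : G} (h : PairThree x a) {H : Subgroup G} (hpH : p ∈ H)
    (hp : p ^ 27 = 1) (hpx : p * x = x * p) (hpa : p * a ≠ a * p)
    {k l : ℕ} (hk : p * a * p⁻¹ = x ^ k * a ^ l) {c : ℕ} (hc : c = 1 ∨ c = 2) :
    ∃ q ∈ H, q * x = x * q ∧ q * a * q⁻¹ = x ^ c * a := by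
  have cx : ∀ m : ℕ, p * x ^ m * p⁻¹ = x ^ m := fun m => by
    rw [((show Commute p x from hpx).pow_right m).eq, mul_inv_cancel_right]
  have two : p ^ 2 * a * (p ^ 2)⁻¹ = x ^ (k + k * l) * a ^ (l * l) := by
    calc p ^ 2 * a * (p ^ 2)⁻¹ = p * (p * a * p⁻¹) * p⁻¹ := by rw [pow_two]; group
      _ = p * x ^ k * p⁻¹ * (p * a ^ l * p⁻¹) := by rw [hk]; group
      _ = x ^ k * (p * a * p⁻¹) ^ l := by rw [cx, conj_pow]
      _ = x ^ k * a ^ 0 * (x ^ (k * l) * a ^ (l * l)) := by rw [hk, h.mk_pow, pow_zero, mul_one]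
      _ = x ^ (k + k * l) * a ^ (l * l) := by rw [h.mul_mk, zero_add]
  have ho : p * a * p⁻¹ ≠ a := fun e => hpa (mul_inv_eq_iff_eq_mul.1 e)
  have hl : l % 3 = 1 ∧ k % 3 ≠ 0 := by
    have h2 : l % 3 ≠ 2 := by
      intro e
      have hp2 : p ^ 2 * a * (p ^ 2)⁻¹ = a := by
        rw [two, h.mk_mod]
        have e1 : (k + k * l) % 3 = 0 := by
          rw [Nat.add_mod, Nat.mul_mod, e]; omega
        have e2 : l * l % 3 = 1 := by rw [Nat.mul_mod, e]
        rw [e1, e2, pow_zero, one_mul, pow_one]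
      have hc2 : Commute (p ^ 2) a := mul_inv_eq_iff_eq_mul.1 hp2
      refine hpa ?_
      have := (hc2.pow_left 14).eq
      rwa [← pow_mul, show 2 * 14 = 27 + 1 by norm_num, pow_succ, hp, one_mul] at this
    have h0 : l % 3 ≠ 0 := by
      intro e
      refine h.ne ?_
      have e' : p * a * p⁻¹ = x ^ k := by rw [hk, pow_mod_three h.oa, e, pow_zero, mul_one]
      have : a = x ^ k := by
        calc a = p⁻¹ * (p * a * p⁻¹) * p := by group
          _ = p⁻¹ * (p * x ^ k * p⁻¹) * p := by rw [e', cx]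
          _ = x ^ k := by group
      exact this ▸ Subgroup.npow_mem_zpowers x k
    have h1 : l % 3 = 1 := by omega
    exact ⟨h1, fun e => ho (by rw [hk, h.mk_mod, e, h1, pow_zero, one_mul, pow_one])⟩
  obtain ⟨hl, hk0⟩ := hl
  rcases eq_or_ne (k % 3) c with e | e
  · exact ⟨p, hpH, hpx, by rw [hk, h.mk_mod, e, hl, pow_one]⟩
  · refine ⟨p ^ 2, pow_mem hpH 2, ((show Commute p x from hpx).pow_left 2).eq, ?_⟩
    have e1 : (k + k * l) % 3 = c := by
      have : k * l % 3 = k % 3 := by rw [Nat.mul_mod, hl, mul_one, Nat.mod_mod]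
      rw [Nat.add_mod, this]
      rcases (show k % 3 = 1 ∨ k % 3 = 2 by omega) with r | r <;> rw [r] <;> omega
    have e2 : l * l % 3 = 1 := by rw [Nat.mul_mod, hl]
    rw [two, h.mk_mod, e1, e2, pow_one]

/-- The conjugation orbit of an element under a subgroup. -/
theorem card_conj_orbit [Finite G] (N : Subgroup G) (x : G) :
    Nat.card N = (Set.range fun n : N => (n : G) * x * (n : G)⁻¹).ncard *
      Nat.card (N ⊓ Subgroup.centralizer ({x} : Set G) : Subgroup G) := by
  classical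
  set K := (Subgroup.centralizer ({x} : Set G)).subgroupOf N with hK
  have hwd : ∀ n m : N, n⁻¹ * m ∈ K → (n : G) * x * (n : G)⁻¹ = (m : G) * x * (m : G)⁻¹ := by
    intro n m hm
    rw [hK, Subgroup.mem_subgroupOf, Subgroup.mem_centralizer_singleton_iff] at hm
    push_cast at hm
    calc (n : G) * x * (n : G)⁻¹ = (n : G) * (x * ((n : G)⁻¹ * m)) * (m : G)⁻¹ := by group
      _ = (m : G) * x * (m : G)⁻¹ := by rw [← hm]; group
  let f : N ⧸ K → G := fun c => Quotient.liftOn' c (fun n : N => (n : G) * x * (n : G)⁻¹)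
    fun n m hnm => hwd n m (QuotientGroup.leftRel_apply.1 hnm)
  have hf : Function.Injective f := fun c d => QuotientGroup.induction_on c fun n =>
    QuotientGroup.induction_on d fun m e => by
      rw [QuotientGroup.eq, hK, Subgroup.mem_subgroupOf, Subgroup.mem_centralizer_singleton_iff]
      push_cast
      have e' : (n : G) * x * (n : G)⁻¹ = (m : G) * x * (m : G)⁻¹ := e
      calc (n : G)⁻¹ * m * x = (n : G)⁻¹ * ((m : G) * x * (m : G)⁻¹) * m := by group
        _ = x * ((n : G)⁻¹ * m) := by rw [← e']; group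
  have hr : Set.range f = Set.range fun n : N => (n : G) * x * (n : G)⁻¹ :=
    Set.ext fun y => ⟨fun ⟨c, hc⟩ => hc ▸ QuotientGroup.induction_on c fun n => ⟨n, rfl⟩,
      fun ⟨n, hn⟩ => ⟨QuotientGroup.mk n, hn⟩⟩
  have hi : (Set.range fun n : N => (n : G) * x * (n : G)⁻¹).ncard = K.index := by
    rw [← hr, ← Nat.card_coe_set_eq, Nat.card_range_of_injective hf, Subgroup.index_eq_card]
  have hc : Nat.card K = Nat.card (N ⊓ Subgroup.centralizer ({x} : Set G) : Subgroup G) := by
    rw [hK, ← Subgroup.card_map_of_injective (K := _) N.subtype_injective, Subgroup.subgroupOf_map_subtype,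
      inf_comm]
  rw [hi, ← hc, K.index_mul_card]

end Cfsg.Agent.Invol
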