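import Mathlib
import Cfsg.Agent.Lib.Invol.GLTwoThreeSimple
import Cfsg.Agent.Lib.Invol.PairThree

/-!
Groups of order 5616 with involution centralizer `GL(2,3)`: Sylow 13-subgroups and centralizers of
elements of order three.
-/

set_option autoImplicit false
set_option maxRecDepth 100000
set_option linter.style.haveILetI false

namespace Cfsg.Agent.Invol.GL23

open Cfsg Cfsg.Agent.Char Cfsg.Agent.Block

universe u

theorem three_cent : ∀ w ∈ units, tyv w = 2 → ∀ v ∈ units, mv v w = mv w v →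
    v = ov ∨ v = w ∨ v = mv w w ∨ v = nv ∨ v = mv nv w ∨ v = mv nv (mv w w) := by decide +kernel

theorem three_inv : ∀ w ∈ units, tyv w = 2 →
    ∃ v ∈ units, invB v = true ∧ v ≠ nv ∧ cjv v w = mv w w := by decide +kernel

variable {G : Type u} [Group G]

/-- An element of order three centralised by an involution. -/
def Good (x : G) : Prop := orderOf x = 3 ∧ ∃ v : G, orderOf v = 2 ∧ v * x = x * v

theorem card_cent_conj (g x : G) :
    Nat.card (Subgroup.centralizer ({g * x * g⁻¹} : Set G)) = Nat.card (Subgroup.centralizer ({x} : Set G)) := by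
  refine (Nat.card_congr ((MulAut.conj g).toEquiv.subtypeEquiv fun a => ?_)).symm
  rw [Subgroup.mem_centralizer_singleton_iff, Subgroup.mem_centralizer_singleton_iff]
  show a * x = x * a ↔ g * a * g⁻¹ * (g * x * g⁻¹) = g * x * g⁻¹ * (g * a * g⁻¹)
  rw [show g * a * g⁻¹ * (g * x * g⁻¹) = g * (a * x) * g⁻¹ by group,
    show g * x * g⁻¹ * (g * a * g⁻¹) = g * (x * a) * g⁻¹ by group]
  exact ⟨fun e => by rw [e], fun e => mul_left_cancel (mul_right_cancel e)⟩

theorem inv_eq_sq {x : G} (hx : orderOf x = 3) : x⁻¹ = x ^ 2 :=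
  inv_eq_of_mul_eq_one_right (by rw [← pow_succ', show 2 + 1 = orderOf x by rw [hx], pow_orderOf_eq_one])

theorem conj_eq_iff_comm {g x : G} : g * x * g⁻¹ = x ↔ g * x = x * g := mul_inv_eq_iff_eq_mul

variable [Finite G] {ψ : Q →* G} (h : Emb ψ) (hO : pResidual 2 G = ⊤) (hG : Nat.card G = 5616)
include h hO hG

omit hG in
theorem card_cent_invol {v : G} (hv : orderOf v = 2) :
    Nat.card (Subgroup.centralizer ({v} : Set G)) = 48 := by
  obtain ⟨ψ', h', rfl⟩ := emb_at h hO hv
  rw [← card_range h']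
  exact congrArg (fun S : Subgroup G => Nat.card S)
    (Subgroup.ext fun x => by rw [Subgroup.mem_centralizer_singleton_iff, mem_range_iff h'])

omit hG in
theorem invol_three_le {v : G} (hv : orderOf v = 2) {H : Subgroup G} {k : ℕ} (hk : Nat.card H = 3 ^ k)
    (hc : ∀ g ∈ H, g * v = v * g) : k ≤ 1 := by
  have h1 := Subgroup.card_dvd_of_le (H := H) (K := Subgroup.centralizer ({v} : Set G))
    fun g hg => Subgroup.mem_centralizer_singleton_iff.2 (hc g hg)
  rw [card_cent_invol h hO hv, hk] at h1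
  by_contra hk1
  have := (Nat.pow_dvd_pow 3 (show 2 ≤ k by omega)).trans h1
  norm_num at this

/-! ### Sylow 13-subgroups -/

theorem card_normalizer_thirteen {P : Subgroup G} (hP : Nat.card P = 13) :
    Nat.card (Subgroup.normalizer (P : Set G)) = 39 := by
  haveI : Fact (Nat.Prime 13) := ⟨by norm_num⟩
  haveI : Fact (Nat.Prime 2) := ⟨Nat.prime_two⟩
  haveI := simple h hO
  have hfac : (5616 : ℕ).factorization 13 = 1 := by
    rw [show (5616 : ℕ) = 13 ^ 1 * 432 by norm_num, Nat.factorization_mul (by norm_num) (by norm_num),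
      Finsupp.add_apply, Nat.Prime.factorization_pow (by norm_num), Finsupp.single_eq_same,
      Nat.factorization_eq_zero_of_not_dvd (by norm_num : ¬ 13 ∣ 432)]
  let S : Sylow 13 G := Sylow.ofCard P (by rw [hP, hG, hfac, pow_one])
  have hN := (Subgroup.normalizer (P : Set G)).card_mul_index
  have hn : (Subgroup.normalizer (P : Set G)).index = Nat.card (Sylow 13 G) :=
    (S.card_eq_index_normalizer).symm
  have hd : Nat.card (Sylow 13 G) ∣ 432 := by
    have h1 : Nat.card (Sylow 13 G) ∣ P.index := S.card_dvd_index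
    have := P.card_mul_index
    rw [hP, hG] at this
    rwa [show P.index = 432 by omega] at h1
  have hm : Nat.card (Sylow 13 G) % 13 = 1 := card_sylow_modEq_one 13 G
  have hcases : ∀ d ∈ Nat.divisors 432, d % 13 = 1 → d = 1 ∨ d = 27 ∨ d = 144 := by decide +kernel
  rw [hn, hG] at hN
  rcases hcases _ (Nat.mem_divisors.2 ⟨hd, by norm_num⟩) hm with e | e | e <;> rw [e] at hN hn
  · exfalso
    have hPn : P.Normal := Subgroup.normalizer_eq_top_iff.1 (Subgroup.index_eq_one.1 hn)
    rcases IsSimpleGroup.eq_bot_or_eq_top_of_normal P hPn with e' | e'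
    · rw [e', Subgroup.card_bot] at hP; norm_num at hP
    · rw [e', Subgroup.card_top, hG] at hP; norm_num at hP
  · exfalso
    have h208 : Nat.card (Subgroup.normalizer (P : Set G)) = 208 := by omega
    haveI : IsCyclic P := isCyclic_of_prime_card hP
    set f := P.normalizerMonoidHom with hf
    have h1 : Nat.card f.range ∣ 12 := by
      have := Subgroup.card_subgroup_dvd_card f.range
      rwa [IsCyclic.card_mulAut, hP, Nat.totient_prime (by norm_num)] at this
    have h2 := f.ker.card_mul_index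
    rw [Subgroup.index_ker, h208] at h2
    have h3 : 2 ∣ Nat.card f.ker := by
      by_contra hodd
      have h16 : 16 ∣ Nat.card f.ker * Nat.card f.range := by rw [h2]; norm_num
      have := Nat.Coprime.dvd_of_dvd_mul_left
        (show Nat.Coprime 16 (Nat.card f.ker) from
          Nat.Coprime.pow_left 4 ((Nat.Prime.coprime_iff_not_dvd Nat.prime_two).2 hodd)) h16
      exact absurd (this.trans h1) (by norm_num)
    obtain ⟨⟨⟨v, hvN⟩, hvk⟩, hv⟩ := exists_prime_orderOf_dvd_card' (G := f.ker) 2 h3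
    rw [Subgroup.orderOf_mk, Subgroup.orderOf_mk] at hv
    rw [hf, Subgroup.normalizerMonoidHom_ker, Subgroup.mem_subgroupOf] at hvk
    have := Subgroup.card_dvd_of_le (H := P) (K := Subgroup.centralizer ({v} : Set G))
      fun g hg => Subgroup.mem_centralizer_singleton_iff.2 (Subgroup.mem_centralizer_iff.1 hvk g hg)
    rw [hP, card_cent_invol h hO hv] at this
    norm_num at this
  · omega

/-- Only elements of order dividing 13 commute with an element of order 13. -/
theorem thirteen_cent {g x : G} (hg : orderOf g = 13) (hx : x * g = g * x) : orderOf x ∣ 13 := by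
  haveI : Fact (Nat.Prime 13) := ⟨by norm_num⟩
  haveI := simple h hO
  set P := Subgroup.zpowers g with hP
  have hPc : Nat.card P = 13 := by rw [hP, Nat.card_zpowers, hg]
  set C := Subgroup.centralizer (P : Set G) with hC
  have hCN : C ≤ Subgroup.normalizer (P : Set G) := Subgroup.centralizer_le_normalizer _
  have hPC : P ≤ C := fun a ha => Subgroup.mem_centralizer_iff.2 fun b hb => by
    obtain ⟨i, rfl⟩ := ha
    obtain ⟨j, rfl⟩ := hb
    exact ((Commute.refl g).zpow_zpow j i).eq
  have h1 := Subgroup.card_dvd_of_le hCN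
  have h2 := Subgroup.card_dvd_of_le hPC
  rw [card_normalizer_thirteen h hO hG hPc] at h1
  rw [hPc] at h2
  have hxC : x ∈ C := Subgroup.mem_centralizer_iff.2 fun b hb => by
    obtain ⟨j, rfl⟩ := hb
    exact ((show Commute x g from hx).zpow_right j).eq.symm
  have hc13 : Nat.card C = 13 := by
    obtain ⟨q, hq⟩ := h2
    rw [hq] at h1
    have : q ∣ 3 := Nat.dvd_of_mul_dvd_mul_left (by norm_num : 0 < 13) h1
    rcases (Nat.dvd_prime Nat.prime_three).1 this with rfl | rfl
    · omega
    exfalso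
    have hNC : Subgroup.normalizer (P : Set G) ≤ C :=
      (Subgroup.eq_of_le_of_card_ge hCN (by rw [card_normalizer_thirteen h hO hG hPc, hq])).ge
    have hfac : (5616 : ℕ).factorization 13 = 1 := by
      rw [show (5616 : ℕ) = 13 ^ 1 * 432 by norm_num, Nat.factorization_mul (by norm_num) (by norm_num),
        Finsupp.add_apply, Nat.Prime.factorization_pow (by norm_num), Finsupp.single_eq_same,
        Nat.factorization_eq_zero_of_not_dvd (by norm_num : ¬ 13 ∣ 432)]
    let S : Sylow 13 G := Sylow.ofCard P (by rw [hPc, hG, hfac, pow_one])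
    have hS : Subgroup.normalizer ((S : Subgroup G) : Set G) ≤ Subgroup.centralizer ((S : Subgroup G) : Set G) := hNC
    have hK := (MonoidHom.ker_transferSylow_isComplement' S hS).card_mul
    have hSc : Nat.card (S : Subgroup G) = 13 := hPc
    rw [hSc, hG] at hK
    rcases IsSimpleGroup.eq_bot_or_eq_top_of_normal (MonoidHom.transferSylow S hS).ker inferInstance with e | e <;>
      rw [e] at hK
    · rw [Subgroup.card_bot] at hK; norm_num at hK
    · rw [Subgroup.card_top, hG] at hK; norm_num at hK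
  have := C.orderOf_dvd_natCard hxC
  rwa [hc13] at this

/-! ### Good elements -/

omit hG in
theorem good_form {x v : G} (hx : orderOf x = 3) (hv : orderOf v = 2) (hc : v * x = x * v) :
    ∃ (ψ' : Q →* G) (a : Q), Emb ψ' ∧ ψ' neg = v ∧ ψ' a = x ∧ tyv (toV a) = 2 := by
  obtain ⟨ψ', h', hn⟩ := emb_at h hO hv
  obtain ⟨a, ha⟩ := h'.range x (by rw [hn, hc])
  refine ⟨ψ', a, h', hn, ha, ?_⟩
  rw [← ha, orderOf_injective ψ' h'.inj] at hx
  refine three_type _ (mem_units a) ?_ fun e => ?_
  · rw [← toV_mul, ← toV_mul, ← toV_one, mul_assoc, ← pow_three]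
    exact congrArg toV (orderOf_dvd_iff_pow_eq_one.1 (dvd_of_eq hx))
  · rw [toV_injective (e.trans toV_one.symm), orderOf_one] at hx; omega

omit hG in
theorem good_cent {x v g : G} (hx : orderOf x = 3) (hv : orderOf v = 2) (hc : v * x = x * v)
    (hgv : g * v = v * g) (hgx : g * x = x * g) :
    g = 1 ∨ g = x ∨ g = x * x ∨ g = v ∨ g = v * x ∨ g = v * (x * x) := by
  obtain ⟨ψ', a, h', rfl, rfl, hty⟩ := good_form h hO hx hv hc
  obtain ⟨b, rfl⟩ := h'.range g hgv
  rw [← map_mul, ← map_mul] at hgx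
  have e := three_cent _ (mem_units a) hty _ (mem_units b) (by rw [← toV_mul, ← toV_mul, h'.inj hgx])
  simp only [← toV_neg, ← toV_mul, ← toV_one, toV_injective.eq_iff] at e
  rcases e with rfl | rfl | rfl | rfl | rfl | rfl <;> simp [map_mul]

omit hG in
theorem good_inverter {x v : G} (hx : orderOf x = 3) (hv : orderOf v = 2) (hc : v * x = x * v) :
    ∃ y : G, orderOf y = 2 ∧ y ≠ v ∧ y * v = v * y ∧ y * x * y⁻¹ = x⁻¹ := by
  obtain ⟨ψ', a, h', rfl, rfl, hty⟩ := good_form h hO hx hv hc
  obtain ⟨w, hw, hi, hne, hcj⟩ := three_inv _ (mem_units a) hty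
  obtain ⟨b, rfl⟩ := toV_surj (Finset.mem_filter.1 hw).2
  obtain ⟨hb, hb1⟩ := (invB_iff b).1 hi
  refine ⟨ψ' b, by rw [orderOf_injective ψ' h'.inj, orderOf_eq_prime (by rw [sq, hb]) hb1],
    fun e => hne (by rw [h'.inj e, toV_neg]), by rw [← map_mul, ← map_mul, neg_comm], ?_⟩
  rw [inv_eq_sq hx, inv_eq_of_mul_eq_one_right (show ψ' b * ψ' b = 1 by rw [← map_mul, hb, map_one]),
    ← map_pow, ← map_mul, ← map_mul]
  refine congrArg ψ' (toV_injective ?_)
  rw [pow_two, toV_mul a a, ← hcj, ← toV_conj, inv_eq_of_mul_eq_one_right hb]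

omit hG in
theorem good_conj {x z : G} (hx : Good x) (hz : Good z) : ∃ g : G, g * x * g⁻¹ = z := by
  obtain ⟨hx3, v, hv, hvx⟩ := hx
  obtain ⟨hz3, w, hw, hwz⟩ := hz
  obtain ⟨g, hg⟩ := isConj_iff.1 ((all_conj h hO hv).symm.trans (all_conj h hO hw))
  have hc : w * (g * x * g⁻¹) = g * x * g⁻¹ * w := by
    rw [← hg, show g * v * g⁻¹ * (g * x * g⁻¹) = g * (v * x) * g⁻¹ by group, hvx]; group
  have hx' : orderOf (g * x * g⁻¹) = 3 := by
    rw [← MulAut.conj_apply, MulEquiv.orderOf_eq, hx3]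
  obtain ⟨ψ', a, h', hn, ha, hta⟩ := good_form h hO hx' hw hc
  obtain ⟨b, hb⟩ := h'.range z (by rw [hn, hwz])
  have htb : tyv (toV b) = 2 := by
    rw [← hb, orderOf_injective ψ' h'.inj] at hz3
    refine three_type _ (mem_units b) ?_ fun e => ?_
    · rw [← toV_mul, ← toV_mul, ← toV_one, mul_assoc, ← pow_three]
      exact congrArg toV (orderOf_dvd_iff_pow_eq_one.1 (dvd_of_eq hz3))
    · rw [toV_injective (e.trans toV_one.symm), orderOf_one] at hz3; omega
  obtain ⟨p, hp⟩ := isConj_el a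
  obtain ⟨q, hq⟩ := isConj_el b
  rw [show ty a = 2 from hta] at hp
  rw [show ty b = 2 from htb] at hq
  refine ⟨ψ' (q⁻¹ * p) * g, ?_⟩
  rw [← hb, show ψ' (q⁻¹ * p) * g * x * (ψ' (q⁻¹ * p) * g)⁻¹ =
    ψ' (q⁻¹ * p) * (g * x * g⁻¹) * (ψ' (q⁻¹ * p))⁻¹ by group, ← ha, ← map_inv, ← map_mul, ← map_mul]
  refine congrArg ψ' ?_
  rw [← hp, ← hq]; group

/-- The odd part of a centralizer of order `2 * 3 ^ k`. -/
theorem odd_core {x : G} {k : ℕ} (hX : Nat.card (Subgroup.centralizer ({x} : Set G)) = 2 * 3 ^ k) :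
    ∃ K : Subgroup G, Nat.card K = 3 ^ k ∧ ∀ g, g ∈ K ↔ (g * x = x * g ∧ g ^ 3 ^ k = 1) := by
  haveI : Fact (Nat.Prime 3) := ⟨Nat.prime_three⟩
  set X := Subgroup.centralizer ({x} : Set G) with hXd
  obtain ⟨K, hK⟩ := Sylow.exists_subgroup_card_pow_prime 3 (G := X) (n := k) (hX ▸ dvd_mul_left _ _)
  have hi : K.index = 2 := by
    have := K.card_mul_index
    rw [hK, hX, mul_comm] at this
    exact Nat.eq_of_mul_eq_mul_right (pow_pos (by norm_num) k) this
  refine ⟨K.map X.subtype, by rw [Subgroup.card_map_of_injective X.subtype_injective, hK], fun g => ⟨?_, ?_⟩⟩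
  · rintro ⟨⟨a, ha⟩, haK, rfl⟩
    refine ⟨Subgroup.mem_centralizer_singleton_iff.1 ha, ?_⟩
    have := orderOf_dvd_iff_pow_eq_one.1 ((K.orderOf_dvd_natCard haK).trans (dvd_of_eq hK))
    exact congrArg Subtype.val this
  · rintro ⟨hc, hp⟩
    refine ⟨⟨g, Subgroup.mem_centralizer_singleton_iff.2 hc⟩, ?_, rfl⟩
    set a : X := ⟨g, Subgroup.mem_centralizer_singleton_iff.2 hc⟩ with ha
    have h1 : a ^ 3 ^ k = 1 := Subtype.ext hp
    obtain ⟨m, hm⟩ : Odd (3 ^ k) := Odd.pow (by decide)
    have : a = (a ^ 2) ^ (m + 1) := by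
      rw [← pow_mul, show 2 * (m + 1) = 3 ^ k + 1 by omega, pow_succ, h1, one_mul]
    rw [this]
    exact pow_mem (Subgroup.sq_mem_of_index_two hi a) _

/-- The centralizer of a good element has order 54. -/
theorem good_card {x : G} (hg : Good x) : Nat.card (Subgroup.centralizer ({x} : Set G)) = 54 := by
  haveI : Fact (Nat.Prime 3) := ⟨Nat.prime_three⟩
  haveI : Fact (Nat.Prime 2) := ⟨Nat.prime_two⟩
  obtain ⟨hx, v, hv, hvx⟩ := id hg
  set X := Subgroup.centralizer ({x} : Set G) with hXd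
  have hvX : v ∈ X := Subgroup.mem_centralizer_singleton_iff.2 hvx
  have h2 : 2 ∣ Nat.card X := hv ▸ X.orderOf_dvd_natCard hvX
  have h3 : 3 ∣ Nat.card X := hx ▸ X.orderOf_dvd_natCard (Subgroup.mem_centralizer_singleton_iff.2 rfl)
  have h13 : ¬ 13 ∣ Nat.card X := by
    intro hd
    haveI : Fact (Nat.Prime 13) := ⟨by norm_num⟩
    obtain ⟨⟨g, hgX⟩, hgo⟩ := exists_prime_orderOf_dvd_card' (G := X) 13 hd
    rw [Subgroup.orderOf_mk] at hgo
    have := thirteen_cent h hO hG hgo (Subgroup.mem_centralizer_singleton_iff.1 hgX).symm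
    rw [hx] at this
    norm_num at this
  have hvv : v * v = 1 := by rw [← sq, ← hv, pow_orderOf_eq_one]
  have hxp : ∀ m : ℕ, x ^ m = 1 → m % 3 = 0 := fun m e => by
    have := orderOf_dvd_of_pow_eq_one e
    rw [hx] at this; omega
  have h4 : ¬ 4 ∣ Nat.card X := by
    intro hd
    set vX : X := ⟨v, hvX⟩ with hvXd
    obtain ⟨S, hS, hle⟩ := Sylow.exists_subgroup_card_pow_succ (p := 2) (n := 1) (G := X) (by simpa using hd)
      (show Nat.card (Subgroup.zpowers vX) = 2 ^ 1 by rw [Nat.card_zpowers, hvXd, Subgroup.orderOf_mk, hv]; norm_num)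
    haveI : IsMulCommutative S := IsPGroup.isMulCommutative_of_card_eq_prime_sq (p := 2) hS
    have hvS : vX ∈ S := hle (Subgroup.mem_zpowers vX)
    have hsub : ∀ s ∈ S, (s : G) = 1 ∨ (s : G) = v := by
      intro s hs
      have hc : (s : G) * v = v * s :=
        congrArg (fun a : S => ((a : X) : G)) (IsMulCommutative.is_comm.comm (⟨s, hs⟩ : S) ⟨vX, hvS⟩)
      have h4 : (s : G) ^ 4 = 1 := by
        have := orderOf_dvd_iff_pow_eq_one.1 ((S.orderOf_dvd_natCard hs).trans (dvd_of_eq hS))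
        exact congrArg Subtype.val this
      have cvx : Commute v x := hvx
      rcases good_cent h hO hx hv hvx hc (Subgroup.mem_centralizer_singleton_iff.1 s.2) with
        e | e | e | e | e | e
      · exact Or.inl e
      · rw [e] at h4; have := hxp 4 h4; omega
      · rw [e, ← pow_two, ← pow_mul] at h4; have := hxp _ h4; omega
      · exact Or.inr e
      · rw [e, cvx.mul_pow, show v ^ 4 = 1 by rw [show 4 = 2 * 2 from rfl, pow_mul, show v ^ 2 = 1 by rw [pow_two, hvv], one_pow], one_mul] at h4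
        have := hxp 4 h4; omega
      · rw [e, (cvx.mul_right cvx).mul_pow, show v ^ 4 = 1 by rw [show 4 = 2 * 2 from rfl, pow_mul, show v ^ 2 = 1 by rw [pow_two, hvv], one_pow], one_mul,
          ← pow_two, ← pow_mul] at h4
        have := hxp _ h4; omega
    classical
    let f : S → Fin 2 := fun s => if ((s : X) : G) = 1 then 0 else 1
    have hf : Function.Injective f := fun s t e => by
      refine Subtype.ext (Subtype.ext ?_)
      have h1 : v ≠ 1 := fun e => by rw [e, orderOf_one] at hv; omega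
      rcases hsub _ s.2 with a | a <;> rcases hsub _ t.2 with b | b <;> simp only [f, a, b, h1, ↓reduceIte] at e <;> first | exact a.trans b.symm | exact absurd e (by decide)
    have := Nat.card_le_card_of_injective f hf
    rw [hS] at this
    simp at this
  have hcases : ∀ d ∈ Nat.divisors 5616, ¬ 13 ∣ d → 2 ∣ d → 3 ∣ d → ¬ 4 ∣ d → d = 6 ∨ d = 18 ∨ d = 54 := by
    decide +kernel
  have hd : Nat.card X ∣ 5616 := hG ▸ Subgroup.card_subgroup_dvd_card X
  suffices key : ∀ k, 1 ≤ k → k ≤ 2 → Nat.card X ≠ 2 * 3 ^ k by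
    rcases hcases _ (Nat.mem_divisors.2 ⟨hd, by norm_num⟩) h13 h2 h3 h4 with e | e | e
    · exact absurd e (key 1 le_rfl (by norm_num))
    · exact absurd e (key 2 (by norm_num) le_rfl)
    · exact e
  intro k hk1 hk2 hX
  obtain ⟨K, hK, hKmem⟩ := odd_core h hO hG hX
  have hpk : (x : G) ^ 3 ^ k = 1 := orderOf_dvd_iff_pow_eq_one.1 (by rw [hx]; exact dvd_pow_self 3 (by omega))
  have hxK : x ∈ K := (hKmem x).2 ⟨rfl, hpk⟩
  obtain ⟨P, hP⟩ := (IsPGroup.of_card (p := 3) (n := k) hK).exists_le_sylow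
  have hP27 : Nat.card (P : Subgroup G) = 27 := by
    rw [P.card_eq_multiplicity, hG, show (5616 : ℕ) = 3 ^ 3 * 208 by norm_num,
      Nat.factorization_mul (by norm_num) (by norm_num), Finsupp.add_apply,
      Nat.Prime.factorization_pow Nat.prime_three, Finsupp.single_eq_same,
      Nat.factorization_eq_zero_of_not_dvd (by norm_num : ¬ 3 ∣ 208)]
    norm_num
  have hPX : ¬ ∀ p ∈ (P : Subgroup G), p * x = x * p := by
    intro hall
    have := Subgroup.card_dvd_of_le (H := (P : Subgroup G)) (K := X)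
      fun p hp => Subgroup.mem_centralizer_singleton_iff.2 (hall p hp)
    rw [hP27, hX] at this
    interval_cases k <;> norm_num at this
  haveI : Nontrivial (P : Subgroup G) := by
    rw [← Finite.one_lt_card_iff_nontrivial, hP27]; norm_num
  haveI := P.isPGroup'.center_nontrivial
  obtain ⟨⟨⟨z, hzP⟩, hzc⟩, hz⟩ := exists_prime_orderOf_dvd_card' (G := Subgroup.center (P : Subgroup G)) 3 (by
    obtain ⟨m, hm⟩ := (P.isPGroup'.to_subgroup (Subgroup.center (P : Subgroup G))).exists_card_eq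
    rw [hm]
    refine dvd_pow_self 3 fun e => ?_
    have := Finite.one_lt_card (α := Subgroup.center (P : Subgroup G))
    rw [hm, e] at this; omega)
  rw [Subgroup.orderOf_mk, Subgroup.orderOf_mk] at hz
  have hzP' : ∀ p ∈ (P : Subgroup G), p * z = z * p := fun p hp =>
    congrArg Subtype.val (Subgroup.mem_center_iff.1 hzc ⟨p, hp⟩)
  have hzK : z ∈ K := (hKmem z).2 ⟨(hzP' x (hP hxK)).symm,
    orderOf_dvd_iff_pow_eq_one.1 (by rw [hz]; exact dvd_pow_self 3 (by omega))⟩
  have hzne : z ∉ Subgroup.zpowers x := by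
    intro hzx
    have he := Subgroup.eq_of_le_of_card_ge (Subgroup.zpowers_le.2 hzx)
      (by rw [Nat.card_zpowers, Nat.card_zpowers, hx, hz])
    have hxz : x ∈ Subgroup.zpowers z := he.symm ▸ Subgroup.mem_zpowers x
    obtain ⟨m, rfl⟩ := hxz
    exact hPX fun p hp => ((show Commute p z from hzP' p hp).zpow_right m).eq
  have pr : PairThree x z := ⟨hx, hz, hzP' x (hP hxK), hzne⟩
  interval_cases k
  · refine hzne ?_
    rw [Subgroup.eq_of_le_of_card_ge (Subgroup.zpowers_le.2 hxK) (by rw [hK, Nat.card_zpowers, hx]; norm_num)]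
    exact hzK
  have hcov : ∀ g ∈ K, ∃ i j, i < 3 ∧ j < 3 ∧ g = x ^ i * z ^ j := fun g hg =>
    pr.cover (by rw [hK]; norm_num) hxK hzK hg
  have hKconj : ∀ u : G, (u * x * u⁻¹ = x ∨ u * x * u⁻¹ = x⁻¹) → ∀ g ∈ K, u * g * u⁻¹ ∈ K := by
    intro u hu g hg
    obtain ⟨hg1, hg2⟩ := (hKmem g).1 hg
    refine (hKmem _).2 ⟨?_, by rw [conj_pow, hg2]; group⟩
    have e : u * g * u⁻¹ * (u * x * u⁻¹) = u * x * u⁻¹ * (u * g * u⁻¹) := by
      rw [show u * g * u⁻¹ * (u * x * u⁻¹) = u * (g * x) * u⁻¹ by group, hg1]; group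
    rcases hu with e' | e' <;> rw [e'] at e
    · exact e
    · simpa using (Commute.inv_right (show Commute (u * g * u⁻¹) x⁻¹ from e)).eq
  have cvpow : ∀ m : ℕ, v * x ^ m * v⁻¹ = x ^ m := fun m => by
    rw [((show Commute v x from hvx).pow_right m).eq, mul_inv_cancel_right]
  obtain ⟨i, j, hi, hj, hvz⟩ := hcov _ (hKconj v (Or.inl (conj_eq_iff_comm.2 hvx)) z hzK)
  have hback : z = x ^ (i + i * j) * z ^ (j * j) := by
    calc z = v * (v * z * v⁻¹) * v⁻¹ := by
          rw [inv_eq_of_mul_eq_one_right hvv, show v * (v * z * v) * v = v * v * z * (v * v) by group, hvv]; group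
      _ = v * x ^ i * v⁻¹ * (v * z * v⁻¹) ^ j := by rw [conj_pow, hvz]; group
      _ = x ^ i * z ^ 0 * (x ^ (i * j) * z ^ (j * j)) := by rw [cvpow, hvz, pr.mk_pow, pow_zero, mul_one]
      _ = x ^ (i + i * j) * z ^ (j * j) := by rw [pr.mul_mk, zero_add]
  have hsol : j = 2 := by
    have e : x ^ 0 * z ^ 1 = x ^ (i + i * j) * z ^ (j * j) := by rw [← hback, pow_zero, one_mul, pow_one]
    obtain ⟨e1, e2⟩ := (pr.eq_iff _ _ _ _).1 e
    interval_cases j
    · simp at e2
    · exfalso
      have hi0 : i = 0 := by omega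
      rw [hi0, pow_zero, one_mul, pow_one, conj_eq_iff_comm] at hvz
      have hzx := good_cent h hO hx hv hvx hvz.symm (hzP' x (hP hxK)).symm
      have h2z : z ^ 3 = 1 := by rw [← hz, pow_orderOf_eq_one]
      have hvne : ∀ m, (v * x ^ m) ^ 3 ≠ 1 := fun m e => by
        rw [((show Commute v x from hvx).pow_right m).mul_pow, ← pow_mul, pow_mod_three hx,
          Nat.mul_mod_left, pow_zero, mul_one, pow_three, hvv, mul_one] at e
        rw [e, orderOf_one] at hv; omega
      rcases hzx with e | e | e | e | e | e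
      · rw [e] at hzne; exact hzne (one_mem _)
      · rw [e] at hzne; exact hzne (Subgroup.mem_zpowers x)
      · rw [e] at hzne; exact hzne (mul_mem (Subgroup.mem_zpowers x) (Subgroup.mem_zpowers x))
      · exact hvne 0 (by rw [pow_zero, mul_one, ← e, h2z])
      · exact hvne 1 (by rw [pow_one, ← e, h2z])
      · exact hvne 2 (by rw [pow_two, ← e, h2z])
    · rfl
  subst hsol
  rcases Nat.eq_zero_or_pos i with rfl | hi0
  · rw [pow_zero, one_mul] at hvz
    obtain ⟨y, hy, -, hyv, hyx⟩ := good_inverter h hO hx hv hvx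
    obtain ⟨a, b, ha, hb, hyz⟩ := hcov _ (hKconj y (Or.inr hyx) z hzK)
    have e : x ^ a * z ^ (2 * b) = x ^ (a * 2) * z ^ (b * 2) := by
      calc x ^ a * z ^ (2 * b) = v * x ^ a * v⁻¹ * (v * z * v⁻¹) ^ b := by rw [cvpow, hvz, pow_mul]
        _ = v * (y * z * y⁻¹) * v⁻¹ := by rw [hyz, conj_pow]; group
        _ = y * (v * z * v⁻¹) * y⁻¹ := by
          rw [show v * (y * z * y⁻¹) * v⁻¹ = v * y * z * (v * y)⁻¹ by group, ← hyv]; group
        _ = x ^ (a * 2) * z ^ (b * 2) := by rw [hvz, ← conj_pow, hyz, pr.mk_pow]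
    have ha0 : a = 0 := by obtain ⟨e1, -⟩ := (pr.eq_iff _ _ _ _).1 e; omega
    rw [ha0, pow_zero, one_mul] at hyz
    have hgz : Good z := by
      refine ⟨hz, ?_⟩
      interval_cases b
      · exfalso
        rw [pow_zero, conj_eq_one_iff] at hyz
        rw [hyz, orderOf_one] at hz; omega
      · exact ⟨y, hy, conj_eq_iff_comm.1 (hyz.trans (pow_one z))⟩
      · refine ⟨y * v, orderOf_eq_prime ?_ ?_, conj_eq_iff_comm.1 ?_⟩
        · rw [(show Commute y v from hyv).mul_pow, ← hv, pow_orderOf_eq_one, mul_one, hv, ← hy,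
            pow_orderOf_eq_one]
        · intro e1
          rw [mul_eq_one_iff_eq_inv] at e1
          rw [e1, inv_eq_of_mul_eq_one_right hvv, conj_eq_iff_comm.2 hvx, inv_eq_sq hx] at hyx
          have := hxp 1 (by
            rw [pow_one]
            calc x = x * (x * x⁻¹) := by group
              _ = x ^ 2 * x⁻¹ := by group
              _ = 1 := by rw [← hyx, mul_inv_cancel])
          omega
        · rw [show y * v * z * (y * v)⁻¹ = y * (v * z * v⁻¹) * y⁻¹ by group, hvz, ← conj_pow, hyz, ← pow_mul,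
            pow_mod_three hz, show 2 * 2 % 3 = 1 by norm_num, pow_one]
    obtain ⟨g, hgx⟩ := good_conj h hO hg hgz
    have := Subgroup.card_dvd_of_le (H := (P : Subgroup G)) (K := Subgroup.centralizer ({z} : Set G))
      fun p hp => Subgroup.mem_centralizer_singleton_iff.2 (hzP' p hp)
    rw [hP27, ← hgx, card_cent_conj, hX] at this
    norm_num at this
  · -- `x` is conjugate to `x z ^ (2 i)`, hence to `z ^ i`
    obtain ⟨p, hpP, hpx⟩ : ∃ p ∈ (P : Subgroup G), p * x ≠ x * p := by
      by_contra hne; push Not at hne; exact hPX hne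
    haveI : (K.subgroupOf (P : Subgroup G)).Normal := by
      refine Subgroup.normal_of_index_eq_minFac_card ?_
      have := (K.subgroupOf (P : Subgroup G)).card_mul_index
      rw [Nat.card_congr (Subgroup.subgroupOfEquivOfLe hP).toEquiv, hK, hP27] at this
      rw [hP27, show Nat.minFac 27 = 3 by norm_num]
      omega
    have hpK : p * x * p⁻¹ ∈ K := by
      have hn : (K.subgroupOf (P : Subgroup G)).Normal := inferInstance
      exact hn.conj_mem ⟨x, hP hxK⟩ hxK ⟨p, hpP⟩
    obtain ⟨a, b, -, -, hpe⟩ := hcov _ hpK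
    have hp27 : p ^ 27 = 1 :=
      orderOf_dvd_iff_pow_eq_one.1 (hP27 ▸ (P : Subgroup G).orderOf_dvd_natCard hpP)
    obtain ⟨q, -, -, hq⟩ := pr.symm.shear (H := (P : Subgroup G)) hpP hp27 (hzP' p hpP) hpx
      (k := b) (l := a) (by rw [hpe]; exact ((show Commute x z from pr.comm).pow_pow a b).eq)
      (c := 2 * i % 3) (by omega)
    have hw : v * z ^ i * v⁻¹ = z ^ (2 * i % 3) * x := by
      rw [← conj_pow, hvz, pr.mk_pow, pr.mk_mod,
        show i * i % 3 = 1 by interval_cases i <;> norm_num, pow_one]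
      exact ((show Commute x z from pr.comm).pow_right _).eq
    have := Subgroup.card_dvd_of_le (H := (P : Subgroup G)) (K := Subgroup.centralizer ({z ^ i} : Set G))
      fun p hp => Subgroup.mem_centralizer_singleton_iff.2 ((show Commute p z from hzP' p hp).pow_right i).eq
    rw [hP27, ← card_cent_conj v (z ^ i), hw, ← hq, card_cent_conj, hX] at this
    norm_num at this

/-- The Sylow 3-subgroup of the centralizer of a good element. -/
theorem good_sylow {x : G} (hg : Good x) :
    ∃ P : Subgroup G, Nat.card P = 27 ∧ ∀ g, g ∈ P ↔ (g * x = x * g ∧ g ^ 27 = 1) := by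
  obtain ⟨P, hP, hm⟩ := odd_core h hO hG (x := x) (k := 3) (by rw [good_card h hO hG hg]; norm_num)
  exact ⟨P, by rw [hP]; norm_num, fun g => by rw [hm]; norm_num⟩

end Cfsg.Agent.Invol.GL23
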