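import Mathlib
import Cfsg.Agent.Lib.Invol.Order5616Local

/-!
Groups of order 5616 with involution centralizer `GL(2,3)`: the two classes of subgroups of index 13.
-/

set_option autoImplicit false
set_option maxRecDepth 100000
set_option linter.style.haveILetI false

namespace Cfsg.Agent.Invol.GL23

open Cfsg Cfsg.Agent.Char Cfsg.Agent.Block

universe u

variable {G : Type u} [Group G] [Finite G] {ψ : Q →* G} (h : Emb ψ) (hO : pResidual 2 G = ⊤)
  (hG : Nat.card G = 5616)

omit [Finite G] in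
theorem eq_of_spec {x : G} {P : Subgroup G} (hP : ∀ g, g ∈ P ↔ (g * x = x * g ∧ g ^ 27 = 1))
    {u p : G} (hu : u * x * u⁻¹ = x ∨ u * x * u⁻¹ = x⁻¹) (hp : p ∈ P) : u * p * u⁻¹ ∈ P := by
  obtain ⟨h1, h2⟩ := (hP p).1 hp
  refine (hP _).2 ⟨?_, by rw [conj_pow, h2]; group⟩
  have e : u * p * u⁻¹ * (u * x * u⁻¹) = u * x * u⁻¹ * (u * p * u⁻¹) := by
    rw [show u * p * u⁻¹ * (u * x * u⁻¹) = u * (p * x) * u⁻¹ by group, h1]; group
  rcases hu with e' | e' <;> rw [e'] at e
  · exact e
  · simpa using (Commute.inv_right (show Commute (u * p * u⁻¹) x⁻¹ from e)).eq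

include h hO hG

omit hG in
/-- Elements of 3-power order commuting with a good element and its involution. -/
theorem cent_three {x v g : G} (hx : orderOf x = 3) (hv : orderOf v = 2) (hc : v * x = x * v)
    (hgv : g * v = v * g) (hgx : g * x = x * g) (hg : g ^ 27 = 1) : g ∈ Subgroup.zpowers x := by
  have hvm : ∀ m : ℕ, (v * x ^ m) ^ 27 ≠ 1 := fun m e => by
    rw [((show Commute v x from hc).pow_right m).mul_pow, ← pow_mul, pow_mod_three hx (m * 27),
      show m * 27 % 3 = 0 by omega, pow_zero, mul_one,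
      show (27 : ℕ) = 2 * 13 + 1 by norm_num, pow_succ, pow_mul,
      show v ^ 2 = 1 by rw [← hv, pow_orderOf_eq_one], one_pow, one_mul] at e
    rw [e, orderOf_one] at hv; omega
  rcases good_cent h hO hx hv hc hgv hgx with e | e | e | e | e | e
  · rw [e]; exact one_mem _
  · rw [e]; exact Subgroup.mem_zpowers x
  · rw [e]; exact mul_mem (Subgroup.mem_zpowers x) (Subgroup.mem_zpowers x)
  · exact absurd (by rw [pow_zero, mul_one, ← e, hg]) (hvm 0)
  · exact absurd (by rw [pow_one, ← e, hg]) (hvm 1)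
  · exact absurd (by rw [pow_two, ← e, hg]) (hvm 2)

/-- The centralizer in `P` of an inverting involution. -/
theorem axis {x v y : G} {P : Subgroup G} (hx : orderOf x = 3) (hv : orderOf v = 2) (hvx : v * x = x * v)
    (hP : Nat.card P = 27) (hPs : ∀ g, g ∈ P ↔ (g * x = x * g ∧ g ^ 27 = 1))
    (hy : orderOf y = 2) (hyv : y * v = v * y) (hyx : y * x * y⁻¹ = x⁻¹) :
    ∃ a ∈ P, PairThree x a ∧ y * a * y⁻¹ = a ∧ v * a * v⁻¹ = a⁻¹ := by
  haveI : Fact (Nat.Prime 3) := ⟨Nat.prime_three⟩
  have hxP : x ∈ P := (hPs x).2 ⟨rfl, orderOf_dvd_iff_pow_eq_one.1 (by rw [hx]; norm_num)⟩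
  have hyy : y * y = 1 := by rw [← sq, ← hy, pow_orderOf_eq_one]
  have hvv : v * v = 1 := by rw [← sq, ← hv, pow_orderOf_eq_one]
  have hx2 : x⁻¹ ≠ x := fun e => by
    have := orderOf_dvd_of_pow_eq_one (show x ^ 2 = 1 by rw [pow_two]; nth_rewrite 1 [← e]; rw [inv_mul_cancel])
    rw [hx] at this; norm_num at this
  have hyn : ∀ p ∈ P, y * p * y⁻¹ ∈ P := fun p hp => eq_of_spec hPs (Or.inr hyx) hp
  have hvn : ∀ p ∈ P, v * p * v⁻¹ ∈ P := fun p hp => eq_of_spec hPs (Or.inl (conj_eq_iff_comm.2 hvx)) hp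
  have hw : orderOf (y * v) = 2 := by
    refine orderOf_eq_prime (by rw [(show Commute y v from hyv).mul_pow, pow_two, pow_two, hyy, hvv, one_mul])
      fun e => hx2 ?_
    rw [mul_eq_one_iff_eq_inv, inv_eq_of_mul_eq_one_right hvv] at e
    rw [e, conj_eq_iff_comm.2 hvx] at hyx
    exact hyx.symm
  set A := P ⊓ Subgroup.centralizer ({y} : Set G) with hA
  obtain ⟨k, -, hk⟩ := (Nat.dvd_prime_pow Nat.prime_three).1
    (show Nat.card A ∣ 3 ^ 3 from (Subgroup.card_dvd_of_le inf_le_left).trans (dvd_of_eq (hP.trans (by norm_num))))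
  have hk1 : k ≤ 1 := invol_three_le h hO hy hk fun g hg => Subgroup.mem_centralizer_singleton_iff.1 hg.2
  have hk0 : k ≠ 0 := by
    rintro rfl
    have hA1 : ∀ p ∈ P, y * p = p * y → p = 1 := fun p hp hc => by
      have : p ∈ A := ⟨hp, Subgroup.mem_centralizer_singleton_iff.2 hc.symm⟩
      rw [Subgroup.card_eq_one.1 (hk.trans (pow_zero 3))] at this
      exact this
    have hinv := inverts_of_fixed_free hyy hyn hA1
    have hcomm : ∀ p ∈ P, ∀ q ∈ P, p * q = q * p := fun p hp q hq => by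
      have e := hinv _ (mul_mem hp hq)
      rw [show y * (p * q) * y⁻¹ = y * p * y⁻¹ * (y * q * y⁻¹) by group, hinv p hp, hinv q hq, ← mul_inv_rev,
        inv_inj] at e
      exact e.symm
    let d : ↥P →* G :=
      { toFun := fun p => (p : G)⁻¹ * (v * p * v⁻¹)
        map_one' := by simp
        map_mul' := fun p q => by
          have e := hcomm (q : G)⁻¹ (inv_mem q.2) ((p : G)⁻¹ * (v * p * v⁻¹))
            (mul_mem (inv_mem p.2) (hvn _ p.2))
          show ((p : G) * q)⁻¹ * (v * ((p : G) * q) * v⁻¹) = (p : G)⁻¹ * (v * p * v⁻¹) * ((q : G)⁻¹ * (v * q * v⁻¹))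
          rw [← mul_assoc ((p : G)⁻¹ * (v * p * v⁻¹)), ← e]; group }
    have hker : Nat.card d.ker ∣ 3 := by
      rw [← Subgroup.card_map_of_injective (K := d.ker) P.subtype_injective, ← hx, ← Nat.card_zpowers]
      refine Subgroup.card_dvd_of_le ?_
      rintro _ ⟨p, hp, rfl⟩
      have hp' : (p : G)⁻¹ * (v * p * v⁻¹) = 1 := hp
      rw [inv_mul_eq_one, eq_comm] at hp'
      exact cent_three h hO hx hv hvx (conj_eq_iff_comm.1 hp').symm ((hPs p).1 p.2).1 ((hPs p).1 p.2).2
    have hr : Nat.card d.range ∣ 3 ^ 3 :=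
      (dvd_of_mul_left_eq _ (by rw [← Subgroup.index_ker d, d.ker.card_mul_index])).trans
        (dvd_of_eq (hP.trans (by norm_num)))
    obtain ⟨m, -, hm⟩ := (Nat.dvd_prime_pow Nat.prime_three).1 hr
    have hm1 : m ≤ 1 := invol_three_le h hO hw hm fun g hg => by
      obtain ⟨p, rfl⟩ := hg
      refine (conj_eq_iff_comm.1 ?_).symm
      show y * v * ((p : G)⁻¹ * (v * p * v⁻¹)) * (y * v)⁻¹ = (p : G)⁻¹ * (v * p * v⁻¹)
      rw [show y * v * ((p : G)⁻¹ * (v * p * v⁻¹)) * (y * v)⁻¹ =
        y * ((v * p * v⁻¹)⁻¹ * (v * (v * p * v⁻¹) * v⁻¹)) * y⁻¹ by group,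
        hinv _ (mul_mem (inv_mem (hvn _ p.2)) (hvn _ (hvn _ p.2))), mul_inv_rev, inv_inv,
        inv_eq_of_mul_eq_one_right hvv]
      rw [show v * (v * (p : G) * v) * v = v * v * p * (v * v) by group, hvv, one_mul, mul_one]
    have hc := d.ker.card_mul_index
    rw [Subgroup.index_ker, hm, hP] at hc
    have := Nat.le_of_dvd (by norm_num) hker
    interval_cases m <;> omega
  have hA3 : Nat.card A = 3 := by rw [hk, show k = 1 by omega, pow_one]
  obtain ⟨⟨a, haA⟩, hao⟩ := exists_prime_orderOf_dvd_card' (G := A) 3 (by rw [hA3])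
  rw [Subgroup.orderOf_mk] at hao
  have haP : a ∈ P := haA.1
  have hay : y * a * y⁻¹ = a := conj_eq_iff_comm.2 (Subgroup.mem_centralizer_singleton_iff.1 haA.2).symm
  have hne : a ∉ Subgroup.zpowers x := by
    intro ha
    obtain ⟨m, rfl⟩ := ha
    simp only at hay hao
    rw [← conj_zpow, hyx, inv_zpow] at hay
    have := orderOf_dvd_of_pow_eq_one (show (x ^ m) ^ 2 = 1 by
      rw [pow_two]; nth_rewrite 1 [← hay]; rw [inv_mul_cancel])
    rw [hao] at this; norm_num at this
  have pr : PairThree x a := ⟨hx, hao, ((hPs a).1 haP).1.symm, hne⟩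
  refine ⟨a, haP, pr, hay, ?_⟩
  have hAz : A = Subgroup.zpowers a := (Subgroup.eq_of_le_of_card_ge (Subgroup.zpowers_le.2 haA)
    (by rw [hA3, Nat.card_zpowers, hao])).symm
  have hva : v * a * v⁻¹ ∈ A := ⟨hvn a haP, Subgroup.mem_centralizer_singleton_iff.2 (conj_eq_iff_comm.1 (by
    rw [show y * (v * a * v⁻¹) * y⁻¹ = y * v * a * (y * v)⁻¹ by group, hyv,
      show v * y * a * (v * y)⁻¹ = v * (y * a * y⁻¹) * v⁻¹ by group, hay])).symm⟩
  classical
  rw [hAz, mem_zpowers_iff_mem_range_orderOf, hao] at hva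
  simp only [Finset.mem_image, Finset.mem_range] at hva
  obtain ⟨m, hm, hm'⟩ := hva
  interval_cases m
  · exfalso
    rw [pow_zero, eq_comm, conj_eq_one_iff] at hm'
    rw [hm', orderOf_one] at hao; omega
  · exfalso
    rw [pow_one, eq_comm] at hm'
    exact hne (cent_three h hO hx hv hvx (conj_eq_iff_comm.1 hm').symm ((hPs a).1 haP).1 ((hPs a).1 haP).2)
  · rw [← hm', inv_eq_sq hao]

/-- No abelian Sylow 3-subgroup carries such a frame. -/
theorem not_comm {x v y a b : G} {P : Subgroup G} (hx : Good x) (hv : orderOf v = 2) (hvx : v * x = x * v)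
    (hP : Nat.card P = 27) (hPs : ∀ g, g ∈ P ↔ (g * x = x * g ∧ g ^ 27 = 1))
    (hy : orderOf y = 2) (hyv : y * v = v * y) (hyx : y * x * y⁻¹ = x⁻¹)
    (ha : a ∈ P) (pa : PairThree x a) (hya : y * a * y⁻¹ = a) (hva : v * a * v⁻¹ = a⁻¹) (ga : Good a)
    (hb : b ∈ P) (pb : PairThree x b) (hyb : y * b * y⁻¹ = b⁻¹) (hvb : v * b * v⁻¹ = b⁻¹) (gb : Good b) :
    ∃ p ∈ P, ∃ q ∈ P, p * q ≠ q * p := by
  by_contra hcon
  push Not at hcon
  haveI : Fact (Nat.Prime 3) := ⟨Nat.prime_three⟩
  haveI : Fact (Nat.Prime 2) := ⟨Nat.prime_two⟩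
  haveI : Fact (Nat.Prime 13) := ⟨by norm_num⟩
  set N := Subgroup.normalizer (P : Set G) with hN
  have hinP : ∀ c ∈ P, Good c → ∀ g, g * c = c * g → g ^ 27 = 1 → g ∈ P := by
    intro c hc gc g h1 h2
    obtain ⟨Pc, hPc, hPcs⟩ := good_sylow h hO hG gc
    rw [Subgroup.eq_of_le_of_card_ge (show P ≤ Pc from fun p hp => (hPcs p).2 ⟨hcon p hp c hc, ((hPs p).1 hp).2⟩)
      (by rw [hP, hPc])]
    exact (hPcs g).2 ⟨h1, h2⟩
  have hmemN : ∀ u : G, (∀ p ∈ P, u * p * u⁻¹ ∈ P) → u ∈ N := by
    intro u hu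
    have e : P.map (MulAut.conj u).toMonoidHom = P := Subgroup.eq_of_le_of_card_ge
      (by rintro _ ⟨p, hp, rfl⟩; exact hu p hp)
      (le_of_eq (Subgroup.card_map_of_injective (K := P) (MulAut.conj u).injective).symm)
    refine Subgroup.mem_normalizer_iff.2 fun p => ⟨hu p, fun hp => ?_⟩
    rw [← e] at hp
    obtain ⟨q, hq, hqe⟩ := hp
    rwa [← (MulAut.conj u).injective (show MulAut.conj u q = MulAut.conj u p from hqe)]
  have mover : ∀ c ∈ P, Good c → ∃ g ∈ N, g * x * g⁻¹ = c := by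
    intro c hc gc
    obtain ⟨g, hg⟩ := good_conj h hO hx gc
    refine ⟨g, hmemN g fun p hp => hinP c hc gc _ ?_ (by rw [conj_pow, ((hPs p).1 hp).2]; group), hg⟩
    rw [← hg, show g * p * g⁻¹ * (g * x * g⁻¹) = g * (p * x) * g⁻¹ by group, ((hPs p).1 hp).1]; group
  have hxP : x ∈ P := (hPs x).2 ⟨rfl, orderOf_dvd_iff_pow_eq_one.1 (by rw [hx.1]; norm_num)⟩
  have hXN : Subgroup.centralizer ({x} : Set G) ≤ N := fun g hg => hmemN g fun p hp =>
    eq_of_spec hPs (Or.inl (conj_eq_iff_comm.2 (Subgroup.mem_centralizer_singleton_iff.1 hg))) hp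
  have hyN : y ∈ N := hmemN y fun p hp => eq_of_spec hPs (Or.inr hyx) hp
  have hvN : v ∈ N := hXN (Subgroup.mem_centralizer_singleton_iff.2 hvx)
  set O := Set.range fun n : N => (n : G) * x * (n : G)⁻¹ with hO'
  have hcard := card_conj_orbit N x
  rw [inf_of_le_right hXN, good_card h hO hG hx, ← hO'] at hcard
  have hab : PairThree a b := by
    refine ⟨pa.oa, pb.oa, hcon a ha b hb, fun hm => ?_⟩
    obtain ⟨m, rfl⟩ := hm
    simp only at hyb
    rw [← conj_zpow, hya] at hyb
    have := orderOf_dvd_of_pow_eq_one (show (a ^ m) ^ 2 = 1 by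
      rw [pow_two]; nth_rewrite 2 [hyb]; rw [mul_inv_cancel])
    rw [show orderOf (a ^ m) = 3 from pb.oa] at this; norm_num at this
  have hOP : O ⊆ (P : Set G) \ {1} := by
    rintro _ ⟨⟨n, hn⟩, rfl⟩
    refine ⟨(Subgroup.mem_normalizer_iff.1 hn x).1 hxP, fun e => ?_⟩
    rw [Set.mem_singleton_iff, conj_eq_one_iff] at e
    have := hx.1
    rw [e, orderOf_one] at this; omega
  have h26 : O.ncard ≤ 26 := by
    refine (Set.ncard_le_ncard hOP (Set.toFinite _)).trans (le_of_eq ?_)
    rw [Set.ncard_sdiff_singleton_of_mem (one_mem P), ← Nat.card_coe_set_eq]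
    exact (congrArg (· - 1) hP)
  have h6 : 6 ≤ O.ncard := by
    obtain ⟨g, hg, hga⟩ := mover a ha ga
    obtain ⟨g', hg', hgb⟩ := mover b hb gb
    have inO : ∀ c : G, (∃ n ∈ N, n * x * n⁻¹ = c) → c ∈ O ∧ c⁻¹ ∈ O := by
      rintro c ⟨n, hn, rfl⟩
      exact ⟨⟨⟨n, hn⟩, rfl⟩, ⟨⟨n * y, mul_mem hn hyN⟩, by
        show n * y * x * (n * y)⁻¹ = (n * x * n⁻¹)⁻¹
        rw [show n * y * x * (n * y)⁻¹ = n * (y * x * y⁻¹) * n⁻¹ by group, hyx]; group⟩⟩
    obtain ⟨x1, x2⟩ := inO x ⟨1, one_mem _, by group⟩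
    obtain ⟨a1, a2⟩ := inO a ⟨g, hg, hga⟩
    obtain ⟨b1, b2⟩ := inO b ⟨g', hg', hgb⟩
    classical
    let f : Fin 3 × Fin 2 → G := fun p => ![x, a, b] p.1 ^ ((p.2 : ℕ) + 1)
    have hf : Function.Injective f := by
      rintro ⟨i, j⟩ ⟨k, l⟩ e
      have hz : ∀ {c d : G}, PairThree c d → ∀ j l : ℕ, c ^ (j + 1) = d ^ (l + 1) → j < 2 → False := by
        intro c d pr j l e hj
        have e' : c ^ (j + 1) * d ^ 0 = c ^ 0 * d ^ (l + 1) := by simpa using e
        have := ((pr.eq_iff _ _ _ _).1 e').1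
        omega
      have hs : ∀ {c : G}, orderOf c = 3 → c ^ ((j : ℕ) + 1) = c ^ ((l : ℕ) + 1) → j = l := fun hc e => by
        have := pow_eq_pow_iff_modEq.1 e
        rw [hc] at this
        unfold Nat.ModEq at this
        omega
      fin_cases i <;> fin_cases k <;> simp [f] at e ⊢
      · exact hs pa.ox e
      · exact hz pa _ _ e j.2
      · exact hz pb _ _ e j.2
      · exact hz pa.symm _ _ e j.2
      · exact hs pa.oa e
      · exact hz hab _ _ e j.2
      · exact hz pb.symm _ _ e j.2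
      · exact hz hab.symm _ _ e j.2
      · exact hs pb.oa e
    have hr : Set.range f ⊆ O := by
      rintro _ ⟨⟨i, j⟩, rfl⟩
      fin_cases i <;> fin_cases j <;> simp only [f] <;> norm_num
      · exact x1
      · rw [← inv_eq_sq hx.1]; exact x2
      · exact a1
      · rw [← inv_eq_sq pa.oa]; exact a2
      · exact b1
      · rw [← inv_eq_sq pb.oa]; exact b2
    have := Set.ncard_le_ncard hr (Set.toFinite _)
    rw [← Nat.card_coe_set_eq, Nat.card_range_of_injective hf] at this
    simpa using this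
  have hdvd : O.ncard * 54 ∣ 5616 := by
    rw [← hcard, ← hG]; exact Subgroup.card_subgroup_dvd_card N
  have hcases : ∀ m ∈ Finset.range 27, 6 ≤ m → m * 54 ∣ 5616 → m = 8 ∨ m = 13 ∨ m = 26 := by decide +kernel
  rcases hcases _ (Finset.mem_range.2 (by omega)) h6 hdvd with e | he
  · -- order 432
    rw [e] at hcard
    let vN : N := ⟨v, hvN⟩
    let yN : N := ⟨y, hyN⟩
    have hV : IsPGroup 2 (Subgroup.zpowers yN ⊔ Subgroup.zpowers vN : Subgroup N) := by
      refine (IsPGroup.of_card (n := 1) (by rw [Nat.card_zpowers, Subgroup.orderOf_mk, hy]; norm_num)).to_sup_of_normal_right'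
        (IsPGroup.of_card (n := 1) (by rw [Nat.card_zpowers, Subgroup.orderOf_mk, hv]; norm_num)) ?_
      rw [Subgroup.zpowers_le]
      have hc : Commute yN vN := Subtype.ext hyv
      exact Subgroup.mem_normalizer_iff.2 fun g => ⟨fun ⟨m, hm⟩ => ⟨m, by
        rw [← hm]; show vN ^ m = yN * vN ^ m * yN⁻¹; rw [(hc.zpow_right m).eq, mul_inv_cancel_right]⟩,
        fun ⟨m, hm⟩ => ⟨m, by
          have hm' : vN ^ m = yN * g * yN⁻¹ := hm
          calc vN ^ m = yN⁻¹ * (vN ^ m * yN) := by rw [← (hc.zpow_right m).eq, inv_mul_cancel_left]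
            _ = g := by rw [hm']; group⟩⟩
    obtain ⟨S, hS⟩ := hV.exists_le_sylow
    haveI : Nontrivial (S : Subgroup N) := Subgroup.nontrivial_iff_exists_ne_one _ |>.2
      ⟨vN, hS (Subgroup.mem_sup_right (Subgroup.mem_zpowers vN)), fun e => by
        have := congrArg Subtype.val e
        simp only [vN, OneMemClass.coe_one] at this
        rw [this, orderOf_one] at hv; omega⟩
    haveI := S.isPGroup'.center_nontrivial
    obtain ⟨⟨⟨zN, hzS⟩, hzc⟩, hz⟩ := exists_prime_orderOf_dvd_card' (G := Subgroup.center (S : Subgroup N)) 2 (by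
      obtain ⟨m, hm⟩ := (S.isPGroup'.to_subgroup (Subgroup.center (S : Subgroup N))).exists_card_eq
      rw [hm]
      refine dvd_pow_self 2 fun e => ?_
      have := Finite.one_lt_card (α := Subgroup.center (S : Subgroup N))
      rw [hm, e] at this; omega)
    rw [Subgroup.orderOf_mk, Subgroup.orderOf_mk] at hz
    set z : G := (zN : G) with hzd
    have hzo : orderOf z = 2 := by rw [hzd, Subgroup.orderOf_coe, hz]
    have hzz : z * z = 1 := by rw [← sq, ← hzo, pow_orderOf_eq_one]
    have hzcS : ∀ s ∈ (S : Subgroup N), (s : G) * z = z * s := fun s hs =>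
      congrArg (fun u : (S : Subgroup N) => ((u : N) : G)) (Subgroup.mem_center_iff.1 hzc ⟨s, hs⟩)
    have hzv : v * z = z * v := hzcS vN (hS (Subgroup.mem_sup_right (Subgroup.mem_zpowers vN)))
    have hzn : ∀ p ∈ P, z * p * z⁻¹ ∈ P := fun p hp => (Subgroup.mem_normalizer_iff.1 zN.2 p).1 hp
    set Cz := P ⊓ Subgroup.centralizer ({z} : Set G) with hCz
    obtain ⟨k, -, hk⟩ := (Nat.dvd_prime_pow Nat.prime_three).1
      (show Nat.card Cz ∣ 3 ^ 3 from (Subgroup.card_dvd_of_le inf_le_left).trans (dvd_of_eq (hP.trans (by norm_num))))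
    have hk1 : k ≤ 1 := invol_three_le h hO hzo hk fun g hg => Subgroup.mem_centralizer_singleton_iff.1 hg.2
    have hff : ∀ p ∈ P, z * p = p * z → p = 1 := by
      intro c hc hcz
      by_contra hc1
      have hcC : c ∈ Cz := ⟨hc, Subgroup.mem_centralizer_singleton_iff.2 hcz.symm⟩
      have hc3 : orderOf c = 3 := by
        rcases (Nat.dvd_prime Nat.prime_three).1 ((Cz.orderOf_dvd_natCard hcC).trans (hk ▸ Nat.pow_dvd_pow 3 hk1))
          with e | e
        · exact absurd (orderOf_eq_one_iff.1 e) hc1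
        · exact e
      have hgc : Good c := ⟨hc3, z, hzo, hcz⟩
      -- all of `N` normalises `Cz`
      set L := Subgroup.normalizer (Cz : Set G) with hL
      have hPL : P ≤ L := fun p hp => Subgroup.mem_normalizer_iff.2 fun g => by
        constructor
        · intro hg; rw [hcon p hp g hg.1, mul_inv_cancel_right]; exact hg
        · intro hg
          have h1 : g ∈ P := by
            have := mul_mem (mul_mem (inv_mem hp) hg.1) hp
            simpa [mul_assoc] using this
          rwa [hcon p hp g h1, mul_inv_cancel_right] at hg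
      have hSL : (S : Subgroup N).map N.subtype ≤ L := by
        rintro _ ⟨s, hs, rfl⟩
        have hsz : ∀ g : G, g * z = z * g ↔ (s : G) * g * (s : G)⁻¹ * z = z * ((s : G) * g * (s : G)⁻¹) := by
          intro g
          have e1 : (s : G) * z * (s : G)⁻¹ = z := conj_eq_iff_comm.2 (hzcS s hs)
          conv_rhs => rw [← e1, show (s : G) * g * (s : G)⁻¹ * ((s : G) * z * (s : G)⁻¹) = (s : G) * (g * z) * (s : G)⁻¹ by group,
            show (s : G) * z * (s : G)⁻¹ * ((s : G) * g * (s : G)⁻¹) = (s : G) * (z * g) * (s : G)⁻¹ by group]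
          exact ⟨fun e => by rw [e], fun e => mul_left_cancel (mul_right_cancel e)⟩
        refine Subgroup.mem_normalizer_iff.2 fun g => ?_
        show g ∈ Cz ↔ (s : G) * g * (s : G)⁻¹ ∈ Cz
        rw [hCz, Subgroup.mem_inf, Subgroup.mem_inf, Subgroup.mem_centralizer_singleton_iff,
          Subgroup.mem_centralizer_singleton_iff, hsz g, ← Subgroup.mem_normalizer_iff.1 s.2 g]
      have hNL : N ≤ L := by
        have e16 : Nat.card ((S : Subgroup N).map N.subtype) = 16 := by
          rw [Subgroup.card_map_of_injective N.subtype_injective, S.card_eq_multiplicity, hcard,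
            show 8 * 54 = 2 ^ 4 * 27 by norm_num, Nat.factorization_mul (by norm_num) (by norm_num),
            Finsupp.add_apply, Nat.Prime.factorization_pow Nat.prime_two, Finsupp.single_eq_same,
            Nat.factorization_eq_zero_of_not_dvd (by norm_num : ¬ 2 ∣ 27)]
          norm_num
        have hPN : P ≤ N := Subgroup.le_normalizer
        have d1 : 16 ∣ Nat.card (N ⊓ L : Subgroup G) :=
          e16 ▸ Subgroup.card_dvd_of_le (le_inf (Subgroup.map_subtype_le _) hSL)
        have d2 : 27 ∣ Nat.card (N ⊓ L : Subgroup G) := hP ▸ Subgroup.card_dvd_of_le (le_inf hPN hPL)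
        have := Nat.le_of_dvd Nat.card_pos (Nat.Coprime.mul_dvd_of_dvd_of_dvd (by norm_num) d1 d2)
        exact inf_eq_left.1 (Subgroup.eq_of_le_of_card_ge inf_le_left (by rw [hcard]; omega))
      obtain ⟨g, hg, hgx⟩ := mover c hc hgc
      have hxC : x ∈ Cz := (Subgroup.mem_normalizer_iff.1 (hNL hg) x).2 (by rw [hgx]; exact hcC)
      obtain ⟨g', hg', hga⟩ := mover a ha ga
      have haC : a ∈ Cz := hga ▸ (Subgroup.mem_normalizer_iff.1 (hNL hg') x).1 hxC
      refine pa.ne ?_
      rw [Subgroup.eq_of_le_of_card_ge (Subgroup.zpowers_le.2 hxC) (by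
        rw [hk, Nat.card_zpowers, pa.ox]; exact Nat.pow_le_pow_right (by norm_num) hk1 |>.trans (by norm_num))]
      exact haC
    have hzinv := inverts_of_fixed_free hzz hzn hff
    have hvv : v * v = 1 := by rw [← sq, ← hv, pow_orderOf_eq_one]
    have hzv2 : orderOf (z * v) = 2 := by
      refine orderOf_eq_prime (by
        rw [(show Commute z v from hzv.symm).mul_pow, pow_two, pow_two, hzz, hvv, one_mul]) fun e => ?_
      rw [mul_eq_one_iff_eq_inv, inv_eq_of_mul_eq_one_right hvv] at e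
      exact absurd (hff x hxP (by rw [e, hvx])) (fun e1 => by have := hx.1; rw [e1, orderOf_one] at this; omega)
    have hfix : ∀ c ∈ P, v * c * v⁻¹ = c⁻¹ → c * (z * v) = z * v * c := fun c hc e => by
      refine (conj_eq_iff_comm.1 ?_).symm
      rw [show z * v * c * (z * v)⁻¹ = z * (v * c * v⁻¹) * z⁻¹ by group, e, hzinv _ (inv_mem hc), inv_inv]
    set H := P ⊓ Subgroup.centralizer ({z * v} : Set G) with hH
    obtain ⟨m, -, hm⟩ := (Nat.dvd_prime_pow Nat.prime_three).1
      (show Nat.card H ∣ 3 ^ 3 from (Subgroup.card_dvd_of_le inf_le_left).trans (dvd_of_eq (hP.trans (by norm_num))))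
    have hm1 : m ≤ 1 := invol_three_le h hO hzv2 hm fun g hg => Subgroup.mem_centralizer_singleton_iff.1 hg.2
    have haH : a ∈ H := ⟨ha, Subgroup.mem_centralizer_singleton_iff.2 (hfix a ha hva)⟩
    have hbH : b ∈ H := ⟨hb, Subgroup.mem_centralizer_singleton_iff.2 (hfix b hb hvb)⟩
    refine hab.ne ?_
    rw [Subgroup.eq_of_le_of_card_ge (Subgroup.zpowers_le.2 haH) (by
      rw [hm, Nat.card_zpowers, pa.oa]; exact Nat.pow_le_pow_right (by norm_num) hm1 |>.trans (by norm_num))]
    exact hbH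
  · -- order 702 or 1404
    obtain ⟨Q13⟩ : Nonempty (Sylow 13 N) := inferInstance
    have hQc : Nat.card (Q13 : Subgroup N) = 13 := by
      rw [Q13.card_eq_multiplicity, hcard]
      rcases he with e | e <;> rw [e]
      · rw [show 13 * 54 = 13 ^ 1 * 54 by norm_num, Nat.factorization_mul (by norm_num) (by norm_num),
          Finsupp.add_apply, Nat.Prime.factorization_pow (by norm_num), Finsupp.single_eq_same,
          Nat.factorization_eq_zero_of_not_dvd (by norm_num : ¬ 13 ∣ 54)]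
        norm_num
      · rw [show 26 * 54 = 13 ^ 1 * 108 by norm_num, Nat.factorization_mul (by norm_num) (by norm_num),
          Finsupp.add_apply, Nat.Prime.factorization_pow (by norm_num), Finsupp.single_eq_same,
          Nat.factorization_eq_zero_of_not_dvd (by norm_num : ¬ 13 ∣ 108)]
        norm_num
    have hd : Nat.card (Sylow 13 N) ∣ (Q13 : Subgroup N).index := Q13.card_dvd_index
    have hidx := (Q13 : Subgroup N).card_mul_index
    rw [hQc, hcard] at hidx
    have hd108 : Nat.card (Sylow 13 N) ∣ 108 := hd.trans (by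
      rcases (show (Q13 : Subgroup N).index = 54 ∨ (Q13 : Subgroup N).index = 108 by omega) with e | e <;>
        rw [e] <;> norm_num)
    have hmod : Nat.card (Sylow 13 N) % 13 = 1 := card_sylow_modEq_one 13 N
    have hc2 : ∀ d ∈ Nat.divisors 108, d % 13 = 1 → d = 1 ∨ d = 27 := by decide +kernel
    have hnn := (Subgroup.normalizer ((Q13 : Subgroup N) : Set N)).card_mul_index
    have e13 : Nat.card (Sylow 13 N) = (Subgroup.normalizer ((Q13 : Subgroup N) : Set N)).index :=
      Q13.card_eq_index_normalizer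
    rw [← e13, hcard] at hnn
    have hle : (Subgroup.normalizer ((Q13 : Subgroup N) : Set N)).map N.subtype ≤
        Subgroup.normalizer (((Q13 : Subgroup N).map N.subtype : Subgroup G) : Set G) :=
      Subgroup.le_normalizer_map N.subtype
    have h39 := Subgroup.card_dvd_of_le hle
    rw [Subgroup.card_map_of_injective N.subtype_injective, card_normalizer_thirteen h hO hG
      (by rw [Subgroup.card_map_of_injective N.subtype_injective, hQc])] at h39
    have := Nat.le_of_dvd (by norm_num) h39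
    rcases hc2 _ (Nat.mem_divisors.2 ⟨hd108, by norm_num⟩) hmod with e1 | e1 <;> rw [e1] at hnn <;>
      rcases he with e2 | e2 <;> rw [e2] at hnn
    · omega
    · omega
    · rw [show Nat.card (Subgroup.normalizer ((Q13 : Subgroup N) : Set N)) = 26 by omega] at h39
      norm_num at h39
    · rw [show Nat.card (Subgroup.normalizer ((Q13 : Subgroup N) : Set N)) = 52 by omega] at h39
      norm_num at h39

end Cfsg.Agent.Invol.GL23
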