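import Mathlib
import Cfsg.Agent.Lib.Invol.Order5616Frame

/-!
Groups of order 5616 with involution centralizer `GL(2,3)`: two subgroups of index 13 meeting in
order 108.
-/

set_option autoImplicit false
set_option maxRecDepth 100000
set_option linter.style.haveILetI false

namespace Cfsg.Agent.Invol.GL23

open Cfsg Cfsg.Agent.Char Cfsg.Agent.Block

universe u

variable {G : Type u} [Group G] [Finite G] {ψ : Q →* G} (h : Emb ψ) (hO : pResidual 2 G = ⊤)
  (hG : Nat.card G = 5616)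

theorem mem_normalizer_of_conj {E : Subgroup G} {u : G} (hu : ∀ e ∈ E, u * e * u⁻¹ ∈ E) :
    u ∈ Subgroup.normalizer (E : Set G) := by
  have e : E.map (MulAut.conj u).toMonoidHom = E := Subgroup.eq_of_le_of_card_ge
    (by rintro _ ⟨p, hp, rfl⟩; exact hu p hp)
    (le_of_eq (Subgroup.card_map_of_injective (K := E) (MulAut.conj u).injective).symm)
  refine Subgroup.mem_normalizer_iff.2 fun p => ⟨hu p, fun hp => ?_⟩
  rw [← e] at hp
  obtain ⟨q, hq, hqe⟩ := hp
  rwa [← (MulAut.conj u).injective (show MulAut.conj u q = MulAut.conj u p from hqe)]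

theorem mem_normalizer_pair {x a u : G} {E : Subgroup G} (pr : PairThree x a) (hE : Nat.card E ≤ 9)
    (hx : x ∈ E) (ha : a ∈ E) (h1 : u * x * u⁻¹ ∈ E) (h2 : u * a * u⁻¹ ∈ E) :
    u ∈ Subgroup.normalizer (E : Set G) := by
  refine mem_normalizer_of_conj fun e he => ?_
  obtain ⟨i, j, -, -, rfl⟩ := pr.cover hE hx ha he
  rw [show u * (x ^ i * a ^ j) * u⁻¹ = u * x ^ i * u⁻¹ * (u * a ^ j * u⁻¹) by group, ← conj_pow, ← conj_pow]
  exact mul_mem (pow_mem h1 i) (pow_mem h2 j)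

theorem nine_le {x a : G} (pr : PairThree x a) {E : Subgroup G} (hx : x ∈ E) (ha : a ∈ E) :
    9 ≤ Nat.card E := by
  let f : Fin 3 × Fin 3 → E := fun p => ⟨x ^ (p.1 : ℕ) * a ^ (p.2 : ℕ), mul_mem (pow_mem hx _) (pow_mem ha _)⟩
  have hf : Function.Injective f := fun p q e => by
    obtain ⟨e1, e2⟩ := (pr.eq_iff _ _ _ _).1 (congrArg Subtype.val e)
    exact Prod.ext (Fin.ext (by have := p.1.2; have := q.1.2; omega)) (Fin.ext (by have := p.2.2; have := q.2.2; omega))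
  simpa using Nat.card_le_card_of_injective f hf

/-- `P ⊓ C(a)` for a noncentral good `a`. -/
theorem nine {x a : G} {P : Subgroup G} (pr : PairThree x a) (hP : Nat.card P = 27) (hx : x ∈ P)
    (ha : a ∈ P) (hxc : ∀ g ∈ P, g * x = x * g) (hnc : ∃ p ∈ P, p * a ≠ a * p) :
    Nat.card (P ⊓ Subgroup.centralizer ({a} : Set G) : Subgroup G) = 9 ∧
      x ∈ P ⊓ Subgroup.centralizer ({a} : Set G) ∧ a ∈ P ⊓ Subgroup.centralizer ({a} : Set G) ∧
      ∀ p ∈ P, ∀ e ∈ P ⊓ Subgroup.centralizer ({a} : Set G), p * e * p⁻¹ ∈ P ⊓ Subgroup.centralizer ({a} : Set G) := by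
  haveI : Fact (Nat.Prime 3) := ⟨Nat.prime_three⟩
  set E := P ⊓ Subgroup.centralizer ({a} : Set G) with hE
  have h1 : x ∈ E := ⟨hx, Subgroup.mem_centralizer_singleton_iff.2 (hxc a ha).symm⟩
  have h2 : a ∈ E := ⟨ha, Subgroup.mem_centralizer_singleton_iff.2 rfl⟩
  have h9 := nine_le pr h1 h2
  obtain ⟨k, hk3, hk⟩ := (Nat.dvd_prime_pow Nat.prime_three).1
    (show Nat.card E ∣ 3 ^ 3 from (Subgroup.card_dvd_of_le inf_le_left).trans (dvd_of_eq (hP.trans (by norm_num))))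
  have hc : Nat.card E = 9 := by
    interval_cases k
    · omega
    · omega
    · exact hk.trans (by norm_num)
    · exfalso
      obtain ⟨p, hp, hpa⟩ := hnc
      have := Subgroup.eq_of_le_of_card_ge (H := E) (K := P) inf_le_left (by rw [hk, hP]; norm_num)
      rw [← this] at hp
      exact hpa (Subgroup.mem_centralizer_singleton_iff.1 hp.2)
  have hn : (E.subgroupOf P).Normal := by
    refine Subgroup.normal_of_index_eq_minFac_card ?_
    have := (E.subgroupOf P).card_mul_index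
    rw [Nat.card_congr (Subgroup.subgroupOfEquivOfLe (inf_le_left : E ≤ P)).toEquiv, hc, hP] at this
    rw [hP, show Nat.minFac 27 = 3 by norm_num]
    omega
  exact ⟨hc, h1, h2, fun p hp e he => hn.conj_mem ⟨e, he.1⟩ he ⟨p, hp⟩⟩

/-- The shearing elements of the Sylow subgroup of a centralizer. -/
theorem shears {x a : G} {P : Subgroup G} (pr : PairThree x a) (hP : Nat.card P = 27) (hx : x ∈ P)
    (ha : a ∈ P) (hxc : ∀ g ∈ P, g * x = x * g) (hnc : ∃ p ∈ P, p * a ≠ a * p) {c : ℕ}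
    (hc : c = 1 ∨ c = 2) : ∃ q ∈ P, q * x = x * q ∧ q * a * q⁻¹ = x ^ c * a := by
  obtain ⟨h9, hx', ha', hn⟩ := nine pr hP hx ha hxc hnc
  obtain ⟨p, hp, hpa⟩ := hnc
  obtain ⟨k, l, -, -, he⟩ := pr.cover (le_of_eq h9) hx' ha' (hn p hp a ha')
  exact pr.shear hp (orderOf_dvd_iff_pow_eq_one.1 (hP ▸ P.orderOf_dvd_natCard hp)) (hxc p hp) hpa he hc

include h hO hG

/-- The normalizer of `P ⊓ C(a)` has index 13. -/
theorem big {x v y a : G} {P : Subgroup G} (hx : Good x) (hvx : v * x = x * v)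
    (hv : orderOf v = 2)
    (hP : Nat.card P = 27) (hPs : ∀ g, g ∈ P ↔ (g * x = x * g ∧ g ^ 27 = 1))
    (hy : orderOf y = 2) (hyx : y * x * y⁻¹ = x⁻¹)
    (ha : a ∈ P) (pr : PairThree x a) (hya : y * a * y⁻¹ = a) (hva : v * a * v⁻¹ = a⁻¹)
    (hnc : ∃ p ∈ P, p * a ≠ a * p) :
    Nat.card (Subgroup.normalizer ((P ⊓ Subgroup.centralizer ({a} : Set G) : Subgroup G) : Set G)) = 432 ∧
      Subgroup.centralizer ({x} : Set G) ≤
        Subgroup.normalizer ((P ⊓ Subgroup.centralizer ({a} : Set G) : Subgroup G) : Set G) ∧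
      y ∈ Subgroup.normalizer ((P ⊓ Subgroup.centralizer ({a} : Set G) : Subgroup G) : Set G) ∧
      ∃ Pa : Subgroup G, Pa ≤ Subgroup.normalizer ((P ⊓ Subgroup.centralizer ({a} : Set G) : Subgroup G) : Set G) ∧
        ∀ c, (c = 1 ∨ c = 2) → ∃ q ∈ Pa, q * a = a * q ∧ q * x * q⁻¹ = a ^ c * x := by
  haveI : Fact (Nat.Prime 2) := ⟨Nat.prime_two⟩
  have hxc : ∀ g ∈ P, g * x = x * g := fun g hg => ((hPs g).1 hg).1
  have hxP : x ∈ P := (hPs x).2 ⟨rfl, orderOf_dvd_iff_pow_eq_one.1 (by rw [hx.1]; norm_num)⟩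
  obtain ⟨h9, hxE, haE, hn⟩ := nine pr hP hxP ha hxc hnc
  set E := P ⊓ Subgroup.centralizer ({a} : Set G) with hE
  set N := Subgroup.normalizer (E : Set G) with hN
  have hPN : P ≤ N := fun p hp => mem_normalizer_of_conj (hn p hp)
  have hvN : v ∈ N := mem_normalizer_pair pr (le_of_eq h9) hxE haE
    (by rw [conj_eq_iff_comm.2 hvx]; exact hxE) (by rw [hva]; exact inv_mem haE)
  have hyN : y ∈ N := mem_normalizer_pair pr (le_of_eq h9) hxE haE
    (by rw [hyx]; exact inv_mem hxE) (by rw [hya]; exact haE)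
  have hXN : Subgroup.centralizer ({x} : Set G) ≤ N := by
    set X := Subgroup.centralizer ({x} : Set G) with hX
    have d1 : 27 ∣ Nat.card (X ⊓ N : Subgroup G) := hP ▸ Subgroup.card_dvd_of_le
      (le_inf (fun p hp => Subgroup.mem_centralizer_singleton_iff.2 (hxc p hp)) hPN)
    have d2 : 2 ∣ Nat.card (X ⊓ N : Subgroup G) :=
      hv ▸ (X ⊓ N).orderOf_dvd_natCard ⟨Subgroup.mem_centralizer_singleton_iff.2 hvx, hvN⟩
    have := Nat.le_of_dvd Nat.card_pos (Nat.Coprime.mul_dvd_of_dvd_of_dvd (by norm_num) d1 d2)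
    exact inf_eq_left.1 (Subgroup.eq_of_le_of_card_ge inf_le_left (by rw [good_card h hO hG hx]; omega))
  -- the Sylow subgroup at `a`
  have hga : Good a := ⟨pr.oa, y, hy, conj_eq_iff_comm.1 hya⟩
  obtain ⟨Pa, hPa, hPas⟩ := good_sylow h hO hG hga
  have hac : ∀ g ∈ Pa, g * a = a * g := fun g hg => ((hPas g).1 hg).1
  have hEPa : E ≤ Pa := fun e he => (hPas e).2
    ⟨Subgroup.mem_centralizer_singleton_iff.1 he.2, ((hPs e).1 he.1).2⟩
  have hnc' : ∃ q ∈ Pa, q * x ≠ x * q := by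
    by_contra hne
    push Not at hne
    have hle : Pa ≤ P := fun q hq => (hPs q).2 ⟨hne q hq, ((hPas q).1 hq).2⟩
    have he := Subgroup.eq_of_le_of_card_ge hle (by rw [hP, hPa])
    obtain ⟨p, hp, hpa⟩ := hnc
    exact hpa (hac p (he.symm ▸ hp))
  have hPaN : Pa ≤ N := by
    obtain ⟨g9, -, -, gn⟩ := nine pr.symm hPa (hEPa haE) (hEPa hxE) hac hnc'
    have hEE : E = Pa ⊓ Subgroup.centralizer ({x} : Set G) := Subgroup.eq_of_le_of_card_ge
      (fun e he => ⟨hEPa he, Subgroup.mem_centralizer_singleton_iff.2 (hxc e he.1)⟩) (by rw [g9, h9])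
    intro q hq
    exact mem_normalizer_of_conj fun e he => by rw [hEE] at he ⊢; exact gn q hq e he
  refine ⟨?_, hXN, hyN, Pa, hPaN, fun c hc => shears pr.symm hPa (hEPa haE) (hEPa hxE) hac hnc' hc⟩
  set O := Set.range fun n : N => (n : G) * x * (n : G)⁻¹ with hO'
  have hcard := card_conj_orbit N x
  rw [inf_of_le_right hXN, good_card h hO hG hx, ← hO'] at hcard
  have hOE : O = (E : Set G) \ {1} := by
    refine Set.Subset.antisymm ?_ ?_
    · rintro _ ⟨⟨n, hn'⟩, rfl⟩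
      refine ⟨(Subgroup.mem_normalizer_iff.1 hn' x).1 hxE, fun e => ?_⟩
      rw [Set.mem_singleton_iff, conj_eq_one_iff] at e
      have := hx.1
      rw [e, orderOf_one] at this; omega
    · have hcl : ∀ u ∈ N, ∀ g ∈ O, u * g * u⁻¹ ∈ O := by
        rintro u hu _ ⟨⟨n, hn'⟩, rfl⟩
        exact ⟨⟨u * n, mul_mem hu hn'⟩, by show u * n * x * (u * n)⁻¹ = u * (n * x * n⁻¹) * u⁻¹; group⟩
      have o10 : x ^ 1 * a ^ 0 ∈ O := ⟨⟨1, one_mem _⟩, by simp⟩
      have hq : ∀ c, (c = 1 ∨ c = 2) → x ^ 1 * a ^ c ∈ O := fun c hc => by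
        obtain ⟨q, hq, -, hqx⟩ := shears pr.symm hPa (hEPa haE) (hEPa hxE) hac hnc' hc
        have := hcl q (hPaN hq) _ o10
        rw [pow_zero, mul_one, pow_one, hqx] at this
        rwa [pow_one, ((show Commute x a from pr.comm).pow_right c).eq]
      obtain ⟨p, hp, hpx, hpa⟩ := shears pr hP hxP ha hxc hnc (c := 2) (Or.inr rfl)
      have o01 : x ^ 0 * a ^ 1 ∈ O := by
        have := hcl p (hPN hp) _ (hq 1 (Or.inl rfl))
        rw [show p * (x ^ 1 * a ^ 1) * p⁻¹ = p * x * p⁻¹ * (p * a * p⁻¹) by group, conj_eq_iff_comm.2 hpx,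
          hpa, ← mul_assoc, ← pow_succ', pow_mod_three pr.ox (2 + 1)] at this
        simpa using this
      have hyc : ∀ j, x ^ 1 * a ^ j ∈ O → x ^ 2 * a ^ j ∈ O := fun j hj => by
        have := hcl y hyN _ hj
        rwa [show y * (x ^ 1 * a ^ j) * y⁻¹ = y * x * y⁻¹ * (y * a ^ j * y⁻¹) by group, ← conj_pow, hya, hyx,
          inv_eq_sq pr.ox] at this
      have o02 : x ^ 0 * a ^ 2 ∈ O := by
        have := hcl v hvN _ o01
        rw [show v * (x ^ 0 * a ^ 1) * v⁻¹ = v * a * v⁻¹ by group, hva, inv_eq_sq pr.oa] at this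
        simpa using this
      rintro g ⟨hg, hg1⟩
      obtain ⟨i, j, hi, hj, rfl⟩ := pr.cover (le_of_eq h9) hxE haE hg
      interval_cases i <;> interval_cases j
      · simp at hg1
      · exact o01
      · exact o02
      · exact o10
      · exact hq 1 (Or.inl rfl)
      · exact hq 2 (Or.inr rfl)
      · exact hyc 0 o10
      · exact hyc 1 (hq 1 (Or.inl rfl))
      · exact hyc 2 (hq 2 (Or.inr rfl))
  rw [hcard, hOE, Set.ncard_sdiff_singleton_of_mem (one_mem E), ← Nat.card_coe_set_eq,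
    show Nat.card ↥(E : Set G) = 9 from h9]

/-- Two subgroups of index 13. -/
theorem config : ∃ N₁ N₂ E : Subgroup G, Nat.card N₁ = 432 ∧ Nat.card N₂ = 432 ∧
    Nat.card (N₁ ⊓ N₂ : Subgroup G) = 108 ∧ E ≤ N₁ ⊓ N₂ ∧ (∀ n ∈ N₁, ∀ e ∈ E, n * e * n⁻¹ ∈ E) ∧
    (∀ e ∈ E, e ^ 3 = 1) ∧ ∃ n ∈ N₂, ∃ e ∈ E, n * e * n⁻¹ ∉ N₁ := by
  haveI : Fact (Nat.Prime 3) := ⟨Nat.prime_three⟩
  set x := ψ (el 2) with hxd
  set v := ψ neg with hvd
  have hv : orderOf v = 2 := orderOf_z h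
  have hx3 : orderOf x = 3 := by
    rw [hxd, orderOf_injective ψ h.inj]
    refine orderOf_eq_prime (toV_injective ?_) fun e => ?_
    · rw [toV_pow, toV_el, toV_one]; decide +kernel
    · have := congrArg toV e
      rw [toV_el, toV_one] at this
      exact absurd this (by decide)
  have hvx : v * x = x * v := by rw [hxd, hvd, ← map_mul, ← map_mul, neg_comm]
  have hgx : Good x := ⟨hx3, v, hv, hvx⟩
  obtain ⟨P, hP, hPs⟩ := good_sylow h hO hG hgx
  obtain ⟨y, hy, -, hyv, hyx⟩ := good_inverter h hO hx3 hv hvx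
  obtain ⟨a, haP, pa, hya, hva⟩ := axis h hO hG hx3 hv hvx hP hPs hy hyv hyx
  have hvv : v * v = 1 := by rw [← sq, ← hv, pow_orderOf_eq_one]
  have hyy : y * y = 1 := by rw [← sq, ← hy, pow_orderOf_eq_one]
  have hx2 : x⁻¹ ≠ x := fun e => by
    have := orderOf_dvd_of_pow_eq_one (show x ^ 2 = 1 by rw [pow_two]; nth_rewrite 1 [← e]; rw [inv_mul_cancel])
    rw [hx3] at this; norm_num at this
  have hcvx : v * x * v⁻¹ = x := conj_eq_iff_comm.2 hvx
  have hw : orderOf (y * v) = 2 := by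
    refine orderOf_eq_prime (by rw [(show Commute y v from hyv).mul_pow, pow_two, pow_two, hyy, hvv, one_mul])
      fun e => hx2 ?_
    rw [mul_eq_one_iff_eq_inv, inv_eq_of_mul_eq_one_right hvv] at e
    rw [e, hcvx] at hyx
    exact hyx.symm
  have hwx : y * v * x * (y * v)⁻¹ = x⁻¹ := by
    rw [show y * v * x * (y * v)⁻¹ = y * (v * x * v⁻¹) * y⁻¹ by group, hcvx, hyx]
  obtain ⟨b, hbP, pb, hwb, hvb⟩ := axis h hO hG hx3 hv hvx hP hPs hw
    (show y * v * v = v * (y * v) by rw [← mul_assoc, ← hyv]) hwx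
  have hyb : y * b * y⁻¹ = b⁻¹ := by
    rw [← inv_inj, inv_inv]
    calc (y * b * y⁻¹)⁻¹ = y * b⁻¹ * y⁻¹ := by group
      _ = y * (v * b * v⁻¹) * y⁻¹ := by rw [hvb]
      _ = y * v * b * (y * v)⁻¹ := by group
      _ = b := hwb
  have ga : Good a := ⟨pa.oa, y, hy, conj_eq_iff_comm.1 hya⟩
  have gb : Good b := ⟨pb.oa, y * v, hw, conj_eq_iff_comm.1 hwb⟩
  have hxP : x ∈ P := (hPs x).2 ⟨rfl, orderOf_dvd_iff_pow_eq_one.1 (by rw [hx3]; norm_num)⟩
  have hxc : ∀ g ∈ P, g * x = x * g := fun g hg => ((hPs g).1 hg).1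
  -- `b` is outside `⟨x, a⟩`
  have hbout : ∀ E : Subgroup G, Nat.card E ≤ 9 → x ∈ E → a ∈ E → b ∉ E := by
    intro E hE hxE haE hbE
    obtain ⟨i, j, hi, hj, e⟩ := pa.cover hE hxE haE hbE
    have e' : x ^ (2 * i) * a ^ j = x ^ (i * 2) * a ^ (j * 2) := by
      have := hyb
      rw [e, show y * (x ^ i * a ^ j) * y⁻¹ = y * x ^ i * y⁻¹ * (y * a ^ j * y⁻¹) by group, ← conj_pow,
        ← conj_pow, hyx, hya, inv_eq_sq hx3, ← pow_mul, inv_eq_sq (e ▸ pb.oa), pa.mk_pow] at this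
      exact this
    have hj0 : j = 0 := by obtain ⟨-, e2⟩ := (pa.eq_iff _ _ _ _).1 e'; omega
    refine pb.ne ?_
    rw [e, hj0, pow_zero, mul_one]
    exact Subgroup.npow_mem_zpowers x i
  obtain ⟨p0, hp0, q0, hq0, hpq⟩ := not_comm h hO hG hgx hv hvx hP hPs hy hyv hyx haP pa hya hva ga hbP pb hyb hvb gb
  -- neither `a` nor `b` is central in `P`
  have central : ∀ (c d : G), PairThree x c → c ∈ P → d ∈ P →
      (∀ E : Subgroup G, Nat.card E ≤ 9 → x ∈ E → c ∈ E → d ∉ E) →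
      ∃ p ∈ P, p * c ≠ c * p := by
    intro c d pc hc hd hout
    by_contra hne
    push Not at hne
    set A := P ⊓ Subgroup.centralizer ({d} : Set G) with hA
    have hxA : x ∈ A := ⟨hxP, Subgroup.mem_centralizer_singleton_iff.2 (hxc d hd).symm⟩
    have hcA : c ∈ A := ⟨hc, Subgroup.mem_centralizer_singleton_iff.2 (hne d hd).symm⟩
    have hdA : d ∈ A := ⟨hd, Subgroup.mem_centralizer_singleton_iff.2 rfl⟩
    have h10 : ¬ Nat.card A ≤ 9 := fun hle => hout A hle hxA hcA hdA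
    obtain ⟨k, hk3, hk⟩ := (Nat.dvd_prime_pow Nat.prime_three).1
      (show Nat.card A ∣ 3 ^ 3 from (Subgroup.card_dvd_of_le inf_le_left).trans (dvd_of_eq (hP.trans (by norm_num))))
    have hAP : A = P := Subgroup.eq_of_le_of_card_ge inf_le_left (by
      interval_cases k <;> rw [hk] at h10 ⊢ <;> omega)
    -- the centre of `P` is everything
    set Z := P ⊓ Subgroup.centralizer (P : Set G) with hZ
    have inZ : ∀ e ∈ P, (∀ p ∈ P, p * e = e * p) → e ∈ Z := fun e he hall =>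
      ⟨he, Subgroup.mem_centralizer_iff.2 hall⟩
    have hdc : ∀ p ∈ P, p * d = d * p := fun p hp => by
      rw [← hAP] at hp; exact Subgroup.mem_centralizer_singleton_iff.1 hp.2
    have h10' : ¬ Nat.card Z ≤ 9 := fun hle => hout Z hle (inZ x hxP hxc) (inZ c hc hne) (inZ d hd hdc)
    obtain ⟨l, hl3, hl⟩ := (Nat.dvd_prime_pow Nat.prime_three).1
      (show Nat.card Z ∣ 3 ^ 3 from (Subgroup.card_dvd_of_le inf_le_left).trans (dvd_of_eq (hP.trans (by norm_num))))
    have hZP : Z = P := Subgroup.eq_of_le_of_card_ge inf_le_left (by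
      interval_cases l <;> rw [hl] at h10' ⊢ <;> omega)
    rw [← hZP] at hq0
    exact hpq (Subgroup.mem_centralizer_iff.1 hq0.2 p0 hp0)
  have hnca := central a b pa haP hbP hbout
  have haout : ∀ E : Subgroup G, Nat.card E ≤ 9 → x ∈ E → b ∈ E → a ∉ E := by
    intro E hE hxE hbE haE
    exact hbout E hE hxE haE hbE
  have hncb := central b a pb hbP haP haout
  obtain ⟨hN1, hX1, hy1, -, -, -⟩ := big h hO hG hgx hvx hv hP hPs hy hyx haP pa hya hva hnca
  obtain ⟨hN2, hX2, hw2, Pb, hPb, hshb⟩ := big h hO hG hgx hvx hv hP hPs hw hwx hbP pb hwb hvb hncb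
  obtain ⟨h9a, hxE1, haE1, hn1⟩ := nine pa hP hxP haP hxc hnca
  obtain ⟨h9b, hxE2, hbE2, hn2⟩ := nine pb hP hxP hbP hxc hncb
  set E₁ := P ⊓ Subgroup.centralizer ({a} : Set G) with hE1
  set E₂ := P ⊓ Subgroup.centralizer ({b} : Set G) with hE2
  set N₁ := Subgroup.normalizer (E₁ : Set G) with hN1d
  set N₂ := Subgroup.normalizer (E₂ : Set G) with hN2d
  have hyN2 : y ∈ N₂ := by
    have := mul_mem hw2 (hX2 (Subgroup.mem_centralizer_singleton_iff.2 hvx))
    rwa [mul_assoc, hvv, mul_one] at this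
  set D := N₁ ⊓ N₂ with hD
  have hPX : P ≤ Subgroup.centralizer ({x} : Set G) := fun g hg => Subgroup.mem_centralizer_singleton_iff.2 (hxc g hg)
  have horb : ∀ d ∈ D, d * x * d⁻¹ = x ∨ d * x * d⁻¹ = x⁻¹ := by
    intro d hd
    have m1 := (Subgroup.mem_normalizer_iff.1 hd.1 x).1 hxE1
    have m2 := (Subgroup.mem_normalizer_iff.1 hd.2 x).1 hxE2
    obtain ⟨i, j, hi, hj, e⟩ := pa.cover (le_of_eq h9a) hxE1 haE1 m1
    have hcb : (x ^ i * a ^ j) * b = b * (x ^ i * a ^ j) := e ▸ Subgroup.mem_centralizer_singleton_iff.1 m2.2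
    have hj0 : j = 0 := by
      by_contra hj0
      have c1 : Commute (a ^ j) b := by
        have c2 : Commute (x ^ i)⁻¹ b := ((show Commute x b from pb.comm).pow_left i).inv_left
        have := c2.mul_left (show Commute (x ^ i * a ^ j) b from hcb)
        rwa [inv_mul_cancel_left] at this
      have c3 : Commute a b := by
        have := c1.pow_left j
        rwa [← pow_mul, pow_mod_three pa.oa,
          show j * j % 3 = 1 by interval_cases j <;> first | contradiction | norm_num, pow_one] at this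
      exact hbout E₁ (le_of_eq h9a) hxE1 haE1 ⟨hbP, Subgroup.mem_centralizer_singleton_iff.2 c3.eq.symm⟩
    rw [hj0, pow_zero, mul_one] at e
    interval_cases i
    · exfalso
      rw [pow_zero, conj_eq_one_iff] at e
      rw [e, orderOf_one] at hx3; omega
    · exact Or.inl (e.trans (pow_one x))
    · exact Or.inr (e.trans (inv_eq_sq hx3).symm)
  have hDcard : Nat.card D = 108 := by
    have hcard := card_conj_orbit D x
    rw [inf_of_le_right (le_inf hX1 hX2), good_card h hO hG hgx] at hcard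
    have hr : (Set.range fun n : D => (n : G) * x * (n : G)⁻¹) = {x, x⁻¹} := by
      refine Set.Subset.antisymm ?_ ?_
      · rintro _ ⟨⟨d, hd⟩, rfl⟩
        exact horb d hd
      · rintro g (rfl | rfl)
        · exact ⟨1, by simp⟩
        · exact ⟨⟨y, hy1, hyN2⟩, hyx⟩
    rw [hcard, hr, Set.ncard_pair hx2.symm]
  refine ⟨N₁, N₂, E₁, hN1, hN2, hDcard, le_inf Subgroup.le_normalizer fun e he => hX2 (hPX he.1),
    fun n hn e he => (Subgroup.mem_normalizer_iff.1 hn e).1 he, fun e he => ?_, ?_⟩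
  · obtain ⟨i, j, -, -, rfl⟩ := pa.cover (le_of_eq h9a) hxE1 haE1 he
    rw [pa.mk_pow, pa.mk_mod, Nat.mul_mod_left, Nat.mul_mod_left, pow_zero, pow_zero, mul_one]
  obtain ⟨q, hq, -, hqx⟩ := hshb 1 (Or.inl rfl)
  refine ⟨q, hPb hq, ?_⟩
  by_contra hall
  push Not at hall
  have key : ∀ e ∈ E₁, q * e * q⁻¹ ∈ E₂ := by
    intro e he
    have hD1 : q * e * q⁻¹ ∈ D := ⟨hall e he, N₂.mul_mem (N₂.mul_mem (hPb hq) (hX2 (hPX he.1))) (N₂.inv_mem (hPb hq))⟩
    set g := q * e * q⁻¹ with hg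
    have h27 : g ^ 27 = 1 := by rw [hg, conj_pow, ((hPs e).1 he.1).2]; group
    have hsq : g ^ 2 * x = x * g ^ 2 := by
      refine conj_eq_iff_comm.1 ?_
      rw [show g ^ 2 * x * (g ^ 2)⁻¹ = g * (g * x * g⁻¹) * g⁻¹ by rw [pow_two]; group]
      rcases horb g hD1 with e' | e'
      · rw [e', e']
      · rw [e', show g * x⁻¹ * g⁻¹ = (g * x * g⁻¹)⁻¹ by group, e', inv_inv]
    have hgx' : g * x = x * g := by
      have := ((show Commute (g ^ 2) x from hsq).pow_left 14).eq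
      rwa [← pow_mul, show 2 * 14 = 27 + 1 by norm_num, pow_succ, h27, one_mul] at this
    refine ⟨(hPs g).2 ⟨hgx', h27⟩, Subgroup.mem_centralizer_singleton_iff.2 ?_⟩
    have h1 : Commute g (b * x) := by
      rw [show b * x = b ^ 1 * x by rw [pow_one], ← hqx]
      show q * e * q⁻¹ * (q * x * q⁻¹) = q * x * q⁻¹ * (q * e * q⁻¹)
      rw [show q * e * q⁻¹ * (q * x * q⁻¹) = q * (e * x) * q⁻¹ by group, hxc e he.1]; group
    have := h1.mul_right (show Commute g x⁻¹ from (show Commute g x from hgx').inv_right)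
    rwa [mul_inv_cancel_right] at this
  have h12 : a ∈ E₂ := (Subgroup.mem_normalizer_iff.1 (hPb hq) a).2 (key a haE1)
  exact haout E₂ (le_of_eq h9b) hxE2 hbE2 h12

end Cfsg.Agent.Invol.GL23
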