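import Mathlib

/-!
The difference set `{0, 1, 3, 9}` modulo 13: at most 5616 permutations preserve its translates.
-/

set_option autoImplicit false
set_option maxRecDepth 100000

namespace Cfsg.Agent.Invol.Plane13

/-- Membership of the difference set. -/
def b (x : ZMod 13) : Bool := x == 0 || x == 1 || x == 3 || x == 9

/-- For each difference, its first element. -/
def sv : ZMod 13 → ZMod 13 := ![0, 0, 1, 0, 9, 9, 3, 9, 1, 0, 3, 3, 1]

/-- The translate through two points. -/
def ln (a c : ZMod 13) : ZMod 13 := a - sv (c - a)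

theorem ln_spec : ∀ a c : ZMod 13, a ≠ c → b (a - ln a c) = true ∧ b (c - ln a c) = true := by decide +kernel

theorem uniq : ∀ a c j : ZMod 13, a ≠ c → b (a - j) = true → b (c - j) = true → j = ln a c := by
  decide +kernel

theorem card_line : ∀ j : ZMod 13, (Finset.univ.filter fun i : ZMod 13 => b (i - j) = true).card = 4 := by
  decide +kernel

theorem scale : ∀ a c : ZMod 13,
    (∀ d : ZMod 13, ∃ k : ZMod 13, (k = 0 ∨ k = 1 ∨ k = a ∨ k = c) ∧
      (k + d = 0 ∨ k + d = 1 ∨ k + d = a ∨ k + d = c)) →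
    ∃ u w : ZMod 13, u ≠ 0 ∧ ∀ i, b i = true → (u * i + w = 0 ∨ u * i + w = 1 ∨ u * i + w = a ∨ u * i + w = c) := by
  decide +kernel

/-- A permutation maps translates into translates. -/
def Pres (π : Equiv.Perm (ZMod 13)) : Prop :=
  ∀ j, ∃ k, ∀ i, b (i - j) = true → b (π i - k) = true

variable {π π' : Equiv.Perm (ZMod 13)}

theorem Pres.onto {j k : ZMod 13} (hk : ∀ i, b (i - j) = true → b (π i - k) = true) {i : ZMod 13}
    (hi : b (π i - k) = true) : b (i - j) = true := by
  have e : ((Finset.univ.filter fun i : ZMod 13 => b (i - j) = true).image π) =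
      Finset.univ.filter fun i : ZMod 13 => b (i - k) = true := by
    refine Finset.eq_of_subset_of_card_le ?_ ?_
    · intro x hx
      obtain ⟨y, hy, rfl⟩ := Finset.mem_image.1 hx
      exact Finset.mem_filter.2 ⟨Finset.mem_univ _, hk y (Finset.mem_filter.1 hy).2⟩
    · rw [Finset.card_image_of_injective _ π.injective, card_line, card_line]
  have hm : π i ∈ Finset.univ.filter fun i : ZMod 13 => b (i - k) = true :=
    Finset.mem_filter.2 ⟨Finset.mem_univ _, hi⟩
  rw [← e, Finset.mem_image] at hm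
  obtain ⟨y, hy, he⟩ := hm
  exact π.injective he ▸ (Finset.mem_filter.1 hy).2

theorem Pres.coll (h : Pres π) {a c p : ZMod 13} (hac : a ≠ c)
    (hp : b (π p - ln (π a) (π c)) = true) : b (p - ln a c) = true := by
  obtain ⟨k, hk⟩ := h (ln a c)
  have e : k = ln (π a) (π c) := uniq _ _ _ (π.injective.ne hac) (hk _ (ln_spec a c hac).1) (hk _ (ln_spec a c hac).2)
  exact Pres.onto hk (e ▸ hp)

theorem Pres.step (h : Pres π) (h' : Pres π') {p a a' c c' : ZMod 13} (haa : a ≠ a') (hcc : c ≠ c')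
    (hne : ln a a' ≠ ln c c') (hp : b (p - ln a a') = true) (hp' : b (p - ln c c') = true)
    (ea : π a = π' a) (ea' : π a' = π' a') (ec : π c = π' c) (ec' : π c' = π' c') : π p = π' p := by
  obtain ⟨k, hk⟩ := h (ln a a')
  obtain ⟨k', hk'⟩ := h' (ln a a')
  obtain ⟨l, hl⟩ := h (ln c c')
  obtain ⟨l', hl'⟩ := h' (ln c c')
  have s1 := ln_spec a a' haa
  have s2 := ln_spec c c' hcc
  have ek : k = k' := (uniq _ _ _ (π.injective.ne haa) (hk _ s1.1) (hk _ s1.2)).trans
    (uniq _ _ _ (π.injective.ne haa) (ea ▸ hk' _ s1.1) (ea' ▸ hk' _ s1.2)).symm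
  have el : l = l' := (uniq _ _ _ (π.injective.ne hcc) (hl _ s2.1) (hl _ s2.2)).trans
    (uniq _ _ _ (π.injective.ne hcc) (ec ▸ hl' _ s2.1) (ec' ▸ hl' _ s2.2)).symm
  have hkl : k ≠ l := fun e => hne (uniq _ _ _ hcc (Pres.onto hk (e ▸ hl _ s2.1)) (Pres.onto hk (e ▸ hl _ s2.2)))
  by_contra hpp
  exact hkl ((uniq _ _ _ hpp (hk _ hp) (ek ▸ hk' _ hp)).trans (uniq _ _ _ hpp (hl _ hp') (el ▸ hl' _ hp')).symm)

/-- Four points in general position, shifted to `0`. -/
def gp (c₁ c₂ c₃ : ZMod 13) : Bool :=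
  c₁ != 0 && !b (c₂ - ln 0 c₁) && !b (c₃ - ln 0 c₁) && !b (c₃ - ln 0 c₂) && !b (c₃ - ln c₁ c₂)

theorem card_gp :
    (Finset.univ.filter fun t : ZMod 13 × ZMod 13 × ZMod 13 => gp t.1 t.2.1 t.2.2 = true).card = 432 := by
  decide +kernel

theorem ln_shift : ∀ a c d : ZMod 13, ln (a + d) (c + d) = ln a c + d := by decide +kernel

/-- At most 5616 permutations preserve the translates. -/
theorem card_pres_le : Nat.card {π : Equiv.Perm (ZMod 13) // Pres π} ≤ 5616 := by
  let T := {t : ZMod 13 × ZMod 13 × ZMod 13 // gp t.1 t.2.1 t.2.2 = true}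
  have hT : Nat.card (ZMod 13 × T) = 5616 := by
    rw [Nat.card_prod, Nat.card_zmod, Nat.card_eq_fintype_card, Fintype.card_subtype, card_gp]
  have hg : ∀ π : {π : Equiv.Perm (ZMod 13) // Pres π},
      gp (π.1 1 - π.1 0) (π.1 2 - π.1 0) (π.1 5 - π.1 0) = true := by
    rintro ⟨π, hπ⟩
    have key : ∀ x y z : ZMod 13, x ≠ y → b (z - ln x y) = false →
        b ((π z - π 0) - ln (π x - π 0) (π y - π 0)) = false := fun x y z hxy hz => by
      rw [sub_eq_add_neg (π x), sub_eq_add_neg (π y), ln_shift, ← sub_eq_add_neg, sub_sub_sub_cancel_right]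
      by_contra hb
      rw [Bool.not_eq_false] at hb
      rw [hπ.coll hxy hb] at hz
      exact Bool.noConfusion hz
    have k1 := key 0 1 2 (by decide) (by decide +kernel)
    have k2 := key 0 1 5 (by decide) (by decide +kernel)
    have k3 := key 0 2 5 (by decide) (by decide +kernel)
    have k4 := key 1 2 5 (by decide) (by decide +kernel)
    rw [sub_self] at k1 k2 k3
    have k0 : π 1 - π 0 ≠ 0 := sub_ne_zero.2 (π.injective.ne (by decide))
    simp [gp, k0, k1, k2, k3, k4]
  let f : {π : Equiv.Perm (ZMod 13) // Pres π} → ZMod 13 × T := fun π => (π.1 0, ⟨(π.1 1 - π.1 0, π.1 2 - π.1 0, π.1 5 - π.1 0), hg π⟩)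
  refine (Nat.card_le_card_of_injective f ?_).trans hT.le
  rintro ⟨π, hπ⟩ ⟨π', hπ'⟩ e
  have e0 : π 0 = π' 0 := congrArg Prod.fst e
  have e1 : π 1 - π 0 = π' 1 - π' 0 := congrArg (fun t => t.2.1.1) e
  have e2 : π 2 - π 0 = π' 2 - π' 0 := congrArg (fun t => t.2.1.2.1) e
  have e5 : π 5 - π 0 = π' 5 - π' 0 := congrArg (fun t => t.2.1.2.2) e
  rw [e0, sub_left_inj] at e1 e2 e5
  have s3 : π 3 = π' 3 := hπ.step hπ' (a := 2) (a' := 5) (c := 0) (c' := 1) (by decide) (by decide)
    (by decide +kernel) (by decide +kernel) (by decide +kernel) e2 e5 e0 e1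
  have s4 : π 4 = π' 4 := hπ.step hπ' (a := 1) (a' := 2) (c := 0) (c' := 5) (by decide) (by decide)
    (by decide +kernel) (by decide +kernel) (by decide +kernel) e1 e2 e0 e5
  have s6 : π 6 = π' 6 := hπ.step hπ' (a := 3) (a' := 4) (c := 1) (c' := 5) (by decide) (by decide)
    (by decide +kernel) (by decide +kernel) (by decide +kernel) s3 s4 e1 e5
  have s7 : π 7 = π' 7 := hπ.step hπ' (a := 5) (a' := 4) (c := 2) (c' := 6) (by decide) (by decide)
    (by decide +kernel) (by decide +kernel) (by decide +kernel) e5 s4 e2 s6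
  have s8 : π 8 = π' 8 := hπ.step hπ' (a := 3) (a' := 7) (c := 5) (c' := 6) (by decide) (by decide)
    (by decide +kernel) (by decide +kernel) (by decide +kernel) s3 s7 e5 s6
  have s9 : π 9 = π' 9 := hπ.step hπ' (a := 6) (a' := 7) (c := 4) (c' := 8) (by decide) (by decide)
    (by decide +kernel) (by decide +kernel) (by decide +kernel) s6 s7 s4 s8
  have s10 : π 10 = π' 10 := hπ.step hπ' (a := 7) (a' := 8) (c := 5) (c' := 9) (by decide) (by decide)
    (by decide +kernel) (by decide +kernel) (by decide +kernel) s7 s8 e5 s9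
  have s11 : π 11 = π' 11 := hπ.step hπ' (a := 8) (a' := 9) (c := 6) (c' := 10) (by decide) (by decide)
    (by decide +kernel) (by decide +kernel) (by decide +kernel) s8 s9 s6 s10
  have s12 : π 12 = π' 12 := hπ.step hπ' (a := 9) (a' := 10) (c := 7) (c' := 11) (by decide) (by decide)
    (by decide +kernel) (by decide +kernel) (by decide +kernel) s9 s10 s7 s11
  refine Subtype.ext (Equiv.ext fun i => ?_)
  show π i = π' i
  fin_cases i
  exacts [e0, e1, e2, s3, s4, e5, s6, s7, s8, s9, s10, s11, s12]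

end Cfsg.Agent.Invol.Plane13
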