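import Mathlib
import Cfsg.Agent.Lib.Invol.Order5616Config
import Cfsg.Agent.Lib.Invol.PlaneThirteen

/-!
A group of order 5616 with involution centralizer `GL(2,3)` and no quotient of 2-power order is the
automorphism group of the projective plane of order three.
-/

set_option autoImplicit false
set_option maxRecDepth 100000
set_option linter.style.haveILetI false

namespace Cfsg.Agent.Invol.GL23

open Cfsg Cfsg.Agent.Char Cfsg.Agent.Block
open scoped Pointwise

universe u v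

variable {G : Type u} [Group G] [Finite G] {ψ : Q →* G} (h : Emb ψ) (hO : pResidual 2 G = ⊤)
  (hG : Nat.card G = 5616)
include h hO hG

theorem exists_model :
    ∃ ρ : G →* Equiv.Perm (ZMod 13), Function.Injective ρ ∧ ∀ g, Plane13.Pres (ρ g) := by
  classical
  haveI : Fact (Nat.Prime 13) := ⟨by norm_num⟩
  haveI := simple h hO
  obtain ⟨N₁, N₂, E, hN₁, hN₂, hD, hED, hnorm, he3, n, hn, e, he, hne⟩ := config h hO hG
  have hindex : ∀ N : Subgroup G, Nat.card N = 432 → N.index = 13 := fun N hN => by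
    have := N.card_mul_index
    rw [hN, hG] at this; omega
  set p₀ : G ⧸ N₁ := QuotientGroup.mk 1 with hp₀
  have hstab : ∀ g : G, g • p₀ = p₀ ↔ g ∈ N₁ := fun g => by
    rw [hp₀, MulAction.Quotient.smul_mk, smul_eq_mul, mul_one, QuotientGroup.eq, mul_one, inv_mem_iff]
  set q : G ⧸ N₁ := n⁻¹ • p₀ with hq
  have heq : e • q ≠ q := fun c => hne ((hstab _).1 (by
    rw [mul_smul, mul_smul, ← hq, c, hq, smul_inv_smul]))
  have hqp : q ≠ p₀ := fun c => hne (hED (hnorm n (by
    have := (hstab n⁻¹).1 (hq ▸ c)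
    simpa using inv_mem this) e he)).1
  set B : Set (G ⧸ N₁) := Set.range fun m : N₂ => (m : G) • p₀ with hB
  have hEfix : ∀ f ∈ E, f • p₀ = p₀ := fun f hf => (hstab f).2 (hED hf).1
  have hBcard : B.ncard = 4 := by
    have h1 : Nat.card (MulAction.orbit N₂ p₀) = 4 := by
      have h2 := MulAction.index_stabilizer N₂ p₀
      have h3 : MulAction.stabilizer N₂ p₀ = (N₁ ⊓ N₂).subgroupOf N₂ := by
        ext m
        rw [MulAction.mem_stabilizer_iff, Subgroup.mem_subgroupOf, Subgroup.mem_inf]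
        exact (hstab m).trans ⟨fun hm => ⟨hm, m.2⟩, fun hm => hm.1⟩
      have h4 := ((N₁ ⊓ N₂).subgroupOf N₂).card_mul_index
      rw [Nat.card_congr (Subgroup.subgroupOfEquivOfLe (inf_le_right : N₁ ⊓ N₂ ≤ N₂)).toEquiv, hD, hN₂] at h4
      rw [Nat.card_coe_set_eq, ← h2, h3]; omega
    rw [← h1, Nat.card_coe_set_eq]
    rfl
  have hep : ∀ m : ℕ, e ^ m • q ∈ B := fun m =>
    ⟨⟨e ^ m * n⁻¹, mul_mem (pow_mem (hED he).2 m) (inv_mem hn)⟩, by show (e ^ m * n⁻¹) • p₀ = _; rw [mul_smul]⟩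
  have hed : e ^ 2 • q ≠ q := fun c => heq (by
    conv_lhs => rw [← c, ← mul_smul, ← pow_succ', he3 e he, one_smul])
  have hed2 : e • q ≠ e ^ 2 • q := fun c => by
    rw [pow_two, mul_smul, smul_left_cancel_iff] at c; exact heq c.symm
  have hpe : ∀ m : ℕ, p₀ ≠ e ^ m • q := fun m c => hqp (by
    have hf := hEfix _ (pow_mem he m)
    exact (smul_left_cancel (e ^ m) (hf.trans c)).symm)
  have h4 : ({p₀, q, e • q, e ^ 2 • q} : Finset (G ⧸ N₁)).card = 4 := by
    have a := hpe 0; have b := hpe 1; have c := hpe 2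
    rw [pow_zero, one_smul] at a
    rw [pow_one] at b
    simp [a, b, c, heq.symm, hed.symm, hed2]
  have hBeq : B = ↑({p₀, q, e • q, e ^ 2 • q} : Finset (G ⧸ N₁)) := by
    refine (Set.eq_of_subset_of_ncard_le ?_ (by rw [hBcard, Set.ncard_coe_finset, h4]) (Set.toFinite _)).symm
    intro r hr
    simp only [Finset.coe_insert, Finset.coe_singleton, Set.mem_insert_iff, Set.mem_singleton_iff] at hr
    rcases hr with rfl | rfl | rfl | rfl
    · exact ⟨1, one_smul _ _⟩
    · simpa using hep 0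
    · simpa using hep 1
    · exact hep 2
  -- the setwise stabilizer of the block
  set K := MulAction.stabilizer G B with hK
  have hN₂K : N₂ ≤ K := fun m hm => by
    rw [hK, MulAction.mem_stabilizer_iff]
    refine Set.eq_of_subset_of_ncard_le ?_ (by rw [Set.ncard_smul_set]) (Set.toFinite _)
    rintro _ ⟨r, ⟨k, rfl⟩, rfl⟩
    exact ⟨⟨m * k, mul_mem hm k.2⟩, mul_smul _ _ _⟩
  have hKeq : K = N₂ := by
    refine (Subgroup.eq_of_le_of_card_ge hN₂K ?_).symm
    obtain ⟨d, hd⟩ := Subgroup.card_dvd_of_le hN₂K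
    have hdd := Subgroup.card_subgroup_dvd_card K
    rw [hd, hN₂, hG, show 5616 = 432 * 13 by norm_num] at hdd
    rcases (Nat.dvd_prime (by norm_num : Nat.Prime 13)).1 (Nat.dvd_of_mul_dvd_mul_left (by norm_num) hdd)
      with rfl | rfl
    · omega
    exfalso
    have htop : K = ⊤ := Subgroup.eq_top_of_card_eq K (by rw [hd, hN₂, hG])
    have huniv : B = Set.univ := Set.eq_univ_of_forall fun r => by
      obtain ⟨g, rfl⟩ := MulAction.exists_smul_eq G p₀ r
      have hg : g • B = B := MulAction.mem_stabilizer_iff.1 (htop ▸ Subgroup.mem_top g : g ∈ K)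
      rw [← hg]
      exact Set.smul_mem_smul_set ⟨1, one_smul _ _⟩
    rw [huniv, Set.ncard_univ] at hBcard
    rw [← Subgroup.index_eq_card, hindex N₁ hN₁] at hBcard
    norm_num at hBcard
  have hEB : ∀ f ∈ E, ∀ r ∈ B, f • r ∈ B := by
    rintro f hf _ ⟨k, rfl⟩
    exact ⟨⟨f * k, mul_mem (hED hf).2 k.2⟩, mul_smul _ _ _⟩
  have hqB : q ∈ B := by simpa using hep 0
  have hfixq : ∀ g ∈ N₁, g • q = q → g ∈ N₂ := by
    intro g hg hgq
    rw [← hKeq, hK, MulAction.mem_stabilizer_iff]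
    refine Set.eq_of_subset_of_ncard_le ?_ (by rw [Set.ncard_smul_set]) (Set.toFinite _)
    intro r hr
    rw [hBeq, Finset.coe_insert, Finset.coe_insert, Finset.coe_insert, Finset.coe_singleton,
      Set.smul_set_insert, Set.smul_set_insert, Set.smul_set_insert, Set.smul_set_singleton] at hr
    simp only [Set.mem_insert_iff, Set.mem_singleton_iff] at hr
    have key : ∀ f : G, f ∈ E → g • f • q ∈ B := fun f hf => by
      rw [← mul_smul, show g * f = g * f * g⁻¹ * g by group, mul_smul, hgq]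
      exact hEB _ (hnorm g hg f hf) _ hqB
    rcases hr with rfl | rfl | rfl | rfl
    · rw [(hstab g).2 hg]; exact ⟨1, one_smul _ _⟩
    · rw [hgq]; exact hqB
    · exact key e he
    · exact key _ (pow_mem he 2)
  -- the orbit of `q` under `N₁` is everything but `p₀`
  have htrans : ∀ r, r ≠ p₀ → ∃ g ∈ N₁, g • q = r := by
    set F := MulAction.stabilizer G q with hF
    have c1 : (MulAction.orbit N₁ q).ncard * Nat.card (N₁ ⊓ F : Subgroup G) = 432 := by
      rw [← MulAction.index_stabilizer N₁ q, ← hN₁]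
      have : MulAction.stabilizer N₁ q = (N₁ ⊓ F).subgroupOf N₁ := by
        ext m
        rw [MulAction.mem_stabilizer_iff, Subgroup.mem_subgroupOf, Subgroup.mem_inf, hF, MulAction.mem_stabilizer_iff]
        exact ⟨fun hm => ⟨m.2, hm⟩, fun hm => hm.2⟩
      rw [this, ← Nat.card_congr (Subgroup.subgroupOfEquivOfLe (inf_le_left : N₁ ⊓ F ≤ N₁)).toEquiv, mul_comm]
      exact Subgroup.card_mul_index _
    have c2 : (MulAction.orbit (N₁ ⊓ N₂ : Subgroup G) q).ncard * Nat.card (N₁ ⊓ F : Subgroup G) = 108 := by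
      rw [← MulAction.index_stabilizer (N₁ ⊓ N₂ : Subgroup G) q, ← hD]
      have hle : N₁ ⊓ F ≤ N₁ ⊓ N₂ := fun g hg => ⟨hg.1, hfixq g hg.1 hg.2⟩
      have : MulAction.stabilizer (N₁ ⊓ N₂ : Subgroup G) q = (N₁ ⊓ F).subgroupOf (N₁ ⊓ N₂) := by
        ext m
        rw [MulAction.mem_stabilizer_iff, Subgroup.mem_subgroupOf, Subgroup.mem_inf, hF, MulAction.mem_stabilizer_iff]
        exact ⟨fun hm => ⟨m.2.1, hm⟩, fun hm => hm.2⟩
      rw [this, ← Nat.card_congr (Subgroup.subgroupOfEquivOfLe hle).toEquiv, mul_comm]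
      exact Subgroup.card_mul_index _
    have h3 : 3 ≤ (MulAction.orbit (N₁ ⊓ N₂ : Subgroup G) q).ncard := by
      have hsub : ↑({q, e • q, e ^ 2 • q} : Finset (G ⧸ N₁)) ⊆ MulAction.orbit (N₁ ⊓ N₂ : Subgroup G) q := by
        intro r hr
        simp only [Finset.coe_insert, Finset.coe_singleton, Set.mem_insert_iff, Set.mem_singleton_iff] at hr
        rcases hr with rfl | rfl | rfl
        · exact MulAction.mem_orbit_self q
        · exact ⟨⟨e, hED he⟩, rfl⟩
        · exact ⟨⟨e ^ 2, hED (pow_mem he 2)⟩, rfl⟩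
      have := Set.ncard_le_ncard hsub (Set.toFinite _)
      rw [Set.ncard_coe_finset] at this
      simpa [heq.symm, hed.symm, hed2] using this
    have h12 : 12 ≤ (MulAction.orbit N₁ q).ncard := by
      have hpos : 0 < Nat.card (N₁ ⊓ F : Subgroup G) := Nat.card_pos
      have : 3 * Nat.card (N₁ ⊓ F : Subgroup G) ≤ 108 := c2 ▸ Nat.mul_le_mul_right _ h3
      by_contra hlt
      have := Nat.mul_le_mul_right (Nat.card (N₁ ⊓ F : Subgroup G)) (show (MulAction.orbit N₁ q).ncard ≤ 11 by omega)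
      omega
    have heqs : MulAction.orbit N₁ q = (Set.univ : Set (G ⧸ N₁)) \ {p₀} := by
      refine Set.eq_of_subset_of_ncard_le ?_ ?_ (Set.toFinite _)
      · rintro _ ⟨⟨g, hg⟩, rfl⟩
        refine ⟨trivial, fun c => hqp ?_⟩
        have c' : g • q = p₀ := c
        rw [← (hstab g).2 hg] at c'
        exact smul_left_cancel g c'
      · rw [Set.ncard_sdiff_singleton_of_mem (Set.mem_univ _), Set.ncard_univ, ← Subgroup.index_eq_card,
          hindex N₁ hN₁]
        omega
    intro r hr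
    obtain ⟨⟨g, hg⟩, hgr⟩ : r ∈ MulAction.orbit N₁ q := heqs ▸ ⟨trivial, hr⟩
    exact ⟨g, hg, hgr⟩
  -- coordinates by an element of order 13
  obtain ⟨c, hc⟩ := exists_prime_orderOf_dvd_card' (G := G) 13 (by rw [hG]; norm_num)
  have hcN : ∀ N : Subgroup G, Nat.card N = 432 → ∀ i j : ZMod 13, (c ^ i.val)⁻¹ * c ^ j.val ∈ N → i = j := by
    intro N hN i j hm
    have hz : (c ^ i.val)⁻¹ * c ^ j.val ∈ Subgroup.zpowers c :=
      mul_mem (inv_mem (Subgroup.npow_mem_zpowers c _)) (Subgroup.npow_mem_zpowers c _)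
    have d1 := Subgroup.orderOf_dvd_natCard _ hz
    have d2 := N.orderOf_dvd_natCard hm
    rw [Nat.card_zpowers, hc] at d1
    rw [hN] at d2
    have := orderOf_eq_one_iff.1 (Nat.eq_one_of_dvd_coprimes (by norm_num : Nat.Coprime 13 432) d1 d2)
    rw [inv_mul_eq_one, pow_inj_mod, hc, Nat.mod_eq_of_lt (ZMod.val_lt i), Nat.mod_eq_of_lt (ZMod.val_lt j)] at this
    exact ZMod.val_injective 13 this
  have hadd : ∀ i j : ZMod 13, c ^ (i + j).val = c ^ i.val * c ^ j.val := fun i j => by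
    rw [← pow_add, ZMod.val_add]
    have := pow_mod_orderOf c (i.val + j.val)
    rwa [hc] at this
  let ι : ZMod 13 → G ⧸ N₁ := fun i => c ^ i.val • p₀
  have hι : Function.Bijective ι := (Nat.bijective_iff_injective_and_card ι).2 ⟨fun i j hij => hcN N₁ hN₁ i j (by
    have := (hstab ((c ^ i.val)⁻¹ * c ^ j.val)).1
    refine this ?_
    rw [mul_smul, show c ^ j.val • p₀ = c ^ i.val • p₀ from hij.symm, inv_smul_smul]),
    by rw [Nat.card_zmod, ← Subgroup.index_eq_card, hindex N₁ hN₁]⟩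
  have hιadd : ∀ i j : ZMod 13, ι (i + j) = c ^ i.val • ι j := fun i j => by
    show c ^ (i + j).val • p₀ = c ^ i.val • c ^ j.val • p₀
    rw [hadd, mul_smul]
  have htrl : ∀ g : G, ∃ m : ZMod 13, g • B = c ^ m.val • B := by
    intro g
    let μ : ZMod 13 → G ⧸ N₂ := fun i => QuotientGroup.mk (c ^ i.val)
    have hμ : Function.Bijective μ := (Nat.bijective_iff_injective_and_card μ).2
      ⟨fun i j hij => hcN N₂ hN₂ i j (QuotientGroup.eq.1 hij),
        by rw [Nat.card_zmod, ← Subgroup.index_eq_card, hindex N₂ hN₂]⟩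
    obtain ⟨m, hm⟩ := hμ.2 (QuotientGroup.mk g)
    refine ⟨m, ?_⟩
    have hk : (c ^ m.val)⁻¹ * g ∈ K := hKeq.symm ▸ QuotientGroup.eq.1 hm
    rw [hK, MulAction.mem_stabilizer_iff, mul_smul, inv_smul_eq_iff] at hk
    exact hk
  have hshift : ∀ (m i : ZMod 13), ι i ∈ c ^ m.val • B ↔ ι (i - m) ∈ B := fun m i => by
    rw [show ι i = c ^ m.val • ι (i - m) by rw [← hιadd, add_sub_cancel], Set.smul_mem_smul_set_iff]
  let D : Finset (ZMod 13) := Finset.univ.filter fun i => ι i ∈ B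
  have hDm : ∀ i, i ∈ D ↔ ι i ∈ B := fun i => by simp [D]
  have hDc : D.card = 4 := by
    rw [← hBcard, ← Set.ncard_coe_finset, show (↑D : Set (ZMod 13)) = ι ⁻¹' B from Set.ext fun i => hDm i,
      ← Set.ncard_image_of_injective _ hι.1, Set.image_preimage_eq _ hι.2]
  have h0 : (0 : ZMod 13) ∈ D := (hDm 0).2 ⟨1, by simp [ι]⟩
  have hcover : ∀ d : ZMod 13, ∃ k ∈ D, k + d ∈ D := by
    intro d
    by_cases hd : d = 0
    · exact ⟨0, h0, by rwa [hd, add_zero]⟩
    have hι0 : ι 0 = p₀ := by simp [ι]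
    obtain ⟨g, hg, hgr⟩ := htrans (ι d) fun c => hd (hι.1 (c.trans hι0.symm))
    obtain ⟨m, hm⟩ := htrl g
    have h1 : ι 0 ∈ c ^ m.val • B := by
      rw [← hm, hι0]
      exact ⟨p₀, ⟨1, one_smul _ _⟩, (hstab g).2 hg⟩
    have h2 : ι d ∈ c ^ m.val • B := by rw [← hm, ← hgr]; exact Set.smul_mem_smul_set hqB
    rw [hshift] at h1 h2
    exact ⟨0 - m, (hDm _).2 h1, (hDm _).2 (by rwa [zero_sub, neg_add_eq_sub])⟩
  obtain ⟨k₁, hk₁, hk₁'⟩ := hcover 1
  obtain ⟨a, a', -, haa⟩ := Finset.card_eq_two.1 (show ((D.erase k₁).erase (k₁ + 1)).card = 2 by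
    rw [Finset.card_erase_of_mem (Finset.mem_erase.2 ⟨by simp, hk₁'⟩), Finset.card_erase_of_mem hk₁, hDc])
  have hD' : ∀ i, i ∈ D ↔ i - k₁ = 0 ∨ i - k₁ = 1 ∨ i - k₁ = a - k₁ ∨ i - k₁ = a' - k₁ := fun i => by
    rw [sub_eq_zero, sub_eq_iff_eq_add, sub_left_inj, sub_left_inj, add_comm 1 k₁]
    constructor
    · intro hi
      by_cases e1 : i = k₁
      · exact Or.inl e1
      by_cases e2 : i = k₁ + 1
      · exact Or.inr (Or.inl e2)
      have : i ∈ (D.erase k₁).erase (k₁ + 1) := Finset.mem_erase.2 ⟨e2, Finset.mem_erase.2 ⟨e1, hi⟩⟩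
      rw [haa] at this
      simpa using Or.inr (Or.inr (Finset.mem_insert.1 this |>.imp id Finset.mem_singleton.1))
    · rintro (rfl | rfl | rfl | rfl)
      · exact hk₁
      · exact hk₁'
      · have : i ∈ (D.erase k₁).erase (k₁ + 1) := by rw [haa]; simp
        exact Finset.mem_of_mem_erase (Finset.mem_of_mem_erase this)
      · have : i ∈ (D.erase k₁).erase (k₁ + 1) := by rw [haa]; simp
        exact Finset.mem_of_mem_erase (Finset.mem_of_mem_erase this)
  obtain ⟨u, w, hu, huw⟩ := Plane13.scale (a - k₁) (a' - k₁) fun d => by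
    obtain ⟨k, hk, hkd⟩ := hcover d
    exact ⟨k - k₁, (hD' k).1 hk, by have := (hD' _).1 hkd; rwa [show k + d - k₁ = k - k₁ + d by ring] at this⟩
  let φ : ZMod 13 → ZMod 13 := fun i => u * i + (w + k₁)
  have hφb : ∀ i, Plane13.b i = true ↔ φ i ∈ D := by
    have hinj : Function.Injective φ := fun i j e => mul_left_cancel₀ hu (add_right_cancel e)
    have hsub : (Finset.univ.filter fun i : ZMod 13 => Plane13.b i = true).image φ = D := by
      refine Finset.eq_of_subset_of_card_le (fun x hx => ?_) (le_of_eq ?_)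
      · obtain ⟨i, hi, rfl⟩ := Finset.mem_image.1 hx
        refine (hD' _).2 ?_
        rw [show φ i - k₁ = u * i + w by simp only [φ]; ring]
        exact huw i (Finset.mem_filter.1 hi).2
      · rw [Finset.card_image_of_injective _ hinj, hDc]
        simpa using (Plane13.card_line 0).symm
    intro i
    rw [← hsub, Finset.mem_image]
    refine ⟨fun hi => ⟨i, Finset.mem_filter.2 ⟨Finset.mem_univ _, hi⟩, rfl⟩, fun ⟨j, hj, e⟩ => ?_⟩
    exact hinj e ▸ (Finset.mem_filter.1 hj).2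
  have hφ : Function.Bijective φ := Finite.injective_iff_bijective.1
    fun i j e => mul_left_cancel₀ hu (add_right_cancel e)
  let κ : ZMod 13 ≃ G ⧸ N₁ := Equiv.ofBijective (ι ∘ φ) (hι.comp hφ)
  let ρ : G →* Equiv.Perm (ZMod 13) :=
    (κ.symm.permCongrHom).toMonoidHom.comp (MulAction.toPermHom G (G ⧸ N₁))
  have hρ : ∀ g i, κ (ρ g i) = g • κ i := fun g i => by simp [ρ, Equiv.permCongr_apply]
  refine ⟨ρ, ?_, fun g j => ?_⟩
  · rw [← MonoidHom.ker_eq_bot_iff]
    refine (IsSimpleGroup.eq_bot_or_eq_top_of_normal ρ.ker inferInstance).resolve_right fun ht => ?_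
    have hall : ∀ r : G ⧸ N₁, r = p₀ := fun r => by
      obtain ⟨g, rfl⟩ := MulAction.exists_smul_eq G p₀ r
      obtain ⟨i, hi⟩ := κ.surjective p₀
      have hg : ρ g = 1 := MonoidHom.mem_ker.1 (ht ▸ Subgroup.mem_top g)
      rw [← hi, ← hρ, hg, Equiv.Perm.one_apply]
    exact hqp (hall q)
  obtain ⟨m, hm⟩ := htrl (g * c ^ (u * j).val)
  refine ⟨u⁻¹ * m, fun i hi => ?_⟩
  rw [hφb] at hi ⊢
  rw [hDm] at hi ⊢
  rw [show φ (i - j) = φ i - u * j by simp only [φ]; ring, ← hshift] at hi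
  rw [show φ (ρ g i - u⁻¹ * m) = φ (ρ g i) - m by
    simp only [φ]; rw [mul_sub, ← mul_assoc u u⁻¹ m, mul_inv_cancel₀ hu]; ring, ← hshift, ← hm, mul_smul]
  have : ι (φ (ρ g i)) = g • ι (φ i) := hρ g i
  rw [this]
  exact Set.smul_mem_smul_set hi

omit h hO hG in
theorem range_eq_pres {H : Type v} [Group H] (r : H →* Equiv.Perm (ZMod 13)) (hr : Function.Injective r)
    (hpr : ∀ g, Plane13.Pres (r g)) (hH : Nat.card H = 5616) :
    (r.range : Set (Equiv.Perm (ZMod 13))) = {π | Plane13.Pres π} := by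
  refine Set.eq_of_subset_of_ncard_le (by rintro _ ⟨g, rfl⟩; exact hpr g) ?_ (Set.toFinite _)
  rw [← Nat.card_coe_set_eq, ← Nat.card_coe_set_eq]
  refine Plane13.card_pres_le.trans (le_of_eq ?_)
  rw [← hH]
  exact Nat.card_congr (MonoidHom.ofInjective hr).toEquiv

omit h hO hG in
/-- Two such groups are isomorphic. -/
theorem unique_5616 {G : Type u} {G' : Type v} [Group G] [Finite G] [Group G'] [Finite G']
    {ψ : Q →* G} (h : Emb ψ) (hO : pResidual 2 G = ⊤) (hG : Nat.card G = 5616)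
    {ψ' : Q →* G'} (h' : Emb ψ') (hO' : pResidual 2 G' = ⊤) (hG' : Nat.card G' = 5616) :
    Nonempty (G ≃* G') := by
  classical
  obtain ⟨ρ, hρ, hp⟩ := exists_model h hO hG
  obtain ⟨ρ', hρ', hp'⟩ := exists_model h' hO' hG'
  have e : ρ.range = ρ'.range := SetLike.coe_injective ((range_eq_pres ρ hρ hp hG).trans (range_eq_pres ρ' hρ' hp' hG').symm)
  exact ⟨((MonoidHom.ofInjective hρ).trans (MulEquiv.subgroupCongr e)).trans (MonoidHom.ofInjective hρ').symm⟩

end Cfsg.Agent.Invol.GL23
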