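import Mathlib
import Cfsg.Agent.Lib.Invol.Order5616Model
import Cfsg.Agent.Lib.Fus.InvolPatternThree
import Cfsg.Agent.Lib.Classical.SLNormal

/-!
The group `PSL(3,3)` among the groups with involution centralizer `GL(2,3)`.
-/

set_option autoImplicit false
set_option linter.style.haveILetI false

namespace Cfsg.Agent.Invol.GL23

open Cfsg

universe u

/-- A group of order 5616 with no quotient of 2-power order and involution centralizer `GL(2,3)` is `PSL(3,3)`. -/
theorem mulEquiv_psl_of_5616 {G : Type u} [Group G] [Finite G] (hO : pResidual 2 G = ⊤) {t : G}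
    (ht : orderOf t = 2) (e : ↥(Subgroup.centralizer ({t} : Set G)) ≃* Q) (hG : Nat.card G = 5616)
    (F : Type) [Field F] [Fintype F] (hF : Fintype.card F = 3) :
    Nonempty (G ≃* Matrix.ProjectiveSpecialLinearGroup (Fin 3) F) := by
  classical
  haveI : Fact (Nat.Prime 2) := ⟨Nat.prime_two⟩
  haveI : Fact (Nat.Prime 3) := ⟨Nat.prime_three⟩
  obtain ⟨ψ, h, -⟩ := exists_emb ht e
  obtain ⟨hgood, hcard⟩ := Fus.PatternThree.psl_good hF
  haveI : Finite (Matrix.ProjectiveSpecialLinearGroup (Fin 3) F) :=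
    Nat.finite_of_card_ne_zero (by rw [hcard]; norm_num)
  haveI : IsSimpleGroup (Matrix.ProjectiveSpecialLinearGroup (Fin 3) F) :=
    Classical.PSL_isSimple (F := F) (n := 3) (by norm_num) (by intro hc; omega)
  obtain ⟨x, hx⟩ := exists_prime_orderOf_dvd_card' (G := Matrix.ProjectiveSpecialLinearGroup (Fin 3) F) 2
    (by rw [hcard]; norm_num)
  obtain ⟨e'⟩ := hgood.cent x hx
  obtain ⟨ψ', h', -⟩ := exists_emb hx e'
  refine unique_5616 h hO hG h' ?_ hcard
  obtain ⟨g, hg⟩ := exists_prime_orderOf_dvd_card' (G := Matrix.ProjectiveSpecialLinearGroup (Fin 3) F) 3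
    (by rw [hcard]; norm_num)
  refine (IsSimpleGroup.eq_bot_or_eq_top_of_normal _ inferInstance).resolve_left fun hb => ?_
  have hm : g ∈ pResidual 2 (Matrix.ProjectiveSpecialLinearGroup (Fin 3) F) :=
    mem_pResidual (by rw [hg]; decide)
  rw [hb, Subgroup.mem_bot] at hm
  rw [hm, orderOf_one] at hg
  norm_num at hg

end Cfsg.Agent.Invol.GL23
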