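import Mathlib
import Cfsg.Agent.Lib.Invol.Order5616Chars
import Cfsg.Agent.Lib.Invol.PSLThreeThree
import Cfsg.Agent.Lib.Invol.PResidual
import Cfsg.Agent.Lib.Invol.BrauerSuzuki
import Cfsg.Agent.Lib.Transfer.Burnside
import Cfsg.Agent.S3304

/-!
Simple groups of order 5616 are isomorphic to `PSL(3,3)`: the centralizer of an involution is `GL(2,3)`.
-/

set_option autoImplicit false
set_option linter.style.haveILetI false

namespace Cfsg.Agent.Invol.L33Ord

open Cfsg

universe u

section Abstract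

variable {X : Type u} [Group X] [Finite X]

/-- A group of order 48 with a central involution and small centralizers of elements of order three
maps onto `Perm (Fin 4)` with kernel generated by the involution. -/
theorem exists_hom (hX : Nat.card X = 48) {t : X} (ht : orderOf t = 2) (htc : ∀ g : X, g * t = t * g)
    (hy : ∀ y : X, orderOf y = 3 → ¬ 4 ∣ Nat.card (Subgroup.centralizer ({y} : Set X))) :
    ∃ φ : X →* Equiv.Perm (Fin 4), Function.Surjective φ ∧ ∀ g : X, φ g = 1 ↔ g = 1 ∨ g = t := by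
  classical
  haveI : Fact (Nat.Prime 3) := ⟨Nat.prime_three⟩
  obtain ⟨P⟩ : Nonempty (Sylow 3 X) := inferInstance
  have hP3 : ∀ R : Sylow 3 X, Nat.card (R : Subgroup X) = 3 := fun R => by
    rw [R.card_eq_multiplicity, hX, show (48 : ℕ) = 3 ^ 1 * 16 by norm_num,
      Nat.factorization_mul (by norm_num) (by norm_num), Finsupp.add_apply,
      Nat.prime_three.factorization_pow, Finsupp.single_eq_same,
      Nat.factorization_eq_zero_of_not_dvd (by norm_num : ¬ 3 ∣ 16)]
    norm_num
  obtain ⟨⟨y, hyP⟩, hyo⟩ := exists_prime_orderOf_dvd_card' (G := (P : Subgroup X)) 3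
    (dvd_of_eq (hP3 P).symm)
  rw [Subgroup.orderOf_mk] at hyo
  set C := Subgroup.centralizer ({y} : Set X) with hC
  have htC : t ∈ C := Subgroup.mem_centralizer_singleton_iff.2 (htc y).symm
  have hyC : y ∈ C := Subgroup.mem_centralizer_singleton_iff.2 rfl
  have hC6 : Nat.card C = 6 := by
    have h48 : Nat.card C ∣ 48 := hX ▸ Subgroup.card_subgroup_dvd_card C
    have h4 := hy y hyo
    have h2 : 2 ∣ Nat.card C := ht ▸ Subgroup.orderOf_dvd_natCard _ htC
    have h3 : 3 ∣ Nat.card C := hyo ▸ Subgroup.orderOf_dvd_natCard _ hyC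
    have hle := Nat.le_of_dvd (by norm_num) h48
    rw [← hC] at h4
    interval_cases h : Nat.card C <;> omega
  set N := Subgroup.normalizer ((P : Subgroup X) : Set X) with hN
  have hPz : (P : Subgroup X) = Subgroup.zpowers y :=
    (Subgroup.eq_of_le_of_card_ge (Subgroup.zpowers_le.2 hyP)
      (by rw [Nat.card_zpowers, hyo, hP3])).symm
  have hconj : ∀ g ∈ N, g * y * g⁻¹ = y ∨ g * y * g⁻¹ = y⁻¹ := by
    intro g hg
    have h1 : g * y * g⁻¹ ∈ Subgroup.zpowers y := hPz ▸ (Subgroup.mem_normalizer_iff.1 hg y).1 hyP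
    obtain ⟨i, hi⟩ := Subgroup.mem_zpowers_iff.1 h1
    have h3 : i % 3 = 0 ∨ i % 3 = 1 ∨ i % 3 = 2 := by omega
    rw [← zpow_mod_orderOf, hyo] at hi
    rcases h3 with e | e | e <;> rw [show ((3 : ℕ) : ℤ) = 3 from rfl, e] at hi
    · rw [zpow_zero] at hi
      have : y = 1 := conj_eq_one_iff.1 hi.symm
      rw [this, orderOf_one] at hyo
      omega
    · exact Or.inl (by rw [← hi, zpow_one])
    · refine Or.inr ?_
      rw [← hi, eq_inv_iff_mul_eq_one, show (2 : ℤ) = ((2 : ℕ) : ℤ) from rfl, zpow_natCast, ← pow_succ,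
        show (2 + 1 : ℕ) = 3 from rfl, ← hyo, pow_orderOf_eq_one]
  have hN12 : Nat.card N ≤ 12 := by
    have hmem : ∀ g : X, g * y * g⁻¹ = y → g ∈ C := fun g h =>
      Subgroup.mem_centralizer_singleton_iff.2 (mul_inv_eq_iff_eq_mul.1 h)
    by_cases hall : ∀ g ∈ N, g * y * g⁻¹ = y
    · have := Subgroup.card_le_of_le (show N ≤ C from fun g hg => hmem g (hall g hg))
      omega
    push Not at hall
    obtain ⟨g₀, hg₀, hne⟩ := hall
    have h₀ := (hconj g₀ hg₀).resolve_left hne
    let f : N → Bool × C := fun g =>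
      if h : (g : X) * y * (g : X)⁻¹ = y then (false, ⟨g, hmem _ h⟩)
      else (true, ⟨g₀⁻¹ * g, hmem _ (by
        have h1 := (hconj g g.2).resolve_left h
        calc g₀⁻¹ * g * y * (g₀⁻¹ * g)⁻¹ = g₀⁻¹ * ((g : X) * y * (g : X)⁻¹) * g₀ := by group
          _ = g₀⁻¹ * (g₀ * y * g₀⁻¹) * g₀ := by rw [h1, h₀]
          _ = y := by group)⟩)
    have hf : Function.Injective f := by
      intro g g' h
      simp only [f] at h
      split_ifs at h with h1 h2 h2 <;> simp only [Prod.mk.injEq, Subtype.mk.injEq] at h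
      · exact Subtype.ext h.2
      · simp at h
      · simp at h
      · exact Subtype.ext (mul_left_cancel h.2)
    have := Nat.card_le_card_of_injective f hf
    rw [Nat.card_prod, hC6] at this
    simpa using this
  have hn : Nat.card (Sylow 3 X) = 4 := by
    have h1 : Nat.card (Sylow 3 X) = N.index := P.card_eq_index_normalizer
    have h2 := N.card_mul_index
    rw [hX, ← h1] at h2
    have hmod := card_sylow_modEq_one 3 X
    have hd : Nat.card (Sylow 3 X) ∣ 16 := by
      have := P.card_dvd_index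
      have h3 := (P : Subgroup X).card_mul_index
      rw [hP3, hX] at h3
      rwa [show (P : Subgroup X).index = 16 by omega] at this
    have h6 : 6 ∣ Nat.card N := by
      refine Nat.Coprime.mul_dvd_of_dvd_of_dvd (show Nat.Coprime 2 3 by norm_num) ?_ ?_
      · refine ht ▸ Subgroup.orderOf_dvd_natCard _ (Subgroup.mem_normalizer_iff.2 fun z => ?_)
        rw [← htc, mul_inv_cancel_right]
      · exact hyo ▸ Subgroup.orderOf_dvd_natCard _ (Subgroup.le_normalizer hyP)
    have hle := Nat.le_of_dvd (by norm_num) hd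
    obtain ⟨k, hk⟩ := h6
    rw [hk] at h2 hN12
    have : k ≤ 2 := by omega
    interval_cases k <;> simp at h2 <;> (unfold Nat.ModEq at hmod; omega)
  haveI := Fintype.ofFinite (Sylow 3 X)
  let ε : Sylow 3 X ≃ Fin 4 := Fintype.equivFinOfCardEq (by rw [← Nat.card_eq_fintype_card, hn])
  let φ : X →* Equiv.Perm (Fin 4) := ε.permCongrHom.toMonoidHom.comp (MulAction.toPermHom X (Sylow 3 X))
  have hk : ∀ g : X, φ g = 1 ↔ ∀ R : Sylow 3 X, g • R = R := by
    intro g
    simp only [φ, MonoidHom.coe_comp, MulEquiv.coe_toMonoidHom, Function.comp_apply,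
      MulEquiv.map_eq_one_iff]
    exact ⟨fun h R => Equiv.ext_iff.1 h R, fun h => Equiv.ext h⟩
  have hno : ∀ g : X, φ g = 1 → orderOf g ≠ 3 := by
    intro g hg ho
    have hall : ∀ R : Sylow 3 X, (R : Subgroup X) = Subgroup.zpowers g := by
      intro R
      refine (Subgroup.eq_of_le_of_card_ge (Subgroup.zpowers_le.2 ?_) (by
        rw [Nat.card_zpowers, ho, hP3])).symm
      have hz : IsPGroup 3 (Subgroup.zpowers g) := IsPGroup.of_card (n := 1) (by rw [Nat.card_zpowers, ho, pow_one])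
      have h1 := hz.inf_normalizer_sylow R
      have h2 : g ∈ Subgroup.zpowers g ⊓ Subgroup.normalizer ((R : Subgroup X) : Set X) :=
        ⟨Subgroup.mem_zpowers g, Sylow.smul_eq_iff_mem_normalizer.1 ((hk g).1 hg R)⟩
      exact (h1.le h2).2
    haveI : Subsingleton (Sylow 3 X) := ⟨fun R R' => Sylow.ext ((hall R).trans (hall R').symm)⟩
    rw [Nat.card_eq_one_iff_unique.2 ⟨inferInstance, ⟨P⟩⟩] at hn
    omega
  have hker : ∀ g : X, φ g = 1 → g ∈ C := by
    intro g hg
    have hgN : g ∈ N := Sylow.smul_eq_iff_mem_normalizer.1 ((hk g).1 hg P)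
    rcases hconj g hgN with h | h
    · exact Subgroup.mem_centralizer_singleton_iff.2 (mul_inv_eq_iff_eq_mul.1 h)
    · exfalso
      refine hno (g * y * g⁻¹ * y⁻¹) (by rw [map_mul, map_mul, map_mul, hg, map_inv, map_inv, hg]; group) ?_
      rw [h, show y⁻¹ * y⁻¹ = y ^ 1 by
        rw [pow_one, ← mul_inv_rev, inv_eq_iff_mul_eq_one, ← pow_two, ← pow_succ,
          show (2 + 1 : ℕ) = 3 from rfl, ← hyo, pow_orderOf_eq_one], pow_one, hyo]
  have hphit : φ t = 1 := by
    rw [hk]
    intro R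
    refine Sylow.smul_eq_iff_mem_normalizer.2 (Subgroup.mem_normalizer_iff.2 fun z => ?_)
    rw [← htc, mul_inv_cancel_right]
  have hkcard : Nat.card φ.ker = 2 := by
    have h1 : Nat.card φ.ker ∣ 6 := hC6 ▸ Subgroup.card_dvd_of_le (fun g hg => hker g hg)
    have h2 : 2 ∣ Nat.card φ.ker := ht ▸ Subgroup.orderOf_dvd_natCard _ hphit
    have h3 : ¬ 3 ∣ Nat.card φ.ker := fun h => by
      obtain ⟨g, hg⟩ := exists_prime_orderOf_dvd_card' 3 h
      exact hno g g.2 (by rw [Subgroup.orderOf_coe, hg])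
    have hle := Nat.le_of_dvd (by norm_num) h1
    interval_cases h : Nat.card φ.ker <;> omega
  have hkz : φ.ker = Subgroup.zpowers t :=
    (Subgroup.eq_of_le_of_card_ge (Subgroup.zpowers_le.2 hphit) (by rw [Nat.card_zpowers, ht, hkcard])).symm
  refine ⟨φ, ?_, fun g => ⟨fun hg => ?_, fun hg => ?_⟩⟩
  · rw [← MonoidHom.range_eq_top]
    refine Subgroup.eq_top_of_card_eq _ ?_
    have h1 := φ.ker.card_mul_index
    rw [Subgroup.index_ker, hkcard, hX] at h1
    rw [Nat.card_perm, Nat.card_fin, show Nat.factorial 4 = 24 from rfl]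
    omega
  · have h1 : g ∈ Subgroup.zpowers t := hkz ▸ hg
    obtain ⟨i, rfl⟩ := Subgroup.mem_zpowers_iff.1 h1
    rw [← zpow_mod_orderOf, ht]
    rcases Int.emod_two_eq_zero_or_one i with e | e <;> rw [show ((2 : ℕ) : ℤ) = 2 from rfl, e]
    · exact Or.inl (zpow_zero t)
    · exact Or.inr (zpow_one t)
  · rcases hg with rfl | rfl
    exacts [map_one φ, hphit]

/-- The double transpositions and the identity. -/
def fours : Subgroup (Equiv.Perm (Fin 4)) where
  carrier := {v | v * v = 1 ∧ Equiv.Perm.sign v = 1}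
  one_mem' := ⟨one_mul 1, map_one _⟩
  mul_mem' := fun {a b} => (by decide +kernel : ∀ a b : Equiv.Perm (Fin 4),
    a * a = 1 ∧ Equiv.Perm.sign a = 1 → b * b = 1 ∧ Equiv.Perm.sign b = 1 →
      a * b * (a * b) = 1 ∧ Equiv.Perm.sign (a * b) = 1) a b
  inv_mem' := fun {a} => (by decide +kernel : ∀ a : Equiv.Perm (Fin 4),
    a * a = 1 ∧ Equiv.Perm.sign a = 1 → a⁻¹ * a⁻¹ = 1 ∧ Equiv.Perm.sign a⁻¹ = 1) a

theorem mem_fours {v : Equiv.Perm (Fin 4)} : v ∈ fours ↔ v * v = 1 ∧ Equiv.Perm.sign v = 1 := Iff.rfl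

instance : fours.Normal :=
  ⟨fun v hv g => mem_fours.2 ((by decide +kernel : ∀ v g : Equiv.Perm (Fin 4),
    v * v = 1 ∧ Equiv.Perm.sign v = 1 →
      g * v * g⁻¹ * (g * v * g⁻¹) = 1 ∧ Equiv.Perm.sign (g * v * g⁻¹) = 1) v g (mem_fours.1 hv))⟩

theorem card_fours : Nat.card fours = 4 := by
  rw [Nat.card_congr (Equiv.subtypeEquivRight fun _ => mem_fours), Nat.card_eq_fintype_card]
  decide +kernel

theorem cent_fours : ∀ σ : Equiv.Perm (Fin 4),
    (∀ v, v * v = 1 ∧ Equiv.Perm.sign v = 1 → σ * v = v * σ) → σ * σ = 1 ∧ Equiv.Perm.sign σ = 1 := by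
  decide +kernel

theorem conj_fours : ∀ v w : Equiv.Perm (Fin 4), v * v = 1 ∧ Equiv.Perm.sign v = 1 → v ≠ 1 →
    w * w = 1 ∧ Equiv.Perm.sign w = 1 → w ≠ 1 → ∃ g, g * v * g⁻¹ = w := by
  decide +kernel

theorem no_cyclic_fours : ∀ g : Equiv.Perm (Fin 4), g * g = 1 ∧ Equiv.Perm.sign g = 1 →
    ∃ v : Equiv.Perm (Fin 4), (v * v = 1 ∧ Equiv.Perm.sign v = 1) ∧ v ≠ 1 ∧ v ≠ g := by
  decide +kernel

theorem comm_fours : ∀ v w : Equiv.Perm (Fin 4), v * v = 1 ∧ Equiv.Perm.sign v = 1 →
    w * w = 1 ∧ Equiv.Perm.sign w = 1 → v * w = w * v := by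
  decide +kernel

theorem pre_normal (φ : X →* Equiv.Perm (Fin 4)) : (fours.comap φ).Normal :=
  (inferInstance : fours.Normal).comap φ

set_option maxHeartbeats 1000000 in
/-- With a quaternion kernel of the fours group and an involution outside it, it is `GL(2,3)`. -/
theorem mulEquiv_gl (hX : Nat.card X = 48) (O : Subgroup X) [O.Normal] (e : O ≃* QuaternionGroup 2)
    (hC : Subgroup.centralizer (O : Set X) ≤ O) {s : X} (hs : s * s = 1) (hsO : s ∉ O) :
    Nonempty (X ≃* GL23.Q) := by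
  obtain ⟨E⟩ := S3742.result
  obtain ⟨m1⟩ := S3304.exists_iso E hX O e hC s hs hsO
  haveI hQn : (S3370.quatHom.range).Normal := by
    refine ⟨?_⟩
    rintro _ ⟨q, rfl⟩ y
    have hall : ∀ (y : GL (Fin 2) (ZMod 3)) (q : QuaternionGroup 2), ∃ r,
        S3370.quatMap r = y * S3370.quatMap q * y⁻¹ := by
      decide +kernel
    obtain ⟨r, hr⟩ := hall y q
    exact ⟨r, hr⟩
  have hcard : Nat.card (GL (Fin 2) (ZMod 3)) = 48 := by
    rw [Nat.card_eq_fintype_card]; decide +kernel
  have hC' : Subgroup.centralizer (S3370.quatHom.range : Set (GL (Fin 2) (ZMod 3))) ≤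
      S3370.quatHom.range := by
    intro y hy
    have hall : ∀ y : GL (Fin 2) (ZMod 3), (∀ q, S3370.quatMap q * y = y * S3370.quatMap q) →
        ∃ r, S3370.quatMap r = y := by
      decide +kernel
    exact hall y fun q => Subgroup.mem_centralizer_iff.mp hy _ ⟨q, rfl⟩
  obtain ⟨m2⟩ := S3304.exists_iso E hcard S3370.quatHom.range
    (MonoidHom.ofInjective (f := S3370.quatHom) S3370.quatMap_injective).symm hC'
    S3370.mB (by decide +kernel) (by
      rintro ⟨q, hq⟩
      have hall : ∀ q, S3370.quatMap q ≠ S3370.mB := by decide +kernel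
      exact hall q hq)
  exact ⟨m1.symm.trans m2⟩

end Abstract

/-- The centralizer of an involution in a simple group of order 5616 is `GL(2,3)`. -/
theorem centralizer_equiv {G : Type u} [Group G] [Finite G] [IsSimpleGroup G] (hG : Nat.card G = 5616)
    {t : G} (ht : orderOf t = 2) :
    Nonempty (↥(Subgroup.centralizer ({t} : Set G)) ≃* GL23.Q) := by
  classical
  haveI : Fact (Nat.Prime 2) := ⟨Nat.prime_two⟩
  obtain ⟨K⟩ := exists_tab hG
  have hna := not_comm hG
  have ht1 : t ≠ 1 := fun e => by rw [e, orderOf_one] at ht; omega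
  have hcard : Nat.card (Subgroup.centralizer ({t} : Set G)) = 48 := (involution hG K ht).2.2.2
  set X := Subgroup.centralizer ({t} : Set G) with hXdef
  set τ : X := ⟨t, Subgroup.mem_centralizer_singleton_iff.2 rfl⟩ with hτ
  have hτo : orderOf τ = 2 := by rw [hτ, Subgroup.orderOf_mk]; exact ht
  have hτc : ∀ g : X, g * τ = τ * g := fun g => Subtype.ext (Subgroup.mem_centralizer_singleton_iff.1 g.2)
  obtain ⟨φ, hφs, hker⟩ := exists_hom (X := X) hcard hτo hτc fun y hy h4 =>
    three_centralizer hG K (show orderOf (y : G) = 3 by rw [Subgroup.orderOf_coe, hy]) (h4.trans (by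
      refine (dvd_of_eq ?_).trans (Subgroup.card_subgroup_dvd_card ((Subgroup.centralizer ({(y : G)} : Set G)) ⊓ X
        |>.subgroupOf (Subgroup.centralizer ({(y : G)} : Set G))))
      rw [Nat.card_congr (Subgroup.subgroupOfEquivOfLe inf_le_left).toEquiv,
        ← Subgroup.card_map_of_injective (f := X.subtype) X.subtype_injective]
      congr 2
      ext g
      simp only [Subgroup.mem_map, Subgroup.mem_inf, Subgroup.mem_centralizer_singleton_iff, Subgroup.coe_subtype]
      constructor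
      · rintro ⟨g, hg, rfl⟩
        exact ⟨congrArg Subtype.val hg, g.2⟩
      · rintro ⟨hg, hgX⟩
        exact ⟨⟨g, hgX⟩, Subtype.ext hg, rfl⟩))
  set O := fours.comap φ with hO
  haveI : O.Normal := pre_normal φ
  have hmemO : ∀ g : X, g ∈ O ↔ φ g * φ g = 1 ∧ Equiv.Perm.sign (φ g) = 1 := fun g => Iff.rfl
  have hO8 : Nat.card O = 8 := by
    have h1 : O.index = fours.index := Subgroup.index_comap_of_surjective fours hφs
    have h2 := fours.card_mul_index
    have h3 := O.card_mul_index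
    rw [card_fours, Nat.card_perm, Nat.card_fin, show Nat.factorial 4 = 24 from rfl] at h2
    rw [hcard, h1, show fours.index = 6 by omega] at h3
    omega
  have hCO : Subgroup.centralizer (O : Set X) ≤ O := fun g hg =>
    (hmemO g).2 (cent_fours _ fun v hv => by
      obtain ⟨w, rfl⟩ := hφs v
      rw [← map_mul, ← map_mul, (Subgroup.mem_centralizer_iff.1 hg w ((hmemO w).2 hv))])
  have hττ : τ * τ = 1 := by rw [← pow_two, ← hτo, pow_orderOf_eq_one]
  have hτO : τ ∈ O := (hmemO τ).2 (by rw [(hker τ).2 (Or.inr rfl)]; simp)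
  -- a Sylow subgroup inside the centralizer
  obtain ⟨x, hx⟩ := hφs (Equiv.swap 0 1)
  set D : Subgroup (Equiv.Perm (Fin 4)) :=
    Subgroup.centralizer ({Equiv.swap 0 1 * Equiv.swap 2 3} : Set (Equiv.Perm (Fin 4))) with hDdef
  set S := D.comap φ with hSdef
  have hD8 : Nat.card D = 8 := by
    rw [Nat.card_congr (Equiv.subtypeEquivRight fun _ => Subgroup.mem_centralizer_singleton_iff),
      Nat.card_eq_fintype_card]
    decide +kernel
  have hS16 : Nat.card (S.map X.subtype) = 16 := by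
    rw [Subgroup.card_map_of_injective X.subtype_injective]
    have h1 : S.index = D.index := Subgroup.index_comap_of_surjective D hφs
    have h2 := D.card_mul_index
    have h3 := S.card_mul_index
    rw [hD8, Nat.card_perm, Nat.card_fin, show Nat.factorial 4 = 24 from rfl] at h2
    rw [hcard, h1, show D.index = 3 by omega] at h3
    omega
  let P : Sylow 2 G := Sylow.ofCard (S.map X.subtype) (by
    rw [hS16, hG, show (5616 : ℕ) = 2 ^ 4 * 351 by norm_num,
      Nat.factorization_mul (by norm_num) (by norm_num), Finsupp.add_apply,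
      Nat.prime_two.factorization_pow, Finsupp.single_eq_same,
      Nat.factorization_eq_zero_of_not_dvd (by norm_num : ¬ 2 ∣ 351)]
    norm_num)
  have hPmem : ∀ g : G, g ∈ (P : Subgroup G) ↔ ∃ s : X, s ∈ S ∧ (s : G) = g := fun g => Subgroup.mem_map
  -- some element of the kernel of the action is not of square one
  have hsq : ∃ o ∈ O, o * o ≠ 1 := by
    by_contra hall
    push Not at hall
    have habel : ∀ o ∈ O, ∀ o' ∈ O, o * o' = o' * o := by
      intro o ho o' ho'
      calc o * o' = (o * o')⁻¹ := eq_inv_of_mul_eq_one_left (hall _ (mul_mem ho ho'))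
        _ = o' * o := by rw [mul_inv_rev, inv_eq_of_mul_eq_one_left (hall o ho),
          inv_eq_of_mul_eq_one_left (hall o' ho')]
    have hinv : ∀ o ∈ O, o⁻¹ = o := fun o ho => inv_eq_of_mul_eq_one_left (hall o ho)
    let σ : X → X := fun o => x * o * x⁻¹
    have hσO : ∀ o ∈ O, σ o ∈ O := fun o ho => (inferInstance : O.Normal).conj_mem o ho x
    have hxx : ∀ g : X, g * (x * x) = x * x * g := by
      intro g
      rcases (hker (x * x)).1 (by rw [map_mul, hx, Equiv.swap_mul_self]) with e | e <;> rw [e]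
      · rw [mul_one, one_mul]
      · exact hτc g
    have hσσ : ∀ o, σ (σ o) = o := fun o => by
      show x * (x * o * x⁻¹) * x⁻¹ = o
      rw [show x * (x * o * x⁻¹) * x⁻¹ = x * x * o * (x * x)⁻¹ by group, ← hxx o, mul_inv_cancel_right]
    have hστ : σ τ = τ := by
      show x * τ * x⁻¹ = τ
      rw [hτc x, mul_inv_cancel_right]
    let ψ : X → X := fun o => o * σ o
    have hψmul : ∀ o ∈ O, ∀ o' ∈ O, ψ (o * o') = ψ o * ψ o' := by
      intro o ho o' ho'
      show o * o' * (x * (o * o') * x⁻¹) = o * σ o * (o' * σ o')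
      rw [show x * (o * o') * x⁻¹ = σ o * σ o' by simp only [σ]; group, mul_assoc o o',
        ← mul_assoc o' (σ o), habel o' ho' (σ o) (hσO o ho)]
      group
    obtain ⟨a, ha⟩ := hφs (Equiv.swap 0 2 * Equiv.swap 1 3)
    have haO : a ∈ O := (hmemO a).2 (by rw [ha]; decide +kernel)
    set c := ψ a with hc
    have hcO : c ∈ O := mul_mem haO (hσO a haO)
    have hφc : φ c = Equiv.swap 0 1 * Equiv.swap 2 3 := by
      show φ (a * (x * a * x⁻¹)) = _
      rw [map_mul, map_mul, map_mul, map_inv, hx, ha]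
      decide +kernel
    have hψc : ψ c = 1 := by
      show ψ a * σ (a * σ a) = 1
      rw [show σ (a * σ a) = σ a * σ (σ a) by simp only [σ]; group, hσσ, habel (σ a) (hσO a haO) a haO]
      exact hall _ hcO
    have hψτ : ψ τ = 1 := by show τ * σ τ = 1; rw [hστ, hττ]
    have hψ1 : ψ 1 = 1 := by simp [ψ, σ]
    have hψ : ∀ o ∈ O, ψ o = 1 ∨ ψ o = c := by
      intro o ho
      have hV : ∀ v : Equiv.Perm (Fin 4), v * v = 1 ∧ Equiv.Perm.sign v = 1 →
          v = 1 ∨ v = Equiv.swap 0 2 * Equiv.swap 1 3 ∨ v = Equiv.swap 0 1 * Equiv.swap 2 3 ∨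
            v = Equiv.swap 0 2 * Equiv.swap 1 3 * (Equiv.swap 0 1 * Equiv.swap 2 3) := by
        decide +kernel
      have hfin : ∀ o₀ ∈ O, φ o = φ o₀ → ψ o = ψ o₀ := by
        intro o₀ ho₀ he
        rcases (hker (o₀⁻¹ * o)).1 (by rw [map_mul, map_inv, he, inv_mul_cancel]) with e | e
        · rw [inv_mul_eq_one.1 e]
        · rw [inv_mul_eq_iff_eq_mul.1 e, hψmul o₀ ho₀ τ hτO, hψτ, mul_one]
      rcases hV (φ o) ((hmemO o).1 ho) with e | e | e | e
      · exact Or.inl ((hfin 1 (one_mem _) (by rw [e, map_one])).trans hψ1)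
      · exact Or.inr (hfin a haO (by rw [e, ha]))
      · exact Or.inl ((hfin c hcO (by rw [e, hφc])).trans hψc)
      · refine Or.inr ((hfin (a * c) (mul_mem haO hcO) (by rw [e, map_mul, ha, hφc])).trans ?_)
        rw [hψmul a haO c hcO, hψc, mul_one]
    have hxS : x ∈ S := by
      show φ x ∈ D
      rw [hx, hDdef, Subgroup.mem_centralizer_singleton_iff]
      decide +kernel
    have hOS : ∀ o ∈ O, o ∈ S := by
      intro o ho
      show φ o ∈ D
      rw [hDdef, Subgroup.mem_centralizer_singleton_iff]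
      exact comm_fours _ _ ((hmemO o).1 ho) (by decide +kernel)
    have hdec : ∀ s ∈ S, s ∈ O ∨ ∃ o ∈ O, s = o * x := by
      intro s hs
      have hall' : ∀ v : Equiv.Perm (Fin 4),
          v * (Equiv.swap 0 1 * Equiv.swap 2 3) = Equiv.swap 0 1 * Equiv.swap 2 3 * v →
          (v * v = 1 ∧ Equiv.Perm.sign v = 1) ∨
            (v * Equiv.swap 0 1 * (v * Equiv.swap 0 1) = 1 ∧ Equiv.Perm.sign (v * Equiv.swap 0 1) = 1) := by
        decide +kernel
      have hs' : φ s ∈ D := hs
      rw [hDdef, Subgroup.mem_centralizer_singleton_iff] at hs'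
      rcases hall' (φ s) hs' with h | h
      · exact Or.inl ((hmemO s).2 h)
      · refine Or.inr ⟨s * x⁻¹, (hmemO _).2 (by rwa [map_mul, map_inv, hx, Equiv.swap_inv]), by group⟩
    have hcc : ∀ o ∈ O, c * o = o * c := fun o ho => habel c hcO o ho
    have hσc : σ c = c := by
      show x * c * x⁻¹ = c
      have h1 : x * (a * σ a) * x⁻¹ = σ a * σ (σ a) := by simp only [σ]; group
      exact h1.trans (by rw [hσσ]; exact habel _ (hσO a haO) _ haO)
    have hcS : ∀ s ∈ S, s * c = c * s := by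
      intro s hs
      rcases hdec s hs with h | ⟨o, ho, rfl⟩
      · exact (hcc s h).symm
      · rw [mul_assoc, show x * c = σ c * x by simp only [σ]; group, hσc, ← mul_assoc, ← hcc o ho,
          mul_assoc]
    have hcomm : ∀ s ∈ S, ∀ r ∈ S, s * r * s⁻¹ * r⁻¹ = 1 ∨ s * r * s⁻¹ * r⁻¹ = c := by
      intro s hs r hr
      rcases hdec s hs with h | ⟨o, ho, rfl⟩ <;> rcases hdec r hr with h' | ⟨o', ho', rfl⟩
      · exact Or.inl (by rw [habel s h r h']; group)
      · have : s * (o' * x) * s⁻¹ * (o' * x)⁻¹ = ψ s := by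
          rw [show s * (o' * x) * s⁻¹ * (o' * x)⁻¹ = s * (o' * σ s⁻¹ * o'⁻¹) by simp only [σ]; group,
            hinv s h, habel o' ho' (σ s) (hσO s h), mul_inv_cancel_right]
        rw [this]; exact hψ s h
      · have : o * x * r * (o * x)⁻¹ * r⁻¹ = ψ r := by
          rw [show o * x * r * (o * x)⁻¹ * r⁻¹ = o * σ r * o⁻¹ * r⁻¹ by simp only [σ]; group,
            habel o ho (σ r) (hσO r h'), mul_inv_cancel_right, hinv r h', habel _ (hσO r h') r h']
        rw [this]; exact hψ r h'
      · have h1 : σ (o⁻¹ * o') ∈ O := hσO _ (mul_mem (inv_mem ho) ho')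
        have : o * x * (o' * x) * (o * x)⁻¹ * (o' * x)⁻¹ = ψ (o * o') := by
          rw [show o * x * (o' * x) * (o * x)⁻¹ * (o' * x)⁻¹ = o * (σ (o' * o⁻¹) * o'⁻¹) by
              simp only [σ]; group,
            hinv o ho, hinv o' ho', habel _ (hσO _ (mul_mem ho' ho)) o' ho', habel o' ho' o ho]
          show o * (o' * σ (o * o')) = o * o' * σ (o * o')
          rw [mul_assoc]
        rw [this]; exact hψ _ (mul_mem ho ho')
    -- `t` and `c` are central in a Sylow subgroup, conjugate, and `c` is a commutator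
    have hc1 : c ≠ 1 := fun e => absurd (hφc.symm.trans (by rw [e, map_one])) (by decide +kernel)
    have hcτ : c ≠ τ := fun e => absurd (hφc.symm.trans (by rw [e, (hker τ).2 (Or.inr rfl)])) (by decide +kernel)
    have hco : orderOf (c : G) = 2 := by
      rw [Subgroup.orderOf_coe]
      exact orderOf_eq_prime (by rw [pow_two]; exact hall c hcO) hc1
    obtain ⟨g, hg⟩ := isConj_iff.1 (involution_conj hG K ht hco)
    obtain ⟨n, hn, hne⟩ := Transfer.exists_normalizer_conj_elem P (x := t) (g := g)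
      (fun p hp => by
        obtain ⟨s, hs, rfl⟩ := (hPmem p).1 hp
        exact Subgroup.mem_centralizer_singleton_iff.1 s.2)
      (fun p hp => by
        obtain ⟨s, hs, rfl⟩ := (hPmem p).1 hp
        rw [hg]
        exact congrArg Subtype.val (hcS s hs))
    rw [hg] at hne
    have hcomC : (c : G) = (a : G) * x * (a : G)⁻¹ * (x : G)⁻¹ := by
      have h1 : c = a * x * a⁻¹ * x⁻¹ := by
        rw [hinv a haO]
        show a * (x * a * x⁻¹) = _
        group
      rw [h1]; rfl
    have hn' : ∀ s ∈ S, ∃ r ∈ S, (r : G) = n⁻¹ * (s : G) * n := fun s hs =>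
      (hPmem _).1 ((Subgroup.mem_normalizer_iff''.1 hn (s : G)).1 ((hPmem _).2 ⟨s, hs, rfl⟩))
    obtain ⟨a', ha', hae⟩ := hn' a (hOS a haO)
    obtain ⟨x', hx', hxe⟩ := hn' x hxS
    have hte : t = (a' : G) * x' * (a' : G)⁻¹ * (x' : G)⁻¹ := by
      rw [hae, hxe, show t = n⁻¹ * (c : G) * n by rw [← hne]; group, hcomC]
      group
    rcases hcomm a' ha' x' hx' with e | e
    · exact ht1 (hte.trans (congrArg Subtype.val e))
    · exact hcτ (Subtype.ext ((congrArg Subtype.val e).symm.trans hte.symm))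
  -- the kernel is quaternion
  obtain ⟨o₀, ho₀, ho₀2⟩ := hsq
  have ho₀1 : φ o₀ ≠ 1 := fun h => by
    rcases (hker o₀).1 h with rfl | rfl
    · exact ho₀2 (one_mul 1)
    · exact ho₀2 hττ
  have huniq : ∀ o ∈ O, o * o = 1 → o = 1 ∨ o = τ := by
    intro o ho hoo
    by_contra hne
    have ho1 : φ o ≠ 1 := fun h => hne ((hker o).1 h)
    obtain ⟨g', hg'⟩ := conj_fours (φ o) (φ o₀) ((hmemO o).1 ho) ho1 ((hmemO o₀).1 ho₀) ho₀1
    obtain ⟨g, rfl⟩ := hφs g'
    rcases (hker ((g * o * g⁻¹)⁻¹ * o₀)).1 (by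
      rw [map_mul, map_inv, map_mul, map_mul, map_inv, hg', inv_mul_cancel]) with e | e
    · refine ho₀2 ?_
      rw [← inv_mul_eq_one.1 e]
      calc g * o * g⁻¹ * (g * o * g⁻¹) = g * (o * o) * g⁻¹ := by group
        _ = 1 := by rw [hoo]; group
    · refine ho₀2 ?_
      rw [inv_mul_eq_iff_eq_mul.1 e]
      calc g * o * g⁻¹ * τ * (g * o * g⁻¹ * τ) = g * o * g⁻¹ * (τ * (g * o * g⁻¹)) * τ := by group
        _ = g * o * g⁻¹ * ((g * o * g⁻¹) * τ) * τ := by rw [← hτc (g * o * g⁻¹)]
        _ = g * (o * o) * g⁻¹ * (τ * τ) := by group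
        _ = 1 := by rw [hoo, hττ]; group
  obtain ⟨e⟩ : Nonempty (O ≃* QuaternionGroup 2) := by
    have hOp : IsPGroup 2 O := IsPGroup.of_card (n := 3) (by rw [hO8]; norm_num)
    rcases Grp.Ambivalent.cyclic_or_quaternion hOp (fun u v hu hv => by
      have key : ∀ u : O, orderOf u = 2 → (u : X) = τ := fun u hu =>
        (huniq u u.2 (congrArg Subtype.val
          (show u * u = 1 by rw [← pow_two, ← hu, pow_orderOf_eq_one]))).resolve_left fun h => by
            rw [show u = 1 from Subtype.ext h, orderOf_one] at hu; omega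
      exact Subtype.ext ((key u hu).trans (key v hv).symm)) with hc | ⟨n, ⟨e⟩⟩
    · obtain ⟨⟨g, hgO⟩, hg⟩ := hc.exists_generator
      obtain ⟨v, hv, hv1, hvg⟩ := no_cyclic_fours (φ g) ((hmemO g).1 hgO)
      obtain ⟨w, rfl⟩ := hφs v
      obtain ⟨i, hi⟩ := Subgroup.mem_zpowers_iff.1 (hg ⟨w, (hmemO w).2 hv⟩)
      have hwi : φ w = φ g ^ i := by
        rw [← map_zpow]; exact congrArg φ (congrArg Subtype.val hi).symm
      rcases Int.even_or_odd' i with ⟨j, rfl | rfl⟩
      · exact (hv1 (by rw [hwi, zpow_mul, zpow_two, ((hmemO g).1 hgO).1, one_zpow])).elim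
      · exact (hvg (by rw [hwi, zpow_add_one, zpow_mul, zpow_two, ((hmemO g).1 hgO).1, one_zpow, one_mul])).elim
    · have h := (Nat.card_congr e.toEquiv).symm.trans hO8
      rw [Nat.card_eq_fintype_card, QuaternionGroup.card] at h
      obtain rfl : n = 0 := by
        by_contra h0
        have : 2 ^ 2 ≤ 2 ^ (n + 1) := Nat.pow_le_pow_right (by norm_num) (by omega)
        omega
      exact ⟨e⟩
  -- an involution outside the kernel
  obtain ⟨s, hs, hsO⟩ : ∃ s : X, s * s = 1 ∧ s ∉ O := by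
    by_contra hno
    push Not at hno
    have key : ∀ u ∈ (P : Subgroup G), orderOf u = 2 → u = t := by
      intro u hu huo
      obtain ⟨s, -, rfl⟩ := (hPmem u).1 hu
      have hss : s * s = 1 := by
        refine Subtype.ext ?_
        show (s : G) * (s : G) = 1
        rw [← pow_two, ← huo, pow_orderOf_eq_one]
      rcases huniq s (hno s hss) hss with rfl | rfl
      · simp at huo
      · rfl
    obtain ⟨N, hN, hodd, hNc⟩ := BS.exists_odd_normal
      (BS.twoRankOne_of_sylow P fun u hu v hv h1 h2 => (key u hu h1).trans (key v hv h2).symm) ht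
    rcases hN.eq_bot_or_eq_top with h | h
    · refine hna ⟨⟨Char.comm_of_central_ne_one ht1 (Subgroup.mem_center_iff.2 fun g => ?_)⟩⟩
      have h1 := hNc g
      rw [h, Subgroup.mem_bot, mul_inv_eq_one, mul_inv_eq_iff_eq_mul] at h1
      exact h1.symm
    · rw [h, Subgroup.card_top, hG] at hodd
      exact absurd hodd (by decide)
  exact mulEquiv_gl hcard O e hCO hs hsO

/-- Simple groups of order 5616 are `PSL(3,3)`. -/
theorem mulEquiv_psl {G : Type u} [Group G] [Finite G] [IsSimpleGroup G] (hG : Nat.card G = 5616) :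
    Nonempty (G ≃* Matrix.ProjectiveSpecialLinearGroup (Fin 3) (ZMod 3)) := by
  haveI : Fact (Nat.Prime 3) := ⟨Nat.prime_three⟩
  obtain ⟨t, ht⟩ := exists_prime_orderOf_dvd_card' (G := G) 2 (hp := ⟨Nat.prime_two⟩) (by rw [hG]; norm_num)
  obtain ⟨e⟩ := centralizer_equiv hG ht
  obtain ⟨c, hc⟩ := exists_prime_orderOf_dvd_card' (G := G) 3 (by rw [hG]; norm_num)
  refine GL23.mulEquiv_psl_of_5616 ?_ ht e hG (ZMod 3) (ZMod.card 3)
  have hmem : c ∈ pResidual 2 G := Subgroup.subset_closure (show (orderOf c).Coprime 2 by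
    rw [hc]; decide)
  haveI : (pResidual 2 G).Normal := inferInstance
  refine (IsSimpleGroup.eq_bot_or_eq_top_of_normal (pResidual 2 G) inferInstance).resolve_left fun hb => ?_
  rw [hb, Subgroup.mem_bot] at hmem
  rw [hmem, orderOf_one] at hc
  norm_num at hc

end Cfsg.Agent.Invol.L33Ord
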