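import Cfsg.Agent.Lib.Invol.PumpUp

/-!
`p`-components of subgroups, in the ambient group: transport, centralizers modulo the core,
descending and pumping up.
-/

set_option autoImplicit false

namespace Cfsg.Agent.Invol

open scoped Pointwise commutatorElement
open Subgroup Cfsg.Agent.Grp

variable {p : ℕ}

section Equiv

variable {A B : Type*} [Group A] [Group B]

theorem pPrimeCore_map_equiv [Finite A] [Finite B] (e : A ≃* B) :
    (Cfsg.pPrimeCore p A).map e.toMonoidHom = Cfsg.pPrimeCore p B := by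
  refine le_antisymm (le_pPrimeCore (pPrimeCore_isNormal.map _ e.surjective) ?_) ?_
  · rw [Subgroup.card_map_of_injective e.injective]; exact pPrimeCore_coprime
  · intro z hz
    refine ⟨e.symm z, le_pPrimeCore (pPrimeCore_isNormal.map e.symm.toMonoidHom e.symm.surjective) ?_
      (Subgroup.mem_map_of_mem _ hz), e.apply_symm_apply z⟩
    rw [Subgroup.card_map_of_injective e.symm.injective]; exact pPrimeCore_coprime

theorem pComponent_map_equiv [Finite A] [Finite B] (e : A ≃* B) {K : Subgroup A}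
    (h : Cfsg.IsPComponent p K) : Cfsg.IsPComponent p (K.map e.toMonoidHom) := by
  obtain ⟨hs, hc, hmin⟩ := h
  let eq := QuotientGroup.congr _ _ e (pPrimeCore_map_equiv (p := p) e)
  have hmap : ∀ L : Subgroup A, (L.map e.toMonoidHom).map (QuotientGroup.mk' (Cfsg.pPrimeCore p B)) =
      (L.map (QuotientGroup.mk' (Cfsg.pPrimeCore p A))).map eq.toMonoidHom := by
    intro L
    rw [Subgroup.map_map, Subgroup.map_map]
    rfl
  refine ⟨hs.map e.surjective, ?_, fun H hH hle hm => ?_⟩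
  · rw [hmap]; exact IsComponent.map_iso eq hc
  · have hHe : (H.comap e.toMonoidHom).map e.toMonoidHom = H :=
      Subgroup.map_comap_eq_self_of_surjective e.surjective H
    have h1 : H.comap e.toMonoidHom ≤ K := by
      intro z hz
      obtain ⟨w, hw, hwz⟩ := hle hz
      rwa [e.injective hwz] at hw
    rw [← hHe, hmap, hmap] at hm
    rw [← hHe, hmin _ (hH.comap _) h1 (Subgroup.map_injective eq.injective hm)]

theorem pRes_map_injective {f : A →* B} (hf : Function.Injective f) (P : Subgroup A) :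
    (pRes p P).map f = pRes p (P.map f) := by
  refine le_antisymm (Subgroup.map_le_iff_le_comap.mpr ((Subgroup.closure_le _).mpr ?_))
    ((Subgroup.closure_le _).mpr ?_)
  · rintro z ⟨hz, hzp⟩
    refine mem_pRes (Subgroup.mem_map_of_mem f hz) ?_
    have := hzp.map f
    rwa [MonoidHom.map_zpowers] at this
  · rintro _ ⟨⟨z, hz, rfl⟩, hzp⟩
    refine Subgroup.mem_map_of_mem f (mem_pRes hz ?_)
    refine IsPGroup.of_equiv hzp ?_
    exact (MulEquiv.subgroupCongr (MonoidHom.map_zpowers f z).symm).trans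
      (Subgroup.equivMapOfInjective _ f hf).symm

end Equiv

variable {X : Type*} [Group X]

/-- The image of `K` in `H ⧸ O_{p'}(H)`. -/
abbrev bar (p : ℕ) (H K : Subgroup X) : Subgroup (↥H ⧸ Cfsg.pPrimeCore p ↥H) :=
  (K.subgroupOf H).map (QuotientGroup.mk' (Cfsg.pPrimeCore p ↥H))

/-- The image of an element of `H` in `H ⧸ O_{p'}(H)`. -/
abbrev toBar (p : ℕ) {H : Subgroup X} {g : X} (hg : g ∈ H) : ↥H ⧸ Cfsg.pPrimeCore p ↥H :=
  QuotientGroup.mk' (Cfsg.pPrimeCore p ↥H) ⟨g, hg⟩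

/-- The elements of `H` centralizing `K` modulo `O_{p'}(H)`. -/
def centMod (p : ℕ) (H K : Subgroup X) : Subgroup X :=
  (Cfsg.centralizerModCore p H K).map H.subtype

theorem centralizerOfPComponent_eq (x : X) (K : Subgroup X) :
    Cfsg.centralizerOfPComponent p x K = centMod p (Subgroup.centralizer ({x} : Set X)) K := rfl

theorem mem_centMod {H K : Subgroup X} {g : X} :
    g ∈ centMod p H K ↔ ∃ hg : g ∈ H, toBar p hg ∈ Subgroup.centralizer (bar p H K : Set _) :=
  ⟨by rintro ⟨w, hw, rfl⟩; exact ⟨w.2, hw⟩, fun ⟨hg, h⟩ => ⟨⟨g, hg⟩, h, rfl⟩⟩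

theorem centMod_le {H K : Subgroup X} : centMod p H K ≤ H := Subgroup.map_subtype_le _

theorem toBar_mem_bar {H K : Subgroup X} {g : X} (hg : g ∈ H) (h : g ∈ K) :
    toBar p hg ∈ bar p H K :=
  Subgroup.mem_map_of_mem _ (show (⟨g, hg⟩ : H) ∈ K.subgroupOf H from h)

theorem bar_mono {H K L : Subgroup X} (h : K ≤ L) : bar p H K ≤ bar p H L :=
  Subgroup.map_mono (fun _ hz => h hz)

theorem mem_centMod_iff {H K : Subgroup X} (hKH : K ≤ H) {g : X} :
    g ∈ centMod p H K ↔ g ∈ H ∧ ∀ k ∈ K, ⁅g, k⁆ ∈ (Cfsg.pPrimeCore p ↥H).map H.subtype := by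
  rw [mem_centMod]
  constructor
  · rintro ⟨hg, h⟩
    refine ⟨hg, fun k hk => ⟨⁅(⟨g, hg⟩ : H), (⟨k, hKH hk⟩ : H)⁆, ?_, rfl⟩⟩
    refine (QuotientGroup.eq_one_iff _).mp (show QuotientGroup.mk' _ _ = 1 from ?_)
    rw [map_commutatorElement, commutatorElement_eq_one_iff_mul_comm]
    exact (Subgroup.mem_centralizer_iff.mp h _ (toBar_mem_bar (hKH hk) hk)).symm
  · rintro ⟨hg, h⟩
    refine ⟨hg, Subgroup.mem_centralizer_iff.mpr ?_⟩
    rintro _ ⟨⟨k, hkH⟩, hk, rfl⟩
    obtain ⟨w, hw, e⟩ := h k hk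
    refine (commutatorElement_eq_one_iff_mul_comm.mp ?_).symm
    rw [← map_commutatorElement]
    refine (QuotientGroup.eq_one_iff _).mpr ?_
    rwa [show ⁅(⟨g, hg⟩ : H), ⟨k, hkH⟩⁆ = w from Subtype.ext e.symm]

theorem isPComponentOf_subgroupOf_iff [Finite X] {K H' H : Subgroup X} (hKH : K ≤ H') (hH : H' ≤ H) :
    Cfsg.IsPComponentOf p K H' ↔
      Cfsg.IsPComponent p ((K.subgroupOf H).subgroupOf (H'.subgroupOf H)) := by
  let e := Subgroup.subgroupOfEquivOfLe hH
  have he : ((K.subgroupOf H).subgroupOf (H'.subgroupOf H)).map e.toMonoidHom = K.subgroupOf H' := by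
    ext z
    constructor
    · rintro ⟨w, hw, rfl⟩; exact hw
    · intro hz; exact ⟨⟨⟨z, hH z.2⟩, z.2⟩, hz, rfl⟩
  constructor
  · intro h
    have := pComponent_map_equiv e.symm (he ▸ h.2)
    rwa [Subgroup.map_map, show e.symm.toMonoidHom.comp e.toMonoidHom = MonoidHom.id _ from
      MonoidHom.ext fun z => e.symm_apply_apply z, Subgroup.map_id] at this
  · intro h
    exact ⟨hKH, he ▸ pComponent_map_equiv e h⟩

theorem subgroupOf_centralizer {A H : Subgroup X} (hA : A ≤ H) :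
    (Subgroup.centralizer (A : Set X)).subgroupOf H =
      Subgroup.centralizer (A.subgroupOf H : Set H) := by
  ext z
  refine ⟨fun hz => Subgroup.mem_centralizer_iff.mpr fun r hr =>
    Subtype.ext (Subgroup.mem_centralizer_iff.mp hz _ hr), fun hz => ?_⟩
  exact Subgroup.mem_centralizer_iff.mpr fun r hr =>
    congrArg Subtype.val (Subgroup.mem_centralizer_iff.mp hz ⟨r, hA hr⟩ hr)

theorem subgroupOf_centralizer_singleton {H : Subgroup X} {a : X} (ha : a ∈ H) :
    (Subgroup.centralizer ({a} : Set X)).subgroupOf H =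
      Subgroup.centralizer ({⟨a, ha⟩} : Set H) := by
  ext z
  rw [Subgroup.mem_subgroupOf, Subgroup.mem_centralizer_singleton_iff,
    Subgroup.mem_centralizer_singleton_iff, Subtype.ext_iff]
  rfl

variable [Finite X] [Fact p.Prime]

theorem pRes_le_of_bar_le {H J P : Subgroup X} (hJ : Cfsg.IsPComponentOf p J H) (hPH : P ≤ H)
    (h : bar p H P ≤ bar p H J) : pRes p P ≤ J := by
  refine (Subgroup.closure_le _).mpr ?_
  rintro z ⟨hz, hzp⟩
  have h1 : (⟨z, hPH hz⟩ : H) ∈ J.subgroupOf H := by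
    rw [IsPComponent.eq_pRes hJ.2]
    exact mem_pRes (h (toBar_mem_bar (hPH hz) hz)) ((isPGroup_zpowers_coe ⟨z, hPH hz⟩).mpr hzp)
  exact h1

theorem pComponentOf_eq_pRes {H J : Subgroup X} (hJ : Cfsg.IsPComponentOf p J H) : pRes p J = J := by
  refine le_antisymm (pRes_le J) fun z hz => ?_
  have h1 : (⟨z, hJ.1 hz⟩ : H) ∈ pRes p (((J.subgroupOf H).map
      (QuotientGroup.mk' (Cfsg.pPrimeCore p H))).comap (QuotientGroup.mk' (Cfsg.pPrimeCore p H))) := by
    rw [← IsPComponent.eq_pRes hJ.2]; exact hz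
  have h2 : pRes p (((J.subgroupOf H).map
      (QuotientGroup.mk' (Cfsg.pPrimeCore p H))).comap (QuotientGroup.mk' (Cfsg.pPrimeCore p H))) ≤
      (pRes p J).comap H.subtype := by
    refine (Subgroup.closure_le _).mpr ?_
    rintro w ⟨hw, hwp⟩
    refine mem_pRes ?_ ((isPGroup_zpowers_coe w).mp hwp)
    have : w ∈ J.subgroupOf H := by
      rw [IsPComponent.eq_pRes hJ.2]; exact mem_pRes hw hwp
    exact this
  exact h2 h1

/-- Descending a `p`-component to the centralizer of a `p`-subgroup. -/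
theorem descend {H K A : Subgroup X} (hK : Cfsg.IsPComponentOf p K H) (hA : IsPGroup p A)
    (hAH : A ≤ centMod p H K) :
    Cfsg.IsPComponentOf p (pRes p (K ⊓ Subgroup.centralizer (A : Set X)))
        (H ⊓ Subgroup.centralizer (A : Set X)) ∧
      bar p H (pRes p (K ⊓ Subgroup.centralizer (A : Set X))) = bar p H K := by
  have hAH' : A ≤ H := hAH.trans centMod_le
  have hAK : (A.subgroupOf H).map (QuotientGroup.mk' (Cfsg.pPrimeCore p H)) ≤
      Subgroup.centralizer (bar p H K : Set _) := by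
    rintro _ ⟨⟨z, hz⟩, hzA, rfl⟩
    obtain ⟨_, h⟩ := mem_centMod.mp (hAH hzA)
    exact h
  obtain ⟨h1, h2⟩ := pComponent_centralizer hK.2 hA.comap_subtype hAK
  have hle : pRes p (K ⊓ Subgroup.centralizer (A : Set X)) ≤ H ⊓ Subgroup.centralizer (A : Set X) :=
    (pRes_le _).trans (inf_le_inf_right _ hK.1)
  have e : (pRes p (K ⊓ Subgroup.centralizer (A : Set X))).subgroupOf H =
      pRes p (K.subgroupOf H ⊓ Subgroup.centralizer (A.subgroupOf H : Set H)) := by
    rw [← subgroupOf_centralizer hAH']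
    refine Subgroup.map_injective H.subtype_injective ?_
    rw [pRes_map_injective H.subtype_injective, Subgroup.map_inf _ _ _ H.subtype_injective,
      Subgroup.subgroupOf_map_subtype, Subgroup.subgroupOf_map_subtype, Subgroup.subgroupOf_map_subtype,
      inf_eq_left.mpr hK.1, inf_eq_left.mpr (hle.trans inf_le_left)]
    congr 1
    rw [← inf_assoc, inf_right_comm, inf_eq_left.mpr hK.1]
  rw [bar, e]
  refine ⟨?_, h2⟩
  rw [isPComponentOf_subgroupOf_iff hle inf_le_left, e, Subgroup.inf_subgroupOf_left,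
    subgroupOf_centralizer hAH']
  exact h1

/-- A component of `H ⧸ O_{p'}(H)` lifts to a `p`-component of `H`. -/
theorem exists_lift {H : Subgroup X} {J : Subgroup (↥H ⧸ Cfsg.pPrimeCore p ↥H)}
    (hJ : Cfsg.IsComponent J) : ∃ K : Subgroup X, Cfsg.IsPComponentOf p K H ∧ bar p H K = J := by
  obtain ⟨h1, h2⟩ := lift_pRes_isPComponent hJ
  refine ⟨(pRes p (J.comap (QuotientGroup.mk' (Cfsg.pPrimeCore p ↥H)))).map H.subtype,
    ⟨Subgroup.map_subtype_le _, ?_⟩, ?_⟩
  · rwa [← Subgroup.comap_subtype, Subgroup.comap_map_eq_self_of_injective H.subtype_injective]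
  · rwa [bar, ← Subgroup.comap_subtype, Subgroup.comap_map_eq_self_of_injective H.subtype_injective]

theorem pComponentOf_bar_injective {H J J' : Subgroup X} (hJ : Cfsg.IsPComponentOf p J H)
    (hJ' : Cfsg.IsPComponentOf p J' H) (h : bar p H J = bar p H J') : J = J' := by
  have := congrArg (Subgroup.map H.subtype) (IsPComponent.eq_of_map_eq hJ.2 hJ'.2 h)
  rwa [Subgroup.subgroupOf_map_subtype, Subgroup.subgroupOf_map_subtype, inf_eq_left.mpr hJ.1,
    inf_eq_left.mpr hJ'.1] at this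

/-- Pumping up from `H ⊓ C(a)` to `H`. -/
theorem pump {H I : Subgroup X}
    (hS : ∀ K : Subgroup (↥H ⧸ Cfsg.pPrimeCore p ↥H), Cfsg.IsComponent K →
      Group.IsSolvable (Cfsg.Out (↥K ⧸ Subgroup.center ↥K)))
    {a : X} (haH : a ∈ H) (ha : a ^ p = 1)
    (hI : Cfsg.IsPComponentOf p I (H ⊓ Subgroup.centralizer ({a} : Set X))) :
    ∃ J : Subgroup (↥H ⧸ Cfsg.pPrimeCore p ↥H), Cfsg.IsComponent J ∧
      ¬ bar p H I ≤ Subgroup.centralizer (J : Set (↥H ⧸ Cfsg.pPrimeCore p ↥H)) ∧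
      (∀ J' : Subgroup (↥H ⧸ Cfsg.pPrimeCore p ↥H), Cfsg.IsComponent J' →
        ¬ bar p H I ≤ Subgroup.centralizer (J' : Set _) →
        ∃ i : ℕ, J' = MulAut.conj (toBar p haH ^ i) • J) ∧
      (toBar p haH ∈ Subgroup.normalizer (J : Set (↥H ⧸ Cfsg.pPrimeCore p ↥H)) → bar p H I ≤ J) ∧
      (toBar p haH ∉ Subgroup.normalizer (J : Set (↥H ⧸ Cfsg.pPrimeCore p ↥H)) →
        bar p H I = ⁅orbitProd (toBar p haH) J ⊓ Subgroup.centralizer {toBar p haH},
            orbitProd (toBar p haH) J ⊓ Subgroup.centralizer {toBar p haH}⁆ ∧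
        Nat.card (bar p H I) ≤ Nat.card J ∧ Cfsg.IsQuasisimple (bar p H I) ∧
        (∃ ψ : ↥J →* ↥H ⧸ Cfsg.pPrimeCore p ↥H, ψ.range = bar p H I ∧
          (∀ j : J, (j : ↥H ⧸ Cfsg.pPrimeCore p ↥H)⁻¹ * ψ j ∈
            Subgroup.centralizer (J : Set (↥H ⧸ Cfsg.pPrimeCore p ↥H))) ∧
          ∀ j : J, ψ j = ((j : ↥H ⧸ Cfsg.pPrimeCore p ↥H) * toBar p haH) ^ p) ∧
        ∀ e ∈ Subgroup.normalizer (J : Set (↥H ⧸ Cfsg.pPrimeCore p ↥H)),
          e ∈ Subgroup.centralizer (bar p H I : Set (↥H ⧸ Cfsg.pPrimeCore p ↥H)) →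
          e ∈ Subgroup.centralizer (J : Set (↥H ⧸ Cfsg.pPrimeCore p ↥H))) := by
  have hC : (H ⊓ Subgroup.centralizer ({a} : Set X)).subgroupOf H =
      Subgroup.centralizer ({⟨a, haH⟩} : Set H) := by
    rw [Subgroup.inf_subgroupOf_left, subgroupOf_centralizer_singleton haH]
  have h2 := (isPComponentOf_subgroupOf_iff hI.1 inf_le_left).mp hI
  rw [hC] at h2
  exact pump_up hS (a := ⟨a, haH⟩) (Subtype.ext ha)
    (fun z hz => hC ▸ (hI.1 hz : (z : X) ∈ H ⊓ Subgroup.centralizer ({a} : Set X))) h2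

/-- Elements of `H ⊓ C(a)` centralizing `I` modulo its core centralize a quasisimple image of `I`
in `H ⧸ O_{p'}(H)`. -/
theorem centMod_of_quasisimple {H I : Subgroup X} {a : X} (haH : a ∈ H)
    (hI : Cfsg.IsPComponentOf p I (H ⊓ Subgroup.centralizer ({a} : Set X)))
    (hq : Cfsg.IsQuasisimple (bar p H I)) {e : X}
    (he : e ∈ centMod p (H ⊓ Subgroup.centralizer ({a} : Set X)) I) : e ∈ centMod p H I := by
  set C := H ⊓ Subgroup.centralizer ({a} : Set X) with hCdef
  have hC : C.subgroupOf H = Subgroup.centralizer ({⟨a, haH⟩} : Set H) := by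
    rw [Subgroup.inf_subgroupOf_left, subgroupOf_centralizer_singleton haH]
  have h2 := (isPComponentOf_subgroupOf_iff hI.1 inf_le_left).mp hI
  rw [hC] at h2
  obtain ⟨heC, he'⟩ := (mem_centMod_iff hI.1).mp he
  rw [mem_centMod]
  refine ⟨heC.1, ?_⟩
  set D := Subgroup.centralizer ({⟨a, haH⟩} : Set H) with hD
  have hDC : ∀ z : H, z ∈ D ↔ (z : X) ∈ C := fun z => by rw [← hC]; rfl
  let e' : ↥C ≃* ↥D :=
    { toFun := fun z => ⟨⟨z, z.2.1⟩, (hDC _).mpr z.2⟩
      invFun := fun z => ⟨z, (hDC _).mp z.2⟩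
      left_inv := fun _ => rfl
      right_inv := fun _ => rfl
      map_mul' := fun _ _ => rfl }
  refine centralizes_image (fun z hz => (hDC z).mpr (hI.1 hz)) h2 hq ⟨⟨e, heC.1⟩, (hDC _).mpr heC⟩ ?_
  refine Subgroup.mem_centralizer_iff.mpr ?_
  rintro _ ⟨w, hw, rfl⟩
  refine (commutatorElement_eq_one_iff_mul_comm.mp ?_).symm
  rw [← map_commutatorElement]
  refine (QuotientGroup.eq_one_iff _).mpr ?_
  obtain ⟨u, hu, hu'⟩ := he' _ hw
  rw [← pPrimeCore_map_equiv e']
  exact ⟨u, hu, Subtype.ext (Subtype.ext hu')⟩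

omit [Fact p.Prime] in
theorem isPComponentOf_map (e : X ≃* X) {K H : Subgroup X} (hK : Cfsg.IsPComponentOf p K H) :
    Cfsg.IsPComponentOf p (K.map e.toMonoidHom) (H.map e.toMonoidHom) := by
  refine ⟨Subgroup.map_mono hK.1, ?_⟩
  let e' := e.subgroupMap H
  have : (K.map e.toMonoidHom).subgroupOf (H.map e.toMonoidHom) =
      (K.subgroupOf H).map e'.toMonoidHom := by
    ext ⟨z, hz⟩
    constructor
    · rintro ⟨w, hw, hwz⟩
      exact ⟨⟨w, hK.1 hw⟩, hw, Subtype.ext hwz⟩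
    · rintro ⟨w, hw, hwz⟩
      exact ⟨w, hw, congrArg Subtype.val hwz⟩
  rw [this]
  exact pComponent_map_equiv e' hK.2

omit [Fact p.Prime] in
theorem centMod_map (e : X ≃* X) {K H : Subgroup X} (hKH : K ≤ H) {g : X}
    (hg : g ∈ centMod p H K) : e g ∈ centMod p (H.map e.toMonoidHom) (K.map e.toMonoidHom) := by
  obtain ⟨hgH, h⟩ := (mem_centMod_iff hKH).mp hg
  rw [mem_centMod_iff (Subgroup.map_mono hKH)]
  refine ⟨Subgroup.mem_map_of_mem _ hgH, ?_⟩
  rintro _ ⟨k, hk, rfl⟩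
  obtain ⟨w, hw, hwe⟩ := h k hk
  let e' := e.subgroupMap H
  refine ⟨e' w, pPrimeCore_map_equiv (p := p) e' ▸ Subgroup.mem_map_of_mem _ hw, ?_⟩
  change e (w : X) = ⁅e g, e k⁆
  rw [← map_commutatorElement, ← hwe]
  rfl

/-- Elements centralizing a `p`-component modulo the core normalize it. -/
theorem centMod_le_normalizer {H K : Subgroup X} (hK : Cfsg.IsPComponentOf p K H) :
    centMod p H K ≤ Subgroup.normalizer (K : Set X) := by
  intro g hg
  obtain ⟨hgH, h⟩ := mem_centMod.mp hg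
  have h1 := mem_normalizer_of_image hK.2 (g := ⟨g, hgH⟩) (Subgroup.centralizer_le_normalizer _ h)
  rw [mem_normalizer_iff_smul] at h1 ⊢
  have h2 := congrArg (Subgroup.map H.subtype) h1
  rw [← map_conj_eq_smul, Subgroup.map_map] at h2
  rw [← map_conj_eq_smul]
  have h3 : H.subtype.comp (MulAut.conj (⟨g, hgH⟩ : H)).toMonoidHom =
      (MulAut.conj g).toMonoidHom.comp H.subtype := MonoidHom.ext fun _ => rfl
  rwa [h3, ← Subgroup.map_map, Subgroup.subgroupOf_map_subtype, inf_eq_left.mpr hK.1] at h2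

omit [Fact p.Prime] in
theorem core_inf_le {H' H : Subgroup X} (h : H' ≤ H) :
    (Cfsg.pPrimeCore p ↥H).map H.subtype ⊓ H' ≤ (Cfsg.pPrimeCore p ↥H').map H'.subtype := by
  intro z hz
  have hn : ((Cfsg.pPrimeCore p ↥H).comap (Subgroup.inclusion h)).Normal := pPrimeCore_isNormal.comap _
  refine ⟨⟨z, hz.2⟩, le_pPrimeCore hn ?_ ?_, rfl⟩
  · refine Nat.Coprime.coprime_dvd_left ?_ (pPrimeCore_coprime (p := p) (G := H))
    exact Subgroup.card_comap_dvd_of_injective _ _ (Subgroup.inclusion_injective h)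
  · obtain ⟨w, hw, hwz⟩ := hz.1
    show Subgroup.inclusion h ⟨z, hz.2⟩ ∈ Cfsg.pPrimeCore p ↥H
    rwa [show Subgroup.inclusion h ⟨z, hz.2⟩ = w from Subtype.ext hwz.symm]

omit [Finite X] [Fact p.Prime] in
theorem mem_core_iff {H : Subgroup X} {g : X} (hg : g ∈ H) :
    g ∈ (Cfsg.pPrimeCore p ↥H).map H.subtype ↔ toBar p hg = 1 := by
  rw [toBar, QuotientGroup.mk'_apply, QuotientGroup.eq_one_iff]
  exact ⟨fun ⟨w, hw, e⟩ => by rwa [show (⟨g, hg⟩ : H) = w from Subtype.ext e.symm],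
    fun h => ⟨⟨g, hg⟩, h, rfl⟩⟩

omit [Fact p.Prime] in
/-- The core of a subgroup whose image is a component lies in the core of the group. -/
theorem core_le_of_component {W H : Subgroup X} (hWH : W ≤ H)
    (hc : Cfsg.IsComponent (bar p H W)) :
    (Cfsg.pPrimeCore p ↥W).map W.subtype ≤ (Cfsg.pPrimeCore p ↥H).map H.subtype := by
  let φ : ↥W →* ↥(bar p H W) :=
    ((QuotientGroup.mk' (Cfsg.pPrimeCore p ↥H)).comp (Subgroup.inclusion hWH)).codRestrict _
      fun w => toBar_mem_bar (hWH w.2) w.2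
  have hφ : Function.Surjective φ := by
    rintro ⟨_, w, hw, rfl⟩
    exact ⟨⟨w, hw⟩, rfl⟩
  have hn : ((Cfsg.pPrimeCore p W).map φ).Normal := pPrimeCore_isNormal.map φ hφ
  have hb : ((Cfsg.pPrimeCore p W).map φ).map (bar p H W).subtype = ⊥ := by
    refine eq_bot_of_coprime_of_subnormal (hn.isSubnormal.trans' hc.1) ?_ (Subgroup.map_subtype_le _)
    exact Nat.Coprime.coprime_dvd_left ((Subgroup.card_map_dvd _ _).trans (Subgroup.card_map_dvd _ _))
      pPrimeCore_coprime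
  rintro _ ⟨w, hw, rfl⟩
  refine (mem_core_iff (hWH w.2)).mpr ?_
  exact Subgroup.mem_bot.mp (hb ▸ Subgroup.mem_map_of_mem (bar p H W).subtype
    (Subgroup.mem_map_of_mem φ hw))


end Cfsg.Agent.Invol
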