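import Cfsg.Prelude.Def_EvenTechniques
import Cfsg.Agent.Lib.Invol.PComponentOf
import Cfsg.Agent.Lib.Fus.CentralExt

/-!
Preparations for the balance theorem on non-quasisimple `p`-components: isomorphism invariance,
images and central lifts of `p`-components, inheritance of the hypothesis by sections.
-/

set_option autoImplicit false

namespace Cfsg.Agent.Invol

open scoped Pointwise commutatorElement
open Subgroup Cfsg.Agent.Grp

universe u v

variable {p : ℕ}

section Congr

variable {A : Type u} {B : Type v} [Group A] [Group B]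

theorem gfitting_map_le [Finite A] (e : A ≃* B) :
    (Cfsg.generalizedFittingSubgroup A).map e.toMonoidHom ≤ Cfsg.generalizedFittingSubgroup B := by
  rw [Cfsg.generalizedFittingSubgroup, Subgroup.map_sup]
  refine sup_le_sup (layer_map_le e) ?_
  have hn : ((Cfsg.fittingSubgroup A).map e.toMonoidHom).Normal :=
    fittingSubgroup_isNormal.map _ e.surjective
  have := fittingSubgroup_isNilpotent (G := A)
  exact le_fittingSubgroup hn (Group.nilpotent_of_mulEquiv
    (Subgroup.equivMapOfInjective _ e.toMonoidHom e.injective))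

theorem gfitting_map_eq [Finite A] [Finite B] (e : A ≃* B) :
    (Cfsg.generalizedFittingSubgroup A).map e.toMonoidHom = Cfsg.generalizedFittingSubgroup B := by
  refine le_antisymm (gfitting_map_le e) fun z hz => ?_
  exact ⟨e.symm z, gfitting_map_le e.symm ⟨z, hz, rfl⟩, e.apply_symm_apply z⟩

theorem hqgf_congr [Finite A] [Finite B] (e : A ≃* B)
    (h : Cfsg.HasQuasisimpleGeneralizedFitting A) : Cfsg.HasQuasisimpleGeneralizedFitting B :=
  (isQuasisimple_congr (((Cfsg.generalizedFittingSubgroup A).equivMapOfInjective e.toMonoidHom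
    e.injective).trans (MulEquiv.subgroupCongr (gfitting_map_eq e)))).mp h

theorem core_bot_congr [Finite A] [Finite B] (e : A ≃* B) (h : Cfsg.pPrimeCore p A = ⊥) :
    Cfsg.pPrimeCore p B = ⊥ := by
  rw [← pPrimeCore_map_equiv e, h, Subgroup.map_bot]

theorem hasBp_congr [Finite A] [Finite B] (e : A ≃* B) (h : Cfsg.HasBpProperty p A) :
    Cfsg.HasBpProperty p B := by
  refine ⟨core_bot_congr e h.1, fun x hx K hK => ?_⟩
  set a := e.symm x with ha
  have hc : (Subgroup.centralizer ({x} : Set B)).map e.symm.toMonoidHom =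
      Subgroup.centralizer ({a} : Set A) := by
    ext z
    rw [Subgroup.mem_map_equiv, Subgroup.mem_centralizer_singleton_iff,
      Subgroup.mem_centralizer_singleton_iff]
    constructor <;> intro h
    · have := congrArg e.symm h; simpa [ha] using this
    · apply e.symm.injective; simpa [ha] using h
  let f := (e.symm.subgroupMap (Subgroup.centralizer ({x} : Set B))).trans (MulEquiv.subgroupCongr hc)
  have := h.2 a (by rw [ha]; exact (orderOf_injective e.symm.toMonoidHom e.symm.injective x).trans hx) _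
    (pComponent_map_equiv f hK)
  exact (isQuasisimple_map_iff (f := f.toMonoidHom) f.injective K).mp this

theorem outSolvable_congr (e : A ≃* B) (h : Group.IsSolvable (Cfsg.Out A)) :
    Group.IsSolvable (Cfsg.Out B) := by
  let c : MulAut A ≃* MulAut B := MulAut.congr e
  let φ : Cfsg.Out A →* Cfsg.Out B := QuotientGroup.map (Cfsg.Inn A) (Cfsg.Inn B) c.toMonoidHom (by
    rintro _ ⟨g, rfl⟩
    exact ⟨e g, MulEquiv.ext fun z => by simp [c, MulAut.congr, MulAut.conj_apply]⟩)
  refine Group.isSolvable_of_surjective (f := φ) fun z => ?_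
  obtain ⟨w, rfl⟩ := QuotientGroup.mk'_surjective (Cfsg.Inn B) z
  exact ⟨QuotientGroup.mk (c.symm w), by simp [φ]⟩

/-- Central quotients of isomorphic groups. -/
noncomputable def centerQuotCongr (e : A ≃* B) : A ⧸ Subgroup.center A ≃* B ⧸ Subgroup.center B :=
  QuotientGroup.congr _ _ e (by
    ext z
    change z ∈ (Subgroup.center A).map e.toMonoidHom ↔ _
    rw [Subgroup.mem_map_equiv, Subgroup.mem_center_iff, Subgroup.mem_center_iff]
    constructor
    · intro h g
      have := congrArg e (h (e.symm g))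
      simpa using this
    · intro h g
      apply e.injective
      simpa using h (e g))

theorem schreier_congr [Finite A] [Finite B] (e : A ≃* B)
    (h : Group.IsSolvable (Cfsg.Out (↥(Cfsg.generalizedFittingSubgroup A) ⧸
      Subgroup.center ↥(Cfsg.generalizedFittingSubgroup A)))) :
    Group.IsSolvable (Cfsg.Out (↥(Cfsg.generalizedFittingSubgroup B) ⧸
      Subgroup.center ↥(Cfsg.generalizedFittingSubgroup B))) :=
  outSolvable_congr (centerQuotCongr (((Cfsg.generalizedFittingSubgroup A).equivMapOfInjective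
    e.toMonoidHom e.injective).trans (MulEquiv.subgroupCongr (gfitting_map_eq e)))) h

end Congr

/-- The hypothesis of the balance theorem on all sections. -/
structure BHyp (p : ℕ) (X : Type u) [Group X] : Prop where
  bp : ∀ (H : Subgroup X) (N : Subgroup ↥H) [N.Normal],
    Cfsg.HasQuasisimpleGeneralizedFitting (↥H ⧸ N) → Cfsg.pPrimeCore p (↥H ⧸ N) = ⊥ →
      Cfsg.HasBpProperty p (↥H ⧸ N)
  schreier : ∀ (H : Subgroup X) (N : Subgroup ↥H) [N.Normal],
    Cfsg.HasQuasisimpleGeneralizedFitting (↥H ⧸ N) → Cfsg.pPrimeCore p (↥H ⧸ N) = ⊥ →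
      Group.IsSolvable (Cfsg.Out (↥(Cfsg.generalizedFittingSubgroup (↥H ⧸ N)) ⧸
        Subgroup.center ↥(Cfsg.generalizedFittingSubgroup (↥H ⧸ N))))

variable {X : Type u} [Group X] [Finite X]

theorem BHyp.bp_section (h : BHyp p X) {S : Type v} [Group S] {H : Subgroup X} (φ : ↥H →* S)
    (hφ : Function.Surjective φ) (h1 : Cfsg.HasQuasisimpleGeneralizedFitting S)
    (h2 : Cfsg.pPrimeCore p S = ⊥) : Cfsg.HasBpProperty p S := by
  let e := QuotientGroup.quotientKerEquivOfSurjective φ hφ
  have : Finite S := Finite.of_surjective φ hφ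
  exact hasBp_congr e (h.bp H φ.ker (hqgf_congr e.symm h1) (core_bot_congr e.symm h2))

theorem BHyp.schreier_section (h : BHyp p X) {S : Type v} [Group S] {H : Subgroup X} (φ : ↥H →* S)
    (hφ : Function.Surjective φ) (h1 : Cfsg.HasQuasisimpleGeneralizedFitting S)
    (h2 : Cfsg.pPrimeCore p S = ⊥) :
    Group.IsSolvable (Cfsg.Out (↥(Cfsg.generalizedFittingSubgroup S) ⧸
      Subgroup.center ↥(Cfsg.generalizedFittingSubgroup S))) := by
  let e := QuotientGroup.quotientKerEquivOfSurjective φ hφ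
  have : Finite S := Finite.of_surjective φ hφ
  exact schreier_congr e (h.schreier H φ.ker (hqgf_congr e.symm h1) (core_bot_congr e.symm h2))

theorem BHyp.of_sections (h : BHyp p X) {Y : Type u} [Group Y]
    (hs : ∀ H : Subgroup Y, ∃ (H' : Subgroup X) (φ : ↥H' →* ↥H), Function.Surjective φ) :
    BHyp p Y := by
  constructor
  · intro H N _ h1 h2
    obtain ⟨H', φ, hφ⟩ := hs H
    exact h.bp_section ((QuotientGroup.mk' N).comp φ)
      ((QuotientGroup.mk'_surjective N).comp hφ) h1 h2
  · intro H N _ h1 h2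
    obtain ⟨H', φ, hφ⟩ := hs H
    exact h.schreier_section ((QuotientGroup.mk' N).comp φ)
      ((QuotientGroup.mk'_surjective N).comp hφ) h1 h2

theorem BHyp.subgroup (h : BHyp p X) (Y : Subgroup X) : BHyp p ↥Y :=
  h.of_sections fun H => ⟨H.map Y.subtype,
    (H.equivMapOfInjective Y.subtype Y.subtype_injective).symm.toMonoidHom,
    (H.equivMapOfInjective Y.subtype Y.subtype_injective).symm.surjective⟩

theorem BHyp.quotient (h : BHyp p X) (Z : Subgroup X) [Z.Normal] : BHyp p (X ⧸ Z) :=
  h.of_sections fun H => ⟨H.comap (QuotientGroup.mk' Z), (QuotientGroup.mk' Z).subgroupComap H,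
    (QuotientGroup.mk' Z).subgroupComap_surjective_of_surjective H (QuotientGroup.mk'_surjective Z)⟩

/-- The Schreier property of the components of the core-free quotient. -/
theorem BHyp.schreier_components (h : BHyp p X) [Fact p.Prime] :
    ∀ K : Subgroup (X ⧸ Cfsg.pPrimeCore p X), Cfsg.IsComponent K →
      Group.IsSolvable (Cfsg.Out (↥K ⧸ Subgroup.center ↥K)) := by
  intro K hK
  have htop : Cfsg.IsComponent (⊤ : Subgroup K) :=
    ⟨Subgroup.IsSubnormal.top, (isQuasisimple_congr Subgroup.topEquiv).mpr hK.2⟩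
  have hgf : Cfsg.generalizedFittingSubgroup K = ⊤ :=
    eq_top_iff.mpr ((IsComponent.le_layer htop).trans le_sup_left)
  let e : ↥(Cfsg.generalizedFittingSubgroup K) ≃* K :=
    (MulEquiv.subgroupCongr hgf).trans Subgroup.topEquiv
  refine outSolvable_congr (centerQuotCongr e) (h.schreier_section
    ((QuotientGroup.mk' (Cfsg.pPrimeCore p X)).subgroupComap K)
    ((QuotientGroup.mk' (Cfsg.pPrimeCore p X)).subgroupComap_surjective_of_surjective K
      (QuotientGroup.mk'_surjective _)) ((isQuasisimple_congr e).mpr hK.2) ?_)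
  refine (Subgroup.map_eq_bot_iff_of_injective _ K.subtype_injective).mp ?_
  refine eq_bot_of_coprime_of_subnormal (Kb := K) (pPrimeCore_isNormal.isSubnormal.trans' hK.1) ?_
    (Subgroup.map_subtype_le _)
  rw [Subgroup.card_map_of_injective K.subtype_injective]
  exact pPrimeCore_coprime

section Components

variable {A : Type u} [Group A] [Finite A] [Fact p.Prime]

theorem pRes_map {B : Type v} [Group B] (f : A →* B) (P : Subgroup A) :
    (pRes p P).map f ≤ pRes p (P.map f) := by
  refine Subgroup.map_le_iff_le_comap.mpr ((Subgroup.closure_le _).mpr ?_)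
  rintro z ⟨hz, hzp⟩
  refine mem_pRes (Subgroup.mem_map_of_mem f hz) ?_
  have := hzp.map f
  rwa [MonoidHom.map_zpowers] at this

theorem pComponent_pRes_eq {K : Subgroup A} (hK : Cfsg.IsPComponent p K) : pRes p K = K := by
  refine le_antisymm (pRes_le K) ?_
  conv_lhs => rw [IsPComponent.eq_pRes hK]
  refine (Subgroup.closure_le _).mpr fun z hz => mem_pRes ?_ hz.2
  rw [IsPComponent.eq_pRes hK]
  exact mem_pRes hz.1 hz.2

/-- A group generated by `p`-elements whose image is trivial modulo a `p'`-group is trivial. -/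
theorem pRes_eq_bot_of_coprime {B : Type v} [Group B] [Finite B] {W : Subgroup B} (hres : pRes p W = W)
    (hc : (Nat.card W).Coprime p) : W = ⊥ := by
  rw [← hres, eq_bot_iff]
  refine (Subgroup.closure_le _).mpr fun z hz => ?_
  obtain ⟨k, hk⟩ := IsPGroup.iff_card.mp hz.2
  have h1 : Nat.card (Subgroup.zpowers z) ∣ Nat.card W :=
    Subgroup.card_dvd_of_le (Subgroup.zpowers_le.mpr hz.1)
  have h2 : Nat.card (Subgroup.zpowers z) = 1 := by
    have := (Nat.Coprime.coprime_dvd_left h1 hc)
    rw [hk] at this ⊢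
    rcases Nat.eq_zero_or_pos k with rfl | hk0
    · rfl
    · exact absurd ((Nat.coprime_pow_left_iff hk0 _ _).mp this)
        (fun h => (Fact.out : p.Prime).ne_one ((Nat.coprime_self p).mp h))
  exact Subgroup.mem_bot.mpr (Subgroup.zpowers_eq_bot.mp (Subgroup.card_eq_one.mp h2))

theorem isPComponent_of {K : Subgroup A} (hs : K.IsSubnormal) (hres : pRes p K = K)
    (hq : Cfsg.IsQuasisimple (↥K ⧸ Cfsg.pPrimeCore p ↥K)) : Cfsg.IsPComponent p K := by
  let q := QuotientGroup.mk' (Cfsg.pPrimeCore p A)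
  let φ : K →* K.map q := MonoidHom.codRestrict (q.comp K.subtype) _ fun k => ⟨k, k.2, rfl⟩
  have hφ : Function.Surjective φ := fun ⟨z, k, hk, e⟩ => ⟨⟨k, hk⟩, Subtype.ext e⟩
  have hker : φ.ker = Cfsg.pPrimeCore p K := by
    refine Subgroup.map_injective K.subtype_injective ?_
    rw [pPrimeCore_component_map hs]
    ext x
    constructor
    · rintro ⟨k, hk, rfl⟩
      exact ⟨k.2, (QuotientGroup.eq_one_iff (k : A)).mp (congrArg Subtype.val hk)⟩
    · rintro ⟨hx, hxO⟩
      exact ⟨⟨x, hx⟩, Subtype.ext ((QuotientGroup.eq_one_iff x).mpr hxO), rfl⟩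
  have hc : Cfsg.IsComponent (K.map q) := ⟨hs.map (QuotientGroup.mk'_surjective _),
    (isQuasisimple_congr ((QuotientGroup.quotientMulEquivOfEq hker.symm).trans
      (QuotientGroup.quotientKerEquivOfSurjective φ hφ))).mp hq⟩
  obtain ⟨hmap, hR⟩ := lift_pRes_isPComponent hc
  have hle : K ≤ pRes p ((K.map q).comap q) := by
    conv_lhs => rw [← hres]
    exact pRes_mono (Subgroup.le_comap_map _ _)
  have e := hR.2.2 K hs hle hmap.symm
  exact e.symm ▸ hR

/-- Images of `p`-components. -/
theorem pComponent_map {B : Type v} [Group B] [Finite B] (f : A →* B) {K : Subgroup A}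
    (hres : pRes p K = K) (hq : Cfsg.IsQuasisimple (↥K ⧸ Cfsg.pPrimeCore p ↥K))
    (hs : (K.map f).IsSubnormal) (hne : ¬ K ≤ f.ker) : Cfsg.IsPComponent p (K.map f) := by
  have hres' : pRes p (K.map f) = K.map f := by
    refine le_antisymm (pRes_le _) ?_
    conv_lhs => rw [← hres]
    exact pRes_map f K
  refine isPComponent_of hs hres' ?_
  let fK : ↥K →* ↥(K.map f) := f.subgroupMap K
  have hfK : Function.Surjective fK := f.subgroupMap_surjective K
  have hn : ((Cfsg.pPrimeCore p K).map fK).Normal := pPrimeCore_isNormal.map fK hfK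
  have hle : Cfsg.pPrimeCore p K ≤ (Cfsg.pPrimeCore p ↥(K.map f)).comap fK :=
    Subgroup.map_le_iff_le_comap.mp (le_pPrimeCore hn
      (Nat.Coprime.coprime_dvd_left (Subgroup.card_map_dvd _ _) pPrimeCore_coprime))
  let φ := QuotientGroup.map (Cfsg.pPrimeCore p K) (Cfsg.pPrimeCore p ↥(K.map f)) fK hle
  have hφ : Function.Surjective φ := fun z => by
    obtain ⟨w, rfl⟩ := QuotientGroup.mk'_surjective (Cfsg.pPrimeCore p ↥(K.map f)) z
    obtain ⟨k, rfl⟩ := hfK w
    exact ⟨QuotientGroup.mk k, rfl⟩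
  have : Nontrivial (↥(K.map f) ⧸ Cfsg.pPrimeCore p ↥(K.map f)) := by
    rw [← not_subsingleton_iff_nontrivial, QuotientGroup.subsingleton_iff]
    intro htop
    apply hne
    have hc : (Nat.card (K.map f)).Coprime p := by
      rw [← Subgroup.card_top, ← htop]; exact pPrimeCore_coprime
    exact (Subgroup.map_eq_bot_iff K).mp (pRes_eq_bot_of_coprime hres' hc)
  exact IsQuasisimple.of_surjective hq hφ

omit [Finite A] [Fact p.Prime] in
/-- A perfect group with quasisimple image modulo central elements is quasisimple. -/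
theorem isQuasisimple_of_map {B : Type v} [Group B] (f : A →* B) {K : Subgroup A}
    (hp : ⁅K, K⁆ = K) (hker : ∀ k ∈ K, f k = 1 → ∀ j ∈ K, j * k = k * j)
    (hq : Cfsg.IsQuasisimple ↥(K.map f)) : Cfsg.IsQuasisimple ↥K := by
  refine Fus.isQuasisimple_of_central (Subgroup.isPerfect_iff.mpr hp) (f.subgroupMap K).ker ?_
    ((isQuasisimple_congr (QuotientGroup.quotientKerEquivOfSurjective _
      (f.subgroupMap_surjective K))).mpr hq)
  intro k hk
  exact Subgroup.mem_center_iff.mpr fun j =>
    Subtype.ext (hker k k.2 (congrArg Subtype.val hk) j j.2)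

omit [Fact p.Prime] in
theorem eq_of_perfect_subnormal {P K : Subgroup A} (hP : Cfsg.IsQuasisimple ↥P) (hKP : K ≤ P)
    (hp : ⁅K, K⁆ = K) (hne : K ≠ ⊥) (hs : (K.subgroupOf P).IsSubnormal) : K = P := by
  rcases IsQuasisimple.eq_top_or_le_center_of_subnormal hP hs with h | h
  · exact le_antisymm hKP (Subgroup.subgroupOf_eq_top.mp h)
  · refine absurd (eq_bot_of_perfect_of_comm hp fun a ha => ?_) hne
    exact Subgroup.mem_centralizer_iff.mpr fun b hb =>
      congrArg Subtype.val (Subgroup.mem_center_iff.mp (h (show (⟨a, hKP ha⟩ : P) ∈ K.subgroupOf P from ha))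
        ⟨b, hKP hb⟩)

theorem pComponent_ne_bot {K : Subgroup A} (hK : Cfsg.IsPComponent p K) : K ≠ ⊥ := by
  intro h
  exact IsComponent.ne_bot hK.2.1 (by rw [h, Subgroup.map_bot])

/-- Lifting a `p`-component through a central extension by a `p`-group. -/
theorem pComponent_lift_central {B : Type v} [Group B] [Finite B] (f : A →* B)
    (hf : Function.Surjective f) (hc : f.ker ≤ Subgroup.center A) (hp : IsPGroup p f.ker)
    {Lb : Subgroup B} (hL : Cfsg.IsPComponent p Lb) :
    ∃ L : Subgroup A, Cfsg.IsPComponent p L ∧ L.map f = Lb := by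
  set P := Lb.comap f with hP
  set L := ⁅P, P⁆ with hLdef
  have hLP : L ≤ P := Subgroup.commutator_le_self P
  have hmap : L.map f = Lb := by
    rw [hLdef, Subgroup.map_commutator, hP, Subgroup.map_comap_eq_self_of_surjective hf,
      IsPComponent.perfect hL]
  have hPle : P ≤ L ⊔ f.ker := by
    rw [hP, ← hmap, Subgroup.comap_map_eq]
  have hperf : ⁅L, L⁆ = L := by
    refine le_antisymm (Subgroup.commutator_le_self L) ?_
    conv_lhs => rw [hLdef]
    refine Subgroup.commutator_le.mpr fun a ha b hb => ?_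
    obtain ⟨l, hl, z, hz, rfl⟩ := Subgroup.mem_sup_of_normal_right.mp (hPle ha)
    obtain ⟨m, hm, w, hw, rfl⟩ := Subgroup.mem_sup_of_normal_right.mp (hPle hb)
    have hz' := fun g => Subgroup.mem_center_iff.mp (hc hz) g
    have hw' := fun g => Subgroup.mem_center_iff.mp (hc hw) g
    have e : ⁅l * z, m * w⁆ = ⁅l, m⁆ := by
      rw [commutatorElement_def, commutatorElement_def, mul_inv_rev, mul_inv_rev]
      calc l * z * (m * w) * (z⁻¹ * l⁻¹) * (w⁻¹ * m⁻¹)
          = l * (z * (m * w)) * z⁻¹ * (l⁻¹ * w⁻¹) * m⁻¹ := by group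
        _ = l * ((m * w) * z) * z⁻¹ * (l⁻¹ * w⁻¹) * m⁻¹ := by rw [← hz']
        _ = l * m * (w * l⁻¹) * w⁻¹ * m⁻¹ := by group
        _ = l * m * (l⁻¹ * w) * w⁻¹ * m⁻¹ := by rw [← hw']
        _ = _ := by group
    rw [e]
    exact Subgroup.commutator_mem_commutator hl hm
  have hs : L.IsSubnormal := IsSubnormal.step _ P hLP (hL.1.comap f)
    ((Subgroup.normal_subgroupOf_iff_le_normalizer hLP).mpr (left_le_normalizer_commutator P P))
  have hres : pRes p L = L := by
    refine le_antisymm (pRes_le L) fun l hl => ?_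
    have h1 : Lb ≤ (pRes p L).map f := by
      conv_lhs => rw [← pComponent_pRes_eq hL]
      refine (Subgroup.closure_le _).mpr ?_
      rintro z ⟨hz, hzp⟩
      rw [← hmap] at hz
      obtain ⟨y, hy, rfl⟩ := hz
      obtain ⟨a, ha, hap, hfa⟩ := exists_pElement_lift f hzp
      exact ⟨a, mem_pRes (Subgroup.zpowers_le.mpr hy ha) hap, hfa⟩
    obtain ⟨r, hr, hrl⟩ := h1 (hmap ▸ Subgroup.mem_map_of_mem f hl : f l ∈ Lb)
    have hk : r⁻¹ * l ∈ f.ker := by rw [MonoidHom.mem_ker, map_mul, map_inv, hrl, inv_mul_cancel]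
    have h2 : r⁻¹ * l ∈ pRes p L := mem_pRes (L.mul_mem (L.inv_mem (pRes_le L hr)) hl)
      (hp.to_le (Subgroup.zpowers_le.mpr hk))
    simpa using (pRes p L).mul_mem hr h2
  refine ⟨L, isPComponent_of hs hres ?_, hmap⟩
  -- the quotient by the core
  let q' := QuotientGroup.mk' (Cfsg.pPrimeCore p ↥Lb)
  let g : ↥L →* ↥Lb := (MulEquiv.subgroupCongr hmap).toMonoidHom.comp (f.subgroupMap L)
  have hg : Function.Surjective g :=
    (MulEquiv.subgroupCongr hmap).surjective.comp (f.subgroupMap_surjective L)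
  let φ := q'.comp g
  have hφ : Function.Surjective φ := (QuotientGroup.mk'_surjective _).comp hg
  set K0 := φ.ker with hK0
  set Z0 := g.ker.subgroupOf K0 with hZ0
  have hgker : ∀ z ∈ g.ker, (z : A) ∈ f.ker := fun z hz => congrArg Subtype.val hz
  have hgc : g.ker ≤ Subgroup.center L := fun z hz => Subgroup.mem_center_iff.mpr fun l =>
    Subtype.ext (Subgroup.mem_center_iff.mp (hc (hgker z hz)) l)
  have hgp : IsPGroup p g.ker :=
    IsPGroup.of_injective hp ((L.subtype.comp g.ker.subtype).codRestrict f.ker fun z => hgker z z.2)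
      fun a b hab => Subtype.ext (Subtype.ext (congrArg Subtype.val hab :))
  have hidx : (Nat.card Z0).Coprime Z0.index := by
    obtain ⟨k, hk⟩ := IsPGroup.iff_card.mp (hgp.comap_subtype (K := K0))
    rw [show Z0 = g.ker.comap K0.subtype from rfl, hk]
    refine Nat.Coprime.pow_left k (Nat.Coprime.symm ?_)
    let gK : ↥K0 →* ↥(Cfsg.pPrimeCore p ↥Lb) := (g.comp K0.subtype).codRestrict _ fun z =>
      (QuotientGroup.eq_one_iff _).mp z.2
    have hker' : g.ker.comap K0.subtype = gK.ker := by
      ext z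
      exact ⟨fun h => Subtype.ext h, fun h => congrArg Subtype.val h⟩
    rw [hker', Subgroup.index_ker]
    exact Nat.Coprime.coprime_dvd_left (Subgroup.card_subgroup_dvd_card _) pPrimeCore_coprime
  obtain ⟨C, hC⟩ := Subgroup.exists_right_complement'_of_coprime hidx
  have hZc : Z0 ≤ Subgroup.center K0 := fun z hz => Subgroup.mem_center_iff.mpr fun l =>
    Subtype.ext (Subgroup.mem_center_iff.mp (hgc hz) l)
  have hCn : C.Normal := ⟨fun c hc' k => by
    obtain ⟨z, hz, d, hd, rfl⟩ := Subgroup.mem_sup_of_normal_left.mp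
      (show k ∈ Z0 ⊔ C by rw [hC.sup_eq_top]; trivial)
    rw [show z * d * c * (z * d)⁻¹ = z * (d * c * d⁻¹) * z⁻¹ by group,
      ← Subgroup.mem_center_iff.mp (hZc hz), mul_inv_cancel_right]
    exact C.mul_mem (C.mul_mem hd hc') (C.inv_mem hd)⟩
  have hCcore : C.map K0.subtype ≤ Cfsg.pPrimeCore p ↥L := by
    refine le_pPrimeCore_of_isSubnormal (hCn.isSubnormal.trans' (MonoidHom.normal_ker φ).isSubnormal) ?_
    rw [Subgroup.card_map_of_injective K0.subtype_injective]
    refine Nat.Coprime.symm (((Fact.out : p.Prime).coprime_iff_not_dvd).mpr fun hd => ?_)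
    obtain ⟨c, hc'⟩ := exists_prime_orderOf_dvd_card' p hd
    have h1 : φ ((c : K0) : L) = 1 := (c : K0).2
    have h2 : orderOf (g ((c : K0) : L)) ∣ p := orderOf_dvd_of_pow_eq_one (by
      rw [← map_pow, ← SubmonoidClass.coe_pow, ← SubmonoidClass.coe_pow,
        show c ^ p = 1 from hc' ▸ pow_orderOf_eq_one c]
      exact map_one g)
    have h3 : orderOf (g ((c : K0) : L)) ∣ Nat.card (Cfsg.pPrimeCore p ↥Lb) :=
      Subgroup.orderOf_dvd_natCard _ ((QuotientGroup.eq_one_iff _).mp h1)
    have h4 : g ((c : K0) : L) = 1 := orderOf_eq_one_iff.mp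
      (Nat.eq_one_of_dvd_coprimes pPrimeCore_coprime h3 h2)
    have h5 : (c : K0) ∈ Z0 ⊓ C := ⟨h4, c.2⟩
    rw [disjoint_iff.mp hC.disjoint, Subgroup.mem_bot] at h5
    exact (Fact.out : p.Prime).ne_one (by rw [← hc', show c = 1 from Subtype.ext h5, orderOf_one])
  have hcle : Cfsg.pPrimeCore p ↥L ≤ K0 := by
    have := Subgroup.map_le_iff_le_comap.mp (le_pPrimeCore (p := p)
      ((pPrimeCore_isNormal (p := p) (G := L)).map g hg)
      (Nat.Coprime.coprime_dvd_left (Subgroup.card_map_dvd _ _) pPrimeCore_coprime))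
    intro z hz
    exact (QuotientGroup.eq_one_iff _).mpr (this hz)
  let φ' := QuotientGroup.lift (Cfsg.pPrimeCore p ↥L) φ hcle
  have hφ' : Function.Surjective φ' := fun z => by
    obtain ⟨l, rfl⟩ := hφ z
    exact ⟨QuotientGroup.mk l, rfl⟩
  have : Group.IsPerfect ↥L := Subgroup.isPerfect_iff.mpr hperf
  refine Fus.isQuasisimple_of_central
    (Group.IsPerfect.ofSurjective (QuotientGroup.mk'_surjective (Cfsg.pPrimeCore p ↥L))) φ'.ker ?_
    ((isQuasisimple_congr (QuotientGroup.quotientKerEquivOfSurjective φ' hφ')).mpr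
      (IsPComponent.quotient_quasisimple hL))
  intro z hz
  obtain ⟨l, rfl⟩ := QuotientGroup.mk'_surjective (Cfsg.pPrimeCore p ↥L) z
  obtain ⟨a, ha, b, hb, hab⟩ := Subgroup.mem_sup_of_normal_left.mp
    (show (⟨l, hz⟩ : K0) ∈ Z0 ⊔ C by rw [hC.sup_eq_top]; trivial)
  have hb1 : QuotientGroup.mk' (Cfsg.pPrimeCore p ↥L) (b : L) = 1 :=
    (QuotientGroup.eq_one_iff _).mpr (hCcore ⟨b, hb, rfl⟩)
  have hl : l = (a : L) * (b : L) := congrArg Subtype.val hab.symm
  rw [hl, map_mul, hb1, mul_one, Subgroup.mem_center_iff]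
  intro w
  obtain ⟨w, rfl⟩ := QuotientGroup.mk'_surjective (Cfsg.pPrimeCore p ↥L) w
  rw [← map_mul, ← map_mul]
  exact congrArg _ (Subgroup.mem_center_iff.mp (hgc ha) w)

end Components

end Cfsg.Agent.Invol
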