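import Cfsg.Agent.Lib.Invol.ZJFunctor

/-!
Consequences of the `ZJ`-theorem: the factorization, and locals inside the normalizer.
-/

set_option autoImplicit false
set_option linter.style.haveILetI false
set_option linter.unusedSectionVars false

open scoped Pointwise

namespace Cfsg.Agent.Invol

open Subgroup Fus

universe u

variable {G : Type u} [Group G] [Finite G] {p : ℕ} [hp : Fact p.Prime]
  {W : ∀ (G : Type u) [Group G], Subgroup G → Subgroup G}

/-- `W(P)` is normal modulo `O_{p'}`, and `G = O_{p'} N(W(P))`. -/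
theorem zj_factorization (hp2 : p ≠ 2) (hW : IsZJFunctor p W) [(pPrimeCore p G).Normal]
    (hc : Subgroup.centralizer (pCore p (G ⧸ pPrimeCore p G) : Set (G ⧸ pPrimeCore p G)) ≤
      pCore p (G ⧸ pPrimeCore p G))
    (hst : ∀ (V : Subgroup (G ⧸ pPrimeCore p G)) [V.Normal], IsPGroup p V → IsPStableOn p V)
    (P : Sylow p G) :
    ((W G P).map (QuotientGroup.mk' (pPrimeCore p G))).Normal ∧
    pPrimeCore p G ⊔ Subgroup.normalizer (W G P : Set G) = ⊤ := by
  set f := QuotientGroup.mk' (pPrimeCore p G) with hf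
  have hfs : Function.Surjective f := QuotientGroup.mk'_surjective _
  have hinj : ∀ x ∈ (P : Subgroup G), f x = 1 → x = 1 := fun x hx hfx =>
    eq_one_of_coprime_of_mem P.isPGroup' hx (Grp.pPrimeCore_coprime.coprime_dvd_left
      ((pPrimeCore p G).orderOf_dvd_natCard ((QuotientGroup.eq_one_iff x).mp hfx)))
  have hn : ((W G P).map f).Normal := by
    rw [hW.map f _ hinj]
    exact hW.normal hp2 hc hst (P.mapSurjective hfs) ⟨le_rfl, fun _ _ _ h => h⟩
  refine ⟨hn, ?_⟩
  have h1 : (Subgroup.normalizer (W G P : Set G)).map f = ⊤ := by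
    refine top_le_iff.1 (le_trans ?_ (normalizer_map_le_of_coprime f hfs
      (by rw [hf, QuotientGroup.ker_mk']; exact Grp.pPrimeCore_coprime)
      (P.isPGroup'.to_le (hW.le _))))
    rw [Subgroup.normalizer_eq_top_iff.2 hn]
  have h2 : ((Subgroup.normalizer (W G P : Set G)).map f).comap f = ⊤ := by
    rw [h1, Subgroup.comap_top]
  rw [Subgroup.comap_map_eq, hf, QuotientGroup.ker_mk'] at h2
  rw [sup_comm]
  exact h2

/-- If `W` of a Sylow subgroup of every local is normal in it, then all locals of `P` lie in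
`N(W(P))`. -/
theorem zj_normalizer_le_of_local (hW : IsZJFunctor p W)
    (hloc : ∀ U : Subgroup G, IsPGroup p U → U ≠ ⊥ → ∀ T : Subgroup G,
      Grp.IsSylowIn p T (Subgroup.normalizer (U : Set G)) →
      Subgroup.normalizer (U : Set G) ≤ Subgroup.normalizer (W G T : Set G))
    (P : Sylow p G) {U : Subgroup G} (hUP : U ≤ (P : Subgroup G)) (hU1 : U ≠ ⊥) :
    Subgroup.normalizer (U : Set G) ≤ Subgroup.normalizer (W G P : Set G) := by
  let X : Sylow p G → Subgroup G := fun P' => Subgroup.normalizer (W G P' : Set G)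
  have hXconj : ∀ (g : G) (P' : Sylow p G),
      X (g • P') = (X P').map (MulAut.conj g).toMonoidHom := by
    intro g P'
    simp only [X]
    rw [Subgroup.map_equiv_normalizer_eq (W G P') (MulAut.conj g)]
    change _ = Subgroup.normalizer ((W G P').map (MulAut.conj g).toMonoidHom : Set G)
    rw [hW.map (MulAut.conj g).toMonoidHom P'
      (fun x _ hx => (MulAut.conj g).injective (hx.trans (map_one _).symm))]
    rfl
  have hsylT : ∀ {V : Subgroup G}, IsPGroup p V → ∀ {T : Subgroup G},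
      Grp.IsSylowIn p T (Subgroup.normalizer (V : Set G)) → V ≤ T := by
    intro V hV T hT
    obtain ⟨S, hS⟩ := Grp.isSylowIn_iff.mp hT
    haveI hn' : (V.subgroupOf (Subgroup.normalizer (V : Set G))).Normal :=
      Subgroup.normal_in_normalizer
    have h1 := (show IsPGroup p (V.subgroupOf (Subgroup.normalizer (V : Set G))) from
      hV.comap_subtype).le_sylow_of_normal S
    intro x hx
    rw [← hS]
    exact ⟨⟨x, Subgroup.le_normalizer hx⟩, h1 hx, rfl⟩
  have key : ∀ k : ℕ,
      (∀ P₁ P₂ : Sylow p G, ((P₁ : Subgroup G) ⊓ P₂ : Subgroup G) ≠ ⊥ →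
        Nat.card (P₁ : Subgroup G) - Nat.card ↥((P₁ : Subgroup G) ⊓ P₂) = k → X P₁ = X P₂) ∧
      (∀ (V T : Subgroup G) (P₃ : Sylow p G), IsPGroup p V → V ≠ ⊥ → T ≤ (P₃ : Subgroup G) →
        Grp.IsSylowIn p T (Subgroup.normalizer (V : Set G)) →
        Nat.card (P₃ : Subgroup G) - Nat.card T = k →
        Subgroup.normalizer (V : Set G) ≤ X P₃) := by
    intro k
    induction k using Nat.strong_induction_on with
    | _ k ih =>
    have hXeq : ∀ P₁ P₂ : Sylow p G, ∀ R : Subgroup G, R ≤ (P₁ : Subgroup G) →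
        R ≤ (P₂ : Subgroup G) → R ≠ ⊥ →
        Nat.card (P₁ : Subgroup G) - Nat.card R < k → X P₁ = X P₂ := by
      intro P₁ P₂ R h1 h2 hne hlt
      refine (ih _ ?_).1 P₁ P₂ (fun h => hne (le_bot_iff.1 (h ▸ le_inf h1 h2))) rfl
      have := Subgroup.card_le_of_le (le_inf h1 h2)
      omega
    refine ⟨fun P₁ P₂ hne hk => ?_, fun V T P₃ hV hV1 hTP hT hk => ?_⟩
    · set R := (P₁ : Subgroup G) ⊓ P₂ with hR
      rcases (inf_le_left : R ≤ (P₁ : Subgroup G)).eq_or_lt with he | hlt
      · have h12 : (P₁ : Subgroup G) ≤ P₂ := he ▸ inf_le_right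
        rw [Sylow.ext (P₁.is_maximal' P₂.isPGroup' h12).symm]
      have hlt2 : R < (P₂ : Subgroup G) := by
        refine lt_of_le_of_ne inf_le_right fun e => hlt.ne (le_antisymm inf_le_left ?_)
        have h21 : (P₂ : Subgroup G) ≤ P₁ := e ▸ inf_le_left
        exact le_inf le_rfl (P₂.is_maximal' P₁.isPGroup' h21).le
      have hc12 : Nat.card (P₂ : Subgroup G) = Nat.card (P₁ : Subgroup G) := by
        rw [P₁.card_eq_multiplicity, P₂.card_eq_multiplicity]
      set N := Subgroup.normalizer (R : Set G) with hN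
      set T₁ := (P₁ : Subgroup G) ⊓ N with hT₁
      set T₂ := (P₂ : Subgroup G) ⊓ N with hT₂
      have hc1 : Nat.card R < Nat.card T₁ := Fus.card_lt_of_lt (Transfer.lt_inf_normalizer P₁ hlt)
      have hc2 : Nat.card R < Nat.card T₂ := Fus.card_lt_of_lt (Transfer.lt_inf_normalizer P₂ hlt2)
      obtain ⟨S, hS⟩ := (show IsPGroup p (T₁.subgroupOf N) from
        (P₁.isPGroup'.to_le inf_le_left).comap_subtype).exists_le_sylow
      set T := (S : Subgroup N).map N.subtype with hTdef
      have hT₁T : T₁ ≤ T := fun x hx => ⟨⟨x, hx.2⟩, hS hx, rfl⟩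
      have hTs : Grp.IsSylowIn p T N := Grp.isSylowIn_iff.mpr ⟨S, rfl⟩
      obtain ⟨P₃, hP₃⟩ := hTs.2.1.exists_le_sylow
      obtain ⟨c, hc, hcT⟩ := exists_conj_into (Q := T₂) hTs inf_le_right
        (P₂.isPGroup'.to_le inf_le_left)
      have hcard3 := Subgroup.card_le_of_le hP₃
      have hTc := Subgroup.card_le_of_le hT₁T
      have hc13 : Nat.card (P₃ : Subgroup G) = Nat.card (P₁ : Subgroup G) := by
        rw [P₁.card_eq_multiplicity, P₃.card_eq_multiplicity]
      have hNX : N ≤ X P₃ := (ih _ (by omega)).2 R T P₃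
        (P₁.isPGroup'.to_le inf_le_left) hne hP₃ hTs rfl
      have hne1 : T₁ ≠ ⊥ := fun h => by
        rw [h, Subgroup.card_bot] at hc1
        exact absurd hc1 (Nat.not_lt.mpr Nat.card_pos)
      have hne2 : T₂ ≠ ⊥ := fun h => by
        rw [h, Subgroup.card_bot] at hc2
        exact absurd hc2 (Nat.not_lt.mpr Nat.card_pos)
      have e1 : X P₁ = X P₃ := hXeq P₁ P₃ T₁ inf_le_left (hT₁T.trans hP₃) hne1 (by omega)
      have hT₂P : T₂ ≤ ((c⁻¹ • P₃ : Sylow p G) : Subgroup G) := by
        intro x hx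
        rw [Sylow.coe_subgroup_smul, ← Grp.map_conj_eq_smul]
        refine ⟨c * x * c⁻¹, hP₃ (hcT x hx), ?_⟩
        simp [mul_assoc]
      have e2 : X P₂ = X (c⁻¹ • P₃) := hXeq P₂ _ T₂ inf_le_left hT₂P hne2 (by omega)
      rw [e1, e2, hXconj, Grp.map_conj_eq_smul]
      exact (Grp.mem_normalizer_iff_smul.mp (Subgroup.le_normalizer (inv_mem (hNX hc)))).symm
    · rcases hTP.eq_or_lt with he | hlt
      · simp only [X]
        rw [← he]
        exact hloc V hV hV1 T hT
      refine (hloc V hV hV1 T hT).trans ?_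
      set Z := W G T with hZ
      have hTp : IsPGroup p T := P₃.isPGroup'.to_le hTP
      have hT1 : T ≠ ⊥ := fun h => hV1 (le_bot_iff.1 (h ▸ hsylT hV hT))
      have hZ1 : Z ≠ ⊥ := hW.ne_bot hTp hT1
      set T' := (P₃ : Subgroup G) ⊓ Subgroup.normalizer (T : Set G) with hT'
      have hc1 : Nat.card T < Nat.card T' := Fus.card_lt_of_lt (Transfer.lt_inf_normalizer P₃ hlt)
      set N := Subgroup.normalizer (Z : Set G) with hN
      have hT'N : T' ≤ N := inf_le_right.trans (hW.normalizer_le T)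
      obtain ⟨S, hS⟩ := (show IsPGroup p (T'.subgroupOf N) from
        (P₃.isPGroup'.to_le inf_le_left).comap_subtype).exists_le_sylow
      set T₅ := (S : Subgroup N).map N.subtype with hT₅
      have hT'5 : T' ≤ T₅ := fun x hx => ⟨⟨x, hT'N hx⟩, hS hx, rfl⟩
      have hTs : Grp.IsSylowIn p T₅ N := Grp.isSylowIn_iff.mpr ⟨S, rfl⟩
      obtain ⟨P₅, hP₅⟩ := hTs.2.1.exists_le_sylow
      have hcard5 := Subgroup.card_le_of_le hP₅
      have hcT' := Subgroup.card_le_of_le hT'5
      have hc35 : Nat.card (P₅ : Subgroup G) = Nat.card (P₃ : Subgroup G) := by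
        rw [P₃.card_eq_multiplicity, P₅.card_eq_multiplicity]
      have hne' : T' ≠ ⊥ := fun h => by
        rw [h, Subgroup.card_bot] at hc1
        exact absurd hc1 (Nat.not_lt.mpr Nat.card_pos)
      rw [hXeq P₃ P₅ T' inf_le_left (hT'5.trans hP₅) hne' (by omega)]
      exact (ih _ (by omega)).2 Z T₅ P₅ (hTp.to_le (hW.le T)) hZ1 hP₅ hTs rfl
  obtain ⟨S, hS⟩ := (show IsPGroup p
      (((P : Subgroup G) ⊓ Subgroup.normalizer (U : Set G)).subgroupOf
        (Subgroup.normalizer (U : Set G))) from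
      (P.isPGroup'.to_le inf_le_left).comap_subtype).exists_le_sylow
  set T := (S : Subgroup _).map (Subgroup.normalizer (U : Set G)).subtype with hTdef
  have hTs : Grp.IsSylowIn p T (Subgroup.normalizer (U : Set G)) := Grp.isSylowIn_iff.mpr ⟨S, rfl⟩
  obtain ⟨P₃, hP₃⟩ := hTs.2.1.exists_le_sylow
  have hUp := P.isPGroup'.to_le hUP
  have hUP₃ : U ≤ (P₃ : Subgroup G) := (hsylT hUp hTs).trans hP₃
  show _ ≤ X P
  rw [(key _).1 P P₃ (fun h => hU1 (le_bot_iff.1 (h ▸ le_inf hUP hUP₃))) rfl]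
  exact (key _).2 U T P₃ hUp hU1 hP₃ hTs rfl

end Cfsg.Agent.Invol
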