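import Mathlib

/-!
# Higman's theorem: `SL(2, 2ⁿ)`-modules in characteristic two with fixed-point-free elements of order three

If every element of trace one fixes only zero, the module is a sum of copies of the natural module.
-/

set_option autoImplicit false
set_option linter.unusedSectionVars false
set_option linter.style.haveILetI false

namespace Cfsg.Agent.Invol.SL2Fpf

open Matrix

local notation "SL" K => Matrix.SpecialLinearGroup (Fin 2) K

variable {K : Type*} [Field K] [CharP K 2]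

/-- An element of `SL₂` given by its entries. -/
def m2 (a b c d : K) (h : a * d - b * c = 1) : SL K :=
  ⟨!![a, b; c, d], by rw [Matrix.det_fin_two_of]; exact h⟩

/-- Upper unitriangular elements. -/
def up (t : K) : SL K := m2 1 t 0 1 (by ring)

/-- Lower unitriangular elements. -/
def lo (t : K) : SL K := m2 1 0 t 1 (by ring)

/-- The antidiagonal involutions. -/
def wI (t : Kˣ) : SL K := m2 0 (t : K) ((t⁻¹ : Kˣ) : K) 0 (by
  rw [mul_zero, zero_sub, ← Units.val_mul, mul_inv_cancel, Units.val_one, CharTwo.neg_eq])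

/-- The diagonal elements. -/
def dg (t : Kˣ) : SL K := m2 (t : K) 0 0 ((t⁻¹ : Kˣ) : K) (by
  rw [mul_zero, sub_zero, ← Units.val_mul, mul_inv_cancel, Units.val_one])

@[simp] theorem coe_m2 (a b c d : K) (h : a * d - b * c = 1) :
    (m2 a b c d h : Matrix (Fin 2) (Fin 2) K) = !![a, b; c, d] := rfl

theorem m2_ext {a b c d a' b' c' d' : K} {h h'} (ha : a = a') (hb : b = b') (hc : c = c') (hd : d = d') :
    m2 a b c d h = m2 a' b' c' d' h' := by subst ha hb hc hd; rfl

theorem m2_mul (a b c d a' b' c' d' : K) (h h') (h'') :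
    m2 a b c d h * m2 a' b' c' d' h' =
      m2 (a * a' + b * c') (a * b' + b * d') (c * a' + d * c') (c * b' + d * d') h'' := by
  apply Subtype.ext
  simp only [Matrix.SpecialLinearGroup.coe_mul, coe_m2, Matrix.mul_fin_two]

theorem two_eq_zero' : (2 : K) = 0 := CharTwo.two_eq_zero

theorem up_mul (a b : K) : up a * up b = up (a + b) := by
  rw [up, up, up, m2_mul (h'' := by ring)]; exact m2_ext (by ring) (by ring) (by ring) (by ring)

theorem lo_mul (a b : K) : lo a * lo b = lo (a + b) := by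
  rw [lo, lo, lo, m2_mul (h'' := by ring)]; exact m2_ext (by ring) (by ring) (by ring) (by ring)

theorem up_zero : up (0 : K) = 1 := by
  apply Subtype.ext; simp [up, coe_m2, Matrix.one_fin_two]

theorem lo_zero : lo (0 : K) = 1 := by
  apply Subtype.ext; simp [lo, coe_m2, Matrix.one_fin_two]

theorem up_sq (a : K) : up a * up a = 1 := by rw [up_mul, CharTwo.add_self_eq_zero, up_zero]

theorem lo_sq (a : K) : lo a * lo a = 1 := by rw [lo_mul, CharTwo.add_self_eq_zero, lo_zero]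

theorem up_lo_up (t : Kˣ) : up (t : K) * lo ((t⁻¹ : Kˣ) : K) * up (t : K) = wI t := by
  apply Subtype.ext
  simp only [Matrix.SpecialLinearGroup.coe_mul, up, lo, wI, coe_m2, Matrix.mul_fin_two]
  have h1 : (t : K) * ((t⁻¹ : Kˣ) : K) = 1 := by rw [← Units.val_mul, mul_inv_cancel, Units.val_one]
  have h2 := two_eq_zero' (K := K)
  ext i j
  fin_cases i <;> fin_cases j <;> simp <;>
    first | exact h2 | linear_combination h2 | ring1

theorem wI_sq (t : Kˣ) : wI t * wI t = 1 := by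
  apply Subtype.ext
  simp [wI, coe_m2, Matrix.mul_fin_two, Matrix.one_fin_two]

theorem wI_up (t : Kˣ) (s : K) : wI t * up s = lo (s * ((t⁻¹ : Kˣ) : K) ^ 2) * wI t := by
  apply Subtype.ext
  simp only [Matrix.SpecialLinearGroup.coe_mul, up, lo, wI, coe_m2, Matrix.mul_fin_two]
  have h1 : (t : K) * ((t⁻¹ : Kˣ) : K) = 1 := by rw [← Units.val_mul, mul_inv_cancel, Units.val_one]
  ext i j
  fin_cases i <;> fin_cases j <;> simp <;>
    first | ring1 | (field_simp; done) | (field_simp; ring1)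

theorem up_wI (t : Kˣ) (s : K) : lo s * wI t = wI t * up (s * (t : K) ^ 2) := by
  rw [wI_up]
  congr 2
  have h1 : (t : K) * ((t⁻¹ : Kˣ) : K) = 1 := by rw [← Units.val_mul, mul_inv_cancel, Units.val_one]
  linear_combination (-(s * ((t : K) * ((t⁻¹ : Kˣ) : K) + 1))) * h1

theorem wI_eq (t : Kˣ) : wI t = wI (1 : Kˣ) * dg t⁻¹ := by
  apply Subtype.ext
  simp [wI, dg, coe_m2, Matrix.mul_fin_two]

theorem wI_wI (t : Kˣ) : wI t * wI (1 : Kˣ) = dg t := by
  apply Subtype.ext
  simp [wI, dg, coe_m2, Matrix.mul_fin_two]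

theorem dg_mul (s t : Kˣ) : dg s * dg t = dg (s * t) := by
  apply Subtype.ext
  simp [dg, coe_m2, Matrix.mul_fin_two]
  exact mul_comm _ _

theorem dg_one : dg (1 : Kˣ) = 1 := by
  apply Subtype.ext; simp [dg, coe_m2, Matrix.one_fin_two]

theorem dg_up (c : Kˣ) (s : K) : up s * dg c = dg c * up (s * ((c⁻¹ : Kˣ) : K) ^ 2) := by
  apply Subtype.ext
  simp only [Matrix.SpecialLinearGroup.coe_mul, up, dg, coe_m2, Matrix.mul_fin_two]
  have h1 : (c : K) * ((c⁻¹ : Kˣ) : K) = 1 := by rw [← Units.val_mul, mul_inv_cancel, Units.val_one]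
  ext i j
  fin_cases i <;> fin_cases j <;> simp <;>
    first | ring1 | (field_simp; done) | (field_simp; ring1)

/-- The trace. -/
def tr (g : SL K) : K := g.1 0 0 + g.1 1 1

theorem tr_up_lo (t : Kˣ) : tr (up (t : K) * lo ((t⁻¹ : Kˣ) : K)) = 1 := by
  simp only [tr, Matrix.SpecialLinearGroup.coe_mul, up, lo, coe_m2, Matrix.mul_fin_two]
  have h1 : (t : K) * ((t⁻¹ : Kˣ) : K) = 1 := by rw [← Units.val_mul, mul_inv_cancel, Units.val_one]
  simp
  linear_combination two_eq_zero' (K := K)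

theorem cube_eq_one {g : SL K} (hg : tr g = 1) : g * g * g = 1 := by
  have hdet := g.2
  rw [Matrix.det_fin_two] at hdet
  have h2 := two_eq_zero' (K := K)
  unfold tr at hg
  apply Subtype.ext
  rw [Matrix.SpecialLinearGroup.coe_mul, Matrix.SpecialLinearGroup.coe_mul]
  set a := g.1 0 0
  set b := g.1 0 1
  set c := g.1 1 0
  set d := g.1 1 1
  have hd : d = 1 + a := by linear_combination hg - a * h2
  have hbc : b * c = a * d + 1 := by linear_combination -hdet - h2
  rw [show (g.1 : Matrix (Fin 2) (Fin 2) K) = !![a, b; c, d] from Matrix.eta_fin_two g.1]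
  simp only [Matrix.mul_fin_two]
  ext i j
  fin_cases i <;> fin_cases j <;> simp <;> grind

theorem mem_of_generators (S : Submonoid (SL K)) (hu : ∀ t, up t ∈ S) (hw : wI (1 : Kˣ) ∈ S) :
    ∀ g : SL K, g ∈ S := by
  have hl : ∀ t, lo t ∈ S := fun t => by
    have h := up_wI (1 : Kˣ) t
    rw [Units.val_one, one_pow, mul_one] at h
    have h' : lo t = wI (1 : Kˣ) * up t * wI (1 : Kˣ) := by rw [← h, mul_assoc, wI_sq, mul_one]
    rw [h']
    exact mul_mem (mul_mem hw (hu t)) hw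
  have hc : ∀ g : SL K, g.1 1 0 ≠ 0 → g ∈ S := by
    intro g hg
    have hdet := g.2
    rw [Matrix.det_fin_two] at hdet
    have e : g = up ((g.1 0 0 - 1) / g.1 1 0) * lo (g.1 1 0) * up ((g.1 1 1 - 1) / g.1 1 0) := by
      apply Subtype.ext
      simp only [Matrix.SpecialLinearGroup.coe_mul, up, lo, coe_m2, Matrix.mul_fin_two]
      ext i j
      fin_cases i <;> fin_cases j <;> simp <;> field_simp <;>
        first | linear_combination -hdet | linear_combination hdet | ring1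
    rw [e]
    exact mul_mem (mul_mem (hu _) (hl _)) (hu _)
  intro g
  by_cases hg : g.1 1 0 = 0
  · have h1 : (wI (1 : Kˣ) * g).1 1 0 ≠ 0 := by
      have hdet := g.2
      rw [Matrix.det_fin_two, hg, mul_zero, sub_zero] at hdet
      simp [wI, coe_m2, Matrix.mul_apply, Fin.sum_univ_two]
      intro h
      rw [h, zero_mul] at hdet
      exact zero_ne_one hdet
    have h2 := mul_mem hw (hc _ h1)
    rwa [← mul_assoc, wI_sq, one_mul] at h2
  · exact hc g hg

variable {V : Type*} [AddCommGroup V] (ρ : (SL K) →* AddMonoid.End V)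

/-- The hypotheses. -/
structure Hyp : Prop where
  two : ∀ v : V, v + v = 0
  fpf : ∀ g, tr g = 1 → ∀ v, ρ g v = v → v = 0

variable {ρ}

theorem act_mul (g h : SL K) (v : V) : ρ g (ρ h v) = ρ (g * h) v := by rw [map_mul]; rfl

theorem act_one (v : V) : ρ 1 v = v := by rw [map_one]; rfl

/-- The fixed points of the upper unitriangular group. -/
def Z (ρ : (SL K) →* AddMonoid.End V) : AddSubgroup V where
  carrier := {v | ∀ t, ρ (up t) v = v}
  zero_mem' := fun t => map_zero _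
  add_mem' := fun {a b} ha hb t => by rw [map_add, ha t, hb t]
  neg_mem' := fun {a} ha t => by rw [map_neg, ha t]

/-- Scalar multiplication by the torus. -/
noncomputable def sm (ρ : (SL K) →* AddMonoid.End V) (c : K) (v : V) : V :=
  haveI := Classical.dec (c = 0)
  if h : c = 0 then 0 else ρ (dg (Units.mk0 c h)) v

theorem sm_units (c : Kˣ) (v : V) : sm ρ (c : K) v = ρ (dg c) v := by
  rw [sm, dif_neg c.ne_zero, Units.mk0_val]

theorem sm_zero (v : V) : sm ρ 0 v = 0 := by rw [sm, dif_pos rfl]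

theorem sm_one (v : V) : sm ρ 1 v = v := by
  rw [← Units.val_one, sm_units, dg_one, act_one]

theorem sm_add_right (c : K) (v w : V) : sm ρ c (v + w) = sm ρ c v + sm ρ c w := by
  rcases eq_or_ne c 0 with rfl | hc
  · rw [sm_zero, sm_zero, sm_zero, add_zero]
  · rw [sm, sm, sm, dif_neg hc, dif_neg hc, dif_neg hc, map_add]

theorem sm_mul (a b : K) (v : V) : sm ρ (a * b) v = sm ρ a (sm ρ b v) := by
  rcases eq_or_ne a 0 with rfl | ha
  · rw [zero_mul, sm_zero, sm_zero]
  rcases eq_or_ne b 0 with rfl | hb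
  · rw [mul_zero, sm_zero, sm, dif_neg ha, map_zero]
  rw [show a * b = ((Units.mk0 a ha * Units.mk0 b hb : Kˣ) : K) by simp, sm_units, sm, sm, dif_neg ha, dif_neg hb,
    act_mul, dg_mul]

theorem sm_mem {c : K} {v : V} (hv : v ∈ Z ρ) : sm ρ c v ∈ Z ρ := by
  rcases eq_or_ne c 0 with rfl | hc
  · rw [sm_zero]; exact zero_mem _
  · intro t
    rw [sm, dif_neg hc, act_mul, dg_up, ← act_mul, hv]

theorem Hyp.neg_eq (H : Hyp ρ) (v : V) : -v = v := neg_eq_of_add_eq_zero_left (H.two v)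

theorem Hyp.sum_three (H : Hyp ρ) {g : SL K} (hg : tr g = 1) (v : V) : ρ g (ρ g v) + ρ g v + v = 0 := by
  refine H.fpf g hg _ ?_
  rw [map_add, map_add, act_mul g g (ρ g v), act_mul (g * g) g v, cube_eq_one hg, act_one]
  abel

/-- The basic relation. -/
theorem Hyp.star (H : Hyp ρ) (t : Kˣ) {v : V} (hv : ρ (up (t : K)) v = v) :
    ρ (up (t : K)) (ρ (wI t) v) = ρ (wI t) v + v ∧ ρ (lo ((t⁻¹ : Kˣ) : K)) v = ρ (wI t) v + v := by
  set g := up (t : K) * lo ((t⁻¹ : Kˣ) : K) with hg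
  have h1 : ρ g v = ρ (wI t) v := by rw [← up_lo_up, ← act_mul (up (t : K) * lo _) (up (t : K)), hv]
  have h2 : ρ g (ρ (wI t) v) = ρ (up (t : K)) (ρ (wI t) v) := by
    have h : lo ((t⁻¹ : Kˣ) : K) * wI t = wI t * up (t : K) := by
      rw [up_wI]
      congr 2
      have h1 : (t : K) * ((t⁻¹ : Kˣ) : K) = 1 := by rw [← Units.val_mul, mul_inv_cancel, Units.val_one]
      linear_combination (t : K) * h1
    rw [hg, ← act_mul (up (t : K)), act_mul (lo _), h, ← act_mul (wI t), hv]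
  have h3 := H.sum_three (tr_up_lo t) v
  rw [h1, h2, add_assoc] at h3
  have h4 : ρ (up (t : K)) (ρ (wI t) v) = ρ (wI t) v + v := by
    rw [eq_neg_of_add_eq_zero_left h3, H.neg_eq]
  refine ⟨h4, ?_⟩
  rw [← h4, ← h1, act_mul, hg, ← mul_assoc, up_sq, one_mul]

theorem wI_sm (t : Kˣ) (v : V) : ρ (wI t) v = ρ (wI (1 : Kˣ)) (sm ρ ((t⁻¹ : Kˣ) : K) v) := by
  rw [sm_units, act_mul, ← wI_eq]

theorem wI_fix {v : V} (hv : v ∈ Z ρ) (t : K) : ρ (lo t) (ρ (wI (1 : Kˣ)) v) = ρ (wI (1 : Kˣ)) v := by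
  rw [act_mul, up_wI, ← act_mul, hv]

theorem Hyp.up_w (H : Hyp ρ) {z : V} (hz : z ∈ Z ρ) (t : K) :
    ρ (up t) (ρ (wI (1 : Kˣ)) z) = sm ρ t z + ρ (wI (1 : Kˣ)) z := by
  rcases eq_or_ne t 0 with rfl | ht
  · rw [up_zero, act_one, sm_zero, zero_add]
  · set u := Units.mk0 t ht with hu
    have hzt : sm ρ t z ∈ Z ρ := sm_mem hz
    have h := (H.star u (hzt _)).1
    have hw : ρ (wI u) (sm ρ t z) = ρ (wI (1 : Kˣ)) z := by
      rw [wI_sm, ← sm_mul, hu, Units.val_inv_eq_inv_val, Units.val_mk0, inv_mul_cancel₀ ht, sm_one]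
    rw [hw, hu, Units.val_mk0] at h
    rw [h, add_comm]

theorem Hyp.lo_z (H : Hyp ρ) {z : V} (hz : z ∈ Z ρ) (r : K) :
    ρ (lo r) z = z + ρ (wI (1 : Kˣ)) (sm ρ r z) := by
  rcases eq_or_ne r 0 with rfl | hr
  · rw [lo_zero, act_one, sm_zero, map_zero, add_zero]
  · have h := (H.star (Units.mk0 r hr)⁻¹ (hz _)).2
    rw [inv_inv, Units.val_mk0, wI_sm, inv_inv, Units.val_mk0] at h
    rw [h, add_comm]

theorem w_inj {a b : V} (h : ρ (wI (1 : Kˣ)) a = ρ (wI (1 : Kˣ)) b) : a = b := by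
  have := congrArg (ρ (wI (1 : Kˣ))) h
  rwa [act_mul, act_mul, wI_sq, act_one, act_one] at this

theorem Hyp.sm_add_left (H : Hyp ρ) {z : V} (hz : z ∈ Z ρ) (a b : K) :
    sm ρ (a + b) z = sm ρ a z + sm ρ b z := by
  apply w_inj (ρ := ρ)
  have h := H.lo_z hz (a + b)
  rw [← lo_mul, ← act_mul, H.lo_z hz b, map_add, H.lo_z hz a, wI_fix (sm_mem hz), add_assoc] at h
  rw [map_add]
  exact (add_left_cancel h).symm

theorem Hyp.split_zero (H : Hyp ρ) {z z' : V} (hz : z ∈ Z ρ) (hz' : z' ∈ Z ρ)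
    (h : z + ρ (wI (1 : Kˣ)) z' = 0) : z = 0 ∧ z' = 0 := by
  have h1 := congrArg (ρ (up (1 : K))) h
  rw [map_add, hz, H.up_w hz', sm_one, map_zero, add_left_comm, h, add_zero] at h1
  refine ⟨?_, h1⟩
  rwa [h1, map_zero, add_zero] at h

/-- The sum of the two fixed point spaces. -/
def span (ρ : (SL K) →* AddMonoid.End V) : AddSubgroup V where
  carrier := {v | ∃ z ∈ Z ρ, ∃ z' ∈ Z ρ, v = z + ρ (wI (1 : Kˣ)) z'}
  zero_mem' := ⟨0, zero_mem _, 0, zero_mem _, by rw [map_zero, add_zero]⟩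
  add_mem' := fun {x y} ⟨a, ha, a', ha', hx⟩ ⟨b, hb, b', hb', hy⟩ =>
    ⟨a + b, add_mem ha hb, a' + b', add_mem ha' hb', by rw [hx, hy, map_add]; abel⟩
  neg_mem' := fun {x} ⟨a, ha, a', ha', hx⟩ =>
    ⟨-a, neg_mem ha, -a', neg_mem ha', by rw [hx, map_neg]; abel⟩

theorem Hyp.span_inv (H : Hyp ρ) : ∀ g : SL K, ∀ v ∈ span ρ, ρ g v ∈ span ρ := by
  let S : Submonoid (SL K) :=
    { carrier := {g | ∀ v ∈ span ρ, ρ g v ∈ span ρ}
      one_mem' := fun v hv => by rwa [act_one]
      mul_mem' := fun {g h} hg hh v hv => by rw [← act_mul]; exact hg _ (hh v hv) }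
  refine mem_of_generators S (fun t => ?_) ?_
  · rintro _ ⟨a, ha, b, hb, rfl⟩
    refine ⟨a + sm ρ t b, add_mem ha (sm_mem hb), b, hb, ?_⟩
    rw [map_add, ha, H.up_w hb]
    abel
  · rintro _ ⟨a, ha, b, hb, rfl⟩
    refine ⟨b, hb, a, ha, ?_⟩
    rw [map_add, act_mul, wI_sq, act_one, add_comm]

variable [Fintype K]

theorem Hyp.exists_moved_into_span (H : Hyp ρ) {v₀ : V} (hv₀ : v₀ ∉ span ρ) :
    ∀ s : Finset K, ∃ v, v ∉ span ρ ∧ ∀ t ∈ s, ρ (up t) v + v ∈ span ρ := by
  classical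
  intro s
  induction s using Finset.induction with
  | empty => exact ⟨v₀, hv₀, by simp⟩
  | @insert t s _ ih =>
    obtain ⟨v, hv, hvs⟩ := ih
    by_cases ht : ρ (up t) v + v ∈ span ρ
    · exact ⟨v, hv, Finset.forall_mem_insert _ _ _ |>.mpr ⟨ht, hvs⟩⟩
    · refine ⟨ρ (up t) v + v, ht, Finset.forall_mem_insert _ _ _ |>.mpr ⟨?_, fun r hr => ?_⟩⟩
      · rw [map_add, act_mul, up_sq, act_one, add_comm v, H.two]
        exact zero_mem _
      · have h := add_mem (H.span_inv (up t) _ (hvs r hr)) (hvs r hr)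
        rw [map_add, act_mul, up_mul, add_comm t, ← up_mul, ← act_mul] at h
        rw [map_add]
        rwa [add_add_add_comm] at h

/-- The module is the sum of the two fixed point spaces. -/
theorem Hyp.span_eq_top (H : Hyp ρ) : ∀ v, v ∈ span ρ := by
  by_contra hne
  obtain ⟨v₀, hv₀⟩ := not_forall.mp hne
  obtain ⟨v', hv', hall'⟩ := H.exists_moved_into_span hv₀ Finset.univ
  have hall : ∀ t, ρ (up t) v' + v' ∈ span ρ := fun t => hall' t (Finset.mem_univ _)
  -- a representative fixed by `up 1`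
  set y := ρ (lo (1 : K)) v' + v' with hy
  set v := ρ (up (1 : K)) y + y with hvdef
  have hfix : ρ (up (1 : K)) v = v := by
    rw [hvdef, map_add, act_mul, up_sq, act_one, add_comm]
  have hdiff : v + v' ∈ span ρ := by
    set g := up (1 : K) * lo (1 : K) with hg
    have htr : tr g = 1 := by
      have := tr_up_lo (1 : Kˣ)
      simpa using this
    have h3 := H.sum_three htr v'
    have hgg : ρ g (ρ g v') = ρ (lo (1 : K) * up (1 : K)) v' := by
      rw [act_mul]
      refine congrArg (fun k => ρ k v') ?_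
      have h1 : g * g * g = 1 := cube_eq_one htr
      rw [eq_inv_of_mul_eq_one_left h1, hg, _root_.mul_inv_rev, inv_eq_of_mul_eq_one_right (lo_sq (1 : K)),
        inv_eq_of_mul_eq_one_right (up_sq (1 : K))]
    have hmem := add_mem (H.span_inv (lo (1 : K)) _ (hall 1)) (hall 1)
    have e : v + v' = ρ (lo (1 : K)) (ρ (up (1 : K)) v' + v') + (ρ (up (1 : K)) v' + v') := by
      rw [hgg] at h3
      rw [hvdef, hy, map_add, map_add, act_mul, act_mul, ← hg]
      have h5 : ρ g v' = ρ (lo (1 : K) * up (1 : K)) v' + v' := by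
        rw [← sub_eq_zero, sub_eq_add_neg, H.neg_eq, ← h3]; abel
      rw [h5]
      have h6 : v' + v' = 0 := H.two v'
      calc _ = ρ (lo (1 : K) * up (1 : K)) v' + ρ (up (1 : K)) v' + ρ (lo (1 : K)) v' + v' + (v' + v') := by abel
        _ = _ := by rw [h6, add_zero]; abel
    rw [e]
    exact hmem
  have hv : v ∉ span ρ := fun h => hv' (by
    have := add_mem h hdiff
    rwa [← add_assoc, H.two, zero_add] at this)
  have hall2 : ∀ t, ρ (up t) v + v ∈ span ρ := fun t => by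
    have h := add_mem (add_mem (H.span_inv (up t) _ hdiff) hdiff) (hall t)
    rw [map_add] at h
    have h6 : ρ (up t) v' + ρ (up t) v' = 0 := H.two _
    have h7 : v' + v' = 0 := H.two _
    have e : ρ (up t) v + ρ (up t) v' + (v + v') + (ρ (up t) v' + v') = ρ (up t) v + v := by
      calc _ = ρ (up t) v + v + (ρ (up t) v' + ρ (up t) v') + (v' + v') := by abel
        _ = _ := by rw [h6, h7, add_zero, add_zero]
    rwa [e] at h
  -- the maps `d` and `e`
  set d : K → V := fun t => ρ (up t) v + v with hd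
  have hdZ : ∀ t, d t ∈ Z ρ := fun t => by
    rcases eq_or_ne t 0 with rfl | ht
    · simp only [hd, up_zero, act_one, H.two]; exact zero_mem _
    obtain ⟨a, ha, b, hb, hab⟩ := hall2 t
    have h1 : ρ (up t) (d t) = d t := by
      simp only [hd, map_add, act_mul, up_sq, act_one]; exact add_comm _ _
    rw [show d t = a + ρ (wI (1 : Kˣ)) b from hab, map_add, ha, H.up_w hb, add_right_inj, add_eq_right] at h1
    have hb0 : b = 0 := by
      rw [← sm_one (ρ := ρ) b, ← inv_mul_cancel₀ ht, sm_mul, h1, sm, dif_neg (inv_ne_zero ht), map_zero]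
    rw [show d t = a + ρ (wI (1 : Kˣ)) b from hab, hb0, map_zero, add_zero]
    exact ha
  have hdadd : ∀ a b, d (a + b) = d a + d b := fun a b => by
    have h1 : ρ (up a) v + v + (ρ (up b) v + v) = ρ (up a) v + ρ (up b) v + (v + v) := by abel
    have h2 : ρ (up b) v = d b + v := by simp only [hd, add_assoc, H.two, add_zero]
    show ρ (up (a + b)) v + v = d a + d b
    rw [← up_mul, ← act_mul, h2, map_add, (hdZ b) a]
    simp only [hd]
    abel
  have hd1 : d 1 = 0 := by simp only [hd, hfix, H.two]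
  set e : K → V := fun r => ρ (lo r) v + v with he
  have he_eq : ∀ t : Kˣ, e ((t⁻¹ : Kˣ) : K) =
      ρ (wI t) (v + ρ (wI (1 : Kˣ)) (sm ρ ((t⁻¹ : Kˣ) : K) (d (t : K)))) := by
    intro t
    set z := sm ρ ((t⁻¹ : Kˣ) : K) (d (t : K)) with hz
    have hzZ : z ∈ Z ρ := sm_mem (hdZ _)
    have hfx : ρ (up (t : K)) (v + ρ (wI (1 : Kˣ)) z) = v + ρ (wI (1 : Kˣ)) z := by
      rw [map_add, H.up_w hzZ, hz, ← sm_mul, ← Units.val_mul, mul_inv_cancel, Units.val_one, sm_one]
      simp only [hd]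
      have h6 := H.two (ρ (up (t : K)) v)
      calc _ = v + ρ (wI (1 : Kˣ)) (sm ρ ((t⁻¹ : Kˣ) : K) (ρ (up (t : K)) v + v)) +
            (ρ (up (t : K)) v + ρ (up (t : K)) v) := by abel
        _ = _ := by rw [h6, add_zero]
    have h := (H.star t hfx).2
    rw [map_add, wI_fix hzZ] at h
    show ρ (lo _) v + v = _
    have h7 := H.two (ρ (wI (1 : Kˣ)) z)
    rw [eq_sub_of_add_eq h]
    rw [sub_eq_add_neg, H.neg_eq]
    calc _ = ρ (wI t) (v + ρ (wI (1 : Kˣ)) z) + (v + v) + (ρ (wI (1 : Kˣ)) z + ρ (wI (1 : Kˣ)) z) := by abel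
      _ = _ := by rw [H.two v, h7, add_zero, add_zero]
  -- the cocycle
  have hG : ∀ a : K, ∀ b : Kˣ, ρ (lo a) (e (b : K)) + e (b : K) = ρ (wI (1 : Kˣ))
      (sm ρ (b : K) (d (a * ((b⁻¹ : Kˣ) : K) ^ 2)) + sm ρ a (d ((b⁻¹ : Kˣ) : K))) := by
    intro a b
    have h := he_eq b⁻¹
    rw [inv_inv] at h
    set s := a * ((b⁻¹ : Kˣ) : K) ^ 2 with hs
    set z := sm ρ (b : K) (d ((b⁻¹ : Kˣ) : K)) with hz
    have hzZ : z ∈ Z ρ := sm_mem (hdZ _)
    rw [h, act_mul, up_wI, ← act_mul, ← hs, map_add (ρ (up s)), H.up_w hzZ, ← map_add]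
    have e1 : ρ (up s) v + (sm ρ s z + ρ (wI (1 : Kˣ)) z) + (v + ρ (wI (1 : Kˣ)) z) = d s + sm ρ s z := by
      simp only [hd]
      have h7 := H.two (ρ (wI (1 : Kˣ)) z)
      calc _ = ρ (up s) v + v + sm ρ s z + (ρ (wI (1 : Kˣ)) z + ρ (wI (1 : Kˣ)) z) := by abel
        _ = _ := by rw [h7, add_zero]
    rw [e1, wI_sm, inv_inv, sm_add_right, hz, ← sm_mul, ← sm_mul, hs]
    congr 3
    have h1 : (b : K) * ((b⁻¹ : Kˣ) : K) = 1 := by rw [← Units.val_mul, mul_inv_cancel, Units.val_one]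
    linear_combination a * ((b : K) * ((b⁻¹ : Kˣ) : K) + 1) * h1
  have hsym : ∀ a b : K, ρ (lo a) (e b) + e b = ρ (lo b) (e a) + e a := by
    intro a b
    simp only [he, map_add, act_mul, lo_mul, add_comm b a]
    abel
  have hfe : ∀ lam r : Kˣ, d ((lam : K) * r) + sm ρ (lam : K) (d (r : K)) =
      d ((r : K) * ((lam⁻¹ : Kˣ) : K)) + sm ρ (lam : K) (d ((r : K) * ((lam⁻¹ : Kˣ) : K) ^ 2)) := by
    intro lam r
    have h := hsym ((r⁻¹ : Kˣ) : K) (((lam * r⁻¹ : Kˣ)) : K)
    rw [hG, hG] at h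
    have h' := congrArg (sm ρ (r : K)) (w_inj h)
    rw [sm_add_right (r : K), sm_add_right (r : K), ← sm_mul, ← sm_mul, ← sm_mul, ← sm_mul] at h'
    simp only [_root_.mul_inv_rev, inv_inv, Units.val_mul, Units.val_inv_eq_inv_val] at h' ⊢
    have hr := r.ne_zero
    have hl := lam.ne_zero
    rw [show (r : K) * ((lam : K) * (r : K)⁻¹) = lam by field_simp,
      show (r : K) * (r : K)⁻¹ = 1 from mul_inv_cancel₀ hr, sm_one, sm_one,
      show (r : K)⁻¹ * ((r : K) * (lam : K)⁻¹) ^ 2 = (r : K) * ((lam : K)⁻¹) ^ 2 by field_simp,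
      show (lam : K) * (r : K)⁻¹ * (r : K) ^ 2 = lam * r by field_simp] at h'
    rw [← h', add_comm]
  have hd0 : ∀ lam : K, d lam = 0 := by
    intro lam
    rcases eq_or_ne lam 0 with rfl | hl
    · simp only [hd, up_zero, act_one, H.two]
    rcases eq_or_ne lam 1 with rfl | hl1
    · exact hd1
    set L : K → V := fun r => d (lam * r) + sm ρ lam (d r) with hL
    have hLadd : ∀ a b, L (a + b) = L a + L b := fun a b => by
      simp only [hL, mul_add, hdadd, sm_add_right]; abel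
    have hper : ∀ r : K, r ≠ 0 → L r = L (r * lam⁻¹ ^ 2) := by
      intro r hr
      have h := hfe (Units.mk0 lam hl) (Units.mk0 r hr)
      simp only [Units.val_mk0, Units.val_inv_eq_inv_val] at h
      simp only [hL]
      rw [h]
      congr 1
      refine congrArg d ?_
      field_simp
    have hne : (1 : K) + lam⁻¹ ^ 2 ≠ 0 := by
      intro h0
      refine hl1 ?_
      have h1 : lam⁻¹ ^ 2 = 1 ^ 2 := by linear_combination h0 - two_eq_zero' (K := K)
      exact inv_eq_one.mp (CharTwo.sq_inj.mp h1)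
    set r := ((1 : K) + lam⁻¹ ^ 2)⁻¹ with hr
    have h1 : L (r * (1 + lam⁻¹ ^ 2)) = 0 := by
      rw [mul_add, mul_one, hLadd, ← hper r (inv_ne_zero hne), H.two]
    rw [hr, inv_mul_cancel₀ hne] at h1
    simp only [hL, mul_one, hd1] at h1
    rwa [show sm ρ lam (0 : V) = 0 by rw [sm, dif_neg hl, map_zero], add_zero] at h1
  refine hv ⟨v, fun t => ?_, 0, zero_mem _, by rw [map_zero, add_zero]⟩
  have h := hd0 t
  simp only [hd] at h
  rw [eq_neg_of_add_eq_zero_left h, H.neg_eq]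

/-- The fixed point space as a vector space. -/
@[reducible] noncomputable def Hyp.module (H : Hyp ρ) : Module K (Z ρ) where
  smul c z := ⟨sm ρ c z, sm_mem z.2⟩
  one_smul z := Subtype.ext (sm_one _)
  mul_smul a b z := Subtype.ext (sm_mul a b _)
  smul_zero c := Subtype.ext (by
    show sm ρ c (0 : V) = 0
    rcases eq_or_ne c 0 with rfl | hc
    · exact sm_zero _
    · rw [sm, dif_neg hc, map_zero])
  smul_add c a b := Subtype.ext (sm_add_right c _ _)
  add_smul a b z := Subtype.ext (H.sm_add_left z.2 a b)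
  zero_smul z := Subtype.ext (sm_zero _)

/-- Higman's theorem. -/
theorem Hyp.natural_sum (H : Hyp ρ) [Finite V] :
    ∃ (k : ℕ) (e : V ≃+ (Fin k → Fin 2 → K)), ∀ g v i, e (ρ g v) i = (g : Matrix (Fin 2) (Fin 2) K) *ᵥ e v i := by
  letI := H.module
  haveI : Module.Finite K (Z ρ) := Module.Finite.of_finite
  let bs := Module.finBasis K (Z ρ)
  set k := Module.finrank K (Z ρ)
  let c : (Fin k → K) ≃ₗ[K] Z ρ := bs.equivFun.symm
  let Θ : (Fin k → Fin 2 → K) →+ V :=
    AddMonoidHom.mk' (fun f => (c (fun i => f i 0) : V) + ρ (wI (1 : Kˣ)) (c (fun i => f i 1) : V)) (fun f g => by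
      have e0 : (fun i => (f + g) i 0) = (fun i => f i 0) + fun i => g i 0 := rfl
      have e1 : (fun i => (f + g) i 1) = (fun i => f i 1) + fun i => g i 1 := rfl
      rw [e0, e1, map_add c, map_add c, AddSubgroup.coe_add, AddSubgroup.coe_add, map_add]
      abel)
  have hΘ : Function.Bijective Θ := by
    constructor
    · refine (injective_iff_map_eq_zero Θ).mpr fun f hf => ?_
      obtain ⟨h0, h1⟩ := H.split_zero (c (fun i => f i 0)).2 (c (fun i => f i 1)).2 hf
      have e0 := c.map_eq_zero_iff.mp (Subtype.ext h0)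
      have e1 := c.map_eq_zero_iff.mp (Subtype.ext h1)
      funext i j
      fin_cases j
      · exact congrFun e0 i
      · exact congrFun e1 i
    · intro v
      obtain ⟨a, ha, b, hb, rfl⟩ := H.span_eq_top v
      refine ⟨fun i => ![c.symm ⟨a, ha⟩ i, c.symm ⟨b, hb⟩ i], ?_⟩
      show (c _ : V) + ρ _ (c _ : V) = _
      rw [show (fun i => ![c.symm ⟨a, ha⟩ i, c.symm ⟨b, hb⟩ i] 0) = c.symm ⟨a, ha⟩ from rfl,
        show (fun i => ![c.symm ⟨a, ha⟩ i, c.symm ⟨b, hb⟩ i] 1) = c.symm ⟨b, hb⟩ from rfl,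
        c.apply_symm_apply, c.apply_symm_apply]
  have heq : ∀ g : SL K, ∀ f, ρ g (Θ f) = Θ (fun i => (g : Matrix (Fin 2) (Fin 2) K) *ᵥ f i) := by
    let S : Submonoid (SL K) :=
      { carrier := {g | ∀ f, ρ g (Θ f) = Θ (fun i => (g : Matrix (Fin 2) (Fin 2) K) *ᵥ f i)}
        one_mem' := fun f => by simp [act_one]
        mul_mem' := fun {g h} hg hh f => by
          rw [← act_mul, hh, hg, Matrix.SpecialLinearGroup.coe_mul]
          simp only [Matrix.mulVec_mulVec] }
    refine mem_of_generators S (fun t f => ?_) (fun f => ?_)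
    · show ρ (up t) ((c _ : V) + ρ _ (c _ : V)) = (c _ : V) + ρ _ (c _ : V)
      rw [map_add, (c _).2 t, H.up_w (c _).2]
      have e0 : (fun i => ((up t : SL K) : Matrix (Fin 2) (Fin 2) K) *ᵥ f i) =
          fun i => ![f i 0 + t * f i 1, f i 1] := by
        funext i j
        fin_cases j <;> simp [up, coe_m2, Matrix.mulVec, dotProduct, Fin.sum_univ_two]
      rw [e0, show (fun i => ![f i 0 + t * f i 1, f i 1] 0) = (fun i => f i 0) + t • fun i => f i 1 from rfl,
        show (fun i => ![f i 0 + t * f i 1, f i 1] 1) = fun i => f i 1 from rfl, map_add, map_smul, AddSubgroup.coe_add,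
        show ((t • c fun i => f i 1 : Z ρ) : V) = sm ρ t (c fun i => f i 1 : V) from rfl, add_assoc]
    · show ρ (wI (1 : Kˣ)) ((c _ : V) + ρ _ (c _ : V)) = (c _ : V) + ρ _ (c _ : V)
      have e0 : (fun i => ((wI (1 : Kˣ) : SL K) : Matrix (Fin 2) (Fin 2) K) *ᵥ f i) =
          fun i => ![f i 1, f i 0] := by
        funext i j
        fin_cases j <;> simp [wI, coe_m2, Matrix.mulVec, dotProduct, Fin.sum_univ_two]
      rw [e0, show (fun i => ![f i 1, f i 0] 0) = fun i => f i 1 from rfl,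
        show (fun i => ![f i 1, f i 0] 1) = fun i => f i 0 from rfl, map_add, act_mul, wI_sq, act_one, add_comm]
  let E := AddEquiv.ofBijective Θ hΘ
  refine ⟨k, E.symm, fun g v i => ?_⟩
  obtain ⟨f, rfl⟩ := E.surjective v
  rw [E.symm_apply_apply, show ρ g (E f) = E (fun i => (g : Matrix (Fin 2) (Fin 2) K) *ᵥ f i) from heq g f,
    E.symm_apply_apply]

end Cfsg.Agent.Invol.SL2Fpf
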