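import Cfsg.Prelude
import Cfsg.Agent.Lib.Grp.SL2Basic

/-!
# The natural module of `SL(2, F)` inside a group
-/

set_option autoImplicit false

namespace Cfsg.Agent.Invol.Nat2

open Matrix Cfsg.Agent.Grp.SL2

section Mat

variable {F : Type*} [Field F]

local notation "SS" => Matrix.SpecialLinearGroup (Fin 2) F

/-- The upper unitriangular subgroup. -/
def upG : Subgroup SS where
  carrier := Set.range up
  one_mem' := ⟨0, up_zero⟩
  mul_mem' := by rintro _ _ ⟨a, rfl⟩ ⟨b, rfl⟩; exact ⟨a + b, (up_mul a b).symm⟩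
  inv_mem' := by
    rintro _ ⟨a, rfl⟩
    exact ⟨-a, eq_inv_of_mul_eq_one_left (by rw [up_mul, neg_add_cancel, up_zero])⟩

theorem mem_upG {x : SS} : x ∈ upG ↔ ∃ t, up t = x := Iff.rfl

/-- The diagonal element `diag(a, a⁻¹)`. -/
def dg (a : F) (ha : a ≠ 0) : SS := ⟨!![a, 0; 0, a⁻¹], by simp [Matrix.det_fin_two, ha]⟩

theorem dg_up (a : F) (ha : a ≠ 0) (t : F) : dg a ha * up t = up (a * a * t) * dg a ha :=
  Subtype.ext (by
    rw [Matrix.SpecialLinearGroup.coe_mul, Matrix.SpecialLinearGroup.coe_mul]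
    ext i j; fin_cases i <;> fin_cases j <;> simp [dg, up, Matrix.mul_apply, Fin.sum_univ_two] <;> field_simp)

theorem mulVec_up (t : F) (x : Fin 2 → F) :
    ((up t : SS) : Matrix (Fin 2) (Fin 2) F).mulVec x = ![x 0 + t * x 1, x 1] := by
  ext i; fin_cases i <;> simp [up, Matrix.mulVec, dotProduct, Fin.sum_univ_two]

theorem mulVec_dg (a : F) (ha : a ≠ 0) (x : Fin 2 → F) :
    ((dg a ha : SS) : Matrix (Fin 2) (Fin 2) F).mulVec x = ![a * x 0, a⁻¹ * x 1] := by
  ext i; fin_cases i <;> simp [dg, Matrix.mulVec, dotProduct, Fin.sum_univ_two]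

/-- An element fixing a nonzero vector has trace two. -/
theorem tr_of_fix {M : SS} {x : Fin 2 → F} (hx : x ≠ 0)
    (h : (M : Matrix (Fin 2) (Fin 2) F).mulVec x = x) : tr M = 2 := by
  have h1 : ((M : Matrix (Fin 2) (Fin 2) F) - 1).det = 0 :=
    Matrix.exists_mulVec_eq_zero_iff.mp ⟨x, hx, by rw [Matrix.sub_mulVec, h, Matrix.one_mulVec, sub_self]⟩
  have hd := det_eq M
  rw [Matrix.det_fin_two] at h1
  simp at h1
  show (M : Matrix (Fin 2) (Fin 2) F) 0 0 + (M : Matrix (Fin 2) (Fin 2) F) 1 1 = 2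
  linear_combination -h1 + hd

theorem upper_of_conj_up {g : SS} {t u : F} (ht : t ≠ 0) (h : g * up t = up u * g) :
    (g : Matrix (Fin 2) (Fin 2) F) 1 0 = 0 := by
  have h1 := congrArg (fun m : SS => (m : Matrix (Fin 2) (Fin 2) F) 1 1) h
  simp only [Matrix.SpecialLinearGroup.coe_mul] at h1
  simp [up, Matrix.mul_apply, Fin.sum_univ_two] at h1
  exact h1.resolve_right ht

theorem normalizes_upG {g : SS} (hg : (g : Matrix (Fin 2) (Fin 2) F) 1 0 = 0) :
    g ∈ Subgroup.normalizer ((upG : Subgroup SS) : Set SS) := by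
  have hd := det_eq g
  rw [hg] at hd
  simp at hd
  have h11 : (g : Matrix (Fin 2) (Fin 2) F) 1 1 ≠ 0 := fun h => by rw [h, mul_zero] at hd; exact zero_ne_one hd
  have key : ∀ t, ∃ u, g * up t = up u * g := fun t => by
    refine ⟨(g : Matrix (Fin 2) (Fin 2) F) 0 0 * t / (g : Matrix (Fin 2) (Fin 2) F) 1 1, Subtype.ext ?_⟩
    rw [Matrix.SpecialLinearGroup.coe_mul, Matrix.SpecialLinearGroup.coe_mul]
    ext i j; fin_cases i <;> fin_cases j <;> simp [up, Matrix.mul_apply, Fin.sum_univ_two, hg] <;> field_simp <;> ring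
  have key2 : ∀ u, ∃ t, g * up t = up u * g := fun u => by
    refine ⟨u * (g : Matrix (Fin 2) (Fin 2) F) 1 1 * (g : Matrix (Fin 2) (Fin 2) F) 1 1, Subtype.ext ?_⟩
    rw [Matrix.SpecialLinearGroup.coe_mul, Matrix.SpecialLinearGroup.coe_mul]
    ext i j; fin_cases i <;> fin_cases j <;> simp [up, Matrix.mul_apply, Fin.sum_univ_two, hg] <;> linear_combination (u * (g : Matrix (Fin 2) (Fin 2) F) 1 1) * hd
  rw [Subgroup.mem_normalizer_iff]
  intro y
  constructor
  · rintro ⟨t, rfl⟩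
    obtain ⟨u, hu⟩ := key t
    exact ⟨u, by rw [hu, mul_inv_cancel_right]⟩
  · rintro ⟨u, hu⟩
    obtain ⟨t, ht⟩ := key2 u
    refine ⟨t, ?_⟩
    rw [hu, inv_mul_cancel_right] at ht
    exact mul_left_cancel ht

theorem exists_conj_upG [Finite F] (p : ℕ) [Fact p.Prime] [CharP F p] (P : Sylow p SS) :
    ∃ g : SS, (P : Subgroup SS) = (upG : Subgroup SS).map (MulAut.conj g).toMonoidHom := by
  classical
  have hU : IsPGroup p (upG : Subgroup SS) := fun x => by
    obtain ⟨t, ht⟩ := mem_upG.mp x.2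
    refine ⟨1, Subtype.ext ?_⟩
    rw [pow_one, SubgroupClass.coe_pow, ← ht, up_pow, CharP.cast_eq_zero, zero_mul, up_zero]
    rfl
  obtain ⟨Q, hQ⟩ := hU.exists_le_sylow
  have hQU : (Q : Subgroup SS) = upG := by
    refine le_antisymm ?_ hQ
    by_contra hne
    have hlt : (upG : Subgroup SS).subgroupOf (Q : Subgroup SS) < ⊤ :=
      lt_top_iff_ne_top.mpr fun h => hne (Subgroup.subgroupOf_eq_top.mp h)
    have : Group.IsNilpotent ↥(Q : Subgroup SS) := Q.isPGroup'.isNilpotent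
    obtain ⟨x, hx, hxU⟩ := SetLike.exists_of_lt (Group.normalizerCondition_of_isNilpotent _ hlt)
    refine hxU (Subgroup.mem_subgroupOf.mpr ?_)
    have h1 := (Subgroup.mem_normalizer_iff.mp hx ⟨up 1, hQ ⟨1, rfl⟩⟩).mp (Subgroup.mem_subgroupOf.mpr ⟨1, rfl⟩)
    obtain ⟨u, hu⟩ := mem_upG.mp (Subgroup.mem_subgroupOf.mp h1)
    have h10 : ((x : SS) : Matrix (Fin 2) (Fin 2) F) 1 0 = 0 :=
      upper_of_conj_up one_ne_zero (t := 1) (u := u) (by rw [hu]; simp [mul_assoc])
    obtain ⟨k, hk⟩ := Q.isPGroup' x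
    have hk' : ((x : SS) : Matrix (Fin 2) (Fin 2) F) 0 0 ^ p ^ k = 1 := by
      set X : Matrix (Fin 2) (Fin 2) F := ((x : SS) : Matrix (Fin 2) (Fin 2) F) with hX
      have h2 : ∀ m : ℕ, (X ^ m) 0 0 = X 0 0 ^ m ∧ (X ^ m) 1 0 = 0 := by
        intro m
        induction m with
        | zero => simp
        | succ m ih =>
          rw [pow_succ, pow_succ, Matrix.mul_apply, Matrix.mul_apply, Fin.sum_univ_two, Fin.sum_univ_two, ih.1, ih.2, h10]
          simp
      have h3 := (h2 (p ^ k)).1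
      rw [hX, ← Matrix.SpecialLinearGroup.coe_pow, ← SubgroupClass.coe_pow, hk] at h3
      simpa using h3.symm
    have h00 : ((x : SS) : Matrix (Fin 2) (Fin 2) F) 0 0 = 1 := by
      have := sub_pow_char_pow (R := F) (p := p) (n := k) (((x : SS) : Matrix (Fin 2) (Fin 2) F) 0 0) 1
      rw [hk', one_pow, sub_self] at this
      exact sub_eq_zero.mp (eq_zero_of_pow_eq_zero this)
    have hd := det_eq (x : SS)
    rw [h00, h10] at hd
    simp at hd
    exact ⟨((x : SS) : Matrix (Fin 2) (Fin 2) F) 0 1, Subtype.ext (by ext i j; fin_cases i <;> fin_cases j <;> simp [up, h00, h10, hd])⟩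
  obtain ⟨g, rfl⟩ := MulAction.exists_smul_eq SS Q P
  exact ⟨g, by rw [Sylow.coe_subgroup_smul, hQU]; rfl⟩

end Mat

variable {G : Type*} [Group G] {F : Type*} [Field F]

local notation "SS" => Matrix.SpecialLinearGroup (Fin 2) F

/-- Coordinates on a faithful natural module in which a Sylow subgroup is upper unitriangular. -/
structure Coord (V L T : Subgroup G) (F : Type*) [Field F] where
  hLN : L ≤ Subgroup.normalizer (V : Set G)
  ρ : L ≃* Matrix.SpecialLinearGroup (Fin 2) F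
  ψ : Additive V ≃+ (Fin 2 → F)
  act : ∀ (l : L) (v : V) (h : (l : G) * v * (l : G)⁻¹ ∈ V),
    ψ (Additive.ofMul ⟨(l : G) * v * (l : G)⁻¹, h⟩) =
      ((ρ l : Matrix.SpecialLinearGroup (Fin 2) F) : Matrix (Fin 2) (Fin 2) F).mulVec (ψ (Additive.ofMul v))
  hT : ∀ g : G, g ∈ T ↔ ∃ t, (ρ.symm (Grp.SL2.up t) : G) = g

theorem charP_of_card [Fintype F] {p : ℕ} [hp : Fact p.Prime] {n : ℕ} (hF : Fintype.card F = p ^ n) : CharP F p := by
  obtain ⟨m, hq, hm⟩ := FiniteField.card F (ringChar F)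
  rw [hF] at hm
  have hn : n ≠ 0 := by rintro rfl; rw [pow_zero] at hF; exact absurd hF Fintype.one_lt_card.ne'
  have : p = ringChar F :=
    (Nat.prime_dvd_prime_iff_eq hp.out hq).mp (hp.out.dvd_of_dvd_pow (hm ▸ dvd_pow_self p hn))
  rw [this]; infer_instance

theorem exists_coord [Finite G] [Fintype F] {p : ℕ} [Fact p.Prime] [CharP F p] {V L : Subgroup G}
    (hnat : Cfsg.IsNaturalSL2Module F V L) (hf : L ⊓ Subgroup.centralizer (V : Set G) = ⊥)
    (S : Sylow p ↥L) : Nonempty (Coord V L ((S : Subgroup ↥L).map L.subtype) F) := by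
  obtain ⟨hLN, ρ₀, ψ₀, hs, hk, hact⟩ := hnat
  have hinj : Function.Injective ρ₀ := by
    rw [← MonoidHom.ker_eq_bot_iff, hk, eq_bot_iff]
    intro l hl
    have : (l : G) ∈ L ⊓ Subgroup.centralizer (V : Set G) := ⟨l.2, hl⟩
    rw [hf, Subgroup.mem_bot] at this
    exact Subgroup.mem_bot.mpr (Subtype.ext this)
  let e : L ≃* SS := MulEquiv.ofBijective ρ₀ ⟨hinj, hs⟩
  obtain ⟨g, hg'⟩ := exists_conj_upG p (S.mapSurjective (f := e.toMonoidHom) e.surjective)
  have hg : (S : Subgroup ↥L).map e.toMonoidHom = (upG : Subgroup SS).map (MulAut.conj g).toMonoidHom := hg'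
  have hv : ∀ (A : SS) (x : Fin 2 → F), (A : Matrix (Fin 2) (Fin 2) F).mulVec (((A⁻¹ : SS) : Matrix (Fin 2) (Fin 2) F).mulVec x) = x := by
    intro A x
    rw [Matrix.mulVec_mulVec, ← Matrix.SpecialLinearGroup.coe_mul, mul_inv_cancel, Matrix.SpecialLinearGroup.coe_one, Matrix.one_mulVec]
  let m : (Fin 2 → F) ≃+ (Fin 2 → F) :=
    { toFun := fun x => ((g⁻¹ : SS) : Matrix (Fin 2) (Fin 2) F).mulVec x
      invFun := fun x => (g : Matrix (Fin 2) (Fin 2) F).mulVec x
      left_inv := fun x => hv g x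
      right_inv := fun x => by
        have := hv g⁻¹ x
        rwa [inv_inv] at this
      map_add' := fun x y => Matrix.mulVec_add _ x y }
  refine ⟨{ hLN := hLN, ρ := e.trans (MulAut.conj g⁻¹), ψ := ψ₀.trans m, act := ?_, hT := ?_ }⟩
  · intro l v h
    obtain ⟨w, hw, hw2⟩ := hact l v
    rw [show (⟨(l : G) * v * (l : G)⁻¹, h⟩ : V) = w from Subtype.ext hw.symm]
    show ((g⁻¹ : SS) : Matrix (Fin 2) (Fin 2) F).mulVec (ψ₀ (Additive.ofMul w)) =
      ((g⁻¹ * ρ₀ l * g⁻¹⁻¹ : SS) : Matrix (Fin 2) (Fin 2) F).mulVec (((g⁻¹ : SS) : Matrix (Fin 2) (Fin 2) F).mulVec (ψ₀ (Additive.ofMul v)))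
    rw [hw2, Matrix.mulVec_mulVec, Matrix.mulVec_mulVec, ← Matrix.SpecialLinearGroup.coe_mul, ← Matrix.SpecialLinearGroup.coe_mul, inv_inv, mul_inv_cancel_right]
  · intro y
    constructor
    · rintro ⟨s, hs, rfl⟩
      have : e s ∈ (upG : Subgroup SS).map (MulAut.conj g).toMonoidHom := hg ▸ ⟨s, hs, rfl⟩
      obtain ⟨_, ⟨t, rfl⟩, ht⟩ := this
      refine ⟨t, congrArg Subtype.val ?_⟩
      rw [MulEquiv.symm_apply_eq]
      show up t = g⁻¹ * e s * g⁻¹⁻¹
      rw [← ht]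
      simp [mul_assoc]
    · rintro ⟨t, rfl⟩
      set l := (e.trans (MulAut.conj g⁻¹)).symm (up t) with hl
      have h1 : g⁻¹ * e l * g⁻¹⁻¹ = up t := (e.trans (MulAut.conj g⁻¹)).apply_symm_apply (up t)
      have h2 : e l ∈ (S : Subgroup ↥L).map e.toMonoidHom := by
        rw [hg]
        exact ⟨up t, ⟨t, rfl⟩, by rw [← h1]; simp [mul_assoc]⟩
      obtain ⟨s, hs, hse⟩ := h2
      exact ⟨s, hs, congrArg Subtype.val (e.injective hse)⟩

namespace Coord

variable {V L T : Subgroup G} (C : Coord V L T F)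

/-- The element of `V` with given coordinates. -/
noncomputable def vec (x : Fin 2 → F) : V := Additive.toMul (C.ψ.symm x)

/-- The coordinates of an element of `V`. -/
def co (v : V) : Fin 2 → F := C.ψ (Additive.ofMul v)

theorem co_vec (x : Fin 2 → F) : C.co (C.vec x) = x := by simp [co, vec]

theorem vec_co (v : V) : C.vec (C.co v) = v := by simp [co, vec]

theorem co_injective : Function.Injective C.co := fun a b h => by rw [← C.vec_co a, h, C.vec_co]

theorem co_mul (a b : V) : C.co (a * b) = C.co a + C.co b := by simp [co]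

theorem co_inv (a : V) : C.co a⁻¹ = - C.co a := by simp [co]

theorem co_one : C.co 1 = 0 := by simp [co]

include C in
theorem conj_mem {l : G} (hl : l ∈ L) (v : V) : l * v * l⁻¹ ∈ V :=
  (Subgroup.mem_normalizer_iff.mp (C.hLN hl) v).mp v.2

theorem co_conj (l : L) (v : V) (h : (l : G) * v * (l : G)⁻¹ ∈ V) :
    C.co ⟨(l : G) * v * (l : G)⁻¹, h⟩ =
      ((C.ρ l : SS) : Matrix (Fin 2) (Fin 2) F).mulVec (C.co v) := C.act l v h

theorem commute_iff (l : L) (v : V) :
    (l : G) * v = v * l ↔ ((C.ρ l : SS) : Matrix (Fin 2) (Fin 2) F).mulVec (C.co v) = C.co v := by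
  rw [← C.co_conj l v (C.conj_mem l.2 v)]
  constructor
  · intro h
    congr 1
    exact Subtype.ext (by show (l : G) * v * (l : G)⁻¹ = v; rw [h, mul_inv_cancel_right])
  · intro h
    have := congrArg Subtype.val (C.co_injective h)
    exact mul_inv_eq_iff_eq_mul.mp this

include C in
theorem T_le : T ≤ L := fun g hg => by
  obtain ⟨t, rfl⟩ := (C.hT g).mp hg
  exact (C.ρ.symm _).2

theorem commute_up_iff {t : F} (ht : t ≠ 0) (v : V) :
    (C.ρ.symm (up t) : G) * v = v * C.ρ.symm (up t) ↔ C.co v 1 = 0 := by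
  rw [C.commute_iff, MulEquiv.apply_symm_apply, mulVec_up]
  constructor
  · intro h
    have h0 := congrFun h 0
    simp at h0
    exact h0.resolve_left ht
  · intro h
    ext i; fin_cases i <;> simp [h]

theorem commute_T_iff (v : V) : (v : G) ∈ Subgroup.centralizer (T : Set G) ↔ C.co v 1 = 0 := by
  rw [Subgroup.mem_centralizer_iff]
  constructor
  · intro h
    exact (C.commute_up_iff one_ne_zero v).mp (h _ ((C.hT _).mpr ⟨1, rfl⟩))
  · intro h g hg
    obtain ⟨t, rfl⟩ := (C.hT g).mp hg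
    rw [C.commute_iff, MulEquiv.apply_symm_apply, mulVec_up]
    ext i; fin_cases i <;> simp [h]

theorem comm_up_mem (t : F) (v : V) :
    ∃ h : (v : G) * (C.ρ.symm (up t) : G) * (v : G)⁻¹ * (C.ρ.symm (up t) : G)⁻¹ ∈ V,
      C.co ⟨_, h⟩ = ![-(t * C.co v 1), 0] := by
  set l := C.ρ.symm (up t) with hl
  have h1 : (l : G) * (v : G)⁻¹ * (l : G)⁻¹ ∈ V := C.conj_mem l.2 v⁻¹
  have h2 : (v : G) * (l : G) * (v : G)⁻¹ * (l : G)⁻¹ ∈ V := by
    rw [show (v : G) * l * (v : G)⁻¹ * (l : G)⁻¹ = v * (l * (v : G)⁻¹ * (l : G)⁻¹) by group]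
    exact V.mul_mem v.2 h1
  refine ⟨h2, ?_⟩
  rw [show (⟨_, h2⟩ : V) = v * ⟨(l : G) * ((v⁻¹ : V) : G) * (l : G)⁻¹, C.conj_mem l.2 v⁻¹⟩ from
    Subtype.ext (by simp [mul_assoc])]
  rw [C.co_mul, C.co_conj l v⁻¹, hl, MulEquiv.apply_symm_apply, mulVec_up, C.co_inv]
  ext i; fin_cases i <;> simp

end Coord

end Cfsg.Agent.Invol.Nat2
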