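import Mathlib
import Cfsg.Prelude
import Cfsg.Agent.Lib.Invol.NaturalSL2

/-!
An irreducible module of `SL(2, F)` in which a Sylow subgroup is quadratic, or has large fixed
points, is the natural module.
-/

set_option autoImplicit false
set_option linter.unusedSectionVars false
set_option linter.style.haveILetI false

namespace Cfsg.Agent.Invol.SL2Nat

open Matrix Cfsg.Agent.Grp.SL2
open Cfsg.Agent.Invol.Nat2 (upG mem_upG dg dg_up)

universe u v

variable {F : Type v} [Field F]

local notation "SS" => Matrix.SpecialLinearGroup (Fin 2) F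

/-- The Weyl element. -/
def wel : SS := ⟨!![0, -1; 1, 0], by simp [Matrix.det_fin_two]⟩

theorem up_wel (t : F) (ht : t ≠ 0) : (up t * wel : SS) = low t⁻¹ * dg t ht * up (-t⁻¹) := by
  refine Subtype.ext ?_
  simp only [Matrix.SpecialLinearGroup.coe_mul]
  ext i j
  fin_cases i <;> fin_cases j <;>
    simp [up, low, wel, dg, Matrix.SpecialLinearGroup.coe_mul, Matrix.mul_apply, Fin.sum_univ_two] <;> field_simp <;> ring1

theorem low_eq (t : F) : (low t : SS) = wel * up (-t) * wel⁻¹ := by
  rw [eq_mul_inv_iff_mul_eq]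
  refine Subtype.ext ?_
  simp only [Matrix.SpecialLinearGroup.coe_mul]
  ext i j
  fin_cases i <;> fin_cases j <;>
    simp [up, low, wel, Matrix.SpecialLinearGroup.coe_mul, Matrix.mul_apply, Fin.sum_univ_two]

theorem wel_sq : (wel * wel : SS) = dg (-1 : F) (neg_ne_zero.mpr one_ne_zero) := by
  refine Subtype.ext ?_
  simp only [Matrix.SpecialLinearGroup.coe_mul]
  ext i j
  fin_cases i <;> fin_cases j <;>
    simp [wel, dg, Matrix.SpecialLinearGroup.coe_mul, Matrix.mul_apply, Fin.sum_univ_two, inv_neg]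

theorem dg_mul (a b : F) (ha : a ≠ 0) (hb : b ≠ 0) : (dg a ha * dg b hb : SS) = dg (a * b) (mul_ne_zero ha hb) := by
  refine Subtype.ext ?_
  simp only [Matrix.SpecialLinearGroup.coe_mul]
  ext i j
  fin_cases i <;> fin_cases j <;>
    simp [dg, Matrix.SpecialLinearGroup.coe_mul, Matrix.mul_apply, Fin.sum_univ_two, mul_comm b⁻¹]

theorem dg_one : (dg (1 : F) one_ne_zero : SS) = 1 := by
  refine Subtype.ext ?_
  try simp only [Matrix.SpecialLinearGroup.coe_mul]
  ext i j
  fin_cases i <;> fin_cases j <;> simp [dg]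

theorem generated (K : Subgroup SS) (hu : ∀ t, up t ∈ K) (hw : wel ∈ K) : K = ⊤ := by
  have hl : ∀ t, low t ∈ K := fun t => by
    rw [low_eq]; exact K.mul_mem (K.mul_mem hw (hu _)) (K.inv_mem hw)
  rw [eq_top_iff, ← Classical.SL_closure_transvections, Subgroup.closure_le]
  rintro _ ⟨⟨i, j, hij, c⟩, rfl⟩
  fin_cases i <;> fin_cases j
  · exact absurd rfl hij
  · refine (congrArg (fun z => z ∈ K) (Subtype.ext ?_ : _ = up c)).mpr (hu c)
    ext r s; fin_cases r <;> fin_cases s <;>
      simp [up, Matrix.TransvectionStruct.toSpecialLinearGroup,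
        Matrix.SpecialLinearGroup.transvection_coe]
  · refine (congrArg (fun z => z ∈ K) (Subtype.ext ?_ : _ = low c)).mpr (hl c)
    ext r s; fin_cases r <;> fin_cases s <;>
      simp [low, Matrix.TransvectionStruct.toSpecialLinearGroup,
        Matrix.SpecialLinearGroup.transvection_coe]
  · exact absurd rfl hij

variable {V : Type u} [AddCommGroup V] (ρ : Matrix.SpecialLinearGroup (Fin 2) F →* AddMonoid.End V)

theorem act_mul (g h : SS) (x : V) : ρ (g * h) x = ρ g (ρ h x) := by rw [map_mul]; rfl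

theorem act_inv (g : SS) (x : V) : ρ g⁻¹ (ρ g x) = x := by
  rw [← act_mul, inv_mul_cancel, map_one]; rfl

theorem act_inv' (g : SS) (x : V) : ρ g (ρ g⁻¹ x) = x := by
  rw [← act_mul, mul_inv_cancel, map_one]; rfl

/-- Invariance under the generators is invariance. -/
theorem invariant_of (U : AddSubgroup V) (hu : ∀ t, ∀ x ∈ U, ρ (up t) x ∈ U) (hw : ∀ x ∈ U, ρ wel x ∈ U)
    [Finite V] : ∀ g, ∀ x ∈ U, ρ g x ∈ U := by
  let K : Subgroup SS :=
    { carrier := {g | ∀ x, x ∈ U ↔ ρ g x ∈ U}
      one_mem' := fun x => by rw [map_one]; exact Iff.rfl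
      mul_mem' := fun {g h} hg hh x => by rw [act_mul]; exact (hh x).trans (hg _)
      inv_mem' := fun {g} hg x => by
        have := hg (ρ g⁻¹ x)
        rw [act_inv'] at this
        exact this.symm }
  have hK : ∀ g : SS, (∀ x ∈ U, ρ g x ∈ U) → g ∈ K := fun g hg x => by
    refine ⟨hg x, fun h => ?_⟩
    let f : U → U := fun y => ⟨ρ g y, hg y y.2⟩
    have hf : Function.Surjective f := Finite.injective_iff_surjective.mp fun a b e => Subtype.ext (by
      have := congrArg (fun z : U => ρ g⁻¹ (z : V)) e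
      simpa [f, act_inv] using this)
    obtain ⟨⟨y, hy⟩, e⟩ := hf ⟨_, h⟩
    have := congrArg (fun z : U => ρ g⁻¹ (z : V)) e
    simp only [f, act_inv] at this
    rwa [← this]
  have htop := generated K (fun t => hK _ (hu t)) (hK _ hw)
  exact fun g x hx => ((htop ▸ Subgroup.mem_top g : g ∈ K) x).mp hx

/-- The fixed points of the upper unitriangular group. -/
def fix : AddSubgroup V where
  carrier := {x | ∀ t, ρ (up t) x = x}
  zero_mem' t := map_zero _
  add_mem' {a b} ha hb t := by rw [map_add, ha t, hb t]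
  neg_mem' {a} ha t := by rw [map_neg, ha t]

theorem mem_fix {x : V} : x ∈ fix ρ ↔ ∀ t, ρ (up t) x = x := Iff.rfl

/-- Fixed points whose translate is moved into fixed points. -/
def lev : AddSubgroup V where
  carrier := {x | x ∈ fix ρ ∧ ∀ t, ρ (up t) (ρ wel x) - ρ wel x ∈ fix ρ}
  zero_mem' := ⟨zero_mem _, fun t => by simp⟩
  add_mem' {a b} ha hb := ⟨add_mem ha.1 hb.1, fun t => by
    rw [map_add, map_add, add_sub_add_comm]; exact add_mem (ha.2 t) (hb.2 t)⟩
  neg_mem' {a} ha := ⟨neg_mem ha.1, fun t => by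
    rw [map_neg, map_neg, ← neg_sub', ]; exact neg_mem (ha.2 t)⟩

/-- The data of an irreducible nontrivial module. -/
structure Irr : Prop where
  irr : ∀ U : AddSubgroup V, (∀ g, ∀ x ∈ U, ρ g x ∈ U) → U = ⊥ ∨ U = ⊤
  nt : ∃ g x, ρ g x ≠ x

variable {ρ}

theorem dg_fix {a : F} (ha : a ≠ 0) {x : V} (hx : x ∈ fix ρ) : ρ (dg a ha) x ∈ fix ρ := fun t => by
  rw [← act_mul, show up t * dg a ha = dg a ha * up (t / (a * a)) by rw [dg_up, mul_div_cancel₀ _ (mul_ne_zero ha ha)],
    act_mul, hx]

theorem disjoint [Finite V] (H : Irr ρ) {x : V} (hx : x ∈ fix ρ) (hw : ρ wel⁻¹ x ∈ fix ρ) : x = 0 := by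
  let X : AddSubgroup V :=
    { carrier := {x | x ∈ fix ρ ∧ ρ wel⁻¹ x ∈ fix ρ}
      zero_mem' := ⟨zero_mem _, by rw [map_zero]; exact zero_mem _⟩
      add_mem' := fun {a b} ha hb => ⟨add_mem ha.1 hb.1, by rw [map_add]; exact add_mem ha.2 hb.2⟩
      neg_mem' := fun {a} ha => ⟨neg_mem ha.1, by rw [map_neg]; exact neg_mem ha.2⟩ }
  have hwX : ∀ x ∈ X, ρ wel x ∈ X := fun x hx => by
    refine ⟨?_, by rw [act_inv]; exact hx.1⟩
    rw [show (wel : SS) = wel * wel * wel⁻¹ by rw [mul_inv_cancel_right], act_mul, wel_sq]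
    exact dg_fix _ hx.2
  rcases H.irr X (invariant_of ρ X (fun t x hx => by rw [hx.1 t]; exact hx) hwX) with h | h
  · have : x ∈ X := ⟨hx, hw⟩
    rwa [h, AddSubgroup.mem_bot] at this
  · exfalso
    obtain ⟨g, y, hy⟩ := H.nt
    have hall : ∀ y : V, y ∈ X := fun y => h ▸ AddSubgroup.mem_top y
    let K : Subgroup SS :=
      { carrier := {g | ∀ y, ρ g y = y}
        one_mem' := fun y => by rw [map_one]; rfl
        mul_mem' := fun {a b} ha hb y => by rw [act_mul, hb, ha]
        inv_mem' := fun {a} ha y => by conv_lhs => rw [← ha y, act_inv] }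
    have hu : ∀ t, up t ∈ K := fun t y => (hall y).1 t
    have hl : ∀ t, low t ∈ K := fun t y => by
      rw [low_eq, act_mul, act_mul, (hall y).2, act_inv']
    have hwm : (wel : SS) ∈ K := by
      have e : (wel : SS) = low 1 * up (-1) * low 1 := by
        refine Subtype.ext ?_
        try simp only [Matrix.SpecialLinearGroup.coe_mul]
        ext i j
        fin_cases i <;> fin_cases j <;>
          simp [up, low, wel, Matrix.SpecialLinearGroup.coe_mul, Matrix.mul_apply, Fin.sum_univ_two]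
      rw [e]; exact K.mul_mem (K.mul_mem (hl 1) (hu _)) (hl 1)
    exact hy ((generated K hu hwm ▸ Subgroup.mem_top g : g ∈ K) y)

theorem dg_lev {a : F} (ha : a ≠ 0) {x : V} (hx : x ∈ lev ρ) : ρ (dg a ha) x ∈ lev ρ := by
  refine ⟨dg_fix ha hx.1, fun t => ?_⟩
  have e : (wel * dg a ha : SS) = dg a⁻¹ (inv_ne_zero ha) * wel := by
    refine Subtype.ext ?_
    try simp only [Matrix.SpecialLinearGroup.coe_mul]
    ext i j
    fin_cases i <;> fin_cases j <;>
      simp [wel, dg, Matrix.SpecialLinearGroup.coe_mul, Matrix.mul_apply, Fin.sum_univ_two]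
  have e2 : up t * dg a⁻¹ (inv_ne_zero ha) = dg a⁻¹ (inv_ne_zero ha) * up (t / (a⁻¹ * a⁻¹)) := by
    rw [dg_up, mul_div_cancel₀ _ (mul_ne_zero (inv_ne_zero ha) (inv_ne_zero ha))]
  rw [← act_mul ρ wel, e, act_mul, ← act_mul ρ (up t), e2, act_mul, ← map_sub]
  exact dg_fix _ (hx.2 _)

/-- The displacement is the torus action. -/
theorem disp_eq [Finite V] (H : Irr ρ) {x : V} (hx : x ∈ lev ρ) {t : F} (ht : t ≠ 0) :
    ρ (up t) (ρ wel x) - ρ wel x = ρ (dg t ht) x := by
  set c := ρ (up t) (ρ wel x) - ρ wel x with hc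
  set y := ρ (dg t ht) x with hy
  have hyl : y ∈ lev ρ := dg_lev ht hx
  have h1 : ρ (up t) (ρ wel x) = ρ (low t⁻¹) y := by
    rw [← act_mul, up_wel t ht, act_mul, act_mul, hx.1]
  -- the lower displacement of a fixed point is a translate of a fixed point
  set z := ρ wel⁻¹ y
  have hz : ρ (up (-t⁻¹)) z - z ∈ fix ρ := by
    have hy' : ρ (dg (-1 : F) (neg_ne_zero.mpr one_ne_zero)) y ∈ lev ρ := dg_lev _ hyl
    have hzz : z = ρ wel (ρ (dg (-1 : F) (neg_ne_zero.mpr one_ne_zero)) y) := by
      have e : (wel⁻¹ : SS) = wel * dg (-1 : F) (neg_ne_zero.mpr one_ne_zero) := by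
        refine inv_eq_of_mul_eq_one_right ?_
        rw [← mul_assoc, wel_sq, dg_mul]
        have : ((-1 : F) * -1) = 1 := by ring
        simp only [this]
        exact dg_one
      show ρ wel⁻¹ y = _
      rw [e, act_mul]
    rw [hzz]; exact hy'.2 _
  have h2 : ρ wel⁻¹ (c - y) ∈ fix ρ := by
    have e : c - y = ρ wel (ρ (up (-t⁻¹)) z - z) - ρ wel x := by
      rw [map_sub, hc, h1, show ρ (low t⁻¹) y = ρ wel (ρ (up (-t⁻¹)) z) by rw [low_eq, act_mul, act_mul],
        show ρ wel z = y from act_inv' ρ wel y]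
      abel
    rw [e, map_sub, act_inv, act_inv]
    exact sub_mem hz hx.1
  exact sub_eq_zero.mp (disjoint H (sub_mem (hx.2 t) hyl.1) h2)

theorem natural [Finite V] [Fintype F] (H : Irr ρ) (hlev : lev ρ ≠ ⊥) :
    ∃ Φ : (Fin 2 → F) ≃+ V, ∀ (g : SS) (v : Fin 2 → F),
      Φ ((g : Matrix (Fin 2) (Fin 2) F).mulVec v) = ρ g (Φ v) := by
  classical
  obtain ⟨e, he, he0⟩ : ∃ e ∈ lev ρ, e ≠ 0 := by
    by_contra h
    push Not at h
    exact hlev ((AddSubgroup.eq_bot_iff_forall _).mpr h)
  set sm : F → V := fun c => ρ (up c) (ρ wel e) - ρ wel e with hsm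
  have hsm0 : sm 0 = 0 := by
    simp only [hsm]
    rw [up_zero, map_one]
    exact sub_self _
  have hdg : ∀ {c : F} (hc : c ≠ 0), sm c = ρ (dg c hc) e := fun hc => disp_eq H he hc
  have hlevsm : ∀ c, sm c ∈ lev ρ := fun c => by
    rcases eq_or_ne c 0 with rfl | hc
    · rw [hsm0]; exact zero_mem _
    · rw [hdg hc]; exact dg_lev hc he
  have hadd : ∀ a b, sm (a + b) = sm a + sm b := fun a b => by
    simp only [hsm]
    rw [← up_mul, act_mul, show ρ (up b) (ρ wel e) = (ρ (up b) (ρ wel e) - ρ wel e) + ρ wel e by abel,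
      map_add, he.2 b a]
    abel
  have hmul : ∀ {a : F} (ha : a ≠ 0) (b : F), ρ (dg a ha) (sm b) = sm (a * b) := fun {a} ha b => by
    rcases eq_or_ne b 0 with rfl | hb
    · rw [hsm0, map_zero, mul_zero, hsm0]
    · rw [hdg hb, ← act_mul, dg_mul, ← hdg]
  have hw2 : ∀ b, ρ wel (ρ wel (sm b)) = sm (-b) := fun b => by
    rw [← act_mul, wel_sq, hmul, neg_one_mul]
  have hup : ∀ t b, ρ (up t) (ρ wel (sm b)) = sm (t * b) + ρ wel (sm b) := fun t b => by
    rcases eq_or_ne t 0 with rfl | ht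
    · rw [up_zero, map_one, zero_mul, hsm0, zero_add]; rfl
    · rw [← hmul ht b, ← disp_eq H (hlevsm b) ht, sub_add_cancel]
  let Φ : (Fin 2 → F) →+ V :=
    { toFun := fun v => sm (v 0) + ρ wel (sm (v 1))
      map_zero' := by simp [hsm0]
      map_add' := fun a b => by simp only [Pi.add_apply, hadd, map_add]; abel }
  let K : Subgroup SS :=
    { carrier := {g | ∀ v, Φ ((g : Matrix (Fin 2) (Fin 2) F).mulVec v) = ρ g (Φ v)}
      one_mem' := fun v => by rw [Matrix.SpecialLinearGroup.coe_one, Matrix.one_mulVec, map_one]; rfl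
      mul_mem' := fun {a b} ha hb v => by
        rw [Matrix.SpecialLinearGroup.coe_mul, ← Matrix.mulVec_mulVec, ha, hb, act_mul]
      inv_mem' := fun {a} ha v => by
        have := ha (((a⁻¹ : SS) : Matrix (Fin 2) (Fin 2) F).mulVec v)
        rw [Matrix.mulVec_mulVec, ← Matrix.SpecialLinearGroup.coe_mul, mul_inv_cancel,
          Matrix.SpecialLinearGroup.coe_one, Matrix.one_mulVec] at this
        rw [this, act_inv] }
  have htop := generated K (fun t v => by
      show sm _ + ρ wel (sm _) = ρ (up t) (sm (v 0) + ρ wel (sm (v 1)))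
      rw [map_add, (hlevsm (v 0)).1 t, hup, ← add_assoc, ← hadd]
      simp [up, Matrix.mulVec, dotProduct, Fin.sum_univ_two]) (fun v => by
      show sm _ + ρ wel (sm _) = ρ wel (sm (v 0) + ρ wel (sm (v 1)))
      rw [map_add, hw2, add_comm (ρ wel (sm (v 0)))]
      simp [wel, Matrix.mulVec, dotProduct, Fin.sum_univ_two])
  have heq : ∀ (g : SS) v, Φ ((g : Matrix (Fin 2) (Fin 2) F).mulVec v) = ρ g (Φ v) := fun g =>
    (htop ▸ Subgroup.mem_top g : g ∈ K)
  have hsurj : Function.Surjective Φ := by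
    rcases H.irr Φ.range (fun g x hx => by obtain ⟨v, rfl⟩ := hx; exact ⟨_, heq g v⟩) with h | h
    · exfalso
      refine he0 ?_
      have h1 : Φ ![1, 0] ∈ Φ.range := ⟨_, rfl⟩
      rw [h, AddSubgroup.mem_bot] at h1
      simpa [Φ, hsm0, hdg one_ne_zero, dg_one] using h1
    · exact AddMonoidHom.range_eq_top.mp h
  have hinj : Function.Injective Φ := by
    rw [injective_iff_map_eq_zero]
    intro v hv
    have h1 : sm (v 0) = ρ wel (-sm (v 1)) := by rw [map_neg]; exact eq_neg_of_add_eq_zero_left hv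
    have h2 : sm (v 0) = 0 := disjoint H (hlevsm _).1 (by rw [h1, act_inv]; exact neg_mem (hlevsm _).1)
    have h3 : sm (v 1) = 0 := by
      have : ρ wel (sm (v 1)) = 0 := by
        have hv' : sm (v 0) + ρ wel (sm (v 1)) = 0 := hv
        rwa [h2, zero_add] at hv'
      rw [← act_inv ρ wel (sm (v 1)), this, map_zero]
    have hz : ∀ c, sm c = 0 → c = 0 := fun c hc => by
      by_contra hne
      rw [hdg hne] at hc
      refine he0 ?_
      rw [← act_inv ρ (dg c hne) e, hc, map_zero]
    funext i; fin_cases i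
    · exact hz _ h2
    · exact hz _ h3
  exact ⟨AddEquiv.ofBijective Φ ⟨hinj, hsurj⟩, heq⟩

theorem lev_ne_bot [Finite V] [Fintype F] {p : ℕ} [Fact p.Prime] [CharP F p] (H : Irr ρ)
    (hpV : ∀ x : V, p • x = 0)
    (hyp : (∀ (x : V) (t : F), ρ (up t) x - x ∈ fix ρ) ∨ Nat.card V ≤ Nat.card (fix ρ) ^ 2) :
    lev ρ ≠ ⊥ := by
  have hV : IsPGroup p (Multiplicative V) := fun x => ⟨1, by
    rw [pow_one]; exact Multiplicative.toAdd.injective (by rw [toAdd_pow]; exact hpV _)⟩
  obtain ⟨x₀, hx₀⟩ : ∃ x : V, x ≠ 0 := by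
    obtain ⟨g, x, hx⟩ := H.nt
    exact ⟨x, fun e => hx (by rw [e, map_zero])⟩
  haveI : Nontrivial V := ⟨⟨x₀, 0, hx₀⟩⟩
  have hUp : IsPGroup p (Multiplicative F) := fun x => ⟨1, by
    rw [pow_one]
    exact Multiplicative.toAdd.injective (by rw [toAdd_pow, nsmul_eq_mul, CharP.cast_eq_zero, zero_mul]; rfl)⟩
  rcases hyp with hq | hle
  · -- quadratic: every fixed point will do
    letI : MulAction (Multiplicative F) V :=
      { smul := fun t x => ρ (up t.toAdd) x
        one_smul := fun x => by show ρ (up 0) x = x; rw [up_zero, map_one]; rfl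
        mul_smul := fun s t x => by
          show ρ (up (s.toAdd + t.toAdd)) x = ρ (up s.toAdd) (ρ (up t.toAdd) x)
          rw [← act_mul, up_mul] }
    obtain ⟨y, hy, hy0⟩ := hUp.exists_fixed_point_of_prime_dvd_card_of_fixed_point V
      (by
        obtain ⟨k, hk0, hk⟩ := (IsPGroup.nontrivial_iff_card hV).mp inferInstance
        rw [show Nat.card V = Nat.card (Multiplicative V) from rfl, hk]; exact dvd_pow_self p hk0.ne')
      (show (0 : V) ∈ MulAction.fixedPoints (Multiplicative F) V from fun t => map_zero _)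
    have hyl : y ∈ lev ρ := ⟨fun t => hy (Multiplicative.ofAdd t), fun t => hq _ t⟩
    intro h
    rw [h, AddSubgroup.mem_bot] at hyl
    exact hy0 hyl.symm
  · let Ψ : fix ρ × fix ρ →+ V :=
      { toFun := fun a => (a.1 : V) + ρ wel (a.2 : V)
        map_zero' := by simp
        map_add' := fun a b => by simp only [Prod.fst_add, Prod.snd_add, AddSubgroup.coe_add, map_add]; abel }
    have hinj : Function.Injective Ψ := by
      rw [injective_iff_map_eq_zero]
      rintro ⟨a, b⟩ hab
      have h1 : (a : V) = ρ wel (-(b : V)) := by rw [map_neg]; exact eq_neg_of_add_eq_zero_left hab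
      have ha : (a : V) = 0 := disjoint H a.2 (by rw [h1, act_inv]; exact neg_mem b.2)
      have hb : (b : V) = 0 := by
        have hab' : (a : V) + ρ wel (b : V) = 0 := hab
        rw [ha, zero_add] at hab'
        rw [← act_inv ρ wel (b : V), hab', map_zero]
      exact Prod.ext (Subtype.ext ha) (Subtype.ext hb)
    have hsurj : Function.Surjective Ψ := by
      refine ((Nat.bijective_iff_injective_and_card Ψ).mpr ⟨hinj, le_antisymm ?_ ?_⟩).2
      · exact Nat.card_le_card_of_injective Ψ hinj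
      · rw [Nat.card_prod, ← pow_two]; exact hle
    -- a fixed point of the quotient by the fixed points
    have hfne : fix ρ ≠ ⊤ := fun h => hx₀ (disjoint H (h ▸ AddSubgroup.mem_top _) (h ▸ AddSubgroup.mem_top _))
    have hinv : ∀ t, fix ρ ≤ (fix ρ).comap (ρ (up t) : V →+ V) := fun t x hx => by
      show ρ (up t) x ∈ fix ρ
      rw [hx t]; exact hx
    letI : MulAction (Multiplicative F) (V ⧸ fix ρ) :=
      { smul := fun t => QuotientAddGroup.map _ _ (ρ (up t.toAdd) : V →+ V) (hinv _)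
        one_smul := fun x => by
          induction x using QuotientAddGroup.induction_on with | _ x =>
          show ((ρ (up 0) x : V) : V ⧸ fix ρ) = x
          rw [up_zero, map_one]; rfl
        mul_smul := fun s t x => by
          induction x using QuotientAddGroup.induction_on with | _ x =>
          show ((ρ (up (s.toAdd + t.toAdd)) x : V) : V ⧸ fix ρ) = (ρ (up s.toAdd) (ρ (up t.toAdd) x) : V)
          rw [← act_mul, up_mul] }
    haveI : Nontrivial (V ⧸ fix ρ) := QuotientAddGroup.nontrivial_iff.mpr hfne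
    have hQ : IsPGroup p (Multiplicative (V ⧸ fix ρ)) :=
      hV.of_surjective (AddMonoidHom.toMultiplicative (QuotientAddGroup.mk' (fix ρ))) (fun x => QuotientAddGroup.mk'_surjective (fix ρ) x)
    obtain ⟨q, hq, hq0⟩ := hUp.exists_fixed_point_of_prime_dvd_card_of_fixed_point (V ⧸ fix ρ)
      (by
        obtain ⟨k, hk0, hk⟩ := (IsPGroup.nontrivial_iff_card hQ).mp inferInstance
        rw [show Nat.card (V ⧸ fix ρ) = Nat.card (Multiplicative (V ⧸ fix ρ)) from rfl, hk]; exact dvd_pow_self p hk0.ne')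
      (show (0 : V ⧸ fix ρ) ∈ MulAction.fixedPoints (Multiplicative F) (V ⧸ fix ρ) from fun t => map_zero _)
    obtain ⟨y, rfl⟩ := QuotientAddGroup.mk'_surjective _ q
    obtain ⟨⟨a, b⟩, hab⟩ := hsurj y
    have hbl : (b : V) ∈ lev ρ := ⟨b.2, fun t => by
      have h1 : ρ (up t) y - y ∈ fix ρ := by
        rw [← QuotientAddGroup.eq_zero_iff, QuotientAddGroup.mk_sub, sub_eq_zero]
        exact hq (Multiplicative.ofAdd t)
      rw [← hab, show Ψ (a, b) = (a : V) + ρ wel (b : V) from rfl, map_add, a.2 t, add_sub_add_left_eq_sub] at h1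
      exact h1⟩
    intro h
    rw [h, AddSubgroup.mem_bot] at hbl
    refine hq0 ((QuotientAddGroup.eq_zero_iff y).mpr ?_).symm
    rw [← hab, show Ψ (a, b) = (a : V) + ρ wel (b : V) from rfl, hbl, map_zero, add_zero]
    exact a.2

end Cfsg.Agent.Invol.SL2Nat

namespace Cfsg.Agent.Invol.SL2Nat

open Matrix Cfsg.Agent.Grp.SL2
open Cfsg.Agent.Invol.Nat2 (upG mem_upG)
open scoped commutatorElement

theorem natural_group.{u₁} {X : Type u₁} [Group X] [Finite X] {p : ℕ} [Fact p.Prime] (G V : Subgroup X)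
    (hV : Cfsg.IsElementaryAbelian p V) (hGV : G ≤ Subgroup.normalizer (V : Set X))
    (F : Type) [Field F] [Fintype F] (n : ℕ) (hF : Fintype.card F = p ^ n)
    (hG : Nonempty (↥G ≃* Matrix.SpecialLinearGroup (Fin 2) F))
    (hirr : ∀ U : Subgroup X, U ≤ V → G ≤ Subgroup.normalizer (U : Set X) → U = ⊥ ∨ U = V) (hnt : ⁅V, G⁆ ≠ ⊥)
    (S : Sylow p ↥G)
    (hyp : ⁅⁅V, (S : Subgroup ↥G).map G.subtype⁆, (S : Subgroup ↥G).map G.subtype⁆ = ⊥ ∨
      Nat.card ↥V ≤ Nat.card ↥(V ⊓ Subgroup.centralizer (((S : Subgroup ↥G).map G.subtype : Subgroup X) : Set X)) ^ 2) :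
    Cfsg.ActsAsSL2OnSection F ⊤ G V ⊥ := by
  classical
  obtain ⟨hVab, hVexp⟩ := hV
  haveI : CharP F p := Nat2.charP_of_card hF
  obtain ⟨e₀⟩ := hG
  obtain ⟨g₀, hg₀⟩ := Nat2.exists_conj_upG p (S.mapSurjective (f := e₀.toMonoidHom) e₀.surjective)
  let e : G ≃* Matrix.SpecialLinearGroup (Fin 2) F := e₀.trans (MulAut.conj g₀⁻¹)
  have hS : ∀ s : G, s ∈ (S : Subgroup G) ↔ ∃ t, up t = e s := by
    intro s
    have h1 : (S : Subgroup G).map e₀.toMonoidHom =
        (upG : Subgroup (Matrix.SpecialLinearGroup (Fin 2) F)).map (MulAut.conj g₀).toMonoidHom := hg₀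
    constructor
    · intro hs
      obtain ⟨_, ⟨t, rfl⟩, ht⟩ := (h1 ▸ ⟨s, hs, rfl⟩ :
        e₀ s ∈ (upG : Subgroup (Matrix.SpecialLinearGroup (Fin 2) F)).map (MulAut.conj g₀).toMonoidHom)
      refine ⟨t, ?_⟩
      show up t = g₀⁻¹ * e₀ s * g₀⁻¹⁻¹
      rw [← ht]; simp [mul_assoc]
    · rintro ⟨t, ht⟩
      have h2 : e₀ s ∈ (S : Subgroup G).map e₀.toMonoidHom := by
        rw [h1]
        refine ⟨up t, ⟨t, rfl⟩, ?_⟩
        rw [show up t = g₀⁻¹ * e₀ s * g₀⁻¹⁻¹ from ht]
        simp [mul_assoc]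
      obtain ⟨s', hs', hse⟩ := h2
      rwa [← e₀.injective hse]
  letI : CommGroup V := { (inferInstance : Group V) with mul_comm := fun a b => hVab.is_comm.comm a b }
  let c : G →* MulAut V := (V.normalizerMonoidHom).comp (Subgroup.inclusion hGV)
  let a : MulAut V →* AddMonoid.End (Additive V) :=
    { toFun := fun f => MonoidHom.toAdditive f.toMonoidHom
      map_one' := rfl
      map_mul' := fun f g => rfl }
  let ρ : Matrix.SpecialLinearGroup (Fin 2) F →* AddMonoid.End (Additive V) := (a.comp c).comp e.symm.toMonoidHom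
  have hρ : ∀ g x, ((Additive.toMul (ρ g x) : V) : X) =
      ((e.symm g : G) : X) * ((Additive.toMul x : V) : X) * ((e.symm g : G) : X)⁻¹ := fun g x => rfl
  have H : Irr ρ := by
    refine ⟨fun U hU => ?_, ?_⟩
    · let U' : Subgroup X := (AddSubgroup.toSubgroup' U).map V.subtype
      have hU' : ∀ l ∈ G, ∀ x ∈ U', l * x * l⁻¹ ∈ U' := by
        rintro l hl _ ⟨x, hx, rfl⟩
        refine ⟨_, hU (e ⟨l, hl⟩) (Additive.ofMul x) hx, ?_⟩
        refine (hρ _ _).trans ?_
        rw [MulEquiv.symm_apply_apply]; rfl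
      have hn : G ≤ Subgroup.normalizer (U' : Set X) := fun l hl => Subgroup.mem_normalizer_fintype fun x hx => hU' l hl x hx
      have hmem : ∀ x : Additive V, x ∈ U ↔ ((Additive.toMul x : V) : X) ∈ U' := fun x => by
        constructor
        · exact fun hx => ⟨_, hx, rfl⟩
        · rintro ⟨y, hy, hye⟩
          have : y = Additive.toMul x := Subtype.ext hye
          rw [this] at hy
          exact hy
      rcases hirr U' (Subgroup.map_subtype_le _) hn with h | h
      · left
        refine (AddSubgroup.eq_bot_iff_forall _).mpr fun x hx => ?_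
        have h1 := (hmem x).mp hx
        rw [h, Subgroup.mem_bot] at h1
        exact Additive.toMul.injective (Subtype.ext h1)
      · right
        exact eq_top_iff.mpr fun x _ => (hmem x).mpr (h.symm ▸ (Additive.toMul x).2)
    · by_contra hc
      push Not at hc
      refine hnt (eq_bot_iff.mpr (Subgroup.commutator_le.mpr fun v hv l hl => ?_))
      have h1 := congrArg (fun w : Additive V => ((Additive.toMul w : V) : X)) (hc (e ⟨l, hl⟩) (Additive.ofMul ⟨v, hv⟩))
      simp only [hρ, MulEquiv.symm_apply_apply, toMul_ofMul] at h1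
      rw [Subgroup.mem_bot, commutatorElement_eq_one_iff_mul_comm]
      exact (mul_inv_eq_iff_eq_mul.mp h1).symm
  have hfix : ∀ x : Additive V, x ∈ fix ρ ↔
      ((Additive.toMul x : V) : X) ∈ Subgroup.centralizer (((S : Subgroup G).map G.subtype : Subgroup X) : Set X) := by
    intro x
    rw [mem_fix, Subgroup.mem_centralizer_iff]
    constructor
    · rintro h _ ⟨s, hs, rfl⟩
      obtain ⟨t, ht⟩ := (hS s).mp hs
      have h1 := congrArg (fun w : Additive V => ((Additive.toMul w : V) : X)) (h t)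
      simp only [hρ, ht, MulEquiv.symm_apply_apply] at h1
      exact mul_inv_eq_iff_eq_mul.mp h1
    · intro h t
      refine Additive.toMul.injective (Subtype.ext ?_)
      exact (hρ _ _).trans (mul_inv_eq_iff_eq_mul.mpr (h _ ⟨e.symm (up t), (hS _).mpr ⟨t, (e.apply_symm_apply _).symm⟩, rfl⟩))
  have hpV : ∀ x : Additive V, p • x = 0 := fun x =>
    Additive.toMul.injective (by rw [toMul_nsmul]; exact Subtype.ext (hVexp _ (Additive.toMul x).2))
  have hlev : lev ρ ≠ ⊥ := by
    refine lev_ne_bot (p := p) H hpV ?_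
    rcases hyp with hq | hle
    · left
      intro x t
      refine (hfix _).mpr ?_
      set T : Subgroup X := (S : Subgroup G).map G.subtype
      set s : X := ((e.symm (up t) : G) : X) with hs
      set v : X := ((Additive.toMul x : V) : X) with hv
      have hsT : s ∈ T := ⟨e.symm (up t), (hS _).mpr ⟨t, (e.apply_symm_apply _).symm⟩, rfl⟩
      have hc : ⁅v, s⁆ ∈ Subgroup.centralizer (T : Set X) :=
        Subgroup.commutator_eq_bot_iff_le_centralizer.mp hq (Subgroup.commutator_mem_commutator (Additive.toMul x).2 hsT)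
      have heq : ((Additive.toMul (ρ (up t) x - x) : V) : X) = ⁅v, s⁆⁻¹ := by
        rw [toMul_sub, Subgroup.coe_div, hρ, commutatorElement_def, div_eq_mul_inv]
        simp only [hs, hv]
        group
      rw [heq]
      exact inv_mem hc
    · right
      have e1 : Nat.card ↥(V ⊓ Subgroup.centralizer (((S : Subgroup G).map G.subtype : Subgroup X) : Set X)) =
          Nat.card (fix ρ) :=
        Nat.card_congr
          { toFun := fun v => ⟨Additive.ofMul (⟨v.1, v.2.1⟩ : V), (hfix _).mpr v.2.2⟩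
            invFun := fun x => ⟨((Additive.toMul x.1 : V) : X), (Additive.toMul x.1).2, (hfix _).mp x.2⟩
            left_inv := fun v => rfl
            right_inv := fun x => rfl }
      rw [← e1]; exact hle
  obtain ⟨Φ, hΦ⟩ := natural H hlev
  let ψ : V →* Multiplicative (Fin 2 → F) :=
    { toFun := fun v => Multiplicative.ofAdd (Φ.symm (Additive.ofMul v))
      map_one' := by simp
      map_mul' := fun a b => by simp [← ofAdd_add, map_add] }
  refine ⟨hGV, bot_le, e.toMonoidHom, ψ, MonoidHom.range_eq_top.mpr e.surjective, ?_, ?_, ?_⟩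
  · intro y
    exact ⟨Additive.toMul (Φ (Multiplicative.toAdd y)), by simp [ψ]⟩
  · intro u
    rw [Subgroup.mem_bot]
    constructor
    · intro h
      have h1 : Φ.symm (Additive.ofMul u) = 0 := congrArg Multiplicative.toAdd h
      have h2 : Additive.ofMul u = 0 := by
        rw [← Φ.apply_symm_apply (Additive.ofMul u), h1, map_zero]
      exact congrArg (fun w : Additive V => ((Additive.toMul w : V) : X)) h2
    · intro h
      rw [show u = 1 from Subtype.ext h, map_one]
  · intro l u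
    refine ⟨Additive.toMul (ρ (e l) (Additive.ofMul u)), ?_, ?_⟩
    · rw [hρ, MulEquiv.symm_apply_apply]; rfl
    · show Φ.symm (ρ (e l) (Additive.ofMul u)) = ((e l : Matrix.SpecialLinearGroup (Fin 2) F) : Matrix (Fin 2) (Fin 2) F).mulVec (Φ.symm (Additive.ofMul u))
      rw [AddEquiv.symm_apply_eq, hΦ, AddEquiv.apply_symm_apply]

end Cfsg.Agent.Invol.SL2Nat
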