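import Mathlib
import Cfsg.Prelude
import Cfsg.Agent.Lib.Invol.SL2Natural
import Cfsg.Agent.Lib.Invol.SL2FpfModule
import Cfsg.Agent.Lib.Fus.PSLTwo
import Cfsg.Agent.Lib.Recog.Zsigmondy

/-!
A quadratic element of a Sylow subgroup of `SL(2, q)` moves at least `q` cosets of its centralizer
in any faithful module in the defining characteristic.
-/

set_option autoImplicit false
set_option linter.unusedSectionVars false
set_option linter.style.haveILetI false

namespace Cfsg.Agent.Invol.SL2Nat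

open Matrix Cfsg.Agent.Grp.SL2
open scoped commutatorElement
open Cfsg.Agent.Invol.Nat2 (upG mem_upG dg dg_up)

universe u v

/-- The displacement map of an element. -/
def disp {V : Type u} [AddCommGroup V] (f : AddMonoid.End V) : V →+ V where
  toFun x := f x - x
  map_zero' := by simp
  map_add' a b := by rw [map_add, add_sub_add_comm]

section Odd

variable {F : Type v} [Field F] {V : Type u} [AddCommGroup V] {ρ : Matrix.SpecialLinearGroup (Fin 2) F →* AddMonoid.End V}

theorem lev_of_quadratic [Finite V] [Fintype F] {p : ℕ} [hp : Fact p.Prime] [CharP F p] (hp2 : p ≠ 2)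
    (hpV : ∀ x : V, p • x = 0) [Nontrivial V]
    (hneg : ∀ x, ρ (dg (-1 : F) (neg_ne_zero.mpr one_ne_zero)) x = -x) {t₀ : F} (ht₀ : t₀ ≠ 0)
    (hquad : ∀ x, ρ (up t₀) (ρ (up t₀) x - x) = ρ (up t₀) x - x) : lev ρ ≠ ⊥ := by
  have h2 : (2 : F) ≠ 0 := two_ne_zero' (p := p) hp2
  -- fixed points exist
  obtain ⟨v, hv, hv0⟩ : ∃ v ∈ fix ρ, v ≠ 0 := by
    have hV : IsPGroup p (Multiplicative V) := fun x => ⟨1, by
      rw [pow_one]; exact Multiplicative.toAdd.injective (by rw [toAdd_pow]; exact hpV _)⟩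
    have hUp : IsPGroup p (Multiplicative F) := fun x => ⟨1, by
      rw [pow_one]
      exact Multiplicative.toAdd.injective (by rw [toAdd_pow, nsmul_eq_mul, CharP.cast_eq_zero, zero_mul]; rfl)⟩
    letI : MulAction (Multiplicative F) V :=
      { smul := fun t x => ρ (up t.toAdd) x
        one_smul := fun x => by show ρ (up 0) x = x; rw [up_zero, map_one]; rfl
        mul_smul := fun s t x => by
          show ρ (up (s.toAdd + t.toAdd)) x = ρ (up s.toAdd) (ρ (up t.toAdd) x)
          rw [← act_mul, up_mul] }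
    obtain ⟨y, hy, hy0⟩ := hUp.exists_fixed_point_of_prime_dvd_card_of_fixed_point V
      (by
        obtain ⟨k, hk0, hk⟩ := (IsPGroup.nontrivial_iff_card hV).mp inferInstance
        rw [show Nat.card V = Nat.card (Multiplicative V) from rfl, hk]; exact dvd_pow_self p hk0.ne')
      (show (0 : V) ∈ MulAction.fixedPoints (Multiplicative F) V from fun t => map_zero _)
    exact ⟨y, fun t => hy (Multiplicative.ofAdd t), hy0.symm⟩
  have hneg' : ∀ (u : F), (∀ x, ρ (up u) (ρ (up u) x - x) = ρ (up u) x - x) →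
      ∀ x, ρ (up (-u)) x - x = -(ρ (up u) x - x) := fun u h x => by
    have h1 := congrArg (ρ (up (-u))) (h x)
    have e1 : ∀ y, ρ (up (-u)) (ρ (up u) y) = y := fun y => by
      rw [← act_mul ρ, up_mul, neg_add_cancel, up_zero, map_one]; rfl
    rw [e1, map_sub, e1] at h1
    rw [h1]; abel
  -- quadratic elements
  have hQ : ∀ b : F, b ≠ 0 → (∀ x, ρ (up (t₀ * b * b)) (ρ (up (t₀ * b * b)) x - x) = ρ (up (t₀ * b * b)) x - x) := by
    intro b hb x
    have e : up (t₀ * b * b) = dg b hb * up t₀ * (dg b hb)⁻¹ := by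
      rw [dg_up, mul_inv_cancel_right]; congr 1; ring
    obtain ⟨y, rfl⟩ : ∃ y, ρ (dg b hb) y = x := ⟨_, act_inv' ρ _ x⟩
    rw [e]
    have h := congrArg (ρ (dg b hb)) (hquad y)
    simp only [act_mul, act_inv, map_sub] at h ⊢
    exact h
  have key : ∀ t : F, t ≠ 0 → (∃ b : F, b ≠ 0 ∧ t = t₀ * b * b) →
      ρ (up t) (ρ wel v) - ρ wel v ∈ fix ρ := by
    rintro t ht ⟨b, hb, rfl⟩
    set t := t₀ * b * b with htdef
    set c := ρ (up t) (ρ wel v) - ρ wel v with hc
    set y := ρ (dg t ht) v with hy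
    have hfix : y ∈ fix ρ := dg_fix ht hv
    have hlow : ∀ (u : F) (hu : u ≠ 0), ρ (up u) (ρ wel v) = ρ (low u⁻¹) (ρ (dg u hu) v) := fun u hu => by
      rw [← act_mul, up_wel u hu, act_mul, act_mul, hv]
    have e1 : ρ (low t⁻¹) y = ρ wel v + c := by rw [← hlow t ht, hc]; abel
    have e2 : ρ (low (-t⁻¹)) y = c - ρ wel v := by
      have h := hlow (-t) (neg_ne_zero.mpr ht)
      have hd : ρ (dg (-t) (neg_ne_zero.mpr ht)) v = -y := by
        rw [hy, ← hneg (ρ (dg t ht) v), ← act_mul, dg_mul]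
        simp only [neg_one_mul]
      rw [hd, map_neg, inv_neg] at h
      have h' := hneg' t (hQ b hb) (ρ wel v)
      rw [← hc, h] at h'
      rw [← neg_neg (ρ (low (-t⁻¹)) y)]
      rw [sub_eq_iff_eq_add] at h'
      rw [h']; abel
    -- the lower element is quadratic
    have hu : ∀ x, ρ (up (-t⁻¹)) x - x = -(ρ (up (t₀ * (b / t) * (b / t))) x - x) := fun x => by
      have hb' : b / t ≠ 0 := div_ne_zero hb ht
      have := hneg' _ (hQ (b / t) hb') x
      rw [show -(t₀ * (b / t) * (b / t)) = -t⁻¹ by rw [htdef]; field_simp] at this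
      exact this
    set z := ρ wel⁻¹ y
    have h3 : ρ (low t⁻¹) y - y = -(ρ (low (-t⁻¹)) y - y) := by
      have hz1 := hu z
      rw [low_eq, low_eq, neg_neg, act_mul, act_mul, act_mul, act_mul]
      have e : t₀ * (b / t) * (b / t) = t⁻¹ := by rw [htdef]; field_simp
      rw [e] at hz1
      have h4 := congrArg (ρ wel) hz1
      rw [map_sub, map_neg, map_sub, show ρ wel z = y from act_inv' ρ wel y] at h4
      exact h4
    have h5 : c + c = y + y := by
      rw [e1, e2] at h3
      have : ρ wel v + c - y = -(c - ρ wel v - y) := h3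
      calc c + c = (ρ wel v + c - y) + (c - ρ wel v - y) + (y + y) := by abel
        _ = y + y := by rw [this]; abel
    have hcy : c = y := by
      have h6 : (2 : ℕ) • (c - y) = 0 := by rw [two_nsmul, sub_add_sub_comm, h5, sub_self]
      have hd1 := addOrderOf_dvd_of_nsmul_eq_zero h6
      have hd2 := addOrderOf_dvd_of_nsmul_eq_zero (hpV (c - y))
      have h1 : addOrderOf (c - y) = 1 :=
        Nat.eq_one_of_dvd_coprimes ((Nat.coprime_primes Nat.prime_two hp.out).mpr (Ne.symm hp2)) hd1 hd2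
      exact sub_eq_zero.mp (AddMonoid.addOrderOf_eq_one_iff.mp h1)
    rw [hcy]; exact hfix
  have hall : ∀ t, ρ (up t) (ρ wel v) - ρ wel v ∈ fix ρ := by
    let S : AddSubgroup F :=
      { carrier := {t | ρ (up t) (ρ wel v) - ρ wel v ∈ fix ρ}
        zero_mem' := by
          show ρ (up 0) (ρ wel v) - ρ wel v ∈ fix ρ
          rw [up_zero, map_one]; simp
        add_mem' := fun {a b} ha hb => by
          show ρ (up (a + b)) (ρ wel v) - ρ wel v ∈ fix ρ
          rw [← up_mul, act_mul, show ρ (up b) (ρ wel v) = (ρ (up b) (ρ wel v) - ρ wel v) + ρ wel v by abel,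
            map_add, hb a, add_sub_assoc]
          exact add_mem hb ha
        neg_mem' := fun {a} ha => by
          show ρ (up (-a)) (ρ wel v) - ρ wel v ∈ fix ρ
          have h1 : ρ (up (-a)) (ρ wel v) - ρ wel v = -(ρ (up (-a)) (ρ (up a) (ρ wel v) - ρ wel v)) := by
            rw [map_sub, ← act_mul ρ (up (-a)) (up a), up_mul, neg_add_cancel, up_zero, map_one,
              AddMonoid.End.coe_one, id_eq]
            abel
          rw [h1, ha (-a)]
          exact neg_mem ha }
    have hsq : ∀ b : F, t₀ * b * b ∈ S := fun b => by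
      rcases eq_or_ne b 0 with rfl | hb
      · simp only [mul_zero]; exact S.zero_mem
      · exact key _ (mul_ne_zero (mul_ne_zero ht₀ hb) hb) ⟨b, hb, rfl⟩
    intro t
    show t ∈ S
    have e : t = t₀ * ((t / t₀ + 1) / 2) * ((t / t₀ + 1) / 2) - t₀ * ((t / t₀ - 1) / 2) * ((t / t₀ - 1) / 2) := by
      field_simp; ring
    rw [e]
    exact S.sub_mem (hsq _) (hsq _)
  intro h
  have : v ∈ lev ρ := ⟨hv, hall⟩
  rw [h, AddSubgroup.mem_bot] at this
  exact hv0 this

theorem card_upFix [Fintype F] (t : F) (ht : t ≠ 0) (Φ : (Fin 2 → F) ≃+ V)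
    (hΦ : ∀ (g : Matrix.SpecialLinearGroup (Fin 2) F) (v : Fin 2 → F),
      Φ ((g : Matrix (Fin 2) (Fin 2) F).mulVec v) = ρ g (Φ v)) :
    Nat.card {x : V // ρ (up t) x = x} = Fintype.card F := by
  rw [← Nat.card_eq_fintype_card]
  have hup : ∀ c : F, ρ (up t) (Φ ![c, 0]) = Φ ![c, 0] := fun c => by
    rw [← hΦ]; congr 1; funext i; fin_cases i <;> simp [up, Matrix.mulVec, dotProduct, Fin.sum_univ_two]
  have hz : ∀ x : V, ρ (up t) x = x → Φ ![Φ.symm x 0, 0] = x := fun x hx => by
    have h1 : Φ.symm x 1 = 0 := by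
      have h2 := hΦ (up t) (Φ.symm x)
      rw [Φ.apply_symm_apply, hx] at h2
      have h3 := congrArg Φ.symm h2
      rw [Φ.symm_apply_apply] at h3
      have h4 := congrFun h3 0
      simp [up, Matrix.mulVec, dotProduct, Fin.sum_univ_two] at h4
      exact h4.resolve_left ht
    conv_rhs => rw [← Φ.apply_symm_apply x]
    congr 1; funext i; fin_cases i <;> simp [h1]
  exact (Nat.card_congr
    { toFun := fun c => (⟨Φ ![c, 0], hup c⟩ : {x : V // ρ (up t) x = x})
      invFun := fun x => Φ.symm x.1 0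
      left_inv := fun c => by simp
      right_inv := fun x => Subtype.ext (hz x.1 x.2) }).symm

end Odd

section Two

variable {F : Type v} [Field F] [CharP F 2]

/-- Every element has an involution inverting it. -/
theorem exists_inverting (g : Matrix.SpecialLinearGroup (Fin 2) F) :
    ∃ s : Matrix.SpecialLinearGroup (Fin 2) F, s * s = 1 ∧ s ≠ 1 ∧ s * g * s = g⁻¹ := by
  have h2 : (2 : F) = 0 := CharTwo.two_eq_zero
  have mk : ∀ x y z : F, ∀ h : x * x - y * z = 1, x * (g.1 0 0 + g.1 1 1) + y * g.1 1 0 + z * g.1 0 1 = 0 →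
      (x ≠ 1 ∨ y ≠ 0 ∨ z ≠ 0) →
      ∃ s : Matrix.SpecialLinearGroup (Fin 2) F, s * s = 1 ∧ s ≠ 1 ∧ s * g * s = g⁻¹ := by
    intro x y z h htr hne
    let s : Matrix.SpecialLinearGroup (Fin 2) F := ⟨!![x, y; z, x], by rw [Matrix.det_fin_two_of]; exact h⟩
    have hsq : ∀ u : Matrix.SpecialLinearGroup (Fin 2) F, u.1 0 0 + u.1 1 1 = 0 → u * u = 1 := by
      intro u hu
      have hd := det_eq u
      refine Subtype.ext ?_
      rw [Matrix.SpecialLinearGroup.coe_mul]
      ext i j
      fin_cases i <;> fin_cases j <;> simp [Matrix.mul_apply, Fin.sum_univ_two]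
      · linear_combination (u.1 0 0) * hu - hd - h2
      · linear_combination (u.1 0 1) * hu
      · linear_combination (u.1 1 0) * hu
      · linear_combination (u.1 1 1) * hu - hd - h2
    have hs : s * s = 1 := hsq s (by simp [s, CharTwo.add_self_eq_zero])
    refine ⟨s, hs, fun e => ?_, ?_⟩
    · have e00 := congrArg (fun u : Matrix.SpecialLinearGroup (Fin 2) F => u.1 0 0) e
      have e01 := congrArg (fun u : Matrix.SpecialLinearGroup (Fin 2) F => u.1 0 1) e
      have e10 := congrArg (fun u : Matrix.SpecialLinearGroup (Fin 2) F => u.1 1 0) e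
      simp [s] at e00 e01 e10
      rcases hne with h | h | h <;> contradiction
    · have hsg : (s * g) * (s * g) = 1 := hsq _ (by
        rw [Matrix.SpecialLinearGroup.coe_mul]
        simp [s, Matrix.mul_apply, Fin.sum_univ_two]
        linear_combination htr)
      calc s * g * s = s * g * (s * g) * g⁻¹ := by group
        _ = g⁻¹ := by rw [hsg, one_mul]
  by_cases hb : g.1 0 1 = 0
  · by_cases hc : g.1 1 0 = 0
    · exact mk 0 1 1 (by linear_combination -h2) (by rw [hb, hc]; ring) (Or.inr (Or.inl one_ne_zero))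
    · by_cases ha : g.1 0 0 + g.1 1 1 = 0
      · exact mk 1 0 1 (by ring) (by rw [ha, hb]; ring) (Or.inr (Or.inr one_ne_zero))
      · refine mk 1 ((g.1 0 0 + g.1 1 1) / g.1 1 0) 0 (by ring) ?_ (Or.inr (Or.inl (div_ne_zero ha hc)))
        rw [div_mul_cancel₀ _ hc, zero_mul, add_zero, one_mul, CharTwo.add_self_eq_zero]
  · by_cases ha : g.1 0 0 + g.1 1 1 = 0
    · by_cases hc : g.1 1 0 = 0
      · exact mk 1 1 0 (by ring) (by rw [ha, hc]; ring) (Or.inr (Or.inl one_ne_zero))
      · have hd := det_eq g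
        refine mk (g.1 0 0) (g.1 0 1) (g.1 1 0) ?_ ?_ (Or.inr (Or.inl hb))
        · linear_combination hd - (g.1 0 0) * ha + (g.1 0 0) * (g.1 0 0) * h2
        · rw [ha]; linear_combination (g.1 0 1 * g.1 1 0) * h2
    · refine mk 1 0 ((g.1 0 0 + g.1 1 1) / g.1 0 1) (by ring) ?_ (Or.inr (Or.inr (div_ne_zero ha hb)))
      rw [div_mul_cancel₀ _ hb, zero_mul, add_zero, one_mul, CharTwo.add_self_eq_zero]

theorem conj_up_one [Finite F] {u : Matrix.SpecialLinearGroup (Fin 2) F} (hu : u * u = 1) (hu1 : u ≠ 1) :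
    ∃ P, u = P * up 1 * P⁻¹ := by
  have h2 : (2 : F) = 0 := CharTwo.two_eq_zero
  have hd := det_eq u
  have e1 : u.1 0 0 = u.1 1 1 := by
    have e := congrArg (fun w : Matrix.SpecialLinearGroup (Fin 2) F => w.1 0 0) (inv_eq_of_mul_eq_one_right hu)
    simp [Matrix.SpecialLinearGroup.coe_inv, Matrix.adjugate_fin_two] at e
    exact e.symm
  have hsq : ∀ a : F, ∃ r, r * r = a := fun a => by
    obtain ⟨r, hr⟩ := FiniteField.isSquare_of_char_two (ringChar.eq F 2) a
    exact ⟨r, hr.symm⟩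
  obtain ⟨x, y, hxy⟩ : ∃ x y : F, u.1 0 1 * y * y - u.1 1 0 * x * x = 1 := by
    rcases ne_or_eq (u.1 0 1) 0 with hb | hb
    · obtain ⟨r, hr⟩ := hsq (u.1 0 1)⁻¹
      exact ⟨0, r, by rw [mul_assoc, hr, mul_inv_cancel₀ hb]; ring⟩
    · rcases ne_or_eq (u.1 1 0) 0 with hc | hc
      · obtain ⟨r, hr⟩ := hsq (u.1 1 0)⁻¹
        refine ⟨r, 0, ?_⟩
        rw [mul_assoc (u.1 1 0), hr, mul_inv_cancel₀ hc]
        linear_combination -h2
      · exfalso
        refine hu1 (Subtype.ext ?_)
        rw [hb, hc, e1] at hd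
        have h0 : (u.1 1 1 - 1) * (u.1 1 1 - 1) = 0 := by linear_combination hd + (1 - u.1 1 1) * h2
        have h11 : u.1 1 1 = 1 := sub_eq_zero.mp (mul_self_eq_zero.mp h0)
        rw [Matrix.eta_fin_two u.1, hb, hc, e1, h11, Matrix.SpecialLinearGroup.coe_one, Matrix.one_fin_two]
  rw [e1] at hd
  let P : Matrix.SpecialLinearGroup (Fin 2) F :=
    ⟨!![(u.1 1 1 - 1) * x + u.1 0 1 * y, x; u.1 1 0 * x + (u.1 1 1 - 1) * y, y], by
      rw [Matrix.det_fin_two_of]; linear_combination hxy⟩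
  refine ⟨P, ?_⟩
  rw [eq_mul_inv_iff_mul_eq]
  refine Subtype.ext ?_
  rw [Matrix.SpecialLinearGroup.coe_mul, Matrix.SpecialLinearGroup.coe_mul, Matrix.eta_fin_two u.1, e1]
  ext i j
  fin_cases i <;> fin_cases j <;> simp [P, up, Matrix.mul_apply, Fin.sum_univ_two]
  · linear_combination (-x) * hd + ((u.1 1 1 * u.1 1 1 - u.1 1 1) * x + u.1 0 1 * (u.1 1 1 - 1) * y) * h2
  · ring
  · linear_combination (-y) * hd + ((u.1 1 1 * u.1 1 1 - u.1 1 1) * y + u.1 1 0 * (u.1 1 1 - 1) * x) * h2
  · ring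

theorem exists_conj_up [Finite F] {u : Matrix.SpecialLinearGroup (Fin 2) F} (hu : u * u = 1) (hu1 : u ≠ 1) {t : F}
    (ht : t ≠ 0) : ∃ P, u = P * up t * P⁻¹ := by
  obtain ⟨P, hP⟩ := conj_up_one hu hu1
  obtain ⟨Q, hQ⟩ := conj_up_one (u := up t) (by rw [up_mul, CharTwo.add_self_eq_zero, up_zero]) (fun h => ht (by
    have := congrArg (fun w : Matrix.SpecialLinearGroup (Fin 2) F => w.1 0 1) h
    simpa [up] using this))
  exact ⟨P * Q⁻¹, by rw [hP, hQ]; group⟩

/-- An element of order `m` all of whose powers but the trivial ones cover a fixed element of odd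
prime order, with `m` a divisor of no small `2 ^ j - 1`. -/
theorem exists_regular [Fintype F] {n : ℕ} (hn : 2 ≤ n) (hF : Fintype.card F = 2 ^ n) :
    ∃ g h : Matrix.SpecialLinearGroup (Fin 2) F, h ∈ Subgroup.zpowers g ∧ h ≠ 1 ∧ Odd (orderOf h) ∧
      Odd (orderOf g) ∧ (∀ k ∈ Subgroup.zpowers g, k ≠ 1 → h ∈ Subgroup.zpowers k) ∧
      (∀ j, 1 ≤ j → orderOf g ∣ 2 ^ j - 1 → 2 * n ≤ j) ∧
      ∃ r b : ℕ, r.Prime ∧ r ≠ 2 ∧ 1 ≤ b ∧ orderOf g = r ^ b := by
  rcases eq_or_ne n 3 with rfl | hn3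
  · obtain ⟨τ, hτ⟩ : ∃ τ : F, τ * τ * τ + τ = 1 := by
      classical
      obtain ⟨x, hx0, hx1⟩ : ∃ x : F, x ≠ 0 ∧ x ≠ 1 := by
        by_contra h
        push Not at h
        have hle : Fintype.card F ≤ ({0, 1} : Finset F).card :=
          Finset.card_le_card fun x _ => by
            rcases eq_or_ne x 0 with rfl | hx
            · simp
            · simp [h x hx]
        have := hle.trans (Finset.card_le_two)
        omega
      have h7 := FiniteField.pow_card_sub_one_eq_one x hx0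
      rw [hF] at h7
      norm_num at h7
      have h2 : (2 : F) = 0 := CharTwo.two_eq_zero
      have hprod : (x - 1) * (x * x * x + x + 1) * (x * x * x + x * x + 1) = 0 := by
        linear_combination h7 + (x - 1) * x ^ 3 * h2
      rcases mul_eq_zero.mp hprod with h | h
      · rcases mul_eq_zero.mp h with h | h
        · exact absurd (sub_eq_zero.mp h) hx1
        · exact ⟨x, by linear_combination h - h2⟩
      · refine ⟨x⁻¹, ?_⟩
        field_simp
        linear_combination h - x * x * x * h2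
    have h2 : (2 : F) = 0 := CharTwo.two_eq_zero
    let g : Matrix.SpecialLinearGroup (Fin 2) F :=
      ⟨!![0, 1; 1, τ], by rw [Matrix.det_fin_two_of]; linear_combination -h2⟩
    have e3 : ((g ^ 3 : Matrix.SpecialLinearGroup (Fin 2) F) : Matrix (Fin 2) (Fin 2) F) =
        !![τ, 1 + τ * τ; 1 + τ * τ, τ * τ * τ] := by
      rw [pow_succ, pow_two, Matrix.SpecialLinearGroup.coe_mul, Matrix.SpecialLinearGroup.coe_mul]
      ext i j
      fin_cases i <;> fin_cases j <;> simp [g, Matrix.mul_apply, Fin.sum_univ_two]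
      linear_combination τ * h2
    have h31 : g ^ 3 ≠ 1 := fun h => by
      have e := congrArg (fun w : Matrix.SpecialLinearGroup (Fin 2) F => w.1 0 0) h
      have e' : τ = 1 := by simpa [e3] using e
      subst e'
      exact one_ne_zero (show (1 : F) = 0 by linear_combination h2 - hτ)
    have h33 : g ^ 9 = 1 := by
      rw [show (9 : ℕ) = 3 * 3 from rfl, pow_mul, pow_succ, pow_two]
      refine SL2Fpf.cube_eq_one ?_
      simp only [SL2Fpf.tr, e3]
      simp
      linear_combination hτ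
    have ho : orderOf g = 9 := by
      haveI : Fact (Nat.Prime 3) := ⟨Nat.prime_three⟩
      exact orderOf_eq_prime_pow (p := 3) (n := 1) (by simpa using h31) (by simpa using h33)
    refine ⟨g, g ^ 3, pow_mem (Subgroup.mem_zpowers g) 3, h31, ?_, ho ▸ ⟨4, rfl⟩, ?_, ?_, 3, 2, Nat.prime_three, by norm_num, by norm_num, by rw [ho]; norm_num⟩
    · exact Odd.of_dvd_nat (ho ▸ ⟨4, rfl⟩ : Odd (orderOf g)) (orderOf_pow_dvd 3)
    · intro k hk hk1
      obtain ⟨i, rfl⟩ := (Submonoid.mem_powers_iff _ _).mp ((isOfFinOrder_of_finite g).mem_powers_iff_mem_zpowers.mpr hk)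
      have key : ∀ i : Fin 9, i.1 ≠ 0 → ∃ s : Fin 9, i.1 * s.1 % 9 = 3 := by decide
      have hi : i % 9 ≠ 0 := fun h => hk1 (by rw [← pow_mod_orderOf, ho, h, pow_zero])
      obtain ⟨s, hs⟩ := key ⟨i % 9, Nat.mod_lt _ (by norm_num)⟩ hi
      refine ⟨(s.1 : ℤ), ?_⟩
      show (g ^ i) ^ (s.1 : ℤ) = g ^ 3
      rw [zpow_natCast, ← pow_mul, ← pow_mod_orderOf, ho, Nat.mul_mod, Nat.mod_eq_of_lt s.2]
      exact congrArg (g ^ ·) hs
    · intro j hj hd
      rw [ho] at hd
      by_contra hlt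
      have : j < 6 := by omega
      interval_cases j <;> norm_num at hd
  · obtain ⟨r, hr, hrd, hrn⟩ := Recog.Zsigmondy.exists_primitive (a := 2) (n := 2 * n) le_rfl (by omega)
      (fun h => hn3 (by omega)) (fun h => by omega)
    haveI : Fact r.Prime := ⟨hr⟩
    have hr1 : r ∣ 2 ^ n + 1 := by
      have e : 2 ^ (2 * n) - 1 = (2 ^ n + 1) * (2 ^ n - 1) := by
        rw [mul_comm 2 n, pow_mul, show ((2:ℕ) ^ n) ^ 2 - 1 = (2 ^ n) ^ 2 - 1 ^ 2 by norm_num, Nat.sq_sub_sq]
      rw [e] at hrd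
      exact (hr.dvd_mul.mp hrd).resolve_right (hrn n (by omega) (by omega))
    have hr2 : r ≠ 2 := fun h => by
      subst h
      have h2n : 2 ∣ 2 ^ n := dvd_pow_self 2 (by omega)
      omega
    obtain ⟨g, hg⟩ := exists_prime_orderOf_dvd_card' (G := Matrix.SpecialLinearGroup (Fin 2) F) r (by
      rw [Fus.PSLTwo.natCard_SL_two, hF]
      exact (hr1.mul_left _).mul_left _)
    refine ⟨g, g, Subgroup.mem_zpowers g, fun h => ?_, hg ▸ hr.odd_of_ne_two hr2, hg ▸ hr.odd_of_ne_two hr2, ?_, ?_,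
      r, 1, hr, hr2, le_rfl, by rw [hg, pow_one]⟩
    · rw [h, orderOf_one] at hg; exact hr.one_lt.ne hg
    · intro k hk hk1
      have hc : Nat.card (Subgroup.zpowers g) = r := by rw [Nat.card_zpowers, hg]
      have hsub : Subgroup.zpowers k ≤ Subgroup.zpowers g := Subgroup.zpowers_le.mpr hk
      haveI : Fact (Nat.card (Subgroup.zpowers g)).Prime := ⟨hc ▸ hr⟩
      rcases Subgroup.eq_bot_or_eq_top_of_prime_card ((Subgroup.zpowers k).subgroupOf (Subgroup.zpowers g)) with h | h
      · exfalso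
        have h1 : (⟨k, hk⟩ : Subgroup.zpowers g) ∈ (Subgroup.zpowers k).subgroupOf (Subgroup.zpowers g) :=
          Subgroup.mem_zpowers k
        rw [h, Subgroup.mem_bot] at h1
        exact hk1 (congrArg Subtype.val h1)
      · exact Subgroup.subgroupOf_eq_top.mp h (Subgroup.mem_zpowers g)
    · intro j hj hd
      rw [hg] at hd
      by_contra hlt
      exact hrn j hj (by omega) hd

variable {V : Type u} [AddCommGroup V] {ρ : Matrix.SpecialLinearGroup (Fin 2) F →* AddMonoid.End V}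

theorem two_bound [Finite V] [Fintype F] {n : ℕ} (hn : 2 ≤ n) (hF : Fintype.card F = 2 ^ n)
    (hV2 : ∀ x : V, x + x = 0) (hfaith : ∀ g, (∀ x, ρ g x = x) → g = 1) {t : F} (ht : t ≠ 0) :
    2 ^ n * Nat.card {x : V // ρ (up t) x = x} ≤ Nat.card V := by
  classical
  obtain ⟨g₀, h₀, hh₀, hh1₀, hho₀, hgo₀, hsub₀, hbig₀, -⟩ := exists_regular hn hF
  obtain ⟨s, hs2, hs1, hsg⟩ := exists_inverting g₀
  obtain ⟨P, hP⟩ := exists_conj_up hs2 hs1 ht
  set c : Matrix.SpecialLinearGroup (Fin 2) F ≃* Matrix.SpecialLinearGroup (Fin 2) F := MulAut.conj P⁻¹ with hcdef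
  set g := c g₀ with hgdef
  set h := c h₀ with hhdef
  set a : Matrix.SpecialLinearGroup (Fin 2) F := up t with hadef
  have hca : c s = a := by rw [hcdef, hP]; simp [mul_assoc]
  have ha2 : a * a = 1 := by rw [← hca, ← map_mul, hs2, map_one]
  have hag : a * g * a = g⁻¹ := by rw [← hca, hgdef, ← map_mul, ← map_mul, hsg, map_inv]
  have hgo : Odd (orderOf g) := by rw [hgdef, MulEquiv.orderOf_eq]; exact hgo₀
  have hh1 : h ≠ 1 := fun e => hh1₀ (c.injective (by rw [map_one]; exact e))
  have hho : Odd (orderOf h) := by rw [hhdef, MulEquiv.orderOf_eq]; exact hho₀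
  have hbig : ∀ j, 1 ≤ j → orderOf g ∣ 2 ^ j - 1 → 2 * n ≤ j := by rw [hgdef, MulEquiv.orderOf_eq]; exact hbig₀
  obtain ⟨e, he⟩ : ∃ e : ℕ, g ^ e = h := by
    obtain ⟨e, he⟩ := (Submonoid.mem_powers_iff _ _).mp ((isOfFinOrder_of_finite g₀).mem_powers_iff_mem_zpowers.mpr hh₀)
    exact ⟨e, by rw [hgdef, hhdef, ← he, map_pow]⟩
  have hsub : ∀ k ∈ Subgroup.zpowers g, k ≠ 1 → h ∈ Subgroup.zpowers k := by
    rintro _ ⟨i, rfl⟩ hk1
    obtain ⟨j, hj⟩ := hsub₀ (g₀ ^ i) ⟨i, rfl⟩ (fun e => hk1 (by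
      show g ^ i = 1
      rw [hgdef, ← map_zpow, e, map_one]))
    refine ⟨j, ?_⟩
    show (g ^ i) ^ j = h
    rw [hgdef, hhdef, ← hj, ← map_zpow, ← map_zpow]
  -- the commutator of `h`
  let φ : V →+ V := disp (ρ h)
  set M : AddSubgroup V := φ.range with hM
  have hMg : ∀ k, Commute k h → ∀ y ∈ M, ρ k y ∈ M := by
    rintro k hk _ ⟨x, rfl⟩
    refine ⟨ρ k x, ?_⟩
    show ρ h (ρ k x) - ρ k x = ρ k (ρ h x - x)
    rw [map_sub, ← act_mul, ← hk.eq, act_mul]
  have hfpf : ∀ y ∈ M, ρ h y = y → y = 0 := by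
    rintro _ ⟨x, rfl⟩ hy
    change ρ h (ρ h x - x) = ρ h x - x at hy
    show ρ h x - x = 0
    set y := ρ h x - x with hyd
    have hk : ∀ k : ℕ, ρ (h ^ k) x = x + k • y := by
      intro k
      induction k with
      | zero => rw [pow_zero, map_one, zero_smul, add_zero]; rfl
      | succ k ih =>
        rw [pow_succ', act_mul, ih, map_add, map_nsmul, hy, succ_nsmul]
        rw [show ρ h x = x + y by rw [hyd]; abel]
        abel
    have h0 := hk (orderOf h)
    rw [pow_orderOf_eq_one, map_one] at h0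
    change x = x + orderOf h • y at h0
    have h1 : orderOf h • y = 0 := left_eq_add.mp h0
    obtain ⟨m, hm⟩ := hho
    rw [hm, succ_nsmul, mul_comm, mul_nsmul', two_nsmul, hV2] at h1
    simpa using h1
  have hreg : ∀ y ∈ M, y ≠ 0 → ∀ k ∈ Subgroup.zpowers g, ρ k y = y → k = 1 := by
    intro y hy hy0 k hk hky
    by_contra hk1
    let St : Subgroup (Matrix.SpecialLinearGroup (Fin 2) F) :=
      { carrier := {w | ρ w y = y}
        one_mem' := by show ρ 1 y = y; rw [map_one]; rfl
        mul_mem' := fun {u v} hu hv => by show ρ (u * v) y = y; rw [act_mul, hv, hu]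
        inv_mem' := fun {u} hu => by
          show ρ u⁻¹ y = y
          conv_lhs => rw [← show ρ u y = y from hu]
          rw [act_inv] }
    exact hy0 (hfpf y hy (Subgroup.zpowers_le.mpr (show k ∈ St from hky) (hsub k hk hk1)))
  have hgh : Commute g h := he ▸ Commute.self_pow g e
  have hMpow : ∀ k ∈ Subgroup.zpowers g, ∀ y ∈ M, ρ k y ∈ M := by
    rintro _ ⟨i, rfl⟩
    exact hMg _ (hgh.zpow_left i)
  -- counting
  have hM0 : M ≠ ⊥ := fun h0 => hh1 (hfaith h fun x => sub_eq_zero.mp (by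
    have : φ x ∈ M := ⟨x, rfl⟩
    rwa [h0, AddSubgroup.mem_bot] at this))
  have hbigM : 2 ^ n * 2 ^ n ≤ Nat.card M := by
    let X := {y : M // y ≠ 0}
    letI : MulAction (Subgroup.zpowers g) X :=
      { smul := fun k y => ⟨⟨ρ k.1 y.1.1, hMpow _ k.2 _ y.1.2⟩, fun e => y.2 (Subtype.ext (by
          have e' := congrArg (fun z : M => ρ k.1⁻¹ (z : V)) e
          simpa [act_inv] using e'))⟩
        one_smul := fun y => Subtype.ext (Subtype.ext (by show ρ 1 _ = _; rw [map_one]; rfl))
        mul_smul := fun k l y => Subtype.ext (Subtype.ext (by show ρ (k.1 * l.1) _ = _; rw [act_mul]; rfl)) }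
    have hdvd : orderOf g ∣ Nat.card X := by
      haveI := Fintype.ofFinite (Quotient (MulAction.orbitRel (Subgroup.zpowers g) X))
      rw [Nat.card_congr (MulAction.selfEquivSigmaOrbitsQuotientStabilizer (Subgroup.zpowers g) X), Nat.card_sigma]
      refine Finset.dvd_sum fun ω _ => ?_
      have hbot : MulAction.stabilizer (Subgroup.zpowers g) ω.out = ⊥ := by
        refine (Subgroup.eq_bot_iff_forall _).mpr fun k hk => Subtype.ext ?_
        refine hreg _ ω.out.1.2 (fun e => ω.out.2 (Subtype.ext e)) k.1 k.2 ?_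
        exact congrArg (fun z : X => (z.1 : V)) hk
      rw [← Subgroup.index_eq_card, hbot, Subgroup.index_bot, Nat.card_zpowers]
    have hcard : Nat.card M = Nat.card X + 1 := by
      rw [← Nat.card_congr (Equiv.optionSubtypeNe (0 : M)), Finite.card_option]
    haveI : Fact (Nat.Prime 2) := ⟨Nat.prime_two⟩
    have hMp : IsPGroup 2 (Multiplicative M) := fun x => ⟨1, by
      rw [pow_one, pow_two]
      exact Multiplicative.toAdd.injective (Subtype.ext (hV2 _))⟩
    obtain ⟨j, hj⟩ := IsPGroup.iff_card.mp hMp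
    rw [show Nat.card (Multiplicative M) = Nat.card M from rfl] at hj
    have hj1 : 1 ≤ j := by
      rcases Nat.eq_zero_or_pos j with rfl | h
      · exact absurd (AddSubgroup.card_eq_one.mp (by rw [hj, pow_zero])) hM0
      · exact h
    have := hbig j hj1 (by rw [← hj, hcard, Nat.add_sub_cancel]; exact hdvd)
    rw [hj, ← pow_add]
    exact Nat.pow_le_pow_right (by norm_num) (by omega)
  -- the involution
  have haM : ∀ y ∈ M, ρ a y ∈ M := by
    rintro _ ⟨x, rfl⟩
    refine ⟨-ρ h⁻¹ (ρ a x), ?_⟩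
    have hah : a * h = h⁻¹ * a := by
      have ha' : a⁻¹ = a := inv_eq_of_mul_eq_one_right ha2
      have : a * h * a⁻¹ = h⁻¹ := by rw [← he, ← conj_pow, ha', hag, inv_pow]
      rw [← this, inv_mul_cancel_right]
    show ρ h (-ρ h⁻¹ (ρ a x)) - -ρ h⁻¹ (ρ a x) = ρ a (ρ h x - x)
    rw [map_sub, ← act_mul ρ a h, hah, act_mul, map_neg, act_inv']
    abel
  let ψ : V →+ V := disp (ρ a)
  have hker : Nat.card ψ.ker = Nat.card {x : V // ρ a x = x} :=
    Nat.card_congr (Equiv.subtypeEquivRight fun x => by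
      rw [AddMonoidHom.mem_ker]
      exact sub_eq_zero)
  have hsplit : ∀ (f : V →+ V) (U : AddSubgroup V), Nat.card U = Nat.card (U.map f) * Nat.card ↥(f.ker.addSubgroupOf U) := by
    intro f U
    have e1 := AddSubgroup.card_eq_card_quotient_mul_card_addSubgroup (f.comp U.subtype).ker
    have e2 : Nat.card (U ⧸ (f.comp U.subtype).ker) = Nat.card (U.map f) := by
      rw [Nat.card_congr (QuotientAddGroup.quotientKerEquivRange _).toEquiv, AddMonoidHom.range_comp, AddSubgroup.range_subtype]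
    rw [e2] at e1
    exact e1
  set C := ψ.ker.addSubgroupOf M with hC
  have hCC : Nat.card C * Nat.card C ≤ Nat.card M := by
    have hgM : g ∈ Subgroup.zpowers g := Subgroup.mem_zpowers g
    let f : C × C → M := fun w => ⟨(w.1.1 : V) + ρ g (w.2.1 : V), add_mem w.1.1.2 (hMpow g hgM _ w.2.1.2)⟩
    rw [← Nat.card_prod]
    refine Nat.card_le_card_of_injective f ?_
    rintro ⟨⟨u, hu⟩, ⟨v, hv⟩⟩ ⟨⟨u', hu'⟩, ⟨v', hv'⟩⟩ e
    have e' : (u : V) + ρ g (v : V) = (u' : V) + ρ g (v' : V) := congrArg Subtype.val e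
    have hfu : ρ a (u : V) = u := sub_eq_zero.mp hu
    have hfv : ρ a (v : V) = v := sub_eq_zero.mp hv
    have hfu' : ρ a (u' : V) = u' := sub_eq_zero.mp hu'
    have hfv' : ρ a (v' : V) = v' := sub_eq_zero.mp hv'
    set z : V := (v : V) - v' with hz
    have hgz : ρ g z = (u' : V) - u := by rw [hz, map_sub, sub_eq_sub_iff_add_eq_add, add_comm, e']; 
    have hfz : ρ a z = z := by rw [hz, map_sub, hfv, hfv']
    have hfgz : ρ a (ρ g z) = ρ g z := by rw [hgz, map_sub, hfu, hfu']
    have hag' : ρ a (ρ g z) = ρ g⁻¹ z := by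
      rw [← hag, act_mul, act_mul, hfz]
    have hg2 : ρ (g * g) z = z := by
      rw [act_mul]
      conv_rhs => rw [← act_inv' ρ g z, ← hag', hfgz]
    have hz0 : z = 0 := by
      by_contra hne
      have h1 := hreg z (sub_mem v.2 v'.2) hne (g * g) (mul_mem hgM hgM) hg2
      obtain ⟨m, hm⟩ := hgo
      have h2 : orderOf g ∣ 2 := orderOf_dvd_of_pow_eq_one (by rw [pow_two, h1])
      have h3 : orderOf g = 1 := by
        have := Nat.le_of_dvd (by norm_num) h2
        omega
      refine hh1 ?_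
      rw [← he, orderOf_eq_one_iff.mp h3, one_pow]
    have hvv : (v : V) = v' := sub_eq_zero.mp hz0
    have huu : (u : V) = u' := by rw [hvv] at e'; exact add_right_cancel e'
    exact Prod.ext (Subtype.ext (Subtype.ext huu)) (Subtype.ext (Subtype.ext hvv))
  have hR : 2 ^ n ≤ Nat.card (M.map ψ) := by
    have e := hsplit ψ M
    by_contra hlt
    push Not at hlt
    have hC0 : 0 < Nat.card C := Nat.card_pos
    have hCR : Nat.card C ≤ Nat.card (M.map ψ) := Nat.le_of_mul_le_mul_right (e ▸ hCC) hC0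
    have : Nat.card M < 2 ^ n * 2 ^ n := by
      rw [e]; exact Nat.mul_lt_mul'' hlt (lt_of_le_of_lt hCR hlt)
    omega
  have hV := AddSubgroup.card_eq_card_quotient_mul_card_addSubgroup ψ.ker
  rw [Nat.card_congr (QuotientAddGroup.quotientKerEquivRange ψ).toEquiv, hker] at hV
  rw [hV]
  exact Nat.mul_le_mul_right _ (hR.trans (AddSubgroup.card_le_of_le (AddSubgroup.map_le_range ψ M)))

end Two

section OddBound

variable {F : Type v} [Field F] {V : Type u} [AddCommGroup V] {ρ : Matrix.SpecialLinearGroup (Fin 2) F →* AddMonoid.End V}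

theorem odd_bound [Finite V] [Fintype F] {p n : ℕ} [hp : Fact p.Prime] [CharP F p] (hp2 : p ≠ 2)
    (hF : Fintype.card F = p ^ n)
    (hpV : ∀ x : V, p • x = 0) (hfaith : ∀ g, (∀ x, ρ g x = x) → g = 1) {t : F} (ht : t ≠ 0)
    (hquad : ∀ x, ρ (up t) (ρ (up t) x - x) = ρ (up t) x - x) :
    p ^ n * Nat.card {x : V // ρ (up t) x = x} ≤ Nat.card V := by
  classical
  have h2 : (2 : F) ≠ 0 := two_ne_zero' (p := p) hp2
  set z := dg (-1 : F) (neg_ne_zero.mpr one_ne_zero) with hzdef
  have hz1 : z ≠ 1 := fun e => h2 (by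
    have := congrArg (fun w : Matrix.SpecialLinearGroup (Fin 2) F => w.1 0 0) e
    simp [hzdef, dg] at this
    linear_combination -this)
  have hzc : ∀ g, Commute z g := fun g => by
    refine Subtype.ext ?_
    rw [Matrix.SpecialLinearGroup.coe_mul, Matrix.SpecialLinearGroup.coe_mul]
    ext i j
    fin_cases i <;> fin_cases j <;> simp [hzdef, dg, Matrix.mul_apply, Fin.sum_univ_two, inv_neg]
  have hz2 : z * z = 1 := by
    rw [hzdef, dg_mul]
    have : ((-1 : F) * -1) = 1 := by ring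
    simp only [this]
    exact dg_one
  obtain ⟨x₀, hx₀⟩ : ∃ x, ρ z x ≠ x := by
    by_contra hc
    push Not at hc
    exact hz1 (hfaith z hc)
  let Good : AddSubgroup V → Prop := fun U =>
    U ≠ ⊥ ∧ (∀ g, ∀ x ∈ U, ρ g x ∈ U) ∧ ∀ x ∈ U, ρ z x = -x
  have hex : ∃ U, Good U := by
    let E : AddSubgroup V :=
      { carrier := {x | ρ z x = -x}
        zero_mem' := by simp
        add_mem' := fun {a b} ha hb => by
          show ρ z (a + b) = -(a + b)
          rw [map_add, show ρ z a = -a from ha, show ρ z b = -b from hb, neg_add]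
        neg_mem' := fun {a} ha => by show ρ z (-a) = - -a; rw [map_neg, show ρ z a = -a from ha] }
    refine ⟨E, ?_, ?_, fun x hx => hx⟩
    · intro hb
      have hm : x₀ - ρ z x₀ ∈ E := by
        show ρ z (x₀ - ρ z x₀) = -(x₀ - ρ z x₀)
        rw [map_sub, ← act_mul, hz2, map_one]
        show ρ z x₀ - x₀ = _
        abel
      rw [hb, AddSubgroup.mem_bot, sub_eq_zero] at hm
      exact hx₀ hm.symm
    · intro g x hx
      show ρ z (ρ g x) = -ρ g x
      rw [← act_mul, (hzc g).eq, act_mul, show ρ z x = -x from hx, map_neg]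
  obtain ⟨U, hU, hmin⟩ := (Set.toFinite {U | Good U}).exists_minimal hex
  obtain ⟨hU0, hUinv, hUz⟩ := hU
  let ρ' : Matrix.SpecialLinearGroup (Fin 2) F →* AddMonoid.End U :=
    { toFun := fun g => ((ρ g : V →+ V).comp U.subtype).codRestrict U (fun x => hUinv g x x.2)
      map_one' := AddMonoidHom.ext fun x => Subtype.ext (by show ρ 1 x.1 = x.1; rw [map_one]; rfl)
      map_mul' := fun g g' => AddMonoidHom.ext fun x => Subtype.ext (act_mul ρ g g' x.1) }
  haveI : Nontrivial U := (AddSubgroup.nontrivial_iff_ne_bot U).mpr hU0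
  have hcoe : ∀ g (x : U), ((ρ' g x : U) : V) = ρ g x := fun g x => rfl
  have H : Irr ρ' := by
    refine ⟨fun W hW => ?_, ?_⟩
    · by_cases hb : W = ⊥
      · exact Or.inl hb
      right
      have hle : W.map U.subtype ≤ U := fun x hx => by obtain ⟨y, -, rfl⟩ := hx; exact y.2
      have hG : Good (W.map U.subtype) :=
        ⟨fun e => hb ((AddSubgroup.map_eq_bot_iff_of_injective W U.subtype_injective).mp e),
          fun g x hx => by obtain ⟨y, hy, rfl⟩ := hx; exact ⟨_, hW g y hy, rfl⟩,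
          fun x hx => hUz x (hle hx)⟩
      refine eq_top_iff.mpr fun x _ => ?_
      obtain ⟨y, hy, hye⟩ := hmin hG hle x.2
      rwa [Subtype.ext hye] at hy
    · obtain ⟨x, hx⟩ := exists_ne (0 : U)
      refine ⟨z, x, fun e => hx ?_⟩
      have e' : -(x : V) = (x : V) := (hUz x x.2).symm.trans (congrArg Subtype.val e)
      have h2x : (2 : ℕ) • (x : V) = 0 := by rw [two_nsmul]; nth_rw 1 [← e']; exact neg_add_cancel _
      have h1 : addOrderOf (x : V) = 1 :=
        Nat.eq_one_of_dvd_coprimes ((Nat.coprime_primes Nat.prime_two hp.out).mpr (Ne.symm hp2))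
          (addOrderOf_dvd_of_nsmul_eq_zero h2x) (addOrderOf_dvd_of_nsmul_eq_zero (hpV _))
      exact Subtype.ext (AddMonoid.addOrderOf_eq_one_iff.mp h1)
  have hlev : lev ρ' ≠ ⊥ := lev_of_quadratic hp2 (fun x => Subtype.ext (hpV x.1))
    (fun x => Subtype.ext (hUz x.1 x.2)) ht (fun x => Subtype.ext (hquad x.1))
  obtain ⟨Φ, hΦ⟩ := natural H hlev
  have hc := card_upFix t ht Φ hΦ
  have hUc : Nat.card U = p ^ n * p ^ n := by
    rw [← Nat.card_congr Φ.toEquiv, Nat.card_fun, Nat.card_eq_fintype_card (α := F), hF]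
    simp [pow_two]
  let ψ : V →+ V := disp (ρ (up t))
  have hker : Nat.card ψ.ker = Nat.card {x : V // ρ (up t) x = x} :=
    Nat.card_congr (Equiv.subtypeEquivRight fun x => by rw [AddMonoidHom.mem_ker]; exact sub_eq_zero)
  have hker' : Nat.card (ψ.comp U.subtype).ker = p ^ n := by
    rw [← hF, ← hc]
    exact Nat.card_congr (Equiv.subtypeEquivRight fun x => by
      rw [AddMonoidHom.mem_ker]
      exact sub_eq_zero.trans ⟨fun e => Subtype.ext e, fun e => congrArg Subtype.val e⟩)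
  have e1 := AddSubgroup.card_eq_card_quotient_mul_card_addSubgroup (ψ.comp U.subtype).ker
  rw [hker', hUc, Nat.card_congr (QuotientAddGroup.quotientKerEquivRange _).toEquiv] at e1
  have hR : p ^ n ≤ Nat.card (ψ.comp U.subtype).range :=
    (Nat.eq_of_mul_eq_mul_right (pow_pos hp.out.pos n) e1).le
  have hV := AddSubgroup.card_eq_card_quotient_mul_card_addSubgroup ψ.ker
  rw [Nat.card_congr (QuotientAddGroup.quotientKerEquivRange ψ).toEquiv, hker] at hV
  rw [hV]
  refine Nat.mul_le_mul_right _ (hR.trans (AddSubgroup.card_le_of_le ?_))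
  rintro _ ⟨x, rfl⟩
  exact ⟨x.1, rfl⟩

end OddBound

theorem quadratic_bound_group {G : Type*} [Group G] [Finite G] {p : ℕ} [hp : Fact p.Prime] (V H : Subgroup G)
    (hV : Cfsg.IsElementaryAbelian p V) (hHV : H ≤ Subgroup.normalizer (V : Set G))
    (hf : H ⊓ Subgroup.centralizer (V : Set G) = ⊥) {F : Type*} [Field F] [Fintype F] (n : ℕ)
    (hF : Fintype.card F = p ^ n) (hiso : Nonempty (↥H ≃* Matrix.SpecialLinearGroup (Fin 2) F)) (S : Sylow p ↥H)
    (T : Subgroup G) (hT : T = ((S : Subgroup ↥H).map H.subtype)) (A : Subgroup G) (hA : A ≤ T)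
    (hA3 : 3 ≤ Nat.card A) (hquad : ⁅⁅V, A⁆, A⁆ = ⊥) :
    ∀ a ∈ A, a ≠ 1 → p ^ n ≤ ((V ⊓ Subgroup.centralizer ({a} : Set G))).relIndex V := by
  classical
  subst hT
  obtain ⟨hVab, hVexp⟩ := hV
  haveI : CharP F p := Nat2.charP_of_card hF
  obtain ⟨e₀⟩ := hiso
  obtain ⟨g₀, hg₀⟩ := Nat2.exists_conj_upG p (S.mapSurjective (f := e₀.toMonoidHom) e₀.surjective)
  let e : H ≃* Matrix.SpecialLinearGroup (Fin 2) F := e₀.trans (MulAut.conj g₀⁻¹)
  have hS : ∀ s : H, s ∈ (S : Subgroup H) → ∃ t, up t = e s := by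
    intro s hs
    have h1 : (S : Subgroup H).map e₀.toMonoidHom =
        (upG : Subgroup (Matrix.SpecialLinearGroup (Fin 2) F)).map (MulAut.conj g₀).toMonoidHom := hg₀
    obtain ⟨_, ⟨t, rfl⟩, ht⟩ := (h1 ▸ ⟨s, hs, rfl⟩ :
      e₀ s ∈ (upG : Subgroup (Matrix.SpecialLinearGroup (Fin 2) F)).map (MulAut.conj g₀).toMonoidHom)
    refine ⟨t, ?_⟩
    show up t = g₀⁻¹ * e₀ s * g₀⁻¹⁻¹
    rw [← ht]; simp [mul_assoc]
  letI : CommGroup V := { (inferInstance : Group V) with mul_comm := fun a b => hVab.is_comm.comm a b }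
  let c : H →* MulAut V := (V.normalizerMonoidHom).comp (Subgroup.inclusion hHV)
  let am : MulAut V →* AddMonoid.End (Additive V) :=
    { toFun := fun f => MonoidHom.toAdditive f.toMonoidHom
      map_one' := rfl
      map_mul' := fun f g => rfl }
  let ρ : Matrix.SpecialLinearGroup (Fin 2) F →* AddMonoid.End (Additive V) := (am.comp c).comp e.symm.toMonoidHom
  have hρ : ∀ g x, ((Additive.toMul (ρ g x) : V) : G) =
      ((e.symm g : H) : G) * ((Additive.toMul x : V) : G) * ((e.symm g : H) : G)⁻¹ := fun g x => rfl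
  have hpV : ∀ x : Additive V, p • x = 0 := fun x =>
    Additive.toMul.injective (by rw [toMul_nsmul]; exact Subtype.ext (hVexp _ (Additive.toMul x).2))
  have hfaith : ∀ g, (∀ x, ρ g x = x) → g = 1 := by
    intro g hg
    have hm : ((e.symm g : H) : G) ∈ H ⊓ Subgroup.centralizer (V : Set G) := by
      refine ⟨(e.symm g).2, Subgroup.mem_centralizer_iff.mpr fun v hv => ?_⟩
      have h1 := congrArg (fun w : Additive V => ((Additive.toMul w : V) : G)) (hg (Additive.ofMul ⟨v, hv⟩))
      simp only [hρ, toMul_ofMul] at h1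
      exact (mul_inv_eq_iff_eq_mul.mp h1).symm
    rw [hf, Subgroup.mem_bot] at hm
    rw [← e.apply_symm_apply g, show e.symm g = 1 from Subtype.ext hm, map_one]
  intro a ha ha1
  obtain ⟨s, hs, hsa⟩ := hA ha
  obtain ⟨t, ht⟩ := hS s hs
  have hes : ((e.symm (up t) : H) : G) = a := by rw [ht, MulEquiv.symm_apply_apply]; exact hsa
  have ht0 : t ≠ 0 := fun h => ha1 (by rw [← hes, h, up_zero, map_one]; rfl)
  have hfix : Nat.card {x : Additive V // ρ (up t) x = x} = Nat.card ↥(V ⊓ Subgroup.centralizer ({a} : Set G)) :=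
    Nat.card_congr
      { toFun := fun x => ⟨((Additive.toMul x.1 : V) : G), (Additive.toMul x.1).2, Subgroup.mem_centralizer_singleton_iff.mpr (by
          have h1 := congrArg (fun w : Additive V => ((Additive.toMul w : V) : G)) x.2
          simp only [hρ, hes] at h1
          exact (mul_inv_eq_iff_eq_mul.mp h1).symm)⟩
        invFun := fun v => ⟨Additive.ofMul ⟨v.1, v.2.1⟩, Additive.toMul.injective (Subtype.ext ((hρ _ _).trans (by
          rw [hes]; exact mul_inv_eq_iff_eq_mul.mpr (Subgroup.mem_centralizer_singleton_iff.mp v.2.2).symm)))⟩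
        left_inv := fun x => rfl
        right_inv := fun v => rfl }
  have key : p ^ n * Nat.card {x : Additive V // ρ (up t) x = x} ≤ Nat.card (Additive V) := by
    rcases eq_or_ne p 2 with rfl | hp2
    · have hn : 2 ≤ n := by
        by_contra hlt
        have hSF : Nat.card (S : Subgroup H) ≤ Nat.card F := by
          refine Nat.card_le_card_of_injective (fun s => (hS s.1 s.2).choose) fun x y hxy => Subtype.ext (e.injective ?_)
          rw [← (hS x.1 x.2).choose_spec, ← (hS y.1 y.2).choose_spec]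
          exact congrArg up hxy
        have hAS := Subgroup.card_le_of_le hA
        rw [Subgroup.card_map_of_injective H.subtype_injective] at hAS
        rw [Nat.card_eq_fintype_card (α := F), hF] at hSF
        have : 2 ^ n ≤ 2 := by interval_cases n <;> norm_num
        omega
      exact two_bound hn hF (fun x => by rw [← two_nsmul]; exact hpV x) hfaith ht0
    · refine odd_bound hp2 hF hpV hfaith ht0 fun x => ?_
      refine Additive.toMul.injective (Subtype.ext ((hρ _ _).trans ?_))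
      rw [hes, mul_inv_eq_iff_eq_mul]
      set v : G := ((Additive.toMul x : V) : G) with hv
      have hd : ((Additive.toMul (ρ (up t) x - x) : V) : G) = ⁅v, a⁆⁻¹ := by
        rw [toMul_sub, Subgroup.coe_div, hρ, hes, commutatorElement_def, div_eq_mul_inv, ← hv]
        group
      rw [hd]
      refine (Subgroup.mem_centralizer_iff.mp (inv_mem ?_) a ha)
      exact Subgroup.commutator_eq_bot_iff_le_centralizer.mp hquad
        (Subgroup.commutator_mem_commutator (Additive.toMul x).2 ha)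
  rw [hfix, show Nat.card (Additive V) = Nat.card V from rfl,
    ← Subgroup.relIndex_bot_left, ← Subgroup.relIndex_bot_left,
    ← Subgroup.relIndex_mul_relIndex ⊥ _ V bot_le inf_le_left, mul_comm (Subgroup.relIndex ⊥ _)] at key
  exact Nat.le_of_mul_le_mul_right key (by rw [Subgroup.relIndex_bot_left]; exact Nat.card_pos)

end Cfsg.Agent.Invol.SL2Nat
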