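import Mathlib
import Cfsg.Prelude
import Cfsg.Agent.Lib.Invol.SL2QuadraticBound
import Cfsg.Agent.Lib.Grp.Cores

/-!
An involution inverting an element of prime power order whose fixed-point-free orbits force a large
faithful `GF(2)`-module has small fixed space.
-/

set_option autoImplicit false
set_option linter.unusedSectionVars false
set_option linter.style.haveILetI false

namespace Cfsg.Agent.Invol.RegInv

open Cfsg.Agent.Invol.SL2Nat (disp)

universe u v w

/-- In the finite group `Q` every involution inverts an element of odd prime power order `m` which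
divides no `2 ^ j - 1` with `1 ≤ j < N`. -/
def Inverts (Q : Type*) [Group Q] (N : ℕ) : Prop :=
  ∀ a : Q, orderOf a = 2 → ∃ x : Q, a * x * a = x⁻¹ ∧ ∃ r b : ℕ, r.Prime ∧ r ≠ 2 ∧ 1 ≤ b ∧ orderOf x = r ^ b ∧
    ∀ j, 1 ≤ j → r ^ b ∣ 2 ^ j - 1 → N ≤ j

variable {H : Type v} [Group H] {V : Type u} [AddCommGroup V] (ρ : H →* AddMonoid.End V)

theorem act_mul (g h : H) (x : V) : ρ (g * h) x = ρ g (ρ h x) := by rw [map_mul]; rfl

theorem act_inv (g : H) (x : V) : ρ g⁻¹ (ρ g x) = x := by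
  rw [← act_mul, inv_mul_cancel, map_one]; rfl

theorem act_inv' (g : H) (x : V) : ρ g (ρ g⁻¹ x) = x := by
  rw [← act_mul, mul_inv_cancel, map_one]; rfl

theorem card_split (f : V →+ V) (U : AddSubgroup V) :
    Nat.card U = Nat.card (U.map f) * Nat.card ↥(f.ker.addSubgroupOf U) := by
  have e1 := AddSubgroup.card_eq_card_quotient_mul_card_addSubgroup (f.comp U.subtype).ker
  have e2 : Nat.card (U ⧸ (f.comp U.subtype).ker) = Nat.card (U.map f) := by
    rw [Nat.card_congr (QuotientAddGroup.quotientKerEquivRange _).toEquiv, AddMonoidHom.range_comp,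
      AddSubgroup.range_subtype]
  rw [e2] at e1
  exact e1

theorem core_bound [Finite H] [Finite V] (hV2 : ∀ x : V, x + x = 0) (hfaith : ∀ g, (∀ x, ρ g x = x) → g = 1)
    {a g : H} {r c N : ℕ} (hr : r.Prime) (hr2 : r ≠ 2) (hc : 1 ≤ c) (hg : orderOf g = r ^ c)
    (ha2 : a * a = 1) (hag : a * g * a = g⁻¹) (hbig : ∀ j, 1 ≤ j → r ^ c ∣ 2 ^ j - 1 → N ≤ j) :
    2 ^ N ≤ Nat.card V ∧
      2 ^ N * Nat.card {x : V // ρ a x = x} ^ 2 ≤ Nat.card V ^ 2 := by
  classical
  haveI : Fact r.Prime := ⟨hr⟩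
  set h := g ^ r ^ (c - 1) with hhdef
  have hho : orderOf h = r := by
    rw [hhdef, orderOf_pow' g (pow_ne_zero _ hr.ne_zero), hg,
      Nat.gcd_eq_right (pow_dvd_pow r (Nat.sub_le c 1)), Nat.pow_div (Nat.sub_le c 1) hr.pos,
      show c - (c - 1) = 1 by omega, pow_one]
  have hh1 : h ≠ 1 := fun e => hr.ne_one (by rw [← hho, e, orderOf_one])
  have hsub : ∀ k ∈ Subgroup.zpowers g, k ≠ 1 → h ∈ Subgroup.zpowers k := by
    intro k hk hk1
    obtain ⟨i, rfl⟩ := (Submonoid.mem_powers_iff _ _).mp ((isOfFinOrder_of_finite g).mem_powers_iff_mem_zpowers.mpr hk)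
    obtain ⟨v, hv, hv'⟩ := (Nat.dvd_prime_pow hr).mp (Nat.gcd_dvd_right i (r ^ c))
    have hvc : v ≤ c - 1 := by
      by_contra hlt
      have hve : v = c := by omega
      refine hk1 (orderOf_dvd_iff_pow_eq_one.mp ?_)
      rw [hg, ← hve, ← hv']
      exact Nat.gcd_dvd_left _ _
    have h1 : g ^ (Nat.gcd i (r ^ c)) ∈ Subgroup.zpowers (g ^ i) := by
      refine ⟨Nat.gcdA i (r ^ c), ?_⟩
      show (g ^ i) ^ Nat.gcdA i (r ^ c) = g ^ Nat.gcd i (r ^ c)
      rw [← zpow_natCast g (Nat.gcd i (r ^ c)), Nat.gcd_eq_gcd_ab, zpow_add, zpow_mul, zpow_mul, zpow_natCast,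
        zpow_natCast, ← hg, pow_orderOf_eq_one, one_zpow, mul_one]
    rw [hhdef, show r ^ (c - 1) = Nat.gcd i (r ^ c) * r ^ (c - 1 - v) by
      rw [hv', ← pow_add]; congr 1; omega, pow_mul]
    exact Subgroup.pow_mem _ h1 _
  -- the commutator of `h`
  set M : AddSubgroup V := (disp (ρ h)).range with hM
  have hMg : ∀ k, Commute k h → ∀ y ∈ M, ρ k y ∈ M := by
    rintro k hk _ ⟨x, rfl⟩
    refine ⟨ρ k x, ?_⟩
    show ρ h (ρ k x) - ρ k x = ρ k (ρ h x - x)
    rw [map_sub, ← act_mul, ← hk.eq, act_mul]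
  have hfpf : ∀ y ∈ M, ρ h y = y → y = 0 := by
    rintro _ ⟨x, rfl⟩ hy
    change ρ h (ρ h x - x) = ρ h x - x at hy
    show ρ h x - x = 0
    set y := ρ h x - x with hyd
    have hk : ∀ k : ℕ, ρ (h ^ k) x = x + k • y := by
      intro k
      induction k with
      | zero => rw [pow_zero, map_one, zero_smul, add_zero]; rfl
      | succ k ih =>
        rw [pow_succ', act_mul, ih, map_add, map_nsmul, hy, succ_nsmul]
        rw [show ρ h x = x + y by rw [hyd]; abel]
        abel
    have h0 := hk (orderOf h)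
    rw [pow_orderOf_eq_one, map_one] at h0
    change x = x + orderOf h • y at h0
    have h1 : orderOf h • y = 0 := left_eq_add.mp h0
    obtain ⟨m, hm⟩ := hr.odd_of_ne_two hr2
    rw [hho, hm, succ_nsmul, mul_comm, mul_nsmul', two_nsmul, hV2] at h1
    simpa using h1
  have hreg : ∀ y ∈ M, y ≠ 0 → ∀ k ∈ Subgroup.zpowers g, ρ k y = y → k = 1 := by
    intro y hy hy0 k hk hky
    by_contra hk1
    let St : Subgroup H :=
      { carrier := {w | ρ w y = y}
        one_mem' := by show ρ 1 y = y; rw [map_one]; rfl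
        mul_mem' := fun {u v} hu hv => by show ρ (u * v) y = y; rw [act_mul, hv, hu]
        inv_mem' := fun {u} hu => by
          show ρ u⁻¹ y = y
          conv_lhs => rw [← show ρ u y = y from hu]
          rw [act_inv] }
    exact hy0 (hfpf y hy (Subgroup.zpowers_le.mpr (show k ∈ St from hky) (hsub k hk hk1)))
  have hgh : Commute g h := Commute.self_pow g _
  have hMpow : ∀ k ∈ Subgroup.zpowers g, ∀ y ∈ M, ρ k y ∈ M := by
    rintro _ ⟨i, rfl⟩
    exact hMg _ (hgh.zpow_left i)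
  have hM0 : M ≠ ⊥ := fun h0 => hh1 (hfaith h fun x => sub_eq_zero.mp (by
    have : disp (ρ h) x ∈ M := ⟨x, rfl⟩
    rw [h0, AddSubgroup.mem_bot] at this
    exact this))
  have hbigM : 2 ^ N ≤ Nat.card M := by
    let X := {y : M // y ≠ 0}
    letI : MulAction (Subgroup.zpowers g) X :=
      { smul := fun k y => ⟨⟨ρ k.1 y.1.1, hMpow _ k.2 _ y.1.2⟩, fun e => y.2 (Subtype.ext (by
          have e' := congrArg (fun z : M => ρ k.1⁻¹ (z : V)) e
          simpa [act_inv] using e'))⟩
        one_smul := fun y => Subtype.ext (Subtype.ext (by show ρ 1 _ = _; rw [map_one]; rfl))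
        mul_smul := fun k l y => Subtype.ext (Subtype.ext (by show ρ (k.1 * l.1) _ = _; rw [act_mul]; rfl)) }
    have hdvd : orderOf g ∣ Nat.card X := by
      haveI := Fintype.ofFinite (Quotient (MulAction.orbitRel (Subgroup.zpowers g) X))
      rw [Nat.card_congr (MulAction.selfEquivSigmaOrbitsQuotientStabilizer (Subgroup.zpowers g) X), Nat.card_sigma]
      refine Finset.dvd_sum fun ω _ => ?_
      have hbot : MulAction.stabilizer (Subgroup.zpowers g) ω.out = ⊥ := by
        refine (Subgroup.eq_bot_iff_forall _).mpr fun k hk => Subtype.ext ?_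
        refine hreg _ ω.out.1.2 (fun e => ω.out.2 (Subtype.ext e)) k.1 k.2 ?_
        exact congrArg (fun z : X => (z.1 : V)) hk
      rw [← Subgroup.index_eq_card, hbot, Subgroup.index_bot, Nat.card_zpowers]
    have hcard : Nat.card M = Nat.card X + 1 := by
      rw [← Nat.card_congr (Equiv.optionSubtypeNe (0 : M)), Finite.card_option]
    haveI : Fact (Nat.Prime 2) := ⟨Nat.prime_two⟩
    have hMp : IsPGroup 2 (Multiplicative M) := fun x => ⟨1, by
      rw [pow_one, pow_two]
      exact Multiplicative.toAdd.injective (Subtype.ext (hV2 _))⟩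
    obtain ⟨j, hj⟩ := IsPGroup.iff_card.mp hMp
    rw [show Nat.card (Multiplicative M) = Nat.card M from rfl] at hj
    have hj1 : 1 ≤ j := by
      rcases Nat.eq_zero_or_pos j with rfl | h
      · exact absurd (AddSubgroup.card_eq_one.mp (by rw [hj, pow_zero])) hM0
      · exact h
    have := hbig j hj1 (by rw [← hg, ← hj, hcard, Nat.add_sub_cancel]; exact hdvd)
    rw [hj]
    exact Nat.pow_le_pow_right (by norm_num) this
  refine ⟨hbigM.trans (Nat.card_le_card_of_injective _ Subtype.val_injective), ?_⟩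
  -- the involution
  set C := (disp (ρ a)).ker.addSubgroupOf M with hC
  have hCC : Nat.card C * Nat.card C ≤ Nat.card M := by
    have hgM : g ∈ Subgroup.zpowers g := Subgroup.mem_zpowers g
    let f : C × C → M := fun w => ⟨(w.1.1 : V) + ρ g (w.2.1 : V), add_mem w.1.1.2 (hMpow g hgM _ w.2.1.2)⟩
    rw [← Nat.card_prod]
    refine Nat.card_le_card_of_injective f ?_
    rintro ⟨⟨u, hu⟩, ⟨v, hv⟩⟩ ⟨⟨u', hu'⟩, ⟨v', hv'⟩⟩ e
    have e' : (u : V) + ρ g (v : V) = (u' : V) + ρ g (v' : V) := congrArg Subtype.val e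
    have hfu : ρ a (u : V) = u := sub_eq_zero.mp hu
    have hfv : ρ a (v : V) = v := sub_eq_zero.mp hv
    have hfu' : ρ a (u' : V) = u' := sub_eq_zero.mp hu'
    have hfv' : ρ a (v' : V) = v' := sub_eq_zero.mp hv'
    set z : V := (v : V) - v' with hz
    have hgz : ρ g z = (u' : V) - u := by rw [hz, map_sub, sub_eq_sub_iff_add_eq_add, add_comm, e']
    have hfz : ρ a z = z := by rw [hz, map_sub, hfv, hfv']
    have hfgz : ρ a (ρ g z) = ρ g z := by rw [hgz, map_sub, hfu, hfu']
    have hag' : ρ a (ρ g z) = ρ g⁻¹ z := by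
      rw [← hag, act_mul, act_mul, hfz]
    have hg2 : ρ (g * g) z = z := by
      rw [act_mul]
      conv_rhs => rw [← act_inv' ρ g z, ← hag', hfgz]
    have hz0 : z = 0 := by
      by_contra hne
      have h1 := hreg z (sub_mem v.2 v'.2) hne (g * g) (mul_mem hgM hgM) hg2
      have h2 : orderOf g ∣ 2 := orderOf_dvd_of_pow_eq_one (by rw [pow_two, h1])
      rw [hg] at h2
      exact hr2 ((Nat.prime_dvd_prime_iff_eq hr Nat.prime_two).mp ((dvd_pow_self r (by omega)).trans h2))
    have hvv : (v : V) = v' := sub_eq_zero.mp hz0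
    have huu : (u : V) = u' := by rw [hvv] at e'; exact add_right_cancel e'
    exact Prod.ext (Subtype.ext (Subtype.ext huu)) (Subtype.ext (Subtype.ext hvv))
  have e := card_split (disp (ρ a)) M
  set R := Nat.card (M.map (disp (ρ a)))
  have hCR : Nat.card C ≤ R := Nat.le_of_mul_le_mul_right (e ▸ hCC) Nat.card_pos
  have hR : 2 ^ N ≤ R * R := hbigM.trans (by rw [e]; exact Nat.mul_le_mul_left _ hCR)
  have hV := AddSubgroup.card_eq_card_quotient_mul_card_addSubgroup (disp (ρ a)).ker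
  have hker : Nat.card (disp (ρ a)).ker = Nat.card {x : V // ρ a x = x} :=
    Nat.card_congr (Equiv.subtypeEquivRight fun x => by
      rw [AddMonoidHom.mem_ker]
      exact sub_eq_zero)
  rw [Nat.card_congr (QuotientAddGroup.quotientKerEquivRange (disp (ρ a))).toEquiv, hker] at hV
  rw [hV, mul_pow]
  refine Nat.mul_le_mul_right _ (hR.trans ?_)
  rw [pow_two]
  have hle := AddSubgroup.card_le_of_le (AddSubgroup.map_le_range (disp (ρ a)) M)
  exact Nat.mul_le_mul hle hle

theorem lift_bound [Finite H] [Finite V] (hV2 : ∀ x : V, x + x = 0) (hfaith : ∀ g, (∀ x, ρ g x = x) → g = 1)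
    {Q : Type w} [Group Q] [Finite Q] (π : H →* Q) (hπ : Function.Surjective π) (hker : Odd (Nat.card π.ker))
    {N : ℕ} (hQ : Inverts Q N) {a : H} (ha : orderOf a = 2) :
    2 ^ N ≤ Nat.card V ∧
      2 ^ N * Nat.card {x : V // ρ a x = x} ^ 2 ≤ Nat.card V ^ 2 := by
  classical
  have hkodd : ∀ k : H, π k = 1 → Odd (orderOf k) := fun k hk => hker.of_dvd_nat (by
    have := orderOf_dvd_natCard (⟨k, hk⟩ : π.ker)
    rwa [← orderOf_injective π.ker.subtype π.ker.subtype_injective] at this)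
  have ha2 : a * a = 1 := by rw [← pow_two, ← ha, pow_orderOf_eq_one]
  have hπa : orderOf (π a) = 2 := by
    haveI : Fact (Nat.Prime 2) := ⟨Nat.prime_two⟩
    refine orderOf_eq_prime (by rw [← map_pow, pow_two, ha2, map_one]) fun h => ?_
    have := hkodd a h
    rw [ha] at this
    exact absurd this (by decide)
  obtain ⟨x, hx, r, b, hr, hr2, hb, hxo, hbig⟩ := hQ (π a) hπa
  obtain ⟨u₀, hu₀⟩ := hπ (π a * x)
  have hsq : π (u₀ ^ 2) = 1 := by
    rw [map_pow, hu₀, pow_two, ← mul_assoc, hx, inv_mul_cancel]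
  set o := orderOf (u₀ ^ 2) with hodef
  obtain ⟨t, ht⟩ := hkodd _ hsq
  set u := u₀ ^ o
  have hu2 : u * u = 1 := by rw [← pow_add, ← two_mul, pow_mul, hodef, pow_orderOf_eq_one]
  have hπu : π u = π a * x := by
    have e : π u₀ ^ 2 = 1 := by rw [← map_pow]; exact hsq
    rw [map_pow, hodef, ht, pow_succ, pow_mul, e, one_pow, one_mul, hu₀]
  have hπg : π (a * u) = x := by
    rw [map_mul, hπu, ← mul_assoc, ← map_mul, ha2, map_one, one_mul]
  have hag0 : a * (a * u) * a = (a * u)⁻¹ := by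
    rw [mul_inv_rev, inv_eq_of_mul_eq_one_right hu2, inv_eq_of_mul_eq_one_right ha2, ← mul_assoc, ha2, one_mul]
  set g0 := a * u
  obtain ⟨c, d, hd, hcd⟩ := Nat.exists_eq_pow_mul_and_not_dvd (orderOf_pos g0).ne' r hr.ne_one
  have hg : orderOf (g0 ^ d) = r ^ c := by
    rw [orderOf_pow' g0 (fun e => hd (by rw [e]; exact dvd_zero r)), hcd,
      Nat.gcd_eq_right (dvd_mul_left _ _), Nat.mul_div_cancel _ (Nat.pos_of_ne_zero fun e => hd (by rw [e]; exact dvd_zero r))]
  have hrb : r ^ b ∣ r ^ c := by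
    have h1 : orderOf (π (g0 ^ d)) = r ^ b := by
      rw [map_pow, hπg, Nat.Coprime.orderOf_pow (hxo ▸ Nat.Coprime.pow_left b ((Nat.Prime.coprime_iff_not_dvd hr).mpr hd)), hxo]
    rw [← h1, ← hg]
    exact orderOf_map_dvd π _
  have hc : 1 ≤ c := hb.trans ((Nat.pow_dvd_pow_iff_le_right hr.one_lt).mp hrb)
  refine core_bound ρ hV2 hfaith hr hr2 hc hg ha2 ?_ fun j hj hdj => hbig j hj (hrb.trans hdj)
  have hinv : a⁻¹ = a := inv_eq_of_mul_eq_one_right ha2
  have : a * g0 ^ d * a⁻¹ = (g0 ^ d)⁻¹ := by rw [← conj_pow, hinv, hag0, inv_pow]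
  rwa [hinv] at this

/-- The bound for a group of operators on an elementary abelian `2`-subgroup. -/
theorem group_bound {G : Type*} [Group G] [Finite G] (V H : Subgroup G) (hV : Cfsg.IsElementaryAbelian 2 V)
    (hHV : H ≤ Subgroup.normalizer (V : Set G)) (hf : H ⊓ Subgroup.centralizer (V : Set G) = ⊥)
    {Q : Type w} [Group Q] [Finite Q] {N : ℕ} (hQ : Inverts Q N)
    (e : Nonempty (↥H ⧸ Cfsg.pPrimeCore 2 ↥H ≃* Q)) [(Cfsg.pPrimeCore 2 ↥H).Normal]
    {S : Sylow 2 ↥H} {T : Subgroup G} (hT : T = (S : Subgroup ↥H).map H.subtype) {s : G} (hs : s ∈ T) (hs1 : s ≠ 1) :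
    2 ^ N ≤ Nat.card V ∧ 2 ^ N ≤ ((V ⊓ Subgroup.centralizer ({s} : Set G))).relIndex V ^ 2 := by
  classical
  subst hT
  obtain ⟨s', hs', rfl⟩ := hs
  obtain ⟨k, hk⟩ := S.isPGroup' ⟨s', hs'⟩
  obtain ⟨i, hi, hord⟩ := (Nat.dvd_prime_pow Nat.prime_two).mp (orderOf_dvd_of_pow_eq_one hk)
  rw [Subgroup.orderOf_mk] at hord
  have hi1 : 1 ≤ i := by
    by_contra hlt
    obtain rfl : i = 0 := by omega
    rw [pow_zero, orderOf_eq_one_iff] at hord
    exact hs1 (by rw [hord, map_one])
  set a : H := s' ^ 2 ^ (i - 1) with hadef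
  have ha : orderOf a = 2 := by
    rw [hadef, orderOf_pow' s' (pow_ne_zero _ two_ne_zero), hord, Nat.gcd_eq_right (pow_dvd_pow 2 (Nat.sub_le i 1)),
      Nat.pow_div (Nat.sub_le i 1) two_pos, show i - (i - 1) = 1 by omega, pow_one]
  obtain ⟨hVab, hVexp⟩ := hV
  letI : CommGroup V := { (inferInstance : Group V) with mul_comm := fun a b => hVab.is_comm.comm a b }
  let c : H →* MulAut V := (V.normalizerMonoidHom).comp (Subgroup.inclusion hHV)
  let am : MulAut V →* AddMonoid.End (Additive V) :=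
    { toFun := fun f => MonoidHom.toAdditive f.toMonoidHom
      map_one' := rfl
      map_mul' := fun f g => rfl }
  have hρ : ∀ (g : H) x, ((Additive.toMul ((am.comp c) g x) : V) : G) =
      (g : G) * ((Additive.toMul x : V) : G) * (g : G)⁻¹ := fun g x => rfl
  have hfaith : ∀ g, (∀ x, (am.comp c) g x = x) → g = 1 := by
    intro g hg
    have hm : (g : G) ∈ H ⊓ Subgroup.centralizer (V : Set G) := by
      refine ⟨g.2, Subgroup.mem_centralizer_iff.mpr fun v hv => ?_⟩
      have h1 := congrArg (fun w : Additive V => ((Additive.toMul w : V) : G)) (hg (Additive.ofMul ⟨v, hv⟩))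
      simp only [hρ, toMul_ofMul] at h1
      exact (mul_inv_eq_iff_eq_mul.mp h1).symm
    rw [hf, Subgroup.mem_bot] at hm
    exact Subtype.ext hm
  have hV2 : ∀ x : Additive V, x + x = 0 := fun x =>
    Additive.toMul.injective (by rw [← two_nsmul, toMul_nsmul]; exact Subtype.ext (hVexp _ (Additive.toMul x).2))
  obtain ⟨e⟩ := e
  have hker : Odd (Nat.card ((e.toMonoidHom.comp (QuotientGroup.mk' (Cfsg.pPrimeCore 2 ↥H))).ker)) := by
    rw [show (e.toMonoidHom.comp (QuotientGroup.mk' (Cfsg.pPrimeCore 2 ↥H))).ker = Cfsg.pPrimeCore 2 ↥H by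
      ext x; simp [MonoidHom.mem_ker]]
    exact Nat.coprime_two_right.mp Cfsg.Agent.Grp.pPrimeCore_coprime
  obtain ⟨hb1, hb2⟩ := lift_bound (am.comp c) hV2 hfaith _
    (e.surjective.comp (QuotientGroup.mk'_surjective _)) hker hQ ha
  refine ⟨hb1, ?_⟩
  have hfix : Nat.card ↥(V ⊓ Subgroup.centralizer ({(s' : G)} : Set G)) ≤
      Nat.card {x : Additive V // (am.comp c) a x = x} := by
    refine Nat.card_le_card_of_injective (fun v => ⟨Additive.ofMul ⟨v.1, v.2.1⟩,
      Additive.toMul.injective (Subtype.ext ((hρ _ _).trans ?_))⟩) fun v w hvw => ?_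
    · have hcomm : Commute ((s' : G) ^ 2 ^ (i - 1)) (v.1 : G) :=
        Commute.pow_left (Subgroup.mem_centralizer_singleton_iff.mp v.2.2).symm _
      rw [hadef, Subgroup.coe_pow]
      exact mul_inv_eq_iff_eq_mul.mpr hcomm.eq
    · exact Subtype.ext (congrArg (fun y : {x : Additive V // (am.comp c) a x = x} => ((Additive.toMul y.1 : V) : G)) hvw)
  set D := V ⊓ Subgroup.centralizer ({H.subtype s'} : Set G) with hD
  have hidx : D.relIndex V * Nat.card D = Nat.card V := by
    rw [← Subgroup.relIndex_bot_left, ← Subgroup.relIndex_bot_left, mul_comm]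
    exact Subgroup.relIndex_mul_relIndex ⊥ D V bot_le inf_le_left
  have h3 : 2 ^ N * Nat.card D ^ 2 ≤ (D.relIndex V * Nat.card D) ^ 2 := by
    rw [hidx]
    exact (Nat.mul_le_mul_left _ (Nat.pow_le_pow_left hfix 2)).trans hb2
  rw [mul_pow] at h3
  exact Nat.le_of_mul_le_mul_right h3 (pow_pos Nat.card_pos 2)

end Cfsg.Agent.Invol.RegInv
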