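import Mathlib
import Cfsg.Prelude
import Cfsg.Agent.Lib.Invol.RegularInversion
import Cfsg.Agent.Lib.Lie.Sz.Tori
import Cfsg.Agent.Lib.Lie.Sz.Sylow
import Cfsg.Agent.Lib.Lie.Sz.Structure
import Cfsg.Agent.Lib.Lie.Sz.LieEquiv
import Cfsg.Agent.Lib.Recog.Zsigmondy

/-!
`SL(2, 2ⁿ)`, `PSL(2, 2ⁿ)` and `Sz(2 ^ (2m+1))`: every involution inverts an element of large
primitive order.
-/

set_option autoImplicit false
set_option linter.unusedSectionVars false
set_option linter.style.haveILetI false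

namespace Cfsg.Agent.Invol.RegInv

universe v

theorem inverts_of_equiv {Q Q' : Type*} [Group Q] [Group Q'] (e : Q ≃* Q') {N : ℕ} (h : Inverts Q N) :
    Inverts Q' N := fun a ha => by
  obtain ⟨x, hx, r, b, hr, hr2, hb, ho, hbig⟩ := h (e.symm a) (by rw [MulEquiv.orderOf_eq]; exact ha)
  refine ⟨e x, ?_, r, b, hr, hr2, hb, by rw [MulEquiv.orderOf_eq]; exact ho, hbig⟩
  have := congrArg e hx
  rwa [map_mul, map_mul, map_inv, e.apply_symm_apply] at this

section SL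

open Cfsg.Agent.Grp.SL2

variable {F : Type v} [Field F] [Fintype F] [CharP F 2]

theorem inverts_SL2 {n : ℕ} (hn : 2 ≤ n) (hF : Fintype.card F = 2 ^ n) :
    Inverts (Matrix.SpecialLinearGroup (Fin 2) F) (2 * n) := by
  intro a ha
  obtain ⟨g, -, -, -, -, -, -, hbig, r, b, hr, hr2, hb, hgo⟩ := SL2Nat.exists_regular hn hF
  obtain ⟨s, hs2, hs1, hsg⟩ := SL2Nat.exists_inverting g
  have ha2 : a * a = 1 := by rw [← pow_two]; exact orderOf_dvd_iff_pow_eq_one.mp ha.dvd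
  have ha1 : a ≠ 1 := fun e => by rw [e, orderOf_one] at ha; exact absurd ha (by norm_num)
  obtain ⟨P, hP⟩ := SL2Nat.conj_up_one hs2 hs1
  obtain ⟨P', hP'⟩ := SL2Nat.conj_up_one ha2 ha1
  set c : Matrix.SpecialLinearGroup (Fin 2) F ≃* Matrix.SpecialLinearGroup (Fin 2) F := MulAut.conj (P' * P⁻¹)
  have hca : c s = a := by
    show P' * P⁻¹ * s * (P' * P⁻¹)⁻¹ = a
    rw [hP, hP']; group
  refine ⟨c g, ?_, r, b, hr, hr2, hb, by rw [MulEquiv.orderOf_eq]; exact hgo, fun j hj hd => hbig j hj (hgo ▸ hd)⟩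
  rw [← hca, ← map_mul, ← map_mul, hsg, map_inv]

theorem center_SL2_char_two : Subgroup.center (Matrix.SpecialLinearGroup (Fin 2) F) = ⊥ := by
  refine (Subgroup.eq_bot_iff_forall _).mpr fun x hx => ?_
  have h1 := congrArg (fun w : Matrix.SpecialLinearGroup (Fin 2) F => w.1) (Subgroup.mem_center_iff.mp hx (up 1))
  have h2 := congrArg (fun w : Matrix.SpecialLinearGroup (Fin 2) F => w.1) (Subgroup.mem_center_iff.mp hx (low 1))
  simp only [Matrix.SpecialLinearGroup.coe_mul] at h1 h2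
  have a00 := congrFun (congrFun h1 0) 0
  have a01 := congrFun (congrFun h1 0) 1
  have b00 := congrFun (congrFun h2 0) 0
  simp [up, low, Matrix.mul_apply, Fin.sum_univ_two] at a00 a01 b00
  have hd := det_eq x
  rw [a00, b00] at hd
  have e00 : x.1 0 0 = x.1 1 1 := by linear_combination -a01
  rw [← e00, mul_zero, sub_zero] at hd
  have hx00 : x.1 0 0 = 1 := by
    have h0 : (x.1 0 0 - 1) * (x.1 0 0 - 1) = 0 := by
      linear_combination hd + (1 - x.1 0 0) * (CharTwo.two_eq_zero : (2 : F) = 0)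
    exact sub_eq_zero.mp (mul_self_eq_zero.mp h0)
  refine Subtype.ext ?_
  rw [Matrix.eta_fin_two x.1, Matrix.SpecialLinearGroup.coe_one, Matrix.one_fin_two, ← e00, hx00, a00, b00]

theorem inverts_PSL2 {n : ℕ} (hn : 2 ≤ n) (hF : Fintype.card F = 2 ^ n) :
    Inverts (Matrix.ProjectiveSpecialLinearGroup (Fin 2) F) (2 * n) :=
  inverts_of_equiv ((QuotientGroup.quotientBot).symm.trans
    (QuotientGroup.quotientMulEquivOfEq center_SL2_char_two.symm)) (inverts_SL2 hn hF)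

theorem card_PSL2 : Nat.card (Matrix.ProjectiveSpecialLinearGroup (Fin 2) F) =
    Fintype.card F * ((Fintype.card F - 1) * (Fintype.card F + 1)) := by
  rw [← Nat.card_congr ((QuotientGroup.quotientBot).symm.trans
    (QuotientGroup.quotientMulEquivOfEq center_SL2_char_two.symm)).toEquiv]
  exact Fus.PSLTwo.natCard_SL_two

end SL

section Sz

open Cfsg.Agent.Suz

variable {F : Type v} [Field F] [Fintype F] {m : ℕ}

theorem inverts_Sz (hS : SzField F m) : Inverts ↥(Cfsg.Lie.Sz F (2 ^ (m + 1))) (4 * (2 * m + 1)) := by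
  classical
  refine inverts_of_equiv (szEquiv hS) ?_
  intro a ha
  set k := 2 * m + 1 with hk
  have hk3 : 3 ≤ k := by have := hS.one_le; omega
  obtain ⟨r, hr, hrd, hrn⟩ := Recog.Zsigmondy.exists_primitive (a := 2) (n := 4 * k) le_rfl (by omega)
    (fun h => by omega) (fun h => by omega)
  haveI : Fact r.Prime := ⟨hr⟩
  have hr1 : r ∣ (2 ^ k) ^ 2 + 1 := by
    have e : 2 ^ (4 * k) - 1 = ((2 ^ k) ^ 2 + 1) * (2 ^ (2 * k) - 1) := by
      rw [show 4 * k = (2 * k) * 2 by ring, pow_mul, show ((2 : ℕ) ^ k) ^ 2 = 2 ^ (2 * k) by rw [← pow_mul]; ring_nf,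
        show ((2 : ℕ) ^ (2 * k)) ^ 2 - 1 = (2 ^ (2 * k)) ^ 2 - 1 ^ 2 by norm_num, Nat.sq_sub_sq]
    rw [e] at hrd
    exact (hr.dvd_mul.mp hrd).resolve_right (hrn _ (by omega) (by omega))
  have hr2 : r ≠ 2 := fun h => by
    subst h
    have h2n : 2 ∣ (2 ^ k) ^ 2 := dvd_pow (dvd_pow_self 2 (by omega)) two_ne_zero
    omega
  have hG : (2 ^ k) ^ 2 + 1 ∣ Nat.card ↥(Cfsg.Sz F m) :=
    ⟨(2 ^ k) ^ 2 * (2 ^ k - 1), by rw [card_Sz hS]; ring⟩
  obtain ⟨z, hz⟩ := exists_prime_orderOf_dvd_card' (G := ↥(Cfsg.Sz F m)) r (hr1.trans hG)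
  have hzF : FPF m z := FPF_of_orderOf_dvd hS (hz ▸ hr1) (fun e => hr.ne_one (by rw [← hz, e, orderOf_one]))
  obtain ⟨x, y, ⟨hx, hxc, hxn⟩, ⟨hy, hyc, hyn⟩, hcov⟩ := exists_tori hS
  obtain ⟨x, hx, hxodd, hxn, hzx⟩ : ∃ x, FPF m x ∧ Odd (Nat.card (Subgroup.centralizer ({x} : Set ↥(Cfsg.Sz F m)))) ∧
      Nat.card (Subgroup.normalizer (Subgroup.centralizer ({x} : Set ↥(Cfsg.Sz F m)) : Set ↥(Cfsg.Sz F m))) =
        4 * Nat.card (Subgroup.centralizer ({x} : Set ↥(Cfsg.Sz F m))) ∧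
      z ∈ conjSet (Subgroup.centralizer ({x} : Set ↥(Cfsg.Sz F m))) := by
    have hev : Even (2 ^ k) := (Nat.even_pow' (by omega)).mpr even_two
    have hev2 : Even (2 ^ (m + 1)) := (Nat.even_pow' (by omega)).mpr even_two
    have hle : 2 ^ (m + 1) ≤ 2 ^ k := Nat.pow_le_pow_right (by norm_num) (by omega)
    rcases hcov z hzF with h | h
    · exact ⟨x, hx, by rw [hxc]; exact (hev.add hev2).add_one, hxn, h⟩
    · exact ⟨y, hy, by rw [hyc]; exact ((Nat.even_sub hle).mpr ⟨fun _ => hev2, fun _ => hev⟩).add_one, hyn, h⟩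
  set A := Subgroup.centralizer ({x} : Set ↥(Cfsg.Sz F m))
  haveI : Fact (Nat.Prime 2) := ⟨Nat.prime_two⟩
  obtain ⟨t, ht⟩ := exists_prime_orderOf_dvd_card' (G := Subgroup.normalizer (A : Set ↥(Cfsg.Sz F m))) 2
    (hxn ▸ (show 2 ∣ 4 * Nat.card A from dvd_mul_of_dvd_left (by norm_num) _))
  rw [← Subgroup.orderOf_coe] at ht
  have ht2 : (t : ↥(Cfsg.Sz F m)) * t = 1 := by rw [← pow_two, ← ht, pow_orderOf_eq_one]
  have htinv : (t : ↥(Cfsg.Sz F m))⁻¹ = t := inv_eq_of_mul_eq_one_right ht2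
  obtain ⟨c, w, hw, hw1, hzc⟩ := hzx
  -- `t` inverts the torus
  have htw : (t : ↥(Cfsg.Sz F m)) * w * t = w⁻¹ := by
    have hwt : (t : ↥(Cfsg.Sz F m)) * w * t ∈ A := by
      have := (Subgroup.mem_normalizer_iff.mp t.2 w).mp hw
      rwa [htinv] at this
    set w' := (t : ↥(Cfsg.Sz F m)) * w * t with hw'
    have hcw : Commute w w' := by
      have h : w' ∈ Subgroup.centralizer ({w} : Set ↥(Cfsg.Sz F m)) := by
        rw [FPF.cent hS hx hw hw1]; exact hwt
      exact (Subgroup.mem_centralizer_singleton_iff.mp h).symm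
    have hp : w * w' = 1 := by
      by_contra hne
      have htC : (t : ↥(Cfsg.Sz F m)) ∈ Subgroup.centralizer ({w * w'} : Set ↥(Cfsg.Sz F m)) := by
        rw [Subgroup.mem_centralizer_singleton_iff]
        calc (t : ↥(Cfsg.Sz F m)) * (w * w') = (t * w * t) * ((t : ↥(Cfsg.Sz F m)) * w' * t) * t := by
              rw [show (t * w * t : ↥(Cfsg.Sz F m)) * (t * w' * t) * t = t * w * ((t : ↥(Cfsg.Sz F m)) * t) * w' * (t * t) by group,
                ht2, mul_one, mul_one, mul_assoc]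
          _ = w' * w * t := by
              rw [← hw', show (t : ↥(Cfsg.Sz F m)) * w' * t = w by
                rw [hw', show (t : ↥(Cfsg.Sz F m)) * (t * w * t) * t = (t * t) * w * (t * t) by group, ht2, one_mul, mul_one]]
          _ = w * w' * t := by rw [hcw.eq]
      rw [FPF.cent hS hx (mul_mem hw hwt) hne] at htC
      have hd : 2 ∣ Nat.card A := ht ▸ Subgroup.orderOf_dvd_natCard _ htC
      exact absurd hd hxodd.not_two_dvd_nat
    exact (inv_eq_of_mul_eq_one_right hp).symm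
  -- all involutions are conjugate
  have hinv : ∀ u : ↥(Cfsg.Sz F m), orderOf u = 2 → ∃ d, u = d * uS hS 0 1 * d⁻¹ := by
    intro u hu
    have hzp : IsPGroup 2 (Subgroup.zpowers u) := IsPGroup.of_card (n := 1) (by rw [Nat.card_zpowers, hu, pow_one])
    obtain ⟨P, hP⟩ := hzp.exists_le_sylow
    obtain ⟨d, hd⟩ := exists_conj_unip hS P
    obtain ⟨v, hv, hvu⟩ := (hd ▸ hP (Subgroup.mem_zpowers u) : u ∈ (unip hS).map (MulAut.conj d).toMonoidHom)
    have hvo : orderOf v = 2 := by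
      rw [← hu, ← hvu]
      exact (MulEquiv.orderOf_eq (MulAut.conj d) v).symm
    obtain ⟨a', b, rfl⟩ := (mem_unip hS).1 hv
    have hsq : uS hS a' b ^ 2 = 1 := by rw [← hvo]; exact pow_orderOf_eq_one _
    rw [uS_sq, ← uS_zero hS] at hsq
    have ha' : a' = 0 := by
      rcases mul_eq_zero.mp (uS_injective hS hsq).2 with h | h
      · exact pow_eq_zero_iff (pow_ne_zero _ two_ne_zero) |>.mp h
      · exact h
    subst ha'
    have hb : b ≠ 0 := fun e => by rw [e, uS_zero, orderOf_one] at hvo; exact absurd hvo (by norm_num)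
    obtain ⟨z₀, hz₀⟩ := Finite.injective_iff_surjective.mp (fun p q h => th_inj hS (m := m) h) b
    have hz0 : z₀ ≠ 0 := fun e => hb (by rw [← hz₀, e, th_zero])
    refine ⟨d * hTor hS (Units.mk0 z₀ hz0), ?_⟩
    rw [← hvu, show d * hTor hS (Units.mk0 z₀ hz0) * uS hS 0 1 * (d * hTor hS (Units.mk0 z₀ hz0))⁻¹ =
      d * (hTor hS (Units.mk0 z₀ hz0) * uS hS 0 1 * (hTor hS (Units.mk0 z₀ hz0))⁻¹) * d⁻¹ by group, hTor_conj]
    simp [hz₀]
  obtain ⟨d, hd⟩ := hinv a ha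
  obtain ⟨d', hd'⟩ := hinv t ht
  set φ : ↥(Cfsg.Sz F m) ≃* ↥(Cfsg.Sz F m) := MulAut.conj (d * d'⁻¹)
  have hφ : φ t = a := by
    show d * d'⁻¹ * t * (d * d'⁻¹)⁻¹ = a
    rw [hd', hd]; group
  refine ⟨φ w, ?_, r, 1, hr, hr2, le_rfl, ?_, fun j hj hdj => ?_⟩
  · rw [← hφ, ← map_mul, ← map_mul, htw, map_inv]
  · rw [MulEquiv.orderOf_eq, pow_one, ← hz, hzc, orderOf_conj' hS]
  · rw [pow_one] at hdj
    by_contra hlt
    exact hrn j hj (by omega) hdj

end Sz

end Cfsg.Agent.Invol.RegInv
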