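import Cfsg.Agent.Lib.Transfer.SFT.Main
import Cfsg.Agent.Lib.Transfer.Local.Bender
import Cfsg.Agent.Lib.Recog.LocalConstrained
import Cfsg.Agent.Lib.Fus.FourConnected
import Cfsg.Agent.Lib.Grp.BalanceReduction
import Cfsg.Agent.Lib.Grp.Frattini
import Cfsg.Agent.Lib.Grp.Signalizer

/-!
# Cores of involution centralizers when the 2-local subgroups are 2-constrained

With every 2-local subgroup 2-constrained, the cores `O(C(x))` balance. If moreover a Sylow
2-subgroup has a normal elementary abelian subgroup of order at least 8 and groups of odd order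
are solvable, the signalizer functor theorem gives one odd subgroup generated by the cores over
any subgroup of 2-rank at least 2.
-/

set_option autoImplicit false
set_option linter.unusedSectionVars false
set_option linter.style.haveILetI false

namespace Cfsg.Agent.ConstrainedCores

open Cfsg Subgroup

universe u

/-- A subgroup centralizing a 2-subgroup and normalized by its centralizer lies in the core of a
2-constrained group. -/
theorem le_core {Γ : Type u} [Group Γ] [Finite Γ] {p : ℕ} [hp : Fact p.Prime]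
    (hcon : Cfsg.IsPConstrained p Γ) {P Y : Subgroup Γ} (hP : IsPGroup p P)
    (hYP : Y ≤ centralizer (P : Set Γ)) (hN : centralizer (P : Set Γ) ≤ normalizer (Y : Set Γ))
    (hY : (Nat.card Y).Coprime p) : Y ≤ Cfsg.pPrimeCore p Γ := by
  haveI : (Cfsg.pPrimeCore p Γ).Normal := Grp.pPrimeCore_isNormal
  set f := QuotientGroup.mk' (Cfsg.pPrimeCore p Γ)
  set R := Cfsg.pCore p (Γ ⧸ Cfsg.pPrimeCore p Γ)
  have hRn : R.Normal := Grp.pCore_isNormal
  have hY' : (Nat.card (Y.map f)).Coprime p := hY.coprime_dvd_left (card_map_dvd _ f)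
  have hdisj : R ⊓ Y.map f = ⊥ := Cfsg.Agent.Grp.inf_eq_bot_of_coprime (by
    obtain ⟨m, hm⟩ := IsPGroup.iff_card.1
      (Grp.pCore_isPGroup (p := p) (G := Γ ⧸ Cfsg.pPrimeCore p Γ))
    rw [hm]; exact hY'.symm.pow_left m)
  intro y hy
  have hyY : f y ∈ Y.map f := mem_map_of_mem f hy
  have h1 : f y ∈ centralizer (R : Set (Γ ⧸ Cfsg.pPrimeCore p Γ)) := by
    refine Grp.mem_centralizer_pCore (hP.map f)
      (hY'.coprime_dvd_left (orderOf_dvd_natCard _ hyY)) ?_ ?_
    · rw [← Grp.map_centralizer_pGroup hP]; exact mem_map_of_mem f (hYP hy)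
    · intro z hz
      obtain ⟨hzR, hzC⟩ := hz
      rw [← Grp.map_centralizer_pGroup hP] at hzC
      obtain ⟨c, hc, rfl⟩ := hzC
      rw [mem_centralizer_singleton_iff]
      have h2 : f c * f y * (f c)⁻¹ * (f y)⁻¹ ∈ R ⊓ Y.map f := by
        refine ⟨?_, ?_⟩
        · rw [show f c * f y * (f c)⁻¹ * (f y)⁻¹ = f c * (f y * (f c)⁻¹ * (f y)⁻¹) by group]
          exact R.mul_mem hzR (hRn.conj_mem _ (R.inv_mem hzR) _)
        · refine ⟨c * y * c⁻¹ * y⁻¹,
            Y.mul_mem ((Subgroup.mem_normalizer_iff.1 (hN hc) y).1 hy) (Y.inv_mem hy), ?_⟩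
          simp
      rw [hdisj, mem_bot, mul_inv_eq_one, mul_inv_eq_iff_eq_mul] at h2
      exact h2
  have h3 : f y ∈ R ⊓ Y.map f := ⟨Transfer.Transitivity.centralizer_pCore_quotient hcon h1, hyY⟩
  rw [hdisj, mem_bot] at h3
  exact (QuotientGroup.eq_one_iff y).1 h3

variable {G : Type u} [Group G] [Finite G]

local notation "θ" => fun x : G => Cfsg.centralizerPPrimeCore 2 x

/-- The subgroup generated by the cores over the nontrivial elements of `B`. -/
abbrev coreOver (B : Subgroup G) : Subgroup G :=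
  Cfsg.signalizerClosure B fun x => Cfsg.centralizerPPrimeCore 2 x

theorem le_coreOver {B : Subgroup G} {b : G} (hb : b ∈ B) (hb1 : b ≠ 1) :
    Cfsg.centralizerPPrimeCore 2 b ≤ coreOver B :=
  le_iSup (fun a : {a : G // a ∈ B ∧ a ≠ 1} => Cfsg.centralizerPPrimeCore 2 (a : G)) ⟨b, hb, hb1⟩

theorem coreOver_mono {B F : Subgroup G} (h : B ≤ F) : coreOver B ≤ coreOver F :=
  iSup_le fun a => le_coreOver (h a.2.1) a.2.2

section Balance

variable (h2c : ∀ T : Subgroup G, IsPGroup 2 T → T ≠ ⊥ →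
    Cfsg.IsPConstrained 2 ↥(Subgroup.normalizer (T : Set G)))
include h2c

theorem constrained_centralizer {u : G} (hu : orderOf u = 2) :
    Cfsg.IsPConstrained 2 ↥(centralizer ({u} : Set G)) := by
  haveI : Fact (Nat.Prime 2) := ⟨Nat.prime_two⟩
  have hne : zpowers u ≠ ⊥ := by
    rw [Ne, zpowers_eq_bot]
    rintro rfl
    simp at hu
  have hp : IsPGroup 2 ↥(zpowers u) := IsPGroup.of_card (n := 1) (by rw [Nat.card_zpowers, hu, pow_one])
  have he : normalizer (zpowers u : Set G) = centralizer ({u} : Set G) := by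
    ext g
    have hinv : ∀ w ∈ zpowers u, w = 1 ∨ w = u := fun w hw => by
      obtain ⟨i, rfl⟩ := mem_zpowers_iff.1 hw
      have h2 : u ^ (2 : ℤ) = 1 := by rw [zpow_two, Invol.mul_self_of_orderOf_two hu]
      rcases Int.even_or_odd i with ⟨j, rfl⟩ | ⟨j, rfl⟩
      · left; rw [← two_mul, zpow_mul, h2, one_zpow]
      · right; rw [zpow_add_one, zpow_mul, h2, one_zpow, one_mul]
    rw [mem_centralizer_singleton_iff]
    constructor
    · intro hg
      rcases hinv _ ((mem_normalizer_iff.1 hg u).1 (mem_zpowers u)) with h | h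
      · exact absurd (conj_eq_one_iff.1 h) (Invol.ne_one_of_orderOf_two hu)
      · exact mul_inv_eq_iff_eq_mul.1 h
    · intro hg
      refine mem_normalizer_iff.2 fun w => ?_
      have hc : ∀ x ∈ zpowers u, g * x = x * g := fun x hx => by
        obtain ⟨i, rfl⟩ := mem_zpowers_iff.1 hx
        exact ((show Commute g u from hg).zpow_right i).eq
      constructor
      · intro hw
        rwa [hc w hw, mul_inv_cancel_right]
      · intro hw
        have h1 := hc _ hw
        rw [inv_mul_cancel_right] at h1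
        rwa [mul_left_cancel h1] at hw
  exact Recog.LocalConstrained.isPConstrained_of_equiv (MulEquiv.subgroupCongr he.symm) (h2c _ hp hne)

/-- Balance in the centralizer of an involution. -/
theorem inf_centralizer_le {u b : G} (hu : orderOf u = 2) {k : ℕ} (hb : b ^ 2 ^ k = 1)
    (hub : Commute b u) :
    Cfsg.centralizerPPrimeCore 2 b ⊓ centralizer ({u} : Set G) ≤ Cfsg.centralizerPPrimeCore 2 u := by
  haveI : Fact (Nat.Prime 2) := ⟨Nat.prime_two⟩
  set L := centralizer ({u} : Set G) with hL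
  set Y := Cfsg.centralizerPPrimeCore 2 b ⊓ L with hY
  have hbL : b ∈ L := mem_centralizer_singleton_iff.2 hub
  have hP : IsPGroup 2 ↥(zpowers (⟨b, hbL⟩ : L)) := by
    intro z
    obtain ⟨i, hi⟩ := mem_zpowers_iff.1 z.2
    refine ⟨k, Subtype.ext ?_⟩
    rw [SubmonoidClass.coe_pow, ← hi, OneMemClass.coe_one, ← zpow_natCast, ← zpow_mul, mul_comm,
      zpow_mul, zpow_natCast, show (⟨b, hbL⟩ : L) ^ 2 ^ k = 1 from Subtype.ext hb, one_zpow]
  have hle : Y.subgroupOf L ≤ Cfsg.pPrimeCore 2 L := by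
    refine le_core (constrained_centralizer h2c hu) hP (fun y hy => ?_) (fun c hc => ?_) ?_
    · exact mem_centralizer_iff.2 fun x hx => by
        obtain ⟨i, rfl⟩ := mem_zpowers_iff.1 hx
        exact (((show Commute y (⟨b, hbL⟩ : L) from
          Subtype.ext (Grp.centralizerPPrimeCore_commute hy.1)).zpow_right i).eq).symm
    · have hcb : Commute (c : G) b := by
        have := mem_centralizer_iff.1 hc _ (mem_zpowers (⟨b, hbL⟩ : L))
        exact (congrArg Subtype.val this).symm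
      have key : ∀ d : L, Commute (d : G) b → ∀ y ∈ Y.subgroupOf L, d * y * d⁻¹ ∈ Y.subgroupOf L :=
        fun d hd y hy => ⟨Grp.centralizerPPrimeCore_conj hd.eq hy.1, (d * y * d⁻¹).2⟩
      refine mem_normalizer_iff.2 fun y => ⟨key c hcb y, fun h => ?_⟩
      have := key c⁻¹ (by simpa using hcb.inv_left) _ h
      simpa [mul_assoc] using this
    · rw [Nat.card_congr (subgroupOfEquivOfLe (inf_le_right : Y ≤ L)).toEquiv]
      exact (Grp.centralizerPPrimeCore_coprime (p := 2) b).coprime_dvd_left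
        (card_dvd_of_le inf_le_left)
  intro y hy
  exact ⟨⟨y, hy.2⟩, hle hy, rfl⟩

end Balance

/-- The join of two commuting elementary abelian 2-subgroups is elementary abelian. -/
theorem elemAb_sup {B C : Subgroup G} (hB : Cfsg.IsElementaryAbelian 2 B)
    (hC : Cfsg.IsElementaryAbelian 2 C) (h : ∀ b ∈ B, ∀ c ∈ C, Commute b c) :
    Cfsg.IsElementaryAbelian 2 (B ⊔ C : Subgroup G) := by
  haveI : Fact (Nat.Prime 2) := ⟨Nat.prime_two⟩
  have hBC : B ≤ normalizer (C : Set G) := fun b hb => mem_normalizer_iff.2 fun c => by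
    constructor
    · intro hc
      rwa [(h b hb c hc).eq, mul_inv_cancel_right]
    · intro hc
      have h1 := (h b hb _ hc).eq
      rw [inv_mul_cancel_right] at h1
      rwa [mul_left_cancel h1] at hc
  have hdec : ∀ x ∈ B ⊔ C, ∃ b ∈ B, ∃ c ∈ C, b * c = x := fun x hx => by
    have h2 : x ∈ ((B ⊔ C : Subgroup G) : Set G) := hx
    rw [Subgroup.coe_mul_of_left_le_normalizer_right B C hBC] at h2
    exact Set.mem_mul.1 h2
  refine ⟨⟨⟨fun x y => Subtype.ext ?_⟩⟩, fun x hx => ?_⟩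
  · obtain ⟨b, hb, c, hc, hx⟩ := hdec x x.2
    obtain ⟨b', hb', c', hc', hy⟩ := hdec y y.2
    show (x : G) * y = y * x
    rw [← hx, ← hy]
    have e1 : Commute b (b' * c') := Commute.mul_right (Grp.elemAb_comm hB _ hb _ hb') (h b hb c' hc')
    have e2 : Commute c (b' * c') := Commute.mul_right (h b' hb' c hc).symm (Grp.elemAb_comm hC _ hc _ hc')
    exact (e1.mul_left e2).eq
  · obtain ⟨b, hb, c, hc, rfl⟩ := hdec x hx
    rw [(h b hb c hc).mul_pow, hB.2 b hb, hC.2 c hc, one_mul]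

theorem elemAb_zpowers {u : G} (hu : u ^ 2 = 1) : Cfsg.IsElementaryAbelian 2 (zpowers u) := by
  refine ⟨inferInstance, fun x hx => ?_⟩
  obtain ⟨i, rfl⟩ := mem_zpowers_iff.1 hx
  rw [← zpow_natCast, ← zpow_mul, mul_comm, zpow_mul, zpow_natCast, hu, one_zpow]

theorem four_le_card_sup {u v : G} (hu : u ^ 2 = 1) (_hv : v ^ 2 = 1) (_huv : Commute u v)
    (hu1 : u ≠ 1) (hv' : v ∉ zpowers u) : 4 ≤ Nat.card (zpowers u ⊔ zpowers v : Subgroup G) := by
  haveI : Fact (Nat.Prime 2) := ⟨Nat.prime_two⟩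
  have hcard : Nat.card (zpowers u) = 2 := by
    rw [Nat.card_zpowers]; exact orderOf_eq_prime hu hu1
  have hlt : Nat.card (zpowers u) < Nat.card (zpowers u ⊔ zpowers v : Subgroup G) :=
    lt_of_le_of_ne (card_le_of_le le_sup_left) fun he =>
      hv' ((eq_of_le_of_card_ge le_sup_left he.ge).ge (mem_sup_right (mem_zpowers v)))
  have hd : 2 ∣ Nat.card (zpowers u ⊔ zpowers v : Subgroup G) := hcard ▸ card_dvd_of_le le_sup_left
  omega

section Closure

variable (h2c : ∀ T : Subgroup G, IsPGroup 2 T → T ≠ ⊥ →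
    Cfsg.IsPConstrained 2 ↥(Subgroup.normalizer (T : Set G)))
  (hFT : ∀ (K : Type u) [Group K] [Finite K], Odd (Nat.card K) → Group.IsSolvable K)
include h2c hFT

theorem functor_of_elemAb {F : Subgroup G} (hF : Cfsg.IsElementaryAbelian 2 F) :
    Cfsg.IsSolvableSignalizerFunctor 2 F (fun x => Cfsg.centralizerPPrimeCore 2 x) := by
  haveI : Fact (Nat.Prime 2) := ⟨Nat.prime_two⟩
  have hodd : ∀ a : G, Odd (Nat.card ↥(Cfsg.centralizerPPrimeCore 2 a)) := fun a =>
    Nat.coprime_two_right.1 (Grp.centralizerPPrimeCore_coprime (p := 2) a)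
  refine ⟨⟨fun a _ _ y hy => mem_centralizer_singleton_iff.2 (Grp.centralizerPPrimeCore_commute hy),
    fun a _ _ => Nat.two_dvd_ne_zero.2 (Nat.odd_iff.1 (hodd a)),
    fun a ha _ b hb x hx => Grp.centralizerPPrimeCore_conj (Grp.elemAb_comm hF b hb a ha) hx,
    fun a ha _ b hb hb1 => inf_centralizer_le h2c (orderOf_eq_prime (hF.2 b hb) hb1) (k := 1)
      (by rw [pow_one]; exact hF.2 a ha) (Grp.elemAb_comm hF a ha b hb)⟩,
    fun a _ _ => hFT _ (hodd a)⟩

/-- A subgroup of order at least 4 generates the whole closure. -/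
theorem coreOver_eq {B F : Subgroup G} (hF : Cfsg.IsElementaryAbelian 2 F) (h8 : 8 ≤ Nat.card F)
    (hBF : B ≤ F) (h4 : 4 ≤ Nat.card B) : coreOver B = coreOver F := by
  haveI : Fact (Nat.Prime 2) := ⟨Nat.prime_two⟩
  obtain ⟨-, hdvd, hnorm, hfix⟩ :=
    Transfer.SFT.closure_complete hF (by norm_num; exact h8) (functor_of_elemAb h2c hFT hF)
  refine le_antisymm (coreOver_mono hBF) ?_
  have hB : Cfsg.IsElementaryAbelian 2 B := Grp.elemAb_mono hF hBF
  refine Grp.le_of_hyperplanes hB (fun e => ?_) (coreOver F) hdvd (hBF.trans hnorm) fun D hDB hrel => ?_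
  · rw [e, Subgroup.card_bot] at h4; omega
  obtain ⟨b, hb, hb1⟩ := (Subgroup.ne_bot_iff_exists_ne_one.1
    (Grp.ne_bot_of_relIndex (p := 2) (by norm_num; exact h4) hrel)) |>.elim
      fun x hx => (⟨x, x.2, fun e => hx (Subtype.ext e)⟩ : ∃ b : G, b ∈ D ∧ b ≠ 1)
  calc coreOver F ⊓ centralizer (D : Set G) ≤ coreOver F ⊓ centralizer ({b} : Set G) :=
        inf_le_inf_left _ (centralizer_le (Set.singleton_subset_iff.2 hb))
    _ = Cfsg.centralizerPPrimeCore 2 b := hfix b (hBF (hDB hb)) hb1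
    _ ≤ coreOver B := le_coreOver (hDB hb) hb1

/-- Commuting subgroups of order at least 4 have the same closure. -/
theorem coreOver_eq_of_commute {B C : Subgroup G} (hB : Cfsg.IsElementaryAbelian 2 B)
    (hB4 : 4 ≤ Nat.card B) (hC : Cfsg.IsElementaryAbelian 2 C) (hC4 : 4 ≤ Nat.card C)
    (h : ∀ b ∈ B, ∀ c ∈ C, Commute b c) : coreOver B = coreOver C := by
  haveI : Fact (Nat.Prime 2) := ⟨Nat.prime_two⟩
  have hF := elemAb_sup hB hC h
  set F := B ⊔ C
  by_cases h8 : 8 ≤ Nat.card F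
  · exact (coreOver_eq h2c hFT hF h8 le_sup_left hB4).trans
      (coreOver_eq h2c hFT hF h8 le_sup_right hC4).symm
  obtain ⟨k, hk⟩ := IsPGroup.iff_card.1 (Grp.elemAb_isPGroup (p := 2) hF)
  have h1 := card_le_of_le (le_sup_left : B ≤ F)
  have h2 := card_le_of_le (le_sup_right : C ≤ F)
  have hk2 : k = 2 := by
    rcases Nat.lt_or_ge k 3 with hlt | hge
    · by_contra hne
      have h3 : 2 ^ k ≤ 2 ^ 1 := Nat.pow_le_pow_right two_pos (by omega)
      have h5 : Nat.card ↥(B ⊔ C : Subgroup G) = 2 ^ k := hk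
      omega
    · exact absurd (hk ▸ Nat.pow_le_pow_right two_pos hge) h8
  subst hk2
  have h5 : Nat.card ↥(B ⊔ C : Subgroup G) = 2 ^ 2 := hk
  norm_num at h5
  exact (congrArg coreOver (eq_of_le_of_card_ge (le_sup_left : B ≤ B ⊔ C) (by omega))).trans
    (congrArg coreOver (eq_of_le_of_card_ge (le_sup_right : C ≤ B ⊔ C) (by omega))).symm

/-- All subgroups of 2-rank at least 2 of `P` have the closure of `E`. -/
theorem exists_odd_closure (P : Sylow 2 G) (E : Subgroup G) (hEP : E ≤ (P : Subgroup G))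
    (hEn : ∀ g ∈ (P : Subgroup G), ∀ e ∈ E, g * e * g⁻¹ ∈ E) (hE : Cfsg.IsElementaryAbelian 2 E)
    (h8 : 8 ≤ Nat.card E) :
    Odd (Nat.card ↥(coreOver E)) ∧ ∀ B : Subgroup G, B ≤ (P : Subgroup G) → ¬ Cfsg.PRankLE 2 1 ↥B →
      coreOver E = coreOver B ∧ normalizer (B : Set G) ≤ normalizer (coreOver E : Set G) := by
  haveI : Fact (Nat.Prime 2) := ⟨Nat.prime_two⟩
  obtain ⟨-, hdvd, -, -⟩ :=
    Transfer.SFT.closure_complete hE (by norm_num; exact h8) (functor_of_elemAb h2c hFT hE)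
  refine ⟨Nat.odd_iff.2 (Nat.two_dvd_ne_zero.1 hdvd), ?_⟩
  haveI : Group.IsNilpotent ↥(P : Subgroup G) := P.isPGroup'.isNilpotent
  haveI : (E.subgroupOf (P : Subgroup G)).Normal :=
    ⟨fun e he g => hEn g g.2 e he⟩
  have hEne : E.subgroupOf (P : Subgroup G) ≠ ⊥ := fun e => by
    have := Nat.card_congr (subgroupOfEquivOfLe hEP).toEquiv
    rw [e, Subgroup.card_bot] at this
    omega
  obtain ⟨w, hw, hw1⟩ := (Subgroup.ne_bot_iff_exists_ne_one.1
    (Grp.inf_center_ne_bot (E.subgroupOf (P : Subgroup G)) hEne)) |>.elim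
      fun x hx => (⟨x, x.2, fun e => hx (Subtype.ext e)⟩ :
        ∃ b : ↥(P : Subgroup G), b ∈ E.subgroupOf (P : Subgroup G) ⊓ center _ ∧ b ≠ 1)
  set z : G := (w : G) with hz
  have hzE : z ∈ E := hw.1
  have hz1 : z ≠ 1 := fun e => hw1 (Subtype.ext e)
  have hzc : ∀ x ∈ (P : Subgroup G), Commute z x := fun x hx =>
    (congrArg Subtype.val (mem_center_iff.1 hw.2 ⟨x, hx⟩)).symm
  have hz2 : z ^ 2 = 1 := hE.2 z hzE
  have hzcard : Nat.card (zpowers z) = 2 := by rw [Nat.card_zpowers]; exact orderOf_eq_prime hz2 hz1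
  -- subgroups of order at least four
  have hfour : ∀ a ∈ (P : Subgroup G), a ^ 2 = 1 → a ∉ zpowers z →
      coreOver (zpowers z ⊔ zpowers a) = coreOver E := by
    intro a haP ha2 hanz
    have hF := elemAb_sup (elemAb_zpowers hz2) (elemAb_zpowers ha2) fun b hb c hc => by
      obtain ⟨i, rfl⟩ := mem_zpowers_iff.1 hb
      obtain ⟨j, rfl⟩ := mem_zpowers_iff.1 hc
      exact (hzc a haP).zpow_zpow i j
    let φ : ↥E →* ↥E := MonoidHom.mk'
      (fun e => e * ⟨a * (e : G) * a⁻¹, hEn a haP e e.2⟩) fun e f => Subtype.ext (by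
        have hc : Commute (f : G) (a * (e : G) * a⁻¹) :=
          Grp.elemAb_comm hE _ f.2 _ (hEn a haP e e.2)
        show (e : G) * f * (a * ((e : G) * f) * a⁻¹) =
          (e : G) * (a * e * a⁻¹) * ((f : G) * (a * f * a⁻¹))
        calc (e : G) * f * (a * ((e : G) * f) * a⁻¹)
            = (e : G) * ((f : G) * (a * e * a⁻¹)) * (a * f * a⁻¹) := by group
          _ = (e : G) * ((a * e * a⁻¹) * f) * (a * f * a⁻¹) := by rw [hc.eq]
          _ = _ := by group)
    have haa : a * a = 1 := by rw [← pow_two]; exact ha2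
    have hker : ∀ e : ↥E, e ∈ φ.ker → Commute a (e : G) := fun e he => by
      have h1 : (e : G) * (a * e * a⁻¹) = 1 := congrArg Subtype.val (MonoidHom.mem_ker.1 he)
      have h2 : (e : G) * e = 1 := by rw [← pow_two]; exact hE.2 e e.2
      exact mul_inv_eq_iff_eq_mul.1 (mul_left_cancel (h1.trans h2.symm))
    have hran : φ.range ≤ φ.ker := by
      rintro _ ⟨e, rfl⟩
      rw [MonoidHom.mem_ker]
      refine Subtype.ext ?_
      show (e : G) * (a * e * a⁻¹) * (a * ((e : G) * (a * e * a⁻¹)) * a⁻¹) = 1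
      have hc : Commute (e : G) (a * (e : G) * a⁻¹) :=
        Grp.elemAb_comm hE _ e.2 _ (hEn a haP e e.2)
      calc (e : G) * (a * e * a⁻¹) * (a * ((e : G) * (a * e * a⁻¹)) * a⁻¹)
          = (e : G) * (a * e * a⁻¹) * ((a * e * a⁻¹) * ((a * a) * e * (a * a)⁻¹)) := by group
        _ = ((e : G) * (a * e * a⁻¹)) * ((e : G) * (a * e * a⁻¹)) := by
            rw [haa, one_mul, inv_one, mul_one, ← hc.eq]
        _ = 1 := by
            rw [← pow_two]
            exact hE.2 _ (mul_mem e.2 (hEn a haP e e.2))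
    have hk3 : 3 ≤ Nat.card φ.ker := by
      by_contra hlt
      have h1 := φ.ker.card_mul_index
      rw [Subgroup.index_ker] at h1
      have h2 := card_le_of_le hran
      have h3 : Nat.card φ.ker ≤ 2 := by omega
      have h4 : Nat.card φ.ker * Nat.card φ.range ≤ 2 * 2 := Nat.mul_le_mul h3 (h2.trans h3)
      omega
    obtain ⟨v, hv, hvz⟩ : ∃ v ∈ φ.ker, (v : G) ∉ zpowers z := by
      by_contra hno
      push Not at hno
      have : Nat.card (φ.ker.map E.subtype) ≤ Nat.card (zpowers z) :=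
        card_le_of_le (by rintro _ ⟨v, hv, rfl⟩; exact hno v hv)
      rw [Nat.card_congr (equivMapOfInjective _ _ E.subtype_injective).toEquiv.symm, hzcard] at this
      omega
    have hva := hker v hv
    have hU := elemAb_sup (elemAb_zpowers hz2) (elemAb_zpowers (hE.2 v v.2)) fun b hb c hc => by
      obtain ⟨i, rfl⟩ := mem_zpowers_iff.1 hb
      obtain ⟨j, rfl⟩ := mem_zpowers_iff.1 hc
      exact (hzc v (hEP v.2)).zpow_zpow i j
    have hUE : zpowers z ⊔ zpowers (v : G) ≤ E :=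
      sup_le (zpowers_le.2 hzE) (zpowers_le.2 v.2)
    have hU4 := four_le_card_sup hz2 (hE.2 v v.2) (hzc v (hEP v.2)) hz1 hvz
    rw [coreOver_eq_of_commute h2c hFT hF (four_le_card_sup hz2 ha2 (hzc a haP) hz1 hanz) hU hU4 ?_,
      coreOver_eq h2c hFT hE h8 hUE hU4]
    intro b hb c hc
    have hcomm : ∀ y ∈ zpowers z ⊔ zpowers (v : G), Commute z y ∧ Commute a y := fun y hy =>
      ⟨hzc y (hEP (hUE hy)), by
        have hle : zpowers z ⊔ zpowers (v : G) ≤ centralizer ({a} : Set G) :=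
          sup_le (zpowers_le.2 (mem_centralizer_singleton_iff.2 (hzc a haP).eq))
            (zpowers_le.2 (mem_centralizer_singleton_iff.2 hva.symm.eq))
        exact (mem_centralizer_singleton_iff.1 (hle hy)).symm⟩
    have hle : zpowers z ⊔ zpowers a ≤ centralizer ({c} : Set G) :=
      sup_le (zpowers_le.2 (mem_centralizer_singleton_iff.2 (hcomm c hc).1.eq))
        (zpowers_le.2 (mem_centralizer_singleton_iff.2 (hcomm c hc).2.eq))
    exact mem_centralizer_singleton_iff.1 (hle hb)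
  -- cores of single elements
  have helem : ∀ b ∈ (P : Subgroup G), b ≠ 1 → Cfsg.centralizerPPrimeCore 2 b ≤ coreOver E := by
    intro b hbP hb1
    obtain ⟨k, hk⟩ := P.isPGroup' ⟨b, hbP⟩
    have hk' : b ^ 2 ^ k = 1 := congrArg Subtype.val hk
    obtain ⟨j, hj⟩ : ∃ j : ℕ, orderOf b = 2 ^ (j + 1) := by
      obtain ⟨m, -, hm⟩ := (Nat.dvd_prime_pow Nat.prime_two).1 (orderOf_dvd_of_pow_eq_one hk')
      refine ⟨m - 1, ?_⟩
      rcases Nat.eq_zero_or_pos m with rfl | hm0
      · exact absurd (orderOf_eq_one_iff.1 (by simpa using hm)) hb1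
      · rw [hm, Nat.sub_add_cancel hm0]
    set u := b ^ 2 ^ j with hu
    have hu1 : u ≠ 1 := fun e => by
      have h1 := Nat.le_of_dvd (Nat.two_pow_pos j) (orderOf_dvd_of_pow_eq_one e)
      rw [hj, pow_succ] at h1
      have := Nat.two_pow_pos j
      omega
    have hu2' : u ^ 2 = 1 := by rw [hu, ← pow_mul, ← pow_succ, ← hj, pow_orderOf_eq_one]
    have hu2 : orderOf u = 2 := orderOf_eq_prime hu2' hu1
    have hle : Cfsg.centralizerPPrimeCore 2 b ≤ Cfsg.centralizerPPrimeCore 2 u := fun y hy =>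
      inf_centralizer_le h2c hu2 hk' (Commute.self_pow b _) ⟨hy, mem_centralizer_singleton_iff.2
        ((show Commute y b from Grp.centralizerPPrimeCore_commute hy).pow_right _).eq⟩
    refine hle.trans ?_
    by_cases huz : u ∈ zpowers z
    · obtain ⟨i, hi⟩ := mem_zpowers_iff.1 huz
      exact le_coreOver (hi ▸ zpow_mem hzE i) hu1
    · rw [← hfour u (pow_mem hbP _) hu2' huz]
      exact le_coreOver (mem_sup_right (mem_zpowers u)) hu1
  intro B hBP hB
  have heq : coreOver E = coreOver B := by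
    refine le_antisymm ?_ (iSup_le fun b => helem b (hBP b.2.1) b.2.2)
    obtain ⟨K, hK, hKB⟩ := Fus.FourGraph.exists_klein_le hB
    have hK2 : ∀ x ∈ K, x ^ 2 = 1 := fun x hx => by
      have := congrArg Subtype.val (hK.exponent_two ▸ Monoid.pow_exponent_eq_one (⟨x, hx⟩ : K))
      simpa using this
    have hKab : Cfsg.IsElementaryAbelian 2 K :=
      ⟨⟨⟨fun x y => mul_comm_of_exponent_two hK.exponent_two x y⟩⟩, hK2⟩
    have hK4 : 4 ≤ Nat.card K := hK.card_four.ge
    obtain ⟨a, ha, haz⟩ : ∃ a ∈ K, a ∉ zpowers z := by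
      by_contra hno
      push Not at hno
      have := card_le_of_le (fun x hx => hno x hx : K ≤ zpowers z)
      omega
    have haP := hBP (hKB ha)
    have hF := elemAb_sup (elemAb_zpowers hz2) (elemAb_zpowers (hK2 a ha)) fun b hb c hc => by
      obtain ⟨i, rfl⟩ := mem_zpowers_iff.1 hb
      obtain ⟨j, rfl⟩ := mem_zpowers_iff.1 hc
      exact (hzc a haP).zpow_zpow i j
    calc coreOver E = coreOver (zpowers z ⊔ zpowers a) := (hfour a haP (hK2 a ha) haz).symm
      _ = coreOver K := coreOver_eq_of_commute h2c hFT hF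
          (four_le_card_sup hz2 (hK2 a ha) (hzc a haP) hz1 haz) hKab hK4 fun b hb c hc => by
            have hle : zpowers z ⊔ zpowers a ≤ centralizer ({c} : Set G) :=
              sup_le (zpowers_le.2 (mem_centralizer_singleton_iff.2 (hzc c (hBP (hKB hc))).eq))
                (zpowers_le.2 (mem_centralizer_singleton_iff.2 (Grp.elemAb_comm hKab a ha c hc)))
            exact mem_centralizer_singleton_iff.1 (hle hb)
      _ ≤ coreOver B := coreOver_mono hKB
  refine ⟨heq, fun g hg => ?_⟩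
  rw [heq]
  have hmap : (coreOver B).map (MulAut.conj g).toMonoidHom ≤ coreOver B := by
    refine Subgroup.map_le_iff_le_comap.2 (iSup_le fun b => Subgroup.map_le_iff_le_comap.1 ?_)
    have hb' : g * (b : G) * g⁻¹ ∈ B := (mem_normalizer_iff.1 hg _).1 b.2.1
    have hb1 : g * (b : G) * g⁻¹ ≠ 1 := fun e => b.2.2 (conj_eq_one_iff.1 e)
    refine le_trans ?_ (le_coreOver hb' hb1)
    refine Grp.le_centralizerPPrimeCore ?_ ?_ ?_
    · rintro _ ⟨y, hy, rfl⟩
      have := (show Commute y (b : G) from Grp.centralizerPPrimeCore_commute hy).map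
        (MulAut.conj g).toMonoidHom
      simpa using this.eq
    · rintro c hc _ ⟨y, hy, rfl⟩
      have hc' : Commute (g⁻¹ * c * g) (b : G) := by
        have := (show Commute c (g * (b : G) * g⁻¹) from hc).map (MulAut.conj g⁻¹).toMonoidHom
        simpa [mul_assoc] using this
      refine ⟨_, Grp.centralizerPPrimeCore_conj hc'.eq hy, ?_⟩
      simp [mul_assoc]
    · rw [Subgroup.card_map_of_injective (MulAut.conj g).injective]
      exact Grp.centralizerPPrimeCore_coprime (p := 2) _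
  have heqm := eq_of_le_of_card_ge hmap
    (le_of_eq (Subgroup.card_map_of_injective (MulAut.conj g).injective).symm)
  refine mem_normalizer_iff.2 fun y => ?_
  constructor
  · intro hy
    exact heqm.le (mem_map_of_mem _ hy)
  · intro hy
    obtain ⟨w, hw, hwe⟩ := heqm.ge hy
    have : w = y := (MulAut.conj g).injective (by simpa using hwe)
    exact this ▸ hw

/-- The version for a self-centralizing normal abelian subgroup of 2-rank at least 3. -/
theorem exists_closure (S : Sylow 2 G) (A : Subgroup ↥(S : Subgroup G)) (hAn : A.Normal)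
    (hAab : IsMulCommutative ↥A) (hA3 : ¬ Cfsg.PRankLE 2 2 ↥A) (S' : Sylow 2 G) :
    ∃ W : Subgroup G, Odd (Nat.card ↥W) ∧
      ∀ B : Subgroup G, B ≤ (S' : Subgroup G) → ¬ Cfsg.PRankLE 2 1 ↥B →
        W = (⨆ b : {b : G // b ∈ B ∧ b ≠ 1}, Cfsg.centralizerPPrimeCore 2 (b : G)) ∧
        Subgroup.normalizer (B : Set G) ≤ Subgroup.normalizer (W : Set G) := by
  haveI : Fact (Nat.Prime 2) := ⟨Nat.prime_two⟩
  obtain ⟨g, hg⟩ := MulAction.exists_smul_eq G S S'
  have hcomm : ∀ a b : ↥(S : Subgroup G), a ∈ A → b ∈ A → Commute a b := fun a b ha hb =>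
    congrArg Subtype.val (hAab.is_comm.comm ⟨a, ha⟩ ⟨b, hb⟩)
  let E₀ : Subgroup ↥(S : Subgroup G) :=
    { carrier := {a | a ∈ A ∧ a ^ 2 = 1}
      mul_mem' := fun {a b} ha hb =>
        ⟨A.mul_mem ha.1 hb.1, by rw [(hcomm a b ha.1 hb.1).mul_pow, ha.2, hb.2, one_mul]⟩
      one_mem' := ⟨A.one_mem, one_pow 2⟩
      inv_mem' := fun {a} ha => ⟨A.inv_mem ha.1, by rw [inv_pow, ha.2, inv_one]⟩ }
  have h8₀ : 8 ≤ Nat.card E₀ := by
    obtain ⟨X, hX, hX2, hXc⟩ : ∃ X : Subgroup A, IsMulCommutative X ∧ (∀ a ∈ X, a ^ 2 = 1) ∧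
        2 ^ 2 < Nat.card X := by
      simpa [Cfsg.PRankLE] using hA3
    have h1 : X.map A.subtype ≤ E₀ := by
      rintro _ ⟨x, hx, rfl⟩
      exact ⟨x.2, congrArg Subtype.val (hX2 x hx)⟩
    have h2 := card_le_of_le h1
    rw [Subgroup.card_map_of_injective A.subtype_injective] at h2
    obtain ⟨k, hk⟩ := IsPGroup.iff_card.1 ((S.isPGroup'.to_subgroup E₀))
    rw [hk] at h2 ⊢
    rcases Nat.lt_or_ge k 3 with hlt | hge
    · interval_cases k <;> omega
    · exact le_trans (by norm_num) (Nat.pow_le_pow_right two_pos hge)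
  let ψ : ↥(S : Subgroup G) →* G := (MulAut.conj g).toMonoidHom.comp (S : Subgroup G).subtype
  have hψ : Function.Injective ψ := (MulAut.conj g).injective.comp Subtype.val_injective
  have hS' : ∀ x : G, x ∈ (S' : Subgroup G) ↔ g⁻¹ * x * g ∈ (S : Subgroup G) := fun x => by
    rw [← hg, Sylow.coe_subgroup_smul, Subgroup.mem_pointwise_smul_iff_inv_smul_mem,
      ← map_inv, MulAut.smul_def, MulAut.conj_apply, inv_inv]
  obtain ⟨hodd, hall⟩ := exists_odd_closure h2c hFT S' (E₀.map ψ)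
    (by rintro _ ⟨e, -, rfl⟩; exact (hS' _).2 (by simp [ψ, mul_assoc]))
    (by
      rintro x hx _ ⟨e, he, rfl⟩
      refine ⟨⟨g⁻¹ * x * g, (hS' x).1 hx⟩ * e * (⟨g⁻¹ * x * g, (hS' x).1 hx⟩)⁻¹,
        ⟨hAn.conj_mem _ he.1 _, ?_⟩, by simp [ψ, mul_assoc]⟩
      rw [conj_pow, he.2, mul_one, mul_inv_cancel])
    (by
      refine ⟨⟨⟨?_⟩⟩, ?_⟩
      · rintro ⟨_, a, ha, rfl⟩ ⟨_, b, hb, rfl⟩
        exact Subtype.ext ((hcomm a b ha.1 hb.1).map ψ).eq
      · rintro _ ⟨a, ha, rfl⟩
        rw [← map_pow, ha.2, map_one])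
    (by rwa [Subgroup.card_map_of_injective hψ])
  exact ⟨_, hodd, hall⟩

end Closure

end Cfsg.Agent.ConstrainedCores
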