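import Cfsg.Agent.Lib.Invol.ThompsonReduction
import Cfsg.Agent.Lib.Invol.ZJFunctor

/-!
A normal `p`-complement criterion from the centres of the Thompson subgroups of a strongly closed
subgroup.
-/

set_option autoImplicit false
set_option linter.unusedSectionVars false
set_option linter.style.haveILetI false

open scoped Pointwise

namespace Cfsg.Agent.Invol

open Subgroup Fus

universe u

variable {p : ℕ} [hp : Fact p.Prime]

theorem npc_normalizer_conj {G : Type u} [Group G] [Finite G] (g : G) (U : Subgroup G)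
    (h : Cfsg.HasNormalPComplement p ↥(Subgroup.normalizer (U : Set G))) :
    Cfsg.HasNormalPComplement p
      ↥(Subgroup.normalizer (U.map (MulAut.conj g).toMonoidHom : Set G)) :=
  Transfer.hasNormalPComplement_mono
    (Subgroup.map_equiv_normalizer_eq U (MulAut.conj g)).ge
    ((Transfer.hasNormalPComplement_congr ((MulAut.conj g).subgroupMap _)).mp h)

/-- An element of the centre of a Sylow subgroup inside a nontrivial subgroup normalized by it. -/
theorem exists_central_mem {G : Type u} [Group G] [Finite G] (P : Sylow p G) {D : Subgroup G}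
    (hDP : D ≤ (P : Subgroup G)) (hPD : (P : Subgroup G) ≤ Subgroup.normalizer (D : Set G))
    (hne : D ≠ ⊥) :
    ∃ z ∈ D, z ≠ 1 ∧ ∀ s ∈ (P : Subgroup G), z * s = s * z := by
  haveI hDn : (D.subgroupOf (P : Subgroup G)).Normal :=
    (Subgroup.normal_subgroupOf_iff_le_normalizer hDP).2 hPD
  haveI : Group.IsNilpotent (P : Subgroup G) := P.isPGroup'.isNilpotent
  have hne' : D.subgroupOf (P : Subgroup G) ≠ ⊥ := fun h => hne (le_bot_iff.1 fun x hx => by
    have : (⟨x, hDP hx⟩ : (P : Subgroup G)) ∈ D.subgroupOf (P : Subgroup G) := hx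
    rw [h, Subgroup.mem_bot] at this
    exact congrArg Subtype.val this)
  obtain ⟨z, ⟨hzD, hzc⟩, hz1⟩ := (Subgroup.bot_or_exists_ne_one _).resolve_left
    (Grp.inf_center_ne_bot _ hne')
  exact ⟨z, hzD, fun h => hz1 (Subtype.ext h),
    fun s hs => (congrArg Subtype.val (Subgroup.mem_center_iff.1 hzc ⟨s, hs⟩)).symm⟩

/-- Stability in normalizer form gives stability on normal `p`-subgroups. -/
theorem isPStableOn_of_isNormalizerPStable {G : Type u} [Group G] [Finite G]
    (hst : IsNormalizerPStable p G) (V : Subgroup G) [V.Normal] (hV : IsPGroup p V) :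
    IsPStableOn p V := by
  intro a hq
  have ha : a ∈ Subgroup.normalizer (V : Set G) := by
    rw [Subgroup.normalizer_eq_top]; exact Subgroup.mem_top a
  have h2 := hst V hV a ha hq
  set N := Subgroup.normalizer (V : Set G) with hN
  set C' := (Subgroup.centralizer (V : Set G)).subgroupOf N with hC'
  set C := Subgroup.centralizer (V : Set G) with hC
  let φ : N →* G ⧸ C := (QuotientGroup.mk' C).comp N.subtype
  let ψ : N →* N ⧸ C' := QuotientGroup.mk' C'
  set W := (pCore p (N ⧸ C')).comap ψ with hW
  haveI : (pCore p (N ⧸ C')).Normal := Grp.pCore_isNormal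
  haveI : W.Normal := Subgroup.Normal.comap inferInstance ψ
  have hφs : Function.Surjective φ := by
    intro y
    obtain ⟨z, rfl⟩ := QuotientGroup.mk'_surjective C y
    exact ⟨⟨z, by rw [hN, Subgroup.normalizer_eq_top]; exact Subgroup.mem_top z⟩, rfl⟩
  have hker : ψ.ker ≤ φ.ker := fun x hx =>
    (QuotientGroup.eq_one_iff (x : G)).2 ((QuotientGroup.eq_one_iff x).1 hx)
  have hp' : IsPGroup p (W.map φ) := by
    rintro ⟨_, w, hw, rfl⟩
    obtain ⟨k, hk⟩ := (Grp.pCore_isPGroup (p := p) (G := N ⧸ C')) ⟨ψ w, hw⟩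
    refine ⟨k, Subtype.ext ?_⟩
    rw [SubmonoidClass.coe_pow, OneMemClass.coe_one, ← map_pow, ← MonoidHom.mem_ker]
    exact hker (by rw [MonoidHom.mem_ker, map_pow]; exact congrArg Subtype.val hk)
  exact Grp.le_pCore (Subgroup.Normal.map inferInstance φ hφs) hp' ⟨⟨a, ha⟩, h2, rfl⟩

/-- If the normalizer of `Z(J(D))` (or of `Ω₁Z(J_e(D))`) of a strongly closed subgroup `D` has a
normal `p`-complement, then so does the group. -/
theorem npc_of_stronglyClosed (hp2 : p ≠ 2) {W : ∀ (G : Type u) [Group G], Subgroup G → Subgroup G}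
    (hF : IsZJFunctor p W) :
    ∀ (G : Type u) [Group G] [Finite G] (P : Sylow p G) (D : Subgroup G),
      IsStronglyClosed D (P : Subgroup G) →
      Cfsg.HasNormalPComplement p ↥(Subgroup.normalizer (W G D : Set G)) →
      Cfsg.HasNormalPComplement p G := by
  suffices key : ∀ (N : ℕ) (G : Type u) [Group G] [Finite G], Nat.card G = N →
      ∀ (P : Sylow p G) (D : Subgroup G), IsStronglyClosed D (P : Subgroup G) →
      Cfsg.HasNormalPComplement p ↥(Subgroup.normalizer (W G D : Set G)) →
      Cfsg.HasNormalPComplement p G from fun G _ _ => key _ G rfl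
  intro N
  induction N using Nat.strong_induction_on with
  | _ N ih =>
  intro G _ _ hcard P D hD hW
  by_contra hG
  have htopW : Subgroup.normalizer (W G D : Set G) ≠ ⊤ := fun h =>
    hG ((Transfer.hasNormalPComplement_congr Subgroup.topEquiv).mp (h ▸ hW))
  have hD1 : D ≠ ⊥ := fun h => htopW (by
    rw [show W G D = ⊥ from le_bot_iff.1 ((hF.le D).trans h.le)]
    exact Subgroup.normalizer_eq_top _)
  -- proper subgroups
  have hsub : ∀ (H : Subgroup G), H ≠ ⊤ → ∀ (T : Subgroup G), Grp.IsSylowIn p T H →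
      ∀ E : Subgroup G, E ≤ T → (∀ x ∈ E, ∀ h ∈ H, h * x * h⁻¹ ∈ T → h * x * h⁻¹ ∈ E) →
      Cfsg.HasNormalPComplement p ↥(Subgroup.normalizer (W G E : Set G)) →
      Cfsg.HasNormalPComplement p H := by
    intro H hH T hT E hET hE hN
    obtain ⟨S, hS⟩ := Grp.isSylowIn_iff.mp hT
    have hmem : ∀ x : H, x ∈ (S : Subgroup H) ↔ (x : G) ∈ T := fun x => by
      rw [← hS]
      exact ⟨fun h => ⟨x, h, rfl⟩, fun ⟨y, hy, e⟩ => Subtype.ext e ▸ hy⟩
    refine ih _ (hcard ▸ Grp.card_lt_of_ne_top hH) H rfl S (E.subgroupOf H)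
      ⟨fun x hx => (hmem x).2 (hET hx), fun x hx h hy => hE x hx h h.2 ((hmem _).1 hy)⟩ ?_
    refine hasNormalPComplement_normalizer_comap H _ ?_
    rw [hF.map H.subtype _ (fun x _ hx => Subtype.ext hx), Subgroup.subgroupOf_map_subtype,
      inf_eq_left.2 (hET.trans hT.1)]
    exact hN
  -- no normal `p'`-subgroups
  have hO : pPrimeCore p G = ⊥ := by
    by_contra hne
    haveI hLn : (pPrimeCore p G).Normal := Grp.pPrimeCore_isNormal
    set f := QuotientGroup.mk' (pPrimeCore p G) with hf
    have hfs : Function.Surjective f := QuotientGroup.mk'_surjective _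
    have hinj : ∀ x ∈ D, f x = 1 → x = 1 := fun x hx hfx =>
      eq_one_of_coprime_of_mem P.isPGroup' (hD.1 hx) (Grp.pPrimeCore_coprime.coprime_dvd_left
        ((pPrimeCore p G).orderOf_dvd_natCard ((QuotientGroup.eq_one_iff x).mp hfx)))
    refine hG (Transfer.hasNormalPComplement_of_quotient _ Grp.pPrimeCore_not_dvd
      (ih _ (hcard ▸ Grp.card_quotient_lt hne) _ rfl (P.mapSurjective hfs) (D.map f)
        (stronglyClosed_map _ P hD) ?_))
    rw [← hF.map f D hinj]
    exact Transfer.hasNormalPComplement_mono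
      (normalizer_map_le_of_coprime f hfs
        (by rw [hf, QuotientGroup.ker_mk']; exact Grp.pPrimeCore_coprime)
        (P.isPGroup'.to_le ((hF.le D).trans hD.1)))
      (Transfer.hasNormalPComplement_of_surjective _ (f.subgroupMap_surjective _) hW)
  -- there is a normal `p`-subgroup
  set Q := pCore p G with hQ
  haveI hQn : Q.Normal := Grp.pCore_isNormal
  have hQP : Q ≤ (P : Subgroup G) := Grp.pCore_le_sylow P
  have hQp : IsPGroup p Q := Grp.pCore_isPGroup
  have hPD := sylow_le_normalizer_stronglyClosed hD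
  have hQ1 : Q ≠ ⊥ := by
    intro hQ0
    obtain ⟨z, hzD, hz1, hzc⟩ := exists_central_mem P hD.1 hPD hD1
    have good : ∀ (k : ℕ) (U T : Subgroup G), IsPGroup p U → U ≠ ⊥ → T ≤ (P : Subgroup G) →
        Grp.IsSylowIn p T (Subgroup.normalizer (U : Set G)) →
        Nat.card (P : Subgroup G) - Nat.card T = k →
        Cfsg.HasNormalPComplement p ↥(Subgroup.normalizer (U : Set G)) := by
      intro k
      induction k using Nat.strong_induction_on with
      | _ k ih2 =>
      intro U T hU hU1 hTP hT hk
      set H := Subgroup.normalizer (U : Set G) with hH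
      have hHtop : H ≠ ⊤ := fun h => hU1 (le_bot_iff.1
        (hQ0 ▸ Grp.le_pCore (Subgroup.normalizer_eq_top_iff.1 h) hU))
      set E := D ⊓ T with hE
      refine hsub H hHtop T hT E inf_le_right
        (fun x hx h _ hy => ⟨hD.2 x hx.1 h (hTP hy), hy⟩) ?_
      rcases hTP.eq_or_lt with hTP' | hTP'
      · rwa [hE, hTP', inf_eq_left.2 hD.1]
      -- the centre of `P` lies in `T`
      have hUT : U ≤ T := by
        obtain ⟨S, hS⟩ := Grp.isSylowIn_iff.mp hT
        haveI hn' : (U.subgroupOf H).Normal := Subgroup.normal_in_normalizer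
        have h1 := (show IsPGroup p (U.subgroupOf H) from hU.comap_subtype).le_sylow_of_normal S
        intro x hx
        rw [← hS]
        exact ⟨⟨x, Subgroup.le_normalizer hx⟩, h1 (show (⟨x, _⟩ : H) ∈ U.subgroupOf H from hx), rfl⟩
      have hzT : z ∈ T := by
        have hzH : z ∈ H := Subgroup.centralizer_le_normalizer _
          (Subgroup.mem_centralizer_iff.2 fun u hu => (hzc u (hTP (hUT hu))).symm)
        have h1 := hT.eq_of_le (le_inf hTP hT.1) inf_le_right (P.isPGroup'.to_le inf_le_left)
        rw [h1]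
        exact ⟨hD.1 hzD, hzH⟩
      set V := W G E with hV
      have hEP : E ≤ (P : Subgroup G) := inf_le_right.trans hTP
      have hV1 : V ≠ ⊥ := hF.ne_bot (P.isPGroup'.to_le hEP) fun h =>
        hz1 (Subgroup.mem_bot.1 (h ▸ ⟨hzD, hzT⟩))
      set T' := (P : Subgroup G) ⊓ Subgroup.normalizer (T : Set G) with hT'
      have hT'V : T' ≤ Subgroup.normalizer (V : Set G) := fun s hs =>
        hF.normalizer_le _ (Subgroup.mem_normalizer_iff.2 fun x =>
          and_congr (Subgroup.mem_normalizer_iff.1 (hPD hs.1) x)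
            (Subgroup.mem_normalizer_iff.1 hs.2 x))
      have hlt : Nat.card T < Nat.card T' := by
        have h2 := Transfer.lt_inf_normalizer P hTP'
        exact lt_of_not_ge fun h => h2.ne (Subgroup.eq_of_le_of_card_ge h2.le h)
      -- move a Sylow subgroup of `N(V)` into `P`
      obtain ⟨S₀, hS₀⟩ : ∃ S : Sylow p (Subgroup.normalizer (V : Set G)),
          T'.subgroupOf (Subgroup.normalizer (V : Set G)) ≤
            (S : Subgroup (Subgroup.normalizer (V : Set G))) :=
        (show IsPGroup p (T'.subgroupOf (Subgroup.normalizer (V : Set G))) from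
          (P.isPGroup'.to_le inf_le_left).comap_subtype).exists_le_sylow
      set T₀ := (S₀ : Subgroup _).map (Subgroup.normalizer (V : Set G)).subtype with hT₀
      obtain ⟨S₁, hS₁⟩ := (S₀.isPGroup'.map (Subgroup.normalizer (V : Set G)).subtype).exists_le_sylow
      obtain ⟨g, hg⟩ := MulAction.exists_smul_eq G S₁ P
      set c := (MulAut.conj g).toMonoidHom with hc
      have hcP : T₀.map c ≤ (P : Subgroup G) := by
        rw [← hg, Sylow.coe_subgroup_smul, ← Grp.map_conj_eq_smul]
        exact Subgroup.map_mono hS₁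
      have hcS : Grp.IsSylowIn p (T₀.map c) (Subgroup.normalizer (V.map c : Set G)) := by
        rw [show Subgroup.normalizer (V.map c : Set G) = (Subgroup.normalizer (V : Set G)).map c from
          (Subgroup.map_equiv_normalizer_eq V (MulAut.conj g)).symm]
        refine ⟨Subgroup.map_mono (Subgroup.map_subtype_le _), (S₀.isPGroup'.map _).map _, ?_⟩
        rw [Subgroup.relIndex_map_map_of_injective _ _ (MulAut.conj g).injective]
        exact (Grp.isSylowIn_iff.mpr ⟨S₀, rfl⟩).2.2
      have hcard2 : Nat.card T' ≤ Nat.card (T₀.map c) := by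
        rw [Subgroup.card_map_of_injective (MulAut.conj g).injective]
        exact Subgroup.card_le_of_le fun x hx => ⟨⟨x, hT'V hx⟩, hS₀ hx, rfl⟩
      have hcard3 : Nat.card (T₀.map c) ≤ Nat.card (P : Subgroup G) := Subgroup.card_le_of_le hcP
      have h1 := ih2 _ (by omega) (V.map c) (T₀.map c)
        ((P.isPGroup'.to_le ((hF.le E).trans hEP)).map _)
        (fun h => hV1 ((Subgroup.map_eq_bot_iff_of_injective _ (MulAut.conj g).injective).mp h))
        hcP hcS rfl
      have h2 := npc_normalizer_conj g⁻¹ _ h1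
      rwa [Subgroup.map_map, show ((MulAut.conj g⁻¹).toMonoidHom).comp c = MonoidHom.id G by
        ext x; simp [hc, mul_assoc], Subgroup.map_id] at h2
    refine hG (Transfer.hasNormalPComplement_iff_local.mpr fun U hU hU1 => ?_)
    obtain ⟨T, hT⟩ := Grp.exists_isSylowIn p (Subgroup.normalizer (U : Set G))
    obtain ⟨S₁, hS₁⟩ := hT.2.1.exists_le_sylow
    obtain ⟨g, hg⟩ := MulAction.exists_smul_eq G S₁ P
    set c := (MulAut.conj g).toMonoidHom with hc
    have hcP : T.map c ≤ (P : Subgroup G) := by
      rw [← hg, Sylow.coe_subgroup_smul, ← Grp.map_conj_eq_smul]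
      exact Subgroup.map_mono hS₁
    have h1 := good _ (U.map c) (T.map c) (hU.map _)
      (fun h => hU1 ((Subgroup.map_eq_bot_iff_of_injective _ (MulAut.conj g).injective).mp h)) hcP
      (by
        rw [show Subgroup.normalizer (U.map c : Set G) = (Subgroup.normalizer (U : Set G)).map c from
          (Subgroup.map_equiv_normalizer_eq U (MulAut.conj g)).symm]
        refine ⟨Subgroup.map_mono hT.1, hT.2.1.map _, ?_⟩
        rw [Subgroup.relIndex_map_map_of_injective _ _ (MulAut.conj g).injective]
        exact hT.2.2) rfl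
    have h2 := npc_normalizer_conj g⁻¹ _ h1
    rwa [Subgroup.map_map, show ((MulAut.conj g⁻¹).toMonoidHom).comp c = MonoidHom.id G by
      ext x; simp [hc, mul_assoc], Subgroup.map_id] at h2
  -- overgroups of the Sylow subgroup
  have hover : ∀ H : Subgroup G, (P : Subgroup G) ≤ H → H ≠ ⊤ →
      Cfsg.HasNormalPComplement p H := fun H hPH hH =>
    hsub H hH P ⟨hPH, P.isPGroup', fun hd =>
      P.not_dvd_index (hd.trans (Subgroup.relIndex_dvd_index_of_le hPH))⟩ D hD.1
      (fun x hx h _ hy => hD.2 x hx h hy) hW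
  -- the quotient by `Q`
  set f := QuotientGroup.mk' Q with hf
  have hfs : Function.Surjective f := QuotientGroup.mk'_surjective Q
  have hcomap : ((P : Subgroup G).map f).comap f = P := by
    rw [Subgroup.comap_map_eq_self]
    rwa [hf, QuotientGroup.ker_mk']
  have hDb : IsStronglyClosed (D.map f) ((P.mapSurjective hfs : Sylow p (G ⧸ Q)) : Subgroup (G ⧸ Q)) := by
    refine ⟨Subgroup.map_mono hD.1, ?_⟩
    rintro _ ⟨x, hx, rfl⟩ hb hy
    obtain ⟨h, rfl⟩ := hfs hb
    have h1 : h * x * h⁻¹ ∈ (P : Subgroup G) := by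
      rw [← hcomap]
      show f (h * x * h⁻¹) ∈ (P : Subgroup G).map f
      rw [map_mul, map_mul, map_inv]
      exact hy
    exact ⟨_, hD.2 x hx h h1, by rw [map_mul, map_mul, map_inv]⟩
  have hDb1 : D.map f ≠ ⊥ := by
    intro h
    rw [Subgroup.map_eq_bot_iff, hf, QuotientGroup.ker_mk'] at h
    refine htopW (Subgroup.normalizer_eq_top_iff.2 ?_)
    have hDn : Subgroup.normalizer (D : Set G) = ⊤ := top_le_iff.1 fun g _ =>
      mem_normalizer_of_forall
        (fun x hx => hD.2 x hx g (hQP (hQn.conj_mem x (h hx) g)))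
        (fun x hx => by simpa using hD.2 x hx g⁻¹ (hQP (hQn.conj_mem x (h hx) g⁻¹)))
    exact Subgroup.normalizer_eq_top_iff.1 (top_le_iff.1 (hDn ▸ hF.normalizer_le D))
  have hGP : Cfsg.HasNormalPComplement p (G ⧸ Q) := by
    refine ih _ (hcard ▸ Grp.card_quotient_lt hQ1) _ rfl (P.mapSurjective hfs) (D.map f) hDb ?_
    set A := W (G ⧸ Q) (D.map f) with hA
    have hA1 : A ≠ ⊥ := hF.ne_bot ((P.isPGroup'.to_le hD.1).map f) hDb1
    set K := A.comap f with hK
    have hKP : K ≤ (P : Subgroup G) :=
      hcomap ▸ Subgroup.comap_mono ((hF.le _).trans (Subgroup.map_mono hD.1))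
    have hPK : (P : Subgroup G) ≤ Subgroup.normalizer (K : Set G) := by
      rw [hK, ← Subgroup.comap_normalizer_eq_of_surjective _ hfs, ← hcomap]
      exact Subgroup.comap_mono
        ((sylow_le_normalizer_stronglyClosed hDb).trans (hF.normalizer_le _))
    have hKN : Cfsg.HasNormalPComplement p ↥(Subgroup.normalizer (K : Set G)) := by
      refine hover _ hPK fun h => hA1 ?_
      have h1 : K ≤ Q := Grp.le_pCore (Subgroup.normalizer_eq_top_iff.1 h) (P.isPGroup'.to_le hKP)
      rw [← Subgroup.map_comap_eq_self_of_surjective hfs A, Subgroup.map_eq_bot_iff, hf,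
        QuotientGroup.ker_mk']
      exact h1
    rw [hK, ← Subgroup.comap_normalizer_eq_of_surjective _ hfs] at hKN
    refine Transfer.hasNormalPComplement_of_surjective (f.subgroupComap _) ?_ hKN
    rintro ⟨y, hy⟩
    obtain ⟨x, rfl⟩ := hfs y
    exact ⟨⟨x, hy⟩, rfl⟩
  set R := pResidual p (G ⧸ Q) with hR
  haveI hRn : R.Normal := Transfer.instNormalPResidual p
  have hRd : ¬ p ∣ Nat.card R := Transfer.hasNormalPComplement_iff_not_dvd.mp hGP
  have hRc : (Nat.card R).Coprime p := ((hp.out.coprime_iff_not_dvd).mpr hRd).symm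
  obtain ⟨k, hk⟩ := Transfer.exists_pResidual_index (G := G ⧸ Q) p
  set M := R.comap f with hM
  haveI hMn : M.Normal := hRn.comap f
  have htop : ∀ y : G, y ^ p ^ k ∈ M := by
    intro y
    have hMi : M.index = p ^ k := by rw [hM, Subgroup.index_comap_of_surjective _ hfs, hk]
    exact hMi ▸ M.pow_index_mem y
  -- `C(Q) ≤ Q`
  have hcent : Subgroup.centralizer (Q : Set G) ≤ Q := by
    set C := Subgroup.centralizer (Q : Set G) with hC
    have hCn : C.Normal := Subgroup.normal_centralizer
    have hY : C ⊓ M ≤ Q := by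
      set Y := C ⊓ M with hY
      have hYn : Y.Normal := Subgroup.normal_inf_normal C M
      have hcen : ∀ z ∈ Q.subgroupOf Y, ∀ y : Y, y * z = z * y := fun z hz y =>
        Subtype.ext ((Subgroup.mem_centralizer_iff.mp y.2.1 z hz).symm)
      have hidx : ¬ p ∣ (Q.subgroupOf Y).index := by
        intro hd
        refine hRd (hd.trans ?_)
        let g : Y →* R := (f.comp Y.subtype).codRestrict R fun y => y.2.2
        have hg : g.ker = Q.subgroupOf Y := by
          ext y
          rw [MonoidHom.mem_ker, Subgroup.mem_subgroupOf, ← QuotientGroup.eq_one_iff (N := Q)]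
          exact Subtype.ext_iff
        rw [← hg, Subgroup.index_ker]
        exact Subgroup.card_subgroup_dvd_card _
      let T : Sylow p Y := (hQp.comap_subtype).toSylow hidx
      have hYN : Cfsg.HasNormalPComplement p Y := by
        refine Transfer.hasNormalPComplement_of_control T fun x hx y hy ⟨g, hg⟩ => ⟨1, one_mem _, ?_⟩
        rw [one_mul, inv_one, mul_one, ← hg, hcen x hx g, mul_inv_cancel_right]
      have h1 : (pResidual p Y).map Y.subtype = ⊥ := by
        have hchar := Transfer.pResidual_characteristic p Y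
        refine le_bot_iff.1 (hO ▸ Grp.le_pPrimeCore ConjAct.normal_of_characteristic_of_normal ?_)
        rw [Subgroup.card_map_of_injective Y.subtype_injective]
        exact ((hp.out.coprime_iff_not_dvd).mpr
          (Transfer.hasNormalPComplement_iff_not_dvd.mp hYN)).symm
      rw [Subgroup.map_eq_bot_iff_of_injective _ Y.subtype_injective] at h1
      obtain ⟨j, hj⟩ := Transfer.exists_pResidual_index (G := Y) p
      rw [h1, Subgroup.index_bot] at hj
      exact Grp.le_pCore hYn (IsPGroup.of_card hj)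
    refine Grp.le_pCore hCn fun c => ?_
    obtain ⟨m, hm⟩ := hQp ⟨(c : G) ^ p ^ k, hY ⟨pow_mem c.2 _, htop c⟩⟩
    refine ⟨k + m, Subtype.ext ?_⟩
    have h2 := congrArg Subtype.val hm
    rw [pow_add, pow_mul]
    simpa using h2
  -- maximality of the Sylow subgroup
  have hmaxS : ∀ H : Subgroup G, (P : Subgroup G) ≤ H → H = P ∨ H = ⊤ := by
    intro H hPH
    by_contra hne
    push Not at hne
    set L := pResidual p H with hL
    have hLd : ¬ p ∣ Nat.card L := Transfer.hasNormalPComplement_iff_not_dvd.mp (hover H hPH hne.2)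
    haveI hLn : L.Normal := Transfer.instNormalPResidual p
    have hQH : Q ≤ H := hQP.trans hPH
    have hcop : (Nat.card L).Coprime (Nat.card (Q.subgroupOf H)) := by
      obtain ⟨m, hm⟩ : ∃ m, Nat.card (Q.subgroupOf H) = p ^ m :=
        IsPGroup.iff_card.mp (hQp.comap_subtype (K := H))
      rw [hm]
      exact Nat.Coprime.pow_right m ((hp.out.coprime_iff_not_dvd).mpr hLd).symm
    haveI hQn' : (Q.subgroupOf H).Normal := hQn.subgroupOf H
    have h1 := Grp.commute_of_coprime_normal hcop
    have hLb : L = ⊥ := by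
      rw [eq_bot_iff]
      intro r hr
      have hrQ : (r : G) ∈ Q := hcent <| Subgroup.mem_centralizer_iff.mpr fun x hx =>
        congrArg Subtype.val (Subgroup.mem_centralizer_iff.mp (h1 hr) ⟨x, hQH hx⟩ hx)
      rw [← Grp.inf_eq_bot_of_coprime hcop]
      exact ⟨hr, hrQ⟩
    obtain ⟨j, hj⟩ := Transfer.exists_pResidual_index (G := H) p
    rw [← hL, hLb, Subgroup.index_bot] at hj
    exact hne.1 (P.is_maximal' (IsPGroup.of_card hj) hPH)
  have hdata : IsPAbelData p Q M := by
    refine ⟨hQn, hMn, fun x hx => ?_, hQp, fun a ha b hb => ?_, fun y => ⟨k, htop y⟩,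
      fun m hm => ⟨Nat.card R, hRc, ?_⟩⟩
    · change f x ∈ R
      rw [show f x = 1 from (QuotientGroup.eq_one_iff x).mpr hx]
      exact one_mem R
    · have hab := abelian_of_maximal (P.mapSurjective hfs) (fun H hH => ?_) R hRc (f a) ha (f b) hb
      · rw [← QuotientGroup.eq_one_iff]
        change f (a * b * a⁻¹ * b⁻¹) = 1
        rw [map_mul, map_mul, map_mul, map_inv, map_inv, hab, mul_inv_cancel_right, mul_inv_cancel]
      rcases hmaxS (H.comap f) (fun x hx => hH ⟨x, hx, rfl⟩) with h | h
      · left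
        rw [← Subgroup.map_comap_eq_self_of_surjective hfs H, h]
        rfl
      · right
        rw [← Subgroup.map_comap_eq_self_of_surjective hfs H, h, ← MonoidHom.range_eq_map,
          MonoidHom.range_eq_top.mpr hfs]
    · rw [← QuotientGroup.eq_one_iff]
      exact congrArg Subtype.val (pow_card_eq_one' (x := (⟨f m, hm⟩ : R)))
  -- `G` is stable and constrained
  have hst : ∀ (V : Subgroup G) [V.Normal], IsPGroup p V → IsPStableOn p V := fun V _ hV =>
    isPStableOn_of_isNormalizerPStable (IsPAbelP.isNormalizerPStable hp2 ⟨Q, M, hdata⟩) V hV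
  refine htopW (Subgroup.normalizer_eq_top_iff.2 ?_)
  exact hF.normal hp2 hcent hst P hD

end Cfsg.Agent.Invol
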