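import Cfsg.Agent.Lib.Invol.FusionTheorem
import Cfsg.Agent.Lib.Invol.StronglyClosedControl

/-!
# The triple factorization and the normal closure of `Ω₁Z(S)`
-/

set_option autoImplicit false
set_option linter.style.haveILetI false

namespace Cfsg.Agent.Invol.Triple

open scoped Pointwise

universe u

variable {p : ℕ} [hp : Fact p.Prime] {G : Type u} [Group G] [Finite G]

/-- The conjugates of `Z` under `N`. -/
def orbitSet (N Z : Subgroup G) : Set G := {x | ∃ n ∈ N, ∃ z ∈ Z, n * z * n⁻¹ = x}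

omit hp [Finite G] in
theorem subset_orbitSet (N Z : Subgroup G) : (Z : Set G) ⊆ orbitSet N Z :=
  fun z hz => ⟨1, N.one_mem, z, hz, by simp⟩

omit hp [Finite G] in
theorem orbit_le {R N Z : Subgroup G} (hN : N ≤ Subgroup.normalizer (R : Set G))
    (hZ : Z ≤ R ⊓ Subgroup.centralizer (R : Set G)) :
    Subgroup.closure (orbitSet N Z) ≤ R ⊓ Subgroup.centralizer (R : Set G) := by
  rw [Subgroup.closure_le]
  rintro _ ⟨n, hn, z, hz, rfl⟩
  refine ⟨(Subgroup.mem_normalizer_iff.mp (hN hn) z).mp (hZ hz).1, ?_⟩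
  refine Subgroup.mem_centralizer_iff.mpr fun r hr => ?_
  have h := Subgroup.mem_centralizer_iff.mp (hZ hz).2 (n⁻¹ * r * n) (by
    simpa using (Subgroup.mem_normalizer_iff.mp (inv_mem (hN hn)) r).mp hr)
  calc r * (n * z * n⁻¹) = n * (n⁻¹ * r * n * z) * n⁻¹ := by group
    _ = n * (z * (n⁻¹ * r * n)) * n⁻¹ := by rw [h]
    _ = n * z * n⁻¹ * r := by group

omit hp in
theorem le_normalizer_orbit {N Z : Subgroup G} {g : G}
    (h : ∀ x ∈ orbitSet N Z, g * x * g⁻¹ ∈ Subgroup.closure (orbitSet N Z)) :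
    g ∈ Subgroup.normalizer (Subgroup.closure (orbitSet N Z) : Set G) := by
  refine mem_normalizer_of_forall_mem fun y hy => ?_
  induction hy using Subgroup.closure_induction with
  | mem x hx => exact h x hx
  | one => simp
  | mul x y _ _ hx hy => simpa [mul_assoc] using mul_mem hx hy
  | inv x _ hx => simpa [mul_assoc] using inv_mem hx

/-- Conjugation of `Z` by `N(W S)` is realized in `N(W' S)`. -/
theorem step (S : Sylow p G) {W W' : ∀ (Q : Type u) [Group Q], Subgroup Q}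
    (hW : Cfsg.IsCharPFunctor.{u} p W) (hW' : Cfsg.IsCharPFunctor.{u} p W')
    (hfac : ∀ (K R : Subgroup G) [(R.subgroupOf K).Normal],
      Subgroup.centralizer ((Cfsg.pCore p (↥K ⧸ R.subgroupOf K) : Subgroup (↥K ⧸ R.subgroupOf K)) :
        Set (↥K ⧸ R.subgroupOf K)) ≤ Cfsg.pCore p (↥K ⧸ R.subgroupOf K) →
      ∀ T : Sylow p (↥K ⧸ R.subgroupOf K), ∀ x : (↥K ⧸ R.subgroupOf K),
        ∃ a ∈ Subgroup.centralizer ((Cfsg.omegaOne p ((T : Subgroup (↥K ⧸ R.subgroupOf K)) ⊓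
            Subgroup.centralizer ((T : Subgroup (↥K ⧸ R.subgroupOf K)) : Set (↥K ⧸ R.subgroupOf K))) :
              Subgroup (↥K ⧸ R.subgroupOf K)) : Set (↥K ⧸ R.subgroupOf K)),
          ∃ b ∈ Subgroup.normalizer ((Cfsg.inducedFunctor (G := (↥K ⧸ R.subgroupOf K)) W'
            (T : Subgroup (↥K ⧸ R.subgroupOf K)) : Subgroup (↥K ⧸ R.subgroupOf K)) :
              Set (↥K ⧸ R.subgroupOf K)), x = a * b)
    (Z : Subgroup G) (hZdef : Z = Cfsg.omegaOne p ((S : Subgroup G) ⊓ Subgroup.centralizer ((S : Subgroup G) : Set G)))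
    (hZW : Z ≤ Cfsg.inducedFunctor W (S : Subgroup G)) :
    ∀ n ∈ Subgroup.normalizer (Cfsg.inducedFunctor W (S : Subgroup G) : Set G),
      ∃ a ∈ Subgroup.normalizer (Cfsg.inducedFunctor W' (S : Subgroup G) : Set G),
        ∀ z ∈ Z, n * z * n⁻¹ = a * z * a⁻¹ := by
  classical
  intro n hn
  set R := Cfsg.inducedFunctor W (S : Subgroup G) with hR
  set N := Subgroup.normalizer (R : Set G) with hN
  have hSN : (S : Subgroup G) ≤ N :=
    Subgroup.le_normalizer.trans (normalizer_le_normalizer_inducedFunctor hW S.isPGroup')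
  have hRS : R ≤ (S : Subgroup G) := inducedFunctor_le _ _
  have hZS : Z ≤ (S : Subgroup G) ⊓ Subgroup.centralizer ((S : Subgroup G) : Set G) := by
    rw [hZdef]; exact (Subgroup.closure_le _).mpr fun x hx => hx.1
  set V := Subgroup.closure (orbitSet N Z) with hV
  have hVR : V ≤ R ⊓ Subgroup.centralizer (R : Set G) :=
    orbit_le (R := R) le_rfl
      (le_inf hZW ((hZS.trans inf_le_right).trans (Subgroup.centralizer_le (SetLike.coe_subset_coe.mpr hRS))))
  have hNV : N ≤ Subgroup.normalizer (V : Set G) := fun g hg => le_normalizer_orbit (by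
    rintro _ ⟨m, hm, z, hz, rfl⟩
    exact Subgroup.subset_closure ⟨g * m, mul_mem hg hm, z, hz, by group⟩)
  set C := N ⊓ Subgroup.centralizer (V : Set G) with hC
  have hCn : ∀ g ∈ N, ∀ c ∈ C, g * c * g⁻¹ ∈ C := fun g hg c hc => by
    refine ⟨N.mul_mem (N.mul_mem hg hc.1) (N.inv_mem hg), Subgroup.mem_centralizer_iff.mpr fun v hv => ?_⟩
    have h := Subgroup.mem_centralizer_iff.mp hc.2 (g⁻¹ * v * g) (by
      simpa using (Subgroup.mem_normalizer_iff.mp (hNV (inv_mem hg)) v).mp hv)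
    calc v * (g * c * g⁻¹) = g * (g⁻¹ * v * g * c) * g⁻¹ := by group
      _ = g * (c * (g⁻¹ * v * g)) * g⁻¹ := by rw [h]
      _ = g * c * g⁻¹ * v := by group
  set T := (S : Subgroup G) ⊓ C with hT
  have hTs : Grp.IsSylowIn p T C := by
    refine ⟨inf_le_right, S.isPGroup'.to_le inf_le_left, ?_⟩
    haveI : (C.subgroupOf N).Normal := ⟨fun c hc g => hCn g g.2 c hc⟩
    have h := Grp.sylow_inf_normal_relIndex (S.subtype hSN) (C.subgroupOf N)
    rw [Sylow.coe_subtype, Subgroup.relIndex_subgroupOf inf_le_left] at h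
    rwa [hT, Subgroup.inf_relIndex_right]
  have hTc : Grp.IsSylowIn p (T.map (MulAut.conj n).toMonoidHom) C := by
    have hle : T.map (MulAut.conj n).toMonoidHom ≤ C := by
      rintro _ ⟨t, ht, rfl⟩; exact hCn n hn t ht.2
    refine ⟨hle, hTs.2.1.map _, ?_⟩
    have h1 := Subgroup.relIndex_mul_relIndex ⊥ _ _ bot_le hle
    have h2 := Subgroup.relIndex_mul_relIndex ⊥ _ _ bot_le hTs.1
    rw [Subgroup.relIndex_bot_left, Subgroup.relIndex_bot_left] at h1 h2
    rw [Subgroup.card_map_of_injective (MulAut.conj n).injective, ← h2] at h1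
    rw [Nat.eq_of_mul_eq_mul_left Nat.card_pos h1]
    exact hTs.2.2
  obtain ⟨d, hd, hdT⟩ := hTc.conj hTs
  set m := d * n with hm
  have hdN : d ∈ N := hd.1
  have hmT : m ∈ Subgroup.normalizer (T : Set G) := by
    refine mem_normalizer_of_forall_mem fun t ht => ?_
    rw [← hdT, ← Grp.map_conj_eq_smul]
    exact ⟨n * t * n⁻¹, ⟨t, ht, rfl⟩, by simp [hm, mul_assoc]⟩
  have hnm : ∀ z ∈ Z, n * z * n⁻¹ = m * z * m⁻¹ := fun z hz => by
    have h1 : n * z * n⁻¹ ∈ V := Subgroup.subset_closure ⟨n, hn, z, hz, rfl⟩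
    have h2 := Subgroup.mem_centralizer_iff.mp hd.2 _ h1
    calc n * z * n⁻¹ = (n * z * n⁻¹) * d * d⁻¹ := by group
      _ = d * (n * z * n⁻¹) * d⁻¹ := by rw [h2]
      _ = m * z * m⁻¹ := by rw [hm]; group
  -- the constrained section
  set H := N ⊓ Subgroup.normalizer (T : Set G) with hH
  have hST : (S : Subgroup G) ≤ Subgroup.normalizer (T : Set G) := fun s hs =>
    mem_normalizer_of_forall_mem fun t ht =>
      ⟨(S : Subgroup G).mul_mem ((S : Subgroup G).mul_mem hs ht.1) ((S : Subgroup G).inv_mem hs),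
        hCn s (hSN hs) t ht.2⟩
  have hSH : (S : Subgroup G) ≤ H := le_inf hSN hST
  have hTH : T ≤ H := inf_le_left.trans hSH
  set SH := S.subtype hSH with hSHdef
  set U := T.subgroupOf H with hU
  haveI : U.Normal := Subgroup.normal_subgroupOf_of_le_normalizer inf_le_right
  have hVT : V ≤ T := by
    refine le_inf (hVR.trans (inf_le_left.trans hRS)) (le_inf ?_ ?_)
    · exact hVR.trans (inf_le_left.trans (hRS.trans hSN))
    · exact hVR.trans (inf_le_right.trans (Subgroup.centralizer_le (SetLike.coe_subset_coe.mpr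
        (hVR.trans inf_le_left))))
  have hUS : U ≤ (SH : Subgroup H) := fun x hx => (show (x : G) ∈ (S : Subgroup G) from hx.1)
  have hcU : (SH : Subgroup H) ⊓ Subgroup.centralizer (U : Set H) ≤ U := by
    rintro x ⟨hxS, hxC⟩
    refine ⟨hxS, x.2.1, Subgroup.mem_centralizer_iff.mpr fun v hv => ?_⟩
    exact congrArg Subtype.val (Subgroup.mem_centralizer_iff.mp hxC ⟨v, hTH (hVT hv)⟩ (hVT hv))
  have hcons := centralizer_pCore_quotient_of_selfCentralizing SH U hUS hcU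
  set O := Cfsg.pPrimeCore p H with hO
  haveI : O.Normal := Grp.pPrimeCore_isNormal
  set f := QuotientGroup.mk' O with hf
  have hfs : Function.Surjective f := QuotientGroup.mk'_surjective O
  have key : ∀ (O' : Subgroup H) [O'.Normal], (∃ R' : Subgroup G, R'.subgroupOf H = O') →
      Subgroup.centralizer (Cfsg.pCore p (H ⧸ O') : Set (H ⧸ O')) ≤ Cfsg.pCore p (H ⧸ O') →
      ∀ T' : Sylow p (H ⧸ O'), ∀ x : H ⧸ O',
        ∃ a ∈ Subgroup.centralizer ((Cfsg.omegaOne p ((T' : Subgroup (H ⧸ O')) ⊓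
            Subgroup.centralizer ((T' : Subgroup (H ⧸ O')) : Set (H ⧸ O'))) : Subgroup (H ⧸ O')) : Set (H ⧸ O')),
          ∃ b ∈ Subgroup.normalizer ((Cfsg.inducedFunctor (G := H ⧸ O') W' (T' : Subgroup (H ⧸ O')) :
            Subgroup (H ⧸ O')) : Set (H ⧸ O')), x = a * b := by
    rintro O' _ ⟨R', rfl⟩
    exact hfac H R'
  obtain ⟨ab, hab, bb, hbb, hmab⟩ := key O
    ⟨O.map H.subtype, Subgroup.comap_map_eq_self_of_injective H.subtype_injective O⟩ hcons
    (SH.mapSurjective hfs) (f (⟨m, ⟨N.mul_mem hdN hn, hmT⟩⟩⁻¹ : H))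
  rw [Sylow.coe_mapSurjective] at hab hbb
  have hSHp : IsPGroup p (SH : Subgroup H) := SH.isPGroup'
  have hOc : (Nat.card O).Coprime p := Grp.pPrimeCore_coprime
  have hinj : ∀ x ∈ (SH : Subgroup H), f x = 1 → x = 1 := fun x hx hfx =>
    eq_one_of_coprime_of_mem hSHp hx
      (hOc.coprime_dvd_left (O.orderOf_dvd_natCard ((QuotientGroup.eq_one_iff x).mp hfx)))
  -- lift the centralizer
  set ZH := Z.subgroupOf H with hZH
  have hZH' : ZH ≤ (SH : Subgroup H) := fun x hx => (hZS hx).1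
  obtain ⟨a, ha, rfl⟩ : ab ∈ (Subgroup.centralizer (ZH : Set H)).map f := by
    rw [hf, Grp.map_centralizer_pGroup (hSHp.to_le hZH')]
    refine Subgroup.centralizer_le ?_ hab
    rintro _ ⟨z, hz, rfl⟩
    have hz' : (z : G) ∈ Z := hz
    rw [hZdef] at hz'
    have hgen : ∀ y ∈ {x : G | x ∈ (S : Subgroup G) ⊓ Subgroup.centralizer ((S : Subgroup G) : Set G) ∧ x ^ p = 1},
        ∀ hy : y ∈ H, f ⟨y, hy⟩ ∈ Cfsg.omegaOne p ((SH : Subgroup H).map f ⊓
          Subgroup.centralizer (((SH : Subgroup H).map f : Subgroup (H ⧸ O)) : Set (H ⧸ O))) := by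
      rintro y ⟨⟨hyS, hyC⟩, hyp⟩ hy
      refine Subgroup.subset_closure ⟨⟨⟨⟨y, hy⟩, hyS, rfl⟩, ?_⟩, ?_⟩
      · refine Subgroup.mem_centralizer_iff.mpr ?_
        rintro _ ⟨s, hs, rfl⟩
        rw [← map_mul, ← map_mul]
        exact congrArg f (Subtype.ext (Subgroup.mem_centralizer_iff.mp hyC _ hs))
      · rw [← map_pow, show (⟨y, hy⟩ : H) ^ p = 1 from Subtype.ext hyp, map_one]
    have hall : ∀ y ∈ Cfsg.omegaOne p ((S : Subgroup G) ⊓ Subgroup.centralizer ((S : Subgroup G) : Set G)),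
        y ∈ ((Cfsg.omegaOne p ((SH : Subgroup H).map f ⊓
          Subgroup.centralizer (((SH : Subgroup H).map f : Subgroup (H ⧸ O)) : Set (H ⧸ O)))).comap f).map H.subtype := by
      intro y hy
      refine (Subgroup.closure_le _).mpr ?_ hy
      intro w hw
      exact ⟨⟨w, hSH hw.1.1⟩, hgen w hw (hSH hw.1.1), rfl⟩
    obtain ⟨w, hw, hwz⟩ := hall _ hz'
    rwa [show w = z from Subtype.ext hwz] at hw
  -- lift the normalizer
  obtain ⟨b, hb, rfl⟩ : bb ∈ (Subgroup.normalizer (Cfsg.inducedFunctor W' (SH : Subgroup H) : Set H)).map f := by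
    refine normalizer_map_le_of_coprime f hfs (by rwa [hf, QuotientGroup.ker_mk'])
      (hSHp.to_le (inducedFunctor_le _ _)) ?_
    rw [← inducedFunctor_map hW' hSHp f hinj]
    exact hbb
  have hbG : (b : G) ∈ Subgroup.normalizer (Cfsg.inducedFunctor W' (S : Subgroup G) : Set G) := by
    have h1 := inducedFunctor_map hW' hSHp H.subtype (fun x _ hx => H.subtype_injective (hx.trans (map_one _).symm))
    have h2 : (SH : Subgroup H).map H.subtype = (S : Subgroup G) := by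
      rw [hSHdef, Sylow.coe_subtype, Subgroup.map_subgroupOf_eq_of_le hSH]
    rw [← h2, h1]
    exact Subgroup.le_normalizer_map _ ⟨b, hb, rfl⟩
  rw [← map_mul] at hmab
  obtain ⟨o, ho, hmo⟩ : ∃ o ∈ O, (⟨m, ⟨N.mul_mem hdN hn, hmT⟩⟩⁻¹ : H) = a * b * o :=
    ⟨(a * b)⁻¹ * (⟨m, ⟨N.mul_mem hdN hn, hmT⟩⟩⁻¹ : H), (QuotientGroup.eq_one_iff _).mp (by
      show f _ = 1
      rw [map_mul, map_inv, hmab, inv_mul_cancel]), by group⟩
  refine ⟨(b : G)⁻¹, inv_mem hbG, fun z hz => ?_⟩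
  rw [hnm z hz]
  have hz' : z ∈ H := hSH (hZS hz).1
  set mH : H := ⟨m, ⟨N.mul_mem hdN hn, hmT⟩⟩
  set zH : H := ⟨z, hz'⟩
  have e1 : mH = o⁻¹ * b⁻¹ * a⁻¹ := by
    rw [← inv_inv mH, hmo]; group
  have e2 : a⁻¹ * zH * a = zH := by
    have := Subgroup.mem_centralizer_iff.mp ha zH hz
    rw [mul_assoc, this, inv_mul_cancel_left]
  set w : H := b⁻¹ * zH * b with hw
  have hwU : w ∈ U := by
    show ((b⁻¹ * zH * b : H) : G) ∈ T
    refine hVT (Subgroup.subset_closure ⟨(b : G)⁻¹, N.inv_mem b.2.1, z, hz, by simp [zH]⟩)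
  have hcomm : o⁻¹ * w = w * o⁻¹ :=
    Subgroup.commute_of_normal_of_disjoint O U inferInstance inferInstance
      (disjoint_iff.mpr (Subgroup.inf_eq_bot_of_coprime (by
        obtain ⟨k, hk⟩ := IsPGroup.iff_card.mp (hSHp.to_le hUS)
        rw [hk]
        exact hOc.pow_right k))) _ _ (inv_mem ho) hwU
  have e3 : mH * zH * mH⁻¹ = w := by
    calc mH * zH * mH⁻¹ = o⁻¹ * (b⁻¹ * (a⁻¹ * zH * a) * b) * o := by rw [e1]; group
      _ = o⁻¹ * w * o := by rw [e2]
      _ = w := by rw [hcomm, inv_mul_cancel_right]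
  have := congrArg Subtype.val e3
  simpa [w, zH, mH] using this

end Cfsg.Agent.Invol.Triple
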