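import Cfsg.Prelude
import Cfsg.Agent.Lib.Fus.SFourQd
import Cfsg.Agent.Lib.Grp.Frattini
import Cfsg.Agent.Lib.Grp.Coprime
import Cfsg.Agent.Lib.Invol.Section
import Cfsg.Agent.Lib.Invol.QdFusion

/-!
# Sections isomorphic to the symmetric group of degree four and 2-local automizers
-/

set_option autoImplicit false

namespace Cfsg.Agent.Invol.S4Sec

/-- The action of a permutation of the three nonzero vectors. -/
def permMat (σ : Equiv.Perm (Fin 3)) (i j : Fin 2) : ZMod 2 :=
  ![![1, 0], ![0, 1], ![1, 1]] (σ (![0, 1] j)) i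

theorem permMat_det : ∀ σ : Equiv.Perm (Fin 3), permMat σ 0 0 * permMat σ 1 1 - permMat σ 0 1 * permMat σ 1 0 = 1 := by
  decide

theorem permMat_mul : ∀ σ τ : Equiv.Perm (Fin 3), ∀ i j : Fin 2, permMat (σ * τ) i j = permMat σ i 0 * permMat τ 0 j + permMat σ i 1 * permMat τ 1 j := by
  decide

theorem permMat_inj : ∀ σ τ : Equiv.Perm (Fin 3), (∀ i j : Fin 2, permMat σ i j = permMat τ i j) → σ = τ := by
  decide

theorem permMat_surj : ∀ a b c d : ZMod 2, a * d - b * c = 1 →
    ∃ σ : Equiv.Perm (Fin 3), permMat σ 0 0 = a ∧ permMat σ 0 1 = b ∧ permMat σ 1 0 = c ∧ permMat σ 1 1 = d := by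
  decide

/-- `S₃ ≅ SL(2, 2)`. -/
noncomputable def permSL : Equiv.Perm (Fin 3) ≃* Matrix.SpecialLinearGroup (Fin 2) (ZMod 2) :=
  let f : Equiv.Perm (Fin 3) →* Matrix.SpecialLinearGroup (Fin 2) (ZMod 2) :=
    { toFun := fun σ => ⟨Matrix.of (permMat σ), by rw [Matrix.det_fin_two]; exact permMat_det σ⟩
      map_one' := Subtype.ext (Matrix.ext fun i j => by
        fin_cases i <;> fin_cases j <;> rfl)
      map_mul' := fun σ τ => Subtype.ext (Matrix.ext fun i j => by
        show _ = (Matrix.of (permMat σ) * Matrix.of (permMat τ)) i j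
        rw [Matrix.mul_apply, Fin.sum_univ_two]
        exact permMat_mul σ τ i j) }
  MulEquiv.ofBijective f
    ⟨fun σ τ h => permMat_inj σ τ fun i j => congrFun (congrFun (congrArg Subtype.val h) i) j,
      fun g => by
        obtain ⟨σ, h0, h1, h2, h3⟩ := permMat_surj (g.1 0 0) (g.1 0 1) (g.1 1 0) (g.1 1 1) (by
          have := g.2; rwa [Matrix.det_fin_two] at this)
        refine ⟨σ, Subtype.ext (Matrix.ext fun i j => ?_)⟩
        fin_cases i <;> fin_cases j <;> assumption⟩

theorem witness_of_inverted {L : Type*} [Group L] [Finite L] {W : Subgroup L}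
    (hn : W.Normal) (hc : ∀ u ∈ W, ∀ v ∈ W, u * v = v * u) (h2 : ∀ u ∈ W, u ^ 2 = 1)
    {X a : L} (hinv : a * X * a⁻¹ = X⁻¹) (ha : ∃ k : ℕ, orderOf a = 2 ^ k)
    (hX3 : ∀ u ∈ W, X ^ 3 * u = u * X ^ 3) (hX : ∃ u ∈ W, X * u ≠ u * X) :
    Fus.GrpQdWitness L 2 := by
  classical
  letI : CommGroup W := { (inferInstance : Group W) with mul_comm := fun u v => Subtype.ext (hc u u.2 v v.2) }
  let c : L →* MulAut W := MulAut.conjNormal (H := W)
  have hc' : ∀ (g : L) (u : W), ((c g) u : L) = g * u * g⁻¹ := fun g u => MulAut.conjNormal_apply g u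
  set x := c X with hx
  set y := c a with hy
  have hW2 : ∀ u : W, u ^ 2 = 1 := fun u => Subtype.ext (h2 u u.2)
  have hinv' : ∀ u : W, u⁻¹ = u := fun u => inv_eq_of_mul_eq_one_right (by rw [← pow_two, hW2])
  have hx3 : ∀ u : W, x (x (x u)) = u := fun u => Subtype.ext (by
    rw [hc', hc', hc']
    calc X * (X * (X * u * X⁻¹) * X⁻¹) * X⁻¹ = X ^ 3 * u * (X ^ 3)⁻¹ := by simp [pow_succ, mul_assoc]
      _ = u := by rw [hX3 u u.2, mul_inv_cancel_right])
  have hyx : ∀ u : W, y (x u) = x (x (y u)) := by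
    intro u
    have e : y (x u) = x⁻¹ (y u) := by
      rw [← MulAut.mul_apply, ← MulAut.mul_apply, hy, hx, ← map_inv, ← map_mul, ← map_mul, ← hinv]
      simp [mul_assoc]
    rw [e]
    apply x.injective
    rw [MulAut.apply_inv_self, hx3]
  let W' : Subgroup W :=
    { carrier := {u | u * x u * x (x u) = 1}
      one_mem' := by simp
      mul_mem' := fun {u v} hu hv => by
        show u * v * x (u * v) * x (x (u * v)) = 1
        rw [map_mul, map_mul, show u * v * (x u * x v) * (x (x u) * x (x v)) = (u * x u * x (x u)) * (v * x v * x (x v)) by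
          simp only [mul_assoc, mul_left_comm, mul_comm], hu, hv, one_mul]
      inv_mem' := fun {u} hu => by rw [hinv']; exact hu }
  have hyW : ∀ u ∈ W', y u ∈ W' := by
    intro u hu
    have h1 : y u * y (x u) * y (x (x u)) = 1 := by rw [← map_mul, ← map_mul, show u * x u * x (x u) = 1 from hu, map_one]
    rw [hyx u, hyx (x u), hyx u, hx3] at h1
    show y u * x (y u) * x (x (y u)) = 1
    rw [← h1, mul_right_comm]
  have hW' : W' ≠ ⊥ := by
    obtain ⟨u, hu, hne⟩ := hX
    intro hb
    have hmem : x ⟨u, hu⟩ * (⟨u, hu⟩ : W)⁻¹ ∈ W' := by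
      set v : W := ⟨u, hu⟩
      show x v * v⁻¹ * x (x v * v⁻¹) * x (x (x v * v⁻¹)) = 1
      simp only [map_mul, map_inv, hx3]
      calc x v * v⁻¹ * (x (x v) * (x v)⁻¹) * (v * (x (x v))⁻¹)
          = (x v * (x v)⁻¹) * (v⁻¹ * v) * (x (x v) * (x (x v))⁻¹) := by
            simp only [mul_assoc, mul_left_comm, mul_comm]
        _ = 1 := by simp
    rw [hb, Subgroup.mem_bot, mul_inv_eq_one] at hmem
    have := congrArg Subtype.val hmem
    rw [hc'] at this
    exact hne (mul_inv_eq_iff_eq_mul.mp this)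
  obtain ⟨u, huW', hu1, hyu⟩ : ∃ u ∈ W', u ≠ 1 ∧ y u = u := by
    let _ : MulAction (Subgroup.zpowers y) W' :=
      { smul := fun f v => ⟨(f : MulAut W) v, by
          obtain ⟨f, hf⟩ := f
          obtain ⟨n, rfl⟩ := Submonoid.mem_powers_iff _ _ |>.mp (mem_powers_iff_mem_zpowers.mpr hf)
          show (y ^ n) (v : W) ∈ W'
          clear hf
          induction n with
          | zero => simp
          | succ n ih => rw [pow_succ']; exact hyW _ ih⟩
        one_smul := fun v => rfl
        mul_smul := fun f g v => rfl }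
    obtain ⟨k, hk⟩ := ha
    have hyk : y ^ 2 ^ k = 1 := by rw [hy, ← map_pow, ← hk, pow_orderOf_eq_one, map_one]
    have hyp : IsPGroup 2 (Subgroup.zpowers y) := by
      obtain ⟨i, -, hi⟩ := (Nat.dvd_prime_pow Nat.prime_two).mp (orderOf_dvd_of_pow_eq_one hyk)
      exact IsPGroup.of_card (n := i) (by rw [Nat.card_zpowers, hi])
    have hW'p : IsPGroup 2 W' := fun v => ⟨1, Subtype.ext (by simpa using hW2 v)⟩
    have : Nontrivial W' := (Subgroup.nontrivial_iff_ne_bot _).mpr hW'
    have hd : 2 ∣ Nat.card W' := by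
      obtain ⟨j, hj⟩ := IsPGroup.iff_card.mp hW'p
      have h1 : 1 < Nat.card W' := Finite.one_lt_card
      rw [hj] at h1 ⊢
      exact dvd_pow_self 2 (by rintro rfl; simp at h1)
    have h1 : (1 : W') ∈ MulAction.fixedPoints (Subgroup.zpowers y) W' := fun f => Subtype.ext (map_one (f : MulAut W))
    obtain ⟨v, hv, hne⟩ := hyp.exists_fixed_point_of_prime_dvd_card_of_fixed_point W' hd h1
    exact ⟨v, v.2, fun h => hne (Subtype.ext h.symm), congrArg Subtype.val (hv ⟨y, Subgroup.mem_zpowers y⟩)⟩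
  have hsum : x (x u) = u * x u := by
    have h1 : u * x u * x (x u) = 1 := huW'
    exact (eq_inv_of_mul_eq_one_right h1).trans (hinv' _)
  have hxu : x u ≠ u := by
    intro h
    have h1 : u * x u * x (x u) = 1 := huW'
    rw [h, h, ← pow_two, hW2, one_mul] at h1
    exact hu1 h1
  -- the four subgroup
  set U₀ : Subgroup W := Subgroup.closure {u, x u} with hU₀
  set U : Subgroup L := U₀.map W.subtype with hU
  have hstab : ∀ g : L, (c g) u ∈ U₀ → (c g) (x u) ∈ U₀ → g ∈ Subgroup.normalizer (U : Set L) := by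
    intro g h0 h1
    refine Subgroup.mem_normalizer_fintype ?_
    rintro _ ⟨v, hv, rfl⟩
    refine ⟨c g v, ?_, hc' g v⟩
    induction hv using Subgroup.closure_induction with
    | mem z hz =>
      rcases hz with rfl | rfl
      · exact h0
      · exact h1
    | one => simp
    | mul p q _ _ hp hq => rw [map_mul]; exact U₀.mul_mem hp hq
    | inv p _ hp => rw [map_inv]; exact U₀.inv_mem hp
  have m0 : u ∈ U₀ := Subgroup.subset_closure (by simp)
  have m1 : x u ∈ U₀ := Subgroup.subset_closure (by simp)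
  have hXU : X ∈ Subgroup.normalizer (U : Set L) := hstab X m1 (show x (x u) ∈ U₀ from hsum ▸ U₀.mul_mem m0 m1)
  have haU : a ∈ Subgroup.normalizer (U : Set L) :=
    hstab a (show y u ∈ U₀ from hyu.symm ▸ m0) (show y (x u) ∈ U₀ by rw [hyx, hyu, hsum]; exact U₀.mul_mem m0 m1)
  letI : CommGroup U := { (inferInstance : Group U) with
    mul_comm := fun p q => Subtype.ext (hc p (Subgroup.map_subtype_le _ p.2) q (Subgroup.map_subtype_le _ q.2)) }
  have hU2 : ∀ v : U, v ^ 2 = 1 := fun v => Subtype.ext (h2 v (Subgroup.map_subtype_le _ v.2))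
  let φ : (Subgroup.normalizer (U : Set L)) →* MulAut U := U.normalizerMonoidHom
  let e : U₀ ≃* U := U₀.equivMapOfInjective _ W.subtype_injective
  set t : MulAut U := φ ⟨a, haU⟩ with ht
  set xm : MulAut U := φ ⟨X, hXU⟩ with hxm
  have htx : ∀ v : U₀, (t (e v) : L) = ((y v : W) : L) ∧ (xm (e v) : L) = ((x v : W) : L) := fun v =>
    ⟨(hc' a v).symm, (hc' X v).symm⟩
  set eu : U := e ⟨u, m0⟩ with heu
  set ev : U := e ⟨x u, m1⟩ with hev
  have hxev : xm eu = ev := Subtype.ext (htx ⟨u, m0⟩).2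
  have hxev2 : xm ev = eu * ev := Subtype.ext ((htx ⟨x u, m1⟩).2.trans (by rw [hsum]; rfl))
  have hteu : t eu = eu := Subtype.ext ((htx ⟨u, m0⟩).1.trans (by rw [hyu]; rfl))
  have htev : t ev = eu * ev := Subtype.ext ((htx ⟨x u, m1⟩).1.trans (by rw [hyx, hyu, hsum]; rfl))
  have hall : ∀ v : U, v = 1 ∨ v = eu ∨ v = ev ∨ v = eu * ev := by
    intro v
    obtain ⟨⟨w, hw⟩, rfl⟩ := e.surjective v
    have key : w = 1 ∨ w = u ∨ w = x u ∨ w = u * x u := by
      induction hw using Subgroup.closure_induction with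
      | mem z hz => rcases hz with rfl | rfl <;> simp
      | one => simp
      | mul p q _ _ hp hq =>
        have hq1 : ∀ z : W, z * z = 1 := fun z => by rw [← pow_two, hW2]
        have hq2 : ∀ z z' : W, z * (z * z') = z' := fun z z' => by rw [← mul_assoc, hq1, one_mul]
        rcases hp with rfl | rfl | rfl | rfl <;> rcases hq with rfl | rfl | rfl | rfl <;>
          simp [hq1, hq2, mul_assoc, mul_left_comm, mul_comm]
      | inv p _ hp => rw [hinv']; exact hp
    rcases key with rfl | rfl | rfl | rfl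
    · exact .inl (Subtype.ext rfl)
    · exact .inr (.inl rfl)
    · exact .inr (.inr (.inl rfl))
    · exact .inr (.inr (.inr (Subtype.ext rfl)))
  have hne : ev ≠ eu := fun h => hxu (congrArg Subtype.val (e.injective h))
  set s : MulAut U := xm * t * xm⁻¹ with hs
  have hsev : s ev = ev := by
    show xm (t (xm⁻¹ ev)) = ev
    rw [← hxev, MulAut.inv_apply_self, hteu]
  have hts : ∀ v, t v = v ∨ t v = v * eu := by
    intro v
    rcases hall v with rfl | rfl | rfl | rfl
    · exact .inl (map_one _)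
    · exact .inl hteu
    · exact .inr (htev.trans (mul_comm _ _))
    · refine .inr ?_
      rw [map_mul, hteu, htev]; exact mul_comm _ _
  have hxs : xm⁻¹ eu = eu * ev := by
    refine xm.injective ?_
    rw [MulAut.apply_inv_self, map_mul, hxev, hxev2, mul_left_comm, ← pow_two, hU2, mul_one]
  have hseu : s eu = eu * ev := by
    show xm (t (xm⁻¹ eu)) = eu * ev
    rw [hxs, map_mul, hteu, htev, ← mul_assoc, ← pow_two, hU2, one_mul, hxev2]
  have hss : ∀ v, s v = v ∨ s v = v * ev := by
    intro v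
    rcases hall v with rfl | rfl | rfl | rfl
    · exact .inl (map_one _)
    · exact .inr hseu
    · exact .inl hsev
    · refine .inr ?_
      rw [map_mul, hseu, hsev]
  have hnp : ¬ IsPGroup 2 (Subgroup.closure {s, t}) := by
    intro hp
    have hmem : s * t ∈ Subgroup.closure ({s, t} : Set (MulAut U)) :=
      Subgroup.mul_mem _ (Subgroup.subset_closure (by simp)) (Subgroup.subset_closure (by simp))
    obtain ⟨k, hk⟩ := hp ⟨_, hmem⟩
    have hk' : (s * t) ^ 2 ^ k = 1 := congrArg Subtype.val hk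
    have h3 : (s * t) ^ 3 = 1 := by
      refine MulEquiv.ext fun v => ?_
      have e0 : (s * t) eu = eu * ev := by rw [MulAut.mul_apply, hteu, hseu]
      have e1 : (s * t) ev = eu := by
        rw [MulAut.mul_apply, htev, map_mul, hseu, hsev, mul_assoc, ← pow_two, hU2, mul_one]
      have e2 : (s * t) (eu * ev) = ev := by rw [map_mul, e0, e1, mul_comm, ← mul_assoc, ← pow_two, hU2, one_mul]
      show ((s * t) ^ 3) v = v
      rw [pow_three]
      show (s * t) ((s * t) ((s * t) v)) = v
      rcases hall v with rfl | rfl | rfl | rfl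
      · simp
      · rw [e0, e2, e1]
      · rw [e1, e0, e2]
      · rw [e2, e1, e0]
    have h1 : s * t = 1 := by
      rw [← orderOf_eq_one_iff]
      exact Nat.eq_one_of_dvd_coprimes (Nat.Coprime.pow_right k (by norm_num : Nat.Coprime 3 2))
        (orderOf_dvd_of_pow_eq_one h3) (orderOf_dvd_of_pow_eq_one hk')
    have := MulEquiv.congr_fun h1 ev
    rw [MulAut.mul_apply, htev, map_mul, hseu, hsev, mul_assoc, ← pow_two, hU2, mul_one, MulAut.one_apply] at this
    exact hne this.symm
  obtain ⟨ψ, hψ, hact⟩ := Fus.exists_sl_two_action hU2 hteu hts hsev hss hnp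
  have hψs : Function.Surjective ψ := by
    intro v
    haveI := Fintype.ofFinite U
    refine ((Fintype.bijective_iff_injective_and_card ψ).mpr ⟨hψ, le_antisymm (Fintype.card_le_of_injective ψ hψ) ?_⟩).2 v
    have hsub : (Finset.univ : Finset U) ⊆ {1, eu, ev, eu * ev} := fun z _ => by
      rcases hall z with rfl | rfl | rfl | rfl <;> simp
    calc Fintype.card U ≤ ({1, eu, ev, eu * ev} : Finset U).card := Finset.card_le_card hsub
      _ ≤ 4 := Finset.card_le_four
      _ = Fintype.card (Multiplicative (Fin 2 → ZMod 2)) := by simp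
  let ψe := MulEquiv.ofBijective ψ ⟨hψ, hψs⟩
  refine ⟨U, fun v => ⟨1, by simpa using hU2 v⟩, ψe.symm.toMonoidHom, ψe.symm.surjective, fun g => ?_⟩
  obtain ⟨f, hf, hfe⟩ := hact g
  have hfi : f ∈ Fus.innerBy U := by
    have hle : Subgroup.closure ({s, t} : Set (MulAut U)) ≤ φ.range := by
      rw [Subgroup.closure_le]
      rintro _ (rfl | rfl)
      · exact ⟨⟨X, hXU⟩ * ⟨a, haU⟩ * ⟨X, hXU⟩⁻¹, by rw [map_mul, map_mul, map_inv]⟩
      · exact ⟨⟨a, haU⟩, rfl⟩
    obtain ⟨n, hn⟩ := hle hf
    exact ⟨n, fun v => by rw [← hn]; rfl⟩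
  refine ⟨f, hfi, fun v => ?_⟩
  obtain ⟨z, rfl⟩ := ψe.surjective v
  show ψe.symm (f (ψe z)) = _
  rw [show f (ψe z) = ψe (Fus.matAct g z) from hfe z, MulEquiv.symm_apply_apply]
  show Fus.matAct g z = Fus.matAct g (ψe.symm (ψe z))
  rw [MulEquiv.symm_apply_apply]

end Cfsg.Agent.Invol.S4Sec
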