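import Cfsg.Agent.Lib.Invol.JCompTwoMax
import Cfsg.Agent.Lib.Fus.YoshidaWreath

/-!
The subgroup generated by the elements of odd order, in the presence of a pair of overgroups.
-/

set_option autoImplicit false

open scoped commutatorElement Classical

namespace Cfsg.Agent.Invol.JComp

open Subgroup

variable {G : Type*} [Group G] [Finite G]

/-- An invariant function with values of square `1`, trivial at the fixed points of a `2`-group. -/
theorem prod_eq_one_of_two_group {P X A : Type*} [Group P] [Fintype X] [MulAction P X] [CommMonoid A]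
    (hP : IsPGroup 2 P) (F : X → A) (hinv : ∀ (p : P) (x : X), F (p • x) = F x) (hsq : ∀ x, F x * F x = 1)
    (hfix : ∀ x, (∀ p : P, p • x = x) → F x = 1) : ∏ x, F x = 1 := by
  haveI := Fact.mk Nat.prime_two
  letI : Fintype (MulAction.orbitRel.Quotient P X) := Fintype.ofFinite _
  rw [← Finset.prod_fiberwise Finset.univ (fun x => (Quotient.mk'' x : MulAction.orbitRel.Quotient P X))]
  refine Finset.prod_eq_one fun o _ => ?_
  induction o using Quotient.inductionOn' with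
  | h x =>
    have hmem : ∀ y, y ∈ Finset.univ.filter (fun y => (Quotient.mk'' y : MulAction.orbitRel.Quotient P X) =
        Quotient.mk'' x) ↔ y ∈ MulAction.orbit P x := fun y => by
      rw [Finset.mem_filter, Quotient.eq'', MulAction.orbitRel_apply]
      simp
    have hval : ∀ y ∈ Finset.univ.filter (fun y => (Quotient.mk'' y : MulAction.orbitRel.Quotient P X) =
        Quotient.mk'' x), F y = F x := fun y hy => by
      obtain ⟨p, rfl⟩ := (hmem y).1 hy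
      exact hinv p x
    rw [Finset.prod_eq_pow_card hval]
    have hcard : (Finset.univ.filter (fun y => (Quotient.mk'' y : MulAction.orbitRel.Quotient P X) =
        Quotient.mk'' x)).card = Nat.card ↥(MulAction.orbit P x) := by
      rw [Nat.card_eq_fintype_card, ← Set.toFinset_card]
      congr 1
      ext y
      rw [hmem, Set.mem_toFinset]
    obtain ⟨n, hn⟩ := hP.card_orbit x
    rw [hcard, hn]
    cases n with
    | zero =>
      rw [hfix x (fun p => ?_), one_pow]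
      rw [pow_zero, Nat.card_eq_one_iff_unique] at hn
      haveI := hn.1
      exact congrArg Subtype.val
        (Subsingleton.elim (⟨p • x, p, rfl⟩ : ↥(MulAction.orbit P x)) ⟨x, 1, one_smul P x⟩)
    | succ k => rw [pow_succ', pow_mul, pow_two, hsq, one_pow]

/-- The conjugate of a square in a `2`-group is not a central involution of an overgroup. -/
theorem Four.no_conj_z {T K L : Subgroup G} (f : Four T K L) {z : G} (hz : IsZ T K z) (hzT : z ∈ omegaCenterOf T)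
    {h : G} (hh : h ∈ pCoreOf 2 L) (hc : h ∈ centralizer (L : Set G)) (h1 : h ≠ 1) (g : G) :
    g * h * g⁻¹ ≠ z := by
  intro e
  obtain ⟨hsq, x, hx, hxz⟩ := f.squares hz hzT
  have hu : (g⁻¹ * x * g) * (g⁻¹ * x * g) = h := by
    calc (g⁻¹ * x * g) * (g⁻¹ * x * g) = g⁻¹ * (x * x) * g := by group
      _ = h := by rw [hxz, ← e]; group
  have huL : g⁻¹ * x * g ∈ L := by
    rw [← f.centralizer_eq hh h1 hc]
    refine mem_centralizer_singleton_iff.2 ?_
    rw [← hu]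
    group
  have hu4 : (g⁻¹ * x * g) ^ 2 ^ 2 = 1 := by
    rw [show (g⁻¹ * x * g) ^ 2 ^ 2 = ((g⁻¹ * x * g) * (g⁻¹ * x * g)) * ((g⁻¹ * x * g) * (g⁻¹ * x * g)) by
      simp only [show (2 : ℕ) ^ 2 = 4 from rfl, pow_succ, pow_zero, one_mul, mul_assoc], hu, f.sq h hh]
  obtain ⟨l, hl, hle⟩ := exists_conj_le f.good.sit.syl (isPGroup_zpowers_of_pow hu4) (zpowers_le.2 huL)
  obtain ⟨v, hv, hve⟩ := hle (mem_zpowers _)
  have hlh : l⁻¹ * h * l = h := by
    rw [mul_assoc, ← mem_centralizer_iff.1 hc l hl, inv_mul_cancel_left]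
  have hvv : v * v = h := by
    have hve' : l * v * l⁻¹ = g⁻¹ * x * g := hve
    calc v * v = l⁻¹ * ((l * v * l⁻¹) * (l * v * l⁻¹)) * l := by group
      _ = h := by rw [hve', hu, hlh]
  rcases hsq v hv with e1 | e1 <;> rw [hvv] at e1
  · exact h1 e1
  · exact f.not_mem_center hz (e1 ▸ hc)

/-- A pair of overgroups with their common `z`. -/
structure Pair (T K₁ L₁ K₂ L₂ : Subgroup G) (z : G) : Prop where
  f₁ : Four T K₁ L₁
  f₂ : Four T K₂ L₂
  ne : ¬ K₂ ≤ L₁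
  z₁ : IsZ T K₁ z
  z₂ : IsZ T K₂ z
  zT : z ∈ omegaCenterOf T

theorem Good.exists_pairData {T K₁ L₁ K₂ L₂ : Subgroup G} (g₁ : Good T K₁ L₁) (g₂ : Good T K₂ L₂)
    (h : ¬ K₂ ≤ L₁) : ∃ z, Pair T K₁ L₁ K₂ L₂ z := by
  have f₁ := g₁.four g₂ h
  have f₂ := g₂.four g₁ (g₁.not_le_symm g₂ h)
  obtain ⟨z₁, hz₁, hz₁T⟩ := g₁.exists_z
  obtain ⟨z₂, hz₂, hz₂T⟩ := g₂.exists_z
  obtain ⟨-, x, hx, hxz⟩ := f₁.squares hz₁ hz₁T
  have he : z₁ = z₂ := by
    rcases (f₂.squares hz₂ hz₂T).1 x hx with e | e <;> rw [hxz] at e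
    exacts [absurd e hz₁.ne, e]
  exact ⟨z₁, f₁, f₂, h, hz₁, he ▸ hz₂, hz₁T⟩

section
variable {T K₁ L₁ K₂ L₂ : Subgroup G} {z : G}

theorem Pair.symm (p : Pair T K₁ L₁ K₂ L₂ z) : Pair T K₂ L₂ K₁ L₁ z :=
  ⟨p.f₂, p.f₁, p.f₁.good.not_le_symm p.f₂.good p.ne, p.z₂, p.z₁, p.zT⟩

theorem Pair.L_ne (p : Pair T K₁ L₁ K₂ L₂ z) : L₁ ≠ L₂ := fun e => p.ne (e ▸ p.f₂.good.le)

theorem Pair.Q_ne (p : Pair T K₁ L₁ K₂ L₂ z) : pCoreOf 2 L₁ ≠ pCoreOf 2 L₂ := fun e => p.L_ne (by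
  rw [← maximal_eq_normalizer p.f₁.good.max, ← maximal_eq_normalizer p.f₂.good.max, e])

theorem Four.cent_eq (f : Four T K₁ L₁) {x : G} (hx : x ∈ T) (hc : x ∈ centralizer (wOf K₁ : Set G)) :
    x ∈ pCoreOf 2 L₁ := by
  refine f.good.sit.mem.2.2 (mem_centralizer_iff.2 fun q hq => ?_)
  obtain ⟨h, -, hhc, w, hw, rfl⟩ := f.decomp q hq
  have c1 : Commute h x := (mem_centralizer_iff.1 hhc x (f.good.sit.T_le hx)).symm
  exact (c1.mul_left (mem_centralizer_iff.1 hc w hw)).eq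

theorem Pair.exists_q (p : Pair T K₁ L₁ K₂ L₂ z) : ∃ q ∈ pCoreOf 2 L₂, q ∉ pCoreOf 2 L₁ := by
  by_contra h
  push Not at h
  refine p.Q_ne (eq_of_le_of_card_ge (h : pCoreOf 2 L₂ ≤ pCoreOf 2 L₁) ?_).symm
  have h1 := p.f₁.card_T
  have h2 := p.f₂.card_T
  omega

/-- `T` is generated by the two cores. -/
theorem Pair.T_eq (p : Pair T K₁ L₁ K₂ L₂ z) : T = pCoreOf 2 L₁ ⊔ pCoreOf 2 L₂ := by
  refine le_antisymm (fun x hx => ?_) (sup_le p.f₁.Q_le_T p.f₂.Q_le_T)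
  obtain ⟨q, hq, hq₁⟩ := p.exists_q
  rcases p.f₁.cases_T (p.f₂.Q_le_T hq) (fun h => hq₁ (p.f₁.cent_eq (p.f₂.Q_le_T hq) h)) hx with h | h
  · exact mem_sup_left h
  · have := mul_mem (mem_sup_right hq : q ∈ pCoreOf 2 L₁ ⊔ pCoreOf 2 L₂) (mem_sup_left h)
    rwa [← mul_assoc, p.f₂.sq q hq, one_mul] at this

theorem Pair.central_of_both (p : Pair T K₁ L₁ K₂ L₂ z) {x : G}
    (h1 : ∀ a ∈ pCoreOf 2 L₁, a * x = x * a) (h2 : ∀ a ∈ pCoreOf 2 L₂, a * x = x * a) :
    ∀ t ∈ T, t * x = x * t := by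
  intro t ht
  rw [p.T_eq] at ht
  have hle : pCoreOf 2 L₁ ⊔ pCoreOf 2 L₂ ≤ centralizer ({x} : Set G) :=
    sup_le (fun a ha => mem_centralizer_singleton_iff.2 (h1 a ha))
      (fun a ha => mem_centralizer_singleton_iff.2 (h2 a ha))
  exact mem_centralizer_singleton_iff.1 (hle ht)

/-- The involutions of `T` lie in the two cores. -/
theorem Pair.invol_mem (p : Pair T K₁ L₁ K₂ L₂ z) {x : G} (hx : x ∈ T) (hx2 : x * x = 1) :
    x ∈ pCoreOf 2 L₁ ∨ x ∈ pCoreOf 2 L₂ := by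
  obtain ⟨q, hq, hq₁⟩ := p.exists_q
  have hqW : q ∉ centralizer (wOf K₁ : Set G) := fun h => hq₁ (p.f₁.cent_eq (p.f₂.Q_le_T hq) h)
  rcases p.f₁.cases_T (p.f₂.Q_le_T hq) hqW hx with h | h
  · exact Or.inl h
  right
  obtain ⟨a, ha⟩ : ∃ a, a = q * x := ⟨_, rfl⟩
  rw [← ha] at h
  have hxa : x = q * a := by rw [ha, ← mul_assoc, p.f₂.sq q hq, one_mul]
  have hqa : q * a = a * q := by
    have hxi : x⁻¹ = x := inv_eq_of_mul_eq_one_right hx2
    calc q * a = x⁻¹ := by rw [hxi, hxa]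
      _ = a * q := by
        rw [hxa, mul_inv_rev, inv_eq_of_mul_eq_one_right (p.f₂.sq q hq),
          inv_eq_of_mul_eq_one_right (p.f₁.sq a h)]
  have hcent : ∀ t ∈ T, t * a = a * t := by
    intro t ht
    rcases p.f₁.cases_T (p.f₂.Q_le_T hq) hqW ht with ht' | ht'
    · exact p.f₁.comm t ht' a h
    · have e : Commute (q * (q * t)) a := (Commute.mul_left hqa (p.f₁.comm _ ht' a h))
      rw [← mul_assoc, p.f₂.sq q hq, one_mul] at e
      exact e.eq
  have ha₂ : a ∈ pCoreOf 2 L₂ := p.f₂.good.sit.mem.2.2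
    (mem_centralizer_iff.2 fun b hb => hcent b (p.f₂.Q_le_T hb))
  rw [hxa]
  exact mul_mem hq ha₂

theorem Pair.mem_both (p : Pair T K₁ L₁ K₂ L₂ z) {x : G} (hx₁ : x ∈ wOf K₁) (hx₂ : x ∈ wOf K₂) :
    x = 1 ∨ x = z := by
  obtain ⟨t, ht, -, htW⟩ := p.f₁.exists_invol
  have hc := p.central_of_both (fun a ha => p.f₁.comm a ha x (p.f₁.W_le hx₁))
    (fun a ha => p.f₂.comm a ha x (p.f₂.W_le hx₂))
  rcases four_fixed p.f₁.good.comp.2.2.2.2.1 (fun a ha => wOf_sq p.f₁.good.comp ha) p.z₁.memW p.z₁.ne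
    (mul_inv_eq_iff_eq_mul.2 ((mem_omegaCenter.1 p.zT).2.1 t ht)) hx₁
    (mul_inv_eq_iff_eq_mul.2 (hc t ht)) with e | e | e
  exacts [Or.inl e, Or.inr e, absurd e htW]

theorem Pair.not_W_le (p : Pair T K₁ L₁ K₂ L₂ z) : ¬ wOf K₂ ≤ pCoreOf 2 L₁ := by
  intro hle
  obtain ⟨t, ht, -, htW⟩ := p.f₂.exists_invol
  exact htW (mem_centralizer_iff.2 fun w hw => (p.central_of_both (fun a ha => p.f₁.comm a ha w (hle hw))
    (fun a ha => p.f₂.comm a ha w (p.f₂.W_le hw)) t ht).symm)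

/-- The subgroup generated by the two four-groups. -/
theorem Pair.D_card (p : Pair T K₁ L₁ K₂ L₂ z) : Nat.card ↥(wOf K₁ ⊔ wOf K₂) = 8 := by
  have hn : wOf K₂ ≤ normalizer (wOf K₁ : Set G) :=
    ((p.f₂.W_le.trans p.f₂.Q_le_T).trans p.f₁.good.sit.T_le).trans p.f₁.W_normal
  have h := Grp.card_sup_mul_card_inf hn
  rw [sup_comm, p.f₁.good.comp.2.2.2.2.1, p.f₂.good.comp.2.2.2.2.1] at h
  have hi : Nat.card ↥(wOf K₂ ⊓ wOf K₁) = 2 := by
    have hset : ((wOf K₂ ⊓ wOf K₁ : Subgroup G) : Set G) = {1, z} := by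
      ext x
      constructor
      · exact fun hx => p.mem_both hx.2 hx.1
      · rintro (rfl | rfl)
        exacts [one_mem _, ⟨p.z₂.memW, p.z₁.memW⟩]
    rw [show Nat.card ↥(wOf K₂ ⊓ wOf K₁) = Nat.card ↥(((wOf K₂ ⊓ wOf K₁ : Subgroup G) : Set G)) from rfl,
      Nat.card_coe_set_eq, hset, Set.ncard_pair p.z₁.ne.symm]
  rw [hi] at h
  omega

theorem Pair.D_le (p : Pair T K₁ L₁ K₂ L₂ z) : wOf K₁ ⊔ wOf K₂ ≤ T :=
  sup_le (p.f₁.W_le.trans p.f₁.Q_le_T) (p.f₂.W_le.trans p.f₂.Q_le_T)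

/-- Without a central involution, `Q = W`. -/
theorem Four.card_Q_cases (f : Four T K₁ L₁) :
    ((∀ h ∈ pCoreOf 2 L₁, h ∈ centralizer (L₁ : Set G) → h = 1) ∧ Nat.card ↥(pCoreOf 2 L₁) = 4) ∨
      ((∃ h ∈ pCoreOf 2 L₁, h ∈ centralizer (L₁ : Set G) ∧ h ≠ 1) ∧ Nat.card ↥(pCoreOf 2 L₁) = 8) := by
  have h4 := f.good.comp.2.2.2.2.1
  have hd := card_dvd_of_le f.W_le
  have h8 := f.card_Q
  have hp := Nat.card_pos (α := ↥(pCoreOf 2 L₁))
  obtain ⟨m, hm⟩ := hd
  rw [h4] at hm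
  by_cases hC : ∀ h ∈ pCoreOf 2 L₁, h ∈ centralizer (L₁ : Set G) → h = 1
  · refine Or.inl ⟨hC, le_antisymm ?_ (by omega)⟩
    refine (card_le_of_le (fun x hx => ?_ : pCoreOf 2 L₁ ≤ wOf K₁)).trans h4.le
    obtain ⟨h, hh, hc, w, hw, rfl⟩ := f.decomp x hx
    rw [hC h hh hc, one_mul]
    exact hw
  · push Not at hC
    refine Or.inr ⟨hC, ?_⟩
    obtain ⟨h, hh, hc, h1⟩ := hC
    have hne : Nat.card ↥(pCoreOf 2 L₁) ≠ 4 := fun e => by
      have := eq_of_le_of_card_ge f.W_le (by rw [e, h4])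
      exact h1 (comp_fixed_eq_one f.good.comp (this.ge hh)
        (Subgroup.centralizer_le (SetLike.coe_subset_coe.2 f.good.le) hc))
    omega

theorem Pair.T_le_D (p : Pair T K₁ L₁ K₂ L₂ z)
    (hC : ∀ h ∈ pCoreOf 2 L₁, h ∈ centralizer (L₁ : Set G) → h = 1) : T ≤ wOf K₁ ⊔ wOf K₂ := by
  rcases p.f₁.card_Q_cases with ⟨-, h4⟩ | ⟨⟨h, hh, hc, h1⟩, -⟩
  · refine (eq_of_le_of_card_ge p.D_le ?_).ge
    rw [p.D_card, p.f₁.card_T, h4]
  · exact absurd (hC h hh hc) h1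

/-- The central involutions of the two overgroups differ by `z`. -/
theorem Pair.other_center (p : Pair T K₁ L₁ K₂ L₂ z) {h : G} (hh : h ∈ pCoreOf 2 L₁)
    (hc : h ∈ centralizer (L₁ : Set G)) (h1 : h ≠ 1) :
    h * z ∈ pCoreOf 2 L₂ ∧ h * z ∈ centralizer (L₂ : Set G) ∧ h * z ≠ 1 := by
  have h8 : Nat.card ↥(pCoreOf 2 L₁) = 8 := by
    rcases p.f₁.card_Q_cases with ⟨hC, -⟩ | ⟨-, h8⟩
    exacts [absurd (hC h hh hc) h1, h8]
  rcases p.f₂.card_Q_cases with ⟨-, h4⟩ | ⟨⟨h₂, hh₂, hc₂, h₂1⟩, -⟩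
  · have h1' := p.f₁.card_T
    have h2' := p.f₂.card_T
    omega
  have hxT : ∀ t ∈ T, t * h₂ = h₂ * t := fun t ht => mem_centralizer_iff.1 hc₂ t (p.f₂.good.sit.T_le ht)
  have hx₁ : h₂ ∈ pCoreOf 2 L₁ := p.f₁.good.sit.mem.2.2
    (mem_centralizer_iff.2 fun q hq => hxT q (p.f₁.Q_le_T hq))
  obtain ⟨h', hh', hc', e⟩ := p.f₁.center_cases p.z₁ p.zT hx₁ hxT
  by_cases h'1 : h' = 1
  · rcases e with e | e <;> rw [h'1] at e
    · exact absurd e h₂1
    · exact absurd (by rwa [e, one_mul] at hc₂) (p.f₂.not_mem_center p.z₂)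
  obtain rfl := p.f₁.central_eq hh' hc' h'1 hh hc h1
  rcases e with e | e
  · exfalso
    refine p.L_ne ?_
    rw [← p.f₁.centralizer_eq hh' h1 hc', ← p.f₂.centralizer_eq hh₂ h₂1 hc₂, e]
  · exact ⟨e ▸ hh₂, e ▸ hc₂, e ▸ h₂1⟩

/-- The conjugates of `z` in `Q₁` lie in `W₁`. -/
theorem Pair.zconj_W (p : Pair T K₁ L₁ K₂ L₂ z) {x : G} (hx : x ∈ pCoreOf 2 L₁) (g : G) (hg : g * z * g⁻¹ = x) :
    x ∈ wOf K₁ := by
  obtain ⟨h, hh, hc, w, hw, hwe⟩ := p.f₁.decomp x hx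
  by_cases h1 : h = 1
  · rwa [← hwe, h1, one_mul]
  exfalso
  by_cases hw1 : w = 1
  · refine p.f₁.no_conj_z p.z₁ p.zT hh hc h1 g⁻¹ ?_
    rw [show h = x by rw [← hwe, hw1, mul_one], ← hg]
    group
  obtain ⟨k, hk, hko, hkW⟩ := comp_exists_odd p.f₁.good.comp
  have h4 := p.f₁.good.comp.2.2.2.2.1
  obtain ⟨i, hi⟩ := four_transitive h4 (fun a ha => wOf_sq p.f₁.good.comp ha)
    (ev_of_odd h4 (comp_le_normalizer_wOf K₁ hk) hko) hkW p.z₁.memW p.z₁.ne hw hw1
  obtain ⟨h2a, h2b, h2c⟩ := p.other_center hh hc h1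
  obtain ⟨u, hu, huc⟩ : ∃ u, u ∈ L₁ ∧ u * z * u⁻¹ = w := ⟨k ^ i, pow_mem (p.f₁.good.le hk) i, hi⟩
  refine p.f₂.no_conj_z p.z₂ p.zT h2a h2b h2c (g⁻¹ * u) ?_
  have huh : u * h * u⁻¹ = h := mul_inv_eq_iff_eq_mul.2 (mem_centralizer_iff.1 hc u hu)
  calc g⁻¹ * u * (h * z) * (g⁻¹ * u)⁻¹ = g⁻¹ * ((u * h * u⁻¹) * (u * z * u⁻¹)) * g := by group
    _ = z := by rw [huh, huc, hwe, ← hg]; group

theorem Pair.h_not_D (p : Pair T K₁ L₁ K₂ L₂ z) {h : G} (hh : h ∈ pCoreOf 2 L₁)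
    (hc : h ∈ centralizer (L₁ : Set G)) (h1 : h ≠ 1) : h ∉ wOf K₁ ⊔ wOf K₂ := by
  intro hD
  have h8 : Nat.card ↥(pCoreOf 2 L₁) = 8 := by
    rcases p.f₁.card_Q_cases with ⟨hC, -⟩ | ⟨-, h8⟩
    exacts [absurd (hC h hh hc) h1, h8]
  have hle : pCoreOf 2 L₁ ≤ wOf K₁ ⊔ wOf K₂ := fun x hx => by
    obtain ⟨h', hh', hc', w, hw, rfl⟩ := p.f₁.decomp x hx
    by_cases h'1 : h' = 1
    · rw [h'1, one_mul]; exact mem_sup_left hw
    rw [p.f₁.central_eq hh' hc' h'1 hh hc h1]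
    exact mul_mem hD (mem_sup_left hw)
  exact p.not_W_le (le_sup_right.trans (eq_of_le_of_card_ge hle (by rw [p.D_card, h8])).ge)

theorem Pair.W_ne (p : Pair T K₁ L₁ K₂ L₂ z) {x : G} (hx : x ∈ wOf K₁) (hx1 : x ≠ 1) :
    ∃ g : G, g * z * g⁻¹ = x := by
  obtain ⟨k, hk, hko, hkW⟩ := comp_exists_odd p.f₁.good.comp
  have h4 := p.f₁.good.comp.2.2.2.2.1
  obtain ⟨i, hi⟩ := four_transitive h4 (fun a ha => wOf_sq p.f₁.good.comp ha)
    (ev_of_odd h4 (comp_le_normalizer_wOf K₁ hk) hko) hkW p.z₁.memW p.z₁.ne hx hx1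
  exact ⟨_, hi⟩

theorem Pair.D_invariant (p : Pair T K₁ L₁ K₂ L₂ z) {u : G} (hu : u ∈ normalizer (T : Set G)) :
    u ∈ normalizer ((wOf K₁ ⊔ wOf K₂ : Subgroup G) : Set G) := by
  refine mem_normalizer_fintype fun y hy => ?_
  have hle : wOf K₁ ⊔ wOf K₂ ≤ (wOf K₁ ⊔ wOf K₂).comap (MulAut.conj u).toMonoidHom := by
    have key : ∀ {K K' L L' : Subgroup G}, Pair T K L K' L' z → ∀ x ∈ wOf K,
        u * x * u⁻¹ ∈ wOf K ⊔ wOf K' := by
      intro K K' L L' q x hx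
      by_cases hx1 : x = 1
      · rw [hx1, mul_one, mul_inv_cancel]; exact one_mem _
      obtain ⟨g, hg⟩ := q.W_ne hx hx1
      have hxT : u * x * u⁻¹ ∈ T := (mem_normalizer_iff.1 hu x).1 (q.f₁.Q_le_T (q.f₁.W_le hx))
      have hg' : (u * g) * z * (u * g)⁻¹ = u * x * u⁻¹ := by rw [← hg]; group
      rcases q.invol_mem hxT (by
        rw [show u * x * u⁻¹ * (u * x * u⁻¹) = u * (x * x) * u⁻¹ by group, wOf_sq q.f₁.good.comp hx, mul_one,
          mul_inv_cancel]) with h | h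
      · exact mem_sup_left (q.zconj_W h _ hg')
      · exact mem_sup_right (q.symm.zconj_W h _ hg')
    exact sup_le (fun x hx => key p x hx) (fun x hx => (sup_comm (wOf K₂) (wOf K₁)).le (key p.symm x hx))
  exact hle hy

/-- An element of a `2`-subgroup normalizing `T` and centralizing `h` lies in `T`. -/
theorem Pair.mem_T_of_fix (p : Pair T K₁ L₁ K₂ L₂ z) {h : G} (hh : h ∈ pCoreOf 2 L₁)
    (hc : h ∈ centralizer (L₁ : Set G)) (h1 : h ≠ 1) {S : Subgroup G} (hS : IsPGroup 2 ↥S) {a : G} (ha : a ∈ S)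
    (haN : a ∈ normalizer (T : Set G)) (hfix : a * h * a⁻¹ = h) : a ∈ T := by
  obtain ⟨n, hn⟩ := hS ⟨a, ha⟩
  refine mem_of_two_pow p.f₁.good.sit.syl ?_ haN (n := n) (by simpa using congrArg Subtype.val hn)
  rw [← p.f₁.centralizer_eq hh h1 hc]
  exact mem_centralizer_singleton_iff.2 (mul_inv_eq_iff_eq_mul.1 hfix)

theorem Pair.conj_h (p : Pair T K₁ L₁ K₂ L₂ z) {h : G} (hh : h ∈ pCoreOf 2 L₁)
    (hc : h ∈ centralizer (L₁ : Set G)) (h1 : h ≠ 1) {S : Subgroup G} (hS : IsPGroup 2 ↥S) {a : G} (ha : a ∈ S)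
    (haN : a ∈ normalizer (T : Set G)) (haT : a ∉ T) : a * h * a⁻¹ = h * z := by
  have hxT : ∀ t ∈ T, t * (a * h * a⁻¹) = (a * h * a⁻¹) * t := by
    intro t ht
    have h2 : a⁻¹ * t * a⁻¹⁻¹ ∈ T := (mem_normalizer_iff.1 (inv_mem haN) t).1 ht
    have h3 := mem_centralizer_iff.1 hc _ (p.f₁.good.sit.T_le h2)
    calc t * (a * h * a⁻¹) = a * ((a⁻¹ * t * a⁻¹⁻¹) * h) * a⁻¹ := by group
      _ = a * (h * (a⁻¹ * t * a⁻¹⁻¹)) * a⁻¹ := by rw [h3]
      _ = (a * h * a⁻¹) * t := by group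
  have hx₁ : a * h * a⁻¹ ∈ pCoreOf 2 L₁ := p.f₁.good.sit.mem.2.2
    (mem_centralizer_iff.2 fun q hq => hxT q (p.f₁.Q_le_T hq))
  obtain ⟨h', hh', hc', e⟩ := p.f₁.center_cases p.z₁ p.zT hx₁ hxT
  by_cases h'1 : h' = 1
  · rcases e with e | e <;> rw [h'1] at e
    · exact absurd (conj_eq_one_iff.1 e) h1
    · exact absurd (by rwa [one_mul] at e) (p.f₁.no_conj_z p.z₁ p.zT hh hc h1 a)
  obtain rfl := p.f₁.central_eq hh' hc' h'1 hh hc h1
  rcases e with e | e
  · exact absurd (p.mem_T_of_fix hh' hc' h1 hS ha haN e) haT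
  · exact e

/-- The elementary abelian subgroups of order at least `8` of `N_S(T)` lie in `T`. -/
theorem Pair.elem_le (p : Pair T K₁ L₁ K₂ L₂ z) {h : G} (hh : h ∈ pCoreOf 2 L₁)
    (hc : h ∈ centralizer (L₁ : Set G)) (h1 : h ≠ 1) {S A : Subgroup G} (hS : IsPGroup 2 ↥S) (hAS : A ≤ S)
    (hAN : A ≤ normalizer (T : Set G)) (hcomm : ∀ x ∈ A, ∀ y ∈ A, x * y = y * x) (hsq : ∀ x ∈ A, x * x = 1)
    (hcard : 8 ≤ Nat.card ↥A) : A ≤ T := by
  by_contra hne
  obtain ⟨a, ha, haT⟩ := SetLike.not_le_iff_exists.1 hne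
  have hconj := p.conj_h hh hc h1 hS (hAS ha) (hAN ha) haT
  have hza : a * z * a⁻¹ = z := p.f₁.z_fixed p.z₁ p.zT (hAN ha)
  have hrest : ∀ x ∈ A, x ∈ T → x = 1 ∨ x = z := by
    intro x hx hxT
    have hax : a * x = x * a := hcomm a ha x hx
    -- `a` interchanges the overgroups
    obtain ⟨h2a, h2b, h2c⟩ := p.other_center hh hc h1
    have hmap : L₁.map (MulAut.conj a).toMonoidHom = L₂ := by
      rw [← p.f₁.centralizer_eq hh h1 hc, ← p.f₂.centralizer_eq h2a h2c h2b, ← hconj]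
      ext y
      constructor
      · rintro ⟨v, hv, rfl⟩
        refine mem_centralizer_singleton_iff.2 ?_
        have := mem_centralizer_singleton_iff.1 hv
        show a * v * a⁻¹ * (a * h * a⁻¹) = a * h * a⁻¹ * (a * v * a⁻¹)
        rw [conj_mul, conj_mul, this]
      · intro hy
        refine ⟨a⁻¹ * y * a, mem_centralizer_singleton_iff.2 ?_, by simp [mul_assoc]⟩
        have := mem_centralizer_singleton_iff.1 hy
        calc a⁻¹ * y * a * h = a⁻¹ * (y * (a * h * a⁻¹)) * a := by group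
          _ = a⁻¹ * ((a * h * a⁻¹) * y) * a := by rw [this]
          _ = h * (a⁻¹ * y * a) := by group
    have hQmap : (pCoreOf 2 L₁).map (MulAut.conj a).toMonoidHom = pCoreOf 2 L₂ := by
      rw [← pCoreOf_map _ (MulAut.conj a).injective, hmap]
    have haa : a * x * a⁻¹ = x := mul_inv_eq_iff_eq_mul.2 hax
    obtain ⟨hx₁, hx₂⟩ : x ∈ pCoreOf 2 L₁ ∧ x ∈ pCoreOf 2 L₂ := by
      have hinv : a⁻¹ = a := inv_eq_of_mul_eq_one_right (hsq a ha)
      rcases p.invol_mem hxT (hsq x hx) with h' | h'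
      · exact ⟨h', hQmap ▸ ⟨x, h', haa⟩⟩
      · refine ⟨?_, h'⟩
        rw [← hQmap] at h'
        obtain ⟨v, hv, hve⟩ := h'
        have : v = x := mul_left_cancel (mul_right_cancel ((show a * v * a⁻¹ = x from hve).trans haa.symm))
        exact this ▸ hv
    obtain ⟨h', hh', hc', e⟩ := p.f₁.center_cases p.z₁ p.zT hx₁ (p.central_of_both
      (fun q hq => p.f₁.comm q hq x hx₁) (fun q hq => p.f₂.comm q hq x hx₂))
    by_cases h'1 : h' = 1
    · rcases e with e | e <;> rw [h'1] at e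
      exacts [Or.inl e, Or.inr (by rwa [one_mul] at e)]
    obtain rfl := p.f₁.central_eq hh' hc' h'1 hh hc h1
    exfalso
    rcases e with e | e <;> rw [e] at haa
    · rw [haa] at hconj
      exact p.z₁.ne (mul_eq_left.1 hconj.symm)
    · rw [show a * (h' * z) * a⁻¹ = (a * h' * a⁻¹) * (a * z * a⁻¹) by group, hconj, hza] at haa
      exact p.z₁.ne (mul_eq_left.1 haa)
  have hsub : (A : Set G) ⊆ ({1, z} : Set G) ∪ ((fun y => a * y) '' ({1, z} : Set G)) := by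
    intro x hx
    by_cases hxT : x ∈ T
    · exact Or.inl (hrest x hx hxT)
    · refine Or.inr ⟨a * x, hrest _ (mul_mem ha hx) ?_, by
        show a * (a * x) = x
        rw [← mul_assoc, hsq a ha, one_mul]⟩
      refine p.mem_T_of_fix hh hc h1 hS (mul_mem (hAS ha) (hAS hx)) (mul_mem (hAN ha) (hAN hx)) ?_
      rw [show a * x * h * (a * x)⁻¹ = a * (x * h * x⁻¹) * a⁻¹ by group,
        p.conj_h hh hc h1 hS (hAS hx) (hAN hx) hxT,
        show a * (h * z) * a⁻¹ = (a * h * a⁻¹) * (a * z * a⁻¹) by group, hconj, hza, mul_assoc, p.z₁.sq, mul_one]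
  have h1' := (Set.ncard_le_ncard hsub (Set.toFinite _)).trans (Set.ncard_union_le _ _)
  rw [Set.ncard_image_of_injective _ (mul_right_injective a), ← Nat.card_coe_set_eq] at h1'
  have h2' := Set.ncard_insert_le (1 : G) {z}
  rw [Set.ncard_singleton] at h2'
  have : Nat.card ↥((A : Set G)) = Nat.card ↥A := rfl
  omega

/-- A Sylow `2`-subgroup containing `T` normalizes it. -/
theorem Pair.sylow_le_normalizer (p : Pair T K₁ L₁ K₂ L₂ z) {h : G} (hh : h ∈ pCoreOf 2 L₁)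
    (hc : h ∈ centralizer (L₁ : Set G)) (h1 : h ≠ 1) {S : Subgroup G} (hS : IsPGroup 2 ↥S) (hTS : T ≤ S) :
    S ≤ normalizer (T : Set G) := by
  haveI := Fact.mk Nat.prime_two
  have h8 : ∀ {K L : Subgroup G}, Four T K L → Nat.card ↥(pCoreOf 2 L) = Nat.card ↥(pCoreOf 2 L₁) := fun f => by
    have := f.card_T
    have := p.f₁.card_T
    omega
  have h8' : Nat.card ↥(pCoreOf 2 L₁) = 8 := by
    rcases p.f₁.card_Q_cases with ⟨hC, -⟩ | ⟨-, h8'⟩
    exacts [absurd (hC h hh hc) h1, h8']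
  by_contra hne
  obtain ⟨N, hN⟩ : ∃ N, N = S ⊓ normalizer (T : Set G) := ⟨_, rfl⟩
  haveI : Group.IsNilpotent ↥S := hS.isNilpotent
  have hlt : N.subgroupOf S < ⊤ := lt_top_iff_ne_top.2 fun e => hne (by
    rw [subgroupOf_eq_top, hN] at e
    exact fun x hx => (e hx).2)
  obtain ⟨u, hu, hun⟩ := SetLike.exists_of_lt (Group.normalizerCondition_of_isNilpotent _ hlt)
  refine hun (mem_subgroupOf.2 (hN ▸ mem_inf.2 ⟨u.2, ?_⟩))
  refine mem_normalizer_of_map_eq (eq_of_le_of_card_ge ?_ (card_map_of_injective (MulAut.conj (u : G)).injective).ge)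
  have hNT : T ≤ N := hN ▸ le_inf hTS le_normalizer
  have key : ∀ {K L : Subgroup G}, Four T K L → (pCoreOf 2 L).map (MulAut.conj (u : G)).toMonoidHom ≤ T := by
    intro K L f
    have hle : (pCoreOf 2 L).map (MulAut.conj (u : G)).toMonoidHom ≤ N := by
      rintro _ ⟨x, hx, rfl⟩
      exact (mem_normalizer_iff.1 hu ⟨x, hTS (f.Q_le_T hx)⟩).1 (hNT (f.Q_le_T hx))
    refine p.elem_le hh hc h1 hS (hle.trans (hN ▸ inf_le_left)) (hle.trans (hN ▸ inf_le_right)) ?_ ?_ ?_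
    · rintro _ ⟨x, hx, rfl⟩ _ ⟨y, hy, rfl⟩
      rw [← map_mul, ← map_mul, f.comm x hx y hy]
    · rintro _ ⟨x, hx, rfl⟩
      rw [← map_mul, f.sq x hx, map_one]
    · rw [card_map_of_injective (MulAut.conj (u : G)).injective, h8 f, h8']
  calc T.map (MulAut.conj (u : G)).toMonoidHom
      = (pCoreOf 2 L₁).map (MulAut.conj (u : G)).toMonoidHom ⊔
          (pCoreOf 2 L₂).map (MulAut.conj (u : G)).toMonoidHom := by rw [← Subgroup.map_sup, ← p.T_eq]
    _ ≤ T := sup_le (key p.f₁) (key p.f₂)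

/-- The transfer shows that the central involutions do not lie in the group of odd elements. -/
theorem Pair.h_not_mem (p : Pair T K₁ L₁ K₂ L₂ z) {h : G} (hh : h ∈ pCoreOf 2 L₁)
    (hc : h ∈ centralizer (L₁ : Set G)) (h1 : h ≠ 1) : h ∉ closure {g : G | Odd (orderOf g)} := by
  haveI := Fact.mk Nat.prime_two
  obtain ⟨S, hTS⟩ := p.f₁.good.T_two.exists_le_sylow
  obtain ⟨P, hP⟩ : ∃ P, P = (S : Subgroup G) := ⟨_, rfl⟩
  have hPp : IsPGroup 2 ↥P := hP ▸ S.isPGroup'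
  rw [← hP] at hTS
  have hPN := p.sylow_le_normalizer hh hc h1 hPp hTS
  obtain ⟨D, hD⟩ : ∃ D, D = wOf K₁ ⊔ wOf K₂ := ⟨_, rfl⟩
  have hDP : D ≤ P := (hD ▸ p.D_le).trans hTS
  haveI hDn : (D.subgroupOf P).Normal := normal_subgroupOf_of_le_normalizer fun u hu =>
    hD ▸ p.D_invariant (hPN hu)
  have h8 : Nat.card ↥(pCoreOf 2 L₁) = 8 := by
    rcases p.f₁.card_Q_cases with ⟨hC, -⟩ | ⟨-, h8⟩
    exacts [absurd (hC h hh hc) h1, h8]
  have hT16 : Nat.card ↥T = 16 := by rw [p.f₁.card_T, h8]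
  have hza : ∀ a ∈ P, a * z * a⁻¹ = z := fun a ha => p.f₁.z_fixed p.z₁ p.zT (hPN ha)
  have hPT : Nat.card ↥P ≤ 2 * Nat.card ↥T := by
    by_cases hle : P ≤ T
    · have := card_le_of_le hle
      omega
    obtain ⟨a, ha, haT⟩ := SetLike.not_le_iff_exists.1 hle
    have hsub : (P : Set G) ⊆ (T : Set G) ∪ ((fun y => a * y) '' (T : Set G)) := by
      intro x hx
      by_cases hxT : x ∈ T
      · exact Or.inl hxT
      refine Or.inr ⟨a⁻¹ * x, p.mem_T_of_fix hh hc h1 hPp (mul_mem (inv_mem ha) hx)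
        (mul_mem (inv_mem (hPN ha)) (hPN hx)) ?_, by simp⟩
      rw [show a⁻¹ * x * h * (a⁻¹ * x)⁻¹ = a⁻¹ * (x * h * x⁻¹) * a by group, p.conj_h hh hc h1 hPp hx (hPN hx) hxT,
        ← p.conj_h hh hc h1 hPp ha (hPN ha) haT]
      group
    have h1' := (Set.ncard_le_ncard hsub (Set.toFinite _)).trans (Set.ncard_union_le _ _)
    rw [Set.ncard_image_of_injective _ (mul_right_injective a), ← Nat.card_coe_set_eq, ← Nat.card_coe_set_eq]
      at h1'
    rw [two_mul]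
    exact h1'
  have hcardq : Nat.card ↥P = Nat.card (↥P ⧸ D.subgroupOf P) * 8 := by
    rw [card_eq_card_quotient_mul_card_subgroup (D.subgroupOf P),
      Nat.card_congr (subgroupOfEquivOfLe hDP).toEquiv, hD, p.D_card]
  have hcomm : ∀ a b : ↥P ⧸ D.subgroupOf P, a * b = b * a := by
    obtain ⟨n, hn⟩ := IsPGroup.iff_card.1 (hPp.to_quotient (D.subgroupOf P))
    have hn4 : 2 ^ n ≤ 4 := by rw [← hn]; omega
    have hn2 : n ≤ 2 := by
      by_contra hcon
      have := Nat.pow_le_pow_right (show 2 > 0 by norm_num) (show 3 ≤ n by omega)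
      omega
    interval_cases n
    · intro a b
      rw [pow_zero, Nat.card_eq_one_iff_unique] at hn
      haveI := hn.1
      exact Subsingleton.elim _ _
    · haveI : IsCyclic (↥P ⧸ D.subgroupOf P) := isCyclic_of_prime_card (p := 2) (by rw [hn, pow_one])
      letI := IsCyclic.commGroup (α := ↥P ⧸ D.subgroupOf P)
      exact fun a b => mul_comm a b
    · exact IsPGroup.commutative_of_card_eq_prime_sq hn
  letI : CommGroup (↥P ⧸ D.subgroupOf P) :=
    { (inferInstance : Group (↥P ⧸ D.subgroupOf P)) with mul_comm := hcomm }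
  obtain ⟨δ, hδ⟩ : ∃ δ : ↥P →* ↥P ⧸ D.subgroupOf P, δ = QuotientGroup.mk' (D.subgroupOf P) := ⟨_, rfl⟩
  have hδ1 : ∀ x : ↥P, δ x = 1 ↔ (x : G) ∈ D := fun x => by
    rw [hδ, QuotientGroup.mk'_apply, QuotientGroup.eq_one_iff, mem_subgroupOf]
  have hhT : h ∈ T := p.f₁.Q_le_T hh
  obtain ⟨α, hα⟩ : ∃ α, α = δ ⟨h, hTS hhT⟩ := ⟨_, rfl⟩
  have hα1 : α ≠ 1 := fun e => p.h_not_D hh hc h1 (hD ▸ (hδ1 _).1 (hα ▸ e))
  have hαsq : α * α = 1 := by
    rw [hα, ← map_mul, show (⟨h, hTS hhT⟩ : ↥P) * ⟨h, hTS hhT⟩ = 1 from Subtype.ext (p.f₁.sq h hh), map_one]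
  letI : Fintype (G ⧸ P) := Fintype.ofFinite _
  have hval : δ.transfer h = α := by
    rw [Cfsg.Agent.Fus.transfer_eq_fixVal P δ h (fun g n hmem hlt => by
      have ho : orderOf h = 2 := orderOf_eq_prime (by rw [pow_two]; exact p.f₁.sq h hh) h1
      have hn1 : h ^ n = 1 := orderOf_eq_one_iff.1 (by
        have := orderOf_pos (h ^ n); omega)
      rw [show (⟨_, hmem⟩ : ↥P) = 1 from Subtype.ext (by simp [hn1]), map_one])]
    have hprod : ∏ q : G ⧸ P, Cfsg.Agent.Fus.fixVal P δ h q * α = 1 := by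
      refine prod_eq_one_of_two_group (P := ↥T) p.f₁.good.T_two _ (fun t q => ?_) (fun q => ?_) (fun q hq => ?_)
      · induction q using QuotientGroup.induction_on with
        | _ g =>
          congr 1
          have he : ((t : G) * g)⁻¹ * h * ((t : G) * g) = g⁻¹ * h * g := by
            have := mem_centralizer_iff.1 hc t (p.f₁.good.sit.T_le t.2)
            calc ((t : G) * g)⁻¹ * h * ((t : G) * g) = g⁻¹ * ((t : G)⁻¹ * (h * t)) * g := by group
              _ = g⁻¹ * ((t : G)⁻¹ * ((t : G) * h)) * g := by rw [this]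
              _ = g⁻¹ * h * g := by group
          show Cfsg.Agent.Fus.fixVal P δ h (((t : G) * g : G) : G ⧸ P) = _
          by_cases hm : g⁻¹ * h * g ∈ P
          · rw [Cfsg.Agent.Fus.fixVal_mk P δ h g hm, Cfsg.Agent.Fus.fixVal_mk P δ h _ (he ▸ hm)]
            exact congrArg δ (Subtype.ext he)
          · rw [Cfsg.Agent.Fus.fixVal_mk_of_notMem P δ h g hm,
              Cfsg.Agent.Fus.fixVal_mk_of_notMem P δ h _ (he ▸ hm)]
      · rw [mul_mul_mul_comm, hαsq, mul_one, Cfsg.Agent.Fus.fixVal]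
        split_ifs with hm
        · rw [← map_mul, show (⟨_, hm⟩ : ↥P) * ⟨_, hm⟩ = 1 from Subtype.ext (by
            show q.out⁻¹ * h * q.out * (q.out⁻¹ * h * q.out) = 1
            rw [show q.out⁻¹ * h * q.out * (q.out⁻¹ * h * q.out) = q.out⁻¹ * (h * h) * q.out by group,
              p.f₁.sq h hh, mul_one, inv_mul_cancel]), map_one]
        · exact mul_one 1
      · induction q using QuotientGroup.induction_on with
        | _ g =>
          have hconjP : ∀ t ∈ T, g⁻¹ * t * g ∈ P := fun t ht => by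
            have h2 : ((t * g : G) : G ⧸ P) = (g : G ⧸ P) := hq ⟨t, ht⟩
            rw [QuotientGroup.eq] at h2
            have := inv_mem h2
            rwa [show ((t * g)⁻¹ * g)⁻¹ = g⁻¹ * t * g by group] at this
          have key : ∀ {K L : Subgroup G}, Four T K L →
              (pCoreOf 2 L).map (MulAut.conj g⁻¹).toMonoidHom ≤ T := by
            intro K L f
            have hle : (pCoreOf 2 L).map (MulAut.conj g⁻¹).toMonoidHom ≤ P := by
              rintro _ ⟨x, hx, rfl⟩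
              simpa using hconjP x (f.Q_le_T hx)
            refine p.elem_le hh hc h1 hPp hle (hle.trans hPN) ?_ ?_ ?_
            · rintro _ ⟨x, hx, rfl⟩ _ ⟨y, hy, rfl⟩
              rw [← map_mul, ← map_mul, f.comm x hx y hy]
            · rintro _ ⟨x, hx, rfl⟩
              rw [← map_mul, f.sq x hx, map_one]
            · rw [card_map_of_injective (MulAut.conj g⁻¹).injective]
              have := f.card_T
              omega
          have hxT : g⁻¹ * h * g ∈ T := by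
            have := key p.f₁ ⟨h, hh, rfl⟩
            simpa using this
          have hm : g⁻¹ * h * g ∈ P := hTS hxT
          rw [Cfsg.Agent.Fus.fixVal_mk P δ h g hm]
          -- the conjugate lies outside `D`
          have hxD : g⁻¹ * h * g ∉ D := by
            intro hxD
            have hcases : g⁻¹ * h * g ∈ wOf K₁ ∨ g⁻¹ * h * g ∈ wOf K₂ := by
              rcases p.invol_mem hxT (by
                rw [show g⁻¹ * h * g * (g⁻¹ * h * g) = g⁻¹ * (h * h) * g by group, p.f₁.sq h hh, mul_one,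
                  inv_mul_cancel]) with hx' | hx'
              · left
                obtain ⟨h', hh', hc', w, hw, hwe⟩ := p.f₁.decomp _ hx'
                by_cases h'1 : h' = 1
                · rwa [← hwe, h'1, one_mul]
                refine absurd ?_ (p.h_not_D hh' hc' h'1)
                have := mul_mem (hD ▸ hxD : g⁻¹ * h * g ∈ wOf K₁ ⊔ wOf K₂)
                  (inv_mem (mem_sup_left hw : w ∈ wOf K₁ ⊔ wOf K₂))
                rwa [← hwe, mul_inv_cancel_right] at this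
              · right
                obtain ⟨h', hh', hc', w, hw, hwe⟩ := p.f₂.decomp _ hx'
                by_cases h'1 : h' = 1
                · rwa [← hwe, h'1, one_mul]
                refine absurd ?_ (p.symm.h_not_D hh' hc' h'1)
                have := mul_mem ((sup_comm (wOf K₁) (wOf K₂)).le (hD ▸ hxD) : g⁻¹ * h * g ∈ wOf K₂ ⊔ wOf K₁)
                  (inv_mem (mem_sup_left hw : w ∈ wOf K₂ ⊔ wOf K₁))
                rwa [← hwe, mul_inv_cancel_right] at this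
            have hx1 : g⁻¹ * h * g ≠ 1 := fun e => h1 (by
              calc h = g * (g⁻¹ * h * g) * g⁻¹ := by group
                _ = 1 := by rw [e]; group)
            rcases hcases with hw | hw
            · obtain ⟨u, hu⟩ := p.W_ne hw hx1
              refine p.f₁.no_conj_z p.z₁ p.zT hh hc h1 (u⁻¹ * g⁻¹) ?_
              calc u⁻¹ * g⁻¹ * h * (u⁻¹ * g⁻¹)⁻¹ = u⁻¹ * (g⁻¹ * h * g) * u := by group
                _ = z := by rw [← hu]; group
            · obtain ⟨u, hu⟩ := p.symm.W_ne hw hx1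
              refine p.f₁.no_conj_z p.z₁ p.zT hh hc h1 (u⁻¹ * g⁻¹) ?_
              calc u⁻¹ * g⁻¹ * h * (u⁻¹ * g⁻¹)⁻¹ = u⁻¹ * (g⁻¹ * h * g) * u := by group
                _ = z := by rw [← hu]; group
          have hidx : (D.subgroupOf T).index = 2 := by
            refine Nat.eq_of_mul_eq_mul_left (show 0 < Nat.card ↥(D.subgroupOf T) from Nat.card_pos) ?_
            rw [card_mul_index, hT16, Nat.card_congr (subgroupOfEquivOfLe (hD ▸ p.D_le)).toEquiv, hD, p.D_card]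
          have hprodD := (mul_mem_iff_of_index_two hidx (a := (⟨_, hxT⟩ : ↥T)) (b := ⟨h, hhT⟩))
          simp only [mem_subgroupOf] at hprodD
          rw [hα, ← map_mul, hδ1]
          exact hprodD.2 (iff_of_false hxD (hD ▸ p.h_not_D hh hc h1))
    rw [Finset.prod_mul_distrib, Finset.prod_const, Finset.card_univ, ← Nat.card_eq_fintype_card] at hprod
    have hodd : Odd (Nat.card (G ⧸ P)) := by
      rw [← Nat.not_even_iff_odd, even_iff_two_dvd, hP]
      exact S.not_dvd_index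
    obtain ⟨m, hm⟩ := hodd
    rw [hm, pow_succ, pow_mul, pow_two, hαsq, one_pow, one_mul] at hprod
    exact (eq_inv_of_mul_eq_one_left hprod).trans (inv_eq_of_mul_eq_one_right hαsq)
  intro hmem
  refine hα1 ?_
  rw [← hval]
  have hker : closure {g : G | Odd (orderOf g)} ≤ δ.transfer.ker := by
    rw [closure_le]
    intro g hg
    rw [SetLike.mem_coe, MonoidHom.mem_ker]
    obtain ⟨n, hn⟩ := IsPGroup.iff_card.1 (hPp.to_quotient (D.subgroupOf P))
    have h2 : orderOf (δ.transfer g) ∣ 2 ^ n := hn ▸ orderOf_dvd_natCard _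
    have h3 : Odd (orderOf (δ.transfer g)) := Odd.of_dvd_nat hg (orderOf_map_dvd _ g)
    exact orderOf_eq_one_iff.1 (Nat.eq_one_of_dvd_coprimes
      (Nat.Coprime.pow_left n (Nat.coprime_two_left.2 h3)) h2 dvd_rfl)
  exact hker hmem

/-- The trace of an overgroup on the group of odd elements. -/
theorem Pair.inter_odd (p : Pair T K₁ L₁ K₂ L₂ z) {H : Subgroup G}
    (hH : H = closure {g : G | Odd (orderOf g)}) :
    wOf K₁ ⊔ wOf K₂ ≤ H ∧ (∀ x ∈ T, x ∈ H → x ∈ wOf K₁ ⊔ wOf K₂) ∧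
      Nonempty (↥(L₁.subgroupOf H) ≃* Equiv.Perm (Fin 4)) := by
  have hKH : ∀ {K L : Subgroup G}, Good T K L → K ≤ H := fun {K L} g => by
    rw [← g.comp.1, hH]
    exact closure_mono fun x hx => hx.2
  have hWK : ∀ {K L : Subgroup G}, Good T K L → wOf K ≤ K := fun {K L} g => by
    unfold Cfsg.wOf
    refine commutator_le.2 fun v hv k hk => ?_
    have hvK : v ∈ K := pCoreOf_le K (omegaCenter_le _ hv)
    rw [commutatorElement_def]
    exact mul_mem (mul_mem (mul_mem hvK hk) (inv_mem hvK)) (inv_mem hk)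
  have hDH : wOf K₁ ⊔ wOf K₂ ≤ H :=
    sup_le ((hWK p.f₁.good).trans (hKH p.f₁.good)) ((hWK p.f₂.good).trans (hKH p.f₂.good))
  have hTD : ∀ x ∈ T, x ∈ H → x ∈ wOf K₁ ⊔ wOf K₂ := by
    intro x hx hxH
    by_cases hC : ∀ h ∈ pCoreOf 2 L₁, h ∈ centralizer (L₁ : Set G) → h = 1
    · exact p.T_le_D hC hx
    push Not at hC
    obtain ⟨h, hh, hc, h1⟩ := hC
    have h8 : Nat.card ↥(pCoreOf 2 L₁) = 8 := by
      rcases p.f₁.card_Q_cases with ⟨hC, -⟩ | ⟨-, h8⟩
      exacts [absurd (hC h hh hc) h1, h8]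
    have hidx : ((wOf K₁ ⊔ wOf K₂).subgroupOf T).index = 2 := by
      refine Nat.eq_of_mul_eq_mul_left (show 0 < Nat.card ↥((wOf K₁ ⊔ wOf K₂).subgroupOf T) from Nat.card_pos) ?_
      rw [card_mul_index, Nat.card_congr (subgroupOfEquivOfLe p.D_le).toEquiv, p.D_card, p.f₁.card_T, h8]
    by_contra hxD
    have hmul := (mul_mem_iff_of_index_two hidx (a := (⟨h, p.f₁.Q_le_T hh⟩ : ↥T)) (b := ⟨x, hx⟩))
    simp only [mem_subgroupOf] at hmul
    have h2 := mul_mem (hDH (hmul.2 (iff_of_false (p.h_not_D hh hc h1) hxD))) (inv_mem hxH)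
    simp only [Subgroup.coe_mul, mul_inv_cancel_right] at h2
    exact p.h_not_mem hh hc h1 (hH ▸ h2)
  refine ⟨hDH, hTD, ?_⟩
  obtain ⟨ψ, hψs, hψk⟩ : ∃ ψ : ↥L₁ →* Equiv.Perm (Fin 4), Function.Surjective ψ ∧
      ∀ x, ψ x = 1 → ∀ y, x * y = y * x := by
    rcases p.f₁.good.pair_iso p.f₂.good p.ne with ⟨⟨e⟩, -⟩ | ⟨⟨e⟩, -⟩
    · rw [← p.f₁.eq] at e
      exact ⟨e.toMonoidHom, e.surjective, fun x hx y => by
        rw [e.map_eq_one_iff.1 hx, one_mul, mul_one]⟩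
    · rw [← p.f₁.eq] at e
      refine ⟨(MonoidHom.snd _ _).comp e.toMonoidHom, Prod.snd_surjective.comp e.surjective, fun x hx y => ?_⟩
      refine e.injective (Prod.ext ?_ ?_)
      · rw [map_mul, map_mul, Prod.fst_mul, Prod.fst_mul, mul_comm]
      · have hx' : (e x).2 = 1 := hx
        rw [map_mul, map_mul, Prod.snd_mul, Prod.snd_mul, hx', one_mul, mul_one]
  have hcentre : ∀ x : ↥L₁, (∀ y, x * y = y * x) → ψ x = 1 := by
    have hdec : ∀ a : Equiv.Perm (Fin 4), (∀ b, a * b = b * a) → a = 1 := by decide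
    intro x hx
    refine hdec _ fun b => ?_
    obtain ⟨y, rfl⟩ := hψs b
    rw [← map_mul, ← map_mul, hx]
  obtain ⟨φ, hφ⟩ : ∃ φ : ↥(L₁.subgroupOf H) →* Equiv.Perm (Fin 4),
      ∀ x, φ x = ψ ⟨((x : ↥H) : G), x.2⟩ :=
    ⟨MonoidHom.mk' (fun x => ψ ⟨((x : ↥H) : G), x.2⟩) (fun a b => by rw [← map_mul]; rfl), fun x => rfl⟩
  refine ⟨MulEquiv.ofBijective φ ⟨(injective_iff_map_eq_one φ).2 fun x hx => ?_, ?_⟩⟩
  · rw [hφ] at hx
    have hcx : ((x : ↥H) : G) ∈ centralizer (L₁ : Set G) := mem_centralizer_iff.2 fun y hy =>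
      (congrArg Subtype.val (hψk _ hx ⟨y, hy⟩)).symm
    have hxQ : ((x : ↥H) : G) ∈ pCoreOf 2 L₁ := p.f₁.good.sit.mem.2.2
      (Subgroup.centralizer_le (SetLike.coe_subset_coe.2 (pCoreOf_le L₁)) hcx)
    refine Subtype.ext (Subtype.ext ?_)
    by_contra hne
    exact p.h_not_mem hxQ hcx hne (hH ▸ (x : ↥H).2)
  · intro b
    obtain ⟨y, rfl⟩ := hψs b
    have hgen : (y : G) ∈ K₁ ⊔ T := p.f₁.eq ▸ y.2
    obtain ⟨R, hR⟩ : ∃ R : Subgroup ↥L₁, R = φ.range.comap ψ := ⟨_, rfl⟩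
    have hmemH : ∀ (v : G) (hv : v ∈ L₁), v ∈ H → (⟨v, hv⟩ : ↥L₁) ∈ R := fun v hv hvH => by
      rw [hR, mem_comap]
      exact ⟨⟨⟨v, hvH⟩, hv⟩, hφ _⟩
    have hle : K₁ ⊔ T ≤ R.map L₁.subtype := by
      refine sup_le (fun v hv => ⟨⟨v, p.f₁.good.le hv⟩, hmemH v _ (hKH p.f₁.good hv), rfl⟩) ?_
      conv_lhs => rw [p.T_eq]
      have hQ : ∀ q ∈ pCoreOf 2 L₁, q ∈ R.map L₁.subtype := by
        intro q hq
        obtain ⟨h, hh, hc, w, hw, rfl⟩ := p.f₁.decomp q hq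
        refine mul_mem ⟨⟨h, pCoreOf_le L₁ hh⟩, ?_, rfl⟩
          ⟨⟨w, pCoreOf_le L₁ (p.f₁.W_le hw)⟩, hmemH w _ (hDH (mem_sup_left hw)), rfl⟩
        rw [SetLike.mem_coe, hR, mem_comap,
          hcentre _ fun v => Subtype.ext (mem_centralizer_iff.1 hc v v.2).symm]
        exact one_mem _
      refine sup_le hQ fun q hq => ?_
      obtain ⟨h, hh, hc, w, hw, rfl⟩ := p.f₂.decomp q hq
      refine mul_mem ?_ ⟨⟨w, p.f₁.good.sit.T_le (p.f₂.Q_le_T (p.f₂.W_le hw))⟩,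
        hmemH w _ (hDH (mem_sup_right hw)), rfl⟩
      refine hQ h (p.f₁.good.sit.mem.2.2 (mem_centralizer_iff.2 fun a ha => ?_))
      exact mem_centralizer_iff.1 hc a (p.f₂.good.sit.T_le (p.f₁.Q_le_T ha))
    obtain ⟨v, hv, hve⟩ := hle hgen
    obtain rfl : v = y := Subtype.ext hve
    rw [SetLike.mem_coe, hR, mem_comap] at hv
    exact hv

theorem normalizer_subgroupOf_eq {H : Subgroup G} {R : Subgroup G} (hR : R ≤ H) :
    normalizer ((R.subgroupOf H : Subgroup ↥H) : Set ↥H) = (normalizer (R : Set G)).subgroupOf H := by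
  ext x
  rw [mem_subgroupOf, mem_normalizer_iff, mem_normalizer_iff]
  constructor
  · intro h v
    constructor
    · intro hv
      have := (h ⟨v, hR hv⟩).1 (mem_subgroupOf.2 hv)
      rwa [mem_subgroupOf] at this
    · intro hv
      have hvH : v ∈ H := by
        have := mul_mem (mul_mem (inv_mem x.2) (hR hv)) x.2
        rwa [show (x : G)⁻¹ * ((x : G) * v * (x : G)⁻¹) * (x : G) = v by group] at this
      exact mem_subgroupOf.1 ((h ⟨v, hvH⟩).2 (mem_subgroupOf.2 hv))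
  · intro h v
    rw [mem_subgroupOf, mem_subgroupOf]
    exact h v

theorem Four.normalizer_W (f : Four T K₁ L₁) : normalizer (wOf K₁ : Set G) = L₁ := by
  haveI := Fact.mk Nat.prime_two
  have h4 := f.good.comp.2.2.2.2.1
  refine f.good.max.2 _ ⟨wOf K₁, IsPGroup.of_card (n := 2) (by rw [h4]; norm_num),
    fun e => by rw [e, card_bot] at h4; omega, rfl⟩ f.W_normal

/-- The trace is a maximal `2`-local subgroup of the group of odd elements. -/
theorem Pair.maximal_odd (p : Pair T K₁ L₁ K₂ L₂ z) {H : Subgroup G}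
    (hH : H = closure {g : G | Odd (orderOf g)}) : IsMaximalTwoLocal (L₁.subgroupOf H) := by
  haveI := Fact.mk Nat.prime_two
  obtain ⟨hDH, hTD, ⟨e⟩⟩ := p.inter_odd hH
  have h4 := p.f₁.good.comp.2.2.2.2.1
  obtain ⟨W, hW⟩ : ∃ W, W = wOf K₁ := ⟨_, rfl⟩
  have hWH : W ≤ H := hW ▸ le_sup_left.trans hDH
  have hWne : W ≠ ⊥ := fun e => by rw [← hW, e, card_bot] at h4; omega
  have hWp : IsPGroup 2 ↥W := hW ▸ IsPGroup.of_card (n := 2) (by rw [h4]; norm_num)
  have hWn : normalizer (W : Set G) = L₁ := hW ▸ p.f₁.normalizer_W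
  have hWL : W ≤ L₁ := hWn ▸ le_normalizer
  refine ⟨⟨W.subgroupOf H, hWp.of_equiv (subgroupOfEquivOfLe hWH).symm,
    fun e => hWne (by rwa [subgroupOf_eq_bot, disjoint_iff, inf_eq_left.2 hWH] at e),
    by rw [normalizer_subgroupOf_eq hWH, hWn]⟩, ?_⟩
  rintro _ ⟨R', hR'p, hR'1, rfl⟩ hle
  obtain ⟨R, hR⟩ : ∃ R, R = R'.map H.subtype := ⟨_, rfl⟩
  have hRH : R ≤ H := hR ▸ map_subtype_le _
  have hR'eq : R' = R.subgroupOf H := by
    rw [hR, subgroupOf, comap_map_eq_self_of_injective H.subtype_injective]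
  have hRp : IsPGroup 2 ↥R := hR ▸ hR'p.map _
  have hR1 : R ≠ ⊥ := by rwa [hR, Ne, map_eq_bot_iff_of_injective _ H.subtype_injective]
  have hn : ∀ v ∈ L₁, v ∈ H → v ∈ normalizer (R : Set G) := fun v hv hvH => by
    have := hle (show (⟨v, hvH⟩ : ↥H) ∈ L₁.subgroupOf H from hv)
    rw [hR'eq, normalizer_subgroupOf_eq hRH] at this
    exact this
  have hWR : W ≤ normalizer (R : Set G) := fun w hw => hn w (hWL hw) (hWH hw)
  -- the centralizer of `W`
  have hCW : ∀ x ∈ R, x ∈ centralizer (W : Set G) → x ∈ W := by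
    intro x hx hxc
    have hxL : x ∈ L₁ := hWn ▸ centralizer_le_normalizer _ hxc
    obtain ⟨n, hn'⟩ := hRp ⟨x, hx⟩
    obtain ⟨l, hl, hxl⟩ := exists_conj_le p.f₁.good.sit.syl
      (isPGroup_zpowers_of_pow (x := x) (n := n) (by simpa using congrArg Subtype.val hn')) (zpowers_le.2 hxL)
    obtain ⟨v, hv, hve⟩ := hxl (mem_zpowers x)
    have hvc : v ∈ centralizer (W : Set G) := mem_centralizer_iff.2 fun w hw => by
      have hw' : l * w * l⁻¹ ∈ W := (mem_normalizer_iff.1 (hWn ▸ hl : l ∈ normalizer (W : Set G)) w).1 hw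
      have hve' : l * v * l⁻¹ = x := hve
      have h3 := mem_centralizer_iff.1 hxc _ hw'
      rw [← hve', conj_mul, conj_mul] at h3
      exact mul_left_cancel (mul_right_cancel h3)
    have hvQ : v ∈ pCoreOf 2 L₁ := p.f₁.cent_eq hv (hW ▸ hvc)
    have hxQ : x ∈ pCoreOf 2 L₁ := hve ▸ (mem_normalizer_iff.1 (le_normalizer_pCoreOf L₁ hl) v).1 hvQ
    obtain ⟨h, hh, hc, w, hw, hwe⟩ := p.f₁.decomp x hxQ
    by_cases h1 : h = 1
    · rw [← hwe, h1, one_mul, hW]; exact hw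
    exfalso
    refine p.h_not_mem hh hc h1 (hH ▸ ?_)
    have := mul_mem (hRH hx) (inv_mem (hDH (mem_sup_left hw)))
    rwa [← hwe, mul_inv_cancel_right] at this
  -- `W` lies in `R`
  have hWleR : W ≤ R := by
    have hP : IsPGroup 2 ↥(W ⊔ R) := hWp.to_sup_of_normal_right' hRp hWR
    haveI : Group.IsNilpotent ↥(W ⊔ R) := hP.isNilpotent
    haveI : (R.subgroupOf (W ⊔ R)).Normal := normal_subgroupOf_of_le_normalizer (sup_le hWR le_normalizer)
    obtain ⟨⟨x, hxR, hxZ⟩, hx1⟩ := ne_bot_iff_exists_ne_one.1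
      (Grp.inf_center_ne_bot (R.subgroupOf (W ⊔ R)) (fun e => hR1 (by
        rwa [subgroupOf_eq_bot, disjoint_iff, inf_eq_left.2 le_sup_right] at e)))
    have hxR' : (x : G) ∈ R := hxR
    have hxW : (x : G) ∈ W := hCW _ hxR' (mem_centralizer_iff.2 fun w hw => congrArg Subtype.val
      (mem_center_iff.1 hxZ ⟨w, mem_sup_left hw⟩))
    have hxne : (x : G) ≠ 1 := fun e1 => hx1 (Subtype.ext (Subtype.ext e1))
    intro w hw
    by_cases hw1 : w = 1
    · exact hw1 ▸ one_mem _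
    obtain ⟨k, hk, hko, hkW⟩ := comp_exists_odd p.f₁.good.comp
    obtain ⟨i, hi⟩ := four_transitive h4 (fun a ha => wOf_sq p.f₁.good.comp ha)
      (ev_of_odd h4 (comp_le_normalizer_wOf K₁ hk) hko) hkW (hW ▸ hxW) hxne (hW ▸ hw) hw1
    have hkn : k ^ i ∈ normalizer (R : Set G) := pow_mem (hn k (p.f₁.good.le hk) (by
      rw [hH]
      exact subset_closure hko)) i
    rw [← hi]
    exact (mem_normalizer_iff.1 hkn _).1 hxR'
  have hRW : R = W := by
    refine le_antisymm ?_ hWleR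
    by_contra hne
    haveI : Group.IsNilpotent ↥R := hRp.isNilpotent
    have hlt : W.subgroupOf R < ⊤ := lt_top_iff_ne_top.2 fun e1 => hne (subgroupOf_eq_top.1 e1)
    obtain ⟨r, hr, hrn⟩ := SetLike.exists_of_lt (Group.normalizerCondition_of_isNilpotent _ hlt)
    refine hrn (mem_subgroupOf.2 ?_)
    -- `N_R(W)` is a normal `2`-subgroup of the trace
    obtain ⟨N, hN⟩ : ∃ N, N = R ⊓ normalizer (W : Set G) := ⟨_, rfl⟩
    have hrN : (r : G) ∈ N := hN ▸ ⟨r.2, mem_normalizer_fintype fun a ha =>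
      (mem_normalizer_iff.1 hr ⟨a, hWleR ha⟩).1 ha⟩
    have hNH : N ≤ H := hN ▸ inf_le_left.trans hRH
    obtain ⟨N', hN'⟩ : ∃ N', N' = (N.subgroupOf H).subgroupOf (L₁.subgroupOf H) := ⟨_, rfl⟩
    have hNle : N.subgroupOf H ≤ L₁.subgroupOf H := fun x hx => by
      rw [mem_subgroupOf] at hx ⊢
      rw [← hWn]
      exact (hN.le hx).2
    haveI hN'n : N'.Normal := ⟨fun v hv a => by
      rw [hN', mem_subgroupOf, mem_subgroupOf, hN] at hv ⊢
      have haW : ((a : ↥H) : G) ∈ normalizer (W : Set G) := hWn.symm ▸ (a.2 : ((a : ↥H) : G) ∈ L₁)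
      exact ⟨(mem_normalizer_iff.1 (hn _ a.2 (a : ↥H).2) _).1 hv.1,
        (normalizer (W : Set G)).mul_mem ((normalizer (W : Set G)).mul_mem haW hv.2)
          ((normalizer (W : Set G)).inv_mem haW)⟩⟩
    have hN'p : IsPGroup 2 ↥N' := hN' ▸ (((hRp.to_le (hN ▸ inf_le_left : N ≤ R)).of_equiv
      (subgroupOfEquivOfLe hNH).symm)).of_equiv (subgroupOfEquivOfLe hNle).symm
    have hmapN : ∀ v ∈ N', e v ∈ [1, Equiv.swap 0 1 * Equiv.swap 2 3, Equiv.swap 0 2 * Equiv.swap 1 3,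
        Equiv.swap 0 3 * Equiv.swap 1 2] := by
      have hp : ∀ v ∈ N', e v ^ 8 = 1 := fun v hv => by
        obtain ⟨n, hn'⟩ := hN'p ⟨v, hv⟩
        exact orderOf_two_pow_dvd (a := e v) (n := n) (N := 24)
          (by rw [← map_pow, show v ^ 2 ^ n = 1 from congrArg Subtype.val hn', map_one])
          (by
            have h24 : Nat.card (Equiv.Perm (Fin 4)) = 24 := by rw [Nat.card_perm, Nat.card_fin]; rfl
            exact h24 ▸ orderOf_dvd_natCard _) 3 (fun j hj => by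
            by_contra hlt'
            have : 16 ∣ 24 := (Nat.pow_dvd_pow 2 (show 4 ≤ j by omega)).trans hj
            norm_num at this)
      intro v hv
      simp only [List.mem_cons, List.not_mem_nil, or_false]
      refine perm4_two _ (hp v hv) fun b => ?_
      rw [← e.apply_symm_apply b, ← map_inv, ← map_mul, ← map_mul, ← map_mul]
      exact hp _ (mul_mem (hN'n.conj_mem v hv _) hv)
    have hcard : Nat.card ↥N' ≤ 4 := by
      refine le_trans (Nat.card_le_card_of_injective (β := {a : Equiv.Perm (Fin 4) //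
        a ∈ [1, Equiv.swap 0 1 * Equiv.swap 2 3, Equiv.swap 0 2 * Equiv.swap 1 3,
          Equiv.swap 0 3 * Equiv.swap 1 2]}) (fun v => ⟨e v, hmapN v v.2⟩) fun a b h' =>
        Subtype.ext (e.injective (congrArg Subtype.val h'))) ?_
      rw [Nat.card_eq_fintype_card]
      decide
    rw [hN', Nat.card_congr (subgroupOfEquivOfLe hNle).toEquiv, Nat.card_congr (subgroupOfEquivOfLe hNH).toEquiv]
      at hcard
    have hWN : W ≤ N := hN ▸ le_inf hWleR le_normalizer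
    rwa [eq_of_le_of_card_ge hWN (by rw [hW, h4]; exact hcard)]
  rw [hR'eq, normalizer_subgroupOf_eq hRH, hRW, hWn]

/-- The two traces. -/
theorem Pair.odd_conclusion (p : Pair T K₁ L₁ K₂ L₂ z) {H : Subgroup G}
    (hH : H = closure {g : G | Odd (orderOf g)}) :
    ∃ M₁ M₂ : Subgroup H, M₁ ≠ M₂ ∧ IsMaximalTwoLocal M₁ ∧ IsMaximalTwoLocal M₂ ∧
      Nonempty (M₁ ≃* Equiv.Perm (Fin 4)) ∧ Nonempty (M₂ ≃* Equiv.Perm (Fin 4)) ∧ Nat.card ↥(M₁ ⊓ M₂) = 8 := by
  obtain ⟨hDH, hTD, he₁⟩ := p.inter_odd hH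
  obtain ⟨-, -, he₂⟩ := p.symm.inter_odd hH
  refine ⟨L₁.subgroupOf H, L₂.subgroupOf H, fun e => p.ne fun k hk => ?_, p.maximal_odd hH, p.symm.maximal_odd hH,
    he₁, he₂, ?_⟩
  · have hkH : k ∈ H := by
      have := p.f₂.good.comp.1
      rw [← this] at hk
      rw [hH]
      exact closure_mono (fun x hx => hx.2) hk
    exact (e.ge (show (⟨k, hkH⟩ : ↥H) ∈ L₂.subgroupOf H from p.f₂.good.le hk) : (⟨k, hkH⟩ : ↥H) ∈ L₁.subgroupOf H)
  have hinf : L₁ ⊓ L₂ = T := by rw [p.f₁.eq, p.f₂.eq]; exact p.f₁.good.inf_eq p.f₂.good p.ne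
  have heq : L₁.subgroupOf H ⊓ L₂.subgroupOf H = (wOf K₁ ⊔ wOf K₂).subgroupOf H := by
    ext x
    rw [mem_inf, mem_subgroupOf, mem_subgroupOf, mem_subgroupOf, ← mem_inf, hinf]
    exact ⟨fun hx => hTD _ hx x.2, fun hx => p.D_le hx⟩
  rw [heq, Nat.card_congr (subgroupOfEquivOfLe hDH).toEquiv, p.D_card]

end

end Cfsg.Agent.Invol.JComp
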