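import Mathlib
import Cfsg.Agent.Lib.Fus.ZJTheorem
import Cfsg.Agent.Lib.Fus.ZJFunctor
import Cfsg.Agent.Lib.Grp.Real
import Cfsg.Agent.Lib.Grp.QuotientNormalizer

/-!
Subgroups without a nontrivial `q`-element conjugate to its inverse, and transport of `Z(J(R))`
along homomorphisms injective on `R`.
-/

set_option autoImplicit false
set_option linter.style.haveILetI false
set_option linter.unusedSectionVars false

open scoped Pointwise

namespace Cfsg.Agent.Invol.RealFree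

open Subgroup

universe u v

variable {G : Type u} [Group G] {G' : Type v} [Group G'] {q : ℕ}

/-- An element of `q`-power order. -/
def IsPElem (q : ℕ) (x : G) : Prop := ∃ k : ℕ, x ^ q ^ k = 1

/-- No nontrivial `q`-element of `H` is inverted by an element of `H`. -/
def RFOn (q : ℕ) (H : Subgroup G) : Prop :=
  ∀ x ∈ H, ∀ g ∈ H, IsPElem q x → g * x * g⁻¹ = x⁻¹ → x = 1

theorem IsPElem.map {x : G} (h : IsPElem q x) (f : G →* G') : IsPElem q (f x) := by
  obtain ⟨k, hk⟩ := h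
  exact ⟨k, by rw [← map_pow, hk, map_one]⟩

theorem IsPElem.of_map {f : G →* G'} (hker : IsPGroup q f.ker) {x : G} (h : IsPElem q (f x)) :
    IsPElem q x := by
  obtain ⟨k, hk⟩ := h
  obtain ⟨j, hj⟩ := hker ⟨x ^ q ^ k, by rw [MonoidHom.mem_ker, map_pow, hk]⟩
  refine ⟨k + j, ?_⟩
  rw [pow_add, pow_mul]
  exact congrArg Subtype.val hj

theorem isPElem_of_mem {P : Subgroup G} (hP : IsPGroup q P) {x : G} (hx : x ∈ P) :
    IsPElem q x := by
  obtain ⟨k, hk⟩ := hP ⟨x, hx⟩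
  exact ⟨k, congrArg Subtype.val hk⟩

theorem IsPElem.isPGroup_zpowers {x : G} (h : IsPElem q x) : IsPGroup q (zpowers x) := by
  obtain ⟨k, hk⟩ := h
  rintro ⟨_, n, rfl⟩
  exact ⟨k, Subtype.ext (by
    show (x ^ n) ^ q ^ k = 1
    rw [← zpow_natCast, ← zpow_mul, mul_comm, zpow_mul, zpow_natCast, hk, one_zpow])⟩

theorem IsPElem.eq_one_of_inv [hq : Fact q.Prime] (hq2 : q ≠ 2) {x : G} (h : IsPElem q x)
    (hx : x = x⁻¹) : x = 1 := by
  obtain ⟨k, hk⟩ := h
  exact Grp.eq_one_of_odd_of_sq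
    (((hq.out.odd_of_ne_two hq2).pow).of_dvd_nat (orderOf_dvd_of_pow_eq_one hk))
    (eq_inv_iff_mul_eq_one.1 hx)

theorem IsPElem.eq_one_of_pow {x : G} (h : IsPElem q x) {m : ℕ} (hm : m.Coprime q)
    (hxm : x ^ m = 1) : x = 1 := by
  obtain ⟨k, hk⟩ := h
  have h1 : orderOf x ∣ Nat.gcd m (q ^ k) :=
    Nat.dvd_gcd (orderOf_dvd_of_pow_eq_one hxm) (orderOf_dvd_of_pow_eq_one hk)
  rw [(hm.pow_right k).gcd_eq_one, Nat.dvd_one, orderOf_eq_one_iff] at h1
  exact h1

/-- A power prime to `q` has `q`-power order. -/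
theorem exists_coprime_isPElem [Finite G] [hq : Fact q.Prime] (x : G) :
    ∃ m : ℕ, m.Coprime q ∧ IsPElem q (x ^ m) := by
  obtain ⟨k, m, hm, hkm⟩ :=
    Nat.exists_eq_pow_mul_and_not_dvd (orderOf_pos x).ne' q hq.out.ne_one
  exact ⟨m, (hq.out.coprime_iff_not_dvd.2 hm).symm, k, by
    rw [← pow_mul, mul_comm m, ← hkm, pow_orderOf_eq_one]⟩

theorem inv_of_odd_pow {g x : G} (h : g * x * g⁻¹ = x⁻¹) {m : ℕ} (hm : Odd m) :
    g ^ m * x * (g ^ m)⁻¹ = x⁻¹ := by
  obtain ⟨j, rfl⟩ := hm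
  have hc : Commute ((g * g) ^ j) x :=
    Commute.pow_left (mul_inv_eq_iff_eq_mul.1 (Grp.conj_sq_of_inv h)) j
  have e : g ^ (2 * j + 1) = g * (g * g) ^ j := by rw [← sq, ← pow_mul, ← pow_succ']
  rw [e, show g * (g * g) ^ j * x * (g * (g * g) ^ j)⁻¹ =
    g * ((g * g) ^ j * x * ((g * g) ^ j)⁻¹) * g⁻¹ by group, hc.eq, mul_inv_cancel_right, h]

theorem inv_pow_of_inv {g x : G} (h : g * x * g⁻¹ = x⁻¹) (m : ℕ) :
    g * x ^ m * g⁻¹ = (x ^ m)⁻¹ := by
  rw [← conj_pow, h, inv_pow]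

theorem RFOn.mono {H K : Subgroup G} (h : RFOn q K) (hle : H ≤ K) : RFOn q H :=
  fun x hx g hg => h x (hle hx) g (hle hg)

theorem rfOn_map_iff (f : G →* G') (hf : Function.Injective f) (H : Subgroup G) :
    RFOn q (H.map f) ↔ RFOn q H := by
  constructor
  · intro h x hx g hg hxp hgx
    refine hf ?_
    rw [map_one]
    exact h _ (mem_map_of_mem f hx) _ (mem_map_of_mem f hg) (hxp.map f) (by
      rw [← map_inv, ← map_mul, ← map_mul, hgx, map_inv])
  · rintro h _ ⟨x, hx, rfl⟩ _ ⟨g, hg, rfl⟩ ⟨k, hk⟩ hgx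
    rw [h x hx g hg ⟨k, hf (by rw [map_pow, hk, map_one])⟩
      (hf (by rw [map_mul, map_mul, map_inv, map_inv, hgx])), map_one]

theorem exists_inverted {H : Subgroup G} (h : ¬ RFOn q H) :
    ∃ x ∈ H, ∃ g ∈ H, IsPElem q x ∧ g * x * g⁻¹ = x⁻¹ ∧ x ≠ 1 := by
  unfold RFOn at h
  push Not at h
  obtain ⟨x, hx, g, hg, h1, h2, h3⟩ := h
  exact ⟨x, hx, g, hg, h1, h2, h3⟩

/-- The inverting element may be taken of `2`-power order. -/
theorem exists_inverted_two [Finite G] {H : Subgroup G} (h : ¬ RFOn q H) :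
    ∃ x ∈ H, ∃ g ∈ H, IsPElem q x ∧ IsPElem 2 g ∧ g * x * g⁻¹ = x⁻¹ ∧ x ≠ 1 := by
  obtain ⟨x, hx, g, hg, h1, h2, h3⟩ := exists_inverted h
  obtain ⟨m, hm, hgm⟩ := exists_coprime_isPElem (q := 2) g
  exact ⟨x, hx, g ^ m, pow_mem hg m, h1, hgm,
    inv_of_odd_pow h2 (Nat.coprime_two_right.1 hm), h3⟩

/-- A `2`-element moving an element of a `q`-subgroup which it normalises inverts some nontrivial
element of that subgroup, up to taking a power. -/
theorem not_rfOn_of_two {H P : Subgroup G} (hP : IsPGroup q P) (hPH : P ≤ H) {t : G} (ht : t ∈ H)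
    (ht2 : IsPElem 2 t) (htP : ∀ v ∈ P, t * v * t⁻¹ ∈ P) {u : G} (hu : u ∈ P)
    (hne : t * u * t⁻¹ ≠ u) : ¬ RFOn q H := by
  obtain ⟨k, hk⟩ := ht2
  induction k generalizing t u with
  | zero =>
    rw [pow_zero, pow_one] at hk
    rw [hk] at hne
    simp at hne
  | succ k ih =>
    by_cases h2 : t ^ 2 * u * (t ^ 2)⁻¹ = u
    · intro hrf
      set v := u⁻¹ * (t * u * t⁻¹) with hv
      have hvP : v ∈ P := mul_mem (inv_mem hu) (htP u hu)
      have hinv : t * v * t⁻¹ = v⁻¹ := by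
        rw [hv, show t * (u⁻¹ * (t * u * t⁻¹)) * t⁻¹ =
          (t * u * t⁻¹)⁻¹ * (t ^ 2 * u * (t ^ 2)⁻¹) by rw [sq]; group, h2]
        group
      exact hne (inv_mul_eq_one.1 (hrf v (hPH hvP) t ht (isPElem_of_mem hP hvP) hinv)).symm
    · refine ih (t := t ^ 2) (pow_mem ht 2) (fun v hv => ?_) hu h2 ?_
      · rw [sq, show t * t * v * (t * t)⁻¹ = t * (t * v * t⁻¹) * t⁻¹ by group]
        exact htP _ (htP v hv)
      · rw [← pow_mul, ← pow_succ']
        exact hk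

/-- An inverted element of the quotient by a normal subgroup of order prime to `q` lifts. -/
theorem not_rfOn_of_map_coprime [Finite G] [hq : Fact q.Prime] (f : G →* G')
    (hker : (Nat.card f.ker).Coprime q) (H : Subgroup G) (h : ¬ RFOn q (H.map f)) : ¬ RFOn q H := by
  obtain ⟨_, ⟨x₀, hx₀, rfl⟩, _, ⟨g₀, hg₀, rfl⟩, hxp, hinv, hne⟩ := exists_inverted h
  obtain ⟨m, hm, hxm⟩ := exists_coprime_isPElem (q := q) (⟨x₀, hx₀⟩ : H)
  set x : H := (⟨x₀, hx₀⟩ : H) ^ m
  set g : H := ⟨g₀, hg₀⟩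
  set φ : H →* G' := f.comp H.subtype with hφ
  have hφx : φ x = f x₀ ^ m := map_pow φ _ m
  have hfinv : φ g * φ x * (φ g)⁻¹ = (φ x)⁻¹ := by
    rw [hφx]; exact inv_pow_of_inv hinv m
  have hxne : φ x ≠ 1 := hφx ▸ fun e => hne (hxp.eq_one_of_pow hm e)
  set B := zpowers x
  have hBp : IsPGroup q B := hxm.isPGroup_zpowers
  have hkcop : (Nat.card φ.ker).Coprime q := by
    refine Nat.Coprime.coprime_dvd_left ?_ hker
    rw [show φ.ker = f.ker.subgroupOf H from (MonoidHom.comap_ker f H.subtype).symm]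
    rw [← Subgroup.card_map_of_injective H.subtype_injective, Subgroup.subgroupOf_map_subtype]
    exact Subgroup.card_dvd_of_le inf_le_left
  have hcop : (Nat.card φ.ker).Coprime (Nat.card B) := by
    obtain ⟨j, hj⟩ := hBp.exists_card_eq
    exact hj ▸ hkcop.pow_right j
  set π := QuotientGroup.mk' φ.ker
  have hπ : π g * π x * (π g)⁻¹ = (π x)⁻¹ := by
    rw [← map_inv, ← map_mul, ← map_mul, ← map_inv]
    refine QuotientGroup.eq.2 ?_
    rw [MonoidHom.mem_ker, map_mul, map_inv, map_mul, map_mul, map_inv, hfinv, map_inv,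
      inv_inv, mul_inv_cancel]
  have hgN : π g ∈ Subgroup.normalizer ((B.map π : Subgroup (H ⧸ φ.ker)) : Set (H ⧸ φ.ker)) := by
    rw [Grp.mem_normalizer_iff_smul, ← Grp.map_conj_eq_smul, MonoidHom.map_zpowers,
      MonoidHom.map_zpowers]
    simp only [MulEquiv.coe_toMonoidHom, MulAut.conj_apply]
    rw [hπ, Subgroup.zpowers_inv]
  obtain ⟨n, hn, hne'⟩ := Grp.QuotNorm.exists_normalizer_lift φ.ker B hcop
    (Or.inr (by haveI := hBp.isNilpotent; infer_instance)) hgN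
  have hφn : φ n = φ g := by
    have h1 := QuotientGroup.eq.1 hne'
    rw [MonoidHom.mem_ker, map_mul, map_inv, inv_mul_eq_one] at h1
    exact h1
  have hmem : n * x * n⁻¹ * x ∈ φ.ker ⊓ B := ⟨by
      show φ _ = 1
      rw [map_mul, map_mul, map_mul, map_inv, hφn, hfinv, inv_mul_cancel],
    mul_mem ((Subgroup.mem_normalizer_iff.1 hn x).1 (mem_zpowers x)) (mem_zpowers x)⟩
  rw [Grp.inf_eq_bot_of_coprime hcop, Subgroup.mem_bot] at hmem
  intro hrf
  have hx1 := hrf (x : G) x.2 (n : G) n.2 (hxm.map H.subtype)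
    (congrArg Subtype.val (eq_inv_of_mul_eq_one_left hmem))
  exact hxne (by rw [show x = 1 from Subtype.ext hx1, map_one])

section ZJ

variable {R A : Subgroup G}

theorem card_map_of_injOn (f : G →* G') (h : A ≤ R) (hf : Set.InjOn f R) :
    Nat.card (A.map f) = Nat.card A :=
  Nat.card_image_of_injOn (hf.mono fun _ hx => h hx)

theorem map_comap_inf (f : G →* G') {B : Subgroup G'} (hB : B ≤ R.map f) :
    (B.comap f ⊓ R).map f = B := by
  refine le_antisymm ?_ fun y hy => ?_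
  · rintro _ ⟨x, hx, rfl⟩
    exact hx.1
  · obtain ⟨x, hx, rfl⟩ := hB hy
    exact ⟨x, ⟨hy, hx⟩, rfl⟩

theorem comap_inf_comm (f : G →* G') (hf : Set.InjOn f R) {B : Subgroup G'}
    (hc : ∀ a ∈ B, ∀ b ∈ B, a * b = b * a) :
    ∀ a ∈ B.comap f ⊓ R, ∀ b ∈ B.comap f ⊓ R, a * b = b * a := fun a ha b hb =>
  hf (mul_mem ha.2 hb.2) (mul_mem hb.2 ha.2) (by rw [map_mul, map_mul, hc _ ha.1 _ hb.1])

theorem isMaxAb_map (f : G →* G') (hf : Set.InjOn f R) (h : Fus.IsMaxAb R A) :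
    Fus.IsMaxAb (R.map f) (A.map f) := by
  refine ⟨Subgroup.map_mono h.1, ?_, fun B hB hc => ?_⟩
  · rintro _ ⟨a, ha, rfl⟩ _ ⟨b, hb, rfl⟩
    rw [← map_mul, h.2.1 a ha b hb, map_mul]
  · rw [← map_comap_inf f hB, card_map_of_injOn f inf_le_right hf, card_map_of_injOn f h.1 hf]
    exact h.2.2 _ inf_le_right (comap_inf_comm f hf hc)

theorem thompsonA_map (f : G →* G') (hf : Set.InjOn f R) :
    thompsonSubgroupAOf (R.map f) = (thompsonSubgroupAOf R).map f := by
  refine le_antisymm (Fus.thompsonA_le_of fun B hB => ?_) (Subgroup.map_le_iff_le_comap.2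
    (Fus.thompsonA_le_of fun A hA => Subgroup.map_le_iff_le_comap.1
      (isMaxAb_map f hf hA).le_thompsonA))
  rw [← map_comap_inf f hB.1]
  refine Subgroup.map_mono (Fus.IsMaxAb.le_thompsonA ⟨inf_le_right,
    comap_inf_comm f hf hB.2.1, fun A hA hc => ?_⟩)
  rw [← card_map_of_injOn f inf_le_right hf, map_comap_inf f hB.1, ← card_map_of_injOn f hA hf]
  refine hB.2.2 _ (Subgroup.map_mono hA) ?_
  rintro _ ⟨a, ha, rfl⟩ _ ⟨b, hb, rfl⟩
  rw [← map_mul, hc a ha b hb, map_mul]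

theorem centerThompsonA_map (f : G →* G') (hf : Set.InjOn f R) :
    centerThompsonAOf (R.map f) = (centerThompsonAOf R).map f := by
  have hJR := Fus.thompsonA_le R
  refine le_antisymm (fun y hy => ?_) ?_
  · obtain ⟨x, hx, rfl⟩ : y ∈ (thompsonSubgroupAOf R).map f := thompsonA_map f hf ▸ hy.1
    refine ⟨x, ⟨hx, Fus.mem_centralizer_iff_commute.2 fun j hj => ?_⟩, rfl⟩
    refine hf (mul_mem (hJR hj) (hJR hx)) (mul_mem (hJR hx) (hJR hj)) ?_
    rw [map_mul, map_mul]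
    exact Fus.mem_centralizer_iff_commute.1 hy.2 _
      (thompsonA_map f hf ▸ Subgroup.mem_map_of_mem f hj)
  · rintro _ ⟨x, hx, rfl⟩
    refine ⟨thompsonA_map f hf ▸ Subgroup.mem_map_of_mem f hx.1,
      Fus.mem_centralizer_iff_commute.2 fun y hy => ?_⟩
    obtain ⟨j, hj, rfl⟩ : y ∈ (thompsonSubgroupAOf R).map f := thompsonA_map f hf ▸ hy
    rw [← map_mul, Fus.mem_centralizer_iff_commute.1 hx.2 j hj, map_mul]

theorem centerThompsonA_le (R : Subgroup G) : centerThompsonAOf R ≤ R :=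
  inf_le_left.trans (Fus.thompsonA_le R)

theorem centerThompsonA_comm (R : Subgroup G) :
    ∀ x ∈ centerThompsonAOf R, ∀ y ∈ centerThompsonAOf R, x * y = y * x :=
  fun x hx _ hy => Fus.mem_centralizer_iff_commute.1 hy.2 x hx.1

theorem centerThompsonA_ne_bot [Finite G] [Fact q.Prime] (hR : IsPGroup q R) (h : R ≠ ⊥) :
    centerThompsonAOf R ≠ ⊥ := by
  haveI : Nontrivial R := (Subgroup.nontrivial_iff_ne_bot R).2 h
  rw [Fus.centerThompsonAOf_eq_map]
  intro e
  refine Fus.zjW_ne_bot (p := q) hR (Subgroup.map_injective R.subtype_injective ?_)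
  rw [e, Subgroup.map_bot]

theorem normalizer_le_normalizer_zj (R : Subgroup G) :
    Subgroup.normalizer (R : Set G) ≤
      Subgroup.normalizer (centerThompsonAOf R : Set G) := fun g hg => by
  refine Fus.mem_normalizer_of_forall (fun x hx => Fus.conj_mem_centerThompsonA hg hx)
    fun x hx => ?_
  simpa using Fus.conj_mem_centerThompsonA (inv_mem hg) hx

theorem exists_isMaxAb [Finite G] (R : Subgroup G) : ∃ A, Fus.IsMaxAb R A := by
  obtain ⟨A, ⟨h1, h2⟩, h3⟩ := Set.exists_max_image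
    {A : Subgroup G | A ≤ R ∧ ∀ x ∈ A, ∀ y ∈ A, x * y = y * x}
    (fun H : Subgroup G => Nat.card H) (Set.toFinite _)
    ⟨⊥, bot_le, fun x hx y hy => by rw [Subgroup.mem_bot] at hx hy; rw [hx, hy]⟩
  exact ⟨A, h1, h2, fun B hB hc => h3 B ⟨hB, hc⟩⟩

/-- The normalizers of `Z(J(T))` of two Sylow subgroups are isomorphic by conjugation. -/
theorem rfOn_normalizer_zj_congr [Finite G] [Fact q.Prime] (S T : Sylow q G)
    (h : RFOn q (Subgroup.normalizer (centerThompsonAOf (T : Subgroup G) : Set G))) :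
    RFOn q (Subgroup.normalizer (centerThompsonAOf (S : Subgroup G) : Set G)) := by
  obtain ⟨g, rfl⟩ := MulAction.exists_smul_eq G T S
  set e := MulAut.conj g
  have h1 : ((g • T : Sylow q G) : Subgroup G) = (T : Subgroup G).map e.toMonoidHom := by
    rw [Grp.map_conj_eq_smul]; rfl
  rw [h1, centerThompsonA_map _ e.injective.injOn, ← Subgroup.map_equiv_normalizer_eq,
    rfOn_map_iff e.toMonoidHom e.injective]
  exact h

end ZJ

end Cfsg.Agent.Invol.RealFree
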