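import Mathlib
import Cfsg.Agent.Lib.Grp.Coprime
import Cfsg.Agent.Lib.Transfer.Residual
import Cfsg.Agent.Lib.Invol.SFour

/-!
Elements of order three inverted by 2-elements: lifting, and the section `S₄`.
-/

set_option autoImplicit false
set_option linter.style.haveILetI false

namespace Cfsg.Agent.Invol

open scoped Pointwise

universe u v

/-- An element of order three inverted by a 2-element. -/
def HasInvertedThree (H : Type u) [Group H] : Prop :=
  ∃ t r : H, (∃ k : ℕ, t ^ 2 ^ k = 1) ∧ r ^ 3 = 1 ∧ r ≠ 1 ∧ t * r * t⁻¹ = r⁻¹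

theorem HasInvertedThree.of_subgroup {H : Type u} [Group H] {J : Subgroup H}
    (h : HasInvertedThree J) : HasInvertedThree H := by
  obtain ⟨t, r, ⟨k, hk⟩, h3, h1, hi⟩ := h
  exact ⟨t, r, ⟨k, congrArg Subtype.val hk⟩, congrArg Subtype.val h3,
    fun e => h1 (Subtype.ext e), congrArg Subtype.val hi⟩

/-- Inverted elements of order three lift through 2-kernels. -/
theorem HasInvertedThree.lift {H : Type u} [Group H] [Finite H] {K : Type v} [Group K]
    (f : H →* K) (hker : IsPGroup 2 f.ker) {a b : H} (h3 : f b ^ 3 = 1) (h1 : f b ≠ 1)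
    (hinv : f a * f b * (f a)⁻¹ = (f b)⁻¹) : HasInvertedThree H := by
  haveI h33 : Fact (Nat.Prime 3) := ⟨by norm_num⟩
  haveI h22 : Fact (Nat.Prime 2) := ⟨Nat.prime_two⟩
  obtain ⟨e, he⟩ := IsPGroup.iff_card.mp hker
  set r := b ^ 2 ^ e with hr
  have hr3 : r ^ 3 = 1 := by
    have hb : b ^ 3 ∈ f.ker := by rw [MonoidHom.mem_ker, map_pow, h3]
    have h2 : (⟨_, hb⟩ : f.ker) ^ Nat.card f.ker = 1 := pow_card_eq_one'
    rw [he] at h2
    rw [hr, ← pow_mul, mul_comm, pow_mul]
    exact congrArg Subtype.val h2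
  have hord : orderOf (f b) = 3 := orderOf_eq_prime h3 h1
  have hcop : (2 ^ e : ℕ).Coprime (orderOf (f b)) := by
    rw [hord]; exact ((by norm_num : (2 : ℕ).Coprime 3)).pow_left e
  have hfr : Subgroup.zpowers (f r) = Subgroup.zpowers (f b) := by
    refine le_antisymm (Subgroup.zpowers_le.mpr (by
      rw [hr, map_pow]; exact pow_mem (Subgroup.mem_zpowers _) _)) ?_
    obtain ⟨j, hj⟩ := exists_pow_eq_self_of_coprime (x := f b) (n := 2 ^ e) hcop
    refine Subgroup.zpowers_le.mpr ?_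
    rw [← hj, ← map_pow, ← hr]
    exact pow_mem (Subgroup.mem_zpowers _) j
  have hfr1 : f r ≠ 1 := fun h => by
    rw [h, Subgroup.zpowers_one_eq_bot] at hfr
    exact h1 (Subgroup.zpowers_eq_bot.mp hfr.symm)
  have hr1 : r ≠ 1 := fun h => hfr1 (by rw [h, map_one])
  set L := (Subgroup.zpowers (f b)).comap f with hL
  have hrL : Subgroup.zpowers r ≤ L := by
    rw [Subgroup.zpowers_le, hL, Subgroup.mem_comap, ← hfr]
    exact Subgroup.mem_zpowers _
  have hLe : L = Subgroup.zpowers r ⊔ f.ker := by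
    rw [← Subgroup.comap_map_eq, MonoidHom.map_zpowers, hfr, hL]
  have hsyl : Grp.IsSylowIn 3 (Subgroup.zpowers r) L := by
    refine ⟨hrL, IsPGroup.of_card (n := 1) (by
      rw [Nat.card_zpowers, pow_one, orderOf_eq_prime hr3 hr1]), fun hd3 => ?_⟩
    have h2 := Grp.card_sup_dvd_mul (H := Subgroup.zpowers r) (N := f.ker)
      (by rw [Subgroup.normalizer_eq_top]; exact le_top)
    rw [← hLe, ← Grp.card_mul_relIndex hrL] at h2
    have h4 := hd3.trans (Nat.dvd_of_mul_dvd_mul_left Nat.card_pos h2)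
    rw [he] at h4
    have := (Nat.prime_dvd_prime_iff_eq (by norm_num) Nat.prime_two).mp
      ((by norm_num : Nat.Prime 3).dvd_of_dvd_pow h4)
    omega
  have haL : MulAut.conj a • L = L := by
    rw [← Grp.mem_normalizer_iff_smul, Grp.mem_normalizer_of_map_eq]
    refine Subgroup.eq_of_le_of_card_ge ?_ ?_
    · rintro _ ⟨l, hl, rfl⟩
      obtain ⟨i, hi⟩ := Subgroup.mem_zpowers_iff.mp (show f l ∈ Subgroup.zpowers (f b) from hl)
      show f (a * l * a⁻¹) ∈ Subgroup.zpowers (f b)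
      rw [map_mul, map_mul, map_inv, ← hi, ← conj_zpow, hinv]
      exact zpow_mem (inv_mem (Subgroup.mem_zpowers _)) i
    · exact (Subgroup.card_map_of_injective (f := (MulAut.conj a).toMonoidHom)
        (MulAut.conj a).injective).ge
  obtain ⟨l, hl, hle⟩ := hsyl.conj (hsyl.smul haL)
  set y := l⁻¹ * a with hy
  have hyn : y ∈ Subgroup.normalizer (Subgroup.zpowers r : Set H) := by
    rw [Grp.mem_normalizer_iff_smul, hy, map_mul, mul_smul, ← hle, smul_smul, ← map_mul,
      inv_mul_cancel, map_one, one_smul]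
  obtain ⟨i, hi⟩ := Subgroup.mem_zpowers_iff.mp
    ((Subgroup.mem_normalizer_iff.mp hyn r).mp (Subgroup.mem_zpowers r))
  have hyr : y * r * y⁻¹ = r⁻¹ := by
    obtain ⟨j, hj⟩ := Subgroup.mem_zpowers_iff.mp (show f l ∈ Subgroup.zpowers (f b) from hl)
    obtain ⟨q, hq⟩ := Subgroup.mem_zpowers_iff.mp (hfr.le (Subgroup.mem_zpowers (f r)))
    have hfy : f (y * r * y⁻¹) = (f r)⁻¹ := by
      rw [map_mul, map_mul, map_inv, hy, map_mul, map_inv, ← hj, ← hq]
      calc ((f b ^ j)⁻¹ * f a) * f b ^ q * ((f b ^ j)⁻¹ * f a)⁻¹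
          = (f b ^ j)⁻¹ * (f a * f b ^ q * (f a)⁻¹) * f b ^ j := by group
        _ = (f b ^ q)⁻¹ := by rw [← conj_zpow, hinv, inv_zpow]; group
    rw [← hi] at hfy ⊢
    rw [map_zpow, ← zpow_neg_one] at hfy
    have h5 : ((orderOf (f r) : ℕ) : ℤ) ∣ i - (-1) := by
      rw [orderOf_dvd_iff_zpow_eq_one, zpow_sub, hfy, mul_inv_cancel]
    rw [← zpow_neg_one r, ← mul_inv_eq_one, ← zpow_sub, ← orderOf_dvd_iff_zpow_eq_one,
      orderOf_eq_prime hr3 hr1]
    have hfr3 : orderOf (f r) = 3 := orderOf_eq_prime (by rw [← map_pow, hr3, map_one]) hfr1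
    rwa [hfr3] at h5
  -- the 2-part
  set m := orderOf y / 2 ^ (orderOf y).factorization 2 with hm
  have hmodd : ¬ 2 ∣ m := Nat.not_dvd_ordCompl Nat.prime_two (orderOf_pos y).ne'
  refine ⟨y ^ m, r, ⟨(orderOf y).factorization 2, ?_⟩, hr3, hr1, ?_⟩
  · rw [← pow_mul, hm, Nat.div_mul_cancel (Nat.ordProj_dvd _ _), pow_orderOf_eq_one]
  · obtain ⟨k, hk⟩ : Odd m := Nat.not_even_iff_odd.mp fun h => hmodd h.two_dvd
    have hpow : ∀ n : ℕ, y ^ (2 * n) * r * (y ^ (2 * n))⁻¹ = r := by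
      intro n
      induction n with
      | zero => simp
      | succ n ih =>
        have e : y ^ (2 * (n + 1)) * r * (y ^ (2 * (n + 1)))⁻¹ =
            y * (y * (y ^ (2 * n) * r * (y ^ (2 * n))⁻¹) * y⁻¹) * y⁻¹ := by
          rw [show 2 * (n + 1) = 2 * n + 1 + 1 by omega, pow_succ', pow_succ']; group
        rw [e, ih, hyr]
        have : y * r⁻¹ * y⁻¹ = (y * r * y⁻¹)⁻¹ := by group
        rw [this, hyr, inv_inv]
    rw [hk, pow_succ']
    calc y * y ^ (2 * k) * r * (y * y ^ (2 * k))⁻¹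
        = y * (y ^ (2 * k) * r * (y ^ (2 * k))⁻¹) * y⁻¹ := by group
      _ = r⁻¹ := by rw [hpow, hyr]

/-- A subgroup of order three inverted by a 2-element and acting on an elementary abelian 2-group
gives the section `S₄`. -/
theorem isSectionOf_perm_four_of_inverted {X : Type u} [Group X] [Finite X] (V : Subgroup X)
    [V.Normal] (hcomm : ∀ a ∈ V, ∀ b ∈ V, a * b = b * a) (h2 : ∀ a ∈ V, a ^ 2 = 1) {t r : X}
    (ht : ∃ k : ℕ, t ^ 2 ^ k = 1) (hr : r ^ 3 = 1) (hinv : t * r * t⁻¹ = r⁻¹)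
    (hne : ∃ v ∈ V, r * v ≠ v * r) : IsSectionOf (Equiv.Perm (Fin 4)) X := by
  haveI : IsMulCommutative V := ⟨⟨fun a b => Subtype.ext (hcomm _ a.2 _ b.2)⟩⟩
  letI : CommGroup V := IsMulCommutative.instCommGroup
  haveI h22 : Fact (Nat.Prime 2) := ⟨Nat.prime_two⟩
  have hVp : IsPGroup 2 V := fun a => ⟨1, Subtype.ext (by simpa using h2 a a.2)⟩
  let β : X →* MulAut V := MulAut.conjNormal
  have hβ : ∀ (g : X) (v : V), ((β g v : V) : X) = g * v * g⁻¹ := fun g v => MulAut.conjNormal_apply g v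
  set z := β r with hz
  have hz3 : z ^ 3 = 1 := by rw [hz, ← map_pow, hr, map_one]
  set R := (autDiff z).range with hR
  have hfree : ∀ u ∈ R, z u = u → u = 1 := by
    rintro _ ⟨v, rfl⟩ hu
    set w := autDiff z v with hw
    have hzv : z v = v * w := by rw [hw, autDiff_apply, mul_div_cancel]
    have hn : ∀ n : ℕ, (z ^ n) v = v * w ^ n := by
      intro n
      induction n with
      | zero => simp
      | succ n ih =>
        rw [pow_succ', MulAut.mul_apply, ih, map_mul, map_pow, hu, hzv, pow_succ', mul_assoc]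
    have h := hn 3
    rw [hz3, MulAut.one_apply, eq_comm, mul_eq_left] at h
    have hsq : w ^ 2 = 1 := Subtype.ext (by rw [SubmonoidClass.coe_pow]; exact h2 _ w.2)
    rwa [pow_succ, hsq, one_mul] at h
  have hzR : ∀ u ∈ R, z u ∈ R := autDiff_invariant (Commute.refl z)
  have htR : ∀ u ∈ R, β t u ∈ R := by
    rintro _ ⟨v, rfl⟩
    have hc : β t * z = z⁻¹ * β t := by
      rw [hz, ← map_inv, ← map_mul, ← map_mul, ← hinv, inv_mul_cancel_right]
    refine ⟨(z⁻¹) (β t v)⁻¹, ?_⟩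
    have hc' : β t (z v) = (z⁻¹) (β t v) := DFunLike.congr_fun hc v
    rw [autDiff_apply, autDiff_apply, map_div, hc', map_inv, map_inv, MulAut.apply_inv_self,
      inv_div_inv]
  have hR1 : R ≠ ⊥ := by
    obtain ⟨v, hv, hne⟩ := hne
    intro h
    have h1 : autDiff z ⟨v, hv⟩ ∈ R := ⟨_, rfl⟩
    rw [h, Subgroup.mem_bot, autDiff_apply, div_eq_one] at h1
    have h3 := congrArg Subtype.val h1
    rw [hz, hβ] at h3
    exact hne (mul_inv_eq_iff_eq_mul.mp h3)
  obtain ⟨k, hk⟩ := ht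
  have htp : IsPGroup 2 (Subgroup.zpowers (β t)) := by
    obtain ⟨i, -, hi⟩ := (Nat.dvd_prime_pow Nat.prime_two).mp
      (orderOf_dvd_of_pow_eq_one (show β t ^ 2 ^ k = 1 by rw [← map_pow, hk, map_one]))
    exact IsPGroup.of_card (n := i) (by rw [Nat.card_zpowers, hi])
  obtain ⟨u, huR, hu1, hufix⟩ := exists_fixed_ne_one hVp htp hR1 (fun f hf w hw => by
    obtain ⟨n, rfl⟩ := (mem_powers_iff_mem_zpowers (x := β t)).mpr hf
    dsimp only
    induction n with
    | zero => simpa using hw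
    | succ n ih =>
      rw [pow_succ', MulAut.mul_apply]
      exact htR _ (ih ⟨n, by simp⟩))
  have htu : β t u = u := hufix _ (Subgroup.mem_zpowers _)
  have hzu : z u ≠ u := fun h => hu1 (hfree u huR h)
  have hz3u : z (z (z u)) = u := by
    rw [← MulAut.mul_apply, ← MulAut.mul_apply, ← pow_three', hz3, MulAut.one_apply]
  have hprod : z (z u) = u * z u := by
    have h1 : u * z u * z (z u) = 1 := by
      refine hfree _ (mul_mem (mul_mem huR (hzR _ huR)) (hzR _ (hzR _ huR))) ?_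
      rw [map_mul, map_mul, hz3u, mul_comm, mul_assoc]
    have h2u : ∀ w : V, w⁻¹ = w := fun w => inv_eq_of_mul_eq_one_right
      (Subtype.ext (by rw [← pow_two, SubmonoidClass.coe_pow]; exact h2 _ w.2))
    rw [eq_comm, ← mul_inv_eq_one, h2u]
    exact h1
  -- the four-group
  set a : X := (u : X) with ha
  set b : X := ((z u : V) : X) with hb
  have hab : a * b = b * a := hcomm _ u.2 _ (z u).2
  have ha2 : a * a = 1 := by rw [← pow_two]; exact h2 _ u.2
  have hb2 : b * b = 1 := by rw [← pow_two]; exact h2 _ (z u).2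
  let U : Subgroup X :=
    { carrier := {1, a, b, a * b}
      mul_mem' := by
        intro x y hx hy
        simp only [Set.mem_insert_iff, Set.mem_singleton_iff] at hx hy ⊢
        have e1 : a * (a * b) = b := by rw [← mul_assoc, ha2, one_mul]
        have e2 : b * (a * b) = a := by rw [hab, ← mul_assoc, hb2, one_mul]
        have e3 : a * b * a = b := by rw [hab, mul_assoc, ha2, mul_one]
        have e4 : a * b * b = a := by rw [mul_assoc, hb2, mul_one]
        have e5 : a * b * (a * b) = 1 := by rw [mul_assoc, e2, ha2]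
        rcases hx with rfl | rfl | rfl | rfl <;> rcases hy with rfl | rfl | rfl | rfl <;>
          simp [ha2, hb2, e1, e2, e3, e4, e5, ← hab]
      one_mem' := by simp
      inv_mem' := by
        intro x hx
        simp only [Set.mem_insert_iff, Set.mem_singleton_iff] at hx ⊢
        rcases hx with rfl | rfl | rfl | rfl
        · simp
        · exact Or.inr (Or.inl (inv_eq_of_mul_eq_one_right ha2))
        · exact Or.inr (Or.inr (Or.inl (inv_eq_of_mul_eq_one_right hb2)))
        · refine Or.inr (Or.inr (Or.inr (inv_eq_of_mul_eq_one_right ?_)))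
          rw [mul_assoc, ← mul_assoc b, ← hab, mul_assoc, hb2, mul_one, ha2] }
  have hUmem : ∀ x, x ∈ U ↔ x = 1 ∨ x = a ∨ x = b ∨ x = a * b := fun x => Iff.rfl
  have ha1 : a ≠ 1 := fun h => hu1 (Subtype.ext h)
  have hb1 : b ≠ 1 := fun h => hu1 (z.injective ((Subtype.ext h : z u = 1).trans (map_one z).symm))
  have hab' : a ≠ b := fun h => hzu (Subtype.ext h).symm
  have hab1 : a * b ≠ 1 := fun h => hab' (mul_eq_one_iff_eq_inv.mp h |>.trans
    (inv_eq_of_mul_eq_one_right hb2))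
  have hUc : Nat.card U = 4 := by
    have : ((U : Set X)) = {1, a, b, a * b} := rfl
    classical
    rw [← SetLike.coe_sort_coe, Nat.card_coe_set_eq, this, Set.ncard_eq_toFinset_card']
    simp [Finset.card_insert_of_notMem, ha1.symm, hb1.symm, hab1.symm, hab', ha1, hb1]
  have hconj : ∀ g : X, g * a * g⁻¹ ∈ U → g * b * g⁻¹ ∈ U →
      g ∈ Subgroup.normalizer (U : Set X) := by
    intro g hga hgb
    rw [Grp.mem_normalizer_of_map_eq]
    refine Subgroup.eq_of_le_of_card_ge ?_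
      (Subgroup.card_map_of_injective (f := (MulAut.conj g).toMonoidHom) (MulAut.conj g).injective).ge
    rintro _ ⟨x, hx, rfl⟩
    show g * x * g⁻¹ ∈ U
    rcases (hUmem x).mp hx with rfl | rfl | rfl | rfl
    · simp
    · exact hga
    · exact hgb
    · rw [show g * (a * b) * g⁻¹ = (g * a * g⁻¹) * (g * b * g⁻¹) by group]
      exact U.mul_mem hga hgb
  have hra : r * a * r⁻¹ = b := (hβ r u).symm
  have hrb : r * b * r⁻¹ = a * b := by
    rw [hb, ← hβ r (z u), ← hz, hprod]; rfl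
  have hta : t * a * t⁻¹ = a := by rw [ha, ← hβ t u, htu]
  have hrab : r * (a * b) * r⁻¹ = a := by
    rw [show r * (a * b) * r⁻¹ = (r * a * r⁻¹) * (r * b * r⁻¹) by group, hra, hrb, ← mul_assoc,
      ← hab, mul_assoc, hb2, mul_one]
  have htb : t * b * t⁻¹ = a * b := by
    calc t * b * t⁻¹ = (t * r * t⁻¹) * (t * a * t⁻¹) * (t * r * t⁻¹)⁻¹ := by rw [← hra]; group
      _ = r⁻¹ * a * r := by rw [hinv, hta, inv_inv]
      _ = r⁻¹ * (r * (a * b) * r⁻¹) * r := by rw [hrab]
      _ = a * b := by group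
  have hmemb : b ∈ U := (hUmem b).mpr (Or.inr (Or.inr (Or.inl rfl)))
  have hmema : a ∈ U := (hUmem a).mpr (Or.inr (Or.inl rfl))
  have hmemab : a * b ∈ U := U.mul_mem hmema hmemb
  refine isSectionOf_perm_four U hUc hr (hconj r (hra ▸ hmemb) (hrb ▸ hmemab)) ?_ ?_
    (hconj t (hta.symm ▸ hmema) (htb ▸ hmemab)) ?_ ⟨b, hmemb, fun h => ?_⟩
  · intro x hx hfx
    rcases (hUmem x).mp hx with rfl | rfl | rfl | rfl
    · rfl
    · exact absurd (hfx.symm.trans hra) hab'
    · rw [hrb] at hfx; exact absurd (mul_eq_right.mp hfx) ha1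
    · rw [show r * (a * b) * r⁻¹ = (r * a * r⁻¹) * (r * b * r⁻¹) by group, hra, hrb, ← mul_assoc,
        ← hab, mul_assoc, hb2, mul_one] at hfx
      exact absurd (left_eq_mul.mp hfx) hb1
  · rw [Grp.mem_normalizer_of_map_eq, MonoidHom.map_zpowers]
    show Subgroup.zpowers (t * r * t⁻¹) = _
    rw [hinv, Subgroup.zpowers_inv]
  · intro x hx
    have ht2 : ∀ y : X, t * (t * y * t⁻¹) * t⁻¹ = t ^ 2 * y * (t ^ 2)⁻¹ := fun y => by
      rw [pow_two]; group
    rw [← mul_inv_eq_iff_eq_mul, ← ht2]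
    rcases (hUmem x).mp hx with rfl | rfl | rfl | rfl
    · simp
    · rw [hta, hta]
    · rw [htb, show t * (a * b) * t⁻¹ = (t * a * t⁻¹) * (t * b * t⁻¹) by group, hta, htb, ← mul_assoc a a b,
        ha2, one_mul]
    · rw [show t * (a * b) * t⁻¹ = (t * a * t⁻¹) * (t * b * t⁻¹) by group, hta, htb, ← mul_assoc a a b,
        ha2, one_mul, htb]
  · rw [← mul_inv_eq_iff_eq_mul, htb] at h
    exact ha1 (mul_eq_right.mp h)

end Cfsg.Agent.Invol
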