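import Mathlib
import Cfsg.Agent.Lib.Invol.LiftInverting
import Cfsg.Agent.Lib.Grp.Baer
import Cfsg.Agent.Lib.Grp.Cores

/-!
Offenders in groups with abelian Sylow 2-subgroups force an inverted element of order three.
-/

set_option autoImplicit false
set_option linter.style.haveILetI false

namespace Cfsg.Agent.Invol

open scoped Pointwise

universe u

variable {H : Type u} [Group H] {V : Type u} [CommGroup V]

/-- The common fixed points of `B`. -/
def fixOf (α : H →* MulAut V) (B : Subgroup H) : Subgroup V where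
  carrier := {v | ∀ b ∈ B, α b v = v}
  mul_mem' ha hb := fun f hf => by rw [map_mul, ha f hf, hb f hf]
  one_mem' := fun f _ => map_one (α f)
  inv_mem' ha := fun f hf => by rw [map_inv, ha f hf]

theorem mem_fixOf {α : H →* MulAut V} {B : Subgroup H} {v : V} :
    v ∈ fixOf α B ↔ ∀ b ∈ B, α b v = v := Iff.rfl

theorem fixOf_anti {α : H →* MulAut V} {B C : Subgroup H} (h : B ≤ C) :
    fixOf α C ≤ fixOf α B := fun _ hv b hb => hv b (h hb)

/-- The weight `|αB| · |C_V(B)|`. -/
noncomputable def offWeight (α : H →* MulAut V) (B : Subgroup H) : ℕ :=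
  Nat.card (B.map α) * Nat.card (fixOf α B)

/-- `B` is a best offender with nontrivial image. -/
def IsBest (α : H →* MulAut V) (B : Subgroup H) : Prop :=
  B.map α ≠ ⊥ ∧ Nat.card V ≤ offWeight α B ∧ ∀ B₁ : Subgroup H, B₁ ≤ B → offWeight α B₁ ≤ offWeight α B

theorem offWeight_of_trivial {α : H →* MulAut V} {B : Subgroup H} (h : B.map α = ⊥) :
    offWeight α B = Nat.card V := by
  have h1 : fixOf α B = ⊤ := eq_top_iff.2 fun v _ b hb => by
    have : α b ∈ B.map α := ⟨b, hb, rfl⟩
    rw [h, Subgroup.mem_bot] at this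
    rw [this]; rfl
  rw [offWeight, h, h1, Subgroup.card_bot, Subgroup.card_top, one_mul]

/-- Every offender contains a best one. -/
theorem exists_isBest [Finite H] [Finite V] {α : H →* MulAut V} {B : Subgroup H} (h1 : B.map α ≠ ⊥)
    (hoff : Nat.card V ≤ offWeight α B) : ∃ B₁ : Subgroup H, B₁ ≤ B ∧ IsBest α B₁ := by
  obtain ⟨B₁, hB₁, hmax⟩ := Set.exists_max_image {X : Subgroup H | X ≤ B} (offWeight α)
    (Set.toFinite _) ⟨B, le_refl B⟩
  by_cases hn : B₁.map α = ⊥
  · refine ⟨B, le_rfl, h1, hoff, fun X hX => ?_⟩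
    exact (hmax X hX).trans ((offWeight_of_trivial hn).trans_le hoff)
  · exact ⟨B₁, hB₁, hn, hoff.trans (hmax B (le_refl B)), fun X hX => hmax X (hX.trans hB₁)⟩

theorem fixOf_conj (α : H →* MulAut V) (B : Subgroup H) (g : H) :
    fixOf α (B.map (MulAut.conj g).toMonoidHom) = (fixOf α B).map (α g).toMonoidHom := by
  ext v
  constructor
  · intro hv
    refine ⟨(α g)⁻¹ v, fun b hb => ?_, (α g).apply_symm_apply v⟩
    have h1 := hv _ ⟨b, hb, rfl⟩
    rw [MulEquiv.coe_toMonoidHom, MulAut.conj_apply, map_mul, map_mul, map_inv, MulAut.mul_apply,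
      MulAut.mul_apply] at h1
    apply (α g).injective
    rw [h1, MulAut.apply_inv_self]
  · rintro ⟨w, hw, rfl⟩ _ ⟨b, hb, rfl⟩
    rw [MulEquiv.coe_toMonoidHom, MulEquiv.coe_toMonoidHom, MulAut.conj_apply, map_mul, map_mul,
      map_inv, MulAut.mul_apply, MulAut.mul_apply, MulAut.inv_apply_self, hw b hb]

theorem offWeight_conj (α : H →* MulAut V) (B : Subgroup H) (g : H) :
    offWeight α (B.map (MulAut.conj g).toMonoidHom) = offWeight α B := by
  rw [offWeight, offWeight, fixOf_conj,
    Subgroup.card_map_of_injective (f := (α g).toMonoidHom) (α g).injective]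
  congr 1
  have h : (B.map (MulAut.conj g).toMonoidHom).map α = (B.map α).map (MulAut.conj (α g)).toMonoidHom := by
    rw [Subgroup.map_map, Subgroup.map_map]
    congr 1
    ext b v
    simp [map_mul, map_inv]
  rw [h, Subgroup.card_map_of_injective (f := (MulAut.conj (α g)).toMonoidHom)
    (MulAut.conj (α g)).injective]

theorem IsBest.conj {α : H →* MulAut V} {B : Subgroup H} (h : IsBest α B) (g : H) :
    IsBest α (B.map (MulAut.conj g).toMonoidHom) := by
  refine ⟨fun h1 => h.1 ?_, by rw [offWeight_conj]; exact h.2.1, fun B₁ hB₁ => ?_⟩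
  · rw [Subgroup.map_eq_bot_iff] at h1 ⊢
    intro b hb
    have h2 : g * b * g⁻¹ ∈ α.ker := h1 ⟨b, hb, rfl⟩
    have := α.normal_ker.conj_mem _ h2 g⁻¹
    simpa [mul_assoc] using this
  · have h2 : B₁.map (MulAut.conj g⁻¹).toMonoidHom ≤ B := by
      rintro _ ⟨x, hx, rfl⟩
      obtain ⟨b, hb, rfl⟩ := hB₁ hx
      simpa [mul_assoc] using hb
    have h3 := h.2.2 _ h2
    rwa [offWeight_conj, ← offWeight_conj α B g] at h3

/-- The action on an invariant subgroup. -/
def restrictAct (α : H →* MulAut V) (U : Subgroup V) (h : ∀ g : H, ∀ u ∈ U, α g u ∈ U) :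
    H →* MulAut U where
  toFun g :=
    { toFun := fun u => ⟨α g u, h g u u.2⟩
      invFun := fun u => ⟨α g⁻¹ u, h g⁻¹ u u.2⟩
      left_inv := fun u => Subtype.ext (by simp [map_inv])
      right_inv := fun u => Subtype.ext (by simp [map_inv])
      map_mul' := fun u v => Subtype.ext (map_mul (α g) _ _) }
  map_one' := MulEquiv.ext fun u => Subtype.ext (by simp)
  map_mul' g k := MulEquiv.ext fun u => Subtype.ext (by simp)

theorem restrictAct_apply (α : H →* MulAut V) (U : Subgroup V) (h : ∀ g : H, ∀ u ∈ U, α g u ∈ U)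
    (g : H) (u : U) : ((restrictAct α U h g u : U) : V) = α g u := rfl

/-- The action on a quotient. -/
def quotientAct (α : H →* MulAut V) (U : Subgroup V) (h : ∀ g : H, ∀ u ∈ U, α g u ∈ U) :
    H →* MulAut (V ⧸ U) where
  toFun g := QuotientGroup.congr U U (α g) (le_antisymm
    (by rintro _ ⟨u, hu, rfl⟩; exact h g u hu)
    fun u hu => ⟨α g⁻¹ u, h g⁻¹ u hu, by simp [map_inv]⟩)
  map_one' := MulEquiv.ext fun x => by
    induction x using QuotientGroup.induction_on with
    | H v => simp
  map_mul' g k := MulEquiv.ext fun x => by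
    induction x using QuotientGroup.induction_on with
    | H v => simp

theorem quotientAct_mk (α : H →* MulAut V) (U : Subgroup V) (h : ∀ g : H, ∀ u ∈ U, α g u ∈ U)
    (g : H) (v : V) : quotientAct α U h g (v : V ⧸ U) = ((α g v : V) : V ⧸ U) := rfl

theorem isPGroup_of_inv_two {X : Type*} [Group X] (h : ∀ x : X, x ^ 2 = 1) : IsPGroup 2 X :=
  fun x => ⟨1, by simpa using h x⟩

/-- An element of odd order fixing a subgroup and its cosets pointwise fixes everything. -/
theorem eq_one_of_fix_steps (h2 : ∀ v : V, v ^ 2 = 1) {f : MulAut V} {k : ℕ} (hk : ¬ 2 ∣ k)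
    (hfk : f ^ k = 1) {U : Subgroup V} (h : ∀ u ∈ U, f u = u) (hq : ∀ v, f v / v ∈ U) : f = 1 := by
  refine MulEquiv.ext fun v => ?_
  set d := f v / v with hd
  have hfv : f v = v * d := by rw [hd, mul_div_cancel]
  have hn : ∀ n : ℕ, (f ^ n) v = v * d ^ n := by
    intro n
    induction n with
    | zero => simp
    | succ n ih =>
      rw [pow_succ', MulAut.mul_apply, ih, map_mul, map_pow, h d (hq v), hfv, pow_succ', mul_assoc]
  have h1 := hn k
  rw [hfk, MulAut.one_apply] at h1
  have h3 : d ^ k = 1 := mul_eq_left.1 h1.symm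
  have h4 : d = 1 := by
    have := pow_gcd_eq_one.2 ⟨h3, h2 d⟩
    rwa [Nat.Coprime.gcd_eq_one ((Nat.prime_two.coprime_iff_not_dvd.2 hk).symm), pow_one] at this
  rw [MulAut.one_apply, hfv, h4, mul_one]

theorem isPGroup_ker_of_odd [Finite H] {K : Type*} [Group K] {f : H →* K}
    (h : ∀ x ∈ f.ker, Odd (orderOf x) → x = 1) : IsPGroup 2 f.ker := by
  intro x
  set a := (orderOf (x : H)).factorization 2 with ha
  refine ⟨a, Subtype.ext ?_⟩
  rw [SubmonoidClass.coe_pow]
  refine h _ (pow_mem x.2 _) ?_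
  have := Transfer.orderOf_pow_ordProj_coprime Nat.prime_two (x : H)
  exact (Nat.coprime_two_right.1 this)

theorem commute_of_sup_isPGroup [Finite H] (hab : ∀ T : Sylow 2 H, IsMulCommutative T)
    {B C : Subgroup H} (h : IsPGroup 2 ↥(B ⊔ C)) : ∀ b ∈ B, ∀ c ∈ C, b * c = c * b := by
  intro b hb c hc
  obtain ⟨T, hT⟩ := h.exists_le_sylow
  exact congrArg Subtype.val ((hab T).is_comm.comm ⟨b, hT (le_sup_left (b := C) hb)⟩
    ⟨c, hT (le_sup_right (a := B) hc)⟩)

theorem abelian_sylow_subgroup [Finite H] (hab : ∀ T : Sylow 2 H, IsMulCommutative T)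
    (J : Subgroup H) : ∀ T : Sylow 2 J, IsMulCommutative T := by
  intro T
  obtain ⟨P, hP⟩ := (T.isPGroup'.map J.subtype).exists_le_sylow
  exact ⟨⟨fun a b => Subtype.ext (Subtype.ext (show ((a : J) : H) * (b : J) = (b : J) * (a : J) from
    congrArg Subtype.val ((hab P).is_comm.comm
      ⟨((a : J) : H), hP ⟨a, a.2, rfl⟩⟩ ⟨((b : J) : H), hP ⟨b, b.2, rfl⟩⟩)))⟩⟩

/-- A best offender in `J ≤ H`. -/
theorem isBest_subgroupOf {α : H →* MulAut V} {B J : Subgroup H} (hBJ : B ≤ J) (h : IsBest α B) :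
    IsBest (α.comp J.subtype) (B.subgroupOf J) := by
  have key : ∀ X : Subgroup J, offWeight (α.comp J.subtype) X = offWeight α (X.map J.subtype) := by
    intro X
    rw [offWeight, offWeight, Subgroup.map_map]
    congr 1
    rw [show fixOf (α.comp J.subtype) X = fixOf α (X.map J.subtype) from ?_]
    ext v
    exact ⟨fun hv b hb => by obtain ⟨y, hy, rfl⟩ := hb; exact hv y hy,
      fun hv b hb => hv _ ⟨b, hb, rfl⟩⟩
  have hmap : (B.subgroupOf J).map J.subtype = B := Subgroup.map_subgroupOf_eq_of_le hBJ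
  refine ⟨?_, by rw [key, hmap]; exact h.2.1, fun X hX => ?_⟩
  · rw [← Subgroup.map_map, hmap]; exact h.1
  · rw [key, key, hmap]
    exact h.2.2 _ (hmap ▸ Subgroup.map_mono hX)

/-- Best offenders outside `O₂` in groups with abelian Sylow 2-subgroups give inverted elements of
order three. -/
theorem hasInvertedThree_of_best : ∀ (n : ℕ) (H : Type u) [Group H] [Finite H] (V : Type u)
    [CommGroup V] [Finite V] (α : H →* MulAut V) (B : Subgroup H),
    Nat.card V + Nat.card H + Nat.card B = n → (∀ v : V, v ^ 2 = 1) →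
    (∀ T : Sylow 2 H, IsMulCommutative T) → IsPGroup 2 α.ker → IsPGroup 2 B →
    IsBest α B → ¬ B ≤ Cfsg.pCore 2 H → HasInvertedThree H := by
  intro n
  induction n using Nat.strong_induction_on with
  | _ n ih =>
  intro H _ _ V _ _ α B hn h2 hab hker hB hbest hBO
  haveI : Fact (Nat.Prime 2) := ⟨Nat.prime_two⟩
  have hV : IsPGroup 2 V := isPGroup_of_inv_two h2
  have hsq : ∀ v : V, v * v = 1 := fun v => by rw [← pow_two, h2]
  -- descending to a proper subgroup
  have hsub : ∀ J B' : Subgroup H, J ≠ ⊤ → B' ≤ J → IsPGroup 2 B' → Nat.card B' ≤ Nat.card B →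
      IsBest α B' → ¬ B'.subgroupOf J ≤ Cfsg.pCore 2 J → HasInvertedThree H := by
    intro J B' hJ hB'J hB' hc hb' hO
    refine HasInvertedThree.of_subgroup (ih _ ?_ J V (α.comp J.subtype) (B'.subgroupOf J) rfl h2
      (abelian_sylow_subgroup hab J) ?_ hB'.comap_subtype (isBest_subgroupOf hB'J hb') hO)
    · have h1 := Grp.card_lt_of_ne_top hJ
      rw [Nat.card_congr (Subgroup.subgroupOfEquivOfLe hB'J).toEquiv]
      omega
    · rw [← MonoidHom.comap_ker]; exact hker.comap_subtype
  -- two generating conjugates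
  obtain ⟨g, hg⟩ : ∃ g : H, ¬ IsPGroup 2 ↥(B ⊔ B.map (MulAut.conj g).toMonoidHom) := by
    by_contra hcon
    push Not at hcon
    refine hBO fun b hb => Grp.baer_suzuki b fun g => (hcon g).to_le ?_
    rw [Subgroup.closure_le]
    rintro x (rfl | rfl)
    · exact Subgroup.mem_sup_left hb
    · exact Subgroup.mem_sup_right ⟨b, hb, rfl⟩
  set B' := B.map (MulAut.conj g).toMonoidHom with hB'
  have hB'p : IsPGroup 2 B' := hB.map _
  have hB'c : Nat.card B' = Nat.card B :=
    Subgroup.card_map_of_injective (f := (MulAut.conj g).toMonoidHom) (MulAut.conj g).injective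
  by_cases htop : B ⊔ B' = ⊤
  swap
  · refine hsub (B ⊔ B') B htop le_sup_left hB le_rfl hbest fun hle => hg ?_
    have hO : IsPGroup 2 (Cfsg.pCore 2 ↥(B ⊔ B')) := Grp.pCore_isPGroup
    haveI : (Cfsg.pCore 2 ↥(B ⊔ B')).Normal := Grp.pCore_isNormal
    have h1 : B'.subgroupOf (B ⊔ B') ⊔ Cfsg.pCore 2 ↥(B ⊔ B') = ⊤ := by
      rw [eq_top_iff, ← Subgroup.subgroupOf_self (H := B ⊔ B'),
        Subgroup.subgroupOf_sup le_sup_left le_sup_right]
      exact sup_le (hle.trans le_sup_right) le_sup_left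
    have hB'J : IsPGroup 2 (B'.subgroupOf (B ⊔ B')) := hB'p.comap_subtype
    have h3 := IsPGroup.to_sup_of_normal_right hB'J hO
    rw [h1] at h3
    exact h3.of_equiv Subgroup.topEquiv
  set Z := Cfsg.pCore 2 H with hZ
  have hZp : IsPGroup 2 Z := Grp.pCore_isPGroup
  haveI hZn : Z.Normal := Grp.pCore_isNormal
  have hZc : ∀ z ∈ Z, ∀ h : H, h * z = z * h := by
    intro z hz h
    have h1 : ∀ C : Subgroup H, IsPGroup 2 C → C ≤ Subgroup.centralizer ({z} : Set H) :=
      fun C hC c hc => Subgroup.mem_centralizer_singleton_iff.2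
        (commute_of_sup_isPGroup hab (IsPGroup.to_sup_of_normal_right hC hZp) c hc z hz)
    exact Subgroup.mem_centralizer_singleton_iff.1 ((sup_le (h1 B hB) (h1 B' hB'p))
      (htop ▸ Subgroup.mem_top h))
  have hkerZ : α.ker ≤ Z := Grp.le_pCore α.normal_ker hker
  have hBb : ∀ a ∈ B, ∀ b ∈ B, a * b = b * a :=
    commute_of_sup_isPGroup hab (by rw [sup_idem]; exact hB)
  -- `B ∩ O₂` acts trivially
  by_cases hBZ : (B ⊓ Z).map α = ⊥
  swap
  · set U := fixOf α (B ⊓ Z) with hU
    have hinv : ∀ h : H, ∀ u ∈ U, α h u ∈ U := fun h u hu b hb => by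
      rw [← MulAut.mul_apply, ← map_mul, ← hZc b hb.2 h, map_mul, MulAut.mul_apply, hu b hb]
    set β := restrictAct α U hinv with hβ
    have hUne : U ≠ ⊤ := fun h => hBZ (by
      rw [Subgroup.map_eq_bot_iff]
      intro b hb
      rw [MonoidHom.mem_ker]
      exact MulEquiv.ext fun v => (show v ∈ U from h ▸ Subgroup.mem_top v) b hb)
    have hkerβ : IsPGroup 2 β.ker := by
      refine isPGroup_ker_of_odd fun x hx hodd => ?_
      have hfix : ∀ u ∈ U, α x u = u := fun u hu => by
        have h := congrArg Subtype.val (DFunLike.congr_fun (MonoidHom.mem_ker.1 hx) (⟨u, hu⟩ : U))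
        exact h
      have hcx : ∀ f ∈ (B ⊓ Z).map α, Commute f (α x) := by
        rintro _ ⟨b, hb, rfl⟩
        exact ((hZc b hb.2 x).symm ▸ rfl : b * x = x * b) |> fun e => (show Commute b x from e).map α
      have hα : α x = 1 := eq_one_of_fix_centralizer (p := 2) hV ((hB.to_le inf_le_left).map α)
        (Nat.coprime_two_right.2 hodd) (by rw [← map_pow, pow_orderOf_eq_one, map_one]) hcx
        fun v hv => hfix v fun b hb => hv _ ⟨b, hb, rfl⟩
      obtain ⟨k, hk⟩ := hker ⟨x, MonoidHom.mem_ker.2 hα⟩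
      rw [← orderOf_eq_one_iff]
      exact Nat.eq_one_of_dvd_coprimes ((Nat.coprime_two_right.2 hodd).pow_right k) dvd_rfl
        (orderOf_dvd_of_pow_eq_one (congrArg Subtype.val hk))
    have hβ1 : B.map β ≠ ⊥ := fun h => hBO (((Subgroup.map_eq_bot_iff B).1 h).trans
      (Grp.le_pCore β.normal_ker hkerβ))
    have hoffU : Nat.card U ≤ offWeight β B := by
      set K := B ⊓ β.ker with hK
      have h1 := hbest.2.2 K inf_le_left
      have hUK : U ≤ fixOf α K := fun u hu b hb => by
        have h := congrArg Subtype.val (DFunLike.congr_fun (MonoidHom.mem_ker.1 hb.2) (⟨u, hu⟩ : U))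
        exact h
      have hWU : fixOf α B ≤ U := fixOf_anti inf_le_left
      have hfc : Nat.card (fixOf β B) = Nat.card (fixOf α B) := by
        have : fixOf β B = (fixOf α B).subgroupOf U := by
          ext u
          exact ⟨fun hu b hb => congrArg Subtype.val (hu b hb), fun hu b hb => Subtype.ext (hu b hb)⟩
        rw [this, Nat.card_congr (Subgroup.subgroupOfEquivOfLe hWU).toEquiv]
      have hcard : Nat.card (K.map α) * Nat.card (B.map β) = Nat.card (B.map α) := by
        rw [← Subgroup.relIndex_ker, ← Subgroup.relIndex_ker, ← Subgroup.relIndex_ker]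
        have hka : α.ker ≤ β.ker := fun x hx => by
          rw [MonoidHom.mem_ker] at hx ⊢
          exact MulEquiv.ext fun u => Subtype.ext (by rw [hβ, restrictAct_apply, hx]; rfl)
        rw [← Subgroup.inf_relIndex_right α.ker K, ← Subgroup.inf_relIndex_right α.ker B,
          ← Subgroup.inf_relIndex_right β.ker B]
        have e1 : α.ker ⊓ K = α.ker ⊓ B := by
          rw [hK, ← inf_assoc]
          exact inf_eq_left.2 (inf_le_left.trans hka)
        rw [e1, inf_comm β.ker B]
        exact Subgroup.relIndex_mul_relIndex _ _ _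
          (le_inf inf_le_right (inf_le_left.trans hka)) inf_le_left
      rw [offWeight, hfc]
      refine Nat.le_of_mul_le_mul_left ?_ (Nat.card_pos (α := K.map α))
      rw [← mul_assoc, hcard]
      exact (Nat.mul_le_mul le_rfl (Subgroup.card_le_of_le hUK)).trans h1
    obtain ⟨B₁, hB₁, hb₁⟩ := exists_isBest hβ1 hoffU
    refine ih _ ?_ H U β B₁ rfl (fun u => Subtype.ext (h2 _)) hab hkerβ (hB.to_le hB₁) hb₁
      fun hle => hb₁.1 ?_
    · have h1 := Grp.card_lt_of_ne_top hUne
      have h3 := Subgroup.card_le_of_le hB₁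
      omega
    · rw [Subgroup.map_eq_bot_iff]
      intro b hb
      exact MonoidHom.mem_ker.2 (MulEquiv.ext fun u => Subtype.ext (u.2 b ⟨hB₁ hb, hle hb⟩))
  have hBne : ∀ a ∈ B, a ∈ Z → α a = 1 := fun a ha haZ =>
    MonoidHom.mem_ker.1 ((Subgroup.map_eq_bot_iff _).1 hBZ ⟨ha, haZ⟩)
  -- no common fixed points
  set C := fixOf α (⊤ : Subgroup H) with hC
  by_cases hC1 : C = ⊥
  swap
  · have hinv : ∀ h : H, ∀ u ∈ C, α h u ∈ C := fun h u hu b _ => by
      rw [hu h (Subgroup.mem_top h)]; exact hu b (Subgroup.mem_top b)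
    set β := quotientAct α C hinv with hβ
    have hkerβ : IsPGroup 2 β.ker := by
      refine isPGroup_ker_of_odd fun x hx hodd => ?_
      have hα : α x = 1 := eq_one_of_fix_steps h2 (k := orderOf x)
        (fun h => (Nat.not_even_iff_odd.2 hodd) (even_iff_two_dvd.2 h))
        (by rw [← map_pow, pow_orderOf_eq_one, map_one]) (U := C)
        (fun u hu => hu x (Subgroup.mem_top x)) (fun v => by
          have h1 := DFunLike.congr_fun (MonoidHom.mem_ker.1 hx) (v : V ⧸ C)
          rw [hβ, quotientAct_mk, MulAut.one_apply] at h1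
          exact QuotientGroup.eq_iff_div_mem.1 h1)
      obtain ⟨k, hk⟩ := hker ⟨x, MonoidHom.mem_ker.2 hα⟩
      rw [← orderOf_eq_one_iff]
      exact Nat.eq_one_of_dvd_coprimes ((Nat.coprime_two_right.2 hodd).pow_right k) dvd_rfl
        (orderOf_dvd_of_pow_eq_one (congrArg Subtype.val hk))
    have hβ1 : B.map β ≠ ⊥ := fun h => hBO (((Subgroup.map_eq_bot_iff B).1 h).trans
      (Grp.le_pCore β.normal_ker hkerβ))
    have hoffC : Nat.card (V ⧸ C) ≤ offWeight β B := by
      have hCW : C ≤ fixOf α B := fixOf_anti le_top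
      have hka : ∀ x ∈ B, β x = 1 → α x = 1 := fun x hx hx1 =>
        hBne x hx (Grp.le_pCore β.normal_ker hkerβ (MonoidHom.mem_ker.2 hx1))
      have himg : Nat.card (B.map β) = Nat.card (B.map α) := by
        rw [← Subgroup.relIndex_ker, ← Subgroup.relIndex_ker, ← Subgroup.inf_relIndex_right β.ker,
          ← Subgroup.inf_relIndex_right α.ker]
        congr 1
        ext x
        refine ⟨fun hx => ⟨MonoidHom.mem_ker.2 (hka x hx.2 hx.1), hx.2⟩, fun hx => ⟨?_, hx.2⟩⟩
        show β x = 1
        refine MulEquiv.ext fun y => ?_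
        induction y using QuotientGroup.induction_on with
        | H v => rw [hβ, quotientAct_mk, MonoidHom.mem_ker.1 hx.1]; rfl
      have hfc : (fixOf α B).map (QuotientGroup.mk' C) ≤ fixOf β B := by
        rintro _ ⟨v, hv, rfl⟩ b hb
        rw [QuotientGroup.mk'_apply, hβ, quotientAct_mk, hv b hb]
      refine le_trans ?_ (Nat.mul_le_mul himg.ge (Subgroup.card_le_of_le hfc))
      refine Nat.le_of_mul_le_mul_right ?_ (Nat.card_pos (α := C))
      rw [← Subgroup.card_eq_card_quotient_mul_card_subgroup, mul_assoc]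
      refine hbest.2.1.trans (le_of_eq ?_)
      have e : Nat.card ((fixOf α B).map (QuotientGroup.mk' C)) = C.relIndex (fixOf α B) := by
        rw [← Subgroup.relIndex_ker, QuotientGroup.ker_mk']
      rw [offWeight, e, mul_comm (C.relIndex _), Grp.card_mul_relIndex hCW]
    obtain ⟨B₁, hB₁, hb₁⟩ := exists_isBest hβ1 hoffC
    refine ih _ ?_ H (V ⧸ C) β B₁ rfl (fun y => ?_) hab hkerβ (hB.to_le hB₁) hb₁
      fun hle => hb₁.1 ?_
    · have h1 := Grp.card_quotient_lt hC1
      have h3 := Subgroup.card_le_of_le hB₁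
      omega
    · induction y using QuotientGroup.induction_on with
      | H v => rw [← QuotientGroup.mk_pow, h2]; rfl
    · rw [Subgroup.map_eq_bot_iff]
      intro b hb
      rw [MonoidHom.mem_ker]
      refine MulEquiv.ext fun y => ?_
      induction y using QuotientGroup.induction_on with
      | H v => rw [hβ, quotientAct_mk, hBne b (hB₁ hb) (hle hb)]; rfl
  -- minimality
  by_cases hmin : ∀ B₁ : Subgroup H, B₁ ≤ B → B₁ ≠ B → B₁.map α ≠ ⊥ → offWeight α B₁ < offWeight α B
  swap
  · push Not at hmin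
    obtain ⟨B₁, hB₁, hne, hi, hw⟩ := hmin
    have hlt : Nat.card B₁ < Nat.card B :=
      lt_of_le_of_ne (Subgroup.card_le_of_le hB₁) fun h => hne (Subgroup.eq_of_le_of_card_ge hB₁ h.ge)
    refine ih _ (by omega) H V α B₁ rfl h2 hab hker (hB.to_le hB₁)
      ⟨hi, hbest.2.1.trans hw, fun X hX => (hbest.2.2 X (hX.trans hB₁)).trans hw⟩ fun hle => hi ?_
    rw [eq_bot_iff, ← hBZ]
    exact Subgroup.map_mono (le_inf hB₁ hle)
  set W := fixOf α B with hW
  set m := Nat.card (B.map α) with hm
  have hWV : W ≠ ⊤ := fun h => hbest.1 (by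
    rw [Subgroup.map_eq_bot_iff]
    exact fun b hb => MonoidHom.mem_ker.2 (MulEquiv.ext fun v =>
      (show v ∈ W from h ▸ Subgroup.mem_top v) b hb))
  have hcommV : ∀ a ∈ B, ∀ c ∈ B, ∀ v, α a (α c v) = α c (α a v) := fun a ha c hc v => by
    rw [← MulAut.mul_apply, ← map_mul, hBb a ha c hc, map_mul, MulAut.mul_apply]
  -- quadratic action
  have hquad : ∀ a ∈ B, ∀ v : V, α a v / v ∈ W := by
    intro a₀ ha₀ u
    set M := W ⊔ Subgroup.closure {x | ∃ a ∈ B, α a u / u = x} with hM
    have hMmem : ∀ a ∈ B, α a u / u ∈ M :=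
      fun a ha => Subgroup.mem_sup_right (Subgroup.subset_closure ⟨a, ha, rfl⟩)
    let A : Subgroup H :=
      { carrier := {a | a ∈ B ∧ ∀ x ∈ M, α a x = x}
        mul_mem' := fun {a c} ha hc => ⟨B.mul_mem ha.1 hc.1, fun x hx => by
          rw [map_mul, MulAut.mul_apply, hc.2 x hx, ha.2 x hx]⟩
        one_mem' := ⟨B.one_mem, fun x _ => by simp⟩
        inv_mem' := fun {a} ha => ⟨B.inv_mem ha.1, fun x hx => by
          conv_lhs => rw [← ha.2 x hx]
          rw [map_inv, MulAut.inv_apply_self]⟩ }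
    have hAB : A ≤ B := fun a ha => ha.1
    by_cases hAeq : A = B
    · exact fun b hb => (hAeq.ge hb).2 _ (hMmem a₀ ha₀)
    exfalso
    have hMA : M ≤ fixOf α A := fun x hx b hb => hb.2 x hx
    -- count the image
    have hcount : m ≤ Nat.card (A.map α) * W.relIndex M := by
      rw [hm]
      let F : B.map α → V ⧸ W := fun f => (((f : MulAut V) u / u : V) : V ⧸ W)
      have hF : ∀ f, F f ∈ M.map (QuotientGroup.mk' W) := by
        rintro ⟨_, a, ha, rfl⟩
        exact ⟨_, hMmem a ha, rfl⟩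
      have hfib : ∀ f f' : B.map α, F f = F f' → (f : MulAut V)⁻¹ * f' ∈ A.map α := by
        rintro ⟨_, a, ha, rfl⟩ ⟨_, a', ha', rfl⟩ he
        refine ⟨a⁻¹ * a', ⟨B.mul_mem (B.inv_mem ha) ha', fun x hx => ?_⟩, by rw [map_mul, map_inv]⟩
        have hd : (α a u / u) / (α a' u / u) ∈ W := QuotientGroup.eq_iff_div_mem.1 he
        have hfixD : ∀ c ∈ B, α a (α c u / u) = α a' (α c u / u) := by
          intro c hc
          have h1 := hd c hc
          rw [map_div, map_div, map_div] at h1
          have e1 := hcommV c hc a ha u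
          have e2 := hcommV c hc a' ha' u
          rw [e1, e2] at h1
          rw [map_div, map_div, div_eq_div_iff_mul_eq_mul]
          rw [div_eq_div_iff_mul_eq_mul, div_mul_div_comm, div_mul_div_comm,
            div_eq_div_iff_mul_eq_mul] at h1
          have : α a (α c u) * α a' u * (α c u * u) = α a' (α c u) * α a u * (α c u * u) := by
            convert h1 using 1 <;> ac_rfl
          exact mul_right_cancel this
        have hX : M ≤ MonoidHom.eqLocus (α a).toMonoidHom (α a').toMonoidHom := by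
          refine sup_le (fun w hw => ?_) ((Subgroup.closure_le _).2 ?_)
          · exact (hw a ha).trans (hw a' ha').symm
          · rintro _ ⟨c, hc, rfl⟩; exact hfixD c hc
        have := hX hx
        rw [map_mul, map_inv, MulAut.mul_apply]
        apply (α a).injective
        rw [MulAut.apply_inv_self]
        exact this.symm
      choose rep hrep using fun y : Set.range F => y.2
      let G' : B.map α → Set.range F × A.map α := fun f =>
        (⟨F f, f, rfl⟩, ⟨(rep ⟨F f, f, rfl⟩ : MulAut V)⁻¹ * f, hfib _ f (hrep ⟨F f, f, rfl⟩)⟩)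
      have hG' : Function.Injective G' := by
        intro f f' he
        simp only [G', Prod.mk.injEq, Subtype.mk.injEq] at he
        obtain ⟨e1, e2⟩ := he
        have : (⟨F f, f, rfl⟩ : Set.range F) = ⟨F f', f', rfl⟩ := e1
        rw [this] at e2
        exact Subtype.ext (mul_left_cancel e2)
      refine (Nat.card_le_card_of_injective G' hG').trans ?_
      rw [Nat.card_prod, mul_comm]
      refine Nat.mul_le_mul le_rfl ?_
      refine (Nat.card_le_card_of_injective (fun y : Set.range F => (⟨y.1, by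
        obtain ⟨f, hf⟩ := y.2; exact hf ▸ hF f⟩ : M.map (QuotientGroup.mk' W)))
        (fun y y' h => Subtype.ext (congrArg (fun z : M.map (QuotientGroup.mk' W) => (z : V ⧸ W)) h))).trans (le_of_eq ?_)
      rw [← Subgroup.relIndex_ker, QuotientGroup.ker_mk']
    have hWM : W ≤ M := le_sup_left
    have hwA : offWeight α B ≤ offWeight α A := by
      rw [offWeight, offWeight]
      refine le_trans (Nat.mul_le_mul hcount le_rfl) ?_
      rw [mul_assoc, mul_comm (W.relIndex M), Grp.card_mul_relIndex hWM]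
      exact Nat.mul_le_mul le_rfl (Subgroup.card_le_of_le hMA)
    by_cases hA1 : A.map α = ⊥
    swap
    · exact absurd hwA (not_le.2 (hmin A hAB hAeq hA1))
    -- then `V = [u, B] W`, impossible
    have hMtop : M = ⊤ := by
      refine Subgroup.eq_top_of_le_card M ?_
      refine hbest.2.1.trans ?_
      rw [offWeight, ← Grp.card_mul_relIndex hWM]
      rw [hA1, Subgroup.card_bot, one_mul] at hcount
      rw [mul_comm]
      exact Nat.mul_le_mul le_rfl hcount
    obtain ⟨Y, ⟨hWY, hYinv, hYne⟩, hYmax⟩ := Set.exists_max_image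
      {Y : Subgroup V | W ≤ Y ∧ (∀ b ∈ B, ∀ y ∈ Y, α b y ∈ Y) ∧ Y ≠ ⊤} (fun Y => Nat.card Y)
      (Set.toFinite _) ⟨W, le_rfl, fun b hb y hy => by rw [hy b hb]; exact hy, hWV⟩
    let γ := quotientAct (α.comp B.subtype) Y (fun b y hy => hYinv b b.2 y hy)
    haveI : Nontrivial (V ⧸ Y) := QuotientGroup.nontrivial_iff.2 hYne
    obtain ⟨q, -, hq1, hqfix⟩ := exists_fixed_ne_one (V := V ⧸ Y) (p := 2) (hV.to_quotient Y)
      (P := (⊤ : Subgroup B).map γ) ((hB.to_subgroup ⊤).map γ) (D := ⊤) top_ne_bot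
      (fun f _ v _ => Subgroup.mem_top _)
    obtain ⟨v, rfl⟩ := QuotientGroup.mk_surjective q
    have hvY : v ∉ Y := fun h => hq1 ((QuotientGroup.eq_one_iff v).2 h)
    have hvfix : ∀ b ∈ B, α b v / v ∈ Y := fun b hb => by
      have := hqfix _ ⟨⟨b, hb⟩, Subgroup.mem_top _, rfl⟩
      exact QuotientGroup.eq_iff_div_mem.1 this
    have hall : ∀ b ∈ B, ∀ x : V, α b x / x ∈ Y := by
      set Y' := Y ⊔ Subgroup.zpowers v with hY'
      have hY'inv : ∀ b ∈ B, ∀ y ∈ Y', α b y ∈ Y' := by
        intro b hb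
        have : Y' ≤ Y'.comap (α b).toMonoidHom := sup_le
          (fun y hy => Subgroup.mem_sup_left (hYinv b hb y hy))
          (Subgroup.zpowers_le.2 (by
            show α b v ∈ Y'
            rw [show α b v = (α b v / v) * v from (div_mul_cancel _ _).symm]
            exact Y'.mul_mem (Subgroup.mem_sup_left (hvfix b hb))
              (Subgroup.mem_sup_right (Subgroup.mem_zpowers v))))
        exact fun y hy => this hy
      have htop' : Y' = ⊤ := by
        by_contra hne
        have h1 := hYmax Y' ⟨hWY.trans le_sup_left, hY'inv, hne⟩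
        exact hvY ((Subgroup.eq_of_le_of_card_ge le_sup_left h1).ge
          (Subgroup.mem_sup_right (Subgroup.mem_zpowers v)))
      intro b hb x
      have : Y' ≤ Y.comap (autDiff (α b)) := sup_le
        (fun y hy => Y.div_mem (hYinv b hb y hy) hy) (Subgroup.zpowers_le.2 (hvfix b hb))
      exact this (htop' ▸ Subgroup.mem_top x)
    refine hYne (top_le_iff.1 (hMtop ▸ sup_le hWY ((Subgroup.closure_le _).2 ?_)))
    rintro _ ⟨c, hc, rfl⟩
    exact hall c hc u
  -- transport to conjugates
  have hsup' : B' ⊔ B = ⊤ := sup_comm B B' ▸ htop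
  set W' := fixOf α B' with hW'
  have hW'c : Nat.card W' = Nat.card W := by
    rw [hW', hB', fixOf_conj, Subgroup.card_map_of_injective (f := (α g).toMonoidHom) (α g).injective]
  have hWW' : W ⊓ W' = ⊥ := by
    rw [eq_bot_iff, ← hC1]
    intro v hv h _
    let S : Subgroup H :=
      { carrier := {h | α h v = v}
        mul_mem' := fun {a b} ha hb => by
          show α (a * b) v = v
          rw [map_mul, MulAut.mul_apply, hb, ha]
        one_mem' := by simp
        inv_mem' := fun {a} ha => by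
          show α a⁻¹ v = v
          conv_lhs => rw [← ha]
          rw [map_inv, MulAut.inv_apply_self] }
    exact ((htop ▸ sup_le (fun b hb => hv.1 b hb) (fun b hb => hv.2 b hb) : (⊤ : Subgroup H) ≤ S)
      (Subgroup.mem_top h) : α h v = v)
  have hinfW : ∀ x ∈ W, x ∈ W' → x = 1 := fun x hx hx' => by
    have : x ∈ W ⊓ W' := ⟨hx, hx'⟩
    rwa [hWW', Subgroup.mem_bot] at this
  -- stabilizers
  by_cases hstab : ∀ (u : V), u ≠ 1 → ∀ k : H,
      (∀ b ∈ B.map (MulAut.conj k).toMonoidHom, α b u = u) → ∀ x : H, (∃ e : ℕ, x ^ 2 ^ e = 1) →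
      α x u = u → ∀ b ∈ B.map (MulAut.conj k).toMonoidHom, x * b = b * x
  swap
  · push Not at hstab
    obtain ⟨u, hu, k, hk, x, ⟨e, he⟩, hx, b, hb, hne⟩ := hstab
    let J : Subgroup H :=
      { carrier := {h | α h u = u}
        mul_mem' := fun {a c} ha hc => by
          show α (a * c) u = u
          rw [map_mul, MulAut.mul_apply, hc, ha]
        one_mem' := by simp
        inv_mem' := fun {a} ha => by
          show α a⁻¹ u = u
          conv_lhs => rw [← ha]
          rw [map_inv, MulAut.inv_apply_self] }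
    have hJ : J ≠ ⊤ := fun h => hu (by
      rw [← Subgroup.mem_bot, ← hC1]
      exact fun y _ => (h ▸ Subgroup.mem_top y : y ∈ J))
    set Bk := B.map (MulAut.conj k).toMonoidHom with hBk
    refine hsub J Bk hJ hk (hB.map _)
      (Subgroup.card_map_of_injective (f := (MulAut.conj k).toMonoidHom) (MulAut.conj k).injective).le
      (hbest.conj k) fun hle => hne ?_
    have hxp : IsPGroup 2 (Subgroup.zpowers (⟨x, hx⟩ : J)) := by
      obtain ⟨i, -, hi⟩ := (Nat.dvd_prime_pow Nat.prime_two).1
        (orderOf_dvd_of_pow_eq_one (show (⟨x, hx⟩ : J) ^ 2 ^ e = 1 from Subtype.ext (by simpa using he)))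
      exact IsPGroup.of_card (n := i) (by rw [Nat.card_zpowers, hi])
    haveI : (Cfsg.pCore 2 J).Normal := Grp.pCore_isNormal
    exact congrArg Subtype.val (commute_of_sup_isPGroup (abelian_sylow_subgroup hab J)
      (IsPGroup.to_sup_of_normal_right hxp (Grp.pCore_isPGroup (p := 2) (G := J)))
      ⟨x, hx⟩ (Subgroup.mem_zpowers _) ⟨b, hk b hb⟩ (hle (show (⟨b, hk b hb⟩ : J) ∈ Bk.subgroupOf J from hb)))
  have htwo : ∀ {C : Subgroup H}, IsPGroup 2 C → ∀ a ∈ C, ∃ e : ℕ, a ^ 2 ^ e = 1 := by
    intro C hC a ha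
    obtain ⟨e, he⟩ := hC ⟨a, ha⟩
    exact ⟨e, congrArg Subtype.val he⟩
  have hcentral : ∀ a : H, (∃ e : ℕ, a ^ 2 ^ e = 1) → (∀ h : H, h * a = a * h) → a ∈ Z := by
    intro a ⟨e, he⟩ hc
    refine Grp.le_pCore (N := Subgroup.zpowers a) ⟨fun x hx h => ?_⟩ ?_ (Subgroup.mem_zpowers a)
    · obtain ⟨i, rfl⟩ := Subgroup.mem_zpowers_iff.1 hx
      rw [← conj_zpow, hc h, mul_inv_cancel_right]
      exact Subgroup.zpow_mem_zpowers a i
    · obtain ⟨i, -, hi⟩ := (Nat.dvd_prime_pow Nat.prime_two).1 (orderOf_dvd_of_pow_eq_one he)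
      exact IsPGroup.of_card (n := i) (by rw [Nat.card_zpowers, hi])
  have hfree : ∀ a ∈ B, α a ≠ 1 → ∀ u ∈ W', α a u = u → u = 1 := by
    intro a ha hane u hu hau
    by_contra hu1
    refine hane (hBne a ha (hcentral a (htwo hB a ha) fun h => ?_))
    have h1 : B' ≤ Subgroup.centralizer ({a} : Set H) := fun c hc =>
      Subgroup.mem_centralizer_singleton_iff.2 (hstab u hu1 g hu a (htwo hB a ha) hau c hc).symm
    have h2 : B ≤ Subgroup.centralizer ({a} : Set H) := fun c hc =>
      Subgroup.mem_centralizer_singleton_iff.2 (hBb c hc a ha)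
    exact Subgroup.mem_centralizer_singleton_iff.1 ((sup_le h2 h1) (htop ▸ Subgroup.mem_top h))
  -- cardinalities
  set w := Nat.card W with hw
  have hW'1 : W' ≠ ⊥ := by
    intro h
    haveI : Nontrivial V := by
      by_contra hne
      rw [not_nontrivial_iff_subsingleton] at hne
      exact hWV (Subsingleton.elim _ _)
    obtain ⟨u, -, hu1, hu⟩ := exists_fixed_ne_one (V := V) (p := 2) hV (P := B'.map α) (hB'p.map α)
      (D := ⊤) top_ne_bot (fun f _ v _ => Subgroup.mem_top _)
    exact hu1 (Subgroup.mem_bot.1 (h ▸ (show u ∈ W' from fun b hb => hu _ ⟨b, hb, rfl⟩)))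
  have hinj : ∀ u, (∀ a ∈ B, α a ≠ 1 → α a u ≠ u) → ∀ a ∈ B, ∀ c ∈ B,
      α a u / u = α c u / u → α a = α c := by
    intro u hu a ha c hc he
    rw [div_left_inj] at he
    by_contra hne
    refine hu (c⁻¹ * a) (B.mul_mem (B.inv_mem hc) ha) (fun h => hne ?_) ?_
    · rwa [map_mul, map_inv, inv_mul_eq_one, eq_comm] at h
    · rw [map_mul, map_inv, MulAut.mul_apply, he, MulAut.inv_apply_self]
  have hDinj : ∀ u, (∀ a ∈ B, α a ≠ 1 → α a u ≠ u) → Function.Injective
      (fun f : B.map α => (⟨(f : MulAut V) u / u, by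
        obtain ⟨a, ha, e⟩ := f.2; rw [← e]; exact hquad a ha u⟩ : W)) := by
    rintro u hu ⟨_, a, ha, rfl⟩ ⟨_, c, hc, rfl⟩ he
    exact Subtype.ext (hinj u hu a ha c hc (congrArg Subtype.val he))
  obtain ⟨u₀, hu₀, hu₀1⟩ := (Subgroup.bot_or_exists_ne_one W').resolve_left hW'1
  have hmw : m ≤ w :=
    Nat.card_le_card_of_injective _ (hDinj u₀ fun a ha hne h => hu₀1 (hfree a ha hne u₀ hu₀ h))
  have hdisj : Nat.card ↥(W' ⊔ W) = w * w := by
    have h1 := Grp.card_sup_mul_card_inf (H := W') (N := W)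
      (by rw [Subgroup.normalizer_eq_top]; exact le_top)
    rw [inf_comm, hWW', Subgroup.card_bot, mul_one, hW'c] at h1
    exact h1
  have hv1 : w * w ≤ Nat.card V := hdisj ▸ Subgroup.card_le_card_group _
  have hv2 : Nat.card V ≤ m * w := hbest.2.1
  have hwpos : 0 < w := Nat.card_pos
  have hwm : w ≤ m := Nat.le_of_mul_le_mul_right (hv1.trans hv2) hwpos
  have hmeq : m = w := le_antisymm hmw hwm
  have hv : Nat.card V = w * w := le_antisymm (hmeq ▸ hv2) hv1
  have hWW'top : W' ⊔ W = ⊤ := Subgroup.eq_top_of_card_eq _ (hdisj.trans hv.symm)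
  have hdec : ∀ x : V, ∃ u ∈ W', ∃ y ∈ W, u * y = x := fun x =>
    Subgroup.mem_sup_of_normal_right.1 (hWW'top ▸ Subgroup.mem_top x)
  -- fixed points of single elements
  have hfixW : ∀ a ∈ B, α a ≠ 1 → ∀ x, α a x = x → x ∈ W := by
    intro a ha hne x hx
    obtain ⟨u, hu, y, hy, rfl⟩ := hdec x
    rw [map_mul, hy a ha] at hx
    rw [hfree a ha hne u hu (mul_right_cancel hx), one_mul]
    exact hy
  have hfixC : ∀ k : H, ∀ b ∈ B.map (MulAut.conj k).toMonoidHom, α b ≠ 1 → ∀ x, α b x = x →
      x ∈ fixOf α (B.map (MulAut.conj k).toMonoidHom) := by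
    rintro k _ ⟨a, ha, rfl⟩ hne x hx
    rw [fixOf_conj]
    rw [MulEquiv.coe_toMonoidHom, MulAut.conj_apply, map_mul, map_mul, map_inv] at hne hx
    refine ⟨(α k)⁻¹ x, hfixW a ha (fun h => hne (by rw [h, mul_one, mul_inv_cancel])) _ ?_,
      (α k).apply_symm_apply x⟩
    apply (α k).injective
    rw [MulAut.apply_inv_self]
    exact hx
  -- conjugates of `W` meet trivially
  have hTI : ∀ k : H, W ⊓ W.map (α k).toMonoidHom ≠ ⊥ → W.map (α k).toMonoidHom = W := by
    intro k hne
    obtain ⟨u, ⟨hu, huk⟩, hu1⟩ := (Subgroup.bot_or_exists_ne_one _).resolve_left hne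
    set Bk := B.map (MulAut.conj k).toMonoidHom with hBk
    have huk' : u ∈ fixOf α Bk := by rw [fixOf_conj]; exact huk
    obtain ⟨c, hc, hc1⟩ : ∃ c ∈ Bk, α c ≠ 1 := by
      by_contra h
      push Not at h
      exact (hbest.conj k).1 ((Subgroup.map_eq_bot_iff _).2 fun x hx => MonoidHom.mem_ker.2 (h x hx))
    have hu1' : B.map (MulAut.conj (1 : H)).toMonoidHom = B := by
      ext y
      simp [Subgroup.mem_map]
    have hcomm : ∀ a ∈ B, a * c = c * a := fun a ha =>
      (hstab u hu1 1 (by rw [hu1']; exact hu) c (htwo (hB.map _) c hc) (huk' c hc) a (hu1'.ge ha)).symm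
    obtain ⟨a₀, ha₀, ha₀1⟩ : ∃ a ∈ B, α a ≠ 1 := by
      by_contra h
      push Not at h
      exact hbest.1 ((Subgroup.map_eq_bot_iff _).2 fun x hx => MonoidHom.mem_ker.2 (h x hx))
    -- `z` with `[z, a₀] = u`
    have hsurj : ∀ a ∈ B, α a ≠ 1 → ∀ y ∈ W, ∃ z ∈ W', α a z / z = y := by
      intro a ha hne y hy
      let φ : W' → W := fun z => ⟨α a (z : V) / z, hquad a ha z⟩
      have hφ : Function.Injective φ := by
        intro z z' he
        have he' : α a (z : V) / z = α a (z' : V) / z' := congrArg Subtype.val he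
        rw [div_eq_div_iff_mul_eq_mul] at he'
        have hfix' : α a ((z : V) / z') = z / z' := by
          rw [map_div, div_eq_div_iff_mul_eq_mul]; exact he'.trans (mul_comm _ _)
        exact Subtype.ext (div_eq_one.1 (hfree a ha hne _ (W'.div_mem z.2 z'.2) hfix'))
      obtain ⟨z, hz⟩ := ((Nat.bijective_iff_injective_and_card φ).2 ⟨hφ, hW'c⟩).2 ⟨y, hy⟩
      exact ⟨z, z.2, congrArg Subtype.val hz⟩
    obtain ⟨z₀, hz₀, hz₀u⟩ := hsurj a₀ ha₀ ha₀1 u hu
    have hz₀W : z₀ ∉ W := fun h => hu1 (by rw [← hz₀u, h a₀ ha₀, div_self'])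
    have hDcomm : ∀ a ∈ B, ∀ z : V, α c (α a z / z) = α a (α c z) / α c z := by
      intro a ha z
      have e : α a (α c z) = α c (α a z) := by
        rw [← MulAut.mul_apply, ← map_mul, hcomm a ha, map_mul, MulAut.mul_apply]
      rw [map_div, e]
    have hcz : α c z₀ / z₀ ∈ W := by
      refine hfixW a₀ ha₀ ha₀1 _ ?_
      rw [map_div, div_eq_div_iff_div_eq_div, ← hDcomm a₀ ha₀ z₀, hz₀u]
      exact huk' c hc
    have hcW : W ≤ fixOf α Bk := by
      intro y hy
      refine hfixC k c hc hc1 y ?_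
      have hb : ∀ a ∈ B, α a ≠ 1 → α a z₀ ≠ z₀ := fun a ha hne h => hz₀W (hfixW a ha hne _ h)
      obtain ⟨⟨_, a, ha, rfl⟩, he⟩ :=
        ((Nat.bijective_iff_injective_and_card _).2 ⟨hDinj z₀ hb, hmeq⟩).2 ⟨y, hy⟩
      have he' : α a z₀ / z₀ = y := congrArg Subtype.val he
      rw [← he', hDcomm a ha, div_eq_div_iff_div_eq_div]
      have e := hcz a ha
      rw [map_div] at e
      exact div_eq_div_iff_div_eq_div.1 (div_eq_div_iff_div_eq_div.1 e)
    rw [fixOf_conj] at hcW
    exact (Subgroup.eq_of_le_of_card_ge hcW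
      (Subgroup.card_map_of_injective (f := (α k).toMonoidHom) (α k).injective).le).symm
  -- the generators
  obtain ⟨b, hb, hb1⟩ : ∃ b ∈ B', α b ≠ 1 := by
    by_contra h
    push Not at h
    exact (hbest.conj g).1 ((Subgroup.map_eq_bot_iff _).2 fun x hx => MonoidHom.mem_ker.2 (h x hx))
  have hbW : ∀ x, α b x = x → x ∈ W' := hfixC g b hb hb1
  have hb1W : W ≠ ⊥ := fun h => hW'1 (by
    rw [← Subgroup.card_eq_one, hW'c, hw, h, Subgroup.card_bot])
  have hbne : W.map (α b).toMonoidHom ≠ W := by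
    intro he
    have hbp : IsPGroup 2 (Subgroup.zpowers (α b)) := by
      obtain ⟨e, he'⟩ := htwo hB'p b hb
      obtain ⟨i, -, hi⟩ := (Nat.dvd_prime_pow Nat.prime_two).1
        (orderOf_dvd_of_pow_eq_one (show α b ^ 2 ^ e = 1 by rw [← map_pow, he', map_one]))
      exact IsPGroup.of_card (n := i) (by rw [Nat.card_zpowers, hi])
    obtain ⟨x, hx, hx1, hxf⟩ := exists_fixed_ne_one (p := 2) hV hbp (D := W) hb1W fun f hf x hx => by
      obtain ⟨i, rfl⟩ := (mem_powers_iff_mem_zpowers (x := α b)).2 hf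
      dsimp only
      induction i with
      | zero => simpa using hx
      | succ i ih =>
        rw [pow_succ', MulAut.mul_apply]
        exact he.le ⟨_, ih ⟨i, by simp⟩, rfl⟩
    exact hx1 (hinfW x hx (hbW x (hxf _ (Subgroup.mem_zpowers _))))
  -- the orbit of `W'` is everything
  obtain ⟨a, ha, hab'⟩ : ∃ a ∈ B, W'.map (α a).toMonoidHom = W.map (α b).toMonoidHom := by
    by_contra hno
    push Not at hno
    let S : Option (Option (B.map α)) → Subgroup V := fun i =>
      match i with
      | none => W.map (α b).toMonoidHom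
      | some none => W
      | some (some f) => W'.map (f : MulAut V).toMonoidHom
    have hSk : ∀ i, ∃ k : H, S i = W.map (α k).toMonoidHom := by
      rintro (_ | _ | ⟨_, a, ha, rfl⟩)
      · exact ⟨b, rfl⟩
      · refine ⟨1, ?_⟩
        ext x
        simp [S, Subgroup.mem_map]
      · refine ⟨a * g, ?_⟩
        show W'.map (α a).toMonoidHom = _
        rw [hW', hB', fixOf_conj, Subgroup.map_map, map_mul]
        rfl
    have hWne : ∀ a ∈ B, W'.map (α a).toMonoidHom ≠ W := by
      intro a ha he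
      refine hW'1 (eq_bot_iff.2 fun x hx => Subgroup.mem_bot.2 (hinfW x ?_ hx))
      have hax : α a x ∈ W := he.le ⟨x, hx, rfl⟩
      have h1 := hax a⁻¹ (B.inv_mem ha)
      rw [map_inv, MulAut.inv_apply_self] at h1
      exact h1.symm ▸ hax
    have hSinj : Function.Injective S := by
      rintro (_ | _ | ⟨_, a, ha, rfl⟩) (_ | _ | ⟨_, c, hc, rfl⟩) he <;> simp only [S] at he
      · rfl
      · exact absurd he hbne
      · exact absurd he.symm (hno c hc)
      · exact absurd he.symm hbne
      · rfl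
      · exact absurd he.symm (hWne c hc)
      · exact absurd he (hno a ha)
      · exact absurd he (hWne a ha)
      · congr 2
        refine Subtype.ext ?_
        by_contra hne
        set d := c⁻¹ * a with hd
        have hdB : d ∈ B := B.mul_mem (B.inv_mem hc) ha
        have hd1 : α d ≠ 1 := fun h => hne (by rwa [hd, map_mul, map_inv, inv_mul_eq_one, eq_comm] at h)
        have hdW : ∀ x ∈ W', α d x ∈ W' := by
          intro x hx
          obtain ⟨y, hy, hyx⟩ := he.le ⟨x, hx, rfl⟩
          rw [hd, map_mul, map_inv, MulAut.mul_apply]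
          rw [show α a x = α c y from hyx.symm, MulAut.inv_apply_self]
          exact hy
        have hdp : IsPGroup 2 (Subgroup.zpowers (α d)) := by
          obtain ⟨e, he'⟩ := htwo hB d hdB
          obtain ⟨i, -, hi⟩ := (Nat.dvd_prime_pow Nat.prime_two).1
            (orderOf_dvd_of_pow_eq_one (show α d ^ 2 ^ e = 1 by rw [← map_pow, he', map_one]))
          exact IsPGroup.of_card (n := i) (by rw [Nat.card_zpowers, hi])
        obtain ⟨x, hx, hx1, hxf⟩ := exists_fixed_ne_one (p := 2) hV hdp (D := W') hW'1 fun f hf x hx => by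
          obtain ⟨i, rfl⟩ := (mem_powers_iff_mem_zpowers (x := α d)).2 hf
          dsimp only
          induction i with
          | zero => simpa using hx
          | succ i ih =>
            rw [pow_succ', MulAut.mul_apply]
            exact hdW _ (ih ⟨i, by simp⟩)
        exact hx1 (hfree d hdB hd1 x hx (hxf _ (Subgroup.mem_zpowers _)))
    have hSdisj : ∀ i j, ∀ x, x ≠ 1 → x ∈ S i → x ∈ S j → i = j := by
      intro i j x hx1 hxi hxj
      obtain ⟨k, hk⟩ := hSk i
      obtain ⟨l, hl⟩ := hSk j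
      apply hSinj
      rw [hk, hl]
      rw [hk] at hxi
      rw [hl] at hxj
      obtain ⟨y, hy, hyx⟩ := hxi
      obtain ⟨z, hz, hzx⟩ := hxj
      have h1 := hTI (k⁻¹ * l) fun h => hx1 (by
        have hy' : y ∈ W ⊓ W.map (α (k⁻¹ * l)).toMonoidHom := by
          refine ⟨hy, z, hz, ?_⟩
          rw [MulEquiv.coe_toMonoidHom, map_mul, map_inv, MulAut.mul_apply,
            show α l z = α k y from hzx.trans hyx.symm, MulAut.inv_apply_self]
        rw [h, Subgroup.mem_bot] at hy'
        rw [← hyx, hy', map_one])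
      calc W.map (α k).toMonoidHom = (W.map (α (k⁻¹ * l)).toMonoidHom).map (α k).toMonoidHom := by rw [h1]
        _ = W.map (α l).toMonoidHom := by
          rw [Subgroup.map_map]
          congr 1
          refine MonoidHom.ext fun x => ?_
          simp
    have hScard : ∀ i, Nat.card (S i) = w := by
      intro i
      obtain ⟨k, hk⟩ := hSk i
      rw [hk, Subgroup.card_map_of_injective (f := (α k).toMonoidHom) (α k).injective]
    have hnum : ∀ i, Nat.card {x : S i // x ≠ 1} = w - 1 := by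
      intro i
      rw [← hScard i]
      classical
      have h := Nat.card_congr (Equiv.sumCompl (fun x : S i => x = 1))
      rw [Nat.card_sum] at h
      have h1 : Nat.card {x : S i // x = 1} = 1 := Nat.card_unique
      change Nat.card {x : S i // ¬ x = 1} = _
      omega
    let Φ : (Σ i, {x : S i // x ≠ 1}) → {x : V // x ≠ 1} :=
      fun p => ⟨p.2.1, fun h => p.2.2 (Subtype.ext h)⟩
    have hΦ : Function.Injective Φ := by
      rintro ⟨i, x, hx⟩ ⟨j, y, hy⟩ he
      have he' : (x : V) = y := congrArg Subtype.val he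
      have hij := hSdisj i j x (fun h => hx (Subtype.ext h)) x.2 (he' ▸ y.2)
      subst hij
      have : x = y := Subtype.ext he'
      subst this
      rfl
    have h1 := Nat.card_le_card_of_injective Φ hΦ
    have h2' : Nat.card {x : V // x ≠ 1} = w * w - 1 := by
      rw [← hv]
      classical
      have h := Nat.card_congr (Equiv.sumCompl (fun x : V => x = 1))
      rw [Nat.card_sum] at h
      have h1' : Nat.card {x : V // x = 1} = 1 := Nat.card_unique
      change Nat.card {x : V // ¬ x = 1} = _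
      omega
    classical
    letI := Fintype.ofFinite (Option (Option (B.map α)))
    rw [Nat.card_sigma, h2', Finset.sum_congr rfl (fun i _ => hnum i), Finset.sum_const,
      Finset.card_univ, ← Nat.card_eq_fintype_card, Finite.card_option, Finite.card_option, ← hm,
      hmeq, smul_eq_mul] at h1
    have hw2 : 2 ≤ w := (Subgroup.one_lt_card_iff_ne_bot W).2 hb1W
    obtain ⟨x, hx⟩ := Nat.exists_eq_add_of_le hw2
    rw [hx, show (2 + x + 1 + 1) * (2 + x - 1) = x * x + 5 * x + 4 by
      rw [show 2 + x - 1 = x + 1 by omega]; ring,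
      show (2 + x) * (2 + x) = x * x + 4 * x + 4 by ring] at h1
    omega
  have ha1 : α a ≠ 1 := by
    intro h
    rw [h] at hab'
    refine hb1W (eq_bot_iff.2 fun y hy => Subgroup.mem_bot.2 (hinfW y hy ?_))
    obtain ⟨u, hu, hue⟩ := hab'.ge ⟨y, hy, rfl⟩
    have h1 := hu b⁻¹ (B'.inv_mem hb)
    rw [map_inv] at h1
    have : y = u := by
      rw [← h1, show (u : V) = α b y from hue, MulAut.inv_apply_self]
    exact this ▸ hu
  -- `[W, b] ≤ W'`
  have hquad' : ∀ y, α b y / y ∈ W' := by
    obtain ⟨c, hc, rfl⟩ := hb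
    intro y
    rw [hW', hB', fixOf_conj]
    refine ⟨α c ((α g)⁻¹ y) / (α g)⁻¹ y, hquad c hc _, ?_⟩
    rw [MulEquiv.coe_toMonoidHom, map_div, MulAut.apply_inv_self, MulEquiv.coe_toMonoidHom,
      MulAut.conj_apply, map_mul, map_mul, map_inv, MulAut.mul_apply, MulAut.mul_apply]
  -- the relation between `a` and `b`
  have hW'b : ∀ u ∈ W', α b u = u := fun u hu => hu b hb
  have hpair : ∀ y ∈ W, ∃ u ∈ W', α b y = y * u ∧ α a u = u * y := by
    intro y hy
    obtain ⟨u, hu, hue⟩ := hab'.ge ⟨y, hy, rfl⟩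
    have hue' : α a u = α b y := hue
    set d := α a u / u with hd
    set e := α b y / y with he
    have h1 : α a u = u * d := by rw [hd, mul_div_cancel]
    have h3 : α b y = y * e := by rw [he, mul_div_cancel]
    have h4 : u * d = y * e := by rw [← h1, hue', h3]
    have h5 : u / e = y / d := by rw [div_eq_div_iff_mul_eq_mul]; exact h4
    have h6 : u / e = 1 :=
      hinfW _ (h5 ▸ W.div_mem hy (hquad a ha u)) (W'.div_mem hu (hquad' y))
    have h7 : y / d = 1 := h5 ▸ h6
    rw [div_eq_one] at h6 h7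
    exact ⟨u, hu, by rw [h3, h6], by rw [h1, ← h7]⟩
  have hpair' : ∀ u ∈ W', ∃ y ∈ W, α b y = y * u ∧ α a u = u * y := by
    choose uf huf hb' ha' using hpair
    let φ : W → W' := fun y => ⟨uf y y.2, huf y y.2⟩
    have hφ : Function.Injective φ := by
      intro y y' he
      have he' : uf y y.2 = uf y' y'.2 := congrArg Subtype.val he
      refine Subtype.ext ?_
      have := (ha' y y.2).symm.trans ((congrArg (α a) he').trans (ha' y' y'.2))
      rw [he'] at this
      exact mul_left_cancel this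
    intro u hu
    obtain ⟨y, hy⟩ := ((Nat.bijective_iff_injective_and_card φ).2 ⟨hφ, hW'c.symm⟩).2 ⟨u, hu⟩
    have hy' : uf y y.2 = u := congrArg Subtype.val hy
    exact ⟨y, y.2, hy' ▸ hb' y y.2, hy' ▸ ha' y y.2⟩
  have hinvA : ∀ x, α a (α a x) = x := by
    intro x
    obtain ⟨u, hu, y, hy, rfl⟩ := hdec x
    obtain ⟨y', hy', -, h1⟩ := hpair' u hu
    rw [map_mul, map_mul, h1, map_mul, hy a ha, hy a ha, hy' a ha, h1, mul_assoc u, hsq, mul_one]
  have hinvB : ∀ x, α b (α b x) = x := by
    intro x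
    obtain ⟨u, hu, y, hy, rfl⟩ := hdec x
    obtain ⟨u', hu', h1, -⟩ := hpair y hy
    rw [map_mul, map_mul, hW'b u hu, hW'b u hu, h1, map_mul, h1, hW'b u' hu', mul_assoc y, hsq, mul_one]
  have hbraid : α a * α b * α a = α b * α a * α b := by
    refine MulEquiv.ext fun x => ?_
    obtain ⟨u, hu, y, hy, rfl⟩ := hdec x
    rw [map_mul, map_mul]
    simp only [MulAut.mul_apply]
    congr 1
    · obtain ⟨z, hz, h1, h3⟩ := hpair' u hu
      have e1 : α a (α b (α a u)) = z := by
        rw [h3, map_mul, hW'b u hu, h1, mul_left_comm, hsq, mul_one, hz a ha]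
      rw [e1, hW'b u hu, h3, map_mul, hW'b u hu, h1, mul_left_comm, hsq, mul_one]
    · obtain ⟨z, hz, h1, h3⟩ := hpair y hy
      have e1 : α a (α b (α a y)) = z := by
        rw [hy a ha, h1, map_mul, hy a ha, h3, mul_left_comm, hsq, mul_one]
      rw [e1, h1, map_mul, hy a ha, h3, mul_left_comm, hsq, mul_one, hW'b z hz]
  have hAA : α a * α a = 1 := MulEquiv.ext hinvA
  have hBB : α b * α b = 1 := MulEquiv.ext hinvB
  refine HasInvertedThree.lift α hker (a := a) (b := a * b) ?_ ?_ ?_
  · rw [map_mul, pow_succ, pow_two]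
    calc α a * α b * (α a * α b) * (α a * α b)
        = (α a * α b * α a) * (α b * α a * α b) := by group
      _ = (α a * α b * α a) * (α a * α b * α a) := by rw [hbraid]
      _ = α a * α b * (α a * α a) * α b * α a := by group
      _ = α a * (α b * α b) * α a := by rw [hAA]; group
      _ = 1 := by rw [hBB, mul_one, hAA]
  · rw [map_mul]
    intro h
    have heq : α a = α b := by rw [mul_eq_one_iff_eq_inv.1 h]; exact inv_eq_of_mul_eq_one_right hBB
    refine hW'1 (eq_bot_iff.2 fun u hu => Subgroup.mem_bot.2 (hfree a ha ha1 u hu ?_))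
    rw [heq]; exact hW'b u hu
  · rw [map_mul, mul_inv_rev, inv_eq_of_mul_eq_one_right hAA, inv_eq_of_mul_eq_one_right hBB,
      ← mul_assoc, hAA, one_mul]

end Cfsg.Agent.Invol
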