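import Mathlib
import Cfsg.Agent.Lib.Invol.Sylow

/-!
# Transfer of an involution
-/

namespace Cfsg.Agent.Invol

variable {G : Type*} [Group G] [Finite G] {A : Type*} [CommGroup A]

omit [Finite G] in
/-- The cosets `q` fixed by `z` are the cosets `xH` with `x⁻¹ z x ∈ H`. -/
theorem smul_mk_eq_iff {H : Subgroup G} {z x : G} :
    z • (QuotientGroup.mk x : G ⧸ H) = QuotientGroup.mk x ↔ x⁻¹ * z * x ∈ H := by
  rw [MulAction.Quotient.smul_mk, eq_comm, QuotientGroup.eq, mul_assoc, smul_eq_mul]

open Classical in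
/-- The value of the transfer at an involution: only fixed cosets contribute. -/
theorem transfer_involution {H : Subgroup G} [Fintype (G ⧸ H)] (φ : H →* A) {z : G}
    (hz : z * z = 1) :
    MonoidHom.transfer φ z =
      ∏ q : G ⧸ H, if h : q.out⁻¹ * z * q.out ∈ H then φ ⟨_, h⟩ else 1 := by
  have hout : ∀ q : G ⧸ H, (QuotientGroup.mk q.out : G ⧸ H) = q := QuotientGroup.out_eq'
  have hzi : z⁻¹ = z := inv_eq_of_mul_eq_one_right hz
  let T : H.LeftTransversal := ⟨Set.range Quotient.out, Subgroup.isComplement_range_left hout⟩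
  have hmem : ∀ q : G ⧸ H, q.out⁻¹ * z * (z • q).out ∈ H := by
    intro q
    rw [mul_assoc, ← QuotientGroup.eq, hout]
    change q = z • (QuotientGroup.mk (z • q).out : G ⧸ H)
    rw [hout, smul_smul, hz, one_smul]
  set t : G ⧸ H → A := fun q => φ ⟨q.out⁻¹ * z * (z • q).out, hmem q⟩ with ht
  set f : G ⧸ H → A := fun q => if h : q.out⁻¹ * z * q.out ∈ H then φ ⟨_, h⟩ else 1 with hf
  have h1 : MonoidHom.transfer φ z = ∏ q, t q := by
    rw [MonoidHom.transfer_def φ T z, Subgroup.leftTransversals.diff]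
    refine Finset.prod_congr (by ext; simp) fun q _ => congrArg φ (Subtype.ext ?_)
    have hT : ∀ r, ((T.2.leftQuotientEquiv r : T.1) : G) = r.out := fun r =>
      Subgroup.IsComplement.leftQuotientEquiv_apply hout r
    change ((T.2.leftQuotientEquiv q : T.1) : G)⁻¹ * (((z • T).2.leftQuotientEquiv q : (z • T).1) : G) = _
    rw [Subgroup.smul_apply_eq_smul_apply_inv_smul, hT, hT, smul_eq_mul, hzi]
    exact (mul_assoc _ _ _).symm
  have h2 : ∏ q, t q * (f q)⁻¹ = 1 := by
    refine Finset.prod_involution (fun q _ => z • q) ?_ ?_ (fun q _ => Finset.mem_univ _) ?_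
    · intro q _
      by_cases hq : z • q = q
      · have h : q.out⁻¹ * z * q.out ∈ H := by rw [← smul_mk_eq_iff, hout, hq]
        have : t q * (f q)⁻¹ = 1 := by
          rw [mul_inv_eq_one, hf, ht]
          simp only [h, dif_pos, hq]
        rw [hq, this, one_mul]
      · have hq' : z • (z • q) ≠ z • q := fun h => hq ((MulAction.injective z) h)
        have h : q.out⁻¹ * z * q.out ∉ H := by rwa [← smul_mk_eq_iff, hout]
        have h' : (z • q).out⁻¹ * z * (z • q).out ∉ H := by rwa [← smul_mk_eq_iff, hout]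
        simp only [hf, dif_neg h, dif_neg h', inv_one, mul_one, ht, ← map_mul]
        refine (congrArg φ (Subtype.ext ?_)).trans (map_one φ)
        have h3 : (z • (z • q)).out = q.out := by rw [smul_smul, hz, one_smul]
        simp only [Subgroup.coe_mul, h3, Subgroup.coe_one]
        calc q.out⁻¹ * z * (z • q).out * ((z • q).out⁻¹ * z * q.out)
            = q.out⁻¹ * (z * z) * q.out := by group
          _ = 1 := by rw [hz]; group
    · intro q _ hne hq
      refine hne ?_
      have h : q.out⁻¹ * z * q.out ∈ H := by rw [← smul_mk_eq_iff, hout, hq]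
      rw [mul_inv_eq_one, hf, ht]
      simp only [h, dif_pos, hq]
    · intro q _
      rw [smul_smul, hz, one_smul]
  rw [h1]
  rwa [Finset.prod_mul_distrib, Finset.prod_inv_distrib, mul_inv_eq_one] at h2

open Classical in
/-- If the transfer kills the involution `z` and the values at the conjugates of `z` in `H` lie in
`{1, ι}`, then evenly many fixed cosets give the value `ι`. -/
theorem even_card_of_transfer_eq_one {H : Subgroup G} (φ : H →* A) {z : G} (hz : z * z = 1)
    [H.FiniteIndex] (htr : MonoidHom.transfer φ z = 1) {ι : A} (hι : orderOf ι = 2)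
    (huniq : ∀ a : A, orderOf a = 2 → a = ι) :
    Even (Nat.card {q : G ⧸ H // ∃ x : G, QuotientGroup.mk x = q ∧
      ∃ h : x⁻¹ * z * x ∈ H, φ ⟨_, h⟩ ≠ 1}) := by
  have := Fintype.ofFinite (G ⧸ H)
  rw [transfer_involution φ hz] at htr
  set f : G ⧸ H → A := fun q => if h : q.out⁻¹ * z * q.out ∈ H then φ ⟨_, h⟩ else 1 with hf
  have hval : ∀ q, f q = 1 ∨ f q = ι := by
    intro q
    by_cases h1 : f q = 1
    · exact .inl h1
    refine .inr (huniq _ (orderOf_eq_prime ?_ h1))
    rw [hf]
    dsimp only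
    split_ifs with h
    · rw [← map_pow]
      refine (congrArg φ (Subtype.ext ?_)).trans (map_one φ)
      simp only [SubgroupClass.coe_pow, pow_two, Subgroup.coe_one]
      calc q.out⁻¹ * z * q.out * (q.out⁻¹ * z * q.out) = q.out⁻¹ * (z * z) * q.out := by group
        _ = 1 := by rw [hz]; group
    · exact one_pow 2
  have hiff : ∀ q : G ⧸ H, (∃ x : G, QuotientGroup.mk x = q ∧
      ∃ h : x⁻¹ * z * x ∈ H, φ ⟨_, h⟩ ≠ 1) ↔ f q ≠ 1 := by
    intro q
    constructor
    · rintro ⟨x, rfl, h, hne⟩
      obtain ⟨s, hs⟩ := QuotientGroup.mk_out_eq_mul H x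
      set o := (QuotientGroup.mk x : G ⧸ H).out with ho
      have e : o⁻¹ * z * o = (s : G)⁻¹ * (x⁻¹ * z * x) * s := by rw [hs]; group
      have ho' : o⁻¹ * z * o ∈ H := e ▸ mul_mem (mul_mem (inv_mem s.2) h) s.2
      rw [hf]
      dsimp only
      rw [dif_pos ho']
      have : (⟨_, ho'⟩ : H) = s⁻¹ * ⟨_, h⟩ * s := Subtype.ext (by simpa using e)
      rw [this, map_mul, map_mul, map_inv, mul_comm, mul_inv_cancel_left]
      exact hne
    · intro hne
      rw [hf] at hne
      dsimp only at hne
      split_ifs at hne with h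
      · exact ⟨q.out, QuotientGroup.out_eq' q, h, hne⟩
      · exact absurd rfl hne
  rw [Nat.card_congr (Equiv.subtypeEquivRight hiff), Nat.card_eq_fintype_card,
    Fintype.card_subtype]
  have hprod : ∏ q, f q = ι ^ (Finset.univ.filter fun q => f q ≠ 1).card := by
    rw [← Finset.prod_filter_ne_one]
    refine Finset.prod_eq_pow_card fun q hq => ?_
    exact (hval q).resolve_left (Finset.mem_filter.mp hq).2
  rw [hprod] at htr
  exact even_iff_two_dvd.mpr (hι ▸ orderOf_dvd_of_pow_eq_one htr)

/-- A `p`-group acting on an invariant set of cosets: cardinality mod `p` is that of the fixed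
ones. -/
theorem card_invariant_modEq {α : Type*} [MulAction G α] [Finite α] {p : ℕ} [Fact p.Prime]
    {R : Subgroup G} (hR : IsPGroup p R) (P : α → Prop) (hP : ∀ r ∈ R, ∀ a, P a → P (r • a)) :
    Nat.card {a // P a} ≡ Nat.card {a // P a ∧ ∀ r ∈ R, r • a = a} [MOD p] := by
  let act : SMul R {a // P a} := ⟨fun r a => ⟨(r : G) • a.1, hP r r.2 a.1 a.2⟩⟩
  let _ : MulAction R {a // P a} :=
    { toSMul := act
      one_smul := fun a => Subtype.ext (one_smul G a.1)
      mul_smul := fun r s a => Subtype.ext (mul_smul (r : G) (s : G) a.1) }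
  refine (hR.card_modEq_card_fixedPoints {a // P a}).trans ?_
  rw [Nat.card_congr (?_ : MulAction.fixedPoints R {a // P a} ≃ {a // P a ∧ ∀ r ∈ R, r • a = a})]
  exact
    { toFun := fun a => ⟨a.1.1, a.1.2, fun r hr => congrArg Subtype.val (a.2 ⟨r, hr⟩)⟩
      invFun := fun a => ⟨⟨a.1, a.2.1⟩, fun r => Subtype.ext (a.2.2 r r.2)⟩
      left_inv := fun a => rfl
      right_inv := fun a => rfl }

/-- Oddly many cosets of a Sylow 2-subgroup are fixed by an involution. -/
theorem odd_card_fixed (S : Sylow 2 G) {z : G} (hz : orderOf z = 2) :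
    Odd (Nat.card {q : G ⧸ (S : Subgroup G) // z • q = q}) := by
  have hR : IsPGroup 2 (Subgroup.zpowers z) :=
    IsPGroup.of_card (n := 1) (by rw [Nat.card_zpowers, hz, pow_one])
  have h := card_invariant_modEq hR (fun _ : G ⧸ (S : Subgroup G) => True) (fun _ _ _ _ => trivial)
  have hodd : Odd (Nat.card (G ⧸ (S : Subgroup G))) := by
    rw [← Subgroup.index_eq_card, Nat.odd_iff, ← Nat.two_dvd_ne_zero]
    exact S.not_dvd_index
  rw [Nat.card_congr (Equiv.subtypeUnivEquiv (fun _ => trivial))] at h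
  have e : Nat.card {q : G ⧸ (S : Subgroup G) // True ∧ ∀ r ∈ Subgroup.zpowers z, r • q = q} =
      Nat.card {q : G ⧸ (S : Subgroup G) // z • q = q} := by
    refine Nat.card_congr (Equiv.subtypeEquivRight fun q => ⟨fun h => h.2 z (Subgroup.mem_zpowers z),
      fun h => ⟨trivial, ?_⟩⟩)
    intro r hr
    obtain ⟨n, rfl⟩ := Subgroup.mem_zpowers_iff.mp hr
    exact MulAction.mem_fixedBy.mp (MulAction.mem_fixedBy_zpowers_iff_mem_fixedBy.mpr (MulAction.mem_fixedBy.mpr h) n)
  rw [e] at h
  rw [Nat.odd_iff] at hodd ⊢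
  exact (Eq.trans (show _ % 2 = _ % 2 from h.symm) hodd)

end Cfsg.Agent.Invol
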