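import Cfsg.Agent.Lib.Invol.Transfer2

/-!
Transfer at a central involution of a Sylow 2-subgroup which is fixed by its normalizer.
-/

set_option autoImplicit false

namespace Cfsg.Agent.Invol

variable {G : Type*} [Group G] [Finite G]

/-- A central involution of a Sylow 2-subgroup `S`, fixed by `N(S)` and outside the kernel of a
homomorphism from `S` onto a group of order 2, forces a subgroup of index 2. -/
theorem exists_index_two_of_fixed_central (S : Sylow 2 G)
    (φ : ↥(S : Subgroup G) →* Multiplicative (ZMod 2)) {t : G} (ht : t * t = 1)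
    (htS : t ∈ (S : Subgroup G)) (hφ : φ ⟨t, htS⟩ ≠ 1)
    (hcent : ∀ s ∈ (S : Subgroup G), s * t = t * s)
    (hN : ∀ n ∈ Subgroup.normalizer ((S : Subgroup G) : Set G), n * t * n⁻¹ = t) :
    ∃ H : Subgroup G, H.index = 2 := by
  classical
  set τ := MonoidHom.transfer φ with hτ
  by_cases htr : τ t = 1
  · exfalso
    let P : G ⧸ (S : Subgroup G) → Prop := fun q => ∃ x : G, QuotientGroup.mk x = q ∧
      ∃ h : x⁻¹ * t * x ∈ (S : Subgroup G), φ ⟨_, h⟩ ≠ 1
    have hι : orderOf (Multiplicative.ofAdd (1 : ZMod 2)) = 2 :=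
      orderOf_eq_prime (by decide) (by decide)
    have hev := even_card_of_transfer_eq_one φ ht htr hι
      (fun a ha => (show ∀ b : Multiplicative (ZMod 2), b ≠ 1 → b = Multiplicative.ofAdd 1 by decide)
        a (fun e => by rw [e, orderOf_one] at ha; omega))
    have hinv : ∀ r ∈ (S : Subgroup G), ∀ q, P q → P (r • q) := by
      rintro r hr q ⟨x, rfl, h, hne⟩
      have e : (r * x)⁻¹ * t * (r * x) = x⁻¹ * t * x := by
        calc (r * x)⁻¹ * t * (r * x) = x⁻¹ * r⁻¹ * (t * r) * x := by group
          _ = x⁻¹ * r⁻¹ * (r * t) * x := by rw [hcent r hr]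
          _ = x⁻¹ * t * x := by group
      refine ⟨r * x, rfl, e ▸ h, ?_⟩
      convert hne using 3
    have h1 := card_invariant_modEq S.isPGroup' P hinv
    have h2 := card_invariant_modEq S.isPGroup' (fun _ : G ⧸ (S : Subgroup G) => True)
      (fun _ _ _ _ => trivial)
    have hfix : ∀ q : G ⧸ (S : Subgroup G), (∀ r ∈ (S : Subgroup G), r • q = q) → P q := by
      intro q hq
      obtain ⟨x, rfl⟩ := QuotientGroup.mk_surjective q
      have hx : x⁻¹ ∈ Subgroup.normalizer ((S : Subgroup G) : Set G) :=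
        Subgroup.mem_normalizer_fintype fun r hr => by
          show x⁻¹ * r * x⁻¹⁻¹ ∈ (S : Subgroup G)
          rw [inv_inv]
          exact smul_mk_eq_iff.mp (hq r hr)
      have e : x⁻¹ * t * x = t := by simpa using hN _ hx
      refine ⟨x, rfl, e.symm ▸ htS, ?_⟩
      convert hφ using 3
    have e1 : Nat.card {q : G ⧸ (S : Subgroup G) // P q ∧ ∀ r ∈ (S : Subgroup G), r • q = q} =
        Nat.card {q : G ⧸ (S : Subgroup G) // True ∧ ∀ r ∈ (S : Subgroup G), r • q = q} :=
      Nat.card_congr (Equiv.subtypeEquivRight fun q =>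
        ⟨fun h => ⟨trivial, h.2⟩, fun h => ⟨hfix q h.2, h.2⟩⟩)
    rw [Nat.card_congr (Equiv.subtypeUnivEquiv (fun _ => trivial)), ← Subgroup.index_eq_card] at h2
    rw [e1] at h1
    have hodd : (S : Subgroup G).index % 2 = 1 := Nat.two_dvd_ne_zero.mp S.not_dvd_index
    have h3 : Nat.card {q // P q} % 2 = (S : Subgroup G).index % 2 := h1.trans h2.symm
    rw [hodd] at h3
    exact absurd (Nat.even_iff.mp hev) (by simp only [P] at h3; omega)
  · refine ⟨τ.ker, ?_⟩
    rw [Subgroup.index_ker]
    have hdvd : Nat.card τ.range ∣ 2 := by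
      simpa using Subgroup.card_subgroup_dvd_card τ.range
    rcases (Nat.dvd_prime Nat.prime_two).mp hdvd with h | h
    · exact absurd (Subgroup.mem_bot.mp ((Subgroup.card_eq_one.mp h).le ⟨t, rfl⟩)) htr
    · exact h

end Cfsg.Agent.Invol
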