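import Cfsg.Agent.Lib.Invol.D8Recognition
import Cfsg.Agent.Lib.Invol.V4Simple
import Cfsg.Agent.S1012

/-!
An involution with dihedral centralizer of order eight, fused with a reflection, in a group with a
subgroup of index two.
-/

set_option autoImplicit false
set_option linter.unusedSectionVars false
set_option linter.style.haveILetI false

namespace Cfsg.Agent.Invol.D8Order

universe u

theorem d8_pair_comm : ∀ i : ZMod 4, ∀ x : DihedralGroup 4, x * .sr i = .sr i * x →
    x = 1 ∨ x = .r 2 ∨ x = .sr i ∨ x = .r 2 * .sr i := by decide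

variable {G : Type u} [Group G] [Finite G] {t : G}

/-- A subgroup of index two contains the four group of the centralizer and is a group with one
class of involutions and centralizer of order four. -/
theorem kernel_facts (ht : orderOf t = 2) (e : Subgroup.centralizer ({t} : Set G) ≃* DihedralGroup 4)
    {u : G} (huC : u ∈ Subgroup.centralizer ({t} : Set G)) (hut : u ≠ t) (htu : IsConj t u)
    (K : Subgroup G) (hK : K.index = 2) :
    t ∈ K ∧ u ∈ K ∧ Nat.card ↥(Subgroup.centralizer ({t} : Set G) ⊓ K) = 4 ∧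
      (∀ c ∈ Subgroup.centralizer ({t} : Set G) ⊓ K, c = 1 ∨ c = t ∨ c = u ∨ c = t * u) ∧
      (∀ v ∈ K, orderOf v = 2 → ∃ k ∈ K, k * t * k⁻¹ = v) ∧ t * u ≠ 1 ∧ u * u = 1 ∧ t * u = u * t := by
  classical
  haveI := Fact.mk Nat.prime_two
  haveI := Fintype.ofFinite G
  haveI := Subgroup.normal_of_index_eq_two hK
  have h8 := card_eight ht e
  have htt : t * t = 1 := by rw [← pow_two, ← ht, pow_orderOf_eq_one]
  have ht1 : t ≠ 1 := fun h => by rw [h, orderOf_one] at ht; omega
  set C := Subgroup.centralizer ({t} : Set G) with hC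
  have htC : t ∈ C := Subgroup.mem_centralizer_singleton_iff.2 rfl
  obtain ⟨hu2, hu1⟩ : u * u = 1 ∧ u ≠ 1 := by
    obtain ⟨g, rfl⟩ := isConj_iff.1 htu
    refine ⟨by rw [show g * t * g⁻¹ * (g * t * g⁻¹) = g * (t * t) * g⁻¹ by group, htt]; group, fun h => ht1 ?_⟩
    rwa [mul_inv_eq_one, mul_eq_left] at h
  have htu1 : t * u ≠ 1 := fun h => hut (by rw [← mul_right_inj t, htt, h])
  have hcomm : t * u = u * t := (Subgroup.mem_centralizer_singleton_iff.1 huC).symm
  have htK : t ∈ K := by
    have h : ((e.symm (.r 1) : C) : G) * (e.symm (.r 1) : C) ∈ K := Subgroup.mul_self_mem_of_index_two hK _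
    rwa [← Subgroup.coe_mul, ← map_mul, show (DihedralGroup.r 1 : DihedralGroup 4) * .r 1 = .r 2 by decide,
      coe_r_two ht e] at h
  have huK : u ∈ K := by
    obtain ⟨g, rfl⟩ := isConj_iff.1 htu
    exact Subgroup.Normal.conj_mem inferInstance t htK g
  -- the centralizer is not inside `K`
  obtain ⟨S, hS⟩ := exists_sylow_eq ht e
  obtain ⟨c₀, hc₀, hc₀K⟩ : ∃ c ∈ C, c ∉ K := by
    by_contra h
    push Not at h
    refine S.not_dvd_index ?_
    have h1 := Subgroup.index_dvd_of_le (H := C) (K := K) h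
    rw [hS]
    rwa [hK] at h1
  have hrel : Nat.card ↥(C ⊓ K) = 4 := by
    have h1 : K.relIndex C ∣ 2 := hK ▸ K.relIndex_dvd_index_of_normal C
    have h2 : K.relIndex C ≠ 1 := fun h => hc₀K (Subgroup.relIndex_eq_one.1 h hc₀)
    have h3 := (K.subgroupOf C).card_mul_index
    rw [← Subgroup.relIndex, h8] at h3
    have h4 : Nat.card (K.subgroupOf C) = Nat.card ↥(C ⊓ K) := by
      rw [← Subgroup.inf_subgroupOf_left]
      exact Nat.card_congr (Subgroup.subgroupOfEquivOfLe inf_le_left).toEquiv
    have h5 := (Nat.dvd_prime Nat.prime_two).1 h1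
    rw [h4] at h3
    rcases h5 with h | h
    · exact absurd h h2
    · rw [h] at h3; omega
  have hmem : ∀ c ∈ C ⊓ K, c = 1 ∨ c = t ∨ c = u ∨ c = t * u := by
    intro c hc
    by_contra h
    push Not at h
    obtain ⟨h1, h2, h3, h4⟩ := h
    have hsub : ({1, t, u, t * u, c} : Finset G) ⊆ Finset.univ.filter (fun x => x ∈ C ⊓ K) := by
      intro x hx
      simp only [Finset.mem_insert, Finset.mem_singleton] at hx
      refine Finset.mem_filter.2 ⟨Finset.mem_univ _, ?_⟩
      rcases hx with rfl | rfl | rfl | rfl | rfl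
      · exact one_mem _
      · exact ⟨htC, htK⟩
      · exact ⟨huC, huK⟩
      · exact ⟨C.mul_mem htC huC, K.mul_mem htK huK⟩
      · exact hc
    have := Finset.card_le_card hsub
    rw [← Fintype.card_subtype, ← Nat.card_eq_fintype_card, hrel,
      Finset.card_insert_of_notMem, Finset.card_insert_of_notMem, Finset.card_insert_of_notMem,
      Finset.card_pair h4.symm] at this
    · omega
    · simp only [Finset.mem_insert, Finset.mem_singleton, not_or]
      exact ⟨fun h => ht1 (mul_eq_right.1 h.symm), h3.symm⟩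
    · simp only [Finset.mem_insert, Finset.mem_singleton, not_or]
      exact ⟨hut.symm, fun h => hu1 (mul_eq_left.1 h.symm), h2.symm⟩
    · simp only [Finset.mem_insert, Finset.mem_singleton, not_or]
      exact ⟨ht1.symm, hu1.symm, htu1.symm, h1.symm⟩
  refine ⟨htK, huK, hrel, hmem, fun v hvK hv => ?_, htu1, hu2, hcomm⟩
  obtain ⟨P, hP⟩ := (IsPGroup.of_card (n := 1) (by rw [Nat.card_zpowers, hv, pow_one]) :
    IsPGroup 2 (Subgroup.zpowers v)).exists_le_sylow
  obtain ⟨g, hg⟩ := MulAction.exists_smul_eq G P S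
  have hvC : g * v * g⁻¹ ∈ C ⊓ K := by
    refine ⟨?_, Subgroup.Normal.conj_mem inferInstance v hvK g⟩
    show g * v * g⁻¹ ∈ C
    rw [hC, ← hS, ← hg]
    exact Subgroup.mem_map_of_mem (MulAut.conj g).toMonoidHom (hP (Subgroup.mem_zpowers _))
  have hconj : IsConj t (g * v * g⁻¹) := by
    rcases hmem _ hvC with h | h | h | h
    · exfalso
      rw [mul_inv_eq_one, mul_eq_left] at h
      rw [h, orderOf_one] at hv
      omega
    · rw [h]
    · rw [h]; exact htu
    · rw [h]
      obtain ⟨i, hi⟩ := exists_sr ht e huC hu2 hu1 hut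
      obtain ⟨w, hw⟩ := d8_partner i
      refine htu.trans (isConj_iff.2 ⟨(e.symm w : G), ?_⟩)
      have h1 := congrArg (fun d => (e.symm d : G)) hw
      simp only [map_mul, map_inv, Subgroup.coe_mul, Subgroup.coe_inv, hi, coe_r_two ht e] at h1
      exact h1
  obtain ⟨g', hg'⟩ := isConj_iff.1 (hconj.trans (isConj_iff.2 ⟨g, rfl⟩).symm)
  by_cases hgK : g' ∈ K
  · exact ⟨g', hgK, hg'⟩
  · refine ⟨g' * c₀, (Subgroup.mul_mem_iff_of_index_two hK).2 (by tauto), ?_⟩
    rw [← hg', show g' * c₀ * t * (g' * c₀)⁻¹ = g' * (c₀ * t) * c₀⁻¹ * g'⁻¹ by group,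
      Subgroup.mem_centralizer_singleton_iff.1 hc₀]
    group

/-- With a subgroup of index two the group is the symmetric group of degree four or five. -/
theorem symmetric_of_index_two (ht : orderOf t = 2)
    (e : Subgroup.centralizer ({t} : Set G) ≃* DihedralGroup 4)
    {u : G} (huC : u ∈ Subgroup.centralizer ({t} : Set G)) (hut : u ≠ t) (htu : IsConj t u)
    (K : Subgroup G) (hK : K.index = 2) :
    Nonempty (G ≃* Equiv.Perm (Fin 4)) ∨ Nonempty (G ≃* Equiv.Perm (Fin 5)) := by
  classical
  obtain ⟨htK, huK, hcard, hmem, hone, htu1, hu2, hcomm⟩ := kernel_facts ht e huC hut htu K hK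
  haveI := Subgroup.normal_of_index_eq_two hK
  have h8 := card_eight ht e
  have htt : t * t = 1 := by rw [← pow_two, ← ht, pow_orderOf_eq_one]
  have ht1 : t ≠ 1 := fun h => by rw [h, orderOf_one] at ht; omega
  set C := Subgroup.centralizer ({t} : Set G) with hC
  have htC : t ∈ C := Subgroup.mem_centralizer_singleton_iff.2 rfl
  set T : K := ⟨t, htK⟩ with hT
  have hTo : orderOf T = 2 := by rw [← Subgroup.orderOf_coe]; exact ht
  have hCT : ∀ k : K, k ∈ Subgroup.centralizer ({T} : Set K) ↔ (k : G) ∈ C := fun k => by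
    rw [hC, Subgroup.mem_centralizer_singleton_iff, Subgroup.mem_centralizer_singleton_iff]
    exact ⟨fun h => congrArg Subtype.val h, fun h => Subtype.ext h⟩
  have h4 : Nat.card (Subgroup.centralizer ({T} : Set K)) = 4 := by
    rw [← hcard]
    exact Nat.card_congr
      { toFun := fun k => ⟨(k : K), (hCT k).1 k.2, k.1.2⟩
        invFun := fun c => ⟨⟨c, c.2.2⟩, (hCT ⟨c, c.2.2⟩).2 c.2.1⟩
        left_inv := fun k => rfl
        right_inv := fun c => rfl }
  have hexpU : ∀ c ∈ C ⊓ K, c * c = 1 := by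
    intro c hc
    rcases hmem c hc with h | h | h | h <;> rw [h]
    · exact one_mul 1
    · exact htt
    · exact hu2
    · rw [mul_assoc, ← mul_assoc u t u, ← hcomm, mul_assoc t u u, hu2, mul_one, htt]
  have hexp : ∀ c ∈ Subgroup.centralizer ({T} : Set K), c * c = 1 := fun c hc =>
    Subtype.ext (hexpU c ⟨(hCT c).1 hc, c.2⟩)
  have honeK : ∀ v : K, orderOf v = 2 → IsConj T v := by
    intro v hv
    obtain ⟨k, hk, hk'⟩ := hone v v.2 (by rw [Subgroup.orderOf_coe]; exact hv)
    exact isConj_iff.2 ⟨⟨k, hk⟩, Subtype.ext hk'⟩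
  have hGK : Nat.card G = 2 * Nat.card K := by rw [← K.card_mul_index, hK, mul_comm]
  obtain ⟨i, hi⟩ := exists_sr ht e huC hu2 (fun h => htu1 (by
    rw [h] at htu ⊢; exact absurd (isConj_one_left.1 htu) ht1)) hut
  have hCU : ∀ c ∈ C, c * u = u * c → c ∈ K := by
    intro c hc hcu
    have h := d8_pair_comm i (e ⟨c, hc⟩) (e.symm.injective (by
      rw [map_mul, map_mul, e.symm_apply_apply]
      apply Subtype.ext
      rw [Subgroup.coe_mul, Subgroup.coe_mul, hi]
      exact hcu))
    have hval : ∀ d, e ⟨c, hc⟩ = d → c = (e.symm d : G) := fun d hd => by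
      rw [← hd, e.symm_apply_apply]
    rcases h with h | h | h | h <;> rw [hval _ h]
    · rw [map_one]; exact K.one_mem
    · rw [coe_r_two ht e]; exact htK
    · rw [hi]; exact huK
    · rw [map_mul, Subgroup.coe_mul, coe_r_two ht e, hi]; exact K.mul_mem htK huK
  rcases V4Order.order_eq T hTo h4 hexp honeK with h12 | h60
  · -- order twenty-four
    left
    have hn := V4Order.normal_of_twelve hTo h4 hexp honeK h12
    refine S1012.result (by omega) fun g hg => ?_
    set q := g ^ 2 with hq
    set v := g ^ 3 with hv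
    have hqo : orderOf q = 3 := by rw [hq, orderOf_pow' _ (by norm_num), hg]; rfl
    have hvo : orderOf v = 2 := by rw [hv, orderOf_pow' _ (by norm_num), hg]; rfl
    have hqv : q * v = v * q := (Commute.pow_pow_self g 2 3).eq
    have hqK : q ∈ K := by rw [hq, pow_two]; exact Subgroup.mul_self_mem_of_index_two hK g
    have hqC : ∀ x, IsConj t x → q * x ≠ x * q := by
      intro x hx hc
      obtain ⟨a, rfl⟩ := isConj_iff.1 hx
      have hmemC : a⁻¹ * q * a ∈ C := Subgroup.mem_centralizer_singleton_iff.2 (by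
        calc a⁻¹ * q * a * t = a⁻¹ * (q * (a * t * a⁻¹)) * a := by group
          _ = t * (a⁻¹ * q * a) := by rw [hc]; group)
      have := Subgroup.orderOf_dvd_natCard _ hmemC
      rw [h8, show a⁻¹ * q * a = MulAut.conj a⁻¹ q by simp, MulEquiv.orderOf_eq, hqo] at this
      norm_num at this
    by_cases hvK : v ∈ K
    · obtain ⟨k, -, hk⟩ := hone v hvK hvo
      exact hqC v (isConj_iff.2 ⟨k, hk⟩) hqv
    -- `v` normalizes the four group
    have hUn : ∀ c ∈ C ⊓ K, ∀ k ∈ K, k * c * k⁻¹ ∈ C ⊓ K := by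
      intro c hc k hk
      exact ⟨(hCT _).1 (hn.conj_mem ⟨c, hc.2⟩ ((hCT ⟨c, hc.2⟩).2 hc.1) ⟨k, hk⟩),
        Subgroup.Normal.conj_mem inferInstance c hc.2 k⟩
    have hvU : ∀ c ∈ C ⊓ K, v * c * v⁻¹ ∈ C ⊓ K := by
      intro c hc
      refine ⟨?_, Subgroup.Normal.conj_mem inferInstance c hc.2 v⟩
      by_cases hc1 : c = 1
      · rw [hc1]; simp
      have hco : orderOf (v * c * v⁻¹) = 2 := by
        rw [← MulAut.conj_apply, MulEquiv.orderOf_eq]
        exact orderOf_eq_prime (by rw [pow_two]; exact hexpU c hc) hc1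
      obtain ⟨k, hk, hk'⟩ := hone _ (Subgroup.Normal.conj_mem inferInstance c hc.2 v) hco
      rw [← hk']
      exact (hUn t ⟨htC, htK⟩ k hk).1
    -- a fixed point in the four group
    obtain ⟨w, hwU, hw1, hwv⟩ : ∃ w ∈ C ⊓ K, w ≠ 1 ∧ v * w * v⁻¹ = w := by
      by_contra hno
      push Not at hno
      have hvv : v * v = 1 := by rw [← pow_two, ← hvo, pow_orderOf_eq_one]
      have hnt := hno t ⟨htC, htK⟩ ht1
      have hne1 : v * t * v⁻¹ ≠ 1 := fun h => ht1 (by
        rw [mul_inv_eq_one, mul_eq_left] at h; exact h)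
      have hinv : v * (v * t * v⁻¹) * v⁻¹ = t := by
        rw [show v * (v * t * v⁻¹) * v⁻¹ = (v * v) * t * (v * v)⁻¹ by group, hvv]; group
      rcases hmem _ (hvU t ⟨htC, htK⟩) with h | h | h | h
      · exact hne1 h
      · exact hnt h
      · refine hno (t * u) ⟨C.mul_mem htC huC, K.mul_mem htK huK⟩ htu1 ?_
        rw [h] at hinv
        rw [show v * (t * u) * v⁻¹ = (v * t * v⁻¹) * (v * u * v⁻¹) by group, h, hinv, hcomm]
      · refine hno u ⟨huC, huK⟩ (fun h' => ?_) ?_
        · rw [h'] at htu; exact ht1 (isConj_one_left.1 htu)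
        · rw [h] at hinv
          rw [show v * u * v⁻¹ = (v * t * v⁻¹)⁻¹ * (v * (t * u) * v⁻¹) by group, h, hinv]
          rw [mul_inv_rev, inv_eq_of_mul_eq_one_right hu2, inv_eq_of_mul_eq_one_right htt, mul_assoc, htt,
            mul_one]
    -- so `v` centralizes all three
    have hwt : IsConj t w := by
      obtain ⟨k, -, hk⟩ := hone w hwU.2 (orderOf_eq_prime (by rw [pow_two]; exact hexpU w hwU) hw1)
      exact isConj_iff.2 ⟨k, hk⟩
    have hvw : v * w = w * v := mul_inv_eq_iff_eq_mul.1 hwv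
    set w' := q * w * q⁻¹ with hw'
    have hw'U : w' ∈ C ⊓ K := hUn w hwU q hqK
    have hvw' : v * w' = w' * v := by
      calc v * w' = (v * q) * w * q⁻¹ := by rw [hw']; group
        _ = q * (v * w) * q⁻¹ := by rw [← hqv]; group
        _ = q * w * (v * q⁻¹) := by rw [hvw]; group
        _ = w' * v := by
          rw [show v * q⁻¹ = q⁻¹ * v from ((show Commute v q from hqv.symm).inv_right).eq, hw']; group
    have hne : w' ≠ w := fun h => hqC w hwt (mul_inv_eq_iff_eq_mul.1 h)
    have hw'1 : w' ≠ 1 := fun h => hw1 (by rw [hw', mul_inv_eq_one, mul_eq_left] at h; exact h)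
    have hww : ∀ x ∈ C ⊓ K, v * x = x * v := by
      set D := Subgroup.centralizer ({v} : Set G) ⊓ (C ⊓ K) with hD
      have hdvd : Nat.card D ∣ 4 := hcard ▸ Subgroup.card_dvd_of_le inf_le_right
      have h3 : 3 ≤ Nat.card D := by
        have hsub : ({1, w, w'} : Set G) ⊆ (D : Set G) := by
          rintro x (rfl | rfl | rfl)
          · exact D.one_mem
          · exact ⟨Subgroup.mem_centralizer_singleton_iff.2 hvw.symm, hwU⟩
          · exact ⟨Subgroup.mem_centralizer_singleton_iff.2 hvw'.symm, hw'U⟩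
        have hn := Set.ncard_le_ncard hsub (Set.toFinite _)
        rw [Set.ncard_insert_of_notMem (by simp [hw1.symm, hw'1.symm]), Set.ncard_pair hne.symm,
          ← Nat.card_coe_set_eq, SetLike.coe_sort_coe] at hn
        omega
      have hD4 : Nat.card D = 4 := by
        have := Nat.le_of_dvd (by norm_num) hdvd
        have : Nat.card D ≠ 3 := fun h => by rw [h] at hdvd; norm_num at hdvd
        omega
      intro x hx
      have hDeq := Subgroup.eq_of_le_of_card_ge (inf_le_right : D ≤ C ⊓ K) (by rw [hD4, hcard])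
      rw [← hDeq] at hx
      exact (Subgroup.mem_centralizer_singleton_iff.1 hx.1).symm
    refine hvK (hCU v (Subgroup.mem_centralizer_singleton_iff.2 (hww t ⟨htC, htK⟩)) (hww u ⟨huC, huK⟩))
  · -- order one hundred and twenty
    right
    haveI := V4Order.simple_of_sixty hTo h4 hexp honeK h60
    have hU4 : Nat.card ↥(C ⊓ K) = 4 := hcard
    set M := Subgroup.normalizer ((C ⊓ K : Subgroup G) : Set G) with hM
    have hCM : C ≤ M := by
      intro c hc
      refine Subgroup.mem_normalizer_iff.2 fun x => ?_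
      have hconj : ∀ a ∈ C, ∀ y ∈ C ⊓ K, a * y * a⁻¹ ∈ C ⊓ K := fun a ha y hy =>
        ⟨C.mul_mem (C.mul_mem ha hy.1) (C.inv_mem ha), Subgroup.Normal.conj_mem inferInstance y hy.2 a⟩
      refine ⟨hconj c hc x, fun h => ?_⟩
      have := hconj c⁻¹ (C.inv_mem hc) _ h
      rwa [show c⁻¹ * (c * x * c⁻¹) * c⁻¹⁻¹ = x by group] at this
    have hG : Nat.card G = 120 := by omega
    have hM5 : ¬ 5 ∣ Nat.card M := fun h5 => by
      haveI : Fact (Nat.Prime 5) := ⟨by norm_num⟩
      obtain ⟨⟨q, hq⟩, hqo⟩ := exists_prime_orderOf_dvd_card' (G := M) 5 h5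
      rw [Subgroup.orderOf_mk] at hqo
      refine V4Order.five_not_normalize t ht1 (C ⊓ K) hU4 ⟨htC, htK⟩ ?_ q hqo hq
      intro q' hq' hc'
      have := Subgroup.orderOf_dvd_natCard _ (Subgroup.mem_centralizer_singleton_iff.2 hc' : q' ∈ C)
      rw [hq', h8] at this
      norm_num at this
    obtain ⟨k, hkK, hk⟩ := hone u huK (orderOf_eq_prime (by rw [pow_two, hu2])
      (fun h => by rw [h] at htu; exact ht1 (isConj_one_left.1 htu)))
    have hconjmem : ∀ y ∈ C ⊓ K, k * y * k⁻¹ ∈ C ⊓ K := by
      intro y hy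
      refine ⟨Subgroup.mem_centralizer_singleton_iff.2 ?_, Subgroup.Normal.conj_mem inferInstance y hy.2 k⟩
      -- it commutes with `u`, so it lies in the four group of `u`
      have hyu : k * y * k⁻¹ * u = u * (k * y * k⁻¹) := by
        have h : k * y * k⁻¹ * (k * t * k⁻¹) = k * t * k⁻¹ * (k * y * k⁻¹) := by
          calc k * y * k⁻¹ * (k * t * k⁻¹) = k * (y * t) * k⁻¹ := by group
            _ = k * t * k⁻¹ * (k * y * k⁻¹) := by rw [Subgroup.mem_centralizer_singleton_iff.1 hy.1]; group
        rwa [hk] at h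
      let g : ↥(C ⊓ K) → {z : G // z ∈ K ∧ z * u = u * z} := fun z => ⟨z, z.2.2, by
        rcases hmem z z.2 with h | h | h | h <;> rw [h]
        · rw [one_mul, mul_one]
        · exact hcomm
        · rw [mul_assoc, hu2, mul_one, ← mul_assoc, ← hcomm, mul_assoc, hu2, mul_one]⟩
      let g' : {z : G // z ∈ K ∧ z * u = u * z} → ↥(C ⊓ K) := fun z => ⟨k⁻¹ * z * k,
        Subgroup.mem_centralizer_singleton_iff.2 (by
          have hz : (z : G) * (k * t * k⁻¹) = k * t * k⁻¹ * z :=
            (congrArg (fun w => (z : G) * w) hk).trans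
              (z.2.2.trans (congrArg (fun w => w * (z : G)) hk.symm))
          calc k⁻¹ * z * k * t = k⁻¹ * ((z : G) * (k * t * k⁻¹)) * k := by group
            _ = t * (k⁻¹ * z * k) := by rw [hz]; group),
        K.mul_mem (K.mul_mem (K.inv_mem hkK) z.2.1) hkK⟩
      have hg : Function.Injective g := fun a b h => Subtype.ext (congrArg Subtype.val h :)
      have hg' : Function.Injective g' := fun a b h =>
        Subtype.ext (mul_left_cancel (mul_right_cancel (congrArg Subtype.val h :)))
      obtain ⟨⟨z, hz⟩, hzy⟩ := ((Function.Injective.bijective_of_nat_card_le hg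
        (Nat.card_le_card_of_injective g' hg')).2
          ⟨k * y * k⁻¹, Subgroup.Normal.conj_mem inferInstance y hy.2 k, hyu⟩)
      have : z = k * y * k⁻¹ := congrArg Subtype.val hzy
      rw [← this]
      exact Subgroup.mem_centralizer_singleton_iff.1 hz.1
    have hkM : k ∈ M := by
      refine Subgroup.mem_normalizer_iff.2 fun x => ⟨hconjmem x, fun h => ?_⟩
      let f : ↥(C ⊓ K) → ↥(C ⊓ K) := fun y => ⟨k * y * k⁻¹, hconjmem y y.2⟩
      have hf : Function.Injective f := fun a b h => by
        have h' : k * (a : G) * k⁻¹ = k * (b : G) * k⁻¹ := congrArg Subtype.val h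
        exact Subtype.ext (mul_left_cancel (mul_right_cancel h'))
      obtain ⟨y, hy⟩ := Finite.injective_iff_surjective.1 hf ⟨_, h⟩
      have hy' : k * (y : G) * k⁻¹ = k * x * k⁻¹ := congrArg Subtype.val hy
      exact mul_left_cancel (mul_right_cancel hy') ▸ y.2
    have hkC : k ∉ C := fun h => hut (by
      rw [← hk, Subgroup.mem_centralizer_singleton_iff.1 h, mul_inv_cancel_right])
    have hMtop : M ≠ ⊤ := fun h => hM5 (by rw [h, Subgroup.card_top, hG]; norm_num)
    have hMi : M.index = 5 := by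
      have h1 := M.card_mul_index
      have h2 : 8 ∣ Nat.card M := h8 ▸ Subgroup.card_dvd_of_le hCM
      have h3 : Nat.card M ≠ 8 := fun h => hkC ((Subgroup.eq_of_le_of_card_ge hCM (by omega)).symm ▸ hkM)
      rw [hG] at h1
      have hd : Nat.card M ∣ 120 := ⟨M.index, h1.symm⟩
      obtain ⟨c, hc⟩ := h2
      rw [hc] at hd h1 h3 hM5
      have hc15 : c ∣ 15 := Nat.dvd_of_mul_dvd_mul_left (by norm_num : 0 < 8) hd
      have hle := Nat.le_of_dvd (by norm_num) hc15
      interval_cases c <;> omega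
    haveI : Fintype (G ⧸ M) := Fintype.ofFinite _
    let f : G →* Equiv.Perm (G ⧸ M) := MulAction.toPermHom G (G ⧸ M)
    have hker : M.normalCore = ⊥ := by
      have hNK : M.normalCore ⊓ K = ⊥ := by
        rcases IsSimpleGroup.eq_bot_or_eq_top_of_normal _
          (inferInstance : (M.normalCore.subgroupOf K).Normal) with h | h
        · rw [Subgroup.subgroupOf_eq_bot] at h
          exact disjoint_iff.1 h
        · exfalso
          rw [Subgroup.subgroupOf_eq_top] at h
          have hd := Subgroup.card_dvd_of_le (h.trans M.normalCore_le)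
          rw [h60] at hd
          exact hM5 ((by norm_num : 5 ∣ 60).trans hd)
      rw [Subgroup.eq_bot_iff_forall]
      intro v hv
      by_contra hv1
      have hvK : v ∉ K := fun h => hv1 (by
        have : v ∈ M.normalCore ⊓ K := ⟨hv, h⟩
        rwa [hNK, Subgroup.mem_bot] at this)
      have hcen : ∀ g : G, g * v = v * g := by
        intro g
        have hgv : g * v * g⁻¹ ∈ M.normalCore := M.normalCore_normal.conj_mem v hv g
        have hgK : g * v * g⁻¹ ∉ K := fun h => hvK (by
          have := Subgroup.Normal.conj_mem (inferInstance : K.Normal) _ h g⁻¹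
          simpa [mul_assoc] using this)
        have hd : g * v * g⁻¹ * v⁻¹ ∈ M.normalCore ⊓ K :=
          ⟨M.normalCore.mul_mem hgv (M.normalCore.inv_mem hv),
            (Subgroup.mul_mem_iff_of_index_two hK).2 (by
              constructor <;> intro h
              · exact absurd h hgK
              · exact absurd ((K.inv_mem_iff).1 h) hvK)⟩
        rw [hNK, Subgroup.mem_bot, mul_inv_eq_one] at hd
        exact mul_inv_eq_iff_eq_mul.1 hd
      have hvC : v ∈ C := Subgroup.mem_centralizer_singleton_iff.2 (hcen t).symm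
      exact hvK (hCU v hvC (hcen u).symm)
    have hinj : Function.Injective f := (MonoidHom.ker_eq_bot_iff _).1 (M.normalCore_eq_ker ▸ hker)
    have hc5 : Nat.card (G ⧸ M) = 5 := hMi
    have hbij : Function.Bijective f := (Nat.bijective_iff_injective_and_card _).2
      ⟨hinj, by rw [Nat.card_perm, hc5, hG]; rfl⟩
    exact ⟨(MulEquiv.ofBijective f hbij).trans
      ((Fintype.equivFinOfCardEq (by rw [← Nat.card_eq_fintype_card, hc5])).permCongrHom)⟩

end Cfsg.Agent.Invol.D8Order
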