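import Mathlib
import Cfsg.Agent.Lib.Invol.StronglyEmbeddedCount
import Cfsg.Agent.Lib.Char.Integral
import Cfsg.Agent.S1226

/-!
# Groups in which centralizers of involutions are elementary abelian
-/

namespace Cfsg.Agent.Invol

/-- The standing hypothesis. -/
structure EC {G : Type*} [Group G] (T : Sylow 2 G) : Prop where
  hnc : ¬ IsCyclic (T : Subgroup G)
  hnn : ¬ (T : Subgroup G).Normal
  hC : ∀ t : G, orderOf t = 2 → IsMulCommutative (Subgroup.centralizer ({t} : Set G)) ∧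
    ∀ c ∈ Subgroup.centralizer ({t} : Set G), c ^ 2 = 1

namespace EC

variable {G : Type*} [Group G] [Finite G] {T : Sylow 2 G}

local notation "HH" => Subgroup.normalizer ((T : Subgroup G) : Set G)

theorem se (h : EC T) : Cfsg.IsStronglyEmbedded HH := S1226.result T h.hnc h.hnn h.hC

theorem commute_of_mem (h : EC T) {w a b : G} (hw : orderOf w = 2) (ha : a * w = w * a)
    (hb : b * w = w * b) : a * b = b * a :=
  congrArg Subtype.val ((h.hC w hw).1.is_comm.comm
    ⟨a, Subgroup.mem_centralizer_singleton_iff.mpr ha⟩ ⟨b, Subgroup.mem_centralizer_singleton_iff.mpr hb⟩)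

/-- An element of odd order commuting with an involution is trivial. -/
theorem eq_one_of_odd (h : EC T) {w c : G} (hw : orderOf w = 2) (hc : c * w = w * c)
    (ho : Odd (orderOf c)) : c = 1 := by
  have h1 := orderOf_dvd_of_pow_eq_one ((h.hC w hw).2 c (Subgroup.mem_centralizer_singleton_iff.mpr hc))
  rcases (Nat.dvd_prime Nat.prime_two).mp h1 with h2 | h2
  · exact orderOf_eq_one_iff.mp h2
  · rw [h2] at ho
    exact absurd ho (by decide)

theorem mem_T (_h : EC T) {t : G} (htH : t ∈ HH) (ht : orderOf t = 2) : t ∈ (T : Subgroup G) := by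
  have : Fact (Nat.Prime 2) := ⟨Nat.prime_two⟩
  have hp : IsPGroup 2 (Subgroup.zpowers t) := isPGroup_zpowers (n := 1) (by rw [ht, pow_one])
  have hle : Subgroup.zpowers t ≤ T := by
    rw [← inf_eq_left, ← hp.inf_normalizer_sylow, inf_eq_left, Subgroup.zpowers_le]
    exact htH
  exact hle (Subgroup.mem_zpowers t)

theorem two_le (h : EC T) : ∃ m, 2 ≤ m ∧ Nat.card (T : Subgroup G) = 2 ^ m := by
  have : Fact (Nat.Prime 2) := ⟨Nat.prime_two⟩
  obtain ⟨m, hm⟩ := T.isPGroup'.exists_card_eq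
  refine ⟨m, ?_, hm⟩
  by_contra hlt
  rcases (by omega : m = 0 ∨ m = 1) with rfl | rfl
  · rw [pow_zero] at hm
    exact h.hnc (by rw [Subgroup.card_eq_one.mp hm]; infer_instance)
  · exact h.hnc (isCyclic_of_prime_card (p := 2) (by rw [hm, pow_one]))

theorem card_T_ge (h : EC T) : 4 ≤ Nat.card (T : Subgroup G) := by
  obtain ⟨m, hm, hc⟩ := h.two_le
  rw [hc]
  exact Nat.pow_le_pow_right (by norm_num : 0 < 2) hm

theorem centralizer_eq (h : EC T) {t : G} (htT : t ∈ (T : Subgroup G)) (ht : orderOf t = 2) :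
    Subgroup.centralizer ({t} : Set G) = (T : Subgroup G) := by
  have : Fact (Nat.Prime 2) := ⟨Nat.prime_two⟩
  have : Nontrivial (T : Subgroup G) := ⟨⟨⟨t, htT⟩, 1, fun he =>
    ne_one_of_orderOf_two ht (congrArg Subtype.val he)⟩⟩
  have := T.isPGroup'.center_nontrivial
  obtain ⟨⟨⟨c, hcT⟩, hcz⟩, hne⟩ := exists_ne (1 : Subgroup.center ↥(T : Subgroup G))
  obtain ⟨k, hk⟩ := IsPGroup.iff_orderOf.mp T.isPGroup' ⟨c, hcT⟩
  rw [Subgroup.orderOf_mk] at hk
  have hk0 : k ≠ 0 := by
    rintro rfl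
    rw [pow_zero, orderOf_eq_one_iff] at hk
    exact hne (Subtype.ext (Subtype.ext hk))
  obtain ⟨j, rfl⟩ := Nat.exists_eq_succ_of_ne_zero hk0
  set d := c ^ (2 ^ j) with hd
  have hd2 : orderOf d = 2 := by
    rw [hd, orderOf_pow, hk, Nat.gcd_eq_right (pow_dvd_pow 2 (Nat.le_succ j)), pow_succ',
      Nat.mul_div_cancel _ (by positivity)]
  have hcomm : ∀ x ∈ (T : Subgroup G), x * d = d * x := fun x hx =>
    (Commute.pow_right (show Commute x c from
      congrArg Subtype.val (Subgroup.mem_center_iff.mp hcz ⟨x, hx⟩)) _).eq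
  refine T.is_maximal' ?_ fun x hx => ?_
  · intro x
    exact ⟨1, by rw [pow_one]; exact Subtype.ext ((h.hC t ht).2 x.1 x.2)⟩
  · exact Subgroup.mem_centralizer_singleton_iff.mpr
      (h.commute_of_mem hd2 (hcomm x hx) (hcomm t htT))

theorem sq_eq_one (h : EC T) {t : G} (ht : t ∈ (T : Subgroup G)) : t ^ 2 = 1 := by
  have : Fact (Nat.Prime 2) := ⟨Nat.prime_two⟩
  have h4 := h.card_T_ge
  obtain ⟨s, hs⟩ := exists_prime_orderOf_dvd_card' (G := (T : Subgroup G)) 2
    (by obtain ⟨m, hm, hc⟩ := h.two_le; rw [hc]; exact dvd_pow_self 2 (by omega))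
  have hs2 : orderOf (s : G) = 2 := by rw [Subgroup.orderOf_coe, hs]
  exact (h.hC s hs2).2 t (by rw [h.centralizer_eq s.2 hs2]; exact ht)

theorem involutions_equiv (h : EC T) :
    Nat.card {t : G // orderOf t = 2 ∧ t ∈ HH} = Nat.card (T : Subgroup G) - 1 := by
  classical
  have := Fintype.ofFinite G
  have he : (Finset.univ.filter fun t : G => orderOf t = 2 ∧ t ∈ HH) =
      (Finset.univ.filter fun t : G => t ∈ (T : Subgroup G)).erase 1 := by
    ext t
    simp only [Finset.mem_filter, Finset.mem_univ, true_and, Finset.mem_erase]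
    exact ⟨fun ⟨a, b⟩ => ⟨ne_one_of_orderOf_two a, h.mem_T b a⟩,
      fun ⟨a, b⟩ => ⟨orderOf_eq_prime (h.sq_eq_one b) a, Subgroup.le_normalizer b⟩⟩
  rw [Nat.card_eq_fintype_card, Fintype.card_subtype, he, Finset.card_erase_of_mem (by simp),
    Nat.card_eq_fintype_card (α := ↥(T : Subgroup G)), Fintype.card_subtype]

theorem exists_invol (h : EC T) : ∃ t ∈ (T : Subgroup G), orderOf t = 2 := by
  obtain ⟨t, htH, ht⟩ := exists_orderOf_two_mem h.se.2.1
  exact ⟨t, h.mem_T htH ht, ht⟩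

theorem odd_D (h : EC T) {u : G} (huH : u ∉ HH) {d : G}
    (hd : d ∈ HH ⊓ (HH).map (MulAut.conj u).toMonoidHom) : Odd (orderOf d) := by
  refine Odd.of_dvd_nat (h.se.2.2 u huH) ?_
  rw [← Subgroup.orderOf_mk d hd]
  exact orderOf_dvd_natCard _

theorem card_D (h : EC T) {u : G} (hu : orderOf u = 2) (huH : u ∉ HH) :
    Nat.card ↥(HH ⊓ (HH).map (MulAut.conj u).toMonoidHom) = Nat.card (T : Subgroup G) - 1 := by
  obtain ⟨t, htT, ht⟩ := h.exists_invol
  have htH : t ∈ HH := Subgroup.le_normalizer htT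
  rw [← h.involutions_equiv]
  refine Nat.card_eq_of_bijective (fun d => ⟨(d : G) * t * (d : G)⁻¹, by rw [orderOf_conj_eq, ht],
    mul_mem (mul_mem d.2.1 htH) (inv_mem d.2.1)⟩) ⟨?_, ?_⟩
  · rintro ⟨d, hd⟩ ⟨e, he⟩ heq
    have h1 : d * t * d⁻¹ = e * t * e⁻¹ := congrArg Subtype.val heq
    refine Subtype.ext (inv_mul_eq_one.mp (h.eq_one_of_odd ht (c := e⁻¹ * d) ?_
      (h.odd_D huH (mul_mem (inv_mem he) hd)))).symm
    calc e⁻¹ * d * t = e⁻¹ * (d * t * d⁻¹) * d := by group
      _ = e⁻¹ * (e * t * e⁻¹) * d := by rw [h1]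
      _ = t * (e⁻¹ * d) := by group
  · rintro ⟨s, hs, hsH⟩
    obtain ⟨d, hd, hds⟩ := exists_conj_inf h.se hu huH ht htH hs hsH
    exact ⟨⟨d, hd⟩, Subtype.ext hds⟩

theorem inverted (h : EC T) {u : G} (hu : orderOf u = 2) (huH : u ∉ HH) {d : G}
    (hd : d ∈ HH ⊓ (HH).map (MulAut.conj u).toMonoidHom) : u * d * u⁻¹ = d⁻¹ := by
  classical
  set D := HH ⊓ (HH).map (MulAut.conj u).toMonoidHom with hD
  have hne : (QuotientGroup.mk 1 : G ⧸ HH) ≠ QuotientGroup.mk u := fun he => huH (by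
    have := QuotientGroup.eq.mp he; simpa using this)
  have hcard := (card_swap_eq h.se _ _ hne).trans (h.involutions_equiv.trans (h.card_D hu huH).symm)
  have huu : u⁻¹ * u⁻¹ = 1 := by rw [inv_of_orderOf_two hu, mul_self_of_orderOf_two hu]
  let f : {i : G // orderOf i = 2 ∧ i • (QuotientGroup.mk 1 : G ⧸ HH) = QuotientGroup.mk u} → D :=
    fun i => ⟨u⁻¹ * i, by
      obtain ⟨i, hi, hix⟩ := i
      rw [MulAction.Quotient.smul_mk, smul_eq_mul, mul_one, QuotientGroup.eq] at hix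
      refine mem_inf_map_conj.mpr ⟨by simpa using inv_mem hix, ?_⟩
      rw [← mul_assoc, huu, one_mul]
      have : i⁻¹ * u ∈ HH := hix
      rwa [inv_of_orderOf_two hi] at this⟩
  have hinj : Function.Injective f := fun a b he =>
    Subtype.ext (mul_left_cancel (congrArg Subtype.val he :))
  obtain ⟨⟨i, hi, hix⟩, hid⟩ := ((Nat.bijective_iff_injective_and_card f).mpr ⟨hinj, hcard⟩).2 ⟨d, hd⟩
  have h1 : u⁻¹ * i = d := congrArg Subtype.val hid
  rw [← h1, mul_inv_rev, inv_inv, inv_of_orderOf_two hi]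
  calc u * (u⁻¹ * i) * u⁻¹ = i * u⁻¹ := by group
    _ = i * u := by rw [inv_of_orderOf_two hu]

theorem comm_D (h : EC T) {u : G} (hu : orderOf u = 2) (huH : u ∉ HH) {d e : G}
    (hd : d ∈ HH ⊓ (HH).map (MulAut.conj u).toMonoidHom)
    (he : e ∈ HH ⊓ (HH).map (MulAut.conj u).toMonoidHom) : d * e = e * d := by
  have h1 := h.inverted hu huH (mul_mem hd he)
  rw [show u * (d * e) * u⁻¹ = (u * d * u⁻¹) * (u * e * u⁻¹) by group, h.inverted hu huH hd,
    h.inverted hu huH he, mul_inv_rev] at h1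
  have h2 := congrArg (·⁻¹) h1
  simpa using h2.symm

theorem decomp (h : EC T) {u : G} (hu : orderOf u = 2) (huH : u ∉ HH) {g : G} (hg : g ∈ HH) :
    ∃ d ∈ HH ⊓ (HH).map (MulAut.conj u).toMonoidHom, ∃ t ∈ (T : Subgroup G), g = d * t := by
  obtain ⟨s, hsT, hs⟩ := h.exists_invol
  have hsH : s ∈ HH := Subgroup.le_normalizer hsT
  obtain ⟨d, hd, hds⟩ := exists_conj_inf h.se hu huH hs hsH (t := g * s * g⁻¹)
    (by rw [orderOf_conj_eq, hs]) (mul_mem (mul_mem hg hsH) (inv_mem hg))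
  refine ⟨d, hd, d⁻¹ * g, ?_, by group⟩
  rw [← h.centralizer_eq hsT hs, Subgroup.mem_centralizer_singleton_iff]
  calc d⁻¹ * g * s = d⁻¹ * (g * s * g⁻¹) * g := by group
    _ = d⁻¹ * (d * s * d⁻¹) * g := by rw [hds]
    _ = s * (d⁻¹ * g) := by group

theorem inf_eq_bot (h : EC T) {u : G} (huH : u ∉ HH) :
    (HH ⊓ (HH).map (MulAut.conj u).toMonoidHom) ⊓ (T : Subgroup G) = ⊥ := by
  rw [← le_bot_iff]
  rintro d ⟨hd, hdT⟩
  rw [Subgroup.mem_bot]
  have ho := h.odd_D huH hd
  rcases (Nat.dvd_prime Nat.prime_two).mp (orderOf_dvd_of_pow_eq_one (h.sq_eq_one hdT)) with h2 | h2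
  · exact orderOf_eq_one_iff.mp h2
  · rw [h2] at ho; exact absurd ho (by decide)

theorem card_H (h : EC T) {u : G} (hu : orderOf u = 2) (huH : u ∉ HH) :
    Nat.card ↥HH = Nat.card (T : Subgroup G) * (Nat.card (T : Subgroup G) - 1) := by
  rw [← h.card_D hu huH, mul_comm, ← Nat.card_prod]
  symm
  refine Nat.card_eq_of_bijective (fun p : ↥(HH ⊓ (HH).map (MulAut.conj u).toMonoidHom) × ↥(T : Subgroup G) =>
    (⟨(p.1 : G) * (p.2 : G), mul_mem p.1.2.1 (Subgroup.le_normalizer p.2.2)⟩ : ↥HH)) ⟨?_, ?_⟩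
  · rintro ⟨d, t⟩ ⟨e, s⟩ he
    have h1 : (d : G) * t = e * s := congrArg Subtype.val he
    have h2 : (e : G)⁻¹ * d = s * (t : G)⁻¹ := by
      calc (e : G)⁻¹ * d = (e : G)⁻¹ * (d * t) * (t : G)⁻¹ := by group
        _ = (e : G)⁻¹ * (e * s) * (t : G)⁻¹ := by rw [h1]
        _ = s * (t : G)⁻¹ := by group
    have h3 : (e : G)⁻¹ * d ∈ (HH ⊓ (HH).map (MulAut.conj u).toMonoidHom) ⊓ (T : Subgroup G) :=
      Subgroup.mem_inf.mpr ⟨mul_mem (inv_mem e.2) d.2, h2 ▸ mul_mem s.2 (inv_mem t.2)⟩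
    rw [h.inf_eq_bot huH, Subgroup.mem_bot] at h3
    have hde : d = e := Subtype.ext (inv_mul_eq_one.mp h3).symm
    subst hde
    exact Prod.ext rfl (Subtype.ext (mul_left_cancel h1))
  · rintro ⟨g, hg⟩
    obtain ⟨d, hd, t, ht, rfl⟩ := h.decomp hu huH hg
    exact ⟨⟨⟨d, hd⟩, ⟨t, ht⟩⟩, rfl⟩

theorem isComplement_D (h : EC T) {u : G} (hu : orderOf u = 2) (huH : u ∉ HH) :
    Subgroup.IsComplement' ((HH ⊓ (HH).map (MulAut.conj u).toMonoidHom).subgroupOf HH)
      ((T : Subgroup G).subgroupOf HH) := by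
  have e1 : Nat.card ↥((HH ⊓ (HH).map (MulAut.conj u).toMonoidHom).subgroupOf HH) =
      Nat.card (T : Subgroup G) - 1 :=
    (Nat.card_congr (Subgroup.subgroupOfEquivOfLe inf_le_left).toEquiv).trans (h.card_D hu huH)
  have e2 : Nat.card ↥((T : Subgroup G).subgroupOf HH) = Nat.card (T : Subgroup G) :=
    Nat.card_congr (Subgroup.subgroupOfEquivOfLe Subgroup.le_normalizer).toEquiv
  have := h.card_T_ge
  refine Subgroup.isComplement'_of_coprime ?_ ?_
  · rw [e1, e2, h.card_H hu huH, mul_comm]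
  · rw [e1, e2]
    exact (Nat.coprime_self_sub_left (by omega)).mpr (Nat.coprime_one_left _)

/-- A real element of odd order. -/
def Real' (z : G) : Prop := z ≠ 1 ∧ Odd (orderOf z) ∧ ∃ a : G, orderOf a = 2 ∧ a * z * a⁻¹ = z⁻¹

theorem real_odd (h : EC T) {z c : G} (hz : Real' z) (hc : c ∈ Subgroup.centralizer ({z} : Set G)) :
    Odd (orderOf c) := by
  have ho : Odd (Nat.card (Subgroup.centralizer ({z} : Set G))) := by
    refine Nat.not_even_iff_odd.mp fun he => ?_
    obtain ⟨w, hwC, hw⟩ := exists_orderOf_two_mem he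
    exact hz.1 (h.eq_one_of_odd hw (Subgroup.mem_centralizer_singleton_iff.mp hwC).symm hz.2.1)
  refine Odd.of_dvd_nat ho ?_
  rw [← Subgroup.orderOf_mk c hc]
  exact orderOf_dvd_natCard _

theorem real_inverts (h : EC T) {z a : G} (hz : Real' z) (ha : orderOf a = 2) (haz : a * z * a⁻¹ = z⁻¹)
    {c : G} (hc : c ∈ Subgroup.centralizer ({z} : Set G)) : a * c * a⁻¹ = c⁻¹ := by
  set A := Subgroup.centralizer ({z} : Set G) with hA
  have hmem : ∀ x ∈ A, a * x * a⁻¹ ∈ A := fun x hx => by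
    rw [hA, Subgroup.mem_centralizer_singleton_iff] at hx ⊢
    have h1 : a * z⁻¹ * a⁻¹ = z := by rw [← conj_inv, haz, inv_inv]
    have h2 : x * z⁻¹ = z⁻¹ * x := (Commute.inv_right (show Commute x z from hx)).eq
    calc a * x * a⁻¹ * z = a * x * a⁻¹ * (a * z⁻¹ * a⁻¹) := by rw [h1]
      _ = a * (x * z⁻¹) * a⁻¹ := by group
      _ = a * (z⁻¹ * x) * a⁻¹ := by rw [h2]
      _ = (a * z⁻¹ * a⁻¹) * (a * x * a⁻¹) := by group
      _ = z * (a * x * a⁻¹) := by rw [h1]
  let φ : A →* A :=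
    { toFun := fun x => ⟨a * x * a⁻¹, hmem x x.2⟩
      map_one' := Subtype.ext (by simp)
      map_mul' := fun x y => Subtype.ext (by simp only [Subgroup.coe_mul]; group) }
  have hinvol : Function.Involutive φ := fun x => Subtype.ext (by
    show a * (a * (x : G) * a⁻¹) * a⁻¹ = x
    calc a * (a * (x : G) * a⁻¹) * a⁻¹ = (a * a) * x * (a * a)⁻¹ := by group
      _ = x := by rw [mul_self_of_orderOf_two ha]; group)
  have hfix : MonoidHom.FixedPointFree φ := fun x hx => Subtype.ext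
    (h.eq_one_of_odd ha (mul_inv_eq_iff_eq_mul.mp (congrArg Subtype.val hx)).symm (h.real_odd hz x.2))
  exact congrArg Subtype.val (congrFun (hfix.coe_eq_inv_of_involutive hinvol) ⟨c, hc⟩)

theorem real_comm (h : EC T) {z c e : G} (hz : Real' z) (hc : c ∈ Subgroup.centralizer ({z} : Set G))
    (he : e ∈ Subgroup.centralizer ({z} : Set G)) : c * e = e * c := by
  obtain ⟨a, ha, haz⟩ := hz.2.2
  have h1 := h.real_inverts hz ha haz (mul_mem hc he)
  rw [show a * (c * e) * a⁻¹ = (a * c * a⁻¹) * (a * e * a⁻¹) by group, h.real_inverts hz ha haz hc,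
    h.real_inverts hz ha haz he, mul_inv_rev] at h1
  have h2 := congrArg (·⁻¹) h1
  simpa using h2.symm

theorem real_of_mem (h : EC T) {z y : G} (hz : Real' z) (hy : y ∈ Subgroup.centralizer ({z} : Set G))
    (hy1 : y ≠ 1) : Real' y ∧ Subgroup.centralizer ({y} : Set G) = Subgroup.centralizer ({z} : Set G) := by
  obtain ⟨a, ha, haz⟩ := hz.2.2
  have hry : Real' y := ⟨hy1, h.real_odd hz hy, a, ha, h.real_inverts hz ha haz hy⟩
  have hzy : z ∈ Subgroup.centralizer ({y} : Set G) := Subgroup.mem_centralizer_singleton_iff.mpr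
    (Subgroup.mem_centralizer_singleton_iff.mp hy).symm
  refine ⟨hry, le_antisymm (fun c hc => ?_) fun c hc => ?_⟩
  · exact Subgroup.mem_centralizer_singleton_iff.mpr (h.real_comm hry hc hzy)
  · exact Subgroup.mem_centralizer_singleton_iff.mpr (h.real_comm hz hc hy)

theorem real_normalizer (h : EC T) {z a g : G} (hz : Real' z) (ha : orderOf a = 2)
    (haz : a * z * a⁻¹ = z⁻¹)
    (hg : g ∈ Subgroup.normalizer (Subgroup.centralizer ({z} : Set G) : Set G)) :
    g ∈ Subgroup.centralizer ({z} : Set G) ∨ a * g ∈ Subgroup.centralizer ({z} : Set G) := by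
  set A := Subgroup.centralizer ({z} : Set G) with hA
  have hinv := fun c (hc : c ∈ A) => h.real_inverts hz ha haz hc
  have hzA : z ∈ A := Subgroup.mem_centralizer_singleton_iff.mpr rfl
  set b := g * a * g⁻¹ with hb
  have hbz : b * z * b⁻¹ = z⁻¹ := by
    have h0 : g⁻¹ * z * g ∈ A := by
      have := (Subgroup.mem_normalizer_iff.mp (inv_mem hg) z).mp hzA
      simpa using this
    calc b * z * b⁻¹ = g * (a * (g⁻¹ * z * g) * a⁻¹) * g⁻¹ := by rw [hb]; group
      _ = g * (g⁻¹ * z * g)⁻¹ * g⁻¹ := by rw [hinv _ h0]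
      _ = z⁻¹ := by group
  have hba : b * a ∈ A := by
    rw [hA, Subgroup.mem_centralizer_singleton_iff]
    refine mul_inv_eq_iff_eq_mul.mp ?_
    calc b * a * z * (b * a)⁻¹ = b * (a * z * a⁻¹) * b⁻¹ := by group
      _ = b * z⁻¹ * b⁻¹ := by rw [haz]
      _ = z := by rw [← conj_inv, hbz, inv_inv]
  obtain ⟨e, he, hee⟩ : ∃ e ∈ A, e * e = b * a := by
    obtain ⟨n, hn⟩ := h.real_odd hz hba
    refine ⟨(b * a) ^ (n + 1), pow_mem hba _, ?_⟩
    rw [← pow_add, show n + 1 + (n + 1) = (2 * n + 1) + 1 by ring, pow_succ, ← hn, pow_orderOf_eq_one,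
      one_mul]
  set g' := e⁻¹ * g with hg'
  have hg'N : g' ∈ Subgroup.normalizer (A : Set G) := mul_mem (Subgroup.le_normalizer (inv_mem he)) hg
  have hcomm : g' * a = a * g' := by
    have h1 : b = e * e * a := by
      rw [hee, mul_assoc, mul_self_of_orderOf_two ha, mul_one]
    have h2 : a * e⁻¹ = e * a := by
      have := hinv _ (inv_mem he)
      rw [inv_inv] at this
      exact mul_inv_eq_iff_eq_mul.mp this
    calc g' * a = e⁻¹ * b * g := by rw [hg', hb]; group
      _ = e * a * g := by rw [h1]; group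
      _ = a * g' := by rw [hg', ← h2, mul_assoc]
  have hsq : g' ^ 2 = 1 := (h.hC a ha).2 g' (Subgroup.mem_centralizer_singleton_iff.mpr hcomm)
  have hcase : g' = 1 ∨ g' = a := by
    by_cases h1 : g' = 1
    · exact .inl h1
    right
    have hg2 : orderOf g' = 2 := orderOf_eq_prime hsq h1
    -- `g'` inverts `A`
    let φ : A →* A :=
      { toFun := fun x => ⟨g' * x * g'⁻¹, (Subgroup.mem_normalizer_iff.mp hg'N _).mp x.2⟩
        map_one' := Subtype.ext (by simp)
        map_mul' := fun x y => Subtype.ext (by simp only [Subgroup.coe_mul]; group) }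
    have hinvol : Function.Involutive φ := fun x => Subtype.ext (by
      show g' * (g' * (x : G) * g'⁻¹) * g'⁻¹ = x
      calc g' * (g' * (x : G) * g'⁻¹) * g'⁻¹ = (g' * g') * x * (g' * g')⁻¹ := by group
        _ = x := by rw [mul_self_of_orderOf_two hg2]; group)
    have hfix : MonoidHom.FixedPointFree φ := fun x hx => Subtype.ext
      (h.eq_one_of_odd hg2 (mul_inv_eq_iff_eq_mul.mp (congrArg Subtype.val hx)).symm (h.real_odd hz x.2))
    have hgz : g' * z * g'⁻¹ = z⁻¹ :=
      congrArg Subtype.val (congrFun (hfix.coe_eq_inv_of_involutive hinvol) ⟨z, hzA⟩)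
    have hmem : a * g' ∈ A := by
      rw [hA, Subgroup.mem_centralizer_singleton_iff]
      refine mul_inv_eq_iff_eq_mul.mp ?_
      calc a * g' * z * (a * g')⁻¹ = a * (g' * z * g'⁻¹) * a⁻¹ := by group
        _ = z := by rw [hgz, ← conj_inv, haz, inv_inv]
    have h2 : a * g' = 1 := h.eq_one_of_odd ha (by
      calc a * g' * a = a * (g' * a) := mul_assoc _ _ _
        _ = a * (a * g') := by rw [hcomm]) (h.real_odd hz hmem)
    rw [eq_inv_of_mul_eq_one_right h2, inv_of_orderOf_two ha]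
  have hge : g = e * g' := by rw [hg']; group
  rcases hcase with h1 | h1
  · left; rw [hge, h1, mul_one]; exact he
  · right; rw [hge, h1, ← mul_assoc]
    have h3 := hinv e he
    rw [inv_of_orderOf_two ha] at h3
    rw [h3]
    exact inv_mem he

theorem card_normalizer_real (h : EC T) {z : G} (hz : Real' z) :
    Nat.card ↥(Subgroup.normalizer (Subgroup.centralizer ({z} : Set G) : Set G)) =
      2 * Nat.card (Subgroup.centralizer ({z} : Set G)) := by
  obtain ⟨a, ha, haz⟩ := hz.2.2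
  set A := Subgroup.centralizer ({z} : Set G) with hA
  set N := Subgroup.normalizer (A : Set G) with hN
  have haN : a ∈ N := Subgroup.mem_normalizer_fintype fun c hc => by
    show a * c * a⁻¹ ∈ A
    rw [h.real_inverts hz ha haz hc]
    exact inv_mem hc
  have haA : a ∉ A := fun hm => by
    have := h.real_odd hz hm
    rw [ha] at this
    exact absurd this (by decide)
  have hidx : (A.subgroupOf N).index = 2 := by
    rw [Subgroup.index_eq_two_iff]
    refine ⟨⟨a, haN⟩, fun ⟨g, hg⟩ => ?_⟩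
    simp only [Subgroup.mem_subgroupOf, Subgroup.coe_mul]
    rcases h.real_normalizer hz ha haz hg with h1 | h1
    · refine .inr ⟨h1, fun h2 => haA ?_⟩
      have := mul_mem (inv_mem h1) h2
      simpa using this
    · refine .inl ⟨?_, fun h2 => haA ?_⟩
      · have h3 := h.real_inverts hz ha haz h1
        have h4 : g * a = (a * g)⁻¹⁻¹⁻¹⁻¹ → g * a ∈ A := fun he => he ▸ (by simpa using h1)
        have h5 : g * a = (a * g)⁻¹ := by
          rw [← h3]
          calc g * a = (a * a) * g * a⁻¹ := by rw [mul_self_of_orderOf_two ha, inv_of_orderOf_two ha, one_mul]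
            _ = a * (a * g) * a⁻¹ := by group
        rw [h5]; exact inv_mem h1
      · have := mul_mem h1 (inv_mem h2)
        simpa using this
  rw [← (A.subgroupOf N).card_mul_index, hidx,
    Nat.card_congr (Subgroup.subgroupOfEquivOfLe Subgroup.le_normalizer).toEquiv, mul_comm]

theorem card_class (h : EC T) {z : G} (hz : Real' z) :
    2 * Nat.card (Subgroup.centralizer ({z} : Set G)) *
      Nat.card {y : G // Real' y ∧ ∃ g : G, Subgroup.centralizer ({y} : Set G) =
        (Subgroup.centralizer ({z} : Set G)).map (MulAut.conj g).toMonoidHom} =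
      Nat.card G * (Nat.card (Subgroup.centralizer ({z} : Set G)) - 1) := by
  classical
  have := Fintype.ofFinite G
  set A := Subgroup.centralizer ({z} : Set G) with hA
  set N := Subgroup.normalizer (A : Set G) with hN
  have hconj : ∀ g : G, ∀ y ∈ A, y ≠ 1 → Real' (g * y * g⁻¹) ∧
      Subgroup.centralizer ({g * y * g⁻¹} : Set G) = A.map (MulAut.conj g).toMonoidHom := by
    intro g y hy hy1
    obtain ⟨⟨-, ho, b, hb, hby⟩, hC⟩ := h.real_of_mem hz hy hy1
    refine ⟨⟨fun he => hy1 (conj_eq_one_iff.mp he), by rwa [orderOf_conj_eq], g * b * g⁻¹,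
      by rw [orderOf_conj_eq, hb], ?_⟩, ?_⟩
    · calc g * b * g⁻¹ * (g * y * g⁻¹) * (g * b * g⁻¹)⁻¹ = g * (b * y * b⁻¹) * g⁻¹ := by group
        _ = (g * y * g⁻¹)⁻¹ := by rw [hby]; group
    · rw [hA, ← hC]
      ext c
      rw [Subgroup.mem_centralizer_singleton_iff, Subgroup.mem_map]
      constructor
      · intro hc
        refine ⟨g⁻¹ * c * g, Subgroup.mem_centralizer_singleton_iff.mpr ?_, by simp [mul_assoc]⟩
        calc g⁻¹ * c * g * y = g⁻¹ * (c * (g * y * g⁻¹)) * g := by group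
          _ = g⁻¹ * ((g * y * g⁻¹) * c) * g := by rw [hc]
          _ = y * (g⁻¹ * c * g) := by group
      · rintro ⟨x, hx, rfl⟩
        rw [Subgroup.mem_centralizer_singleton_iff] at hx
        simp only [MulEquiv.coe_toMonoidHom, MulAut.conj_apply]
        calc g * x * g⁻¹ * (g * y * g⁻¹) = g * (x * y) * g⁻¹ := by group
          _ = g * y * g⁻¹ * (g * x * g⁻¹) := by rw [hx]; group
  have hcount : (Finset.univ.filter fun y : G => Real' y ∧ ∃ g : G, Subgroup.centralizer ({y} : Set G) =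
      A.map (MulAut.conj g).toMonoidHom).card = N.index * (Nat.card A - 1) := by
    have := Fintype.ofFinite (G ⧸ N)
    have hA1 : (Finset.univ.filter fun y : G => y ∈ A).card = Nat.card A := by
      rw [Nat.card_eq_fintype_card, Fintype.card_subtype]
    rw [← hA1, ← Finset.card_erase_of_mem (s := Finset.univ.filter fun y : G => y ∈ A) (a := 1) (by simp),
      Subgroup.index_eq_card, Nat.card_eq_fintype_card (α := G ⧸ N), ← Finset.card_univ, ← Finset.card_product]
    symm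
    refine Finset.card_bij (fun p _ => p.1.out * p.2 * p.1.out⁻¹) ?_ ?_ ?_
    · rintro ⟨q, y⟩ hp
      simp only [Finset.mem_product, Finset.mem_univ, Finset.mem_erase, Finset.mem_filter, true_and] at hp ⊢
      exact ⟨(hconj _ y hp.2 hp.1).1, _, (hconj _ y hp.2 hp.1).2⟩
    · rintro ⟨q, y⟩ hp ⟨q', y'⟩ hp' heq
      simp only [Finset.mem_product, Finset.mem_univ, Finset.mem_erase, Finset.mem_filter, true_and] at hp hp' heq
      have hAA : A.map (MulAut.conj q.out).toMonoidHom = A.map (MulAut.conj q'.out).toMonoidHom := by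
        rw [← (hconj _ y hp.2 hp.1).2, ← (hconj _ y' hp'.2 hp'.1).2, heq]
      have hqq : q.out⁻¹ * q'.out ∈ N := Subgroup.mem_normalizer_fintype fun c hc => by
        have h1 : q'.out * c * q'.out⁻¹ ∈ A.map (MulAut.conj q.out).toMonoidHom := hAA ▸ ⟨c, hc, rfl⟩
        obtain ⟨x, hx, hxe⟩ := h1
        simp only [MulEquiv.coe_toMonoidHom, MulAut.conj_apply] at hxe
        show q.out⁻¹ * q'.out * c * (q.out⁻¹ * q'.out)⁻¹ ∈ A
        rw [show q.out⁻¹ * q'.out * c * (q.out⁻¹ * q'.out)⁻¹ = q.out⁻¹ * (q'.out * c * q'.out⁻¹) * q.out by group,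
          ← hxe]
        simpa [mul_assoc] using hx
      obtain rfl : q = q' := by
        rw [← q.out_eq, ← q'.out_eq]
        exact QuotientGroup.eq.mpr hqq
      rw [mul_left_inj, mul_right_inj] at heq
      rw [heq]
    · intro y hy
      simp only [Finset.mem_filter, Finset.mem_univ, true_and] at hy
      obtain ⟨hy, g, hg⟩ := hy
      obtain ⟨n, hn⟩ := QuotientGroup.mk_out_eq_mul N g
      set r : G := (QuotientGroup.mk g : G ⧸ N).out
      have hmap : A.map (MulAut.conj r).toMonoidHom = A.map (MulAut.conj g).toMonoidHom := by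
        ext c
        simp only [Subgroup.mem_map, MulEquiv.coe_toMonoidHom, MulAut.conj_apply, hn]
        constructor
        · rintro ⟨x, hx, rfl⟩
          exact ⟨n * x * (n : G)⁻¹, (Subgroup.mem_normalizer_iff.mp n.2 x).mp hx, by group⟩
        · rintro ⟨x, hx, rfl⟩
          exact ⟨(n : G)⁻¹ * x * n, by
            have := (Subgroup.mem_normalizer_iff.mp (inv_mem n.2) x).mp hx
            simpa using this, by group⟩
      have hyC : y ∈ Subgroup.centralizer ({y} : Set G) := Subgroup.mem_centralizer_singleton_iff.mpr rfl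
      rw [hg, ← hmap] at hyC
      obtain ⟨x, hx, hxy⟩ := hyC
      simp only [MulEquiv.coe_toMonoidHom, MulAut.conj_apply] at hxy
      refine ⟨⟨QuotientGroup.mk g, x⟩, ?_, hxy⟩
      simp only [Finset.mem_product, Finset.mem_univ, Finset.mem_erase, Finset.mem_filter, true_and]
      exact ⟨fun h1 => hy.1 (by rw [← hxy, h1]; simp), hx⟩
  have hcard0 : Nat.card {y : G // Real' y ∧ ∃ g : G, Subgroup.centralizer ({y} : Set G) =
      A.map (MulAut.conj g).toMonoidHom} = N.index * (Nat.card A - 1) := by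
    rw [← hcount, Nat.card_eq_fintype_card, Fintype.card_subtype]
  rw [hcard0, ← h.card_normalizer_real hz, ← mul_assoc, Subgroup.card_mul_index]

theorem conj_centralizer_of_prime (h : EC T) {z w : G} (hz : Real' z) (hw : Real' w) {p : ℕ} (hp : p.Prime)
    (hpz : p ∣ Nat.card (Subgroup.centralizer ({z} : Set G)))
    (hpw : p ∣ Nat.card (Subgroup.centralizer ({w} : Set G))) :
    ∃ g : G, Subgroup.centralizer ({w} : Set G) =
      (Subgroup.centralizer ({z} : Set G)).map (MulAut.conj g).toMonoidHom := by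
  have : Fact p.Prime := ⟨hp⟩
  have key : ∀ z : G, Real' z → p ∣ Nat.card (Subgroup.centralizer ({z} : Set G)) →
      ∃ P : Sylow p G, (P : Subgroup G) ≤ Subgroup.centralizer ({z} : Set G) := by
    intro z hz hpz
    obtain ⟨⟨x, hxA⟩, hx⟩ := exists_prime_orderOf_dvd_card' p hpz
    rw [Subgroup.orderOf_mk] at hx
    obtain ⟨P, hP⟩ := (isPGroup_zpowers (n := 1) (by rw [hx, pow_one]) :
      IsPGroup p (Subgroup.zpowers x)).exists_le_sylow
    have hxP : x ∈ (P : Subgroup G) := hP (Subgroup.mem_zpowers x)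
    have hx1 : x ≠ 1 := fun h1 => by rw [h1, orderOf_one] at hx; exact hp.one_lt.ne hx
    have : Nontrivial (P : Subgroup G) := ⟨⟨⟨x, hxP⟩, 1, fun he => hx1 (congrArg Subtype.val he)⟩⟩
    have := P.isPGroup'.center_nontrivial
    obtain ⟨⟨⟨c, hcP⟩, hcz⟩, hne⟩ := exists_ne (1 : Subgroup.center ↥(P : Subgroup G))
    have hcc : ∀ v ∈ (P : Subgroup G), v * c = c * v := fun v hv =>
      congrArg Subtype.val (Subgroup.mem_center_iff.mp hcz ⟨v, hv⟩)
    have hcA : c ∈ Subgroup.centralizer ({z} : Set G) := by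
      rw [← (h.real_of_mem hz hxA hx1).2, Subgroup.mem_centralizer_singleton_iff]
      exact (hcc x hxP).symm
    refine ⟨P, fun v hv => ?_⟩
    rw [← (h.real_of_mem hz hcA fun h1 => hne (Subtype.ext (Subtype.ext h1))).2,
      Subgroup.mem_centralizer_singleton_iff]
    exact hcc v hv
  obtain ⟨P, hP⟩ := key z hz hpz
  obtain ⟨Q, hQ⟩ := key w hw hpw
  obtain ⟨g, hg⟩ := MulAction.exists_smul_eq G P Q
  refine ⟨g, ?_⟩
  have hQ' : (Q : Subgroup G) = (P : Subgroup G).map (MulAut.conj g).toMonoidHom := by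
    rw [← hg]; rfl
  have hp1 : (Q : Subgroup G) ≠ ⊥ := Q.ne_bot_of_dvd_card (hpw.trans (Subgroup.card_subgroup_dvd_card _))
  obtain ⟨c, hcQ, hc1⟩ := (Q : Subgroup G).bot_or_exists_ne_one.resolve_left hp1
  obtain ⟨x, hx, hxc⟩ := hQ' ▸ hcQ
  simp only [MulEquiv.coe_toMonoidHom, MulAut.conj_apply] at hxc
  have hx1 : x ≠ 1 := fun h1 => hc1 (by rw [← hxc, h1]; simp)
  rw [← (h.real_of_mem hw (hQ hcQ) hc1).2, ← (h.real_of_mem hz (hP hx) hx1).2, ← hxc]
  ext e
  rw [Subgroup.mem_centralizer_singleton_iff, Subgroup.mem_map]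
  constructor
  · intro he
    refine ⟨g⁻¹ * e * g, Subgroup.mem_centralizer_singleton_iff.mpr ?_, by simp [mul_assoc]⟩
    calc g⁻¹ * e * g * x = g⁻¹ * (e * (g * x * g⁻¹)) * g := by group
      _ = g⁻¹ * ((g * x * g⁻¹) * e) * g := by rw [he]
      _ = x * (g⁻¹ * e * g) := by group
  · rintro ⟨y, hy, rfl⟩
    rw [Subgroup.mem_centralizer_singleton_iff] at hy
    simp only [MulEquiv.coe_toMonoidHom, MulAut.conj_apply]
    calc g * y * g⁻¹ * (g * x * g⁻¹) = g * (y * x) * g⁻¹ := by group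
      _ = g * x * g⁻¹ * (g * y * g⁻¹) := by rw [hy]; group

end EC

end Cfsg.Agent.Invol
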