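import Cfsg.Prelude
import Mathlib

/-!
# Weakly closed `p`-subgroups (in the sense of `Cfsg.IsWeaklyClosedSubgroup`)
-/

namespace Cfsg.Agent.Invol

open scoped commutatorElement

variable {H : Type*} [Group H]

theorem wc_mem_map_conj {Q : Subgroup H} {g x : H} :
    x ∈ Q.map (MulAut.conj g).toMonoidHom ↔ g⁻¹ * x * g ∈ Q := by
  constructor
  · rintro ⟨y, hy, rfl⟩
    simpa [mul_assoc] using hy
  · intro h
    exact ⟨_, h, by simp [mul_assoc]⟩

theorem wc_map_conj_mul (Q : Subgroup H) (g h : H) :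
    Q.map (MulAut.conj (g * h)).toMonoidHom =
      (Q.map (MulAut.conj h).toMonoidHom).map (MulAut.conj g).toMonoidHom := by
  ext x
  simp only [wc_mem_map_conj, mul_inv_rev]
  group

theorem wc_map_conj_one (Q : Subgroup H) : Q.map (MulAut.conj (1 : H)).toMonoidHom = Q := by
  ext x; simp [wc_mem_map_conj]

theorem wc_map_conj_eq_iff {Q : Subgroup H} {g : H} :
    Q.map (MulAut.conj g).toMonoidHom = Q ↔ g ∈ Subgroup.normalizer (Q : Set H) := by
  constructor
  · intro h
    refine Subgroup.mem_normalizer_iff''.mpr fun x => ?_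
    rw [← wc_mem_map_conj, h]
  · intro h
    ext x
    rw [wc_mem_map_conj]
    exact ((Subgroup.mem_normalizer_iff''.mp h) x).symm

theorem wc_le_normalizer_map {R Q : Subgroup H} (g : H) (h : R ≤ Subgroup.normalizer (Q : Set H)) :
    R.map (MulAut.conj g).toMonoidHom ≤
      Subgroup.normalizer ((Q.map (MulAut.conj g).toMonoidHom : Subgroup H) : Set H) := by
  rintro _ ⟨r, hr, rfl⟩
  rw [← wc_map_conj_eq_iff, MulEquiv.coe_toMonoidHom, MulAut.conj_apply, ← wc_map_conj_mul,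
    inv_mul_cancel_right, wc_map_conj_mul, wc_map_conj_eq_iff.mpr (h hr)]

variable [Finite H] {p : ℕ} [Fact p.Prime] {Q : Subgroup H}

/-- Inside a `p`-subgroup all conjugates of a weakly closed subgroup are equal to it. -/
theorem wc_eq (hwc : Cfsg.IsWeaklyClosedSubgroup p Q) {R : Subgroup H} (hR : IsPGroup p R) (hQR : Q ≤ R)
    {g : H} (hg : Q.map (MulAut.conj g).toMonoidHom ≤ R) : Q.map (MulAut.conj g).toMonoidHom = Q := by
  obtain ⟨T, hQT, hT⟩ := hwc
  obtain ⟨S, hRS⟩ := hR.exists_le_sylow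
  obtain ⟨x, hx⟩ := MulAction.exists_smul_eq H S T
  have hST : ((S : Subgroup H).map (MulAut.conj x).toMonoidHom) = (T : Subgroup H) := by
    rw [← hx]; rfl
  have h1 := hT x ((Subgroup.map_mono (hQR.trans hRS)).trans hST.le)
  have h2 := hT (x * g) (by rw [wc_map_conj_mul]; exact (Subgroup.map_mono (hg.trans hRS)).trans hST.le)
  have h3 := congrArg (Subgroup.map (MulAut.conj x⁻¹).toMonoidHom) (h2.trans h1.symm)
  rwa [← wc_map_conj_mul, ← wc_map_conj_mul, inv_mul_cancel_left, inv_mul_cancel, wc_map_conj_one] at h3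

theorem wc_le_normalizer (hwc : Cfsg.IsWeaklyClosedSubgroup p Q) {R : Subgroup H} (hR : IsPGroup p R)
    (hQR : Q ≤ R) : Subgroup.normalizer (R : Set H) ≤ Subgroup.normalizer (Q : Set H) := by
  intro g hg
  exact wc_map_conj_eq_iff.mp (wc_eq hwc hR hQR ((Subgroup.map_mono hQR).trans (wc_map_conj_eq_iff.mpr hg).le))

theorem wc_normalizes (hwc : Cfsg.IsWeaklyClosedSubgroup p Q) {R : Subgroup H} (hR : IsPGroup p R)
    (hQR : Q ≤ R) : R ≤ Subgroup.normalizer (Q : Set H) :=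
  Subgroup.le_normalizer.trans (wc_le_normalizer hwc hR hQR)

theorem wc_subgroupOf (hwc : Cfsg.IsWeaklyClosedSubgroup p Q) (hQ : IsPGroup p Q) {K : Subgroup H}
    (hQK : Q ≤ K) : Cfsg.IsWeaklyClosedSubgroup p (Q.subgroupOf K) := by
  obtain ⟨S, hS⟩ := (hQ.comap_subtype (K := K)).exists_le_sylow
  refine ⟨S, hS, fun k hk => ?_⟩
  refine Subgroup.map_injective K.subtype_injective ?_
  have he : ((Q.subgroupOf K).map (MulAut.conj k).toMonoidHom).map K.subtype =
      Q.map (MulAut.conj (k : H)).toMonoidHom := by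
    rw [Subgroup.map_map]
    conv_rhs => rw [← Subgroup.map_subgroupOf_eq_of_le hQK, Subgroup.map_map]
    rfl
  rw [he, Subgroup.map_subgroupOf_eq_of_le hQK]
  refine wc_eq hwc (S.isPGroup'.map K.subtype) ?_ (he ▸ Subgroup.map_mono hk)
  exact (Subgroup.map_subgroupOf_eq_of_le hQK).ge.trans (Subgroup.map_mono hS)

/-- Conjugates of `Q` inside an overgroup `K` are conjugate under `K`. -/
theorem wc_conj_mem (hwc : Cfsg.IsWeaklyClosedSubgroup p Q) (hQ : IsPGroup p Q) {K : Subgroup H}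
    (hQK : Q ≤ K) {g : H} (hg : Q.map (MulAut.conj g).toMonoidHom ≤ K) :
    ∃ k ∈ K, Q.map (MulAut.conj g).toMonoidHom = Q.map (MulAut.conj k).toMonoidHom := by
  obtain ⟨S, hS⟩ := (hQ.comap_subtype (K := K)).exists_le_sylow
  obtain ⟨S', hS'⟩ := ((hQ.map (MulAut.conj g).toMonoidHom).comap_subtype (K := K)).exists_le_sylow
  obtain ⟨k, hk⟩ := MulAction.exists_smul_eq K S' S
  have h2 : ((Q.map (MulAut.conj g).toMonoidHom).subgroupOf K).map (MulAut.conj k).toMonoidHom ≤ (S : Subgroup K) := by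
    rw [← hk]; exact Subgroup.map_mono hS'
  refine ⟨((k⁻¹ : K) : H), SetLike.coe_mem _, ?_⟩
  have he := Subgroup.map_mono (f := K.subtype) h2
  rw [Subgroup.map_map, show K.subtype.comp (MulAut.conj k).toMonoidHom =
      (MulAut.conj (k : H)).toMonoidHom.comp K.subtype from rfl, ← Subgroup.map_map,
    Subgroup.map_subgroupOf_eq_of_le hg, ← wc_map_conj_mul] at he
  have h3 := wc_eq hwc (S.isPGroup'.map K.subtype)
    ((Subgroup.map_subgroupOf_eq_of_le hQK).ge.trans (Subgroup.map_mono hS)) he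
  conv_rhs => rw [← h3, ← wc_map_conj_mul]
  simp

/-- Characterization by normalizers. -/
theorem wc_iff_normalizer (hQ : IsPGroup p Q) :
    Cfsg.IsWeaklyClosedSubgroup p Q ↔ ∀ R : Subgroup H, IsPGroup p R → Q ≤ R →
      Subgroup.normalizer (R : Set H) ≤ Subgroup.normalizer (Q : Set H) := by
  refine ⟨fun h R hR hQR => wc_le_normalizer h hR hQR, fun h => ?_⟩
  obtain ⟨T, hT⟩ := hQ.exists_le_sylow
  refine ⟨T, hT, fun g hg => ?_⟩
  set N := Subgroup.normalizer (Q : Set H)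
  have hTN : (T : Subgroup H) ≤ N := Subgroup.le_normalizer.trans (h _ T.isPGroup' hT)
  have hQT' : Q ≤ (T : Subgroup H).map (MulAut.conj g⁻¹).toMonoidHom := by
    have := Subgroup.map_mono (f := (MulAut.conj g⁻¹).toMonoidHom) hg
    rwa [← wc_map_conj_mul, inv_mul_cancel, wc_map_conj_one] at this
  have hT'N : ((g⁻¹ • T : Sylow p H) : Subgroup H) ≤ N :=
    Subgroup.le_normalizer.trans (h _ (g⁻¹ • T).isPGroup' hQT')
  obtain ⟨n, hn⟩ := MulAction.exists_smul_eq N ((g⁻¹ • T).subtype hT'N) (T.subtype hTN)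
  have hn' : ((n : H) * g⁻¹) • T = T := by
    rw [mul_smul]
    rw [Sylow.smul_subtype] at hn
    exact Sylow.subtype_injective hn
  have h1 : (n : H) * g⁻¹ ∈ N := h _ T.isPGroup' hT (Sylow.smul_eq_iff_mem_normalizer.mp hn')
  have h2 : g⁻¹ ∈ N := (N.mul_mem_cancel_left n.2).mp h1
  exact wc_map_conj_eq_iff.mpr (by simpa using N.inv_mem h2)

/-- Characterization by mutual normalization. -/
theorem wc_iff_commutator (hQ : IsPGroup p Q) :
    Cfsg.IsWeaklyClosedSubgroup p Q ↔ ∀ g : H,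
      ⁅Q, Q.map (MulAut.conj g).toMonoidHom⁆ ≤ Q ⊓ Q.map (MulAut.conj g).toMonoidHom →
        Q.map (MulAut.conj g).toMonoidHom = Q := by
  constructor
  · intro hwc g hg
    set Q' := Q.map (MulAut.conj g).toMonoidHom with hQ'
    have hn : Q' ≤ Subgroup.normalizer (Q : Set H) := by
      intro x hx
      refine Subgroup.mem_normalizer_fintype fun y hy => ?_
      have := (hg (Subgroup.commutator_mem_commutator hy hx)).1
      have h2 : x * y * x⁻¹ = (y⁻¹ * ⁅y, x⁆)⁻¹ := by simp [commutatorElement_def, mul_assoc]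
      show x * y * x⁻¹ ∈ Q
      rw [h2]
      exact Q.inv_mem (Q.mul_mem (Q.inv_mem hy) this)
    exact wc_eq hwc (IsPGroup.to_sup_of_normal_right' (hQ.map _) hQ hn) le_sup_right le_sup_left
  · intro h
    have hmutual : ∀ g : H, Q.map (MulAut.conj g).toMonoidHom ≤ Subgroup.normalizer (Q : Set H) →
        Q ≤ Subgroup.normalizer ((Q.map (MulAut.conj g).toMonoidHom : Subgroup H) : Set H) →
        Q.map (MulAut.conj g).toMonoidHom = Q := by
      intro g h1 h2
      refine h g ((Subgroup.commutator_le).mpr fun a ha b hb => ⟨?_, ?_⟩)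
      · rw [show ⁅a, b⁆ = a * (b * a⁻¹ * b⁻¹) by simp [commutatorElement_def, mul_assoc]]
        exact Q.mul_mem ha ((Subgroup.mem_normalizer_iff.mp (h1 hb) _).mp (Q.inv_mem ha))
      · rw [commutatorElement_def]
        exact Subgroup.mul_mem _ ((Subgroup.mem_normalizer_iff.mp (h2 ha) _).mp hb) (Subgroup.inv_mem _ hb)
    rw [wc_iff_normalizer hQ]
    intro R hR hQR
    have hRN : R ≤ Subgroup.normalizer (Q : Set H) := by
      by_contra hc
      haveI : Group.IsNilpotent R := hR.isNilpotent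
      set M := (Subgroup.normalizer (Q : Set H)).subgroupOf R with hM
      have hlt : M < ⊤ := lt_top_iff_ne_top.mpr fun e => hc (Subgroup.subgroupOf_eq_top.mp e)
      obtain ⟨x, hx, hxn⟩ := SetLike.exists_of_lt (Group.normalizerCondition_of_isNilpotent M hlt)
      refine hxn (wc_map_conj_eq_iff.mp (hmutual (x : H) ?_ ?_))
      · rintro _ ⟨q, hq, rfl⟩
        exact (Subgroup.mem_normalizer_iff.mp hx ⟨q, hQR hq⟩).mp (Subgroup.le_normalizer hq)
      · intro q hq
        have hq' : (x : H)⁻¹ * q * x ∈ Subgroup.normalizer (Q : Set H) :=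
          (Subgroup.mem_normalizer_iff''.mp hx ⟨q, hQR hq⟩).mp (Subgroup.le_normalizer hq)
        have := wc_le_normalizer_map (R := Subgroup.normalizer (Q : Set H)) (x : H) le_rfl ⟨_, hq', rfl⟩
        simpa [mul_assoc] using this
    intro g hg
    have hgR := wc_map_conj_eq_iff.mpr hg
    refine wc_map_conj_eq_iff.mp (hmutual g (((Subgroup.map_mono hQR).trans hgR.le).trans hRN) ?_)
    have := wc_le_normalizer_map g hRN
    rw [hgR] at this
    exact hQR.trans this

/-- The Frattini argument: a subgroup `M` normalized by `Q` is `(M ∩ N(Q))[M, Q]`. -/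
theorem wc_exists_mul (hwc : Cfsg.IsWeaklyClosedSubgroup p Q) (hQ : IsPGroup p Q) {M : Subgroup H}
    (hQM : Q ≤ Subgroup.normalizer (M : Set H)) {m : H} (hm : m ∈ M) :
    ∃ a ∈ M ⊓ Subgroup.normalizer (Q : Set H), ∃ b ∈ ⁅M, Q⁆, m = a * b := by
  have hCM : ⁅M, Q⁆ ≤ M := Subgroup.commutator_le.mpr fun x hx q hq => by
    rw [show ⁅x, q⁆ = x * (q * x⁻¹ * q⁻¹) by simp [commutatorElement_def, mul_assoc]]
    exact M.mul_mem hx ((Subgroup.mem_normalizer_iff.mp (hQM hq) _).mp (M.inv_mem hx))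
  have hQC : Q ≤ Subgroup.normalizer ((⁅M, Q⁆ : Subgroup H) : Set H) := fun q hq => by
    rw [← wc_map_conj_eq_iff, Subgroup.map_commutator, wc_map_conj_eq_iff.mpr (hQM hq),
      wc_map_conj_eq_iff.mpr (Subgroup.le_normalizer hq)]
  have hle : Q.map (MulAut.conj m).toMonoidHom ≤ Q ⊔ ⁅M, Q⁆ := by
    rintro _ ⟨q, hq, rfl⟩
    rw [MulEquiv.coe_toMonoidHom, MulAut.conj_apply,
      show m * q * m⁻¹ = ⁅m, q⁆ * q by simp [commutatorElement_def, mul_assoc]]
    exact Subgroup.mul_mem _ (Subgroup.mem_sup_right (Subgroup.commutator_mem_commutator hm hq))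
      (Subgroup.mem_sup_left hq)
  obtain ⟨k, hk, hke⟩ := wc_conj_mem hwc hQ le_sup_left hle
  have hk' : k ∈ ((Q ⊔ ⁅M, Q⁆ : Subgroup H) : Set H) := hk
  rw [Subgroup.coe_mul_of_left_le_normalizer_right _ _ hQC] at hk'
  obtain ⟨q, hq, c, hc, rfl⟩ := hk'
  simp only [] at hke ⊢
  -- `q * c = (q * c * q⁻¹) * q`
  set c' := q * c * q⁻¹ with hc'
  have hc'm : c' ∈ ⁅M, Q⁆ := (Subgroup.mem_normalizer_iff.mp (hQC hq) c).mp hc
  rw [show q * c = c' * q by simp [hc', mul_assoc], wc_map_conj_mul,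
    wc_map_conj_eq_iff.mpr (Subgroup.le_normalizer hq)] at hke
  set a := c'⁻¹ * m with ha
  have haM : a ∈ M := M.mul_mem (M.inv_mem (hCM hc'm)) hm
  have haN : a ∈ Subgroup.normalizer (Q : Set H) := by
    rw [← wc_map_conj_eq_iff, ha, wc_map_conj_mul, hke, ← wc_map_conj_mul, inv_mul_cancel, wc_map_conj_one]
  refine ⟨a, ⟨haM, haN⟩, a⁻¹ * c' * a, ?_, by simp [ha, mul_assoc]⟩
  have hn : a⁻¹ ∈ Subgroup.normalizer ((⁅M, Q⁆ : Subgroup H) : Set H) := by
    rw [← wc_map_conj_eq_iff, Subgroup.map_commutator,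
      wc_map_conj_eq_iff.mpr (Subgroup.le_normalizer (M.inv_mem haM)),
      wc_map_conj_eq_iff.mpr (Subgroup.inv_mem _ haN)]
  simpa [mul_assoc] using (Subgroup.mem_normalizer_iff.mp hn c').mp hc'm

end Cfsg.Agent.Invol
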