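import Cfsg.Agent.Lib.Invol.CharP
import Cfsg.Agent.Lib.Invol.WeakClosed
import Cfsg.Agent.Lib.Grp.Frattini
import Cfsg.Prelude

/-!
# Weakly closed self-centralizing subgroups and large subgroups
-/

namespace Cfsg.Agent.Invol

open scoped commutatorElement

variable {H : Type*} [Group H] {p : ℕ}

theorem lg_pCoreOf_le (L : Subgroup H) : Cfsg.pCoreOf p L ≤ L := Subgroup.map_subtype_le _

theorem lg_isPGroup_pCoreOf [Finite H] [Fact p.Prime] (L : Subgroup H) : IsPGroup p ↥(Cfsg.pCoreOf p L) :=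
  (Grp.pCore_isPGroup (p := p) (G := L)).map _

theorem lg_le_pCoreOf {L U : Subgroup H} (hUL : U ≤ L) (hLU : L ≤ Subgroup.normalizer (U : Set H))
    (hU : IsPGroup p U) : U ≤ Cfsg.pCoreOf p L := fun x hx =>
  ⟨⟨x, hUL hx⟩, mem_pCore_of_subgroupOf ((Subgroup.normal_subgroupOf_iff_le_normalizer hUL).mpr hLU) hU hx _, rfl⟩

theorem lg_le_normalizer_pCoreOf (L : Subgroup H) : L ≤ Subgroup.normalizer (Cfsg.pCoreOf p L : Set H) := by
  intro l hl
  rw [← wc_map_conj_eq_iff]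
  have h := pCore_normal p L
  ext x
  rw [wc_mem_map_conj]
  constructor
  · rintro ⟨y, hy, hyx⟩
    refine ⟨⟨l, hl⟩ * y * ⟨l, hl⟩⁻¹, h.conj_mem y hy _, ?_⟩
    simp only [map_mul, map_inv]
    rw [hyx]
    show l * (l⁻¹ * x * l) * l⁻¹ = x
    group
  · rintro ⟨y, hy, rfl⟩
    exact ⟨⟨l, hl⟩⁻¹ * y * ⟨l, hl⟩, by simpa using h.conj_mem y hy ⟨l, hl⟩⁻¹, rfl⟩

theorem lg_normalizer_le_normalizer_pCoreOf [Finite H] [Fact p.Prime] (L : Subgroup H) :
    Subgroup.normalizer (L : Set H) ≤ Subgroup.normalizer (Cfsg.pCoreOf p L : Set H) := by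
  intro g hg
  refine Subgroup.mem_normalizer_fintype fun x hx => ?_
  have h1 := wc_map_conj_eq_iff.mpr hg
  refine lg_le_pCoreOf (U := (Cfsg.pCoreOf p L).map (MulAut.conj g).toMonoidHom) ?_ ?_
    ((lg_isPGroup_pCoreOf L).map _) ⟨x, hx, rfl⟩
  · exact (Subgroup.map_mono (lg_pCoreOf_le L)).trans h1.le
  · exact h1.ge.trans (wc_le_normalizer_map g (lg_le_normalizer_pCoreOf L))

theorem lg_stab_commute [Finite H] [Fact p.Prime] {P : Subgroup H} (hP : IsPGroup p P) {g x : H}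
    (hg : (orderOf g).Coprime p) (hc : Commute g (g * x * g⁻¹ * x⁻¹)) (hmem : g * x * g⁻¹ * x⁻¹ ∈ P) :
    Commute g x := by
  obtain ⟨k, hk⟩ := pow_ppow_eq_one_of_mem hP hmem
  exact commute_of_stabilises hg hk hc (by group)

variable [Finite H] [Fact p.Prime] {Q : Subgroup H}

/-- Inside a subgroup `X` of characteristic `p`: an element of order prime to `p` of `Y` centralizing
`O_p(Y)` is trivial, for `Y` between `Q` and `X`. -/
theorem lg_eq_one_of_charP (hQp : IsPGroup p Q) (hwc : Cfsg.IsWeaklyClosedSubgroup p Q)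
    (hCQ : Subgroup.centralizer (Q : Set H) ≤ Q) {X Y : Subgroup H}
    (hX : X ⊓ Subgroup.centralizer (Cfsg.pCoreOf p X : Set H) ≤ Cfsg.pCoreOf p X) (hYX : Y ≤ X) (hQY : Q ≤ Y)
    {r : H} (hr : (orderOf r).Coprime p) (hrY : r ∈ Y)
    (hrC : r ∈ Subgroup.centralizer (Cfsg.pCoreOf p Y : Set H)) : r = 1 := by
  set P := Cfsg.pCoreOf p X with hPdef
  set A := Cfsg.pCoreOf p Y with hAdef
  have hPp : IsPGroup p P := lg_isPGroup_pCoreOf X
  have hXP : X ≤ Subgroup.normalizer (P : Set H) := lg_le_normalizer_pCoreOf X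
  have hPQ : P ≤ Subgroup.normalizer (Q : Set H) :=
    le_sup_right.trans (wc_normalizes hwc (IsPGroup.to_sup_of_normal_right' hQp hPp ((hQY.trans hYX).trans hXP))
      le_sup_left)
  have hM : P ⊓ Y ≤ A := lg_le_pCoreOf inf_le_right
    (fun y hy => Subgroup.mem_normalizer_fintype fun x hx =>
      ⟨(Subgroup.mem_normalizer_iff.mp (hXP (hYX hy)) x).mp hx.1, Y.mul_mem (Y.mul_mem hy hx.2) (Y.inv_mem hy)⟩)
    (hPp.to_le inf_le_left)
  have hYA : Y ≤ Subgroup.normalizer (A : Set H) := lg_le_normalizer_pCoreOf Y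
  have hcA : ∀ g ∈ Subgroup.centralizer (A : Set H), ∀ m ∈ P ⊓ Y, g * m * g⁻¹ = m := fun g hg m hm => by
    rw [← Subgroup.mem_centralizer_iff.mp hg m (hM hm), mul_inv_cancel_right]
  let E : Subgroup H :=
    { carrier := {g | g ∈ Y ∧ g ∈ Subgroup.centralizer (A : Set H) ∧ ∀ x ∈ P, g * x * g⁻¹ * x⁻¹ ∈ P ⊓ Y}
      one_mem' := ⟨Y.one_mem, Subgroup.one_mem _, fun x _ => by simp⟩
      mul_mem' := by
        rintro a b ⟨ha, ha', ha''⟩ ⟨hb, hb', hb''⟩
        refine ⟨Y.mul_mem ha hb, Subgroup.mul_mem _ ha' hb', fun x hx => ?_⟩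
        rw [show a * b * x * (a * b)⁻¹ * x⁻¹ = a * (b * x * b⁻¹ * x⁻¹) * a⁻¹ * (a * x * a⁻¹ * x⁻¹) by group,
          hcA a ha' _ (hb'' x hx)]
        exact Subgroup.mul_mem _ (hb'' x hx) (ha'' x hx)
      inv_mem' := by
        rintro a ⟨ha, ha', ha''⟩
        refine ⟨Y.inv_mem ha, Subgroup.inv_mem _ ha', fun x hx => ?_⟩
        have h := Subgroup.inv_mem _ (ha'' _ ((Subgroup.mem_normalizer_iff''.mp (hXP (hYX ha)) x).mp hx))
        simpa [mul_assoc] using h }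
  have hEY : Y ≤ Subgroup.normalizer (E : Set H) := fun y hy => Subgroup.mem_normalizer_fintype fun g hg => by
    obtain ⟨hg1, hg2, hg3⟩ := hg
    refine ⟨Y.mul_mem (Y.mul_mem hy hg1) (Y.inv_mem hy), Subgroup.mem_centralizer_iff.mpr fun a ha => ?_,
      fun x hx => ?_⟩
    · have h1 := Subgroup.mem_centralizer_iff.mp hg2 _ ((Subgroup.mem_normalizer_iff''.mp (hYA hy) a).mp ha)
      calc a * (y * g * y⁻¹) = y * (y⁻¹ * a * y * g) * y⁻¹ := by group
        _ = y * (g * (y⁻¹ * a * y)) * y⁻¹ := by rw [h1]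
        _ = y * g * y⁻¹ * a := by group
    · have h := hg3 _ ((Subgroup.mem_normalizer_iff''.mp (hXP (hYX hy)) x).mp hx)
      rw [show y * g * y⁻¹ * x * (y * g * y⁻¹)⁻¹ * x⁻¹ =
        y * (g * (y⁻¹ * x * y) * g⁻¹ * (y⁻¹ * x * y)⁻¹) * y⁻¹ by group]
      exact ⟨(Subgroup.mem_normalizer_iff.mp (hXP (hYX hy)) _).mp h.1, Y.mul_mem (Y.mul_mem hy h.2) (Y.inv_mem hy)⟩
  have hEp : IsPGroup p E := by
    refine isPGroup_of_coprime_elements fun w hw => ?_
    obtain ⟨g, hgE⟩ := w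
    have hg : (orderOf g).Coprime p := by rwa [← Subgroup.orderOf_coe] at hw
    obtain ⟨hg1, hg2, hg3⟩ := hgE
    have hgP : g ∈ Subgroup.centralizer (P : Set H) := Subgroup.mem_centralizer_iff.mpr fun x hx =>
      (lg_stab_commute hPp hg (Subgroup.mem_centralizer_iff.mp hg2 _ (hM (hg3 x hx))).symm (hg3 x hx).1).eq.symm
    exact Subtype.ext (eq_one_of_coprime_of_mem hPp (hX ⟨hYX hg1, hgP⟩) hg)
  have hEA : E ≤ A := lg_le_pCoreOf (fun _ h => h.1) hEY hEp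
  have hQP : ∀ q ∈ Q, ∀ x ∈ P, q * x * q⁻¹ * x⁻¹ ∈ P ⊓ Y := fun q hq x hx =>
    ⟨P.mul_mem ((Subgroup.mem_normalizer_iff.mp (hXP (hYX (hQY hq))) x).mp hx) (P.inv_mem hx),
      hQY (show q * x * q⁻¹ * x⁻¹ ∈ Q by
        rw [show q * x * q⁻¹ * x⁻¹ = q * (x * q⁻¹ * x⁻¹) by group]
        exact Q.mul_mem hq ((Subgroup.mem_normalizer_iff.mp (hPQ hx) _).mp (Q.inv_mem hq)))⟩
  have hrQ : r ∈ Subgroup.centralizer (Q : Set H) := by
    refine Subgroup.mem_centralizer_iff.mpr fun q hq => ?_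
    have hd : q * r * q⁻¹ * r⁻¹ ∈ E := by
      refine ⟨Y.mul_mem (Y.mul_mem (Y.mul_mem (hQY hq) hrY) (Y.inv_mem (hQY hq))) (Y.inv_mem hrY), ?_,
        fun x hx => ?_⟩
      · refine Subgroup.mul_mem _ (Subgroup.mem_centralizer_iff.mpr fun a ha => ?_) (Subgroup.inv_mem _ hrC)
        have h1 := Subgroup.mem_centralizer_iff.mp hrC _ ((Subgroup.mem_normalizer_iff''.mp (hYA (hQY hq)) a).mp ha)
        calc a * (q * r * q⁻¹) = q * (q⁻¹ * a * q * r) * q⁻¹ := by group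
          _ = q * (r * (q⁻¹ * a * q)) * q⁻¹ := by rw [h1]
          _ = q * r * q⁻¹ * a := by group
      · set x1 := r⁻¹ * x * r with hx1
        have hx1P : x1 ∈ P := (Subgroup.mem_normalizer_iff''.mp (hXP (hYX hrY)) x).mp hx
        set m1 := q⁻¹ * x1 * q⁻¹⁻¹ * x1⁻¹ with hm1
        have hm : m1 ∈ P ⊓ Y := hQP _ (Q.inv_mem hq) x1 hx1P
        have hm' : q * m1 * q⁻¹ ∈ P ⊓ Y :=
          ⟨(Subgroup.mem_normalizer_iff.mp (hXP (hYX (hQY hq))) _).mp hm.1,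
            Y.mul_mem (Y.mul_mem (hQY hq) hm.2) (Y.inv_mem (hQY hq))⟩
        have key : q * r * q⁻¹ * r⁻¹ * x * (q * r * q⁻¹ * r⁻¹)⁻¹ * x⁻¹ =
            q * (r * m1 * r⁻¹) * q⁻¹ * (q * x * q⁻¹ * x⁻¹) := by
          rw [hm1, hx1]; group
        rw [key, hcA r hrC m1 hm]
        exact Subgroup.mul_mem _ hm' (hQP q hq x hx)
    have hcd := Subgroup.mem_centralizer_iff.mp hrC _ (hEA (Subgroup.inv_mem _ hd))
    obtain ⟨k, hk⟩ := pow_ppow_eq_one_of_mem (lg_isPGroup_pCoreOf Y) (hEA (Subgroup.inv_mem _ hd))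
    exact (commute_of_stabilises hr hk hcd.symm (by group)).eq.symm
  exact eq_one_of_coprime_of_mem hQp (hCQ hrQ) hr

/-- The same when only `C(O_p(Y))` is assumed to lie in `X`. -/
theorem lg_eq_one_of_centralizer_le (hQp : IsPGroup p Q) (hwc : Cfsg.IsWeaklyClosedSubgroup p Q)
    (hCQ : Subgroup.centralizer (Q : Set H) ≤ Q) {X Y : Subgroup H}
    (hX : X ⊓ Subgroup.centralizer (Cfsg.pCoreOf p X : Set H) ≤ Cfsg.pCoreOf p X) (hQX : Q ≤ X) (hQY : Q ≤ Y)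
    (hCX : Subgroup.centralizer (Cfsg.pCoreOf p Y : Set H) ≤ X)
    {r : H} (hr : (orderOf r).Coprime p) (hrY : r ∈ Y)
    (hrC : r ∈ Subgroup.centralizer (Cfsg.pCoreOf p Y : Set H)) : r = 1 := by
  set A := Cfsg.pCoreOf p Y with hAdef
  set K := Y ⊓ Subgroup.centralizer (A : Set H) with hKdef
  have hKY : Y ≤ Subgroup.normalizer (K : Set H) := fun y hy => Subgroup.mem_normalizer_fintype fun g hg => by
    refine ⟨Y.mul_mem (Y.mul_mem hy hg.1) (Y.inv_mem hy), Subgroup.mem_centralizer_iff.mpr fun a ha => ?_⟩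
    have h1 := Subgroup.mem_centralizer_iff.mp hg.2 _
      ((Subgroup.mem_normalizer_iff''.mp (lg_le_normalizer_pCoreOf Y hy) a).mp ha)
    calc a * (y * g * y⁻¹) = y * (y⁻¹ * a * y * g) * y⁻¹ := by group
      _ = y * (g * (y⁻¹ * a * y)) * y⁻¹ := by rw [h1]
      _ = y * g * y⁻¹ * a := by group
  have hU : Cfsg.pCoreOf p K ≤ A := lg_le_pCoreOf ((lg_pCoreOf_le K).trans inf_le_left)
    (hKY.trans (lg_normalizer_le_normalizer_pCoreOf K)) (lg_isPGroup_pCoreOf K)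
  set Y' := Y ⊓ X with hY'
  set A' := Cfsg.pCoreOf p Y' with hA'
  have hKY' : K ≤ Y' := le_inf inf_le_left (inf_le_right.trans hCX)
  have hA'K : A' ⊓ K ≤ A := by
    refine (lg_le_pCoreOf inf_le_right (fun k hk => Subgroup.mem_normalizer_fintype fun x hx => ?_)
      ((lg_isPGroup_pCoreOf Y').to_le inf_le_left)).trans hU
    exact ⟨(Subgroup.mem_normalizer_iff.mp (lg_le_normalizer_pCoreOf Y' (hKY' hk)) x).mp hx.1,
      K.mul_mem (K.mul_mem hk hx.2) (K.inv_mem hk)⟩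
  refine lg_eq_one_of_charP hQp hwc hCQ hX inf_le_right (le_inf hQY hQX) hr ⟨hrY, hCX hrC⟩
    (Subgroup.mem_centralizer_iff.mpr fun a ha => ?_)
  have hrY' : r ∈ Y' := ⟨hrY, hCX hrC⟩
  have hz : r * a * r⁻¹ * a⁻¹ ∈ A' ⊓ K := by
    refine ⟨Subgroup.mul_mem _ ((Subgroup.mem_normalizer_iff.mp (lg_le_normalizer_pCoreOf Y' hrY') a).mp ha)
      (Subgroup.inv_mem _ ha), ?_⟩
    rw [show r * a * r⁻¹ * a⁻¹ = r * (a * r⁻¹ * a⁻¹) by group]
    exact K.mul_mem ⟨hrY, hrC⟩ ((Subgroup.mem_normalizer_iff.mp (hKY (lg_pCoreOf_le Y' ha).1) _).mp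
      (K.inv_mem ⟨hrY, hrC⟩))
  exact (lg_stab_commute (lg_isPGroup_pCoreOf Y') hr
    (Subgroup.mem_centralizer_iff.mp hrC _ (hA'K hz)).symm hz.1).eq.symm

/-- The centralizer of `O_p(L)` for `L` containing `Q`. -/
theorem lg_centralizer_pCoreOf (hQp : IsPGroup p Q) (hwc : Cfsg.IsWeaklyClosedSubgroup p Q)
    (hCQ : Subgroup.centralizer (Q : Set H) ≤ Q) {X L : Subgroup H}
    (hX : X ⊓ Subgroup.centralizer (Cfsg.pCoreOf p X : Set H) ≤ Cfsg.pCoreOf p X) (hQX : Q ≤ X) (hQL : Q ≤ L)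
    (hCX : Subgroup.centralizer (Cfsg.pCoreOf p L : Set H) ≤ X) :
    ⁅Q, Subgroup.centralizer (Cfsg.pCoreOf p L : Set H)⁆ ≤ Q ⊓ Cfsg.pCoreOf p L ∧
      IsPGroup p ↥(Subgroup.centralizer (Cfsg.pCoreOf p L : Set H)) ∧
      L ⊓ Subgroup.centralizer (Cfsg.pCoreOf p L : Set H) ≤ Cfsg.pCoreOf p L := by
  set A := Cfsg.pCoreOf p L with hAdef
  set C := Subgroup.centralizer (A : Set H) with hCdef
  have hCn : Subgroup.normalizer (A : Set H) ≤ Subgroup.normalizer (C : Set H) := fun y hy =>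
    Subgroup.mem_normalizer_fintype fun g hg => Subgroup.mem_centralizer_iff.mpr fun a ha => by
      have h1 := Subgroup.mem_centralizer_iff.mp hg _ ((Subgroup.mem_normalizer_iff''.mp hy a).mp ha)
      calc a * (y * g * y⁻¹) = y * (y⁻¹ * a * y * g) * y⁻¹ := by group
        _ = y * (g * (y⁻¹ * a * y)) * y⁻¹ := by rw [h1]
        _ = y * g * y⁻¹ * a := by group
  have hLC : IsPGroup p ↥(L ⊓ C) := isPGroup_of_coprime_elements fun w hw => by
    obtain ⟨g, hgE⟩ := w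
    have hg : (orderOf g).Coprime p := by rwa [← Subgroup.orderOf_coe] at hw
    obtain ⟨hg1, hg2⟩ := hgE
    exact Subtype.ext (lg_eq_one_of_centralizer_le hQp hwc hCQ hX hQX hQL hCX hg hg1 hg2)
  have hLA : L ⊓ C ≤ A := lg_le_pCoreOf inf_le_left
    (fun y hy => Subgroup.mem_normalizer_fintype fun g hg =>
      ⟨L.mul_mem (L.mul_mem hy hg.1) (L.inv_mem hy),
        (Subgroup.mem_normalizer_iff.mp (hCn (lg_le_normalizer_pCoreOf L hy)) g).mp hg.2⟩) hLC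
  set Ls := (C ⊔ A) ⊔ Q with hLs
  have hLsA : Ls ≤ Subgroup.normalizer (A : Set H) :=
    sup_le (sup_le (Subgroup.centralizer_le_normalizer _) Subgroup.le_normalizer)
      (hQL.trans (lg_le_normalizer_pCoreOf L))
  have hALs : A ≤ Cfsg.pCoreOf p Ls :=
    lg_le_pCoreOf (le_sup_right.trans le_sup_left) hLsA (lg_isPGroup_pCoreOf L)
  set K := Cfsg.pCoreOf p C with hK
  have hKp : IsPGroup p K := lg_isPGroup_pCoreOf C
  have hQC : Q ≤ Subgroup.normalizer (C : Set H) := (hQL.trans (lg_le_normalizer_pCoreOf L)).trans hCn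
  have hQK : Q ≤ Subgroup.normalizer (K : Set H) := hQC.trans (lg_normalizer_le_normalizer_pCoreOf C)
  have hkill : ∀ g : H, (orderOf g).Coprime p → g ∈ C → g ∈ Subgroup.centralizer (K : Set H) → g = 1 := by
    intro g hg hgC hgK
    refine lg_eq_one_of_centralizer_le hQp hwc hCQ hX hQX le_sup_right
      ((Subgroup.centralizer_le hALs).trans hCX) hg (Subgroup.mem_sup_left (Subgroup.mem_sup_left hgC))
      (Subgroup.mem_centralizer_iff.mpr fun a ha => ?_)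
    have hz1 : g * a * g⁻¹ * a⁻¹ ∈ Cfsg.pCoreOf p Ls := Subgroup.mul_mem _
      ((Subgroup.mem_normalizer_iff.mp (lg_le_normalizer_pCoreOf Ls
        (Subgroup.mem_sup_left (Subgroup.mem_sup_left hgC))) a).mp ha) (Subgroup.inv_mem _ ha)
    have hz2 : g * a * g⁻¹ * a⁻¹ ∈ C := by
      rw [show g * a * g⁻¹ * a⁻¹ = g * (a * g⁻¹ * a⁻¹) by group]
      exact C.mul_mem hgC ((Subgroup.mem_normalizer_iff.mp (hCn (hLsA (lg_pCoreOf_le Ls ha))) _).mp (C.inv_mem hgC))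
    have hz : g * a * g⁻¹ * a⁻¹ ∈ K := by
      refine lg_le_pCoreOf (U := Cfsg.pCoreOf p Ls ⊓ C) inf_le_right ?_
        ((lg_isPGroup_pCoreOf Ls).to_le inf_le_left) ⟨hz1, hz2⟩
      intro c hc
      refine Subgroup.mem_normalizer_fintype fun x hx => ?_
      exact ⟨(Subgroup.mem_normalizer_iff.mp (lg_le_normalizer_pCoreOf Ls
        (Subgroup.mem_sup_left (Subgroup.mem_sup_left hc))) x).mp hx.1,
        C.mul_mem (C.mul_mem hc hx.2) (C.inv_mem hc)⟩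
    exact (lg_stab_commute (lg_isPGroup_pCoreOf Ls) hg (Subgroup.mem_centralizer_iff.mp hgK _ hz).symm hz1).eq.symm
  have hZ : Q ⊓ C ≤ A := le_trans (inf_le_inf_right C hQL) hLA
  have hcZ : ∀ g ∈ C, ∀ m ∈ Q ⊓ C, g * m * g⁻¹ = m := fun g hg m hm => by
    rw [← Subgroup.mem_centralizer_iff.mp hg m (hZ hm), mul_inv_cancel_right]
  have hKQ : K ≤ Subgroup.normalizer (Q : Set H) :=
    le_sup_right.trans (wc_normalizes hwc (IsPGroup.to_sup_of_normal_right' hQp hKp hQK) le_sup_left)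
  let E : Subgroup H :=
    { carrier := {g | g ∈ C ∧ ∀ x ∈ K, g * x * g⁻¹ * x⁻¹ ∈ Q ⊓ C}
      one_mem' := ⟨C.one_mem, fun x _ => by simp⟩
      mul_mem' := by
        rintro a b ⟨ha, ha''⟩ ⟨hb, hb''⟩
        refine ⟨C.mul_mem ha hb, fun x hx => ?_⟩
        rw [show a * b * x * (a * b)⁻¹ * x⁻¹ = a * (b * x * b⁻¹ * x⁻¹) * a⁻¹ * (a * x * a⁻¹ * x⁻¹) by group,
          hcZ a ha _ (hb'' x hx)]
        exact Subgroup.mul_mem _ (hb'' x hx) (ha'' x hx)
      inv_mem' := by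
        rintro a ⟨ha, ha''⟩
        refine ⟨C.inv_mem ha, fun x hx => ?_⟩
        have h := Subgroup.inv_mem _ (ha'' _ ((Subgroup.mem_normalizer_iff''.mp (lg_le_normalizer_pCoreOf C ha) x).mp hx))
        simpa [mul_assoc] using h }
  have hEC : C ≤ Subgroup.normalizer (E : Set H) := fun y hy => Subgroup.mem_normalizer_fintype fun g hg => by
    obtain ⟨hg1, hg3⟩ := hg
    refine ⟨C.mul_mem (C.mul_mem hy hg1) (C.inv_mem hy), fun x hx => ?_⟩
    rw [show y * g * y⁻¹ * x * (y * g * y⁻¹)⁻¹ * x⁻¹ =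
      y * (g * (y⁻¹ * x * y) * g⁻¹ * (y⁻¹ * x * y)⁻¹) * y⁻¹ by group]
    have h := hg3 _ ((Subgroup.mem_normalizer_iff''.mp (lg_le_normalizer_pCoreOf C hy) x).mp hx)
    rw [hcZ y hy _ h]
    exact h
  have hEp : IsPGroup p E := by
    refine isPGroup_of_coprime_elements fun w hw => ?_
    obtain ⟨g, hgE⟩ := w
    have hg : (orderOf g).Coprime p := by rwa [← Subgroup.orderOf_coe] at hw
    obtain ⟨hg1, hg3⟩ := hgE
    refine Subtype.ext (hkill g hg hg1 (Subgroup.mem_centralizer_iff.mpr fun x hx => ?_))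
    exact (lg_stab_commute hKp hg (Subgroup.mem_centralizer_iff.mp hg1 _ (hZ (hg3 x hx))).symm
      (Subgroup.mul_mem _ ((Subgroup.mem_normalizer_iff.mp (lg_le_normalizer_pCoreOf C hg1) x).mp hx)
        (Subgroup.inv_mem _ hx))).eq.symm
  have hEK : E ≤ K := lg_le_pCoreOf (fun _ h => h.1) hEC hEp
  have hQx : ∀ q ∈ Q, ∀ x ∈ K, q * x * q⁻¹ * x⁻¹ ∈ Q ⊓ C := fun q hq x hx =>
    ⟨by rw [show q * x * q⁻¹ * x⁻¹ = q * (x * q⁻¹ * x⁻¹) by group]
        exact Q.mul_mem hq ((Subgroup.mem_normalizer_iff.mp (hKQ hx) _).mp (Q.inv_mem hq)),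
      C.mul_mem ((Subgroup.mem_normalizer_iff.mp (hQC hq) x).mp (lg_pCoreOf_le C hx))
        (C.inv_mem (lg_pCoreOf_le C hx))⟩
  have hd : ∀ q ∈ Q, ∀ g ∈ C, q * g * q⁻¹ * g⁻¹ ∈ E := by
    intro q hq g hg
    refine ⟨C.mul_mem ((Subgroup.mem_normalizer_iff.mp (hQC hq) g).mp hg) (C.inv_mem hg), fun x hx => ?_⟩
    set x1 := g⁻¹ * x * g with hx1
    have hx1K : x1 ∈ K := (Subgroup.mem_normalizer_iff''.mp (lg_le_normalizer_pCoreOf C hg) x).mp hx
    set m1 := q⁻¹ * x1 * q⁻¹⁻¹ * x1⁻¹ with hm1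
    have hm : m1 ∈ Q ⊓ C := hQx _ (Q.inv_mem hq) x1 hx1K
    have key : q * g * q⁻¹ * g⁻¹ * x * (q * g * q⁻¹ * g⁻¹)⁻¹ * x⁻¹ =
        q * (g * m1 * g⁻¹) * q⁻¹ * (q * x * q⁻¹ * x⁻¹) := by
      rw [hm1, hx1]; group
    rw [key, hcZ g hg m1 hm]
    exact Subgroup.mul_mem _ ⟨Q.mul_mem (Q.mul_mem hq hm.1) (Q.inv_mem hq),
      (Subgroup.mem_normalizer_iff.mp (hQC hq) _).mp hm.2⟩ (hQx q hq x hx)
  have hCQn : C ≤ Subgroup.normalizer (Q : Set H) := by
    intro g hg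
    refine wc_map_conj_eq_iff.mp (wc_eq hwc (IsPGroup.to_sup_of_normal_right' hQp hKp hQK) le_sup_left ?_)
    rintro _ ⟨q, hq, rfl⟩
    rw [MulEquiv.coe_toMonoidHom, MulAut.conj_apply,
      show g * q * g⁻¹ = (q * g * q⁻¹ * g⁻¹)⁻¹ * q by group]
    exact Subgroup.mul_mem _ (Subgroup.mem_sup_right (Subgroup.inv_mem _ (hEK (hd q hq g hg))))
      (Subgroup.mem_sup_left hq)
  have h1 : ⁅Q, C⁆ ≤ Q ⊓ C := Subgroup.commutator_le.mpr fun q hq g hg => by
    refine ⟨?_, (hd q hq g hg).1⟩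
    rw [commutatorElement_def, show q * g * q⁻¹ * g⁻¹ = q * (g * q⁻¹ * g⁻¹) by group]
    exact Q.mul_mem hq ((Subgroup.mem_normalizer_iff.mp (hCQn hg) _).mp (Q.inv_mem hq))
  refine ⟨le_inf (h1.trans inf_le_left) (h1.trans hZ), ?_, hLA⟩
  refine isPGroup_of_coprime_elements fun ⟨g, hgC⟩ hg => ?_
  rw [Subgroup.orderOf_mk] at hg
  refine Subtype.ext (eq_one_of_coprime_of_mem hQp (hCQ (Subgroup.mem_centralizer_iff.mpr fun q hq => ?_)) hg)
  have hz : g * q * g⁻¹ * q⁻¹ ∈ Q ⊓ C := by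
    have := h1 (Subgroup.commutator_mem_commutator hq hgC)
    have h2 := Subgroup.inv_mem _ this
    simpa [commutatorElement_def, mul_assoc] using h2
  exact (lg_stab_commute hQp hg (Subgroup.mem_centralizer_iff.mp hgC _ (hZ hz)).symm hz.1).eq.symm

/-! ### Large subgroups -/

theorem lg_wc (hQp : IsPGroup p Q) (hQ1 : Q ≠ ⊥) (hL : Cfsg.IsLarge Q) :
    Cfsg.IsWeaklyClosedSubgroup p Q := by
  refine (wc_iff_normalizer hQp).mpr fun R hR hQR => ?_
  haveI : Nontrivial R := (Subgroup.nontrivial_iff_ne_bot R).mpr fun h => hQ1 (le_bot_iff.mp (hQR.trans h.le))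
  set Z := (Subgroup.center R).map R.subtype with hZ
  have hZ1 : Z ≠ ⊥ := by
    haveI := hR.center_nontrivial
    rw [Ne, hZ, Subgroup.map_eq_bot_iff_of_injective _ R.subtype_injective]
    exact (Subgroup.nontrivial_iff_ne_bot _).mp inferInstance
  have hZQ : Z ≤ Subgroup.centralizer (Q : Set H) := by
    rintro _ ⟨z, hz, rfl⟩
    exact Subgroup.mem_centralizer_iff.mpr fun q hq =>
      congrArg Subtype.val (Subgroup.mem_center_iff.mp hz ⟨q, hQR hq⟩)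
  refine le_trans ?_ (hL.2 Z hZQ hZ1)
  intro g hg
  refine Subgroup.mem_normalizer_fintype ?_
  rintro _ ⟨z, hz, rfl⟩
  have hgz : g * z * g⁻¹ ∈ R := (Subgroup.mem_normalizer_iff.mp hg _).mp z.2
  refine ⟨⟨_, hgz⟩, Subgroup.mem_center_iff.mpr fun r => Subtype.ext ?_, rfl⟩
  have h := congrArg Subtype.val
    (Subgroup.mem_center_iff.mp hz ⟨_, (Subgroup.mem_normalizer_iff''.mp hg r).mp r.2⟩)
  have h' : g⁻¹ * r * g * z = z * (g⁻¹ * r * g) := h
  show (r : H) * (g * z * g⁻¹) = g * z * g⁻¹ * r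
  calc (r : H) * (g * z * g⁻¹) = g * (g⁻¹ * r * g * z) * g⁻¹ := by group
    _ = g * (z * (g⁻¹ * r * g)) * g⁻¹ := by rw [h']
    _ = g * z * g⁻¹ * r := by group

theorem lg_centralizer_singleton_le (hL : Cfsg.IsLarge Q) {y : H}
    (hy : y ∈ Subgroup.centralizer (Q : Set H)) (hy1 : y ≠ 1) :
    Subgroup.centralizer ({y} : Set H) ≤ Subgroup.normalizer (Q : Set H) := by
  refine le_trans ?_ (hL.2 (Subgroup.zpowers y) ((Subgroup.zpowers_le).mpr hy) (Subgroup.zpowers_ne_bot.mpr hy1))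
  refine le_trans ?_ (Subgroup.centralizer_le_normalizer _)
  rw [← Subgroup.centralizer_closure, ← Subgroup.zpowers_eq_closure]

theorem lg_centralizer_charP (hQp : IsPGroup p Q) (hL : Cfsg.IsLarge Q) {X : Subgroup H}
    (hQX : Q ≤ X) (hX : X ≤ Subgroup.normalizer (Q : Set H)) :
    X ⊓ Subgroup.centralizer (Cfsg.pCoreOf p X : Set H) ≤ Cfsg.pCoreOf p X := by
  refine le_trans (inf_le_right.trans ?_) (lg_le_pCoreOf hQX hX hQp)
  exact (Subgroup.centralizer_le (lg_le_pCoreOf hQX hX hQp)).trans hL.1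

theorem lg_exists_fixed (hQp : IsPGroup p Q) {A : Subgroup H} (hA : IsPGroup p A) (hA1 : A ≠ ⊥)
    (hQA : Q ≤ Subgroup.normalizer (A : Set H)) : ∃ y ∈ A ⊓ Subgroup.centralizer (Q : Set H), y ≠ 1 := by
  have hR : IsPGroup p ↥(Q ⊔ A) := IsPGroup.to_sup_of_normal_right' hQp hA hQA
  set N := A.subgroupOf (Q ⊔ A) with hN
  haveI : N.Normal := (Subgroup.normal_subgroupOf_iff_le_normalizer le_sup_right).mpr
    (sup_le hQA Subgroup.le_normalizer)
  have hN1 : N ≠ ⊥ := by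
    intro h
    rw [hN, Subgroup.subgroupOf_eq_bot] at h
    exact hA1 (disjoint_self.mp (h.mono_right le_sup_right))
  haveI := hR.isNilpotent
  obtain ⟨⟨z, hz⟩, hz1⟩ := Subgroup.ne_bot_iff_exists_ne_one.mp (Grp.inf_center_ne_bot N hN1)
  refine ⟨z, ⟨hz.1, Subgroup.mem_centralizer_iff.mpr fun q hq => ?_⟩, fun h => hz1 (Subtype.ext (Subtype.ext h))⟩
  exact congrArg Subtype.val (Subgroup.mem_center_iff.mp hz.2 ⟨q, Subgroup.mem_sup_left hq⟩)

theorem lg_charP_iff {X : Subgroup H} :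
    Subgroup.centralizer (Cfsg.pCore p ↥X : Set ↥X) ≤ Cfsg.pCore p ↥X ↔
      X ⊓ Subgroup.centralizer (Cfsg.pCoreOf p X : Set H) ≤ Cfsg.pCoreOf p X := by
  constructor
  · rintro h x ⟨hx, hxC⟩
    refine ⟨⟨x, hx⟩, h (Subgroup.mem_centralizer_iff.mpr fun a ha => Subtype.ext ?_), rfl⟩
    exact Subgroup.mem_centralizer_iff.mp hxC a ⟨a, ha, rfl⟩
  · intro h x hx
    have hxC : (x : H) ∈ Subgroup.centralizer (Cfsg.pCoreOf p X : Set H) := by
      refine Subgroup.mem_centralizer_iff.mpr ?_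
      rintro _ ⟨a, ha, rfl⟩
      exact congrArg Subtype.val (Subgroup.mem_centralizer_iff.mp hx a ha)
    obtain ⟨y, hy, hyx⟩ := h ⟨x.2, hxC⟩
    rwa [← Subtype.ext hyx]

theorem lg_pCoreOf_top : Cfsg.pCoreOf p (⊤ : Subgroup H) = Cfsg.pCore p H := by
  refine le_antisymm ?_ (lg_le_pCoreOf le_top ?_ Grp.pCore_isPGroup)
  · exact Grp.le_pCore (by
      rw [← Subgroup.normalizer_eq_top_iff, eq_top_iff]
      exact lg_le_normalizer_pCoreOf ⊤) (lg_isPGroup_pCoreOf ⊤)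
  · haveI := pCore_normal p H
    rw [Subgroup.normalizer_eq_top]

theorem lg_mem_centralizer_map {x z : H} :
    z ∈ Subgroup.centralizer ((Q.map (MulAut.conj x).toMonoidHom : Subgroup H) : Set H) ↔
      x⁻¹ * z * x ∈ Subgroup.centralizer (Q : Set H) := by
  simp only [Subgroup.mem_centralizer_iff, SetLike.mem_coe]
  constructor
  · intro h q hq
    have := h (x * q * x⁻¹) ⟨q, hq, rfl⟩
    calc q * (x⁻¹ * z * x) = x⁻¹ * (x * q * x⁻¹ * z) * x := by group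
      _ = x⁻¹ * (z * (x * q * x⁻¹)) * x := by rw [this]
      _ = x⁻¹ * z * x * q := by group
  · rintro h _ ⟨q, hq, rfl⟩
    show x * q * x⁻¹ * z = z * (x * q * x⁻¹)
    calc x * q * x⁻¹ * z = x * (q * (x⁻¹ * z * x)) * x⁻¹ := by group
      _ = x * (x⁻¹ * z * x * q) * x⁻¹ := by rw [h q hq]
      _ = z * (x * q * x⁻¹) := by group

theorem lg_map_conj (hL : Cfsg.IsLarge Q) (x : H) :
    Cfsg.IsLarge (Q.map (MulAut.conj x).toMonoidHom) := by
  refine ⟨fun z hz => wc_mem_map_conj.mpr (hL.1 (lg_mem_centralizer_map.mp hz)), fun U hU hU1 => ?_⟩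
  set V := U.map (MulAut.conj x⁻¹).toMonoidHom with hV
  have hVU : U = V.map (MulAut.conj x).toMonoidHom := by
    rw [hV, ← wc_map_conj_mul, mul_inv_cancel, wc_map_conj_one]
  have hVC : V ≤ Subgroup.centralizer (Q : Set H) := by
    rintro _ ⟨u, hu, rfl⟩
    simpa using lg_mem_centralizer_map.mp (hU hu)
  have h := hL.2 V hVC fun e => hU1 (by rw [hVU, e, Subgroup.map_bot])
  intro g hg
  have h2 := wc_le_normalizer_map x h
  refine h2 ⟨x⁻¹ * g * x, ?_, by simp [mul_assoc]⟩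
  rw [SetLike.mem_coe, ← wc_map_conj_eq_iff, hV, ← wc_map_conj_mul, mul_inv_cancel_right, wc_map_conj_mul,
    wc_map_conj_eq_iff.mpr hg]

/-- `O_p(L)` is self-centralizing for large `Q`. -/
theorem lg_large_centralizer (hQp : IsPGroup p Q) (hQ1 : Q ≠ ⊥) (hL : Cfsg.IsLarge Q) {L : Subgroup H}
    (hQL : Q ≤ L) (hO : Cfsg.pCore p ↥L ≠ ⊥) :
    IsPGroup p ↥(Subgroup.centralizer (Cfsg.pCoreOf p L : Set H)) ∧
      L ⊓ Subgroup.centralizer (Cfsg.pCoreOf p L : Set H) ≤ Cfsg.pCoreOf p L := by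
  have hA1 : Cfsg.pCoreOf p L ≠ ⊥ := fun h =>
    hO ((Subgroup.map_eq_bot_iff_of_injective _ L.subtype_injective).mp h)
  obtain ⟨y, ⟨hyA, hyQ⟩, hy1⟩ := lg_exists_fixed hQp (lg_isPGroup_pCoreOf L) hA1
    (hQL.trans (lg_le_normalizer_pCoreOf L))
  have hQX : Q ≤ Subgroup.centralizer ({y} : Set H) := fun q hq => Subgroup.mem_centralizer_iff.mpr fun a ha => by
    obtain rfl := Set.mem_singleton_iff.mp ha
    exact (Subgroup.mem_centralizer_iff.mp hyQ q hq).symm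
  exact (lg_centralizer_pCoreOf hQp (lg_wc hQp hQ1 hL) hL.1
    (lg_centralizer_charP hQp hL hQX (lg_centralizer_singleton_le hL hyQ hy1)) hQX hQL
    (Subgroup.centralizer_le (by simpa using hyA))).2

/-- A parabolic subgroup with `O_p ≠ 1` contains the centralizer of its `O_p`, for large `Q`. -/
theorem lg_parabolic_centralizer (hQp : IsPGroup p Q) (hQ1 : Q ≠ ⊥) (hL : Cfsg.IsLarge Q) {R : Subgroup H}
    (hR : Cfsg.IsParabolic p R) (hO : Cfsg.pCore p ↥R ≠ ⊥) :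
    Subgroup.centralizer (Cfsg.pCoreOf p R : Set H) ≤ Cfsg.pCoreOf p R := by
  obtain ⟨T, hT⟩ := hR
  obtain ⟨S, hS⟩ := hQp.exists_le_sylow
  obtain ⟨x, hx⟩ := MulAction.exists_smul_eq H S T
  set Q' := Q.map (MulAut.conj x).toMonoidHom with hQ'
  have hQ'T : Q' ≤ (T : Subgroup H) := by rw [← hx]; exact Subgroup.map_mono hS
  have hQ'1 : Q' ≠ ⊥ := fun h =>
    hQ1 ((Subgroup.map_eq_bot_iff_of_injective _ (MulAut.conj x).injective).mp h)
  obtain ⟨hCp, hCR⟩ := lg_large_centralizer (hQp.map _) hQ'1 (lg_map_conj hL x) (hQ'T.trans hT) hO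
  set C := Subgroup.centralizer (Cfsg.pCoreOf p R : Set H) with hC
  have hTC : (T : Subgroup H) ≤ Subgroup.normalizer (C : Set H) := fun t ht =>
    Subgroup.mem_normalizer_fintype fun g hg => Subgroup.mem_centralizer_iff.mpr fun a ha => by
      have h1 := Subgroup.mem_centralizer_iff.mp hg _
        ((Subgroup.mem_normalizer_iff''.mp (lg_le_normalizer_pCoreOf R (hT ht)) a).mp ha)
      calc a * (t * g * t⁻¹) = t * (t⁻¹ * a * t * g) * t⁻¹ := by group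
        _ = t * (g * (t⁻¹ * a * t)) * t⁻¹ := by rw [h1]
        _ = t * g * t⁻¹ * a := by group
  have h := T.3 (IsPGroup.to_sup_of_normal_right' T.isPGroup' hCp hTC) le_sup_left
  exact (le_inf ((le_sup_right.trans h.le).trans hT) le_rfl).trans hCR

end Cfsg.Agent.Invol
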