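import Cfsg.Agent.Lib.Invol.KOInvariant
import Cfsg.Agent.Lib.Char.FongReynolds
import Cfsg.Agent.Lib.Char.FongCores
import Cfsg.Agent.Lib.Block.PPartDerived
import Cfsg.Agent.S4436

/-!
Degrees in a block of a `p`-solvable group against the centre of a defect group.
-/

namespace Cfsg.Agent.Invol.FongHeight

open scoped ComplexConjugate
open Cfsg Cfsg.Agent.Char Cfsg.Agent.Block

set_option linter.unusedSectionVars false

universe u

/-- The centre of a Sylow subgroup lies in `O_{p',p}` and is central there modulo `O_{p'}`. -/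
theorem exists_abelian {G : Type u} [Group G] [Finite G] {p : ℕ} [Fact p.Prime]
    (hsolv : IsPSolvable p G) (P : Sylow p G) :
    ∃ A : Subgroup G, A.Normal ∧ Cfsg.pPrimeCore p G ≤ A ∧
      (∃ j, (Cfsg.pPrimeCore p G).relIndex A = p ^ j) ∧
      (∀ a ∈ A, ∀ b ∈ A, a * b * a⁻¹ * b⁻¹ ∈ Cfsg.pPrimeCore p G) ∧
      (Subgroup.center (P : Subgroup G)).map (P : Subgroup G).subtype ≤ A := by
  haveI := Grp.pPrimeCore_isNormal (p := p) (G := G)
  set K := Cfsg.pPrimeCore p G with hK
  set f := QuotientGroup.mk' K with hf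
  have hfs : Function.Surjective f := QuotientGroup.mk'_surjective K
  set R := Cfsg.pCore p (G ⧸ K) with hR
  haveI : R.Normal := Grp.pCore_isNormal (p := p)
  have hRp : IsPGroup p R := Grp.pCore_isPGroup (p := p)
  set Z₀ := R ⊓ Subgroup.centralizer (R : Set (G ⧸ K)) with hZ₀
  obtain ⟨j, hj⟩ := IsPGroup.iff_card.1 (hRp.to_le (inf_le_left : Z₀ ≤ R))
  refine ⟨Z₀.comap f, inferInstance, fun x hx => ?_, ⟨j, ?_⟩, fun a ha b hb => ?_, ?_⟩
  · show f x ∈ Z₀
    rw [show f x = 1 from (QuotientGroup.eq_one_iff x).2 hx]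
    exact one_mem _
  · have h1 := Subgroup.relIndex_comap (H := (⊥ : Subgroup (G ⧸ K))) (f := f) (K := Z₀.comap f)
    rw [show (⊥ : Subgroup (G ⧸ K)).comap f = K from QuotientGroup.ker_mk' _,
      Subgroup.map_comap_eq_self_of_surjective hfs, Subgroup.relIndex_bot_left, hj] at h1
    exact h1
  · have hc : f b * f a = f a * f b := Subgroup.mem_centralizer_iff.mp ha.2 (f b) hb.1
    rw [← QuotientGroup.eq_one_iff]
    show f (a * b * a⁻¹ * b⁻¹) = 1
    rw [map_mul, map_mul, map_mul, map_inv, map_inv, ← hc, mul_inv_cancel_right, mul_inv_cancel]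
  · rintro _ ⟨z, hz, rfl⟩
    have hle : R ≤ (P : Subgroup G).map f := by
      have hPs : ∃ S : Sylow p (G ⧸ K), (S : Subgroup (G ⧸ K)) = (P : Subgroup G).map f :=
        ⟨P.mapSurjective hfs, rfl⟩
      obtain ⟨S, hS⟩ := hPs
      rw [← hS]
      obtain ⟨S', hS'⟩ := hRp.exists_le_sylow
      obtain ⟨g, rfl⟩ := MulAction.exists_smul_eq (G ⧸ K) S' S
      intro x hx
      rw [Sylow.coe_subgroup_smul, Subgroup.mem_pointwise_smul_iff_inv_smul_mem]
      refine hS' ?_
      show (MulAut.conj g)⁻¹ x ∈ R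
      rw [MulAut.conj_inv_apply]
      simpa using (inferInstance : R.Normal).conj_mem x hx g⁻¹
    have hcent : f (z : G) ∈ Subgroup.centralizer (R : Set (G ⧸ K)) := by
      refine Subgroup.mem_centralizer_iff.mpr fun x hx => ?_
      obtain ⟨y, hy, rfl⟩ := hle hx
      have h := congrArg Subtype.val (Subgroup.mem_center_iff.mp hz ⟨y, hy⟩)
      rw [← map_mul, ← map_mul]
      exact congrArg f h
    exact ⟨Grp.centralizer_pCore_le_of_pSolvable (Grp.isPSolvable_map hsolv f hfs)
      Grp.pPrimeCore_quotient_eq_bot hcent, hcent⟩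

variable {p : ℕ} [Fact p.Prime] {M : Ideal AlgInt}

/-- The bound over an invariant character. -/
theorem invariant_bound {G : Type u} [Group G] [Fintype G] (hsolv : IsPSolvable p G)
    (K : Subgroup G) [K.Normal] [Fintype K] (hK : K = Cfsg.pPrimeCore p G)
    (θ : IrrCharacter K) (hinv : Fong.Fixed K θ) (χ : IrrCharacter G)
    (hχ : classInner (fun n : K => (χ : G → ℂ) n) (θ : K → ℂ) ≠ 0) (P : Sylow p G) :
    (charDegree (χ : G → ℂ)).factorization p +
      (Nat.card (Subgroup.center (P : Subgroup G))).factorization p ≤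
        (Nat.card G).factorization p := by
  classical
  have hp : p.Prime := Fact.out
  obtain ⟨A, hA, hKA, ⟨j, hj⟩, hcomm, hZA⟩ := exists_abelian hsolv P
  rw [← hK] at hKA hj hcomm
  haveI := hA
  letI : Fintype A := Fintype.ofFinite _
  have hcop : ¬ p ∣ Nat.card K := hK ▸ Grp.pPrimeCore_not_dvd
  obtain ⟨μ, hμ, hμres, -⟩ := Fong.exists_invariant_ext A hKA hcop hj hinv
  -- a constituent over `θ`
  set K' := K.subgroupOf A
  haveI : K'.Normal := Subgroup.Normal.subgroupOf inferInstance _
  letI : Fintype K' := Fintype.ofFinite _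
  let e : K' ≃* K := Subgroup.subgroupOfEquivOfLe hKA
  obtain ⟨a, ha, hd⟩ := IsChar.exists_decomp_inner (IsChar.res (irr_isChar χ) A)
  have hex := FR.inner_comp_expand (Subgroup.inclusion hKA) hd (θ : K → ℂ)
  simp only [Subgroup.coe_inclusion] at hex
  rw [hex] at hχ
  obtain ⟨φ, -, hφ⟩ := Finset.exists_ne_zero_of_sum_ne_zero hχ
  rw [mul_ne_zero_iff] at hφ
  have hφA : classInner (fun x : A => (χ : G → ℂ) x) (φ : A → ℂ) ≠ 0 := by
    rw [ha]; exact hφ.1
  have hμK : (fun x : K' => μ x) = fun x : K' => (θ : K → ℂ) (e x) :=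
    funext fun x => hμres (x : A) x.2
  have hne : classInner (fun x : K' => (φ : A → ℂ) x) (fun x : K' => μ x) ≠ 0 := by
    rw [hμK]
    have h := classInner_comp_surjective e.toMonoidHom e.surjective
      (fun n : K => (φ : A → ℂ) (Subgroup.inclusion hKA n)) (θ : K → ℂ)
    intro h0
    exact hφ.2 (h.symm.trans h0)
  obtain ⟨hζ, heq⟩ := gallagher K' hμ φ.2 (hμK ▸ IsIrr.comp_mulEquiv e θ.2) hne
  set ζ := avgN K' ((φ : A → ℂ) * fun g => conj (μ g)) with hζdef
  have hζker : ∀ n ∈ K', ζ n = ζ 1 := fun n hn => by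
    have h := avgN_mul_left K' ((φ : A → ℂ) * fun g => conj (μ g)) ⟨n, hn⟩ 1
    simpa [hζdef] using h
  obtain ⟨ζ', hζ', hζ'eq⟩ := IsIrr.exists_factor_quotient hζ K' hζker
  have hζ1 : ζ 1 = 1 := by
    rw [← hζ'eq 1]
    refine IsIrr.one_of_comm (fun x y => ?_) hζ'
    induction x using QuotientGroup.induction_on with
    | _ x =>
      induction y using QuotientGroup.induction_on with
      | _ y =>
        rw [← QuotientGroup.mk_mul, ← QuotientGroup.mk_mul, eq_comm, QuotientGroup.eq,
          Subgroup.mem_subgroupOf]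
        have h := hcomm (x : G)⁻¹ (inv_mem x.2) (y : G)⁻¹ (inv_mem y.2)
        simpa [mul_assoc] using h
  have hφ1 : (φ : A → ℂ) 1 = (θ : K → ℂ) 1 := by
    rw [← heq, Pi.mul_apply, hζ1, mul_one]
    exact hμres 1 (one_mem K)
  obtain ⟨d, hd1, hpd⟩ := Fong.not_dvd_degree hcop θ
  obtain ⟨n, hn, hndvd⟩ := Ext.ratio_dvd_index' χ.2 φ.2 hφA
  have hdeg : charDegree (χ : G → ℂ) = n * d := by
    have h := charDeg_spec' χ
    rw [hn, hφ1, hd1, ← Nat.cast_mul] at h
    exact_mod_cast h.symm
  have hd0 : d ≠ 0 := fun h0 => hpd (h0 ▸ dvd_zero p)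
  have hn0 : n ≠ 0 := fun h0 => (charDeg_pos χ).ne' (by rw [hdeg, h0, zero_mul])
  have hZdvd : Nat.card (Subgroup.center (P : Subgroup G)) ∣ Nat.card A := by
    rw [← Subgroup.card_map_of_injective (P : Subgroup G).subtype_injective]
    exact Subgroup.card_dvd_of_le hZA
  have h1 : n * Nat.card (Subgroup.center (P : Subgroup G)) ∣ Nat.card G := by
    rw [← A.index_mul_card]
    exact mul_dvd_mul hndvd hZdvd
  have h2 := (Nat.factorization_le_iff_dvd (Nat.mul_ne_zero hn0 Nat.card_pos.ne')
    Nat.card_pos.ne').mpr h1 p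
  rw [Nat.factorization_mul hn0 Nat.card_pos.ne', Finsupp.add_apply] at h2
  rw [hdeg, Nat.factorization_mul hn0 hd0, Finsupp.add_apply,
    Nat.factorization_eq_zero_of_not_dvd hpd, add_zero]
  exact h2

/-- The induction. -/
theorem degree_bound (hM : IsPModular p M) :
    ∀ (n : ℕ) (G : Type u) [Group G] [Fintype G], Nat.card G = n → IsPSolvable p G →
      ∀ (B : Set (IrrCharacter G)), IsPBlock M B → ∀ P : Subgroup G, IsDefectGroup p M B P →
      ∀ χ ∈ B, (charDegree (χ : G → ℂ)).factorization p +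
        (Nat.card (Subgroup.center P)).factorization p ≤ (Nat.card G).factorization p := by
  intro n
  induction n using Nat.strong_induction_on with
  | _ n ih =>
    intro G _ _ hn hsolv B hB P hP χ hχ
    classical
    haveI := Grp.pPrimeCore_isNormal (p := p) (G := G)
    haveI := Fong.pPrimePCore_normal (p := p) (G := G)
    set K := Cfsg.pPrimeCore p G with hKdef
    letI : Fintype K := Fintype.ofFinite _
    letI : Fintype (Cfsg.pPrimePCore p G) := Fintype.ofFinite _
    have hcop : ¬ p ∣ Nat.card K := Grp.pPrimeCore_not_dvd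
    obtain ⟨θ, hθ⟩ := IsChar.exists_constituent' (IsChar.res (irr_isChar χ) K)
      (show (χ : G → ℂ) ((1 : K) : G) ≠ 0 by simpa using irr_one_ne_zero χ)
    by_cases hTtop : inertia K (θ : K → ℂ) = ⊤
    · have hinv : Fong.Fixed K θ := fun g m =>
        congrFun ((mem_inertia K).mp (hTtop ▸ Subgroup.mem_top g)) m
      obtain ⟨Q, hQp, hQL, hQ⟩ := Fong.exists_sylow_pPrimePCore (p := p) (G := G)
      obtain ⟨j, hj⟩ := Fong.exists_relIndex_pPrimePCore (p := p) (G := G)
      obtain ⟨B₀, hB₀, hmem, -, hdef⟩ := Fong.block_over (Cfsg.pPrimePCore p G) Q hM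
        Fong.pPrimeCore_le_pPrimePCore hQL hQp hcop hj hinv
        fun x hx hr => Fong.mem_pPrimeCore_of_commute hsolv hQL hQ hx hr
      have hBeq : B = B₀ := by
        rw [pblock_eq_blockOf hM hB hχ, pblock_eq_blockOf hM hB₀ ((hmem χ).mpr hθ)]
      obtain ⟨S, rfl⟩ := hdef P (hBeq ▸ hP)
      exact invariant_bound hsolv K hKdef θ hinv χ hθ S
    · set T := inertia K (θ : K → ℂ) with hTdef
      have hKT : K ≤ T := le_inertia K (IsIrr.classFun θ.2)
      letI : Fintype T := Fintype.ofFinite _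
      have hb : IsPBlock M ({θ} : Set (IrrCharacter K)) := Fong.isPBlock_singleton hM hcop θ
      have hT : FR.IsStab K ({θ} : Set (IrrCharacter K)) T := by
        intro g
        rw [hTdef, mem_inertia]
        constructor
        · rintro hg η hη η' hη'
          obtain rfl : η = θ := hη
          exact Subtype.ext (funext fun m => (hη' m).trans (congrFun hg m))
        · intro h
          have h1 : (⟨_, IsIrr.conjN K θ.2 g⟩ : IrrCharacter K) ∈
              ({θ} : Set (IrrCharacter K)) := h θ rfl _ fun m => rfl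
          exact congrArg Subtype.val (Set.mem_singleton_iff.mp h1)
      obtain ⟨η, hη, hindχ, -, -⟩ := FR.corr hM hb hT hKT rfl hθ
      have hcov : ∃ ψ ∈ blockOf M (η : T → ℂ), ∃ θ' ∈ ({θ} : Set (IrrCharacter K)),
          classInner (fun n : K => (ψ : T → ℂ) ⟨(n : G), hKT n.2⟩) (θ' : K → ℂ) ≠ 0 :=
        ⟨η, mem_blockOf_self hM η, θ, rfl, hη⟩
      obtain ⟨-, C, hC, hmemC, -⟩ := FR.induced hM hb hT hKT (isPBlock_blockOf η) hcov
      have hχC : χ ∈ C := (hmemC χ).mpr ⟨η, mem_blockOf_self hM η, hindχ.symm⟩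
      have hBC : C = B := by
        rw [pblock_eq_blockOf hM hB hχ, pblock_eq_blockOf hM hC.2.1 hχC]
      rw [hBC] at hC
      obtain ⟨hdef, -⟩ := Cfsg.Agent.S4436.result p M hM K _ hb T hT hKT _ (isPBlock_blockOf η)
        hcov B hC
      obtain ⟨D, hD⟩ := exists_isDefectGroup hM (isPBlock_blockOf η)
      obtain ⟨x, hx⟩ := defectGroup_conj hM hB (hdef D hD) hP
      have hcard : Nat.card (Subgroup.center P) = Nat.card (Subgroup.center D) := by
        let e₁ : D ≃* D.map T.subtype := D.equivMapOfInjective _ T.subtype_injective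
        let e₂ : D.map T.subtype ≃* (D.map T.subtype).map (MulAut.conj x).toMonoidHom :=
          (D.map T.subtype).equivMapOfInjective _ (MulAut.conj x).injective
        exact (Nat.card_congr (Subgroup.centerCongr
          ((e₁.trans e₂).trans (MulEquiv.subgroupCongr hx))).toEquiv).symm
      have hlt : Nat.card T < n := hn ▸ lt_of_le_of_ne (Subgroup.card_le_card_group T)
        (fun h => hTtop (Subgroup.eq_top_of_card_eq T h))
      have h := ih _ hlt T rfl (PPartDerived.isPSolvable_subgroup hsolv T) _ (isPBlock_blockOf η)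
        D hD η (mem_blockOf_self hM η)
      have hdeg : charDegree (χ : G → ℂ) = T.index * charDegree (η : T → ℂ) := by
        have h1 := charDeg_spec' χ
        rw [← hindχ, indFun_one_eq, charDeg_spec' η, ← Nat.cast_mul] at h1
        rw [← hindχ]
        exact_mod_cast h1.symm
      rw [hdeg, Nat.factorization_mul Subgroup.index_ne_zero_of_finite (charDeg_pos η).ne',
        Finsupp.add_apply, hcard, ← T.index_mul_card,
        Nat.factorization_mul Subgroup.index_ne_zero_of_finite Nat.card_pos.ne', Finsupp.add_apply]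
      omega

end Cfsg.Agent.Invol.FongHeight
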