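import Cfsg.Agent.Lib.Recog.RegularLinear
import Cfsg.Agent.Lib.Invol.QuasiDihedral
import Cfsg.Agent.Lib.Grp.Solvable
import Cfsg.Agent.Lib.Grp.PComponents
import Cfsg.Prelude

/-!
Solvable groups with a dihedral or quasi-dihedral Sylow `2`-subgroup whose centre is normal.
-/

set_option autoImplicit false

namespace Cfsg.Agent.Invol.SolvableMaxClass

open Subgroup

variable {G : Type*} [Group G] [Finite G]

/-- An element of odd order normalizing a cyclic `2`-group centralizes it. -/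
theorem fix_of_mem_zpowers {g a : G} {k : ℕ} (ha : a ^ 2 ^ k = 1) (hg : Odd (orderOf g))
    (h : g * a * g⁻¹ ∈ zpowers a) : g * a * g⁻¹ = a := by
  obtain ⟨i, hi⟩ := mem_zpowers_iff.mp h
  have hn : ∀ n : ℕ, g ^ n * a * (g ^ n)⁻¹ = a ^ (i ^ n) := by
    intro n
    induction n with
    | zero => simp
    | succ n ih =>
      calc g ^ (n + 1) * a * (g ^ (n + 1))⁻¹ = g * (g ^ n * a * (g ^ n)⁻¹) * g⁻¹ := by rw [pow_succ']; group
        _ = g * a ^ (i ^ n) * g⁻¹ := by rw [ih]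
        _ = (g * a * g⁻¹) ^ (i ^ n) := by rw [conj_zpow]
        _ = _ := by rw [← hi, ← zpow_mul, pow_succ']
  obtain ⟨d, hd, hd'⟩ := (Nat.dvd_prime_pow Nat.prime_two).mp (orderOf_dvd_of_pow_eq_one ha)
  rcases Nat.eq_zero_or_pos d with rfl | hdpos
  · rw [pow_zero, orderOf_eq_one_iff] at hd'
    rw [hd', mul_one, mul_inv_cancel]
  -- `i` is odd
  have hodd : Odd i := by
    rw [← Int.not_even_iff_odd]
    rintro ⟨r, hr⟩
    have h1 : (g * a * g⁻¹) ^ (2 ^ (d - 1)) = 1 := by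
      rw [← hi, ← zpow_natCast, ← zpow_mul, hr, ← orderOf_dvd_iff_zpow_eq_one, hd']
      refine ⟨r, ?_⟩
      push_cast
      rw [show (2 : ℤ) ^ d = 2 * 2 ^ (d - 1) by rw [← pow_succ']; congr 1; omega]
      ring
    rw [conj_pow, conj_eq_one_iff] at h1
    have := Nat.le_of_dvd (by positivity) (orderOf_dvd_of_pow_eq_one h1)
    rw [hd', Nat.pow_le_pow_iff_right (le_refl 2)] at this
    omega
  have hfix : g ^ (2 ^ d).totient * a * (g ^ (2 ^ d).totient)⁻¹ = a := by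
    rw [hn]
    conv_rhs => rw [← zpow_one a]
    rw [zpow_eq_zpow_iff_modEq, hd']
    rw [← ZMod.intCast_eq_intCast_iff, Int.cast_pow, Int.cast_one]
    have hu : IsUnit (i : ZMod (2 ^ d)) := by
      rw [ZMod.coe_int_isUnit_iff_isCoprime]
      push_cast
      refine IsCoprime.pow_left ?_
      obtain ⟨r, hr⟩ := hodd
      exact ⟨-r, 1, by rw [hr]; ring⟩
    obtain ⟨v, hv⟩ := hu
    rw [← hv, ← Units.val_pow_eq_pow_val, ZMod.pow_totient, Units.val_one]
  have hcop : (orderOf g).Coprime (2 ^ d).totient := by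
    rw [Nat.totient_prime_pow Nat.prime_two hdpos, show 2 - 1 = 1 from rfl, mul_one]
    exact Nat.Coprime.pow_right _ (Nat.coprime_two_right.mpr hg)
  have hmem : g ^ (2 ^ d).totient ∈ centralizer ({a} : Set G) :=
    mem_centralizer_singleton_iff.mpr (mul_inv_eq_iff_eq_mul.mp hfix)
  have hg' : g ∈ centralizer ({a} : Set G) := by
    obtain ⟨m, hm⟩ := exists_pow_eq_self_of_coprime hcop.symm
    rw [← hm]; exact pow_mem hmem m
  exact mul_inv_eq_iff_eq_mul.mpr (mem_centralizer_singleton_iff.mp hg')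

/-- The data: `T` has a cyclic subgroup `⟨x⟩` of index two, elements outside it have order at most
`4` and invert the subgroup of order `4` of `⟨x⟩`. -/
structure Data (T : Subgroup G) (x : G) (m : ℕ) : Prop where
  hm : 2 ≤ m
  xT : x ∈ T
  ox : orderOf x = 2 ^ m
  card : Nat.card T = 2 ^ (m + 1)
  four : ∀ w ∈ T, w ∉ zpowers x → w ^ 4 = 1
  inv : ∀ w ∈ T, w ∉ zpowers x → w * x ^ 2 ^ (m - 2) * w⁻¹ = (x ^ 2 ^ (m - 2))⁻¹

variable {T : Sylow 2 G} {x : G} {m : ℕ}

/-- The quaternion core. -/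
theorem core (hsol : Group.IsSolvable G) (hO : Cfsg.oddCore G = ⊥) (hne : (T : Subgroup G) ≠ ⊤)
    (hZ : ((T : Subgroup G) ⊓ centralizer ((T : Subgroup G) : Set G)).Normal) (h : Data (T : Subgroup G) x m) :
    ∃ f w : G, f ∈ Cfsg.pCore 2 G ∧ w ∈ Cfsg.pCore 2 G ∧ w ∉ zpowers x ∧ f = x ^ 2 ^ (m - 2) ∧
      f * f = w * w ∧
      (∀ g : G, g * (f * f) * g⁻¹ = f * f) ∧
      (∀ u ∈ Cfsg.pCore 2 G, u ∈ zpowers f ∨ w⁻¹ * u ∈ zpowers f) ∧
      ∀ g : G, Odd (orderOf g) → g * f * g⁻¹ ∈ zpowers f → g = 1 := by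
  classical
  haveI : Fact (Nat.Prime 2) := ⟨Nat.prime_two⟩
  haveI := hsol
  obtain ⟨f₀, hf₀⟩ : ∃ f₀, f₀ = x ^ 2 ^ (m - 2) := ⟨_, rfl⟩
  have e4 : (2 : ℕ) ^ m = 2 ^ (m - 2) * 4 := by
    rw [show (4 : ℕ) = 2 ^ 2 by norm_num, ← pow_add]; congr 1; have := h.hm; omega
  have hof : orderOf f₀ = 4 := by
    rw [hf₀, orderOf_pow_of_dvd (by positivity) (h.ox ▸ pow_dvd_pow 2 (by omega)), h.ox, e4,
      Nat.mul_div_cancel_left _ (by positivity)]
  have hf4 : f₀ ^ 4 = 1 := hof ▸ pow_orderOf_eq_one f₀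
  have hff : f₀ * f₀ ≠ 1 := fun e => by
    have := Nat.le_of_dvd two_pos (orderOf_dvd_of_pow_eq_one (show f₀ ^ 2 = 1 by rw [pow_two]; exact e))
    omega
  -- elements of `⟨x⟩` of exponent four
  have hfour : ∀ u ∈ zpowers x, u ^ 4 = 1 → u ∈ zpowers f₀ := by
    intro u hu hu4
    obtain ⟨j, rfl⟩ := mem_zpowers_iff.mp hu
    rw [← zpow_natCast, ← zpow_mul, ← orderOf_dvd_iff_zpow_eq_one, h.ox] at hu4
    obtain ⟨c, hc⟩ := hu4
    refine mem_zpowers_iff.mpr ⟨c, ?_⟩
    rw [hf₀, ← zpow_natCast x, ← zpow_mul]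
    congr 1
    rw [e4] at hc
    push_cast at hc ⊢
    linarith
  have hidx : ((zpowers x).subgroupOf (T : Subgroup G)).index = 2 := by
    have h1 := ((zpowers x).subgroupOf (T : Subgroup G)).card_mul_index
    rw [Nat.card_congr (Subgroup.subgroupOfEquivOfLe (zpowers_le.mpr h.xT)).toEquiv, Nat.card_zpowers, h.ox,
      h.card, pow_succ] at h1
    exact Nat.eq_of_mul_eq_mul_left (by positivity) h1
  have hmulX : ∀ a ∈ (T : Subgroup G), ∀ b ∈ (T : Subgroup G), (a * b ∈ zpowers x ↔ (a ∈ zpowers x ↔ b ∈ zpowers x)) :=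
    fun a ha b hb => Subgroup.mul_mem_iff_of_index_two hidx (a := ⟨a, ha⟩) (b := ⟨b, hb⟩)
  -- the central involution is fixed
  have hzfix : ∀ g : G, g * (f₀ * f₀) * g⁻¹ = f₀ * f₀ := by
    intro g
    obtain ⟨Z, hZdef⟩ : ∃ Z, Z = (T : Subgroup G) ⊓ centralizer ((T : Subgroup G) : Set G) := ⟨_, rfl⟩
    have hfT : f₀ ∈ (T : Subgroup G) := hf₀ ▸ pow_mem h.xT _
    have hzZ : f₀ * f₀ ∈ Z := by
      rw [hZdef]
      refine ⟨mul_mem hfT hfT, mem_centralizer_iff.mpr fun t ht => ?_⟩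
      by_cases htX : t ∈ zpowers x
      · obtain ⟨j, rfl⟩ := mem_zpowers_iff.mp htX
        rw [hf₀, ← pow_add]
        exact (((Commute.refl x).pow_right _).zpow_left j).eq
      · have e := h.inv t ht htX
        rw [← hf₀] at e
        refine mul_inv_eq_iff_eq_mul.mp ?_
        rw [show t * (f₀ * f₀) * t⁻¹ = (t * f₀ * t⁻¹) * (t * f₀ * t⁻¹) by group, e, ← mul_inv_rev]
        refine inv_eq_of_mul_eq_one_right ?_
        rw [show f₀ * f₀ * (f₀ * f₀) = f₀ ^ 4 by simp [pow_succ, mul_assoc]]; exact hf4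
    have hg := (hZdef ▸ hZ : Z.Normal).conj_mem _ hzZ g
    obtain ⟨u, hu⟩ : ∃ u, u = g * (f₀ * f₀) * g⁻¹ := ⟨_, rfl⟩
    rw [← hu] at hg ⊢
    have huX : u ∈ zpowers x := by
      by_contra huX
      rw [hZdef] at hg
      have e := h.inv u hg.1 huX
      rw [← hf₀, ← mem_centralizer_iff.mp hg.2 f₀ hfT, mul_inv_cancel_right, eq_inv_iff_mul_eq_one] at e
      exact hff e
    have hu2 : u * u = 1 := by
      rw [hu, show g * (f₀ * f₀) * g⁻¹ * (g * (f₀ * f₀) * g⁻¹) = g * f₀ ^ 4 * g⁻¹ by simp [pow_succ, mul_assoc], hf4, mul_one, mul_inv_cancel]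
    have hu1 : u ≠ 1 := fun e => hff (conj_eq_one_iff.mp (hu ▸ e))
    obtain ⟨j, hj⟩ := mem_zpowers_iff.mp (hfour u huX (by rw [show u ^ 4 = u * u * (u * u) by simp [pow_succ, mul_assoc], hu2, one_mul]))
    rw [← hj] at hu2 hu1 ⊢
    rw [← zpow_add, ← orderOf_dvd_iff_zpow_eq_one, hof] at hu2
    rw [← pow_two, ← zpow_natCast, zpow_eq_zpow_iff_modEq, hof, Int.ModEq]
    have hj4 : ¬ (4 : ℤ) ∣ j := fun hd => hu1 (by rw [← orderOf_dvd_iff_zpow_eq_one, hof]; exact hd)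
    push_cast at hu2 ⊢
    omega
  -- an element of odd order
  obtain ⟨F, hF⟩ : ∃ F, F = Cfsg.pCore 2 G := ⟨_, rfl⟩
  have hFT : F ≤ (T : Subgroup G) := hF ▸ Grp.pCore_le_sylow T
  have hFc : centralizer (F : Set G) ≤ F := by
    rw [hF, ← Grp.fitting_eq_pCore hO]
    exact Grp.centralizer_fittingSubgroup_le
  obtain ⟨g, hg, hg1⟩ : ∃ g : G, Odd (orderOf g) ∧ g ≠ 1 := by
    obtain ⟨r, hr, hrd⟩ := Nat.exists_prime_and_dvd (show (T : Subgroup G).index ≠ 1 from fun e => hne (index_eq_one.mp e))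
    haveI : Fact r.Prime := ⟨hr⟩
    obtain ⟨g, hg⟩ := exists_prime_orderOf_dvd_card' (G := G) r (hrd.trans (index_dvd_card _))
    refine ⟨g, hg ▸ hr.odd_of_ne_two fun e => T.not_dvd_index (e ▸ hrd), fun e => ?_⟩
    rw [e, orderOf_one] at hg
    exact hr.one_lt.ne hg
  have hFn : ∀ g : G, ∀ u ∈ F, g * u * g⁻¹ ∈ F := fun g u hu =>
    (hF ▸ (sSup_normal _ fun _ hN => hN.1) : F.Normal).conj_mem u hu g
  -- if the cyclic part is fixed then `g` centralizes `F`
  have key : ∀ g : G, Odd (orderOf g) → (∀ u ∈ F ⊓ zpowers x, g * u * g⁻¹ = u) → g = 1 := by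
    intro g hg hfix
    have hgF : g ∈ centralizer (F : Set G) := by
      refine mem_centralizer_iff.mpr fun u hu => ?_
      suffices e : g * u * g⁻¹ = u from (mul_inv_eq_iff_eq_mul.mp e).symm
      by_cases huX : u ∈ zpowers x
      · exact hfix u ⟨hu, huX⟩
      have huT := hFT hu
      have hguX : g * u * g⁻¹ ∉ zpowers x := fun hc => huX (by
        have e := hfix _ ⟨hFn g u hu, hc⟩
        have e' : g * (g * u * g⁻¹) * g⁻¹ = g * u * g⁻¹ := e
        rw [mul_left_inj, mul_right_inj] at e'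
        rwa [e'] at hc)
      obtain ⟨v, hv⟩ : ∃ v, v = u⁻¹ * (g * u * g⁻¹) := ⟨_, rfl⟩
      have hvF : v ∈ F ⊓ zpowers x := by
        rw [hv]
        refine ⟨F.mul_mem (F.inv_mem hu) (hFn g u hu), (hmulX _ (inv_mem huT) _ (hFT (hFn g u hu))).mpr ?_⟩
        exact iff_of_false (fun hc => huX (inv_mem_iff.mp hc)) hguX
      have hgv : g * v * g⁻¹ = v := hfix v hvF
      have hiter : ∀ n : ℕ, g ^ n * u * (g ^ n)⁻¹ = u * v ^ n := by
        intro n
        induction n with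
        | zero => simp
        | succ n ih =>
          calc g ^ (n + 1) * u * (g ^ (n + 1))⁻¹ = g * (g ^ n * u * (g ^ n)⁻¹) * g⁻¹ := by rw [pow_succ']; group
            _ = (g * u * g⁻¹) * (g * v ^ n * g⁻¹) := by rw [ih]; group
            _ = u * v * v ^ n := by rw [← conj_pow, hgv, hv]; group
            _ = _ := by rw [pow_succ', mul_assoc]
      have h1 := hiter (orderOf g)
      rw [pow_orderOf_eq_one, one_mul, inv_one, mul_one, eq_comm, mul_eq_left] at h1
      obtain ⟨d, hd⟩ := T.isPGroup' ⟨v, hFT hvF.1⟩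
      have hv1 : v = 1 := orderOf_eq_one_iff.mp (Nat.eq_one_of_dvd_coprimes (k := orderOf v)
        ((Nat.coprime_two_left.mpr hg).pow_left d) (orderOf_dvd_of_pow_eq_one (congrArg Subtype.val hd))
        (orderOf_dvd_of_pow_eq_one h1))
      rw [hv, inv_mul_eq_one] at hv1
      exact hv1.symm
    have hgT := hFT (hFc hgF)
    obtain ⟨d, hd⟩ := T.isPGroup' ⟨g, hgT⟩
    exact orderOf_eq_one_iff.mp (Nat.eq_one_of_dvd_coprimes
      ((Nat.coprime_two_left.mpr hg).pow_left d) (orderOf_dvd_of_pow_eq_one (congrArg Subtype.val hd)) dvd_rfl)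
  -- some element of `F ∩ ⟨x⟩` leaves `⟨x⟩`
  obtain ⟨u, huF, huX, hgu⟩ : ∃ u ∈ F, u ∈ zpowers x ∧ g * u * g⁻¹ ∉ zpowers x := by
    by_contra hno
    simp only [not_exists, not_and, not_not] at hno
    refine hg1 (key g hg fun u hu => ?_)
    obtain ⟨d, hd⟩ := T.isPGroup' ⟨u, hFT hu.1⟩
    refine fix_of_mem_zpowers (k := d) (congrArg Subtype.val hd) hg ?_
    -- cyclic subgroups of a cyclic group of the same order agree
    have hmem := hno u hu.1 hu.2
    have hle1 : zpowers u ≤ zpowers x := zpowers_le.mpr hu.2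
    have hle2 : zpowers (g * u * g⁻¹) ≤ zpowers x := zpowers_le.mpr hmem
    obtain ⟨N, hN⟩ : ∃ N, N = orderOf u := ⟨_, rfl⟩
    have hNpos : 0 < N := hN ▸ orderOf_pos u
    obtain ⟨a, ha⟩ : ∃ a : zpowers x, a = ⟨u, hu.2⟩ := ⟨_, rfl⟩
    obtain ⟨b, hb⟩ : ∃ b : zpowers x, b = ⟨_, hmem⟩ := ⟨_, rfl⟩
    haveI := Fintype.ofFinite (zpowers x)
    have hsub : (Finset.univ.filter fun v : zpowers x => v ∈ zpowers a) ⊆
        (Finset.univ.filter fun v : zpowers x => v ^ N = 1) := by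
      intro v hv
      simp only [Finset.mem_filter, Finset.mem_univ, true_and] at hv ⊢
      obtain ⟨i, rfl⟩ := mem_zpowers_iff.mp hv
      rw [← zpow_natCast, ← zpow_mul, mul_comm, zpow_mul, zpow_natCast, hN, ha,
        show (⟨u, hu.2⟩ : zpowers x) ^ orderOf u = 1 from Subtype.ext (pow_orderOf_eq_one u), one_zpow]
    have hcard : (Finset.univ.filter fun v : zpowers x => v ∈ zpowers a).card = N := by
      rw [← Fintype.card_subtype, ← Nat.card_eq_fintype_card,
        show Nat.card {v : zpowers x // v ∈ zpowers a} = Nat.card (zpowers a) from rfl, Nat.card_zpowers, ha, hN,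
        Subgroup.orderOf_mk]
    have hle := IsCyclic.card_pow_eq_one_le (α := zpowers x) hNpos
    have heq := Finset.eq_of_subset_of_card_le hsub (hle.trans hcard.ge)
    have hbN : b ∈ Finset.univ.filter fun v : zpowers x => v ^ N = 1 := by
      simp only [Finset.mem_filter, Finset.mem_univ, true_and]
      refine Subtype.ext ?_
      rw [hb, SubgroupClass.coe_pow, conj_pow, hN, pow_orderOf_eq_one, mul_one, mul_inv_cancel]
      rfl
    rw [← heq] at hbN
    simp only [Finset.mem_filter, Finset.mem_univ, true_and] at hbN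
    obtain ⟨i, hi⟩ := mem_zpowers_iff.mp hbN
    exact mem_zpowers_iff.mpr ⟨i, by simpa [ha, hb] using congrArg Subtype.val hi⟩
  have hwT := hFT (hFn g u huF)
  have hu4 : u ^ 4 = 1 := by
    have := h.four _ hwT hgu
    rw [conj_pow, conj_eq_one_iff] at this
    exact this
  obtain ⟨j, hj⟩ := mem_zpowers_iff.mp (hfour u huX hu4)
  have hjodd : Odd j := by
    rw [← Int.not_even_iff_odd]
    rintro ⟨r, hr⟩
    refine hgu ?_
    have e : u = (f₀ * f₀) ^ r := by rw [← hj, hr, ← two_mul, zpow_mul, zpow_two]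
    rw [e, ← conj_zpow, hzfix, ← e]
    exact huX
  obtain ⟨f, hf⟩ : ∃ f, f = f₀ := ⟨_, rfl⟩
  obtain ⟨r, hr⟩ := hjodd
  have hfu : f₀ = u * ((f₀ * f₀) ^ r)⁻¹ := by
    rw [← hj, hr, ← zpow_two, ← zpow_mul, ← zpow_neg, ← zpow_add, show 2 * r + 1 + -(2 * r) = 1 by ring, zpow_one]
  have hf₀F : f₀ ∈ F := by
    -- `u * u = f₀ * f₀`
    have e : u * u = f₀ * f₀ := by
      rw [← hj, ← zpow_add, hr, show (2 * r + 1 + (2 * r + 1) : ℤ) = 4 * r + 2 by ring, zpow_add, zpow_mul]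
      rw [show f₀ ^ (4 : ℤ) = 1 by exact_mod_cast hf4, one_zpow, one_mul, zpow_two]
    rw [hfu]
    exact mul_mem huF (inv_mem (zpow_mem (e ▸ mul_mem huF huF) r))
  obtain ⟨w, hw⟩ : ∃ w, w = g * f₀ * g⁻¹ := ⟨_, rfl⟩
  have hwX : w ∉ zpowers x := by
    intro hc
    refine hgu ?_
    rw [← hj, ← conj_zpow, ← hw]
    exact zpow_mem hc j
  have hwF : w ∈ F := hw ▸ hFn g f₀ hf₀F
  refine ⟨f₀, w, hF ▸ hf₀F, hF ▸ hwF, hwX, hf₀, ?_, hzfix, ?_, ?_⟩
  · rw [hw, show g * f₀ * g⁻¹ * (g * f₀ * g⁻¹) = g * (f₀ * f₀) * g⁻¹ by group, hzfix]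
  · have hin : ∀ v ∈ F, v ∈ zpowers x → v ∈ zpowers f₀ := by
      intro v hv hvX
      refine hfour v hvX ?_
      -- `w v` lies outside `⟨x⟩`
      by_cases hgv : g * v * g⁻¹ ∈ zpowers x
      · -- then `w * v` is conjugate to an element outside
        have hx' : g * (f₀ * v) * g⁻¹ ∉ zpowers x := by
          rw [show g * (f₀ * v) * g⁻¹ = (g * f₀ * g⁻¹) * (g * v * g⁻¹) by group, ← hw,
            hmulX _ (hFT hwF) _ (hFT (hFn g v hv))]
          exact fun hh => hwX (hh.mpr hgv)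
        have := h.four _ (hFT (hFn g _ (mul_mem hf₀F hv))) hx'
        rw [conj_pow, conj_eq_one_iff] at this
        have hc : Commute f₀ v := by
          obtain ⟨i, rfl⟩ := mem_zpowers_iff.mp hvX
          rw [hf₀]
          exact ((Commute.refl x).pow_left _).zpow_right i
        rw [hc.mul_pow, hf4, one_mul] at this
        exact this
      · have := h.four _ (hFT (hFn g v hv)) hgv
        rwa [conj_pow, conj_eq_one_iff] at this
    intro v hv
    rw [← hF] at hv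
    by_cases hvX : v ∈ zpowers x
    · exact Or.inl (hin v hv hvX)
    · refine Or.inr (hin _ (mul_mem (inv_mem hwF) hv) ?_)
      exact (hmulX _ (inv_mem (hFT hwF)) _ (hFT hv)).mpr (iff_of_false (fun hc => hwX (inv_mem_iff.mp hc)) hvX)
  · intro k hk hkf
    have hfix := fix_of_mem_zpowers (k := 2) (by simpa using hf4) hk hkf
    refine key k hk fun v hv => ?_
    obtain ⟨i, rfl⟩ : ∃ i : ℤ, f₀ ^ i = v := by
      refine mem_zpowers_iff.mp (hfour v hv.2 ?_)
      by_cases hgv : g * v * g⁻¹ ∈ zpowers x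
      · have hx' : g * (f₀ * v) * g⁻¹ ∉ zpowers x := by
          rw [show g * (f₀ * v) * g⁻¹ = (g * f₀ * g⁻¹) * (g * v * g⁻¹) by group, ← hw,
            hmulX _ (hFT hwF) _ (hFT (hFn g v hv.1))]
          exact fun hh => hwX (hh.mpr hgv)
        have := h.four _ (hFT (hFn g _ (mul_mem hf₀F hv.1))) hx'
        rw [conj_pow, conj_eq_one_iff] at this
        have hc : Commute f₀ v := by
          obtain ⟨i, rfl⟩ := mem_zpowers_iff.mp hv.2
          rw [hf₀]
          exact ((Commute.refl x).pow_left _).zpow_right i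
        rw [hc.mul_pow, hf4, one_mul] at this
        exact this
      · have := h.four _ (hFT (hFn g v hv.1)) hgv
        rwa [conj_pow, conj_eq_one_iff] at this
    rw [← conj_zpow, hfix]

end Cfsg.Agent.Invol.SolvableMaxClass
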