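import Cfsg.Agent.Lib.Invol.D8Order
import Cfsg.Agent.Lib.Fus.SmallSimple
import Cfsg.Agent.S0111

/-!
An involution with dihedral centralizer of order eight: Sylow subgroup, fusion and simplicity.
-/

set_option autoImplicit false
set_option linter.unusedSectionVars false
set_option linter.style.haveILetI false

namespace Cfsg.Agent.Invol.D8Order

universe u

theorem d8_gen : ∀ x : DihedralGroup 4, ∃ i j : ZMod 4, x = .sr i ∨ x = .sr i * .sr j := by
  intro x
  cases x with
  | r k => exact ⟨0, k, Or.inr (by simp)⟩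
  | sr k => exact ⟨k, 0, Or.inl rfl⟩

theorem d8_partner : ∀ i : ZMod 4, ∃ w : DihedralGroup 4,
    w * .sr i * w⁻¹ = .r 2 * .sr i := by decide

variable {G : Type u} [Group G] [Finite G] {t : G}

section

variable (ht : orderOf t = 2) (e : Subgroup.centralizer ({t} : Set G) ≃* DihedralGroup 4)

include ht

theorem coe_r_two : ((e.symm (.r 2) : Subgroup.centralizer ({t} : Set G)) : G) = t := by
  set T : Subgroup.centralizer ({t} : Set G) := ⟨t, Subgroup.mem_centralizer_singleton_iff.2 rfl⟩
  have h := d8_central (e T) (fun w => by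
    obtain ⟨c, rfl⟩ := e.surjective w
    rw [← map_mul, ← map_mul]
    exact congrArg e (Subtype.ext (Subgroup.mem_centralizer_singleton_iff.1 c.2)))
    (by rw [← map_mul, ← map_one e]
        exact congrArg e (Subtype.ext (by
          show t * t = 1
          rw [← pow_two, ← ht, pow_orderOf_eq_one])))
    (fun h => by
      have h' : T = 1 := e.injective (h.trans (map_one e).symm)
      have : t = 1 := congrArg Subtype.val h'
      rw [this, orderOf_one] at ht
      omega)
  rw [← h, MulEquiv.symm_apply_apply]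

theorem card_eight (e : Subgroup.centralizer ({t} : Set G) ≃* DihedralGroup 4) :
    Nat.card (Subgroup.centralizer ({t} : Set G)) = 8 := by
  rw [Nat.card_congr e.toEquiv, DihedralGroup.nat_card]

include e

/-- The centralizer is a Sylow subgroup. -/
theorem exists_sylow_eq : ∃ S : Sylow 2 G, (S : Subgroup G) = Subgroup.centralizer ({t} : Set G) := by
  haveI := Fact.mk Nat.prime_two
  have h8 := card_eight ht e
  obtain ⟨S, hS⟩ := (IsPGroup.of_card (n := 3) (by rw [h8]; rfl) :
    IsPGroup 2 (Subgroup.centralizer ({t} : Set G))).exists_le_sylow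
  haveI : Nontrivial (S : Subgroup G) :=
    Finite.one_lt_card_iff_nontrivial.1 (by have := Subgroup.card_le_of_le hS; omega)
  haveI := S.isPGroup'.center_nontrivial
  obtain ⟨⟨z, hz⟩, hzo⟩ := exists_prime_orderOf_dvd_card' (G := Subgroup.center (S : Subgroup G)) 2 (by
    obtain ⟨n, hn⟩ := IsPGroup.iff_card.1 (S.isPGroup'.to_subgroup (Subgroup.center (S : Subgroup G)))
    rw [hn]
    refine dvd_pow_self 2 fun h0 => ?_
    have := Finite.one_lt_card (α := Subgroup.center (S : Subgroup G))
    rw [hn, h0, pow_zero] at this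
    omega)
  rw [Subgroup.orderOf_mk, ← Subgroup.orderOf_coe] at hzo
  have hzc : ∀ s : (S : Subgroup G), (s : G) * z = z * s := fun s =>
    congrArg Subtype.val (Subgroup.mem_center_iff.1 hz s)
  have htC : t ∈ Subgroup.centralizer ({t} : Set G) := Subgroup.mem_centralizer_singleton_iff.2 rfl
  set Z : Subgroup.centralizer ({t} : Set G) :=
    ⟨z, Subgroup.mem_centralizer_singleton_iff.2 (hzc ⟨t, hS htC⟩).symm⟩ with hZ
  have hzo' : orderOf Z = 2 := by rw [← Subgroup.orderOf_coe]; exact hzo
  have h := d8_central (e Z) (fun w => by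
    obtain ⟨c, rfl⟩ := e.surjective w
    rw [← map_mul, ← map_mul]
    exact congrArg e (Subtype.ext (hzc ⟨c, hS c.2⟩)))
    (by rw [← map_mul, ← map_one e, ← pow_two]
        exact congrArg e ((congrArg (fun n => Z ^ n) hzo'.symm).trans (pow_orderOf_eq_one _)))
    (fun h => by
      have h' : Z = 1 := e.injective (h.trans (map_one e).symm)
      rw [h', orderOf_one] at hzo'
      omega)
  have hzt : (z : G) = t := by
    have : Z = e.symm (.r 2) := by rw [← h, MulEquiv.symm_apply_apply]
    exact (congrArg Subtype.val this).trans (coe_r_two ht e)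
  exact ⟨S, le_antisymm (fun s hs => Subgroup.mem_centralizer_singleton_iff.2
    (hzt ▸ hzc ⟨s, hs⟩)) hS⟩

/-- Every involution of the centralizer other than `t` is a reflection. -/
theorem exists_sr {u : G} (hu : u ∈ Subgroup.centralizer ({t} : Set G)) (hu2 : u * u = 1) (hu1 : u ≠ 1)
    (hut : u ≠ t) : ∃ i, ((e.symm (.sr i) : Subgroup.centralizer ({t} : Set G)) : G) = u := by
  set U : Subgroup.centralizer ({t} : Set G) := ⟨u, hu⟩
  obtain ⟨i, hi⟩ := d8_involution (e U) (by rw [← map_mul, ← map_one e]; exact congrArg e (Subtype.ext hu2))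
    (fun h => hu1 (congrArg Subtype.val (e.injective (h.trans (map_one e).symm))))
    (fun h => hut (by
      have : U = e.symm (.r 2) := by rw [← h, MulEquiv.symm_apply_apply]
      exact (congrArg Subtype.val this).trans (coe_r_two ht e)))
  exact ⟨i, by rw [← hi, MulEquiv.symm_apply_apply]⟩

/-- Without a subgroup of index two there is one class of involutions. -/
theorem one_class (h2 : ∀ H : Subgroup G, H.index ≠ 2) (u : G) (hu : orderOf u = 2) : IsConj t u := by
  haveI := Fact.mk Nat.prime_two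
  obtain ⟨S, hS⟩ := exists_sylow_eq ht e
  obtain ⟨P, hP⟩ := (IsPGroup.of_card (n := 1) (by rw [Nat.card_zpowers, hu, pow_one]) :
    IsPGroup 2 (Subgroup.zpowers u)).exists_le_sylow
  obtain ⟨g, hg⟩ := MulAction.exists_smul_eq G P S
  have huS : g * u * g⁻¹ ∈ (S : Subgroup G) := by
    rw [← hg]
    exact Subgroup.mem_map_of_mem (MulAut.conj g).toMonoidHom (hP (Subgroup.mem_zpowers _))
  set v := g * u * g⁻¹ with hv
  have hvo : orderOf v = 2 := by rw [hv, ← MulAut.conj_apply, MulEquiv.orderOf_eq, hu]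
  suffices h : IsConj t v from h.trans (isConj_iff.2 ⟨g, rfl⟩).symm
  by_cases hvt : v = t
  · rw [hvt]
  set co : DihedralGroup 4 → G := fun d => (e.symm d : G) with hco
  set Q := Subgroup.zpowers (co (.r 1)) with hQ
  have hcor : orderOf (co (.r 1)) = 4 := by
    rw [hco, Subgroup.orderOf_coe, MulEquiv.orderOf_eq, DihedralGroup.orderOf_r_one]
  have hQS : Q ≤ (S : Subgroup G) := Subgroup.zpowers_le.2 (hS ▸ (e.symm (.r 1)).2)
  have hQi : Q.relIndex (S : Subgroup G) = 2 := by
    have h1 := (Q.subgroupOf (S : Subgroup G)).card_mul_index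
    rw [Nat.card_congr (Subgroup.subgroupOfEquivOfLe hQS).toEquiv, hQ, Nat.card_zpowers, hcor, ← hQ, hS,
      card_eight ht e] at h1
    rw [Subgroup.relIndex, hS]
    omega
  have hcase : ∀ w : G, w ∈ Q → orderOf w = 2 → w = t := by
    intro w hw hwo
    rw [hQ, ← mem_powers_iff_mem_zpowers, Submonoid.mem_powers_iff] at hw
    obtain ⟨k, rfl⟩ := hw
    have h0 : co (.r 1) ^ k = co (.r 1) ^ (k % 4) :=
      pow_eq_pow_mod k (orderOf_dvd_iff_pow_eq_one.1 (dvd_of_eq hcor))
    rw [h0] at hwo ⊢
    have hlt := Nat.mod_lt k (show 4 > 0 by norm_num)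
    interval_cases h : (k % 4)
    · rw [pow_zero, orderOf_one] at hwo; omega
    · rw [pow_one, hcor] at hwo; omega
    · rw [hco, ← SubgroupClass.coe_pow, ← map_pow, show (DihedralGroup.r 1 : DihedralGroup 4) ^ 2 = .r 2 by decide]
      exact coe_r_two ht e
    · rw [orderOf_pow' _ (by norm_num), hcor] at hwo; norm_num at hwo
  rcases Cfsg.Agent.S0111.result S Q hQS hQi v hvo huS (fun h => hvt (hcase v h hvo)) with
    ⟨M, -, hM, -⟩ | ⟨k, hk⟩
  · exact absurd hM (h2 M)
  · have := hcase _ hk (by rw [← MulAut.conj_apply, MulEquiv.orderOf_eq, hvo])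
    exact (isConj_iff.2 ⟨k, this⟩).symm

/-- Fusion of `t` with a reflection kills the normal subgroups of odd order. -/
theorem odd_normal_eq_bot {u : G} (huC : u ∈ Subgroup.centralizer ({t} : Set G)) (hut : u ≠ t)
    (htu : IsConj t u) (N : Subgroup G) [N.Normal] (hN : ¬ 2 ∣ Nat.card N) : N = ⊥ := by
  haveI := Fact.mk Nat.prime_two
  have h8 := card_eight ht e
  have hfix : ∀ n ∈ N, n * t = t * n → n = 1 := by
    intro n hn hc
    have h1 : orderOf n ∣ Nat.card N := Subgroup.orderOf_dvd_natCard _ hn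
    have h2 : orderOf n ∣ 2 ^ 3 :=
      (Subgroup.orderOf_dvd_natCard _ (Subgroup.mem_centralizer_singleton_iff.2 hc)).trans (dvd_of_eq h8)
    refine orderOf_eq_one_iff.1 (Nat.eq_one_of_dvd_coprimes ?_ h1 h2)
    exact Nat.Coprime.pow_right _ ((Nat.prime_two.coprime_iff_not_dvd.2 hN).symm)
  have hinv : ∀ w : G, IsConj t w → ∀ n ∈ N, w * n * w⁻¹ = n⁻¹ := by
    intro w hw n hn
    obtain ⟨g, rfl⟩ := isConj_iff.1 hw
    have key : ∀ m ∈ N, t * m * t⁻¹ = m⁻¹ := by
      intro m hm
      let φ : N → N := fun a => ⟨(a : G)⁻¹ * (t * a * t⁻¹),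
        N.mul_mem (N.inv_mem a.2) (Subgroup.Normal.conj_mem inferInstance _ a.2 t)⟩
      have hφ : Function.Injective φ := by
        intro a b h
        have h' : (a : G)⁻¹ * (t * a * t⁻¹) = (b : G)⁻¹ * (t * b * t⁻¹) := congrArg Subtype.val h
        have hc : ((b : G) * (a : G)⁻¹) * t = t * ((b : G) * (a : G)⁻¹) := by
          calc (b : G) * (a : G)⁻¹ * t = (b : G) * ((a : G)⁻¹ * (t * a * t⁻¹)) * (t * (a : G)⁻¹) := by group
            _ = _ := by rw [h']; group
        exact Subtype.ext (mul_inv_eq_one.1 (hfix _ (N.mul_mem b.2 (N.inv_mem a.2)) hc)).symm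
      obtain ⟨a, ha⟩ := Finite.injective_iff_surjective.1 hφ ⟨m, hm⟩
      have ha' : (a : G)⁻¹ * (t * a * t⁻¹) = m := congrArg Subtype.val ha
      have htt : t⁻¹ = t := inv_eq_of_mul_eq_one_right (by rw [← pow_two, ← ht, pow_orderOf_eq_one])
      rw [← ha', mul_inv_rev, mul_inv_rev, inv_inv, inv_inv, htt]
      have h2 : t * t = 1 := by rw [← pow_two, ← ht, pow_orderOf_eq_one]
      calc t * ((a : G)⁻¹ * (t * a * t)) * t = t * (a : G)⁻¹ * t * a * (t * t) := by group
        _ = _ := by rw [h2, mul_one, mul_inv_rev, htt]; group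
    have hm : g⁻¹ * n * g ∈ N := by simpa using Subgroup.Normal.conj_mem inferInstance n hn g⁻¹
    calc g * t * g⁻¹ * n * (g * t * g⁻¹)⁻¹ = g * (t * (g⁻¹ * n * g) * t⁻¹) * g⁻¹ := by group
      _ = n⁻¹ := by rw [key _ hm]; group
  obtain ⟨hu2, hu1⟩ : u * u = 1 ∧ u ≠ 1 := by
    obtain ⟨g, rfl⟩ := isConj_iff.1 htu
    have h2 : t * t = 1 := by rw [← pow_two, ← ht, pow_orderOf_eq_one]
    refine ⟨by rw [show g * t * g⁻¹ * (g * t * g⁻¹) = g * (t * t) * g⁻¹ by group, h2]; group, fun h => ?_⟩
    rw [mul_inv_eq_one, mul_eq_left] at h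
    rw [h, orderOf_one] at ht
    omega
  obtain ⟨i, hi⟩ := exists_sr ht e huC hu2 hu1 hut
  obtain ⟨w, hw⟩ := d8_partner i
  have htu' : IsConj t (t * u) := by
    refine htu.trans (isConj_iff.2 ⟨(e.symm w : G), ?_⟩)
    have h1 := congrArg (fun d => (e.symm d : G)) hw
    simp only [map_mul, map_inv, Subgroup.coe_mul, Subgroup.coe_inv, hi, coe_r_two ht e] at h1
    exact h1
  rw [Subgroup.eq_bot_iff_forall]
  intro n hn
  have h1 := hinv _ htu' n hn
  rw [show t * u * n * (t * u)⁻¹ = t * (u * n * u⁻¹) * t⁻¹ by group, hinv u htu n hn,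
    hinv t (IsConj.refl t) _ (N.inv_mem hn), inv_inv] at h1
  have h2 : orderOf n ∣ 2 := orderOf_dvd_of_pow_eq_one (by
    rw [pow_two]; nth_rewrite 2 [h1]; rw [mul_inv_cancel])
  refine orderOf_eq_one_iff.1 (Nat.eq_one_of_dvd_coprimes ?_ (Subgroup.orderOf_dvd_natCard _ hn) h2)
  exact (Nat.prime_two.coprime_iff_not_dvd.2 hN).symm

/-- No subgroup of index two: simple of order `168` or `360`. -/
theorem simple_and_order (h2 : ∀ H : Subgroup G, H.index ≠ 2) :
    IsSimpleGroup G ∧ (Nat.card G = 168 ∨ Nat.card G = 360) := by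
  haveI := Fact.mk Nat.prime_two
  have hone := one_class ht e h2
  obtain ⟨S, hS⟩ := exists_sylow_eq ht e
  set co : DihedralGroup 4 → G := fun d => (e.symm d : G) with hco
  have hsro : ∀ i, orderOf (co (.sr i)) = 2 := fun i => by
    rw [hco, Subgroup.orderOf_coe, MulEquiv.orderOf_eq, DihedralGroup.orderOf_sr]
  refine ⟨?_, order_eq t ht e hone⟩
  haveI : Nontrivial G := ⟨⟨t, 1, fun h => by rw [h, orderOf_one] at ht; omega⟩⟩
  refine ⟨fun N hN => ?_⟩
  by_cases hev : 2 ∣ Nat.card N
  · right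
    obtain ⟨⟨v, hv⟩, hvo⟩ := exists_prime_orderOf_dvd_card' (G := N) 2 hev
    rw [Subgroup.orderOf_mk] at hvo
    have hall : ∀ w : G, orderOf w = 2 → w ∈ N := by
      intro w hw
      obtain ⟨g, hg⟩ := isConj_iff.1 ((hone v hvo).symm.trans (hone w hw))
      exact hg ▸ hN.conj_mem v hv g
    have hSN : (S : Subgroup G) ≤ N := by
      rw [hS]
      intro c hc
      obtain ⟨i, j, hij⟩ := d8_gen (e ⟨c, hc⟩)
      have hc' : c = co (e ⟨c, hc⟩) := by rw [hco]; simp
      rw [hc']
      rcases hij with h | h <;> rw [h]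
      · exact hall _ (hsro i)
      · rw [hco]
        simp only [map_mul, Subgroup.coe_mul]
        exact N.mul_mem (hall _ (hsro i)) (hall _ (hsro j))
    have hfr := Sylow.normalizer_sup_eq_top (S.subtype hSN)
    rw [show ((S.subtype hSN : Sylow 2 N) : Subgroup N).map N.subtype = (S : Subgroup G) from
      Subgroup.map_subgroupOf_eq_of_le hSN] at hfr
    refine top_le_iff.1 (hfr ▸ sup_le ?_ le_rfl)
    intro n hn
    refine hSN ?_
    rw [hS, Subgroup.mem_centralizer_singleton_iff]
    have htC : t ∈ (S : Subgroup G) := hS ▸ Subgroup.mem_centralizer_singleton_iff.2 rfl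
    have h1 : n * t * n⁻¹ ∈ Subgroup.centralizer ({t} : Set G) :=
      hS ▸ (Subgroup.mem_normalizer_iff.1 hn t).1 htC
    set T : Subgroup.centralizer ({t} : Set G) := ⟨_, h1⟩
    have hTo : orderOf T = 2 := by
      rw [← Subgroup.orderOf_coe]
      show orderOf (n * t * n⁻¹) = 2
      rw [← MulAut.conj_apply, MulEquiv.orderOf_eq, ht]
    have h2 := d8_central (e T) (fun w => by
      obtain ⟨c, rfl⟩ := e.surjective w
      rw [← map_mul, ← map_mul]
      refine congrArg e (Subtype.ext ?_)
      show (c : G) * (n * t * n⁻¹) = n * t * n⁻¹ * c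
      have hcS : (c : G) ∈ (S : Subgroup G) := by rw [hS]; exact c.2
      have h3 : n⁻¹ * c * n ∈ Subgroup.centralizer ({t} : Set G) :=
        (le_of_eq hS) ((Subgroup.mem_normalizer_iff.1 hn (n⁻¹ * c * n)).2 (by simpa [mul_assoc] using hcS))
      calc (c : G) * (n * t * n⁻¹) = n * (n⁻¹ * c * n * t) * n⁻¹ := by group
        _ = _ := by rw [Subgroup.mem_centralizer_singleton_iff.1 h3]; group)
      (by rw [← map_mul, ← map_one e, ← pow_two]
          exact congrArg e ((congrArg (fun k => T ^ k) hTo.symm).trans (pow_orderOf_eq_one _)))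
      (fun h => by
        have h' : T = 1 := e.injective (h.trans (map_one e).symm)
        rw [h', orderOf_one] at hTo
        omega)
    have h3 : T = e.symm (.r 2) := by rw [← h2, MulEquiv.symm_apply_apply]
    exact mul_inv_eq_iff_eq_mul.1 ((congrArg Subtype.val h3).trans (coe_r_two ht e))
  · left
    exact odd_normal_eq_bot ht e (e.symm (.sr 0)).2
      (fun h => by
        have := congrArg Subtype.val (rfl : e.symm (.sr 0) = e.symm (.sr 0))
        have h' : e.symm (.sr 0) = e.symm (.r 2) := Subtype.ext (h.trans (coe_r_two ht e).symm)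
        exact absurd (e.symm.injective h') (by decide))
      (hone _ (hsro 0)) N hev

end

end Cfsg.Agent.Invol.D8Order
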