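import Cfsg.Agent.Lib.Invol.TwoSylowShape
import Cfsg.Agent.Lib.Classical.GLTwoSylow
import Cfsg.Agent.Lib.Classical.Unit

/-!
Sylow `2`-subgroups of `GL(2,q)` and `GU(2,q)`.
-/

set_option autoImplicit false

namespace Cfsg.Agent.Invol.TwoSylowGLTwo

open Matrix

variable {F : Type*} [Field F] [Fintype F]

theorem exists_order {N : ℕ} (h : N ∣ Nat.card Fˣ) : ∃ z : Fˣ, orderOf z = N := by
  obtain ⟨g, hg⟩ := IsCyclic.exists_ofOrder_eq_natCard (α := Fˣ)
  obtain ⟨b, hb⟩ := h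
  have h0 : N * b ≠ 0 := hb ▸ Nat.card_pos.ne'
  refine ⟨g ^ b, ?_⟩
  rw [orderOf_pow_of_dvd (right_ne_zero_of_mul h0) (hg ▸ hb ▸ dvd_mul_left b N), hg, hb,
    Nat.mul_div_cancel _ (Nat.pos_of_ne_zero (right_ne_zero_of_mul h0))]

/-- Diagonal matrices. -/
def dia : Fˣ × Fˣ →* GL (Fin 2) F where
  toFun p := ⟨!![(p.1 : F), 0; 0, (p.2 : F)], !![((p.1⁻¹ : Fˣ) : F), 0; 0, ((p.2⁻¹ : Fˣ) : F)],
    by ext i j; fin_cases i <;> fin_cases j <;> simp,
    by ext i j; fin_cases i <;> fin_cases j <;> simp⟩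
  map_one' := by ext i j; fin_cases i <;> fin_cases j <;> simp
  map_mul' p r := by ext i j; fin_cases i <;> fin_cases j <;> simp

theorem dia_val (p : Fˣ × Fˣ) : ((dia p : GL (Fin 2) F) : Matrix (Fin 2) (Fin 2) F) = !![(p.1 : F), 0; 0, (p.2 : F)] :=
  rfl

theorem dia_injective : Function.Injective (dia (F := F)) := by
  intro p r h
  have h' := congrArg (fun g : GL (Fin 2) F => (g : Matrix (Fin 2) (Fin 2) F)) h
  simp only [dia_val] at h'
  exact Prod.ext (Units.ext (by simpa using congrFun (congrFun h' 0) 0))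
    (Units.ext (by simpa using congrFun (congrFun h' 1) 1))

/-- The transposition matrix. -/
def swap : GL (Fin 2) F :=
  ⟨!![0, 1; 1, 0], !![0, 1; 1, 0], by ext i j; fin_cases i <;> fin_cases j <;> simp,
    by ext i j; fin_cases i <;> fin_cases j <;> simp⟩

theorem swap_val : ((swap : GL (Fin 2) F) : Matrix (Fin 2) (Fin 2) F) = !![0, 1; 1, 0] := rfl

theorem orderOf_swap : orderOf (swap : GL (Fin 2) F) = 2 := by
  refine orderOf_eq_prime ?_ fun h => ?_
  · rw [pow_two]; ext i j; fin_cases i <;> fin_cases j <;> simp [swap_val]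
  · have h' := congrFun (congrFun (congrArg (fun g : GL (Fin 2) F => (g : Matrix (Fin 2) (Fin 2) F)) h) 0) 1
    simp [swap_val] at h'

theorem swap_conj (a b : Fˣ) : swap * dia (a, b) * (swap : GL (Fin 2) F)⁻¹ = dia (b, a) := by
  rw [mul_inv_eq_iff_eq_mul]
  ext i j; fin_cases i <;> fin_cases j <;> simp [swap_val, dia_val]

theorem orderOf_dia (a : Fˣ) : orderOf (dia (a, 1) : GL (Fin 2) F) = orderOf a := by
  rw [orderOf_injective _ dia_injective, Prod.orderOf_mk, orderOf_one, Nat.lcm_one_right]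

theorem dia_disjoint (a : Fˣ) :
    Subgroup.zpowers (dia (a, 1) : GL (Fin 2) F) ⊓ Subgroup.zpowers (dia (1, a)) = ⊥ := by
  rw [eq_bot_iff]
  rintro g ⟨hg, hg'⟩
  obtain ⟨i, rfl⟩ := Subgroup.mem_zpowers_iff.mp hg
  obtain ⟨j, hj⟩ := Subgroup.mem_zpowers_iff.mp hg'
  rw [← map_zpow, ← map_zpow] at hj
  have h := dia_injective hj
  simp only [Prod.pow_mk, _root_.one_zpow, Prod.mk.injEq] at h
  rw [Subgroup.mem_bot, ← map_zpow, Prod.pow_mk, _root_.one_zpow, ← h.1]
  exact map_one _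

theorem split_two {N : ℕ} (hN : 0 < N) : ∃ a b : ℕ, ¬ 2 ∣ b ∧ N = 2 ^ a * b :=
  Nat.exists_eq_pow_mul_and_not_dvd hN.ne' 2 (by norm_num)

theorem two_le_of_four_dvd {a b : ℕ} (hb : ¬ 2 ∣ b) (h : 4 ∣ 2 ^ a * b) : 2 ≤ a := by
  rcases Nat.lt_or_ge a 2 with h' | h'
  · interval_cases a <;> omega
  · exact h'

theorem gl_wreathed (P : Sylow 2 (GL (Fin 2) F)) (h : Fintype.card F % 4 = 1) :
    Cfsg.IsWreathed ↥(P : Subgroup (GL (Fin 2) F)) := by
  classical
  obtain ⟨q, hq⟩ : ∃ q, q = Fintype.card F := ⟨_, rfl⟩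
  rw [← hq] at h
  have h2 : 2 ≤ q := hq ▸ Fintype.one_lt_card
  obtain ⟨n, b, hb, hnb⟩ := split_two (show 0 < q - 1 by omega)
  have hn : 2 ≤ n := two_le_of_four_dvd hb (hnb ▸ by omega)
  obtain ⟨a, ha⟩ := exists_order (F := F) (N := 2 ^ n) (by rw [Nat.card_units, Nat.card_eq_fintype_card, ← hq]; exact Dvd.intro _ hnb.symm)
  obtain ⟨c, hc⟩ : 2 ∣ q + 1 := by omega
  have hcard : Nat.card (GL (Fin 2) F) = 2 ^ (2 * n + 1) * (q * b * b * c) := by
    rw [Classical.GLTwoSylow.card_GL_eq, ← hq, Fin.prod_univ_two]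
    simp only [Fin.val_zero, Fin.val_one]
    norm_num
    rw [show q ^ 2 - 1 = (q + 1) * (q - 1) by rw [← one_pow 2, Nat.sq_sub_sq, one_pow], hnb, hc]
    ring
  obtain ⟨h1, h1'⟩ := TwoSylowShape.two_part hcard (by
    intro hd
    rcases Nat.prime_two.dvd_mul.mp hd with hd | hd
    · rcases Nat.prime_two.dvd_mul.mp hd with hd | hd
      · rcases Nat.prime_two.dvd_mul.mp hd with hd | hd
        · omega
        · exact hb hd
      · exact hb hd
    · omega)
  refine TwoSylowShape.isWreathed P hn h1 h1' (x := dia (a, 1)) (y := dia (1, a)) (z := swap) ?_ ?_ ?_ orderOf_swap (swap_conj a 1)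
  · rw [orderOf_dia, ha]
  · rw [← map_mul, ← map_mul, mul_comm]
  · exact dia_disjoint a

theorem gl_quasiDihedral (P : Sylow 2 (GL (Fin 2) F)) (h : Fintype.card F % 4 = 3) :
    Cfsg.IsQuasiDihedral ↥(P : Subgroup (GL (Fin 2) F)) := by
  classical
  obtain ⟨q, hq⟩ : ∃ q, q = Fintype.card F := ⟨_, rfl⟩
  rw [← hq] at h
  obtain ⟨p, hp⟩ := CharP.exists F
  obtain ⟨f, hpp, hpf⟩ := FiniteField.card F p
  haveI : Fact p.Prime := ⟨hpp⟩
  haveI hfact : Fact (∀ r : F, r ^ 2 ≠ (-1 : F) + 0 * r) := ⟨fun r hr => by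
    rw [zero_mul, add_zero] at hr
    exact (FiniteField.isSquare_neg_one_iff.mp ⟨r, by rw [← hr, pow_two]⟩) (hq ▸ h)⟩
  haveI : Finite (QuadraticAlgebra F (-1 : F) 0) := Finite.of_equiv (F × F) (QuadraticAlgebra.equivProd (-1 : F) 0).symm
  haveI : Fintype (QuadraticAlgebra F (-1 : F) 0) := Fintype.ofFinite (QuadraticAlgebra F (-1 : F) 0)
  haveI : CharP (QuadraticAlgebra F (-1 : F) 0) p := charP_of_injective_algebraMap (FaithfulSMul.algebraMap_injective F (QuadraticAlgebra F (-1 : F) 0)) p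
  have hK : Nat.card (QuadraticAlgebra F (-1 : F) 0) = q * q := by
    rw [Nat.card_congr (QuadraticAlgebra.equivProd (-1 : F) 0), Nat.card_prod, Nat.card_eq_fintype_card, hq]
  -- the embedding
  let φ : (QuadraticAlgebra F (-1 : F) 0) →* Matrix (Fin 2) (Fin 2) F :=
    { toFun := fun z => !![z.re, -z.im; z.im, z.re]
      map_one' := by
        show !![(1 : F), -(0 : F); (0 : F), (1 : F)] = 1
        ext i j; fin_cases i <;> fin_cases j <;> simp
      map_mul' := fun z w => by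
        show !![z.re * w.re + (-1) * z.im * w.im, -(z.re * w.im + z.im * w.re + 0 * z.im * w.im);
            z.re * w.im + z.im * w.re + 0 * z.im * w.im, z.re * w.re + (-1) * z.im * w.im] = _
        ext i j; fin_cases i <;> fin_cases j <;> simp <;> ring }
  have hφ : Function.Injective φ := fun z w e => QuadraticAlgebra.ext
    (by simpa [φ] using congrFun (congrFun e 0) 0) (by simpa [φ] using congrFun (congrFun e 1) 0)
  obtain ⟨m, b, hb, hmb⟩ := split_two (show 0 < q + 1 by omega)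
  have hm : 2 ≤ m := two_le_of_four_dvd hb (hmb ▸ by omega)
  obtain ⟨c, hc⟩ : 2 ∣ q - 1 := by omega
  obtain ⟨z, hz⟩ := exists_order (F := (QuadraticAlgebra F (-1 : F) 0)) (N := 2 ^ (m + 1)) (by
    rw [Nat.card_units, hK, show q * q - 1 = (q + 1) * (q - 1) by rw [← one_mul 1, Nat.mul_self_sub_mul_self_eq, one_mul], hmb, hc]
    exact ⟨b * c, by ring⟩)
  -- Frobenius
  have hfrob : ∀ w : (QuadraticAlgebra F (-1 : F) 0), w ^ q = ⟨w.re, -w.im⟩ := by
    intro w
    obtain ⟨i, hi⟩ : ∃ i : (QuadraticAlgebra F (-1 : F) 0), i = ⟨0, 1⟩ := ⟨_, rfl⟩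
    have hi2 : i ^ 2 = -1 := by rw [pow_two, hi]; ext <;> simp <;> rfl
    have hiq : i ^ q = -i := by
      obtain ⟨k, hk⟩ : ∃ k, q = 2 * (2 * k + 1) + 1 := ⟨q / 4, by omega⟩
      rw [hk, pow_succ, pow_mul, hi2, Odd.neg_one_pow ⟨k, rfl⟩, neg_one_mul]
    have hw : w = algebraMap F (QuadraticAlgebra F (-1 : F) 0) w.re + algebraMap F (QuadraticAlgebra F (-1 : F) 0) w.im * i := by
      rw [hi]; ext <;> simp
    conv_lhs => rw [hw]
    rw [hq, hpf, add_pow_char_pow, mul_pow, ← map_pow, ← map_pow, ← hpf, FiniteField.pow_card, FiniteField.pow_card,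
      ← hq, hiq, hi]
    ext <;> simp
  let y : GL (Fin 2) F := ⟨!![1, 0; 0, -1], !![1, 0; 0, -1], by ext i j; fin_cases i <;> fin_cases j <;> simp,
    by ext i j; fin_cases i <;> fin_cases j <;> simp⟩
  let x : GL (Fin 2) F := Units.map φ z
  have h2F : (2 : F) ≠ 0 := Ring.two_ne_zero (fun e => by
    have : 2 ∣ q := by
      rw [hq]; haveI := ringChar.of_eq e
      obtain ⟨j, -, hj⟩ := FiniteField.card F 2
      exact hj ▸ dvd_pow_self 2 j.ne_zero
    omega)
  have hyo : orderOf y = 2 := by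
    refine orderOf_eq_prime ?_ fun e => h2F ?_
    · rw [pow_two]; ext i j; fin_cases i <;> fin_cases j <;> simp [y]
    · have h' : (-1 : F) = 1 := by
        simpa [y] using congrFun (congrFun (congrArg (fun g : GL (Fin 2) F => (g : Matrix (Fin 2) (Fin 2) F)) e) 1) 1
      linear_combination -h'
  have hcard : Nat.card (GL (Fin 2) F) = 2 ^ (m + 1 + 1) * (q * c * c * b) := by
    rw [Classical.GLTwoSylow.card_GL_eq, ← hq, Fin.prod_univ_two]
    simp only [Fin.val_zero, Fin.val_one]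
    norm_num
    rw [show q ^ 2 - 1 = (q + 1) * (q - 1) by rw [← one_pow 2, Nat.sq_sub_sq, one_pow], hmb, hc]
    ring
  obtain ⟨h1, h1'⟩ := TwoSylowShape.two_part hcard (by
    intro hd
    rcases Nat.prime_two.dvd_mul.mp hd with hd | hd
    · rcases Nat.prime_two.dvd_mul.mp hd with hd | hd
      · rcases Nat.prime_two.dvd_mul.mp hd with hd | hd
        · omega
        · omega
      · omega
    · exact hb hd)
  refine TwoSylowShape.isQuasiDihedral P (n := m + 1) (by omega) h1 h1' (x := x) (y := y) ?_ hyo ?_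
  · rw [← hz]
    exact orderOf_injective (Units.map φ) (Units.map_injective hφ) z
  · -- `q ≡ 2 ^ m - 1` modulo `2 ^ (m + 1)`
    rw [Nat.add_sub_cancel]
    have hmod : z ^ (2 ^ m - 1) = z ^ q := by
      rw [pow_eq_pow_iff_modEq, hz, Nat.modEq_iff_dvd]
      obtain ⟨k, hk⟩ : ∃ k, b = 2 * k + 1 := ⟨b / 2, by omega⟩
      refine ⟨(k : ℤ), ?_⟩
      have h4 : ((q : ℤ) + 1) = 2 ^ m * (2 * k + 1) := by exact_mod_cast hk ▸ hmb
      push_cast [Nat.one_le_two_pow]
      rw [pow_succ]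
      linear_combination h4
    rw [← map_pow, hmod, mul_inv_eq_iff_eq_mul]
    refine Units.ext ?_
    show !![1, 0; 0, -1] * φ (z : (QuadraticAlgebra F (-1 : F) 0)) = φ ((z : (QuadraticAlgebra F (-1 : F) 0)) ^ q) * !![1, 0; 0, -1]
    rw [hfrob]
    ext i j; fin_cases i <;> fin_cases j <;> simp [φ]

variable {q : ℕ}

theorem mem_GU (hF : Fintype.card F = q ^ 2) {g : GL (Fin 2) F} {a b c d : F}
    (hg : (g : Matrix (Fin 2) (Fin 2) F) = !![a, b; c, d]) (h1 : a * a ^ q + c * c ^ q = 1)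
    (h2 : b * b ^ q + d * d ^ q = 1) (h3 : a * b ^ q + c * d ^ q = 0) (h4 : b * a ^ q + d * c ^ q = 0) :
    g ∈ Cfsg.preserving (Units.coeHom (Matrix (Fin 2) (Fin 2) F)) (Cfsg.hermForm 2 F q) := by
  intro u v
  simp only [Units.coeHom_apply, hg, Cfsg.hermForm, Fin.sum_univ_two, Matrix.cons_mulVec, Matrix.empty_mulVec,
    Matrix.cons_val_zero, Matrix.cons_val_one, dotProduct, Classical.add_pow_q hF, mul_pow]
  linear_combination u 0 * v 0 ^ q * h1 + u 1 * v 1 ^ q * h2 + u 0 * v 1 ^ q * h3 + u 1 * v 0 ^ q * h4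

theorem card_GU_two (hF : Fintype.card F = q ^ 2) :
    (Nat.card ↥(Cfsg.preserving (Units.coeHom (Matrix (Fin 2) (Fin 2) F)) (Cfsg.hermForm 2 F q)) : ℤ) =
      (q : ℤ) * ((q : ℤ) + 1) * ((q : ℤ) * q - 1) := by
  have h := Classical.order_GU (q := q) hF 2
  rw [Finset.prod_range_succ, Finset.prod_range_one] at h
  refine h.trans ?_
  norm_num
  ring

theorem q_facts (hF : Fintype.card F = q ^ 2) (hq : Odd q) :
    0 < q ∧ (2 : F) ≠ 0 ∧ Nat.card Fˣ = (q + 1) * (q - 1) := by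
  have h2 := Classical.two_le_q hF
  refine ⟨by omega, Ring.two_ne_zero fun e => ?_, ?_⟩
  · haveI := ringChar.of_eq e
    obtain ⟨j, -, hj⟩ := FiniteField.card F 2
    rw [hF] at hj
    have h3 : 2 ∣ q ^ 2 := hj ▸ dvd_pow_self 2 j.ne_zero
    have h4 := Nat.prime_two.dvd_of_dvd_pow h3
    obtain ⟨k, hk⟩ := hq
    omega
  · rw [Nat.card_units, Nat.card_eq_fintype_card, hF, ← one_pow 2, Nat.sq_sub_sq, one_pow]

/-- A torus in the form with isotropic lines `(1, ±i)`. -/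
def tor (i h w v : F) : Matrix (Fin 2) (Fin 2) F :=
  !![h * (w + v), -(h * i * (w - v)); h * i * (w - v), h * (w + v)]

theorem tor_mul {i h : F} (hi : i * i = -1) (hh : 2 * h = 1) (w v w' v' : F) :
    tor i h w v * tor i h w' v' = tor i h (w * w') (v * v') := by
  have e1 : h * (w + v) * (h * (w' + v')) + -(h * i * (w - v)) * (h * i * (w' - v')) = h * (w * w' + v * v') := by
    linear_combination -(h * h * (w - v) * (w' - v')) * hi + h * (w * w' + v * v') * hh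
  have e2 : h * (w + v) * -(h * i * (w' - v')) + -(h * i * (w - v)) * (h * (w' + v')) =
      -(h * i * (w * w' - v * v')) := by
    linear_combination -(h * i * (w * w' - v * v')) * hh
  have e3 : h * i * (w - v) * (h * (w' + v')) + h * (w + v) * (h * i * (w' - v')) =
      h * i * (w * w' - v * v') := by
    linear_combination h * i * (w * w' - v * v') * hh
  have e4 : h * i * (w - v) * -(h * i * (w' - v')) + h * (w + v) * (h * (w' + v')) = h * (w * w' + v * v') := by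
    linear_combination -(h * h * (w - v) * (w' - v')) * hi + h * (w * w' + v * v') * hh
  rw [tor, tor, tor, Matrix.mul_fin_two, e1, e2, e3, e4]

omit [Fintype F] in
theorem tor_one {i h : F} (hh : 2 * h = 1) : tor i h 1 1 = 1 := by
  rw [tor, Matrix.one_fin_two, sub_self, mul_zero, neg_zero, ← two_mul, mul_one, mul_comm h, hh]

theorem gu_wreathed (hF : Fintype.card F = q ^ 2) (hq : Odd q) (h : q % 4 = 3)
    (P : Sylow 2 ↥(Cfsg.preserving (Units.coeHom (Matrix (Fin 2) (Fin 2) F)) (Cfsg.hermForm 2 F q))) :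
    Cfsg.IsWreathed ↥(P : Subgroup ↥(Cfsg.preserving (Units.coeHom (Matrix (Fin 2) (Fin 2) F)) (Cfsg.hermForm 2 F q))) := by
  classical
  obtain ⟨hq0, -, hu⟩ := q_facts hF hq
  obtain ⟨n, b, hb, hnb⟩ := split_two (show 0 < q + 1 by omega)
  have hn : 2 ≤ n := two_le_of_four_dvd hb (hnb ▸ by omega)
  obtain ⟨c, hc⟩ : 2 ∣ q - 1 := by omega
  obtain ⟨a, ha⟩ := exists_order (F := F) (N := 2 ^ n) (by
    rw [hu, hnb]; exact ⟨b * (q - 1), by ring⟩)
  have haq : (a : F) * (a : F) ^ q = 1 := by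
    rw [← pow_succ', ← Units.val_pow_eq_pow_val, Units.val_eq_one, ← orderOf_dvd_iff_pow_eq_one, ha, hnb]
    exact dvd_mul_right _ _
  have h0 : (0 : F) ^ q = 0 := zero_pow hq0.ne'
  have hxm : dia (a, 1) ∈ Cfsg.preserving (Units.coeHom (Matrix (Fin 2) (Fin 2) F)) (Cfsg.hermForm 2 F q) :=
    mem_GU hF (dia_val _) (by simp [h0, haq]) (by simp [h0]) (by simp [h0]) (by simp [h0])
  have hym : dia (1, a) ∈ Cfsg.preserving (Units.coeHom (Matrix (Fin 2) (Fin 2) F)) (Cfsg.hermForm 2 F q) :=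
    mem_GU hF (dia_val _) (by simp [h0]) (by simp [h0, haq]) (by simp [h0]) (by simp [h0])
  have hzm : swap ∈ Cfsg.preserving (Units.coeHom (Matrix (Fin 2) (Fin 2) F)) (Cfsg.hermForm 2 F q) :=
    mem_GU hF swap_val (by simp [h0]) (by simp [h0]) (by simp [h0]) (by simp [h0])
  have hcard : Nat.card ↥(Cfsg.preserving (Units.coeHom (Matrix (Fin 2) (Fin 2) F)) (Cfsg.hermForm 2 F q)) =
      2 ^ (2 * n + 1) * (q * b * b * c) := by
    have h1 := card_GU_two (q := q) hF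
    have h5 : (q : ℤ) + 1 = 2 ^ n * b := by exact_mod_cast hnb
    have h6 : (q : ℤ) - 1 = 2 * c := by omega
    rw [show (q : ℤ) * q - 1 = ((q : ℤ) + 1) * ((q : ℤ) - 1) by ring, h5, h6] at h1
    refine Nat.cast_injective (R := ℤ) (h1.trans ?_)
    push_cast
    ring
  obtain ⟨h1, h1'⟩ := TwoSylowShape.two_part hcard (by
    intro hd
    rcases Nat.prime_two.dvd_mul.mp hd with hd | hd
    · rcases Nat.prime_two.dvd_mul.mp hd with hd | hd
      · rcases Nat.prime_two.dvd_mul.mp hd with hd | hd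
        · omega
        · exact hb hd
      · exact hb hd
    · omega)
  refine TwoSylowShape.isWreathed P hn h1 h1' (x := ⟨_, hxm⟩) (y := ⟨_, hym⟩) (z := ⟨_, hzm⟩) ?_ ?_ ?_ ?_ ?_
  · rw [Subgroup.orderOf_mk, orderOf_dia, ha]
  · refine Subtype.ext ?_
    show dia (a, 1) * dia (1, a) = dia (1, a) * dia (a, 1)
    rw [← map_mul, ← map_mul, mul_comm]
  · rw [eq_bot_iff]
    rintro g ⟨hg, hg'⟩
    obtain ⟨i, hi⟩ := Subgroup.mem_zpowers_iff.mp hg
    obtain ⟨j, hj⟩ := Subgroup.mem_zpowers_iff.mp hg'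
    refine Subgroup.mem_bot.mpr (Subtype.ext ?_)
    exact Subgroup.mem_bot.mp ((dia_disjoint a).le (show (g : GL (Fin 2) F) ∈ _ ⊓ _ from
      ⟨⟨i, by simpa using congrArg Subtype.val hi⟩, ⟨j, by simpa using congrArg Subtype.val hj⟩⟩))
  · rw [Subgroup.orderOf_mk, orderOf_swap]
  · exact Subtype.ext (swap_conj a 1)

set_option maxHeartbeats 2000000 in
theorem gu_quasiDihedral (hF : Fintype.card F = q ^ 2) (hq : Odd q) (h : q % 4 = 1)
    (P : Sylow 2 ↥(Cfsg.preserving (Units.coeHom (Matrix (Fin 2) (Fin 2) F)) (Cfsg.hermForm 2 F q))) :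
    Cfsg.IsQuasiDihedral ↥(P : Subgroup ↥(Cfsg.preserving (Units.coeHom (Matrix (Fin 2) (Fin 2) F)) (Cfsg.hermForm 2 F q))) := by
  classical
  obtain ⟨hq0, h20, hu⟩ := q_facts hF hq
  have hq2 := Classical.two_le_q hF
  obtain ⟨m, b, hb, hmb⟩ := split_two (show 0 < q - 1 by omega)
  have hm : 2 ≤ m := two_le_of_four_dvd hb (hmb ▸ by omega)
  obtain ⟨c, hc⟩ : 2 ∣ q + 1 := by omega
  obtain ⟨ω, hω⟩ := exists_order (F := F) (N := 2 ^ (m + 1)) (by
    rw [hu, hmb, hc]; exact ⟨b * c, by ring⟩)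
  obtain ⟨k, hk⟩ : ∃ k, k = 2 ^ m - 1 := ⟨_, rfl⟩
  have hk1 : k + 1 = 2 ^ m := by have := Nat.one_le_two_pow (n := m); omega
  -- relations
  have hr1 : ω ^ q * ω ^ k = 1 := by
    rw [← pow_add, ← orderOf_dvd_iff_pow_eq_one, hω]
    obtain ⟨r, hr⟩ : 2 ∣ b + 1 := by omega
    refine ⟨r, ?_⟩
    have e : q + k = 2 ^ m * (b + 1) := by rw [mul_add, ← hmb, mul_one]; omega
    rw [e, hr, pow_succ]; ring
  have hr2 : ω ^ (k * k) = ω := by
    conv_rhs => rw [← pow_one ω]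
    rw [pow_eq_pow_iff_modEq, hω]
    refine Nat.ModEq.symm ((Nat.modEq_iff_dvd' (Nat.one_le_iff_ne_zero.mpr ?_)).mpr ?_)
    · have : 2 ≤ 2 ^ m := Nat.le_self_pow (by omega) 2
      exact Nat.mul_ne_zero (by omega) (by omega)
    · obtain ⟨r, hr⟩ : ∃ r, k = 2 * r + 1 ∧ 2 ^ m = 2 * (r + 1) := by
        obtain ⟨m', rfl⟩ : ∃ m', m = m' + 1 := ⟨m - 1, by omega⟩
        have := Nat.one_le_two_pow (n := m')
        rw [pow_succ] at hk1 ⊢
        exact ⟨2 ^ m' - 1, by omega, by omega⟩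
      refine ⟨r, ?_⟩
      rw [pow_succ, hr.2, hr.1, show (2 * r + 1) * (2 * r + 1) = 2 * (r + 1) * 2 * r + 1 by ring, Nat.add_sub_cancel]
  obtain ⟨v, hv⟩ : ∃ v, v = ω ^ k := ⟨_, rfl⟩
  obtain ⟨i, hi⟩ : ∃ i, i = ω ^ (2 ^ (m - 1)) := ⟨_, rfl⟩
  have hio : orderOf i = 4 := by
    rw [hi, orderOf_pow_of_dvd (by positivity) (hω ▸ pow_dvd_pow 2 (by omega)), hω,
      show 2 ^ (m + 1) = 4 * 2 ^ (m - 1) by rw [show (4 : ℕ) = 2 ^ 2 by norm_num, ← pow_add]; congr 1; omega,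
      Nat.mul_div_cancel _ (by positivity)]
  have hi0 : (i : F) ≠ 0 := i.ne_zero
  have hii : (i : F) * i = -1 := by
    have h4 : ((i : F) * i) * ((i : F) * i) = 1 := by
      rw [← Units.val_mul, ← Units.val_mul, Units.val_eq_one,
        show i * i * (i * i) = i ^ 4 by simp [pow_succ, mul_assoc], ← hio, pow_orderOf_eq_one]
    rcases mul_self_eq_one_iff.mp h4 with e | e
    · rw [← Units.val_mul, Units.val_eq_one, ← pow_two, ← orderOf_dvd_iff_pow_eq_one, hio] at e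
      omega
    · exact e
  have hiq : (i : F) ^ q = i := by
    rw [← Units.val_pow_eq_pow_val]
    congr 1
    conv_rhs => rw [← pow_one i]
    rw [pow_eq_pow_iff_modEq, hio]
    exact h
  have hwq : (ω : F) ^ q = (v : F)⁻¹ := by
    refine eq_inv_of_mul_eq_one_left ?_
    rw [hv, ← Units.val_pow_eq_pow_val, ← Units.val_mul, hr1, Units.val_one]
  have hvq : (v : F) ^ q = (ω : F)⁻¹ := by
    refine eq_inv_of_mul_eq_one_left ?_
    have hkk : (v : F) ^ k = ω := by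
      rw [hv, ← Units.val_pow_eq_pow_val, ← pow_mul, hr2]
    rw [← hkk, hv, Units.val_pow_eq_pow_val, ← pow_mul, ← pow_mul, ← pow_add,
      show k * q + k * k = (q + k) * k by ring, pow_mul, ← Units.val_pow_eq_pow_val, pow_add, hr1, Units.val_one, one_pow]
  -- the torus
  obtain ⟨t, ht⟩ : ∃ t, t = (2 : F)⁻¹ := ⟨_, rfl⟩
  have hth : 2 * t = 1 := ht ▸ mul_inv_cancel₀ h20
  let μ : Fˣ × Fˣ →* GL (Fin 2) F :=
    { toFun := fun p => ⟨tor i t p.1 p.2, tor i t (p.1⁻¹ : Fˣ) (p.2⁻¹ : Fˣ),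
        by rw [tor_mul hii hth, ← Units.val_mul, ← Units.val_mul, mul_inv_cancel, mul_inv_cancel, Units.val_one, tor_one hth],
        by rw [tor_mul hii hth, ← Units.val_mul, ← Units.val_mul, inv_mul_cancel, inv_mul_cancel, Units.val_one, tor_one hth]⟩
      map_one' := Units.ext (by
        show tor (i : F) t ((1 : Fˣ) : F) ((1 : Fˣ) : F) = 1
        rw [Units.val_one, tor_one hth])
      map_mul' := fun p p' => Units.ext (by
        show tor (i : F) t ((p.1 * p'.1 : Fˣ) : F) ((p.2 * p'.2 : Fˣ) : F) = tor (i : F) t p.1 p.2 * tor (i : F) t p'.1 p'.2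
        rw [tor_mul hii hth, Units.val_mul, Units.val_mul]) }
  have ht0 : t ≠ 0 := fun e => one_ne_zero (α := F) (by rw [← hth, e, mul_zero])
  have hμ : Function.Injective μ := by
    intro p p' e
    have e' : tor (i : F) t p.1 p.2 = tor (i : F) t p'.1 p'.2 := congrArg Units.val e
    have h00 : (p.1 : F) + p.2 = (p'.1 : F) + p'.2 := mul_left_cancel₀ ht0 (congrFun (congrFun e' 0) 0)
    have h10 : (p.1 : F) - p.2 = (p'.1 : F) - p'.2 := mul_left_cancel₀ (mul_ne_zero ht0 hi0) (congrFun (congrFun e' 1) 0)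
    refine Prod.ext (Units.ext (mul_left_cancel₀ h20 ?_)) (Units.ext (mul_left_cancel₀ h20 ?_))
    · linear_combination h00 + h10
    · linear_combination h00 - h10
  let y : GL (Fin 2) F := ⟨!![1, 0; 0, -1], !![1, 0; 0, -1], by ext r s; fin_cases r <;> fin_cases s <;> simp,
    by ext r s; fin_cases r <;> fin_cases s <;> simp⟩
  have hyo : orderOf y = 2 := by
    refine orderOf_eq_prime ?_ fun e => h20 ?_
    · rw [pow_two]; ext r s; fin_cases r <;> fin_cases s <;> simp [y]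
    · have h' : (-1 : F) = 1 := by
        simpa [y] using congrFun (congrFun (congrArg (fun g : GL (Fin 2) F => (g : Matrix (Fin 2) (Fin 2) F)) e) 1) 1
      linear_combination -h'
  have h0 : (0 : F) ^ q = 0 := zero_pow hq0.ne'
  have h1q : (-1 : F) ^ q = -1 := hq.neg_one_pow
  have hym : y ∈ Cfsg.preserving (Units.coeHom (Matrix (Fin 2) (Fin 2) F)) (Cfsg.hermForm 2 F q) :=
    mem_GU hF (g := y) rfl (by simp [h0]) (by simp [h0, h1q]) (by simp [h0]) (by simp [h0])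
  have hw0 : (ω : F) ≠ 0 := ω.ne_zero
  have hv0 : (v : F) ≠ 0 := v.ne_zero
  have h2q : (2 : F) ^ q = 2 := by
    rw [show (2 : F) = 1 + 1 by norm_num, Classical.add_pow_q hF, one_pow]
  have hadd : ((ω : F) + v) ^ q = (v : F)⁻¹ + (ω : F)⁻¹ := by rw [Classical.add_pow_q hF, hwq, hvq]
  have hsub : ((ω : F) - v) ^ q = (v : F)⁻¹ - (ω : F)⁻¹ := by
    rw [sub_eq_add_neg, Classical.add_pow_q hF, hq.neg_pow, hwq, hvq, sub_eq_add_neg]
  have htq : t ^ q = t := by rw [ht, inv_pow, h2q]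
  have hw1 : (ω : F) * (ω : F)⁻¹ = 1 := mul_inv_cancel₀ hw0
  have hv1 : (v : F) * (v : F)⁻¹ = 1 := mul_inv_cancel₀ hv0
  have hxm : μ (ω, v) ∈ Cfsg.preserving (Units.coeHom (Matrix (Fin 2) (Fin 2) F)) (Cfsg.hermForm 2 F q) := by
    refine mem_GU hF (g := μ (ω, v)) (a := t * ((ω : F) + v)) (b := -(t * i * ((ω : F) - v)))
      (c := t * i * ((ω : F) - v)) (d := t * ((ω : F) + v)) rfl ?_ ?_ ?_ ?_ <;>
      simp only [mul_pow, hq.neg_pow, htq, hadd, hsub, hiq]
    · linear_combination t * t * ((ω : F) - v) * ((v : F)⁻¹ - (ω : F)⁻¹) * hii + 2 * t * t * (hw1 + hv1) + (2 * t + 1) * hth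
    · linear_combination t * t * ((ω : F) - v) * ((v : F)⁻¹ - (ω : F)⁻¹) * hii + 2 * t * t * (hw1 + hv1) + (2 * t + 1) * hth
    · linear_combination 2 * t * t * (i : F) * (hw1 - hv1)
    · linear_combination 2 * t * t * (i : F) * (hv1 - hw1)
  have hcard : Nat.card ↥(Cfsg.preserving (Units.coeHom (Matrix (Fin 2) (Fin 2) F)) (Cfsg.hermForm 2 F q)) =
      2 ^ (m + 1 + 1) * (q * c * c * b) := by
    have h1 := card_GU_two (q := q) hF
    have h5 : (q : ℤ) + 1 = 2 * c := by omega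
    have h6 : (q : ℤ) - 1 = 2 ^ m * b := by
      have h7 : ((q - 1 : ℕ) : ℤ) = ((2 ^ m * b : ℕ) : ℤ) := by rw [hmb]
      push_cast [Nat.cast_sub (show 1 ≤ q by omega)] at h7
      exact h7
    rw [show (q : ℤ) * q - 1 = ((q : ℤ) + 1) * ((q : ℤ) - 1) by ring, h5, h6] at h1
    refine Nat.cast_injective (R := ℤ) (h1.trans ?_)
    push_cast
    ring
  obtain ⟨h1, h1'⟩ := TwoSylowShape.two_part hcard (by
    intro hd
    rcases Nat.prime_two.dvd_mul.mp hd with hd | hd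
    · rcases Nat.prime_two.dvd_mul.mp hd with hd | hd
      · rcases Nat.prime_two.dvd_mul.mp hd with hd | hd
        · omega
        · omega
      · omega
    · exact hb hd)
  refine TwoSylowShape.isQuasiDihedral P (n := m + 1) (by omega) h1 h1' (x := ⟨_, hxm⟩) (y := ⟨_, hym⟩) ?_ ?_ ?_
  · rw [Subgroup.orderOf_mk, orderOf_injective μ hμ, Prod.orderOf_mk, hω]
    refine Nat.lcm_eq_left ?_
    rw [hv, ← hω]
    exact orderOf_pow_dvd k
  · rw [Subgroup.orderOf_mk, hyo]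
  · refine Subtype.ext ?_
    simp only [Subgroup.coe_mul, Subgroup.coe_inv, SubgroupClass.coe_pow, Nat.add_sub_cancel]
    rw [← hk, ← map_pow, Prod.pow_mk, ← hv, show v ^ k = ω by rw [hv, ← pow_mul, hr2], mul_inv_eq_iff_eq_mul]
    refine Units.ext ?_
    show !![1, 0; 0, -1] * tor (i : F) t ω v = tor (i : F) t v ω * !![1, 0; 0, -1]
    ext r s; fin_cases r <;> fin_cases s <;> simp [tor, Matrix.mul_apply, Fin.sum_univ_two] <;> ring_nf <;> tauto

end Cfsg.Agent.Invol.TwoSylowGLTwo
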