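import Mathlib
import Cfsg.Agent.Lib.Invol.Order7920Local

/-!
Simple groups of order 7920: Sylow 3-subgroups and the involutions inverting them.
-/

set_option autoImplicit false
set_option linter.style.haveILetI false

namespace Cfsg.Agent.Invol.M11Ord

open Cfsg Cfsg.Agent.Block Cfsg.Agent.Char
open scoped Pointwise

universe u

variable {G : Type u} [Group G]

/-- The involution `z` inverts `P` elementwise. -/
def Inv (z : G) (P : Sylow 3 G) : Prop :=
  orderOf z = 2 ∧ ∀ x ∈ (P : Subgroup G), z * x * z⁻¹ = x⁻¹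

theorem mem_smul_iff (g x : G) (P : Sylow 3 G) :
    x ∈ ((g • P : Sylow 3 G) : Subgroup G) ↔ g⁻¹ * x * g ∈ (P : Subgroup G) := by
  rw [Sylow.coe_subgroup_smul, Subgroup.mem_pointwise_smul_iff_inv_smul_mem]
  simp [MulAut.smul_def, mul_assoc]

theorem Inv.ne_one {z : G} {P : Sylow 3 G} (h : Inv z P) : z ≠ 1 := fun e => by
  have := h.1
  rw [e, orderOf_one] at this
  omega

theorem Inv.mul_self {z : G} {P : Sylow 3 G} (h : Inv z P) : z * z = 1 := by
  have := pow_orderOf_eq_one z
  rwa [h.1, sq] at this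

theorem Inv.inv_eq {z : G} {P : Sylow 3 G} (h : Inv z P) : z⁻¹ = z :=
  inv_eq_of_mul_eq_one_right h.mul_self

theorem Inv.mem {z : G} {P : Sylow 3 G} (h : Inv z P) :
    z ∈ Subgroup.normalizer ((P : Subgroup G) : Set G) := by
  rw [Subgroup.mem_normalizer_iff]
  refine fun x => ⟨fun hx => by rw [h.2 x hx]; exact inv_mem hx, fun hx => ?_⟩
  have h1 := h.2 _ hx
  rw [show z * (z * x * z⁻¹) * z⁻¹ = (z * z) * x * (z * z)⁻¹ by group, h.mul_self] at h1
  simp only [one_mul, inv_one, mul_one] at h1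
  rw [h1]
  exact inv_mem hx

theorem Inv.smul {z : G} {P : Sylow 3 G} (h : Inv z P) (g : G) : Inv (g * z * g⁻¹) (g • P) := by
  refine ⟨((MulAut.conj g).orderOf_eq z).trans h.1, fun x hx => ?_⟩
  have h1 := h.2 _ ((mem_smul_iff g x P).1 hx)
  rw [show g * z * g⁻¹ * x * (g * z * g⁻¹)⁻¹ = g * (z * (g⁻¹ * x * g) * z⁻¹) * g⁻¹ by group, h1]
  group

variable [Finite G] [IsSimpleGroup G]

omit [IsSimpleGroup G] in
theorem card_three (hG : Nat.card G = 7920) (P : Sylow 3 G) : Nat.card (P : Subgroup G) = 9 := by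
  haveI : Fact (Nat.Prime 3) := ⟨Nat.prime_three⟩
  rw [P.card_eq_multiplicity, hG, show (7920 : ℕ) = 3 ^ 2 * 880 by norm_num,
    Nat.factorization_mul (by norm_num) (by norm_num), Finsupp.add_apply,
    Nat.Prime.factorization_pow Nat.prime_three, Finsupp.single_eq_same,
    Nat.factorization_eq_zero_of_not_dvd (by norm_num : ¬ 3 ∣ 880)]
  norm_num

omit [IsSimpleGroup G] in
theorem comm_three (hG : Nat.card G = 7920) (P : Sylow 3 G) {x y : G} (hx : x ∈ (P : Subgroup G))
    (hy : y ∈ (P : Subgroup G)) : x * y = y * x := by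
  haveI : Fact (Nat.Prime 3) := ⟨Nat.prime_three⟩
  exact congrArg Subtype.val (IsPGroup.commutative_of_card_eq_prime_sq
    (show Nat.card (P : Subgroup G) = 3 ^ 2 by rw [card_three hG]; norm_num) ⟨x, hx⟩ ⟨y, hy⟩)

omit [IsSimpleGroup G] in
theorem nine_dvd_cent (hG : Nat.card G = 7920) (P : Sylow 3 G) {x : G} (hx : x ∈ (P : Subgroup G)) :
    9 ∣ Nat.card (Subgroup.centralizer ({x} : Set G)) := by
  rw [← card_three hG P]
  exact Subgroup.card_dvd_of_le fun a ha =>
    Subgroup.mem_centralizer_singleton_iff.2 (comm_three hG P ha hx)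

omit [IsSimpleGroup G] in
theorem three_pow (P : Sylow 3 G) {x : G} (hx : x ∈ (P : Subgroup G)) : ∃ j : ℕ, orderOf x = 3 ^ j := by
  obtain ⟨j, hj⟩ := P.isPGroup' ⟨x, hx⟩
  obtain ⟨i, -, hi⟩ := (Nat.dvd_prime_pow Nat.prime_three).1
    (orderOf_dvd_of_pow_eq_one (congrArg Subtype.val hj : x ^ 3 ^ j = 1))
  exact ⟨i, hi⟩

theorem cent_eighteen (hG : Nat.card G = 7920) (P : Sylow 3 G) {x : G} (hx : x ∈ (P : Subgroup G))
    (hx1 : x ≠ 1) : Nat.card (Subgroup.centralizer ({x} : Set G)) = 18 := by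
  obtain ⟨K⟩ := exists_tab' hG
  exact (three_column hG K hx1 (three_pow P hx) (nine_dvd_cent hG P hx)).1

theorem conj_three (hG : Nat.card G = 7920) (P : Sylow 3 G) {x y : G} (hx : x ∈ (P : Subgroup G))
    (hx1 : x ≠ 1) (hy : y ∈ (P : Subgroup G)) (hy1 : y ≠ 1) : IsConj x y := by
  classical
  obtain ⟨K⟩ := exists_tab' hG
  obtain ⟨-, a1, b1, c1, f1, y1, y1', u1, w1, v1⟩ :=
    three_column hG K hx1 (three_pow P hx) (nine_dvd_cent hG P hx)
  obtain ⟨-, a2, b2, c2, f2, y2, y2', u2, w2, v2⟩ :=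
    three_column hG K hy1 (three_pow P hy) (nine_dvd_cent hG P hy)
  refine (isConj_iff_irr _ _).2 fun χ => ?_
  rcases K.mem χ with e | e | e | e | e | e | e | e | e | e <;> rw [e]
  · rfl
  all_goals simp only [a1, b1, c1, f1, y1, y1', u1, w1, v1, a2, b2, c2, f2, y2, y2', u2, w2, v2]

/-- Sylow 3-subgroups have exponent 3. -/
theorem cube (hG : Nat.card G = 7920) (P : Sylow 3 G) {x : G} (hx : x ∈ (P : Subgroup G)) : x ^ 3 = 1 := by
  haveI : Fact (Nat.Prime 3) := ⟨Nat.prime_three⟩
  by_cases h1 : x = 1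
  · rw [h1, one_pow]
  obtain ⟨x₀, hx₀⟩ := exists_prime_orderOf_dvd_card' (G := (P : Subgroup G)) 3
    (by rw [card_three hG]; norm_num)
  rw [← Subgroup.orderOf_coe] at hx₀
  obtain ⟨g, hg⟩ := isConj_iff.1 (conj_three hG P x₀.2
    (fun e => by rw [e, orderOf_one] at hx₀; omega) hx h1)
  rw [← hg, conj_pow, show (x₀ : G) ^ 3 = 1 by have := pow_orderOf_eq_one (x₀ : G); rwa [hx₀] at this, mul_one,
    mul_inv_cancel]

theorem not_centralizes (hG : Nat.card G = 7920) (P : Sylow 3 G) {t : G} (ht : orderOf t = 2) :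
    ∃ x ∈ (P : Subgroup G), t * x ≠ x * t := by
  by_contra h
  push Not at h
  have h1 := Subgroup.card_dvd_of_le (show (P : Subgroup G) ≤ Subgroup.centralizer {t} from
    fun a ha => Subgroup.mem_centralizer_singleton_iff.2 (h a ha).symm)
  rw [card_three hG, involution_centralizer hG ht] at h1
  norm_num at h1

/-- Distinct Sylow 3-subgroups meet trivially. -/
theorem eq_of_mem (hG : Nat.card G = 7920) {P Q : Sylow 3 G} {x : G} (hP : x ∈ (P : Subgroup G))
    (hQ : x ∈ (Q : Subgroup G)) (hx1 : x ≠ 1) : P = Q := by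
  set C := Subgroup.centralizer ({x} : Set G)
  have hPC : (P : Subgroup G) ≤ C := fun a ha =>
    Subgroup.mem_centralizer_singleton_iff.2 (comm_three hG P ha hP)
  have hQC : (Q : Subgroup G) ≤ C := fun a ha =>
    Subgroup.mem_centralizer_singleton_iff.2 (comm_three hG Q ha hQ)
  have h2 : (Q : Subgroup G).relIndex C = 2 := by
    have h := Subgroup.card_mul_index ((Q : Subgroup G).subgroupOf C)
    rw [← Subgroup.relIndex, Nat.card_congr (Subgroup.subgroupOfEquivOfLe hQC).toEquiv, card_three hG,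
      show Nat.card C = 18 from cent_eighteen hG P hP hx1] at h
    omega
  have h3 : (Q : Subgroup G).relIndex P ≤ 2 :=
    h2 ▸ Subgroup.relIndex_le_of_le_right hPC (by omega)
  have h9 : (Q : Subgroup G).relIndex P ∣ 9 := card_three hG P ▸ Subgroup.relIndex_dvd_card _ _
  have h1 : (Q : Subgroup G).relIndex P = 1 := by
    rcases Nat.eq_zero_or_pos ((Q : Subgroup G).relIndex P) with e | e
    · rw [e] at h9; norm_num at h9
    · interval_cases (Q : Subgroup G).relIndex P <;> omega
  exact Sylow.ext (Subgroup.eq_of_le_of_card_ge (Subgroup.relIndex_eq_one.1 h1)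
    (by rw [card_three hG, card_three hG]))

omit [IsSimpleGroup G] in
theorem mem_of_normalize (P : Sylow 3 G) {x : G} (hx : ∃ j : ℕ, orderOf x = 3 ^ j)
    (hn : x ∈ Subgroup.normalizer ((P : Subgroup G) : Set G)) : x ∈ (P : Subgroup G) := by
  obtain ⟨j, hj⟩ := hx
  haveI : Fact (Nat.Prime 3) := ⟨Nat.prime_three⟩
  have h := (IsPGroup.of_card (n := j) (by rw [Nat.card_zpowers, hj]) :
    IsPGroup 3 (Subgroup.zpowers x)).inf_normalizer_sylow P
  have : x ∈ Subgroup.zpowers x ⊓ (P : Subgroup G) := h ▸ ⟨Subgroup.mem_zpowers x, hn⟩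
  exact this.2

/-- A Sylow 3-subgroup is semiregular on the other ones. -/
theorem semireg (hG : Nat.card G = 7920) {P Q : Sylow 3 G} {p : G} (hp : p ∈ (P : Subgroup G))
    (h : p • Q = Q) (hp1 : p ≠ 1) : Q = P :=
  (eq_of_mem hG hp (mem_of_normalize Q (three_pow P hp) (Sylow.smul_eq_iff_mem_normalizer.1 h)) hp1).symm

omit [IsSimpleGroup G] in
theorem smul_self (P : Sylow 3 G) {p : G} (hp : p ∈ (P : Subgroup G)) : p • P = P :=
  Sylow.smul_eq_iff_mem_normalizer.2 (Subgroup.le_normalizer hp)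

/-- A subgroup of order 16 of the normalizer is transitive on the nontrivial elements, with small stabilizers. -/
theorem transitive_sixteen (hG : Nat.card G = 7920) (P : Sylow 3 G) (D : Subgroup G)
    (hD : D ≤ Subgroup.normalizer ((P : Subgroup G) : Set G)) (h16 : Nat.card D = 16)
    {x : G} (hx : x ∈ (P : Subgroup G)) (hx1 : x ≠ 1) :
    Nat.card (D ⊓ Subgroup.centralizer {x} : Subgroup G) ≤ 2 ∧
      ∀ y ∈ (P : Subgroup G), y ≠ 1 → ∃ d ∈ D, d * x * d⁻¹ = y := by
  classical
  set T := D ⊓ Subgroup.centralizer ({x} : Set G)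
  have h1 : Nat.card T ∣ 2 := by
    have a := Subgroup.card_dvd_of_le (inf_le_left : T ≤ D)
    have b := Subgroup.card_dvd_of_le (inf_le_right : T ≤ Subgroup.centralizer {x})
    rw [h16] at a
    rw [cent_eighteen hG P hx hx1] at b
    exact Nat.dvd_gcd a b
  have hT2 := Nat.le_of_dvd two_pos h1
  refine ⟨hT2, fun y hy hy1 => ?_⟩
  by_contra hno
  push Not at hno
  have hmap : ∀ d : D, (d : G) * x * (d : G)⁻¹ ∈ (((P : Subgroup G) : Set G) \ {1, y}) := fun d => by
    refine ⟨(Subgroup.mem_normalizer_iff.1 (hD d.2) x).1 hx, ?_⟩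
    rintro (e | e)
    · exact hx1 (by simpa [mul_inv_eq_one] using e)
    · exact hno d d.2 e
  let f : D → (((P : Subgroup G) : Set G) \ {1, y} : Set G) := fun d => ⟨_, hmap d⟩
  cases nonempty_fintype D
  haveI : Fintype (((P : Subgroup G) : Set G) \ {1, y} : Set G) := Fintype.ofFinite _
  have hfib : ∀ a ∈ Finset.univ.image f, (Finset.univ.filter fun d => f d = a).card ≤ Nat.card T := by
    intro a ha
    obtain ⟨d₀, -, rfl⟩ := Finset.mem_image.1 ha
    have hsub : ∀ d ∈ Finset.univ.filter (fun d => f d = f d₀), ((d₀⁻¹ * d : D) : G) ∈ T := by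
      intro d hd
      have e : (d : G) * x * (d : G)⁻¹ = (d₀ : G) * x * (d₀ : G)⁻¹ :=
        congrArg Subtype.val (Finset.mem_filter.1 hd).2
      refine ⟨(d₀⁻¹ * d).2, Subgroup.mem_centralizer_singleton_iff.2 ?_⟩
      show (d₀ : G)⁻¹ * d * x = x * ((d₀ : G)⁻¹ * d)
      calc (d₀ : G)⁻¹ * d * x = (d₀ : G)⁻¹ * ((d : G) * x * (d : G)⁻¹) * d := by group
        _ = (d₀ : G)⁻¹ * ((d₀ : G) * x * (d₀ : G)⁻¹) * d := by rw [e]
        _ = _ := by group
    rw [← Fintype.card_coe, ← Nat.card_eq_fintype_card]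
    refine Nat.card_le_card_of_injective (fun d => (⟨_, hsub d.1 d.2⟩ : T)) fun d d' e => ?_
    have e' := congrArg Subtype.val e
    simpa using e'
  have hcard := Finset.card_le_mul_card_image Finset.univ _ hfib
  have himg : (Finset.univ.image f).card ≤ 7 := by
    refine (Finset.card_le_univ _).trans ?_
    rw [← Nat.card_eq_fintype_card, Nat.card_coe_set_eq, Set.ncard_diff (by
      intro a ha
      rcases ha with rfl | rfl
      · exact one_mem _
      · exact hy), Set.ncard_pair (Ne.symm hy1), ← Nat.card_coe_set_eq]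
    show Nat.card (P : Subgroup G) - 2 ≤ 7
    rw [card_three hG]
  rw [Finset.card_univ, ← Nat.card_eq_fintype_card, h16] at hcard
  have := Nat.mul_le_mul hT2 himg
  omega

theorem inv_of_fpf (hG : Nat.card G = 7920) (P : Sylow 3 G) {z : G}
    (hz : z ∈ Subgroup.normalizer ((P : Subgroup G) : Set G)) (h2 : orderOf z = 2)
    (hf : ∀ x ∈ (P : Subgroup G), z * x = x * z → x = 1) : Inv z P := by
  have hzz : z * z = 1 := by rw [← sq, ← h2]; exact pow_orderOf_eq_one z
  refine ⟨h2, fun x hx => ?_⟩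
  have hw := (Subgroup.mem_normalizer_iff.1 hz x).1 hx
  refine eq_inv_of_mul_eq_one_left (hf _ (mul_mem hw hx) ?_)
  rw [inv_eq_of_mul_eq_one_right hzz] at hw ⊢
  calc z * (z * x * z * x) = (z * z) * x * (z * x) := by group
    _ = x * (z * x) * (z * z) := by rw [hzz, one_mul, mul_one]
    _ = x * (z * x * z) * z := by group
    _ = z * x * z * x * z := by rw [comm_three hG P hw hx]

/-- A central involution of a subgroup of order 16 of the normalizer inverts. -/
theorem central_inverts (hG : Nat.card G = 7920) (P : Sylow 3 G) (D : Subgroup G)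
    (hD : D ≤ Subgroup.normalizer ((P : Subgroup G) : Set G)) (h16 : Nat.card D = 16)
    {z : G} (hz : z ∈ D) (h2 : orderOf z = 2) (hc : ∀ d ∈ D, d * z = z * d) : Inv z P := by
  refine inv_of_fpf hG P (hD hz) h2 fun x hx hzx => by_contra fun hx1 => ?_
  obtain ⟨y, hy, hne⟩ := not_centralizes hG P h2
  have hy1 : y ≠ 1 := fun e => hne (by rw [e]; simp)
  obtain ⟨d, hd, rfl⟩ := (transitive_sixteen hG P D hD h16 hx hx1).2 y hy hy1
  refine hne ?_
  calc z * (d * x * d⁻¹) = (z * d) * x * d⁻¹ := by group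
    _ = (d * z) * x * d⁻¹ := by rw [hc d hd]
    _ = d * (z * x) * d⁻¹ := by group
    _ = d * (x * z) * d⁻¹ := by rw [hzx]
    _ = d * x * d⁻¹ * (d * z) * d⁻¹ := by group
    _ = d * x * d⁻¹ * (z * d) * d⁻¹ := by rw [hc d hd]
    _ = _ := by group

omit [IsSimpleGroup G] in
theorem central_involution {D : Subgroup G} {k : ℕ} (hD : Nat.card D = 2 ^ (k + 1)) :
    ∃ z ∈ D, orderOf z = 2 ∧ ∀ d ∈ D, d * z = z * d := by
  haveI : Fact (Nat.Prime 2) := ⟨Nat.prime_two⟩
  have hp : IsPGroup 2 D := IsPGroup.of_card hD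
  haveI : Nontrivial D := by
    refine Finite.one_lt_card_iff_nontrivial.mp ?_
    rw [hD]
    exact Nat.one_lt_two_pow (by omega)
  haveI := hp.center_nontrivial
  have h2 : 2 ∣ Nat.card (Subgroup.center D) := by
    obtain ⟨j, hj⟩ := IsPGroup.iff_card.mp (hp.to_subgroup (Subgroup.center D))
    rw [hj]
    refine dvd_pow_self 2 fun e => ?_
    rw [e, pow_zero] at hj
    exact (Finite.one_lt_card (α := Subgroup.center D)).ne' hj
  obtain ⟨z, hz⟩ := exists_prime_orderOf_dvd_card' 2 h2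
  refine ⟨((z : D) : G), (z : D).2, by rw [← hz, ← Subgroup.orderOf_coe, ← Subgroup.orderOf_coe],
    fun d hd => congrArg Subtype.val (Subgroup.mem_center_iff.1 z.2 ⟨d, hd⟩)⟩

theorem exists_inv (hG : Nat.card G = 7920) (P : Sylow 3 G) : ∃ z, Inv z P := by
  haveI : Fact (Nat.Prime 2) := ⟨Nat.prime_two⟩
  set N := Subgroup.normalizer ((P : Subgroup G) : Set G)
  obtain ⟨D⟩ : Nonempty (Sylow 2 N) := inferInstance
  have h16 : Nat.card ((D : Subgroup N).map N.subtype) = 16 := by
    rw [Subgroup.card_subtype, D.card_eq_multiplicity,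
      show Nat.card N = 144 from sylow_three_normalizer hG P, show (144 : ℕ) = 2 ^ 4 * 9 by norm_num,
      Nat.factorization_mul (by norm_num) (by norm_num), Finsupp.add_apply,
      Nat.Prime.factorization_pow Nat.prime_two, Finsupp.single_eq_same,
      Nat.factorization_eq_zero_of_not_dvd (by norm_num : ¬ 2 ∣ 9)]
    norm_num
  obtain ⟨z, hz, h2, hc⟩ := central_involution (k := 3) h16
  exact ⟨z, central_inverts hG P _ (Subgroup.map_subtype_le _) h16 hz h2 hc⟩

/-- The elements centralizing a Sylow 3-subgroup lie in it. -/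
theorem mem_of_centralizes (hG : Nat.card G = 7920) (P : Sylow 3 G) {c : G}
    (hc : ∀ x ∈ (P : Subgroup G), c * x = x * c) : c ∈ (P : Subgroup G) := by
  haveI : Fact (Nat.Prime 3) := ⟨Nat.prime_three⟩
  obtain ⟨x, hx, hne⟩ :=
    (show ∃ x ∈ (P : Subgroup G), x ≠ 1 by
      by_contra h'
      push Not at h'
      have := card_three hG P
      rw [(Subgroup.eq_bot_iff_forall _).2 h', Subgroup.card_bot] at this
      norm_num at this)
  have hd : orderOf c ∣ 18 := cent_eighteen hG P hx hne ▸ Subgroup.orderOf_dvd_natCard _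
    (Subgroup.mem_centralizer_singleton_iff.2 (hc x hx))
  have hodd : ¬ 2 ∣ orderOf c := fun h2 => by
    have ho : orderOf (c ^ (orderOf c / 2)) = 2 := orderOf_pow_orderOf_div (orderOf_pos c).ne' h2
    obtain ⟨y, hy, hy'⟩ := not_centralizes hG P ho
    exact hy' ((show Commute c y from hc y hy).pow_left _).eq
  refine mem_of_normalize P ?_ ?_
  · have h9 : orderOf c ∣ 3 ^ 2 :=
      ((Nat.prime_two.coprime_iff_not_dvd.2 hodd).symm).dvd_of_dvd_mul_left (m := 2) (by simpa using hd)
    obtain ⟨i, -, hi⟩ := (Nat.dvd_prime_pow Nat.prime_three).1 h9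
    exact ⟨i, hi⟩
  · rw [Subgroup.mem_normalizer_iff]
    refine fun x => ⟨fun hx => ?_, fun hx => ?_⟩
    · rw [hc x hx, mul_inv_cancel_right]; exact hx
    · have h1 := hc _ hx
      have h2 : c * x * c⁻¹ = x := by
        apply mul_left_cancel (a := c)
        calc c * (c * x * c⁻¹) = c * x * c⁻¹ * c := h1
          _ = c * x := by group
      rwa [h2] at hx

/-- Conjugating an inverting involution by an element of the Sylow subgroup. -/
theorem Inv.conj_eq (hG : Nat.card G = 7920) {z : G} {P : Sylow 3 G} (h : Inv z P) {p : G}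
    (hp : p ∈ (P : Subgroup G)) : p * z * p⁻¹ = z * p := by
  have h3 := cube hG P hp
  have h1 := h.2 p hp
  have h2 : p * z = z * p⁻¹ := by
    rw [← h1, h.inv_eq]
    calc p * z = (z * z) * p * z := by rw [h.mul_self, one_mul]
      _ = _ := by group
  rw [h2, mul_assoc]
  congr 1
  calc p⁻¹ * p⁻¹ = p⁻¹ * p⁻¹ * p ^ 3 := by rw [h3, mul_one]
    _ = p := by group

/-- All inverting involutions are conjugate under the Sylow subgroup. -/
theorem inv_unique (hG : Nat.card G = 7920) {P : Sylow 3 G} {z z' : G} (h : Inv z P) (h' : Inv z' P) :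
    ∃ p ∈ (P : Subgroup G), z' = p * z * p⁻¹ := by
  have hc : z * z' ∈ (P : Subgroup G) := mem_of_centralizes hG P fun x hx => by
    have h1 := h'.2 x hx
    have h2 := h.2 x⁻¹ (inv_mem hx)
    rw [inv_inv, ← h1] at h2
    calc z * z' * x = (z * (z' * x * z'⁻¹) * z⁻¹) * (z * z') := by group
      _ = x * (z * z') := by rw [h2]
  refine ⟨z * z', hc, ?_⟩
  rw [h.conj_eq hG hc, ← mul_assoc, h.mul_self, one_mul]

theorem Inv.eq_one_of_comm (hG : Nat.card G = 7920) {z : G} {P : Sylow 3 G} (h : Inv z P) {p : G}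
    (hp : p ∈ (P : Subgroup G)) (hc : p * z = z * p) : p = 1 := by
  have h1 := h.conj_eq hG hp
  rw [hc, mul_inv_cancel_right] at h1
  exact left_eq_mul.1 h1

theorem inv_comm_unique (hG : Nat.card G = 7920) {P : Sylow 3 G} {z z' : G} (h : Inv z P)
    (h' : Inv z' P) (hc : z * z' = z' * z) : z' = z := by
  obtain ⟨p, hp, rfl⟩ := inv_unique hG h h'
  rw [h.conj_eq hG hp] at hc ⊢
  have : p * z = z * p := by
    apply mul_left_cancel (a := z)
    rw [← mul_assoc, ← hc]
  rw [h.eq_one_of_comm hG hp this, mul_one]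

/-- The centralizer of an involution permutes transitively the subgroups inverted by it. -/
theorem inv_trans (hG : Nat.card G = 7920) {z : G} {P Q : Sylow 3 G} (hP : Inv z P) (hQ : Inv z Q) :
    ∃ g, g * z = z * g ∧ g • P = Q := by
  haveI : Fact (Nat.Prime 3) := ⟨Nat.prime_three⟩
  obtain ⟨g, rfl⟩ := MulAction.exists_smul_eq G P Q
  obtain ⟨q, hq, he⟩ := inv_unique hG (hP.smul g) hQ
  refine ⟨q * g, ?_, ?_⟩
  · calc q * g * z = (q * (g * z * g⁻¹) * q⁻¹) * (q * g) := by group
      _ = z * (q * g) := by rw [← he]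
  · rw [mul_smul, smul_self _ hq]

/-- The part of the normalizer centralizing `z`. -/
def Nz (z : G) (P : Sylow 3 G) : Subgroup G :=
  Subgroup.normalizer ((P : Subgroup G) : Set G) ⊓ Subgroup.centralizer {z}

omit [Finite G] [IsSimpleGroup G] in
theorem mem_Nz {z : G} {P : Sylow 3 G} {g : G} : g ∈ Nz z P ↔ g • P = P ∧ g * z = z * g := by
  rw [Nz, Subgroup.mem_inf, Sylow.smul_eq_iff_mem_normalizer, Subgroup.mem_centralizer_singleton_iff]
  rfl

theorem normalizer_decomp (hG : Nat.card G = 7920) {z : G} {P : Sylow 3 G} (h : Inv z P) {g : G}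
    (hg : g • P = P) : ∃ p ∈ (P : Subgroup G), p⁻¹ * g ∈ Nz z P := by
  have h' : Inv (g * z * g⁻¹) P := by simpa [hg] using h.smul g
  obtain ⟨p, hp, he⟩ := inv_unique hG h h'
  refine ⟨p, hp, mem_Nz.2 ⟨?_, ?_⟩⟩
  · rw [mul_smul, hg, smul_self _ (inv_mem hp)]
  · calc p⁻¹ * g * z = p⁻¹ * (g * z * g⁻¹) * g := by group
      _ = p⁻¹ * (p * z * p⁻¹) * g := by rw [he]
      _ = _ := by group

theorem card_Nz (hG : Nat.card G = 7920) {z : G} {P : Sylow 3 G} (h : Inv z P) :
    Nat.card (Nz z P) = 16 := by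
  let f : Prod ↥(P : Subgroup G) ↥(Nz z P) → Subgroup.normalizer ((P : Subgroup G) : Set G) := fun a =>
    ⟨(a.1 : G) * a.2, mul_mem (Subgroup.le_normalizer a.1.2) a.2.2.1⟩
  have hf : Function.Bijective f := by
    constructor
    · rintro ⟨p, d⟩ ⟨p', d'⟩ e
      have e' : (p : G) * d = (p' : G) * d' := congrArg Subtype.val e
      have hpp : (p' : G)⁻¹ * p = 1 := by
        refine h.eq_one_of_comm hG (mul_mem (inv_mem p'.2) p.2) ?_
        have : (p' : G)⁻¹ * p = d' * (d : G)⁻¹ := by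
          calc (p' : G)⁻¹ * p = (p' : G)⁻¹ * ((p : G) * d) * (d : G)⁻¹ := by group
            _ = _ := by rw [e']; group
        rw [this]
        exact (Commute.mul_left (mem_Nz.1 d'.2).2 (Commute.inv_left (mem_Nz.1 d.2).2)).eq
      obtain rfl : p = p' := Subtype.ext (inv_mul_eq_one.1 hpp).symm
      obtain rfl : d = d' := Subtype.ext (mul_left_cancel e')
      rfl
    · intro g
      obtain ⟨p, hp, hd⟩ := normalizer_decomp hG h (Sylow.smul_eq_iff_mem_normalizer.2 g.2)
      exact ⟨(⟨p, hp⟩, ⟨_, hd⟩), Subtype.ext (mul_inv_cancel_left p g)⟩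
  have := Nat.card_congr (Equiv.ofBijective f hf)
  rw [Nat.card_prod, card_three hG, sylow_three_normalizer hG P] at this
  omega

theorem card_inverted (hG : Nat.card G = 7920) {z : G} {P : Sylow 3 G} (h : Inv z P) :
    Nat.card {Q : Sylow 3 G // Inv z Q} = 3 := by
  set C := Subgroup.centralizer ({z} : Set G)
  have horb : MulAction.orbit C P = {Q | Inv z Q} := by
    ext Q
    constructor
    · rintro ⟨⟨g, hg⟩, rfl⟩
      have h1 := h.smul g
      rwa [Subgroup.mem_centralizer_singleton_iff.1 hg, mul_inv_cancel_right] at h1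
    · intro hQ
      obtain ⟨g, hg, hgP⟩ := inv_trans hG h hQ
      exact ⟨⟨g, Subgroup.mem_centralizer_singleton_iff.2 hg⟩, hgP⟩
  have hstab : Nat.card (MulAction.stabilizer C P) = 16 := by
    rw [← card_Nz hG h]
    refine Nat.card_congr
      { toFun := fun g => ⟨((g : C) : G), mem_Nz.2 ⟨g.2,
          Subgroup.mem_centralizer_singleton_iff.1 (g : C).2⟩⟩
        invFun := fun g => ⟨⟨g, g.2.2⟩, (mem_Nz.1 g.2).1⟩
        left_inv := fun g => rfl
        right_inv := fun g => rfl }
  have hmul := Nat.card_congr (MulAction.orbitProdStabilizerEquivGroup C P)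
  rw [Nat.card_prod, hstab, horb, show Nat.card C = 48 from involution_centralizer hG h.1] at hmul
  have : Nat.card ({Q | Inv z Q} : Set (Sylow 3 G)) = 3 := by omega
  exact this

/-- The kernel of the action of `C(z)` on the inverted subgroups. -/
def Ez (z : G) : Subgroup G where
  carrier := {g | g * z = z * g ∧ ∀ Q : Sylow 3 G, Inv z Q → g • Q = Q}
  mul_mem' {a b} ha hb := ⟨(Commute.mul_left ha.1 hb.1).eq,
    fun Q hQ => by rw [mul_smul, hb.2 Q hQ, ha.2 Q hQ]⟩
  one_mem' := ⟨by simp, fun Q _ => one_smul G Q⟩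
  inv_mem' {a} ha := ⟨(Commute.inv_left ha.1).eq,
    fun Q hQ => inv_smul_eq_iff.2 (ha.2 Q hQ).symm⟩

omit [Finite G] [IsSimpleGroup G] in
theorem Ez_le_Nz {z : G} {P : Sylow 3 G} (h : Inv z P) : Ez z ≤ Nz z P :=
  fun _ hg => mem_Nz.2 ⟨hg.2 P h, hg.1⟩

omit [Finite G] [IsSimpleGroup G] in
theorem inv_smul_of_comm {z g : G} (hg : g * z = z * g) {Q : Sylow 3 G} (hQ : Inv z Q) :
    Inv z (g • Q) := by
  have h1 := hQ.smul g
  rwa [hg, mul_inv_cancel_right] at h1

omit [Finite G] [IsSimpleGroup G] in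
theorem Ez_conj {z g e : G} (hg : g * z = z * g) (he : e ∈ Ez z) : g * e * g⁻¹ ∈ Ez z := by
  refine ⟨((Commute.mul_left hg he.1).mul_left
    (Commute.inv_left hg)).eq, fun Q hQ => ?_⟩
  rw [mul_smul, mul_smul, he.2 _ (inv_smul_of_comm (Commute.inv_left hg).eq hQ), smul_inv_smul]

/-- The other involutions of `Nz`. -/
def Others (z : G) (P : Sylow 3 G) : Set G := {s | s ∈ Nz z P ∧ orderOf s = 2 ∧ s ≠ z}

/-- Each fixes a nontrivial element of the Sylow subgroup. -/
theorem others_fix (hG : Nat.card G = 7920) {z : G} {P : Sylow 3 G} (h : Inv z P) {s : G}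
    (hs : s ∈ Others z P) : ∃ x ∈ (P : Subgroup G), x ≠ 1 ∧ s * x = x * s := by
  by_contra hno
  push Not at hno
  refine hs.2.2 (inv_comm_unique hG h (inv_of_fpf hG P hs.1.1 hs.2.1 fun x hx hc =>
    by_contra fun hx1 => hno x hx hx1 hc) (mem_Nz.1 hs.1).2.symm)

theorem stab_unique (hG : Nat.card G = 7920) {z : G} {P : Sylow 3 G} (h : Inv z P) {x a b : G}
    (hx : x ∈ (P : Subgroup G)) (hx1 : x ≠ 1) (ha : a ∈ Nz z P) (hax : a * x = x * a) (ha1 : a ≠ 1)
    (hb : b ∈ Nz z P) (hbx : b * x = x * b) (hb1 : b ≠ 1) : a = b := by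
  classical
  by_contra hne
  have hle := (transitive_sixteen hG P (Nz z P) inf_le_left (card_Nz hG h) hx hx1).1
  set T := Nz z P ⊓ Subgroup.centralizer ({x} : Set G)
  have hsub : ({1, a, b} : Set G) ⊆ (T : Set G) := by
    rintro c (rfl | rfl | rfl)
    · exact one_mem T
    · exact ⟨ha, Subgroup.mem_centralizer_singleton_iff.2 hax⟩
    · exact ⟨hb, Subgroup.mem_centralizer_singleton_iff.2 hbx⟩
  have h3 := Set.ncard_le_ncard hsub (Set.toFinite _)
  rw [Set.ncard_eq_three.2 ⟨1, a, b, Ne.symm ha1, Ne.symm hb1, hne, rfl⟩, ← Nat.card_coe_set_eq] at h3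
  have : 3 ≤ Nat.card T := h3
  omega

theorem card_others (hG : Nat.card G = 7920) {z : G} {P : Sylow 3 G} (h : Inv z P) :
    ¬ 3 ∣ Nat.card (Others z P) := by
  classical
  haveI := Fintype.ofFinite (Others z P)
  haveI := Fintype.ofFinite G
  haveI : Fact (Nat.Prime 3) := ⟨Nat.prime_three⟩
  intro hd
  set A := Finset.univ.filter fun x : G => x ∈ (P : Subgroup G) ∧ x ≠ 1
  have hA : A.card = 8 := by
    rw [show A = (Finset.univ.filter fun x : G => x ∈ (P : Subgroup G)).erase 1 by
        ext a; simp [A, and_comm],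
      Finset.card_erase_of_mem (by simp), ← Fintype.card_subtype, ← Nat.card_eq_fintype_card,
      card_three hG]
  have hpair : ∀ s : Others z P,
      (A.filter fun x => (s : G) * x = x * (s : G)).card = 2 := by
    intro s
    obtain ⟨x, hx, hx1, hsx⟩ := others_fix hG h s.2
    set B := (P : Subgroup G) ⊓ Subgroup.centralizer ({(s : G)} : Set G)
    have hB9 : Nat.card B ∣ 3 ^ 2 := by
      have := Subgroup.card_dvd_of_le (inf_le_left : B ≤ (P : Subgroup G))
      rwa [card_three hG] at this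
    have hB48 : Nat.card B ∣ 48 := by
      have := Subgroup.card_dvd_of_le (inf_le_right : B ≤ Subgroup.centralizer {(s : G)})
      rwa [involution_centralizer hG s.2.2.1] at this
    have hB1 : Nat.card B ≠ 1 := fun e => hx1 (Subgroup.mem_bot.1 (Subgroup.card_eq_one.1 e ▸
      (show x ∈ B from ⟨hx, Subgroup.mem_centralizer_singleton_iff.2 hsx.symm⟩)))
    obtain ⟨i, hi2, hi⟩ := (Nat.dvd_prime_pow Nat.prime_three).1 hB9
    have hB3 : Nat.card B = 3 := by
      interval_cases i <;> rw [hi] at hB1 hB48 ⊢ <;> norm_num at *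
    rw [show (A.filter fun x => (s : G) * x = x * (s : G)) =
        (Finset.univ.filter fun a : G => a ∈ B).erase 1 by
      ext a
      simp only [A, B, Finset.mem_filter, Finset.mem_univ, true_and, Finset.mem_erase, Subgroup.mem_inf,
        Subgroup.mem_centralizer_singleton_iff]
      constructor
      · rintro ⟨⟨h1, h2⟩, h3⟩; exact ⟨h2, h1, h3.symm⟩
      · rintro ⟨h2, h1, h3⟩; exact ⟨⟨h1, h2⟩, h3.symm⟩,
      Finset.card_erase_of_mem (by simp), ← Fintype.card_subtype, ← Nat.card_eq_fintype_card, hB3]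
  have hsum : ∑ s : Others z P, (A.filter fun x => (s : G) * x = x * (s : G)).card ≤ A.card := by
    rw [← Finset.card_biUnion]
    · exact Finset.card_le_card fun x hx => by
        obtain ⟨s, -, hs⟩ := Finset.mem_biUnion.1 hx
        exact (Finset.mem_filter.1 hs).1
    · intro s _ t _ hst
      rw [Function.onFun, Finset.disjoint_left]
      intro x hxs hxt
      obtain ⟨hxA, hcs⟩ := Finset.mem_filter.1 hxs
      obtain ⟨-, hct⟩ := Finset.mem_filter.1 hxt
      simp only [A, Finset.mem_filter, Finset.mem_univ, true_and] at hxA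
      have hne : ∀ t : Others z P, (t : G) ≠ 1 := fun t e => by
        have := t.2.2.1
        rw [e, orderOf_one] at this
        omega
      exact hst (Subtype.ext (stab_unique hG h hxA.1 hxA.2 s.2.1 hcs (hne s) t.2.1 hct (hne t)))
  rw [Finset.sum_congr rfl (fun s _ => hpair s), Finset.sum_const, Finset.card_univ, smul_eq_mul, hA,
    ← Nat.card_eq_fintype_card] at hsum
  obtain ⟨k, hk⟩ := hd
  -- at most four, and at least four
  have hex : ∀ x ∈ A, ∃ s : Others z P, (s : G) * x = x * (s : G) := by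
    intro x hx
    simp only [A, Finset.mem_filter, Finset.mem_univ, true_and] at hx
    haveI : Fact (Nat.Prime 2) := ⟨Nat.prime_two⟩
    set T := Nz z P ⊓ Subgroup.centralizer ({x} : Set G)
    obtain ⟨hle, htr⟩ := transitive_sixteen hG P (Nz z P) inf_le_left (card_Nz hG h) hx.1 hx.2
    have h2 : 2 ≤ Nat.card T := by
      by_contra hlt
      have hbot : T = ⊥ := Subgroup.card_eq_one.1 (by have := Nat.card_pos (α := T); omega)
      have hinj : Function.Injective (fun d : Nz z P => (d : G) * x * (d : G)⁻¹) := by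
        intro d d' e
        have hmem : (d' : G)⁻¹ * d ∈ T := by
          refine ⟨(Nz z P).mul_mem ((Nz z P).inv_mem d'.2) d.2, Subgroup.mem_centralizer_singleton_iff.2 ?_⟩
          calc (d' : G)⁻¹ * d * x = (d' : G)⁻¹ * ((d : G) * x * (d : G)⁻¹) * d := by group
            _ = (d' : G)⁻¹ * ((d' : G) * x * (d' : G)⁻¹) * d := by rw [show (d : G) * x * (d : G)⁻¹ = _ from e]
            _ = _ := by group
        rw [hbot, Subgroup.mem_bot, inv_mul_eq_one] at hmem
        exact Subtype.ext hmem.symm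
      have h16 := Nat.card_le_card_of_injective
        (fun d : Nz z P => (⟨_, (Subgroup.mem_normalizer_iff.1 d.2.1 x).1 hx.1⟩ : (P : Subgroup G)))
        fun d d' e => hinj (congrArg Subtype.val e)
      rw [card_Nz hG h, card_three hG] at h16
      omega
    have hT : Nat.card T = 2 := by
      have : Nat.card T ≤ 2 := hle
      omega
    obtain ⟨s, hs⟩ := exists_prime_orderOf_dvd_card' (G := T) 2 (dvd_of_eq hT.symm)
    rw [← Subgroup.orderOf_coe] at hs
    refine ⟨⟨s, s.2.1, hs, fun e => ?_⟩, Subgroup.mem_centralizer_singleton_iff.1 s.2.2⟩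
    have h2 := Subgroup.mem_centralizer_singleton_iff.1 s.2.2
    rw [e] at h2
    exact hx.2 (h.eq_one_of_comm hG hx.1 h2.symm)
  have hge : A.card ≤ ∑ s : Others z P, (A.filter fun x => (s : G) * x = x * (s : G)).card := by
    refine le_trans (Finset.card_le_card fun x hx => ?_) Finset.card_biUnion_le
    obtain ⟨s, hs⟩ := hex x hx
    exact Finset.mem_biUnion.2 ⟨s, Finset.mem_univ _, Finset.mem_filter.2 ⟨hx, hs⟩⟩
  rw [Finset.sum_congr rfl (fun s _ => hpair s), Finset.sum_const, Finset.card_univ, smul_eq_mul, hA,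
    ← Nat.card_eq_fintype_card] at hge
  omega

theorem others_nonempty (hG : Nat.card G = 7920) {z : G} {P : Sylow 3 G} (h : Inv z P) :
    (Others z P).Nonempty := by
  by_contra he
  rw [Set.not_nonempty_iff_eq_empty] at he
  exact card_others hG h (by rw [he]; simp)

/-- The kernel contains no further involution. -/
theorem others_not_Ez (hG : Nat.card G = 7920) {z : G} {P : Sylow 3 G} (h : Inv z P) {s : G}
    (hs : s ∈ Others z P) : s ∉ Ez z := by
  classical
  haveI : Fact (Nat.Prime 3) := ⟨Nat.prime_three⟩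
  intro hsE
  -- all of them lie in the kernel
  have hall : ∀ t ∈ Others z P, t ∈ Ez z := by
    intro t ht
    obtain ⟨x, hx, hx1, hsx⟩ := others_fix hG h hs
    obtain ⟨y, hy, hy1, hty⟩ := others_fix hG h ht
    obtain ⟨d, hd, rfl⟩ := (transitive_sixteen hG P (Nz z P) inf_le_left (card_Nz hG h) hx hx1).2 y hy hy1
    have hne : ∀ {t}, t ∈ Others z P → t ≠ 1 := fun {t} ht e => by
      have := ht.2.1
      rw [e, orderOf_one] at this
      omega
    have he := stab_unique hG h hy hy1 ht.1 hty (hne ht)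
      (mul_mem (mul_mem hd hs.1) (inv_mem hd) : d * s * d⁻¹ ∈ Nz z P)
      (by calc d * s * d⁻¹ * (d * x * d⁻¹) = d * (s * x) * d⁻¹ := by group
            _ = d * (x * s) * d⁻¹ := by rw [hsx]
            _ = _ := by group)
      (fun e => hne hs (conj_eq_one_iff.1 e))
    rw [he]
    exact Ez_conj (mem_Nz.1 hd).2 hsE
  obtain ⟨r, hr⟩ := exists_prime_orderOf_dvd_card' (G := Subgroup.centralizer ({z} : Set G)) 3
    (by rw [involution_centralizer hG h.1]; norm_num)
  rw [← Subgroup.orderOf_coe] at hr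
  have hrz : (r : G) * z = z * r := Subgroup.mem_centralizer_singleton_iff.1 r.2
  have hconj : ∀ t, t ∈ Others z P → (r : G) * t * (r : G)⁻¹ ∈ Others z P := fun t ht => by
    refine ⟨Ez_le_Nz h (Ez_conj hrz (hall t ht)), ((MulAut.conj (r : G)).orderOf_eq t).trans ht.2.1,
      fun e => ht.2.2 ?_⟩
    calc t = (r : G)⁻¹ * ((r : G) * t * (r : G)⁻¹) * r := by group
      _ = (r : G)⁻¹ * ((z : G) * r) := by rw [e]; group
      _ = z := by rw [← hrz]; group
  have hr3 : (r : G) * r * r = 1 := by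
    have h1 := pow_orderOf_eq_one (r : G)
    rwa [hr, pow_three, ← mul_assoc] at h1
  have hiff : ∀ t, (MulAut.conj (r : G)).toEquiv t ∈ Others z P ↔ t ∈ Others z P := by
    intro t
    refine ⟨fun ht => ?_, hconj t⟩
    have h2 := hconj _ (hconj _ ht)
    have h3 : (r : G) * ((r : G) * ((MulAut.conj (r : G)).toEquiv t) * (r : G)⁻¹) * (r : G)⁻¹ = t := by
      show (r : G) * ((r : G) * ((r : G) * t * (r : G)⁻¹) * (r : G)⁻¹) * (r : G)⁻¹ = t
      calc _ = ((r : G) * r * r) * t * ((r : G) * r * r)⁻¹ := by group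
        _ = t := by rw [hr3]; simp
    rwa [h3] at h2
  haveI := Fintype.ofFinite (Others z P)
  let σ : Equiv.Perm (Others z P) := Equiv.Perm.subtypePerm (MulAut.conj (r : G)).toEquiv hiff
  have hσ : σ ^ 3 ^ 1 = 1 := by
    rw [pow_one]
    ext t
    show (MulAut.conj (r : G)) ((MulAut.conj (r : G)) ((MulAut.conj (r : G)) (t : G))) = (t : G)
    simp only [MulAut.conj_apply]
    calc _ = ((r : G) * r * r) * (t : G) * ((r : G) * r * r)⁻¹ := by group
      _ = _ := by rw [hr3]; simp
  obtain ⟨t, ht⟩ := Equiv.Perm.exists_fixed_point_of_prime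
    (by rw [← Nat.card_eq_fintype_card]; exact card_others hG h) hσ
  have ht' : (r : G) * (t : G) * (r : G)⁻¹ = t := congrArg Subtype.val ht
  -- two commuting involutions centralizing an element of order three
  obtain ⟨R, hR⟩ := (IsPGroup.of_card (n := 1) (by rw [Nat.card_zpowers, hr, pow_one]) :
    IsPGroup 3 (Subgroup.zpowers (r : G))).exists_le_sylow
  have hrR : (r : G) ∈ (R : Subgroup G) := hR (Subgroup.mem_zpowers _)
  have hr1 : (r : G) ≠ 1 := fun e => by rw [e, orderOf_one] at hr; omega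
  set C := Subgroup.centralizer ({(r : G)} : Set G)
  have hRC : (R : Subgroup G) ≤ C := fun a ha =>
    Subgroup.mem_centralizer_singleton_iff.2 (comm_three hG R ha hrR)
  have hidx : ((R : Subgroup G).subgroupOf C).index = 2 := by
    have h := Subgroup.card_mul_index ((R : Subgroup G).subgroupOf C)
    rw [Nat.card_congr (Subgroup.subgroupOfEquivOfLe hRC).toEquiv, card_three hG,
      show Nat.card C = 18 from cent_eighteen hG R hrR hr1] at h
    omega
  have hzC : z ∈ C := Subgroup.mem_centralizer_singleton_iff.2 hrz.symm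
  have htC : (t : G) ∈ C := Subgroup.mem_centralizer_singleton_iff.2
    (mul_inv_eq_iff_eq_mul.1 ht').symm
  have hno : ∀ {w : G}, orderOf w = 2 → w ∉ (R : Subgroup G) := fun {w} hw hwR => by
    have := Subgroup.orderOf_dvd_natCard _ hwR
    rw [hw, card_three hG] at this
    norm_num at this
  have hmem : z * (t : G) ∈ (R : Subgroup G) := by
    have h1 := (Subgroup.mul_mem_iff_of_index_two hidx (a := ⟨z, hzC⟩) (b := ⟨(t : G), htC⟩)).2
      (by simp only [Subgroup.mem_subgroupOf]; exact iff_of_false (hno h.1) (hno t.2.2.1))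
    simpa [Subgroup.mem_subgroupOf] using h1
  have hord := Subgroup.orderOf_dvd_natCard _ hmem
  have htt : (t : G) * t = 1 := by rw [← sq, ← t.2.2.1]; exact pow_orderOf_eq_one _
  have hsq : (z * (t : G)) ^ 2 = 1 := by
    rw [Commute.mul_pow (mem_Nz.1 t.2.1).2.symm, sq, sq, h.mul_self, htt, one_mul]
  rw [card_three hG] at hord
  have h1 : orderOf (z * (t : G)) = 1 := Nat.eq_one_of_dvd_one
    ((Nat.dvd_gcd hord (orderOf_dvd_of_pow_eq_one hsq)).trans (by norm_num))
  exact t.2.2.2 ((eq_inv_of_mul_eq_one_right (orderOf_eq_one_iff.1 h1)).trans h.inv_eq)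

/-- Two further subgroups are inverted, and they are interchanged in the normalizer. -/
theorem third (hG : Nat.card G = 7920) {z : G} {P Q : Sylow 3 G} (hP : Inv z P) (hQ : Inv z Q)
    (hne : P ≠ Q) : ∃ R, Inv z R ∧ R ≠ P ∧ R ≠ Q ∧ ∀ S, Inv z S → S = P ∨ S = Q ∨ S = R := by
  classical
  haveI := Fintype.ofFinite (Sylow 3 G)
  have h3 : (Finset.univ.filter fun S : Sylow 3 G => Inv z S).card = 3 := by
    rw [← Fintype.card_subtype, ← Nat.card_eq_fintype_card, card_inverted hG hP]
  have h1 : (((Finset.univ.filter fun S : Sylow 3 G => Inv z S).erase P).erase Q).card = 1 := by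
    rw [Finset.card_erase_of_mem, Finset.card_erase_of_mem, h3]
    · simp [hP]
    · simp [hQ, Ne.symm hne]
  obtain ⟨R, hR⟩ := Finset.card_eq_one.1 h1
  have hm : ∀ S, (S ≠ Q ∧ S ≠ P ∧ Inv z S) ↔ S = R := fun S => by
    have := congrArg (S ∈ ·) hR
    simpa using this
  obtain ⟨a, b, c⟩ := (hm R).2 rfl
  refine ⟨R, c, b, a, fun S hS => ?_⟩
  by_cases e1 : S = P
  · exact Or.inl e1
  by_cases e2 : S = Q
  · exact Or.inr (Or.inl e2)
  exact Or.inr (Or.inr ((hm S).1 ⟨e2, e1, hS⟩))

/-- A base configuration: the three subgroups inverted by `z`. -/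
structure Tri (z : G) (P Q R : Sylow 3 G) : Prop where
  invP : Inv z P
  invQ : Inv z Q
  invR : Inv z R
  pq : P ≠ Q
  pr : P ≠ R
  qr : Q ≠ R
  only : ∀ S, Inv z S → S = P ∨ S = Q ∨ S = R

omit [Finite G] [IsSimpleGroup G] in
theorem Tri.fix_mem {z : G} {P Q R : Sylow 3 G} (T : Tri z P Q R) {g : G} (hg : g * z = z * g)
    (hP : g • P = P) (hQ : g • Q = Q) : g ∈ Ez z := by
  refine ⟨hg, fun S hS => ?_⟩
  rcases T.only S hS with rfl | rfl | rfl
  · exact hP
  · exact hQ
  · rcases T.only _ (inv_smul_of_comm hg T.invR) with e | e | e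
    · exact absurd (MulAction.injective g (e.trans hP.symm)) T.pr.symm
    · exact absurd (MulAction.injective g (e.trans hQ.symm)) T.qr.symm
    · exact e

theorem Tri.exists_swap (hG : Nat.card G = 7920) {z : G} {P Q R : Sylow 3 G} (T : Tri z P Q R) :
    ∃ d ∈ Nz z P, d • Q = R ∧ d • R = Q := by
  obtain ⟨s, hs⟩ := others_nonempty hG T.invP
  obtain ⟨h1, h2⟩ := mem_Nz.1 hs.1
  have hQ' : s • Q ≠ Q := fun e => others_not_Ez hG T.invP hs (T.fix_mem h2 h1 e)
  have hsQ : s • Q = R := by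
    rcases T.only _ (inv_smul_of_comm h2 T.invQ) with e | e | e
    · exact absurd (MulAction.injective s (e.trans h1.symm)) T.pq.symm
    · exact absurd e hQ'
    · exact e
  refine ⟨s, hs.1, hsQ, ?_⟩
  rw [← hsQ, ← mul_smul, show s * s = 1 by rw [← sq, ← hs.2.1]; exact pow_orderOf_eq_one s, one_smul]

theorem Tri.card_Ez (hG : Nat.card G = 7920) {z : G} {P Q R : Sylow 3 G} (T : Tri z P Q R) :
    Nat.card (Ez z) = 8 := by
  obtain ⟨d, hd, hdQ, hdR⟩ := T.exists_swap hG
  have hnd : d ∉ Ez z := fun h => T.qr ((h.2 Q T.invQ).symm.trans hdQ)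
  have hle := Ez_le_Nz T.invP
  have hidx : ((Ez z).subgroupOf (Nz z P)).index = 2 := by
    refine Subgroup.index_eq_two_iff.2 ⟨⟨d, hd⟩, fun b => ?_⟩
    obtain ⟨hbP, hbz⟩ := mem_Nz.1 b.2
    obtain ⟨hdP, hdz⟩ := mem_Nz.1 hd
    simp only [Subgroup.mem_subgroupOf, Subgroup.coe_mul]
    rcases T.only _ (inv_smul_of_comm hbz T.invQ) with e | e | e
    · exact absurd (MulAction.injective (b : G) (e.trans hbP.symm)) T.pq.symm
    · refine Or.inr ⟨T.fix_mem hbz hbP e, fun h' => hnd ?_⟩
      simpa using mul_mem (inv_mem (T.fix_mem hbz hbP e)) h'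
    · refine Or.inl ⟨T.fix_mem (Commute.mul_left hbz hdz).eq
        (by rw [mul_smul, hdP, hbP]) ?_, fun h' => ?_⟩
      · rw [mul_smul, hdQ]
        rcases T.only _ (inv_smul_of_comm hbz T.invR) with e' | e' | e'
        · exact absurd (MulAction.injective (b : G) (e'.trans hbP.symm)) T.pr.symm
        · exact e'
        · exact absurd (MulAction.injective (b : G) (e'.trans e.symm)) T.qr.symm
      · exact T.qr ((h'.2 Q T.invQ).symm.trans e)
  have h := Subgroup.card_mul_index ((Ez z).subgroupOf (Nz z P))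
  rw [hidx, Nat.card_congr (Subgroup.subgroupOfEquivOfLe hle).toEquiv, card_Nz hG T.invP] at h
  omega

/-- The kernel is regular on the nontrivial elements of the Sylow subgroup. -/
theorem Tri.Ez_trans (hG : Nat.card G = 7920) {z : G} {P Q R : Sylow 3 G} (T : Tri z P Q R) {x y : G}
    (hx : x ∈ (P : Subgroup G)) (hx1 : x ≠ 1) (hy : y ∈ (P : Subgroup G)) (hy1 : y ≠ 1) :
    ∃ e ∈ Ez z, e * x * e⁻¹ = y := by
  classical
  by_contra hno
  push Not at hno
  have hfree : ∀ e ∈ Ez z, e * x = x * e → e = 1 := by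
    intro e he hex
    by_contra he1
    haveI : Fact (Nat.Prime 2) := ⟨Nat.prime_two⟩
    have ho : orderOf e = 2 := by
      have hle := (transitive_sixteen hG P (Nz z P) inf_le_left (card_Nz hG T.invP) hx hx1).1
      have hmem : e ∈ Nz z P ⊓ Subgroup.centralizer ({x} : Set G) :=
        ⟨Ez_le_Nz T.invP he, Subgroup.mem_centralizer_singleton_iff.2 hex⟩
      have hd := Subgroup.orderOf_dvd_natCard _ hmem
      have := Nat.le_of_dvd Nat.card_pos hd
      have := orderOf_pos e
      have h1 : orderOf e ≠ 1 := fun e1 => he1 (orderOf_eq_one_iff.1 e1)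
      omega
    by_cases hez : e = z
    · rw [hez] at hex
      exact hx1 (T.invP.eq_one_of_comm hG hx hex.symm)
    · exact others_not_Ez hG T.invP ⟨Ez_le_Nz T.invP he, ho, hez⟩ he
  have hmap : ∀ e : Ez z, (e : G) * x * (e : G)⁻¹ ∈ (((P : Subgroup G) : Set G) \ {1, y}) := fun e => by
    refine ⟨(Subgroup.mem_normalizer_iff.1 (Ez_le_Nz T.invP e.2).1 x).1 hx, ?_⟩
    rintro (h' | h')
    · exact hx1 (by simpa [mul_inv_eq_one] using h')
    · exact hno e e.2 h'
  have hcard := Nat.card_le_card_of_injective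
    (fun e : Ez z => (⟨_, hmap e⟩ : (((P : Subgroup G) : Set G) \ {1, y} : Set G))) fun a b e => by
      have e' : (a : G) * x * (a : G)⁻¹ = (b : G) * x * (b : G)⁻¹ := congrArg Subtype.val e
      refine Subtype.ext (inv_mul_eq_one.1 (hfree _ (mul_mem (inv_mem b.2) a.2) ?_)).symm
      calc (b : G)⁻¹ * a * x = (b : G)⁻¹ * ((a : G) * x * (a : G)⁻¹) * a := by group
        _ = (b : G)⁻¹ * ((b : G) * x * (b : G)⁻¹) * a := by rw [e']
        _ = _ := by group
  rw [T.card_Ez hG, Nat.card_coe_set_eq, Set.ncard_diff (by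
    intro a ha
    rcases ha with rfl | rfl
    · exact one_mem _
    · exact hy), Set.ncard_pair (Ne.symm hy1), ← Nat.card_coe_set_eq] at hcard
  have h9 : Nat.card (((P : Subgroup G) : Set G)) = 9 := card_three hG P
  omega

theorem exists_tri (hG : Nat.card G = 7920) (P : Sylow 3 G) : ∃ z Q R, Tri z P Q R := by
  classical
  haveI : Fintype (Sylow 3 G) := Fintype.ofFinite _
  obtain ⟨z, hz⟩ := exists_inv hG P
  have h3 : (Finset.univ.filter fun S : Sylow 3 G => Inv z S).card = 3 := by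
    rw [← Fintype.card_subtype, ← Nat.card_eq_fintype_card, card_inverted hG hz]
  obtain ⟨Q, hQ, hne⟩ := Finset.exists_mem_ne
    (show 1 < (Finset.univ.filter fun S : Sylow 3 G => Inv z S).card by omega) P
  have hQ' : Inv z Q := (Finset.mem_filter.1 hQ).2
  obtain ⟨R, hR, h1, h2, h4⟩ := third hG hz hQ' hne.symm
  exact ⟨z, Q, R, hz, hQ', hR, hne.symm, h1.symm, h2.symm, h4⟩

end Cfsg.Agent.Invol.M11Ord
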