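import Mathlib
import Cfsg.Agent.Lib.Invol.Order7920Inverters

/-!
Simple groups of order 7920: the graph on the Sylow 3-subgroups is triangular, hence a subgroup of index 11.
-/

set_option autoImplicit false
set_option linter.style.haveILetI false

namespace Cfsg.Agent.Invol.M11Ord

open scoped Pointwise

universe u

variable {G : Type u} [Group G]

/-- Adjacency: some involution inverts both. -/
def Adj (P Q : Sylow 3 G) : Prop := P ≠ Q ∧ ∃ z, Inv z P ∧ Inv z Q

/-- The common neighbours. -/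
def com (P Q : Sylow 3 G) : Set (Sylow 3 G) := {T | Adj P T ∧ Adj Q T}

/-- The orbit of `Q` under `P`. -/
def orb (P Q : Sylow 3 G) : Set (Sylow 3 G) := (fun p : G => p • Q) '' ((P : Subgroup G) : Set G)

theorem Adj.symm {P Q : Sylow 3 G} (h : Adj P Q) : Adj Q P :=
  ⟨h.1.symm, let ⟨z, a, b⟩ := h.2; ⟨z, b, a⟩⟩

theorem Adj.smul {P Q : Sylow 3 G} (h : Adj P Q) (g : G) : Adj (g • P) (g • Q) :=
  ⟨fun e => h.1 (MulAction.injective g e), let ⟨z, a, b⟩ := h.2; ⟨_, a.smul g, b.smul g⟩⟩

theorem adj_smul_iff {P Q : Sylow 3 G} (g : G) : Adj (g • P) (g • Q) ↔ Adj P Q :=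
  ⟨fun h => by simpa using h.smul g⁻¹, fun h => h.smul g⟩

theorem com_smul (P Q : Sylow 3 G) (g : G) : com (g • P) (g • Q) = g • com P Q := by
  ext T
  rw [Set.mem_smul_set_iff_inv_smul_mem]
  show Adj (g • P) T ∧ Adj (g • Q) T ↔ Adj P (g⁻¹ • T) ∧ Adj Q (g⁻¹ • T)
  rw [← adj_smul_iff g (Q := g⁻¹ • T), ← adj_smul_iff g (P := Q) (Q := g⁻¹ • T), smul_inv_smul]

theorem Tri.smul {z : G} {P Q R : Sylow 3 G} (T : Tri z P Q R) (g : G) :
    Tri (g * z * g⁻¹) (g • P) (g • Q) (g • R) := by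
  refine ⟨T.invP.smul g, T.invQ.smul g, T.invR.smul g, fun e => T.pq (MulAction.injective g e),
    fun e => T.pr (MulAction.injective g e), fun e => T.qr (MulAction.injective g e), fun S hS => ?_⟩
  have h1 := hS.smul g⁻¹
  rw [show g⁻¹ * (g * z * g⁻¹) * g⁻¹⁻¹ = z by group] at h1
  rcases T.only _ h1 with e | e | e
  · exact Or.inl (inv_smul_eq_iff.1 e)
  · exact Or.inr (Or.inl (inv_smul_eq_iff.1 e))
  · exact Or.inr (Or.inr (inv_smul_eq_iff.1 e))

theorem Tri.flip {z : G} {P Q R : Sylow 3 G} (T : Tri z P Q R) : Tri z P R Q :=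
  ⟨T.invP, T.invR, T.invQ, T.pr, T.pq, T.qr.symm, fun S hS => (T.only S hS).imp_right Or.symm⟩

theorem Tri.adj {z : G} {P Q R : Sylow 3 G} (T : Tri z P Q R) : Adj P Q ∧ Adj P R ∧ Adj Q R :=
  ⟨⟨T.pq, z, T.invP, T.invQ⟩, ⟨T.pr, z, T.invP, T.invR⟩, ⟨T.qr, z, T.invQ, T.invR⟩⟩

/-- The non-neighbours. -/
def nonNbr (P : Sylow 3 G) : Set (Sylow 3 G) := {S | S ≠ P ∧ ¬ Adj P S}

open Classical in
/-- The adjacency matrix. -/
noncomputable def adjMat : Matrix (Sylow 3 G) (Sylow 3 G) ℝ := fun i j => if Adj i j then 1 else 0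

variable [Finite G] [IsSimpleGroup G]

theorem card_sylow (hG : Nat.card G = 7920) : Nat.card (Sylow 3 G) = 55 := by
  haveI : Fact (Nat.Prime 3) := ⟨Nat.prime_three⟩
  obtain ⟨P⟩ : Nonempty (Sylow 3 G) := inferInstance
  have h := Subgroup.index_mul_card (Subgroup.normalizer ((P : Subgroup G) : Set G))
  rw [sylow_three_normalizer hG P, hG] at h
  rw [Sylow.card_eq_index_normalizer P]
  show (Subgroup.normalizer ((P : Subgroup G) : Set G)).index = 55
  omega

theorem Tri.smul_inj (hG : Nat.card G = 7920) {z : G} {P Q R : Sylow 3 G} (T : Tri z P Q R) {p p' : G}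
    (hp : p ∈ (P : Subgroup G)) (hp' : p' ∈ (P : Subgroup G)) (h : p • Q = p' • Q) : p = p' := by
  by_contra hne
  refine T.pq (semireg hG (mul_mem (inv_mem hp') hp) ?_ fun e => hne (inv_mul_eq_one.1 e).symm).symm
  rw [mul_smul, h, inv_smul_smul]

theorem Tri.smul_ne (hG : Nat.card G = 7920) {z : G} {P Q R : Sylow 3 G} (T : Tri z P Q R) {p p' : G}
    (hp : p ∈ (P : Subgroup G)) (hp' : p' ∈ (P : Subgroup G)) : p • Q ≠ p' • R := by
  intro h
  set r := p⁻¹ * p' with hr
  have hrP : r ∈ (P : Subgroup G) := mul_mem (inv_mem hp) hp'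
  have h1 : r • R = Q := by rw [hr, mul_smul, ← h, inv_smul_smul]
  have hzR : z • R = R := Sylow.smul_eq_iff_mem_normalizer.2 T.invR.mem
  have hzQ : z • Q = Q := Sylow.smul_eq_iff_mem_normalizer.2 T.invQ.mem
  have hzr : z * r = r⁻¹ * z := by
    rw [← T.invP.2 r hrP, inv_mul_cancel_right]
  have h2 : r⁻¹ • R = Q := by
    have e : z • r • R = z • Q := by rw [h1]
    rw [← mul_smul, hzr, mul_smul, hzR, hzQ] at e
    exact e
  have hr2 : r * r = 1 := by
    by_contra hne
    refine T.pr (semireg hG (mul_mem hrP hrP) ?_ hne).symm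
    rw [mul_smul, h1, ← h2, smul_inv_smul]
  have hr1 : r = 1 := by
    have := cube hG P hrP
    rwa [pow_three, hr2, mul_one] at this
  rw [hr1, one_smul] at h1
  exact T.qr h1.symm

omit [IsSimpleGroup G] in
theorem smul_mem_orb {P Q : Sylow 3 G} {p : G} (hp : p ∈ (P : Subgroup G)) : p • Q ∈ orb P Q :=
  ⟨p, hp, rfl⟩

omit [IsSimpleGroup G] in
theorem self_mem_orb (P Q : Sylow 3 G) : Q ∈ orb P Q :=
  ⟨1, one_mem _, one_smul G Q⟩

theorem Tri.ncard_orb (hG : Nat.card G = 7920) {z : G} {P Q R : Sylow 3 G} (T : Tri z P Q R) :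
    (orb P Q).ncard = 9 := by
  rw [orb, Set.ncard_image_of_injOn fun p hp p' hp' e => T.smul_inj hG hp hp' e, ← Nat.card_coe_set_eq]
  exact card_three hG P

theorem Tri.disjoint (hG : Nat.card G = 7920) {z : G} {P Q R : Sylow 3 G} (T : Tri z P Q R) :
    Disjoint (orb P Q) (orb P R) := by
  rw [Set.disjoint_left]
  rintro _ ⟨p, hp, rfl⟩ ⟨p', hp', e⟩
  exact T.smul_ne hG hp hp' e.symm

/-- The neighbours. -/
theorem Tri.adj_iff (hG : Nat.card G = 7920) {z : G} {P Q R : Sylow 3 G} (T : Tri z P Q R)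
    (S : Sylow 3 G) : Adj P S ↔ S ∈ orb P Q ∪ orb P R := by
  constructor
  · rintro ⟨hne, w, hwP, hwS⟩
    obtain ⟨p, hp, rfl⟩ := inv_unique hG T.invP hwP
    have h1 := hwS.smul p⁻¹
    rw [show p⁻¹ * (p * z * p⁻¹) * p⁻¹⁻¹ = z by group] at h1
    rcases T.only _ h1 with e | e | e
    · exact absurd (inv_smul_eq_iff.1 e) (by rw [smul_self P hp]; exact hne.symm)
    · exact Or.inl ⟨p, hp, (inv_smul_eq_iff.1 e).symm⟩
    · exact Or.inr ⟨p, hp, (inv_smul_eq_iff.1 e).symm⟩
  · rintro (⟨p, hp, rfl⟩ | ⟨p, hp, rfl⟩)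
    · simpa [smul_self P hp] using T.adj.1.smul p
    · simpa [smul_self P hp] using T.adj.2.1.smul p

theorem ncard_nbr (hG : Nat.card G = 7920) (P : Sylow 3 G) : {S | Adj P S}.ncard = 18 := by
  obtain ⟨z, Q, R, T⟩ := exists_tri hG P
  rw [show {S | Adj P S} = orb P Q ∪ orb P R from Set.ext (T.adj_iff hG),
    Set.ncard_union_eq (T.disjoint hG) (Set.toFinite _) (Set.toFinite _), T.ncard_orb hG,
    T.flip.ncard_orb hG]

theorem edge_trans (hG : Nat.card G = 7920) {z : G} {P Q R A B : Sylow 3 G} (T : Tri z P Q R)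
    (h : Adj A B) : ∃ g : G, g • P = A ∧ g • Q = B := by
  haveI : Fact (Nat.Prime 3) := ⟨Nat.prime_three⟩
  obtain ⟨g, rfl⟩ := MulAction.exists_smul_eq G P A
  rcases ((T.smul g).adj_iff hG B).1 h with ⟨p, hp, e⟩ | ⟨p, hp, e⟩
  · exact ⟨p * g, by rw [mul_smul, smul_self _ hp], by rw [mul_smul]; exact e⟩
  · obtain ⟨d, hd, hdQ, -⟩ := T.exists_swap hG
    refine ⟨p * g * d, ?_, ?_⟩
    · rw [mul_smul, (mem_Nz.1 hd).1, mul_smul, smul_self _ hp]
    · rw [mul_smul, hdQ, mul_smul]; exact e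

/-- Adjacency to `Q` is constant on each punctured orbit. -/
theorem Tri.adj_const (hG : Nat.card G = 7920) {z : G} {P Q R : Sylow 3 G} (T : Tri z P Q R) {p p' : G}
    (hp : p ∈ (P : Subgroup G)) (hp1 : p ≠ 1) (hp' : p' ∈ (P : Subgroup G)) (hp1' : p' ≠ 1)
    {S : Sylow 3 G} (hS : S = Q ∨ S = R) (h : Adj Q (p • S)) : Adj Q (p' • S) := by
  obtain ⟨e, he, rfl⟩ := T.Ez_trans hG hp hp1 hp' hp1'
  have hQ := he.2 Q T.invQ
  have hS' : e • S = S := by
    rcases hS with rfl | rfl
    · exact hQ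
    · exact he.2 _ T.invR
  have h1 := h.smul e
  rwa [hQ, show e • p • S = (e * p * e⁻¹) • S by
    conv_rhs => rw [← hS']
    rw [← mul_smul, ← mul_smul, inv_mul_cancel_right]] at h1

theorem Tri.com_cases (hG : Nat.card G = 7920) {z : G} {P Q R : Sylow 3 G} (T : Tri z P Q R) :
    (com P Q = (orb P Q \ {Q}) ∪ orb P R) ∨ com P Q = {R} ∨ com P Q = orb P R ∨
      com P Q = insert R (orb P Q \ {Q}) := by
  obtain ⟨p₀, hp₀, hp₀1⟩ : ∃ p ∈ (P : Subgroup G), p ≠ 1 := by
    by_contra h'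
    push Not at h'
    have := card_three hG P
    rw [(Subgroup.eq_bot_iff_forall _).2 h', Subgroup.card_bot] at this
    norm_num at this
  have hQp : ∀ p ∈ (P : Subgroup G), p • Q = Q → p = 1 := fun p hp e =>
    T.smul_inj hG hp (one_mem _) (by rw [one_smul, e])
  have hA : ∀ S, S ∈ orb P Q → S ≠ Q → (Adj Q S ↔ Adj Q (p₀ • Q)) := by
    rintro _ ⟨p, hp, rfl⟩ hne
    have hp1 : p ≠ 1 := fun e => hne (by simp [e])
    exact ⟨T.adj_const hG hp hp1 hp₀ hp₀1 (Or.inl rfl), T.adj_const hG hp₀ hp₀1 hp hp1 (Or.inl rfl)⟩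
  have hB : ∀ S, S ∈ orb P R → S ≠ R → (Adj Q S ↔ Adj Q (p₀ • R)) := by
    rintro _ ⟨p, hp, rfl⟩ hne
    have hp1 : p ≠ 1 := fun e => hne (by simp [e])
    exact ⟨T.adj_const hG hp hp1 hp₀ hp₀1 (Or.inr rfl), T.adj_const hG hp₀ hp₀1 hp hp1 (Or.inr rfl)⟩
  have hnQ : ¬ Adj Q Q := fun h => h.1 rfl
  have hR := T.adj.2.2
  have hdisj := Set.disjoint_left.1 (T.disjoint hG)
  have hRQ : R ∉ orb P Q := fun h => hdisj h (self_mem_orb P R)
  have key : ∀ S, S ∈ com P Q ↔ (S ∈ orb P Q ∧ S ≠ Q ∧ Adj Q (p₀ • Q)) ∨ S = R ∨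
      (S ∈ orb P R ∧ Adj Q (p₀ • R)) := by
    intro S
    show Adj P S ∧ Adj Q S ↔ _
    rw [T.adj_iff hG]
    constructor
    · rintro ⟨h | h, hS⟩
      · have hne : S ≠ Q := fun e => hnQ (e ▸ hS)
        exact Or.inl ⟨h, hne, (hA S h hne).1 hS⟩
      · by_cases e : S = R
        · exact Or.inr (Or.inl e)
        · exact Or.inr (Or.inr ⟨h, (hB S h e).1 hS⟩)
    · rintro (⟨h, hne, ha⟩ | rfl | ⟨h, hb⟩)
      · exact ⟨Or.inl h, (hA S h hne).2 ha⟩
      · exact ⟨Or.inr (self_mem_orb P _), hR⟩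
      · refine ⟨Or.inr h, ?_⟩
        by_cases e : S = R
        · exact e ▸ hR
        · exact (hB S h e).2 hb
  have hmR := self_mem_orb P R
  by_cases ha : Adj Q (p₀ • Q) <;> by_cases hb : Adj Q (p₀ • R)
  · refine Or.inl (Set.ext fun S => ?_)
    rw [key]
    simp only [ha, hb, and_true, Set.mem_union, Set.mem_diff, Set.mem_singleton_iff]
    constructor
    · rintro (h | rfl | h)
      · exact Or.inl h
      · exact Or.inr hmR
      · exact Or.inr h
    · tauto
  · refine Or.inr (Or.inr (Or.inr (Set.ext fun S => ?_)))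
    rw [key]
    simp only [ha, hb, and_true, and_false, or_false, Set.mem_insert_iff, Set.mem_diff,
      Set.mem_singleton_iff]
    tauto
  · refine Or.inr (Or.inr (Or.inl (Set.ext fun S => ?_)))
    rw [key]
    simp only [ha, hb, and_true, and_false, false_or]
    exact ⟨fun h => h.elim (fun e => e ▸ hmR) id, Or.inr⟩
  · refine Or.inr (Or.inl (Set.ext fun S => ?_))
    rw [key]
    simp [ha, hb]

theorem com_const (hG : Nat.card G = 7920) {z : G} {P Q R A B : Sylow 3 G} (T : Tri z P Q R)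
    (h : Adj A B) : (com A B).ncard = (com P Q).ncard := by
  obtain ⟨g, rfl, rfl⟩ := edge_trans hG T h
  rw [com_smul, ← Set.image_smul, Set.ncard_image_of_injective _ (MulAction.injective g)]

/-! ### Non-adjacent pairs -/

/-- A central involution of a large 2-subgroup of the normalizer inverts. -/
theorem large_central (hG : Nat.card G = 7920) (P : Sylow 3 G) (S : Subgroup G)
    (hS : S ≤ Subgroup.normalizer ((P : Subgroup G) : Set G)) (h8 : 8 ≤ Nat.card S) (h16 : Nat.card S ∣ 16)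
    {c : G} (hc : c ∈ S) (h2 : orderOf c = 2) (hcc : ∀ s ∈ S, s * c = c * s) : Inv c P := by
  classical
  refine inv_of_fpf hG P (hS hc) h2 fun x hx hcx => by_contra fun hx1 => ?_
  set B := (P : Subgroup G) ⊓ Subgroup.centralizer ({c} : Set G)
  have hB : Nat.card B ∣ 3 := by
    have h9 := Subgroup.card_dvd_of_le (inf_le_left : B ≤ (P : Subgroup G))
    have h48 := Subgroup.card_dvd_of_le (inf_le_right : B ≤ Subgroup.centralizer {c})
    rw [card_three hG] at h9
    rw [involution_centralizer hG h2] at h48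
    exact Nat.dvd_gcd h9 h48
  have hB3 := Nat.le_of_dvd (by norm_num) hB
  set U := S ⊓ Subgroup.centralizer ({x} : Set G)
  have hU : Nat.card U ∣ 2 := by
    have a := (Subgroup.card_dvd_of_le (inf_le_left : U ≤ S)).trans h16
    have b := Subgroup.card_dvd_of_le (inf_le_right : U ≤ Subgroup.centralizer {x})
    rw [cent_eighteen hG P hx hx1] at b
    exact Nat.dvd_gcd a b
  have hU2 := Nat.le_of_dvd two_pos hU
  have hmap : ∀ s : S, (s : G) * x * (s : G)⁻¹ ∈ ((B : Set G) \ {1}) := fun s => by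
    refine ⟨⟨(Subgroup.mem_normalizer_iff.1 (hS s.2) x).1 hx, Subgroup.mem_centralizer_singleton_iff.2 ?_⟩,
      fun e => hx1 (by simpa [mul_inv_eq_one] using e)⟩
    have h1 : Commute c (s : G) := (hcc s s.2).symm
    exact ((h1.mul_right (hcx : Commute c x)).mul_right h1.inv_right).eq.symm
  let f : S → ((B : Set G) \ {1} : Set G) := fun s => ⟨_, hmap s⟩
  cases nonempty_fintype S
  haveI : Fintype ((B : Set G) \ {1} : Set G) := Fintype.ofFinite _
  have hfib : ∀ a ∈ Finset.univ.image f, (Finset.univ.filter fun d => f d = a).card ≤ Nat.card U := by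
    intro a ha
    obtain ⟨d₀, -, rfl⟩ := Finset.mem_image.1 ha
    have hsub : ∀ d ∈ Finset.univ.filter (fun d => f d = f d₀), ((d₀⁻¹ * d : S) : G) ∈ U := by
      intro d hd
      have e : (d : G) * x * (d : G)⁻¹ = (d₀ : G) * x * (d₀ : G)⁻¹ :=
        congrArg Subtype.val (Finset.mem_filter.1 hd).2
      refine ⟨(d₀⁻¹ * d).2, Subgroup.mem_centralizer_singleton_iff.2 ?_⟩
      show (d₀ : G)⁻¹ * d * x = x * ((d₀ : G)⁻¹ * d)
      calc (d₀ : G)⁻¹ * d * x = (d₀ : G)⁻¹ * ((d : G) * x * (d : G)⁻¹) * d := by group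
        _ = (d₀ : G)⁻¹ * ((d₀ : G) * x * (d₀ : G)⁻¹) * d := by rw [e]
        _ = _ := by group
    rw [← Fintype.card_coe, ← Nat.card_eq_fintype_card]
    refine Nat.card_le_card_of_injective (fun d => (⟨_, hsub d.1 d.2⟩ : U)) fun d d' e => ?_
    simpa using congrArg Subtype.val e
  have hcard := Finset.card_le_mul_card_image Finset.univ _ hfib
  have himg : (Finset.univ.image f).card ≤ 2 := by
    refine (Finset.card_le_univ _).trans ?_
    rw [← Nat.card_eq_fintype_card, Nat.card_coe_set_eq,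
      Set.ncard_diff_singleton_of_mem (one_mem B), ← Nat.card_coe_set_eq]
    show Nat.card B - 1 ≤ 2
    omega
  rw [Finset.card_univ, ← Nat.card_eq_fintype_card] at hcard
  have := Nat.mul_le_mul hU2 himg
  omega

theorem ncard_nonNbr (hG : Nat.card G = 7920) (P : Sylow 3 G) : (nonNbr P).ncard = 36 := by
  have h : nonNbr P = (insert P {S | Adj P S})ᶜ := by
    ext S
    show S ≠ P ∧ ¬ Adj P S ↔ ¬ (S = P ∨ Adj P S)
    tauto
  rw [h, Set.ncard_compl, Set.ncard_insert_of_notMem (s := {S | Adj P S}) (a := P) (fun h => h.1 rfl),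
    ncard_nbr hG, card_sylow hG]

theorem nonadj_trans (hG : Nat.card G = 7920) {P S S' : Sylow 3 G} (hS : S ∈ nonNbr P)
    (hS' : S' ∈ nonNbr P) : ∃ g : G, g • P = P ∧ g • S = S' := by
  classical
  haveI : Fact (Nat.Prime 3) := ⟨Nat.prime_three⟩
  set N := MulAction.stabilizer G P with hN
  have hNc : Nat.card N = 144 := by
    rw [hN, Sylow.stabilizer_eq_normalizer]
    exact sylow_three_normalizer hG P
  set U := N ⊓ MulAction.stabilizer G S with hU
  have hU3 : ¬ 3 ∣ Nat.card U := fun h => by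
    obtain ⟨x, hx⟩ := exists_prime_orderOf_dvd_card' (G := U) 3 h
    rw [← Subgroup.orderOf_coe] at hx
    have hxP : (x : G) ∈ (P : Subgroup G) :=
      mem_of_normalize P ⟨1, by rw [pow_one]; exact hx⟩ (Sylow.smul_eq_iff_mem_normalizer.1 x.2.1)
    exact hS.1 (semireg hG hxP x.2.2 fun e => by rw [e, orderOf_one] at hx; omega)
  have hU16 : Nat.card U ∣ 16 := by
    have h := Subgroup.card_dvd_of_le (inf_le_left : U ≤ N)
    rw [hNc] at h
    refine (Nat.Coprime.pow_right 2 ((Nat.prime_three.coprime_iff_not_dvd.2 hU3).symm)).dvd_of_dvd_mul_right ?_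
    norm_num
    exact h
  have hU4 : Nat.card U ≤ 4 := by
    by_contra hlt
    have h8 : 8 ≤ Nat.card U := by
      obtain ⟨i, hi4, hi⟩ := (Nat.dvd_prime_pow Nat.prime_two).1 (show Nat.card U ∣ 2 ^ 4 by simpa using hU16)
      interval_cases i <;> omega
    obtain ⟨i, hi4, hi⟩ := (Nat.dvd_prime_pow Nat.prime_two).1 (show Nat.card U ∣ 2 ^ 4 by simpa using hU16)
    obtain ⟨j, rfl⟩ : ∃ j, i = j + 1 := ⟨i - 1, by
      rcases Nat.eq_zero_or_pos i with e | e
      · rw [e] at hi; omega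
      · omega⟩
    obtain ⟨c, hc, h2, hcc⟩ := central_involution hi
    have hP := large_central hG P U (fun g hg => Sylow.smul_eq_iff_mem_normalizer.1 hg.1) h8 hU16 hc h2 hcc
    have hS'' := large_central hG S U (fun g hg => Sylow.smul_eq_iff_mem_normalizer.1 hg.2) h8 hU16 hc h2 hcc
    exact hS.2 ⟨fun e => hS.1 e.symm, c, hP, hS''⟩
  have hstab : Nat.card (MulAction.stabilizer N S) = Nat.card U :=
    Nat.card_congr
      { toFun := fun g => ⟨((g : N) : G), ⟨(g : N).2, g.2⟩⟩
        invFun := fun g => ⟨⟨g, g.2.1⟩, g.2.2⟩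
        left_inv := fun _ => rfl
        right_inv := fun _ => rfl }
  have hmul := Nat.card_congr (MulAction.orbitProdStabilizerEquivGroup N S)
  rw [Nat.card_prod, hstab, hNc, Nat.card_coe_set_eq] at hmul
  have hsub : MulAction.orbit N S ⊆ nonNbr P := by
    rintro _ ⟨⟨g, hg⟩, rfl⟩
    refine ⟨fun e => hS.1 (MulAction.injective g (e.trans hg.symm)), fun h => hS.2 ?_⟩
    rw [← adj_smul_iff g, hg]
    exact h
  have h36 : 36 ≤ (MulAction.orbit N S).ncard := by
    by_contra hlt
    have := Nat.mul_le_mul (Nat.le_of_lt_succ (Nat.not_le.1 hlt) : (MulAction.orbit N S).ncard ≤ 35) hU4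
    omega
  have heq : MulAction.orbit N S = nonNbr P :=
    Set.eq_of_subset_of_ncard_le hsub (by rw [ncard_nonNbr hG]; exact h36) (Set.toFinite _)
  obtain ⟨g, hg⟩ := (heq.symm ▸ hS' : S' ∈ MulAction.orbit N S)
  exact ⟨g, g.2, hg⟩

theorem com_nonadj_const (hG : Nat.card G = 7920) {P S A B : Sylow 3 G} (hS : S ∈ nonNbr P)
    (hB : B ∈ nonNbr A) : (com A B).ncard = (com P S).ncard := by
  haveI : Fact (Nat.Prime 3) := ⟨Nat.prime_three⟩
  obtain ⟨g, rfl⟩ := MulAction.exists_smul_eq G P A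
  have hB' : g⁻¹ • B ∈ nonNbr P := by
    refine ⟨fun e => hB.1 (inv_smul_eq_iff.1 e), fun h => hB.2 ?_⟩
    simpa using h.smul g
  obtain ⟨n, hn, hn'⟩ := nonadj_trans hG hS hB'
  have : com (g • P) B = (g * n) • com P S := by
    rw [← com_smul, mul_smul, mul_smul, hn, hn', smul_inv_smul]
  rw [this, ← Set.image_smul, Set.ncard_image_of_injective _ (MulAction.injective _)]

/-! ### The adjacency matrix -/

omit [Finite G] [IsSimpleGroup G] in
theorem adjMat_symm : (adjMat (G := G)).IsHermitian := by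
  classical
  refine Matrix.IsHermitian.ext fun i j => ?_
  simp only [adjMat, star_trivial]
  exact if_congr ⟨Adj.symm, Adj.symm⟩ rfl rfl

variable [Fintype (Sylow 3 G)]

omit [Finite G] [IsSimpleGroup G] in
theorem adjMat_sq (i j : Sylow 3 G) :
    (adjMat (G := G) * adjMat : Matrix (Sylow 3 G) (Sylow 3 G) ℝ) i j = ((com i j).ncard : ℝ) := by
  classical
  rw [Matrix.mul_apply, Set.ncard_eq_toFinset_card']
  simp only [adjMat, ← ite_and, mul_ite, mul_one, mul_zero, Finset.sum_boole]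
  congr 2
  ext k
  simp only [Finset.mem_filter, Finset.mem_univ, true_and]
  rw [Set.mem_toFinset]
  exact ⟨fun h => ⟨h.2, h.1.symm⟩, fun h => ⟨h.2.symm, h.1⟩⟩

theorem adjMat_row (hG : Nat.card G = 7920) (i : Sylow 3 G) : ∑ j, adjMat i j = 18 := by
  classical
  simp only [adjMat, Finset.sum_boole]
  rw [show (Finset.univ.filter fun j => Adj i j) = {S | Adj i S}.toFinset by ext; simp,
    ← Set.ncard_eq_toFinset_card', ncard_nbr hG]
  norm_num

/-- The eigenvalues satisfy a quadratic equation unless equal to 18. -/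
theorem eigen (hG : Nat.card G = 7920) {lam mu : ℕ}
    (hl : ∀ A B : Sylow 3 G, Adj A B → (com A B).ncard = lam)
    (hm : ∀ A B : Sylow 3 G, B ∈ nonNbr A → (com A B).ncard = mu) {r : ℝ} {v : Sylow 3 G → ℝ}
    (hv : v ≠ 0) (he : (adjMat (G := G)).mulVec v = r • v) :
    r = 18 ∨ r ^ 2 = 18 - (mu : ℝ) + ((lam : ℝ) - mu) * r := by
  classical
  have hd : ∀ i j, (adjMat (G := G) * adjMat : Matrix (Sylow 3 G) (Sylow 3 G) ℝ) i j =
      (18 - (mu : ℝ)) * (if i = j then 1 else 0) + ((lam : ℝ) - mu) * adjMat i j + mu := by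
    intro i j
    rw [adjMat_sq]
    by_cases e : i = j
    · subst e
      have hself : com i i = {S | Adj i S} := by ext S; exact ⟨fun h => h.1, fun h => ⟨h, h⟩⟩
      rw [hself, ncard_nbr hG, if_pos rfl, adjMat, if_neg (fun h => h.1 rfl)]
      push_cast
      ring
    · rw [if_neg e]
      by_cases ha : Adj i j
      · rw [hl i j ha, adjMat, if_pos ha]; ring
      · rw [hm i j ⟨Ne.symm e, ha⟩, adjMat, if_neg ha]; ring
  have hA : ∀ i, ∑ j, adjMat i j * v j = r * v i := fun i => congrFun he i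
  set s := ∑ j, v j
  have hs : 18 * s = r * s := by
    rw [Finset.mul_sum, Finset.mul_sum, ← Finset.sum_congr rfl fun i _ => hA i, Finset.sum_comm]
    refine Finset.sum_congr rfl fun j _ => ?_
    rw [← Finset.sum_mul]
    congr 1
    rw [← adjMat_row hG j]
    exact Finset.sum_congr rfl fun i _ => by simpa using (adjMat_symm (G := G)).apply i j
  by_cases hr : r = 18
  · exact Or.inl hr
  right
  have hs0 : s = 0 := by
    by_contra h
    exact hr (mul_right_cancel₀ h hs).symm
  obtain ⟨i, hi⟩ := Function.ne_iff.1 hv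
  have h2 : ∑ j, (adjMat (G := G) * adjMat : Matrix (Sylow 3 G) (Sylow 3 G) ℝ) i j * v j = r ^ 2 * v i := by
    simp only [Matrix.mul_apply, Finset.sum_mul]
    rw [Finset.sum_comm]
    calc ∑ k, ∑ j, adjMat i k * adjMat k j * v j = ∑ k, adjMat i k * (r * v k) :=
          Finset.sum_congr rfl fun k _ => by
            rw [← hA k, Finset.mul_sum]; exact Finset.sum_congr rfl fun j _ => by ring
      _ = r * ∑ k, adjMat i k * v k := by
          rw [Finset.mul_sum]; exact Finset.sum_congr rfl fun k _ => by ring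
      _ = _ := by rw [hA]; ring
  simp only [hd, add_mul, Finset.sum_add_distrib, mul_assoc, ← Finset.mul_sum, hA, ite_mul, one_mul,
    zero_mul, Finset.sum_ite_eq, Finset.mem_univ, if_true] at h2
  rw [show ∑ j, v j = 0 from hs0, mul_zero, add_zero] at h2
  apply mul_right_cancel₀ (show v i ≠ 0 from hi)
  rw [← h2]
  ring

theorem mu_eq (hG : Nat.card G = 7920) {lam mu : ℕ}
    (hl : ∀ A B : Sylow 3 G, Adj A B → (com A B).ncard = lam)
    (hm : ∀ A B : Sylow 3 G, B ∈ nonNbr A → (com A B).ncard = mu) :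
    18 * lam + 36 * mu = 306 := by
  classical
  haveI : Fact (Nat.Prime 3) := ⟨Nat.prime_three⟩
  obtain ⟨P⟩ : Nonempty (Sylow 3 G) := inferInstance
  have h : ∀ j, (adjMat (G := G) * adjMat : Matrix (Sylow 3 G) (Sylow 3 G) ℝ) P j = (if P = j then (18 : ℝ) else 0) +
      (if Adj P j then (lam : ℝ) else 0) + (if j ∈ nonNbr P then (mu : ℝ) else 0) := by
    intro j
    rw [adjMat_sq]
    by_cases e : P = j
    · subst e
      have hself : com P P = {S | Adj P S} := by ext S; exact ⟨fun h => h.1, fun h => ⟨h, h⟩⟩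
      rw [hself, ncard_nbr hG, if_pos rfl, if_neg (fun h => h.1 rfl), if_neg (fun h => h.1 rfl)]
      norm_num
    · rw [if_neg e]
      by_cases ha : Adj P j
      · rw [hl P j ha, if_pos ha, if_neg (fun h => h.2 ha)]; ring
      · rw [hm P j ⟨Ne.symm e, ha⟩, if_neg ha, if_pos (show j ∈ nonNbr P from ⟨Ne.symm e, ha⟩)]; ring
  have h1 : ∑ j, (adjMat (G := G) * adjMat : Matrix (Sylow 3 G) (Sylow 3 G) ℝ) P j = 18 * 18 := by
    simp only [Matrix.mul_apply]
    rw [Finset.sum_comm]
    simp only [← Finset.mul_sum, adjMat_row hG, ← Finset.sum_mul]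
  rw [Finset.sum_congr rfl fun j _ => h j, Finset.sum_add_distrib, Finset.sum_add_distrib,
    Finset.sum_ite_eq, if_pos (Finset.mem_univ P), ← Finset.sum_filter, ← Finset.sum_filter,
    Finset.sum_const, Finset.sum_const, nsmul_eq_mul, nsmul_eq_mul,
    show (Finset.univ.filter fun j => Adj P j) = {S | Adj P S}.toFinset by ext; simp,
    show (Finset.univ.filter fun j => j ∈ nonNbr P) = (nonNbr P).toFinset by ext; simp,
    ← Set.ncard_eq_toFinset_card', ← Set.ncard_eq_toFinset_card', ncard_nbr hG, ncard_nonNbr hG] at h1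
  have : ((18 * lam + 36 * mu : ℕ) : ℝ) = ((306 : ℕ) : ℝ) := by push_cast at h1 ⊢; linarith
  exact_mod_cast this

theorem not_spectral (hG : Nat.card G = 7920) {lam mu : ℕ}
    (hl : ∀ A B : Sylow 3 G, Adj A B → (com A B).ncard = lam)
    (hm : ∀ A B : Sylow 3 G, B ∈ nonNbr A → (com A B).ncard = mu) : lam ≠ 1 ∧ lam ≠ 17 := by
  classical
  have hA := adjMat_symm (G := G)
  have htr : ∑ i, hA.eigenvalues i = 0 := by
    have h := hA.trace_eq_sum_eigenvalues
    rw [Matrix.trace, Finset.sum_eq_zero (fun i _ => by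
      rw [Matrix.diag_apply, adjMat, if_neg (fun h => h.1 rfl)])] at h
    simpa using h.symm
  have hev : ∀ i, hA.eigenvalues i = 18 ∨
      hA.eigenvalues i ^ 2 = 18 - (mu : ℝ) + ((lam : ℝ) - mu) * hA.eigenvalues i := fun i => by
    refine eigen hG hl hm ?_ (hA.mulVec_eigenvectorBasis i)
    intro h0
    exact hA.eigenvectorBasis.orthonormal.ne_zero i (by
      ext j; exact congrFun h0 j)
  have h55 : Fintype.card (Sylow 3 G) = 55 := by rw [← Nat.card_eq_fintype_card]; exact card_sylow hG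
  have hmu := mu_eq hG hl hm
  constructor <;> rintro rfl
  · obtain rfl : mu = 8 := by omega
    have hk : ∀ i, ∃ a b : ℤ, 2 * hA.eigenvalues i = (a : ℝ) + (b : ℝ) * Real.sqrt 89 ∧
        (a : ZMod 43) = -7 := by
      intro i
      rcases hev i with e | e
      · exact ⟨36, 0, by rw [e]; push_cast; ring, by decide⟩
      · have hsq : (2 * hA.eigenvalues i + 7) * (2 * hA.eigenvalues i + 7) =
            Real.sqrt 89 * Real.sqrt 89 := by
          rw [Real.mul_self_sqrt (by norm_num)]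
          push_cast at e
          linear_combination (4 : ℝ) * e
        rcases mul_self_eq_mul_self_iff.1 hsq with h | h
        · exact ⟨-7, 1, by push_cast; linarith, by decide⟩
        · exact ⟨-7, -1, by push_cast; linarith, by decide⟩
    choose a b hab ha using hk
    have hsum : ((∑ i, a i : ℤ) : ℝ) + ((∑ i, b i : ℤ) : ℝ) * Real.sqrt 89 = 0 := by
      push_cast
      rw [Finset.sum_mul, ← Finset.sum_add_distrib, ← Finset.sum_congr rfl fun i _ => hab i,
        ← Finset.mul_sum, htr, mul_zero]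
    have hirr : Irrational (Real.sqrt 89) := by
      simpa using (show Nat.Prime 89 by norm_num).irrational_sqrt
    have hb0 : (∑ i, b i) = 0 := by
      by_contra hb
      exact (hirr.intCast_mul hb).ne_int (-(∑ i, a i)) (by push_cast at hsum ⊢; linarith)
    rw [hb0, Int.cast_zero, zero_mul, add_zero, Int.cast_eq_zero] at hsum
    have h43 : ((∑ i, a i : ℤ) : ZMod 43) = 0 := by rw [hsum, Int.cast_zero]
    rw [Int.cast_sum, Finset.sum_congr rfl fun i _ => ha i, Finset.sum_const, Finset.card_univ, h55,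
      nsmul_eq_mul] at h43
    exact absurd h43 (by decide)
  · obtain rfl : mu = 0 := by omega
    have hk : ∀ i, ∃ a : ℤ, hA.eigenvalues i = (a : ℝ) ∧ (a : ZMod 19) = -1 := by
      intro i
      rcases hev i with e | e
      · exact ⟨18, by rw [e]; norm_num, by decide⟩
      · have h0 : (hA.eigenvalues i - 18) * (hA.eigenvalues i + 1) = 0 := by
          push_cast at e
          linear_combination e
        rcases mul_eq_zero.1 h0 with h | h
        · exact ⟨18, by push_cast; linarith, by decide⟩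
        · exact ⟨-1, by push_cast; linarith, by decide⟩
    choose a hab ha using hk
    rw [Finset.sum_congr rfl fun i _ => hab i, ← Int.cast_sum, Int.cast_eq_zero] at htr
    have h19 : ((∑ i, a i : ℤ) : ZMod 19) = 0 := by rw [htr, Int.cast_zero]
    rw [Int.cast_sum, Finset.sum_congr rfl fun i _ => ha i, Finset.sum_const, Finset.card_univ, h55,
      nsmul_eq_mul] at h19
    exact absurd h19 (by decide)

omit [Fintype (Sylow 3 G)] in
/-- Each edge lies in nine triangles, eight of them inside one orbit. -/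
theorem Tri.com_eq (hG : Nat.card G = 7920) {z : G} {P Q R : Sylow 3 G} (T : Tri z P Q R) :
    com P Q = insert R (orb P Q \ {Q}) := by
  haveI := Fintype.ofFinite (Sylow 3 G)
  have hl : ∀ A B : Sylow 3 G, Adj A B → (com A B).ncard = (com P Q).ncard := fun A B h =>
    com_const hG T h
  obtain ⟨S, hS⟩ : (nonNbr P).Nonempty := by
    rw [← Set.ncard_pos (Set.toFinite _), ncard_nonNbr hG]; norm_num
  have hm : ∀ A B : Sylow 3 G, B ∈ nonNbr A → (com A B).ncard = (com P S).ncard := fun A B h =>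
    com_nonadj_const hG hS h
  obtain ⟨h1, h17⟩ := not_spectral hG hl hm
  have hmu := mu_eq hG hl hm
  have hdisj := T.disjoint hG
  have hQ : (orb P Q \ {Q}).ncard = 8 := by
    rw [Set.ncard_diff_singleton_of_mem (self_mem_orb P Q), T.ncard_orb hG]
  have hR9 := T.flip.ncard_orb hG
  rcases T.com_cases hG with e | e | e | e
  · refine absurd ?_ h17
    rw [e, Set.ncard_union_eq (hdisj.mono_left Set.diff_subset) (Set.toFinite _) (Set.toFinite _), hQ, hR9]
  · exact absurd (by rw [e, Set.ncard_singleton]) h1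
  · exfalso
    obtain ⟨p, hp, hp1⟩ : ∃ p ∈ (P : Subgroup G), p ≠ 1 := by
      by_contra h'
      push Not at h'
      have := card_three hG P
      rw [(Subgroup.eq_bot_iff_forall _).2 h', Subgroup.card_bot] at this
      norm_num at this
    have hQR : ∀ X ∈ orb P R, Adj Q X := fun X hX => (e.symm ▸ hX : X ∈ com P Q).2
    have hne : p • Q ≠ Q := fun h => hp1 (T.smul_inj hG hp (one_mem _) (by rw [one_smul, h]))
    have hna : ¬ Adj Q (p • Q) := fun h => by
      have : p • Q ∈ com P Q := ⟨(T.adj_iff hG _).2 (Or.inl (smul_mem_orb hp)), h⟩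
      rw [e] at this
      exact Set.disjoint_left.1 hdisj (smul_mem_orb hp) this
    have hsub : insert P (orb P R) ⊆ com Q (p • Q) := by
      rintro X (rfl | hX)
      · exact ⟨T.adj.1.symm, ((T.adj_iff hG _).2 (Or.inl (smul_mem_orb hp))).symm⟩
      · refine ⟨hQR X hX, ?_⟩
        obtain ⟨r, hr, rfl⟩ := hX
        have h := (hQR _ (smul_mem_orb (mul_mem (inv_mem hp) hr))).smul p
        rwa [← mul_smul p (p⁻¹ * r), mul_inv_cancel_left] at h
    have hle := Set.ncard_le_ncard hsub (Set.toFinite _)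
    have hPo : P ∉ orb P R := fun h => ((T.adj_iff hG P).2 (Or.inr h)).1 rfl
    rw [Set.ncard_insert_of_notMem hPo, hR9, hm Q (p • Q) ⟨hne, hna⟩] at hle
    rw [e, hR9] at hmu
    omega
  · exact e

omit [Fintype (Sylow 3 G)] in
/-- A subgroup of index eleven. -/
theorem exists_index_eleven (hG : Nat.card G = 7920) : ∃ H : Subgroup G, H.index = 11 := by
  haveI : Fact (Nat.Prime 3) := ⟨Nat.prime_three⟩
  obtain ⟨P⟩ : Nonempty (Sylow 3 G) := inferInstance
  obtain ⟨z, Q, R, T⟩ := exists_tri hG P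
  set C := insert P (orb P Q) with hC
  have hRO : R ∉ orb P Q := fun h => Set.disjoint_left.1 (T.disjoint hG) h (self_mem_orb P R)
  have hCeq : C = insert P (insert Q (com P Q \ {R})) := by
    rw [hC, T.com_eq hG]
    congr 1
    ext X
    simp only [Set.mem_insert_iff, Set.mem_diff, Set.mem_singleton_iff]
    constructor
    · intro h
      by_cases e : X = Q
      · exact Or.inl e
      · exact Or.inr ⟨Or.inr ⟨h, e⟩, fun e' => hRO (e' ▸ h)⟩
    · rintro (rfl | ⟨rfl | ⟨h, -⟩, h'⟩)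
      · exact self_mem_orb P _
      · exact absurd rfl h'
      · exact h
  set H := MulAction.stabilizer G C with hH
  have hPorb : ∀ {p : G}, p ∈ (P : Subgroup G) → ∀ {X}, X ∈ orb P Q → p • X ∈ orb P Q := by
    rintro p hp _ ⟨r, hr, rfl⟩
    exact ⟨p * r, mul_mem hp hr, mul_smul _ _ _⟩
  have hPH : ∀ p ∈ (P : Subgroup G), p ∈ H := by
    intro p hp
    show p • C = C
    rw [hC, Set.smul_set_insert, smul_self P hp]
    congr 1
    ext X
    rw [Set.mem_smul_set_iff_inv_smul_mem]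
    exact ⟨fun h => by simpa using hPorb hp h, fun h => hPorb (inv_mem hp) h⟩
  have hTR : Tri z R P Q := ⟨T.invR, T.invP, T.invQ, T.pr.symm, T.qr.symm, T.pq, fun S hS => by
    rcases T.only S hS with h | h | h
    · exact Or.inr (Or.inl h)
    · exact Or.inr (Or.inr h)
    · exact Or.inl h⟩
  obtain ⟨g, hg, hgP, hgQ⟩ := hTR.exists_swap hG
  have hgH : g ∈ H := by
    show g • C = C
    rw [hCeq, Set.smul_set_insert, Set.smul_set_insert, Set.smul_set_sdiff, ← com_smul,
      Set.smul_set_singleton, hgP, hgQ, (mem_Nz.1 hg).1, Set.insert_comm]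
    congr 3
    ext X
    exact and_comm
  have horb : MulAction.orbit H P = C := by
    ext X
    constructor
    · rintro ⟨⟨h, hh⟩, rfl⟩
      have : h • P ∈ h • C := Set.smul_mem_smul_set (Set.mem_insert P _)
      rwa [show h • C = C from hh] at this
    · rintro (rfl | ⟨p, hp, rfl⟩)
      · exact MulAction.mem_orbit_self _
      · exact ⟨⟨p * g, mul_mem (hPH p hp) hgH⟩, by
          show (p * g) • P = p • Q
          rw [mul_smul, hgP]⟩
  have hC10 : C.ncard = 10 := by
    rw [hC, Set.ncard_insert_of_notMem (fun h => ((T.adj_iff hG P).2 (Or.inl h)).1 rfl), T.ncard_orb hG]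
  -- the point stabilizer
  have hE : ∀ e ∈ Ez z, e ∈ H := by
    intro e he
    show e • C = C
    rw [hCeq, Set.smul_set_insert, Set.smul_set_insert, Set.smul_set_sdiff, ← com_smul,
      Set.smul_set_singleton, he.2 P T.invP, he.2 Q T.invQ, he.2 R T.invR]
  have hdec : ∀ n : G, n ∈ H → n • P = P → ∃ p ∈ (P : Subgroup G), p⁻¹ * n ∈ Ez z := by
    intro n hn hnP
    have hQC : n • Q ∈ C := by
      have : n • Q ∈ n • C := Set.smul_mem_smul_set (Set.mem_insert_of_mem _ (self_mem_orb P Q))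
      rwa [show n • C = C from hn] at this
    rcases hQC with h | ⟨p, hp, h⟩
    · exact absurd (MulAction.injective n (h.trans hnP.symm)) T.pq.symm
    refine ⟨p, hp, ?_⟩
    have h1 : (p⁻¹ * n) • P = P := by rw [mul_smul, hnP, smul_self _ (inv_mem hp)]
    have h2 : (p⁻¹ * n) • Q = Q := by rw [mul_smul, ← h, inv_smul_smul]
    refine T.fix_mem ?_ h1 h2
    obtain ⟨r, hr, he⟩ := inv_unique hG T.invP (by have h5 := T.invP.smul (p⁻¹ * n); rwa [h1] at h5)
    have h3 : Inv ((p⁻¹ * n) * z * (p⁻¹ * n)⁻¹) Q := by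
      have h5 := T.invQ.smul (p⁻¹ * n)
      rwa [h2] at h5
    rw [he] at h3
    have h4 := h3.smul r⁻¹
    rw [show r⁻¹ * (r * z * r⁻¹) * r⁻¹⁻¹ = z by group] at h4
    have hr1 : r = 1 := by
      rcases T.only _ h4 with e | e | e
      · exact absurd (inv_smul_eq_iff.1 e) (by rw [smul_self _ hr]; exact T.pq.symm)
      · exact T.smul_inj hG hr (one_mem _) (by rw [one_smul]; exact (inv_smul_eq_iff.1 e).symm)
      · exact absurd (by rw [one_smul]; exact (inv_smul_eq_iff.1 e))
          (T.smul_ne hG (one_mem (P : Subgroup G)) hr)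
    rw [hr1, one_mul, inv_one, mul_one] at he
    exact mul_inv_eq_iff_eq_mul.1 he
  have hstab : Nat.card (MulAction.stabilizer H P) = 72 := by
    let f : Prod ↥(P : Subgroup G) ↥(Ez z) → MulAction.stabilizer H P := fun a =>
      ⟨⟨(a.1 : G) * a.2, mul_mem (hPH _ a.1.2) (hE _ a.2.2)⟩, by
        show ((a.1 : G) * a.2) • P = P
        rw [mul_smul, a.2.2.2 P T.invP, smul_self _ a.1.2]⟩
    have hf : Function.Bijective f := by
      constructor
      · rintro ⟨p, d⟩ ⟨p', d'⟩ e
        have e' : (p : G) * d = (p' : G) * d' :=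
          congrArg (fun x : MulAction.stabilizer H P => ((x : H) : G)) e
        obtain rfl : p = p' := Subtype.ext (T.smul_inj hG p.2 p'.2 (by
          have := congrArg (fun x : G => x • Q) e'
          simpa [mul_smul, d.2.2 Q T.invQ, d'.2.2 Q T.invQ] using this))
        obtain rfl : d = d' := Subtype.ext (mul_left_cancel e')
        rfl
      · intro n
        obtain ⟨p, hp, hd⟩ := hdec ((n : H) : G) (n : H).2 n.2
        exact ⟨(⟨p, hp⟩, ⟨_, hd⟩), Subtype.ext (Subtype.ext (mul_inv_cancel_left p _))⟩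
    have := Nat.card_congr (Equiv.ofBijective f hf)
    rw [Nat.card_prod, card_three hG, T.card_Ez hG] at this
    omega
  have hmul := Nat.card_congr (MulAction.orbitProdStabilizerEquivGroup H P)
  rw [Nat.card_prod, hstab, horb, Nat.card_coe_set_eq, hC10] at hmul
  refine ⟨H, ?_⟩
  have h := Subgroup.index_mul_card H
  rw [hG, ← hmul] at h
  omega

end Cfsg.Agent.Invol.M11Ord
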