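import Mathlib
import Cfsg.Agent.Lib.Invol.Order7920Graph
import Cfsg.Agent.Lib.Spor.SteinerUnique511
import Cfsg.Agent.Lib.Spor.SteinerAut
import Cfsg.Agent.Lib.Spor.SharpSimple
import Cfsg.Agent.Lib.Fus.PSLTwo
import Cfsg.Agent.Lib.Classical.SLGroup
import Cfsg.Agent.S0679

/-!
Simple groups of order 7920 are isomorphic: each is the automorphism group of a Steiner system S(4,5,11).
-/

set_option autoImplicit false
set_option linter.style.haveILetI false

namespace Cfsg.Agent.Invol.M11Ord

open Cfsg Finset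

variable {α : Type*} [Fintype α] [DecidableEq α] {G : Subgroup (Equiv.Perm α)}

/-- The fifth point of a block: fixed by the set stabiliser of the other four. -/
def ExtP (G : Subgroup (Equiv.Perm α)) (s : Finset α) (e : α) : Prop :=
  e ∉ s ∧ ∀ g ∈ G, s.image g = s → g e = e

theorem eq_four (hG : Spor.Sharp.Is G 4) {a b c d : α} (h : Spor.Sharp.Four a b c d) {g k : Equiv.Perm α}
    (hg : g ∈ G) (hk : k ∈ G) (ha : g a = k a) (hb : g b = k b) (hc : g c = k c) (hd : g d = k d) : g = k :=
  (inv_mul_eq_one.1 (hG.fix4 h (mul_mem (inv_mem hk) hg) (by simp [ha]) (by simp [hb]) (by simp [hc])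
    (by simp [hd]))).symm

theorem exists_three (hG : Spor.Sharp.Is G 4) (hα : Fintype.card α = 11) {s : Finset α} (hs : s.card = 4)
    {d : α} (hd : d ∈ s) :
    ∃ x ∈ G, ∃ e : α, s.image x = s ∧ x d = d ∧ x e = e ∧ e ∉ s ∧ (∀ u, x u = u → u = d ∨ u = e) ∧
      ∀ g ∈ G, s.image g = s → g d = d → g e = e := by
  obtain ⟨a, b, c, hab, hac, hbc, hse⟩ :=
    Finset.card_eq_three.1 (show (s.erase d).card = 3 by rw [card_erase_of_mem hd, hs])
  have had : a ≠ d := (mem_erase.1 (hse ▸ by simp : a ∈ s.erase d)).1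
  have hbd : b ≠ d := (mem_erase.1 (hse ▸ by simp : b ∈ s.erase d)).1
  have hcd : c ≠ d := (mem_erase.1 (hse ▸ by simp : c ∈ s.erase d)).1
  have hs' : s = {d, a, b, c} := by rw [← insert_erase hd, hse]
  have h4 : Spor.Sharp.Four a b c d := ⟨hab, hac, had, hbc, hbd, hcd⟩
  obtain ⟨x, hx, xa, xb, xc, xd⟩ := hG.tr4 h4 (show Spor.Sharp.Four b c a d from
    ⟨hbc, hab.symm, hbd, hac.symm, hcd, had⟩)
  have hx3 : x ^ 3 = 1 := hG.fix4 h4 (pow_mem hx 3) (by simp [pow_succ, xa, xb, xc])
    (by simp [pow_succ, xa, xb, xc]) (by simp [pow_succ, xa, xb, xc]) (by simp [pow_succ, xd])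
  have hx1 : x ≠ 1 := fun e => hab (by simpa [e] using xa)
  haveI : Fact (Nat.Prime 3) := ⟨by norm_num⟩
  have hmod := Equiv.Perm.card_compl_support_modEq (p := 3) (n := 1) (σ := x) (by simpa using hx3)
  have hF : x.supportᶜ = univ.filter fun p => x p = p := by ext; simp
  rw [hF, hα, Nat.ModEq] at hmod
  have hle := hG.fixed_le hx hx1
  have h2 : (univ.filter fun p => x p = p).card = 2 := by omega
  obtain ⟨e, he⟩ := Finset.card_eq_one.1 (show ((univ.filter fun p => x p = p).erase d).card = 1 by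
    rw [card_erase_of_mem (by simp [xd]), h2])
  have hem : e ≠ d ∧ x e = e := by
    have : e ∈ (univ.filter fun p => x p = p).erase d := by rw [he]; simp
    simpa using this
  have honly : ∀ u, x u = u → u = d ∨ u = e := by
    intro u hu
    rcases eq_or_ne u d with h | h
    · exact Or.inl h
    · right
      have : u ∈ (univ.filter fun p => x p = p).erase d := by simp [h, hu]
      simpa [he] using this
  have hes : e ∉ s := by
    rw [hs']
    simp only [mem_insert, mem_singleton, not_or]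
    refine ⟨hem.1, ?_, ?_, ?_⟩ <;> intro h <;> subst h
    · exact hab (hem.2.symm.trans xa)
    · exact hbc (hem.2.symm.trans xb)
    · exact hac (hem.2.symm.trans xc).symm
  refine ⟨x, hx, e, ?_, xd, hem.2, hes, honly, ?_⟩
  · rw [hs']; ext u; simp [xa, xb, xc, xd, or_comm, or_left_comm, eq_comm]
  intro g hg hgs hgd
  have hm : ∀ u ∈ s.erase d, g u = a ∨ g u = b ∨ g u = c := by
    intro u hu
    have : g u ∈ s.erase d := mem_erase.2 ⟨fun h => (mem_erase.1 hu).1 (g.injective (h.trans hgd.symm)),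
      by rw [← hgs]; exact mem_image_of_mem _ (mem_erase.1 hu).2⟩
    simpa [hse] using this
  have hga := hm a (by simp [hse])
  have hgb := hm b (by simp [hse])
  have hgc := hm c (by simp [hse])
  have hne1 : g a ≠ g b := fun h => hab (g.injective h)
  have hne2 : g a ≠ g c := fun h => hac (g.injective h)
  have hne3 : g b ≠ g c := fun h => hbc (g.injective h)
  have hdir : (x (g a) = g b ∧ x (g b) = g c ∧ x (g c) = g a) ∨
      (x (g a) = g c ∧ x (g b) = g a ∧ x (g c) = g b) := by
    rcases hga with h1 | h1 | h1 <;> rcases hgb with h2 | h2 | h2 <;> rcases hgc with h3 | h3 | h3 <;>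
      first
        | exact absurd (h1.trans h2.symm) hne1
        | exact absurd (h1.trans h3.symm) hne2
        | exact absurd (h2.trans h3.symm) hne3
        | (left; simp only [h1, h2, h3, xa, xb, xc, and_self]; done)
        | (right; simp only [h1, h2, h3, xa, xb, xc, and_self]; done)
  have hfix : x (g e) = g e := by
    rcases hdir with ⟨h1, h2, h3⟩ | ⟨h1, h2, h3⟩
    · have hc : x * g = g * x := eq_four hG h4 (mul_mem hx hg) (mul_mem hg hx) (by simp [xa, h1])
        (by simp [xb, h2]) (by simp [xc, h3]) (by simp [xd, hgd])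
      have := DFunLike.congr_fun hc e
      simpa [hem.2] using this
    · have hc : x * g * x = g := eq_four hG h4 (mul_mem (mul_mem hx hg) hx) hg (by simp [xa, h2])
        (by simp [xb, h3]) (by simp [xc, h1]) (by simp [xd, hgd])
      have := DFunLike.congr_fun hc e
      simpa [hem.2] using this
  rcases honly _ hfix with h | h
  · exact absurd (g.injective (h.trans hgd.symm)) hem.1
  · exact h

/-- A fifth point relative to a marked point of the four. -/
def AtP (G : Subgroup (Equiv.Perm α)) (s : Finset α) (d e : α) : Prop :=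
  e ∉ s ∧ ∀ g ∈ G, s.image g = s → g d = d → g e = e

theorem exists_at (hG : Spor.Sharp.Is G 4) (hα : Fintype.card α = 11) {s : Finset α} (hs : s.card = 4)
    {d : α} (hd : d ∈ s) : ∃! e, AtP G s d e := by
  obtain ⟨x, hx, e, hxs, hxd, -, hes, honly, hg⟩ := exists_three hG hα hs hd
  refine ⟨e, ⟨hes, hg⟩, fun e' he' => ?_⟩
  rcases honly e' (he'.2 x hx hxs hxd) with h | h
  · exact absurd (h ▸ hd) he'.1
  · exact h

theorem AtP.eq_of (hG : Spor.Sharp.Is G 4) {s : Finset α} (hs : s.card = 4) {c d : α} (hc : c ∈ s) (hd : d ∈ s)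
    (hcd : c ≠ d) {e e' : α} (h : AtP G s c e) (h' : AtP G s d e') : e = e' := by
  by_contra hne
  obtain ⟨a, b, hab, hse⟩ := Finset.card_eq_two.1 (show ((s.erase c).erase d).card = 2 by
    rw [card_erase_of_mem (mem_erase.2 ⟨hcd.symm, hd⟩), card_erase_of_mem hc, hs])
  have ha : a ≠ d ∧ a ≠ c ∧ a ∈ s := by simpa using (hse ▸ by simp : a ∈ (s.erase c).erase d)
  have hb : b ≠ d ∧ b ≠ c ∧ b ∈ s := by simpa using (hse ▸ by simp : b ∈ (s.erase c).erase d)
  obtain ⟨t, ht, ta, tb, tc, td⟩ := hG.tr4 (show Spor.Sharp.Four a b c d from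
    ⟨hab, ha.2.1, ha.1, hb.2.1, hb.1, hcd⟩) (show Spor.Sharp.Four b a c d from
    ⟨hab.symm, hb.2.1, hb.1, ha.2.1, ha.1, hcd⟩)
  have hts : s.image t = s := by
    have hs' : s = {c, d, a, b} := by
      rw [← hse, insert_erase (mem_erase.2 ⟨hcd.symm, hd⟩), insert_erase hc]
    rw [hs']; ext u; simp [ta, tb, tc, td, or_comm, or_left_comm, eq_comm]
  have h1 : t = 1 := hG.fix4 (show Spor.Sharp.Four c d e e' from
    ⟨hcd, fun q => h.1 (q ▸ hc), fun q => h'.1 (q ▸ hc), fun q => h.1 (q ▸ hd), fun q => h'.1 (q ▸ hd), hne⟩)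
    ht tc td (h.2 t ht hts tc) (h'.2 t ht hts td)
  exact hab (by simpa [h1] using ta)

theorem existsUnique_ext (hG : Spor.Sharp.Is G 4) (hα : Fintype.card α = 11) {s : Finset α} (hs : s.card = 4) :
    ∃! e, ExtP G s e := by
  obtain ⟨d, hd⟩ : s.Nonempty := card_pos.1 (by omega)
  obtain ⟨e, he, hu⟩ := exists_at hG hα hs hd
  refine ⟨e, ⟨he.1, fun g hg hgs => ?_⟩, fun e' he' => hu e' ⟨he'.1, fun g hg h _ => he'.2 g hg h⟩⟩
  have hgd : g d ∈ s := by rw [← hgs]; exact mem_image_of_mem _ hd
  have hA : AtP G s (g d) (g e) := by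
    refine ⟨fun h => he.1 ?_, fun k hk hks hkd => ?_⟩
    · rw [← hgs, mem_image] at h
      obtain ⟨u, hu', h'⟩ := h
      exact g.injective h' ▸ hu'
    · have hinv : s.image (g⁻¹ : Equiv.Perm α) = s := by
        conv_lhs => rw [← hgs]
        rw [image_image]
        simp
      have h := he.2 (g⁻¹ * k * g) (mul_mem (mul_mem (inv_mem hg) hk) hg) (by
        rw [Equiv.Perm.coe_mul, Equiv.Perm.coe_mul, ← image_image, hgs, ← image_image, hks, hinv]) (by simp [hkd])
      rw [Equiv.Perm.mul_apply, Equiv.Perm.mul_apply, Equiv.Perm.inv_eq_iff_eq] at h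
      exact h
  rcases eq_or_ne (g d) d with h | h
  · exact hu _ (h ▸ hA)
  · exact hA.eq_of hG hs hgd hd h he

theorem ExtP.image {s : Finset α} {e : α} (h : ExtP G s e) {g : Equiv.Perm α} (hg : g ∈ G) :
    ExtP G (s.image g) (g e) := by
  refine ⟨fun hm => ?_, fun k hk hks => ?_⟩
  · obtain ⟨u, hu, he⟩ := mem_image.1 hm
    exact h.1 (g.injective he ▸ hu)
  · have hc := h.2 (g⁻¹ * k * g) (mul_mem (mul_mem (inv_mem hg) hk) hg) (by
      rw [Equiv.Perm.coe_mul, Equiv.Perm.coe_mul, ← image_image, ← image_image, hks, image_image]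
      simp)
    rw [Equiv.Perm.mul_apply, Equiv.Perm.mul_apply, Equiv.Perm.inv_eq_iff_eq] at hc
    exact hc

theorem ExtP.swap (hG : Spor.Sharp.Is G 4) (hα : Fintype.card α = 11) {s : Finset α} (hs : s.card = 4) {e f : α}
    (he : ExtP G s e) (hf : f ∈ s) : ExtP G (insert e (s.erase f)) f := by
  obtain ⟨x, hx, e0, hxs, hxf, hxe, -, honly, hg⟩ := exists_three hG hα hs hf
  obtain rfl : e = e0 := by
    rcases honly e (he.2 x hx hxs) with h | h
    · exact absurd (h ▸ hf) he.1
    · exact h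
  have hef : e ≠ f := fun q => he.1 (q ▸ hf)
  have hc : (insert e (s.erase f)).card = 4 := by
    rw [card_insert_of_notMem (fun q => he.1 (mem_erase.1 q).2), card_erase_of_mem hf, hs]
  obtain ⟨e', he', -⟩ := existsUnique_ext hG hα hc
  have hxs' : (insert e (s.erase f)).image x = insert e (s.erase f) := by
    conv_rhs => rw [← hxs, ← hxf, ← image_erase x.injective, ← hxe]
    rw [image_insert]
  rcases honly e' (he'.2 x hx hxs') with h | h
  · exact h ▸ he'
  · exact absurd (h ▸ mem_insert_self _ _) he'.1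

/-- The invariant Steiner system. -/
def blocks (G : Subgroup (Equiv.Perm α)) : Set (Finset α) :=
  {b | b.card = 5 ∧ ∀ e ∈ b, ExtP G (b.erase e) e}

theorem steiner_blocks (hG : Spor.Sharp.Is G 4) (hα : Fintype.card α = 11) :
    IsSteinerSystem 4 5 (blocks G) := by
  refine ⟨fun b hb => hb.1, fun s hs => ?_⟩
  obtain ⟨e, he, hu⟩ := existsUnique_ext hG hα hs
  have hc : (insert e s).card = 5 := by rw [card_insert_of_notMem he.1, hs]
  refine ⟨insert e s, ⟨⟨hc, fun u hu' => ?_⟩, subset_insert _ _⟩, fun b ⟨hb, hsb⟩ => ?_⟩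
  · rcases mem_insert.1 hu' with rfl | h
    · rwa [erase_insert he.1]
    · rw [erase_insert_of_ne (show e ≠ u from fun q => he.1 (q ▸ h))]
      exact he.swap hG hα hs h
  · obtain ⟨f, hf⟩ := Finset.card_eq_one.1 (show (b \ s).card = 1 by
      rw [card_sdiff_of_subset hsb, hb.1, hs])
    have hfb : f ∈ b ∧ f ∉ s := by simpa using (hf ▸ mem_singleton_self f : f ∈ b \ s)
    have hbe : b.erase f = s := by
      refine (eq_of_subset_of_card_le (fun u hu' => mem_erase.2 ⟨show u ≠ f from fun q => hfb.2 (q ▸ hu'), hsb hu'⟩) ?_).symm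
      rw [card_erase_of_mem hfb.1, hb.1, hs]
    have h := hb.2 f hfb.1
    rw [hbe] at h
    rw [← hu f h, ← hbe, insert_erase hfb.1]

theorem le_aut : G ≤ setSystemAut (blocks G) := by
  have key : ∀ g ∈ G, ∀ b ∈ blocks G, b.image g ∈ blocks G := by
    rintro g hg b ⟨hb, h⟩
    refine ⟨by rw [card_image_of_injective _ g.injective, hb], fun u hu => ?_⟩
    obtain ⟨e, he, rfl⟩ := mem_image.1 hu
    rw [← image_erase g.injective]
    exact (h e he).image hg
  intro g hg
  refine Spor.SteinerAut.mem_aut.2 fun b => ⟨fun hb => ?_, key g hg b⟩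
  have := key g⁻¹ (inv_mem hg) _ hb
  simpa [image_image] using this

/-- A sharply four-transitive group of degree 11 is the automorphism group of a Steiner system. -/
theorem exists_steiner_eq (hG : Spor.Sharp.Is G 4) (hα : Fintype.card α = 11) :
    ∃ B, IsSteinerSystem 4 5 B ∧ G = setSystemAut B := by
  refine ⟨blocks G, steiner_blocks hG hα, Subgroup.eq_of_le_of_card_ge le_aut ?_⟩
  rw [(Spor.Sharp.eleven hG hα).2,
    (Spor.Sharp.eleven (Spor.S511.sharp hα (steiner_blocks hG hα)) hα).2]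

theorem natCard_psl_eleven : Nat.card (Matrix.ProjectiveSpecialLinearGroup (Fin 2) (ZMod 11)) = 660 := by
  haveI : Fact (Nat.Prime 11) := ⟨by norm_num⟩
  have h := Classical.natCard_PSL_mul (F := ZMod 11) 2 (by norm_num)
  have h1 : Nat.card (Matrix.SpecialLinearGroup (Fin 2) (ZMod 11)) = 1320 := by
    rw [Fus.PSLTwo.natCard_SL_two (F := ZMod 11), ZMod.card]
  have h2 : Nat.card (ZMod 11)ˣ = 10 := by rw [Classical.natCard_units_field (F := ZMod 11), ZMod.card]
  rw [h1, h2, show Nat.gcd 2 10 = 2 from rfl] at h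
  omega

universe u v

/-- A simple group of order 7920 as the automorphism group of a Steiner system on 11 points. -/
theorem exists_model {G : Type u} [Group G] [IsSimpleGroup G] (hG : Nat.card G = 7920) :
    ∃ B : Set (Finset (Fin 11)), IsSteinerSystem 4 5 B ∧ Nonempty (G ≃* setSystemAut B) := by
  haveI : Finite G := Nat.finite_of_card_ne_zero (by omega)
  obtain ⟨H, hH⟩ := exists_index_eleven hG
  haveI : Fintype (G ⧸ H) := Fintype.ofFinite _
  have hcard : Fintype.card (G ⧸ H) = 11 := by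
    rw [← Nat.card_eq_fintype_card]; exact hH
  let e : (G ⧸ H) ≃ Fin 11 := Fintype.equivFinOfCardEq hcard
  let φ : G →* Equiv.Perm (Fin 11) := e.permCongrHom.toMonoidHom.comp (MulAction.toPermHom G (G ⧸ H))
  have happ : ∀ (g : G) (x : G ⧸ H), φ g (e x) = e (g • x) := fun g x => by simp [φ]
  haveI htr : MulAction.IsPretransitive φ.range (Fin 11) := ⟨fun x y => by
    obtain ⟨g, hg⟩ := MulAction.exists_smul_eq G (e.symm x) (e.symm y)
    refine ⟨⟨φ g, g, rfl⟩, ?_⟩
    show φ g x = y
    rw [← e.apply_symm_apply x, happ, hg, e.apply_symm_apply]⟩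
  have hker : φ.ker = ⊥ := by
    refine (IsSimpleGroup.eq_bot_or_eq_top_of_normal φ.ker (MonoidHom.normal_ker φ)).resolve_right fun h => ?_
    obtain ⟨g, hg⟩ := MulAction.exists_smul_eq φ.range (0 : Fin 11) 1
    obtain ⟨g', hg'⟩ := g.2
    have h1 : φ g' = 1 := MonoidHom.mem_ker.1 (h ▸ Subgroup.mem_top g')
    have : (g : Equiv.Perm (Fin 11)) 0 = 1 := hg
    rw [← hg', h1] at this
    exact absurd this (by decide)
  let iG : G ≃* φ.range := MonoidHom.ofInjective ((MonoidHom.ker_eq_bot_iff φ).1 hker)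
  have hc : Nat.card φ.range = 7920 := by rw [← Nat.card_congr iG.toEquiv, hG]
  have hns : ¬ Group.IsSolvable φ.range := by
    intro h
    haveI : IsSolvable G := solvable_of_surjective (f := iG.symm.toMonoidHom) iG.symm.surjective
    have hcomm : ∀ a b : G, a * b = b * a := IsSimpleGroup.comm_iff_isSolvable.2 ‹_›
    letI : CommGroup G := { ‹Group G› with mul_comm := hcomm }
    have := IsSimpleGroup.prime_card (α := G)
    rw [hG] at this
    norm_num at this
  have hA : ¬ alternatingGroup (Fin 11) ≤ φ.range := by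
    intro h
    have h1 := Subgroup.card_le_of_le h
    rw [hc, nat_card_alternatingGroup, Nat.card_fin] at h1
    norm_num [Nat.factorial] at h1
  rcases S0679.result (Fintype.card_fin 11) φ.range hns hA with ⟨h4, hsharp⟩ | hi
  · haveI := h4
    obtain ⟨B, hB, hEq⟩ := exists_steiner_eq (Spor.Sharp.of_action φ.range 4 hsharp) (Fintype.card_fin 11)
    exact ⟨B, hB, ⟨iG.trans (MulEquiv.subgroupCongr hEq)⟩⟩
  · obtain ⟨i⟩ := hi
    have := Nat.card_congr i.toEquiv
    rw [hc, natCard_psl_eleven] at this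
    omega

/-- Simple groups of order 7920 are isomorphic. -/
theorem mulEquiv_of_card {G : Type u} {G' : Type v} [Group G] [Group G'] [IsSimpleGroup G] [IsSimpleGroup G']
    (hG : Nat.card G = 7920) (hG' : Nat.card G' = 7920) : Nonempty (G ≃* G') := by
  obtain ⟨B, hB, ⟨i⟩⟩ := exists_model hG
  obtain ⟨B', hB', ⟨i'⟩⟩ := exists_model hG'
  obtain ⟨e, he⟩ := Spor.S511.iso (Fintype.card_fin 11) hB (Fintype.card_fin 11) hB'
  exact ⟨i.trans ((Spor.SteinerAut.autEquiv e fun b => (he b).symm).trans i'.symm)⟩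

end Cfsg.Agent.Invol.M11Ord
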