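import Mathlib
import Cfsg.Agent.Lib.Invol.Order7920Unique
import Cfsg.Agent.Lib.Block.Order168Classes
import Cfsg.Agent.Lib.Fus.Order7920
import Cfsg.Agent.Lib.Fus.MathieuTwoGroups
import Cfsg.Agent.S0388

/-!
A group of order 7920 with the element-count values of M₁₁ is simple.
-/

set_option autoImplicit false
set_option linter.style.haveILetI false

namespace Cfsg.Agent.Invol.M11Ord

open Cfsg.Agent.Char

universe u v

variable {G : Type u} [Group G] [Finite G]

/-- The number of elements of order `n`. -/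
noncomputable def cnt (G : Type u) [Group G] (n : ℕ) : ℕ := Nat.card {g : G // orderOf g = n}

theorem card_sylow_self {p : ℕ} [hp : Fact p.Prime] {m : ℕ} (hG : Nat.card G = p * m) (hm : ¬ p ∣ m)
    (P : Sylow p G) : Nat.card (P : Subgroup G) = p := by
  rw [P.card_eq_multiplicity, hG, Nat.factorization_mul hp.out.ne_zero (fun e => hm (by rw [e]; exact dvd_zero p)),
    Finsupp.add_apply, hp.out.factorization_self, Nat.factorization_eq_zero_of_not_dvd hm, pow_one]

theorem cnt_prime {p : ℕ} [hp : Fact p.Prime] {m : ℕ} (hG : Nat.card G = p * m) (hm : ¬ p ∣ m) :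
    cnt G p = Nat.card (Sylow p G) * (p - 1) :=
  Block.card_orderOf_prime (card_sylow_self hG hm)

theorem card_sylow_of_hyp {p : ℕ} [hp : Fact p.Prime] {m : ℕ} (hG : Nat.card G = p * m) (hm : ¬ p ∣ m)
    {x : G} (h : SCP.Hyp p x) : Nat.card (Sylow p G) * (p * SCP.e x) = Nat.card G := by
  obtain ⟨P, hP⟩ := (IsPGroup.of_card (n := 1) (by rw [Nat.card_zpowers, h.ord, pow_one]) :
    IsPGroup p (Subgroup.zpowers x)).exists_le_sylow
  have hPx : Subgroup.zpowers x = (P : Subgroup G) :=
    Subgroup.eq_of_le_of_card_ge hP (by rw [card_sylow_self hG hm P, Nat.card_zpowers, h.ord])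
  have hs : Nat.card (Sylow p G) = (Subgroup.normalizer ((P : Subgroup G) : Set G)).index :=
    P.card_eq_index_normalizer
  rw [← hPx] at hs
  rw [← SCP.card_N h, hs]
  exact Subgroup.index_mul_card _

theorem dvd_cnt {p : ℕ} [hp : Fact p.Prime] {x : G} (h : SCP.Hyp p x) {n : ℕ} (h1 : n ≠ 1) (hn : n ≠ p) :
    p ∣ cnt G n := by
  classical
  cases nonempty_fintype G
  let s : Equiv.Perm {g : G // orderOf g = n} := (MulAut.conj x).toEquiv.subtypeEquiv fun g => by
    show orderOf g = n ↔ orderOf ((MulAut.conj x) g) = n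
    rw [MulEquiv.orderOf_eq]
  have hpow : ∀ (k : ℕ) (g : {g : G // orderOf g = n}), (((s ^ k) g : {g : G // orderOf g = n}) : G) =
      x ^ k * g * (x ^ k)⁻¹ := by
    intro k
    induction k with
    | zero => simp
    | succ k ih =>
      intro g
      rw [pow_succ', Equiv.Perm.mul_apply]
      show x * (((s ^ k) g : {g : G // orderOf g = n}) : G) * x⁻¹ = _
      rw [ih, pow_succ']
      group
  have hs : s ^ p ^ 1 = 1 := Equiv.ext fun g => Subtype.ext (by
    rw [pow_one, hpow, show x ^ p = 1 by rw [← h.ord]; exact pow_orderOf_eq_one x]; simp)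
  have hmod := Equiv.Perm.card_compl_support_modEq (p := p) (n := 1) hs
  have h0 : s.supportᶜ = ∅ := Finset.eq_empty_iff_forall_notMem.2 fun g hg => by
    rw [Finset.mem_compl, Equiv.Perm.mem_support, not_not] at hg
    have hc : x * (g : G) * x⁻¹ = g := congrArg Subtype.val hg
    have hmem : (g : G) ∈ Subgroup.zpowers x := by
      rw [← h.cent]
      exact Subgroup.mem_centralizer_singleton_iff.2 (mul_inv_eq_iff_eq_mul.1 hc).symm
    rcases eq_or_ne (g : G) 1 with e | e
    · exact h1 (by rw [← g.2, e, orderOf_one])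
    · exact hn (by rw [← g.2, SCP.orderOf_of_mem h hmem e])
  rw [h0, Finset.card_empty] at hmod
  rw [cnt, Nat.card_eq_fintype_card]
  exact Nat.modEq_zero_iff_dvd.1 hmod.symm

theorem cnt_values [IsSimpleGroup G] (hG : Nat.card G = 7920) (n : ℕ) :
    cnt G n = 1 ∨ cnt G n = 1440 ∨ cnt G n = 1584 ∨ 55 ∣ cnt G n := by
  haveI : Fact (Nat.Prime 11) := ⟨by norm_num⟩
  haveI : Fact (Nat.Prime 5) := ⟨by norm_num⟩
  obtain ⟨x, hx, hxe⟩ := exists_eleven hG
  obtain ⟨y, hy, hye⟩ := exists_five hG
  by_cases h1 : n = 1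
  · left
    subst h1
    haveI : Unique {g : G // orderOf g = 1} :=
      ⟨⟨⟨1, orderOf_one⟩⟩, fun g => Subtype.ext (orderOf_eq_one_iff.1 g.2)⟩
    exact Nat.card_unique
  by_cases h11 : n = 11
  · right; left
    subst h11
    have hs := card_sylow_of_hyp (p := 11) (m := 720) (by rw [hG]) (by norm_num) hx
    rw [hxe, hG] at hs
    rw [cnt_prime (p := 11) (m := 720) (by rw [hG]) (by norm_num)]
    omega
  by_cases h5 : n = 5
  · right; right; left
    subst h5
    have hs := card_sylow_of_hyp (p := 5) (m := 1584) (by rw [hG]) (by norm_num) hy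
    rw [hye, hG] at hs
    rw [cnt_prime (p := 5) (m := 1584) (by rw [hG]) (by norm_num)]
    omega
  right; right; right
  exact (by norm_num : Nat.Coprime 5 11).mul_dvd_of_dvd_of_dvd (dvd_cnt hy h1 h5) (dvd_cnt hx h1 h11)

/-- A group of order 7920 sharing the count values of a simple one is simple. -/
theorem isSimple_of_counts (hG : Nat.card G = 7920) {M : Type v} [Group M] [Finite M] [IsSimpleGroup M]
    (hM : Nat.card M = 7920)
    (hnse : ∀ c : ℕ, 0 < c → (∃ n : ℕ, c = cnt G n) → ∃ n : ℕ, c = cnt M n) : IsSimpleGroup G := by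
  haveI : Fact (Nat.Prime 11) := ⟨by norm_num⟩
  haveI : Fact (Nat.Prime 5) := ⟨by norm_num⟩
  have hval : ∀ n, 0 < cnt G n →
      cnt G n = 1 ∨ cnt G n = 1440 ∨ cnt G n = 1584 ∨ 55 ∣ cnt G n := by
    intro n hn
    obtain ⟨m, hm⟩ := hnse _ hn ⟨n, rfl⟩
    rw [hm]
    exact cnt_values hM m
  have n11 : Nat.card (Sylow 11 G) = 144 := by
    have hc := cnt_prime (p := 11) (m := 720) (G := G) (by rw [hG]) (by norm_num)
    have h1 := card_sylow_modEq_one 11 G
    have hpos : 0 < Nat.card (Sylow 11 G) := Nat.card_pos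
    have h := hval 11 (by omega)
    unfold Nat.ModEq at h1
    omega
  have n5 : Nat.card (Sylow 5 G) = 396 := by
    have hc := cnt_prime (p := 5) (m := 1584) (G := G) (by rw [hG]) (by norm_num)
    have h1 := card_sylow_modEq_one 5 G
    have hpos : 0 < Nat.card (Sylow 5 G) := Nat.card_pos
    have h := hval 5 (by omega)
    unfold Nat.ModEq at h1
    omega
  -- the order of a commuting element divides that of the normalizer
  have key : ∀ {p m k : ℕ} [Fact p.Prime], 7920 = p * m → ¬ p ∣ m → Nat.card (Sylow p G) * k = 7920 →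
      ∀ g x : G, orderOf x = p → g * x = x * g → orderOf g ∣ k := by
    intro p m k _ hpm hm hk g x hx hgx
    obtain ⟨P, hP⟩ := (IsPGroup.of_card (n := 1) (by rw [Nat.card_zpowers, hx, pow_one]) :
      IsPGroup p (Subgroup.zpowers x)).exists_le_sylow
    have hPx : Subgroup.zpowers x = (P : Subgroup G) :=
      Subgroup.eq_of_le_of_card_ge hP (by rw [card_sylow_self (hG.trans hpm) hm P, Nat.card_zpowers, hx])
    have hgN : g ∈ Subgroup.normalizer ((P : Subgroup G) : Set G) := by
      rw [← hPx, Subgroup.zpowers_eq_closure]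
      refine Subgroup.centralizer_le_normalizer _ ?_
      rw [Subgroup.centralizer_closure]
      exact Subgroup.mem_centralizer_singleton_iff.2 hgx
    have h := Subgroup.orderOf_dvd_natCard _ hgN
    have hidx := Subgroup.index_mul_card (Subgroup.normalizer ((P : Subgroup G) : Set G))
    have hs : Nat.card (Sylow p G) = (Subgroup.normalizer ((P : Subgroup G) : Set G)).index :=
      P.card_eq_index_normalizer
    rw [← hs, hG, ← hk] at hidx
    rwa [Nat.eq_of_mul_eq_mul_left Nat.card_pos hidx] at h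
  refine Fus.Order7920.main hG {11} ⟨11, rfl, by norm_num, by rw [hG]; norm_num⟩
    ⟨5, by decide, by norm_num, by rw [hG]; norm_num⟩ ?_
  rintro a rfl q hq - hqp - hqd ⟨g, hg⟩
  have hq11 : q ≠ 11 := hq
  have hgd := orderOf_dvd_natCard g
  have h1 : orderOf g ∣ 55 := key (p := 11) (m := 720) (k := 55) (by norm_num) (by norm_num)
    (by rw [n11]) g (g ^ q) (by rw [orderOf_pow' g hqp.ne_zero, hg, Nat.gcd_mul_left_left,
      Nat.mul_div_cancel _ hqp.pos]) ((Commute.refl g).pow_right q).eq
  rw [hg] at h1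
  have hq5 : q = 5 := (Nat.prime_dvd_prime_iff_eq hqp (by norm_num)).1
    (Nat.dvd_of_mul_dvd_mul_left (by norm_num : 0 < 11) (show 11 * q ∣ 11 * 5 by norm_num; exact h1))
  subst hq5
  have h2 : orderOf g ∣ 20 := key (p := 5) (m := 1584) (k := 20) (by norm_num) (by norm_num)
    (by rw [n5]) g (g ^ 11) (by rw [orderOf_pow' g (by norm_num), hg]; norm_num) ((Commute.refl g).pow_right 11).eq
  rw [hg] at h2
  norm_num at h2

open scoped Pointwise in
/-- The explicit M₁₁ is simple. -/
theorem m11_simple' : IsSimpleGroup ↥Cfsg.Spor.M11 := by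
  haveI := S0388.result _ Fus.Mathieu.square_mem (some 0)
    (show (some 0 : GolayPt) ∈ Cfsg.Spor.squareDodecad by rw [Fus.Mathieu.pts_square]; decide +kernel)
  exact MulEquiv.isSimpleGroup
    (({ toFun := fun g => ⟨g.1.1, ⟨⟨g.1.2, g.2.1⟩, g.2.2⟩⟩
        invFun := fun g => ⟨⟨g.1, g.2.1.1⟩, ⟨g.2.1.2, g.2.2⟩⟩
        left_inv := fun g => rfl
        right_inv := fun g => rfl
        map_mul' := fun _ _ => rfl } :
      ↥(MulAction.stabilizer Cfsg.M24 Cfsg.Spor.squareDodecad ⊓
        MulAction.stabilizer Cfsg.M24 (some 0 : GolayPt)) ≃* ↥Cfsg.Spor.M11).symm)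

end Cfsg.Agent.Invol.M11Ord
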