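import Mathlib
import Cfsg.Prelude.Def_Local
import Cfsg.Prelude.Def_LocalEven
import Cfsg.Agent.Lib.Invol.AbelianSylowFF
import Cfsg.Agent.Lib.Invol.ZJElem
import Cfsg.Agent.Lib.Invol.StronglyClosedControl
import Cfsg.Agent.Lib.Invol.ThompsonReduction
import Cfsg.Agent.Lib.Transfer.Transitivity
import Cfsg.Agent.Lib.Fus.OddSylowCyclicDerived

/-!
Thompson subgroups in `S₄`-free groups with Sylow 2-subgroups of class two.
-/

set_option autoImplicit false
set_option linter.style.haveILetI false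

namespace Cfsg.Agent.Invol

open scoped commutatorElement Pointwise

universe u

variable {X : Type u} [Group X] [Finite X]

/-- An odd-order element fixing the involutions of an abelian 2-group fixes it. -/
theorem centralizes_of_fix_omega {Z : Subgroup X} (hZ : IsPGroup 2 Z)
    (hcomm : ∀ a ∈ Z, ∀ b ∈ Z, a * b = b * a) {g : X} (hg : ∀ a ∈ Z, g * a * g⁻¹ ∈ Z)
    (hodd : Odd (orderOf g)) (hfix : ∀ a ∈ Z, a ^ 2 = 1 → g * a * g⁻¹ = a) :
    ∀ a ∈ Z, g * a * g⁻¹ = a := by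
  suffices key : ∀ k : ℕ, ∀ a ∈ Z, a ^ 2 ^ k = 1 → g * a * g⁻¹ = a by
    intro a ha
    obtain ⟨k, hk⟩ := hZ ⟨a, ha⟩
    exact key k a ha (congrArg Subtype.val hk)
  intro k
  induction k with
  | zero => intro a _ h; rw [pow_zero, pow_one] at h; simp [h]
  | succ k ih =>
    intro a ha h
    have h2 : g * a ^ 2 * g⁻¹ = a ^ 2 := ih _ (Z.pow_mem ha 2) (by rw [← pow_mul, ← pow_succ', h])
    set d := g * a * g⁻¹ * a⁻¹ with hd
    have hdZ : d ∈ Z := Z.mul_mem (hg a ha) (Z.inv_mem ha)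
    have hd2 : d ^ 2 = 1 := by
      rw [hd, Commute.mul_pow (hcomm _ (hg a ha) _ (Z.inv_mem ha)), conj_pow, h2, inv_pow,
        mul_inv_cancel]
    have hgd : g * d * g⁻¹ = d := hfix d hdZ hd2
    have hn : ∀ n : ℕ, g ^ n * a * (g ^ n)⁻¹ = d ^ n * a := by
      intro n
      induction n with
      | zero => simp
      | succ n ihn =>
        calc g ^ (n + 1) * a * (g ^ (n + 1))⁻¹ = g * (g ^ n * a * (g ^ n)⁻¹) * g⁻¹ := by
              rw [pow_succ']; group
          _ = g * (d ^ n * a) * g⁻¹ := by rw [ihn]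
          _ = (g * d * g⁻¹) ^ n * (g * a * g⁻¹) := by rw [conj_pow]; group
          _ = d ^ n * (d * a) := by rw [hgd, show d * a = g * a * g⁻¹ by rw [hd, inv_mul_cancel_right]]
          _ = d ^ (n + 1) * a := by rw [pow_succ, mul_assoc (d ^ n) d a]
    obtain ⟨j, hj⟩ := hodd
    have h1 := hn (orderOf g)
    rw [pow_orderOf_eq_one, one_mul, inv_one, mul_one, hj, pow_succ, pow_mul, hd2, one_pow, one_mul] at h1
    rw [hd] at h1
    rw [inv_mul_cancel_right] at h1
    exact h1.symm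

/-- `J_e(S)` is normal in an `S₄`-free group of characteristic 2 with `S` of class at most two. -/
theorem thompsonEl_normal_of_classTwo
    (hcQ : Subgroup.centralizer (Cfsg.pCore 2 X : Set X) ≤ Cfsg.pCore 2 X)
    (hS4 : ¬ IsSectionOf (Equiv.Perm (Fin 4)) X) (S : Sylow 2 X)
    (hcl : ⁅⁅(S : Subgroup X), (S : Subgroup X)⁆, (S : Subgroup X)⁆ = ⊥) :
    (Cfsg.thompsonSubgroupOf 2 (S : Subgroup X)).Normal := by
  haveI : Fact (Nat.Prime 2) := ⟨Nat.prime_two⟩
  set Q := Cfsg.pCore 2 X with hQ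
  haveI hQn : Q.Normal := Grp.pCore_isNormal
  have hQp : IsPGroup 2 Q := Grp.pCore_isPGroup
  have hQS : Q ≤ (S : Subgroup X) := Grp.pCore_le_sylow S
  -- every maximal elementary abelian subgroup lies in `Q`
  suffices hAQ : ∀ A, IsMaxEl 2 (S : Subgroup X) A → A ≤ Q by
    refine ⟨fun x hx g => ?_⟩
    refine (thompsonEl_le_of (K := (Cfsg.thompsonSubgroupOf 2 (S : Subgroup X)).comap
      (MulAut.conj g).toMonoidHom) (fun A hA => ?_)) hx
    refine Subgroup.map_le_iff_le_comap.1 (IsMaxEl.le_thompsonEl ?_)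
    refine ⟨?_, ⟨?_, ?_⟩, fun B hB hB' => ?_⟩
    · rintro _ ⟨a, ha, rfl⟩
      exact hQS (hQn.conj_mem a (hAQ A hA ha) g)
    · rintro _ ⟨a, ha, rfl⟩ _ ⟨b, hb, rfl⟩
      rw [← map_mul, hA.2.1.1 a ha b hb, map_mul]
    · rintro _ ⟨a, ha, rfl⟩
      rw [← map_pow, hA.2.1.2 a ha, map_one]
    · rw [Subgroup.card_map_of_injective (f := (MulAut.conj g).toMonoidHom) (MulAut.conj g).injective]
      exact hA.2.2 B hB hB'
  intro A hA
  by_contra hAQ
  set ZQ := Q ⊓ Subgroup.centralizer (Q : Set X) with hZQ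
  haveI hZQn : ZQ.Normal := by
    haveI : (Subgroup.centralizer (Q : Set X)).Normal := Subgroup.normal_centralizer
    exact Subgroup.normal_inf_normal _ _
  have hZQc : ∀ a ∈ ZQ, ∀ b ∈ ZQ, a * b = b * a := fun a ha b hb =>
    (Subgroup.mem_centralizer_iff.1 ha.2 b hb.1).symm
  -- `V = Ω₁(Z(Q))`
  let V : Subgroup X :=
    { carrier := {x | x ∈ ZQ ∧ x ^ 2 = 1}
      mul_mem' := fun {a b} ha hb => ⟨ZQ.mul_mem ha.1 hb.1, by
        rw [Commute.mul_pow (hZQc a ha.1 b hb.1), ha.2, hb.2, one_mul]⟩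
      one_mem' := ⟨ZQ.one_mem, one_pow _⟩
      inv_mem' := fun {a} ha => ⟨ZQ.inv_mem ha.1, by rw [inv_pow, ha.2, inv_one]⟩ }
  haveI hVn : V.Normal := ⟨fun a ha g => ⟨hZQn.conj_mem a ha.1 g, by rw [conj_pow, ha.2]; group⟩⟩
  have hVQ : V ≤ Q := fun v hv => hv.1.1
  -- `N` acts trivially on `Q/Z(Q)`
  let N : Subgroup X :=
    { carrier := {g | ∀ q ∈ Q, ⁅g, q⁆ ∈ ZQ}
      mul_mem' := fun {a b} ha hb q hq => by
        have e : ⁅a * b, q⁆ = a * ⁅b, q⁆ * a⁻¹ * ⁅a, q⁆ := by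
          simp only [commutatorElement_def]; group
        rw [e]
        exact ZQ.mul_mem (hZQn.conj_mem _ (hb q hq) a) (ha q hq)
      one_mem' := fun q _ => by simp [commutatorElement_def, ZQ.one_mem]
      inv_mem' := fun {a} ha q hq => by
        have e : ⁅a⁻¹, q⁆ = a⁻¹ * ⁅a, q⁆⁻¹ * a := by simp only [commutatorElement_def]; group
        rw [e]
        have := hZQn.conj_mem _ (ZQ.inv_mem (ha q hq)) a⁻¹
        rwa [inv_inv] at this }
  haveI hNn : N.Normal := ⟨fun a ha g q hq => by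
    have e : ⁅g * a * g⁻¹, q⁆ = g * ⁅a, g⁻¹ * q * g⁆ * g⁻¹ := by
      simp only [commutatorElement_def]; group
    rw [e]
    refine hZQn.conj_mem _ (ha _ ?_) g
    have := hQn.conj_mem q hq g⁻¹
    rwa [inv_inv] at this⟩
  have hSN : (S : Subgroup X) ≤ N := by
    intro s hs q hq
    have h1 : ⁅s, q⁆ ∈ Q := by
      rw [commutatorElement_def]
      exact Q.mul_mem (hQn.conj_mem q hq s) (Q.inv_mem hq)
    refine ⟨h1, Subgroup.mem_centralizer_iff.2 fun y hy => ?_⟩
    have h2 : ⁅⁅s, q⁆, y⁆ = 1 := Subgroup.mem_bot.1 (hcl.le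
      (Subgroup.commutator_mem_commutator (Subgroup.commutator_mem_commutator hs (hQS hq)) (hQS hy)))
    exact (commutatorElement_eq_one_iff_mul_comm.1 h2).symm
  have hQN : Q ≤ N := hQS.trans hSN
  haveI : IsMulCommutative V := ⟨⟨fun a b => Subtype.ext (hZQc _ a.2.1 _ b.2.1)⟩⟩
  letI : CommGroup V := IsMulCommutative.instCommGroup
  let α : N →* MulAut V := (MulAut.conjNormal (H := V)).comp N.subtype
  have hα : ∀ (g : N) (v : V), ((α g v : V) : X) = g * v * (g : X)⁻¹ := fun g v =>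
    MulAut.conjNormal_apply _ v
  have hkerodd : ∀ g : N, α g = 1 → Odd (orderOf g) → g = 1 := by
    intro g hg hodd
    have hgo : Odd (orderOf (g : X)) := by rwa [Subgroup.orderOf_coe]
    have hcZ : ∀ a ∈ ZQ, (g : X) * a * (g : X)⁻¹ = a :=
      centralizes_of_fix_omega (hQp.to_le inf_le_left) hZQc (fun a ha => hZQn.conj_mem a ha _) hgo
        fun a ha ha2 => by
          have := congrArg Subtype.val (DFunLike.congr_fun hg (⟨a, ha, ha2⟩ : V))
          rwa [hα] at this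
    have hgQ : (g : X) ∈ Subgroup.centralizer (Q : Set X) := by
      rw [Subgroup.mem_centralizer_iff]
      intro q hq
      set d := ⁅(g : X), q⁆ with hd
      have hdZ : d ∈ ZQ := g.2 q hq
      have hgd : (g : X) * d * (g : X)⁻¹ = d := hcZ d hdZ
      have hn : ∀ n : ℕ, (g : X) ^ n * q * ((g : X) ^ n)⁻¹ = d ^ n * q := by
        intro n
        induction n with
        | zero => simp
        | succ n ihn =>
          calc (g : X) ^ (n + 1) * q * ((g : X) ^ (n + 1))⁻¹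
              = g * ((g : X) ^ n * q * ((g : X) ^ n)⁻¹) * (g : X)⁻¹ := by rw [pow_succ']; group
            _ = g * (d ^ n * q) * (g : X)⁻¹ := by rw [ihn]
            _ = ((g : X) * d * (g : X)⁻¹) ^ n * (g * q * (g : X)⁻¹) := by rw [conj_pow]; group
            _ = d ^ n * (d * q) := by
              rw [hgd, show d * q = (g : X) * q * (g : X)⁻¹ by
                rw [hd, commutatorElement_def, inv_mul_cancel_right]]
            _ = d ^ (n + 1) * q := by rw [pow_succ, mul_assoc (d ^ n) d q]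
      have h1 := hn (orderOf (g : X))
      rw [pow_orderOf_eq_one, one_mul, inv_one, mul_one] at h1
      have h3 : d ^ orderOf (g : X) = 1 := mul_eq_right.1 h1.symm
      obtain ⟨k, hk⟩ := hQp ⟨d, hdZ.1⟩
      have h4 : d ^ 2 ^ k = 1 := congrArg Subtype.val hk
      have h5 : orderOf d = 1 := Nat.eq_one_of_dvd_coprimes ((Nat.coprime_two_right.2 hgo).pow_right k)
        (orderOf_dvd_of_pow_eq_one h3) (orderOf_dvd_of_pow_eq_one h4)
      rw [orderOf_eq_one_iff, hd, commutatorElement_eq_one_iff_mul_comm] at h5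
      exact h5.symm
    obtain ⟨k, hk⟩ := hQp ⟨g, hcQ hgQ⟩
    rw [← orderOf_eq_one_iff, ← Subgroup.orderOf_coe]
    exact Nat.eq_one_of_dvd_coprimes ((Nat.coprime_two_right.2 hgo).pow_right k) dvd_rfl
      (orderOf_dvd_of_pow_eq_one (congrArg Subtype.val hk))
  -- pass to `H = N/Q`
  set Q₁ := Q.subgroupOf N with hQ₁
  haveI : Q₁.Normal := hQn.subgroupOf N
  set π := QuotientGroup.mk' Q₁ with hπ
  have hπs : Function.Surjective π := QuotientGroup.mk'_surjective _
  have hQker : Q₁ ≤ α.ker := fun q hq => MonoidHom.mem_ker.2 (MulEquiv.ext fun v => Subtype.ext (by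
    rw [hα, MulAut.one_apply, Subgroup.mem_centralizer_iff.1 v.2.1.2 q hq, mul_inv_cancel_right]))
  let β : N ⧸ Q₁ →* MulAut V := QuotientGroup.lift Q₁ α hQker
  have hβ : ∀ g : N, β (π g) = α g := fun g => rfl
  have hkerβ : IsPGroup 2 β.ker := by
    refine isPGroup_ker_of_odd fun x hx hodd => ?_
    obtain ⟨g, rfl⟩ := hπs x
    set g' := g ^ 2 ^ (orderOf g).factorization 2 with hg'
    have hg'o : Odd (orderOf g') :=
      Nat.coprime_two_right.1 (Transfer.orderOf_pow_ordProj_coprime Nat.prime_two g)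
    have hg'1 : g' = 1 := hkerodd g' (by
      rw [hg', map_pow, ← hβ g, MonoidHom.mem_ker.1 hx, one_pow]) hg'o
    rw [← orderOf_eq_one_iff]
    refine Nat.eq_one_of_dvd_coprimes ((Nat.coprime_two_right.2 hodd).pow_right
      ((orderOf g).factorization 2)) dvd_rfl ((orderOf_map_dvd π g).trans ?_)
    exact orderOf_dvd_of_pow_eq_one hg'1
  have hSN' : IsPGroup 2 ((S : Subgroup X).subgroupOf N) := S.isPGroup'.comap_subtype
  -- abelian Sylow subgroups
  let S₁ : Sylow 2 N := S.subtype hSN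
  let T₁ : Sylow 2 (N ⧸ Q₁) := S₁.mapSurjective hπs
  have hT₁ : ∀ a ∈ (T₁ : Subgroup (N ⧸ Q₁)), ∀ b ∈ (T₁ : Subgroup (N ⧸ Q₁)), a * b = b * a := by
    rintro _ ⟨a, ha, rfl⟩ _ ⟨b, hb, rfl⟩
    rw [← commutatorElement_eq_one_iff_mul_comm, ← map_commutatorElement]
    refine (QuotientGroup.eq_one_iff _).2 ?_
    show ⁅(a : X), (b : X)⁆ ∈ Q
    refine hcQ (Subgroup.mem_centralizer_iff.2 fun y hy => ?_)
    have h2 : ⁅⁅(a : X), (b : X)⁆, y⁆ = 1 := Subgroup.mem_bot.1 (hcl.le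
      (Subgroup.commutator_mem_commutator (Subgroup.commutator_mem_commutator ha hb) (hQS hy)))
    exact (commutatorElement_eq_one_iff_mul_comm.1 h2).symm
  have hab : ∀ T : Sylow 2 (N ⧸ Q₁), IsMulCommutative T := by
    intro T
    refine ⟨⟨fun a b => Subtype.ext ?_⟩⟩
    obtain ⟨k, hk⟩ := MulAction.exists_smul_eq (N ⧸ Q₁) T T₁
    have h1 : ∀ c : T, MulAut.conj k (c : N ⧸ Q₁) ∈ (T₁ : Subgroup (N ⧸ Q₁)) := fun c => by
      rw [← hk, Sylow.coe_subgroup_smul]
      exact Subgroup.smul_mem_pointwise_smul _ _ _ c.2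
    apply (MulAut.conj k).injective
    show MulAut.conj k ((a : N ⧸ Q₁) * b) = MulAut.conj k ((b : N ⧸ Q₁) * a)
    rw [map_mul, map_mul]
    exact hT₁ _ (h1 a) _ (h1 b)
  -- `O₂(N/Q) = 1`
  have hO : Cfsg.pCore 2 (N ⧸ Q₁) = ⊥ := by
    haveI : (Cfsg.pCore 2 (N ⧸ Q₁)).Normal := Grp.pCore_isNormal
    set P := (Cfsg.pCore 2 (N ⧸ Q₁)).comap π with hP
    have hPp : IsPGroup 2 P := IsPGroup.comap_of_ker_isPGroup Grp.pCore_isPGroup π (by
      rw [QuotientGroup.ker_mk']; exact hQp.comap_subtype)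
    haveI : P.Normal := inferInstance
    have hPQ : P ≤ Q₁ := fun x hx => Grp.pCore_map_le (p := 2) N
      ⟨x, Grp.le_pCore (N := P) inferInstance hPp hx, rfl⟩
    rw [eq_bot_iff]
    intro x hx
    obtain ⟨y, rfl⟩ := hπs x
    exact (QuotientGroup.eq_one_iff y).2 (hPQ hx)
  -- the offender
  set A₁ := A.subgroupOf N with hA₁
  set B := A₁.map π with hB
  have hBp : IsPGroup 2 B :=
    ((S.isPGroup'.to_le hA.1).comap_subtype : IsPGroup 2 A₁).map π
  have hB1 : B.map β ≠ ⊥ := by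
    intro h
    have hle : B ≤ Cfsg.pCore 2 (N ⧸ Q₁) :=
      ((Subgroup.map_eq_bot_iff B).1 h).trans (Grp.le_pCore β.normal_ker hkerβ)
    rw [hO, le_bot_iff, hB, Subgroup.map_eq_bot_iff, QuotientGroup.ker_mk'] at hle
    exact hAQ fun a ha => hle (show (⟨a, hSN (hA.1 ha)⟩ : N) ∈ A₁ from ha)
  have hoff : Nat.card V ≤ offWeight β B := by
    -- `|A ∩ Q| |V| ≤ |A| |A ∩ V|`
    have hcE : ∀ x ∈ A ⊓ Q, ∀ v ∈ V, x * v = v * x := fun x hx v hv =>
      Subgroup.mem_centralizer_iff.1 hv.1.2 x hx.2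
    have hnorm : A ⊓ Q ≤ Subgroup.normalizer (V : Set X) := by
      rw [Subgroup.normalizer_eq_top]; exact le_top
    have hmem : ∀ x ∈ (A ⊓ Q) ⊔ V, ∃ a ∈ A ⊓ Q, ∃ v ∈ V, x = a * v := by
      intro x hx
      rw [← SetLike.mem_coe, Subgroup.coe_mul_of_left_le_normalizer_right _ _ hnorm] at hx
      obtain ⟨a, ha, v, hv, rfl⟩ := hx
      exact ⟨a, ha, v, hv, rfl⟩
    have h1 : Nat.card ↥((A ⊓ Q) ⊔ V) ≤ Nat.card A := by
      refine hA.2.2 _ (sup_le (inf_le_left.trans hA.1) (hVQ.trans hQS)) ⟨?_, ?_⟩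
      · intro x hx y hy
        obtain ⟨a, ha, v, hv, rfl⟩ := hmem x hx
        obtain ⟨b, hb, w, hw, rfl⟩ := hmem y hy
        have c1 : Commute a b := hA.2.1.1 a ha.1 b hb.1
        have c2 : Commute v w := hZQc v hv.1 w hw.1
        have c3 : Commute a w := hcE a ha w hw
        have c4 : Commute v b := (show Commute b v from hcE b hb v hv).symm
        exact ((c1.mul_right c3).mul_left (c4.mul_right c2)).eq
      · intro x hx
        obtain ⟨a, ha, v, hv, rfl⟩ := hmem x hx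
        rw [Commute.mul_pow (hcE a ha v hv), hA.2.1.2 a ha.1, hv.2, one_mul]
    have h2 := Grp.card_sup_mul_card_inf hnorm
    rw [inf_assoc, inf_eq_right.2 hVQ] at h2
    have hcard : Nat.card (B.map β) * Nat.card ↥(A ⊓ Q) = Nat.card A := by
      have e1 : Nat.card (B.map β) = Nat.card B := by
        rw [← Subgroup.relIndex_ker, ← Subgroup.inf_relIndex_right, show β.ker ⊓ B = ⊥ from ?_,
          Subgroup.relIndex_bot_left]
        rw [eq_bot_iff, ← hO]
        exact inf_le_left.trans (Grp.le_pCore β.normal_ker hkerβ)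
      have e2 : Nat.card B = Q.relIndex A := by
        rw [hB, ← Subgroup.relIndex_ker, QuotientGroup.ker_mk', hA₁, hQ₁,
          Subgroup.relIndex_subgroupOf (hA.1.trans hSN)]
      rw [e1, e2, mul_comm]
      exact Grp.relIndex_mul_card_inf A Q
    have hfixc : Nat.card ↥(A ⊓ V) ≤ Nat.card (fixOf β B) := by
      rw [← Subgroup.subgroupOf_map_subtype, Subgroup.card_map_of_injective V.subtype_injective]
      refine Subgroup.card_le_of_le fun v hv => ?_
      rintro _ ⟨a, ha, rfl⟩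
      rw [hβ]
      exact Subtype.ext (by
        rw [hα, show (a : X) * (v : X) = (v : X) * (a : X) from hA.2.1.1 _ ha _ hv, mul_inv_cancel_right])
    refine Nat.le_of_mul_le_mul_left ?_ (Nat.card_pos (α := ↥(A ⊓ Q)))
    rw [← h2, offWeight, ← mul_assoc, mul_comm (Nat.card ↥(A ⊓ Q)) (Nat.card (B.map β)), hcard]
    exact Nat.mul_le_mul h1 hfixc
  obtain ⟨B₁, hB₁, hb₁⟩ := exists_isBest hB1 hoff
  have h3 := hasInvertedThree_of_best _ (N ⧸ Q₁) V β B₁ rfl (fun v => Subtype.ext (by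
      rw [SubmonoidClass.coe_pow]; exact v.2.2)) hab hkerβ (hBp.to_le hB₁) hb₁ (by
      rw [hO, le_bot_iff]
      rintro rfl
      exact hb₁.1 (Subgroup.map_bot β))
  obtain ⟨t, r, ⟨k, hk⟩, hr3, hr1, hinv⟩ := h3
  obtain ⟨a, rfl⟩ := hπs t
  obtain ⟨b, rfl⟩ := hπs r
  obtain ⟨t', r', ⟨k', hk'⟩, hr3', hr1', hinv'⟩ := HasInvertedThree.lift π (by
    rw [QuotientGroup.ker_mk']; exact hQp.comap_subtype) (a := a) (b := b) hr3 hr1 hinv
  have hne : ∃ v ∈ V, (r' : X) * v ≠ v * (r' : X) := by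
    by_contra hall
    push Not at hall
    have hα1 : α r' = 1 := MulEquiv.ext fun v => Subtype.ext (by
      rw [hα, MulAut.one_apply, hall _ v.2, mul_inv_cancel_right])
    refine hr1' (hkerodd r' hα1 ?_)
    haveI : Fact (Nat.Prime 3) := ⟨by norm_num⟩
    rw [orderOf_eq_prime hr3' hr1']
    decide
  exact hS4 (isSectionOf_perm_four_of_inverted V (fun a ha b hb => hZQc a ha.1 b hb.1)
    (fun a ha => ha.2) ⟨k', congrArg Subtype.val hk'⟩ (congrArg Subtype.val hr3')
    (congrArg Subtype.val hinv') hne)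

/-- `G = N_G(J_e(S)) O(G)` in 2-constrained `S₄`-free groups with `S` of class at most two. -/
theorem thompsonEl_factor_of_classTwo {G : Type u} [Group G] [Finite G]
    (hcQ : Subgroup.centralizer (Cfsg.pCore 2 (G ⧸ Cfsg.pPrimeCore 2 G) : Set (G ⧸ Cfsg.pPrimeCore 2 G)) ≤
      Cfsg.pCore 2 (G ⧸ Cfsg.pPrimeCore 2 G))
    (hS4 : ¬ Cfsg.Involves (Equiv.Perm (Fin 4)) G) (S : Sylow 2 G)
    (hcl : Subgroup.lowerCentralSeries (S : Subgroup G) 2 = ⊥) :
    Subgroup.normalizer ((Cfsg.thompsonSubgroupOf 2 (S : Subgroup G)) : Set G) ⊔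
      Cfsg.pPrimeCore 2 G = ⊤ := by
  haveI : Fact (Nat.Prime 2) := ⟨Nat.prime_two⟩
  haveI : (Cfsg.pPrimeCore 2 G).Normal := Grp.pPrimeCore_isNormal
  set O := Cfsg.pPrimeCore 2 G with hO
  set f := QuotientGroup.mk' O with hf
  have hfs : Function.Surjective f := QuotientGroup.mk'_surjective _
  have hOc : (Nat.card f.ker).Coprime 2 := by
    rw [QuotientGroup.ker_mk']; exact Grp.pPrimeCore_coprime
  have hinj : ∀ x ∈ (S : Subgroup G), f x = 1 → x = 1 := by
    intro x hx h1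
    have h2 : x ∈ O := (QuotientGroup.eq_one_iff x).1 h1
    obtain ⟨k, hk⟩ := S.isPGroup' ⟨x, hx⟩
    rw [← orderOf_eq_one_iff]
    exact Nat.eq_one_of_dvd_coprimes ((Grp.pPrimeCore_coprime (p := 2) (G := G)).pow_right k)
      (Subgroup.orderOf_dvd_natCard _ h2) (orderOf_dvd_of_pow_eq_one (congrArg Subtype.val hk))
  rw [Subgroup.lowerCentralSeries_succ, Subgroup.lowerCentralSeries_succ,
    Subgroup.lowerCentralSeries_zero] at hcl
  let S' : Sylow 2 (G ⧸ O) := S.mapSurjective hfs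
  have hJ := thompsonEl_normal_of_classTwo hcQ
    (fun h => hS4 (h.trans (IsSectionOf.of_surjective f hfs)).involves) S' (by
      show ⁅⁅(S : Subgroup G).map f, (S : Subgroup G).map f⁆, (S : Subgroup G).map f⁆ = ⊥
      rw [← Subgroup.map_commutator, ← Subgroup.map_commutator, hcl, Subgroup.map_bot])
  rw [show ((S' : Sylow 2 (G ⧸ O)) : Subgroup (G ⧸ O)) = (S : Subgroup G).map f from rfl,
    ← thompsonEl_map f hinj] at hJ
  rw [eq_top_iff]
  intro g _
  have h1 : f g ∈ Subgroup.normalizer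
      (((Cfsg.thompsonSubgroupOf 2 (S : Subgroup G)).map f : Subgroup (G ⧸ O)) : Set (G ⧸ O)) := by
    rw [Subgroup.normalizer_eq_top_iff.2 hJ]; exact Subgroup.mem_top _
  obtain ⟨n, hn, hne⟩ := normalizer_map_le_of_coprime f hfs hOc
    (S.isPGroup'.to_le (thompsonEl_le _)) h1
  have h2 : n⁻¹ * g ∈ O := by
    rw [← QuotientGroup.eq_one_iff]
    show f (n⁻¹ * g) = 1
    rw [map_mul, map_inv, hne, inv_mul_cancel]
  rw [show g = n * (n⁻¹ * g) by group]
  exact Subgroup.mul_mem_sup hn h2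

end Cfsg.Agent.Invol
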