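import Mathlib
import Cfsg.Prelude
import Cfsg.Agent.Lib.Grp.Coprime
import Cfsg.Agent.Lib.Grp.Cores
import Cfsg.Agent.Lib.Invol.ZJElem
import Cfsg.Agent.Lib.Transfer.Fusion
import Cfsg.Agent.S2983

/-!
Basic properties of Baumann blocks: irreducibility of the module section and its consequences.
-/

set_option autoImplicit false
set_option linter.style.haveILetI false

open scoped commutatorElement Matrix

namespace Cfsg.Agent.Invol.BlockBasic

open Subgroup

universe u

section Transitive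

variable {F : Type*} [Field F]

local notation "SL2" => Matrix.SpecialLinearGroup (Fin 2) F

/-- Two vectors in one orbit of the derived group. -/
def Rel (v w : Fin 2 → F) : Prop := ∃ r ∈ commutator SL2, (r : Matrix (Fin 2) (Fin 2) F) *ᵥ v = w

theorem Rel.symm {v w : Fin 2 → F} (h : Rel v w) : Rel w v := by
  obtain ⟨r, hr, e⟩ := h
  refine ⟨r⁻¹, inv_mem hr, ?_⟩
  rw [← e, Matrix.mulVec_mulVec, ← Matrix.SpecialLinearGroup.coe_mul, inv_mul_cancel,
    Matrix.SpecialLinearGroup.coe_one, Matrix.one_mulVec]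

theorem Rel.trans {v w x : Fin 2 → F} (h : Rel v w) (h' : Rel w x) : Rel v x := by
  obtain ⟨r, hr, e⟩ := h
  obtain ⟨s, hs, e'⟩ := h'
  exact ⟨s * r, mul_mem hs hr, by rw [Matrix.SpecialLinearGroup.coe_mul, ← Matrix.mulVec_mulVec, e, e']⟩

theorem Rel.map {v w : Fin 2 → F} (g : SL2) (h : Rel v w) :
    Rel ((g : Matrix (Fin 2) (Fin 2) F) *ᵥ v) ((g : Matrix (Fin 2) (Fin 2) F) *ᵥ w) := by
  obtain ⟨r, hr, e⟩ := h
  haveI : (commutator SL2).Normal := inferInstance
  refine ⟨g * r * g⁻¹, Normal.conj_mem inferInstance r hr g, ?_⟩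
  rw [Matrix.mulVec_mulVec, ← Matrix.SpecialLinearGroup.coe_mul, inv_mul_cancel_right,
    Matrix.SpecialLinearGroup.coe_mul, ← Matrix.mulVec_mulVec, e]

theorem rel_one (a : F) : Rel ![1, 0] ![1, a] := by
  let w : SL2 := ⟨!![0, -1; 1, 0], by simp [Matrix.det_fin_two]⟩
  let u : SL2 := ⟨!![1, -a; 0, 1], by simp [Matrix.det_fin_two]⟩
  refine ⟨⁅w, u⁆, commutator_mem_commutator (mem_top _) (mem_top _), ?_⟩
  rw [commutatorElement_def]
  simp only [Matrix.SpecialLinearGroup.coe_mul, Matrix.SpecialLinearGroup.coe_inv,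
    Matrix.adjugate_fin_two]
  ext i
  fin_cases i <;> simp [w, u, Matrix.mulVec, dotProduct, Fin.sum_univ_two, Matrix.mul_apply]

theorem rel_top (b : F) : Rel ![0, 1] ![b, 1] := by
  let w : SL2 := ⟨!![0, -1; 1, 0], by simp [Matrix.det_fin_two]⟩
  have h := (rel_one (-b)).map w
  have e1 : (w : Matrix (Fin 2) (Fin 2) F) *ᵥ ![1, 0] = ![0, 1] := by
    ext i; fin_cases i <;> simp [w, Matrix.mulVec, dotProduct, Fin.sum_univ_two]
  have e2 : (w : Matrix (Fin 2) (Fin 2) F) *ᵥ ![1, -b] = ![b, 1] := by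
    ext i; fin_cases i <;> simp [w, Matrix.mulVec, dotProduct, Fin.sum_univ_two]
  rwa [e1, e2] at h

theorem rel_all {v : Fin 2 → F} (hv : v ≠ 0) : Rel ![0, 1] v := by
  have key : ∀ t : F, t ≠ 0 → ∀ y : F, Rel ![0, 1] ![t, y] := by
    intro t ht y
    let d : SL2 := ⟨!![t, 0; 0, t⁻¹], by simp [Matrix.det_fin_two, ht]⟩
    have hd : ∀ x : F, Rel ![t, 0] ![t, x] := by
      intro x
      have h := (rel_one (t * x)).map d
      have e1 : (d : Matrix (Fin 2) (Fin 2) F) *ᵥ ![1, 0] = ![t, 0] := by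
        ext i; fin_cases i <;> simp [d, Matrix.mulVec, dotProduct, Fin.sum_univ_two]
      have e2 : (d : Matrix (Fin 2) (Fin 2) F) *ᵥ ![1, t * x] = ![t, x] := by
        ext i; fin_cases i <;> simp [d, Matrix.mulVec, dotProduct, Fin.sum_univ_two, ht]
      rwa [e1, e2] at h
    exact (rel_top t).trans ((hd 1).symm.trans (hd y))
  have e : v = ![v 0, v 1] := by ext i; fin_cases i <;> rfl
  rw [e]
  by_cases h0 : v 0 = 0
  swap
  · exact key _ h0 _
  have h1 : v 1 ≠ 0 := fun h => hv (by ext i; fin_cases i <;> simp [h0, h])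
  obtain ⟨t, ht⟩ : ∃ t, t = v 1 := ⟨_, rfl⟩
  rw [h0, ← ht]
  let g : SL2 := ⟨!![0, -t⁻¹; t, 0], by simp [Matrix.det_fin_two, ht ▸ h1]⟩
  have h := (rel_one (-t)).map g
  have e1 : (g : Matrix (Fin 2) (Fin 2) F) *ᵥ ![1, 0] = ![0, t] := by
    ext i; fin_cases i <;> simp [g, Matrix.mulVec, dotProduct, Fin.sum_univ_two]
  have e2 : (g : Matrix (Fin 2) (Fin 2) F) *ᵥ ![1, -t] = ![1, t] := by
    ext i; fin_cases i <;> simp [g, Matrix.mulVec, dotProduct, Fin.sum_univ_two, ht ▸ h1]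
  rw [e1, e2] at h
  exact (key 1 one_ne_zero t).trans h.symm

theorem transitive_derived {v w : Fin 2 → F} (hv : v ≠ 0) (hw : w ≠ 0) : Rel v w :=
  (rel_all hv).symm.trans (rel_all hw)

end Transitive

theorem even_weight_generated {n : ℕ} (hn : n % 2 = 1) (hn3 : 3 ≤ n) (S : AddSubgroup (Fin n → ZMod 2))
    (hinv : ∀ σ ∈ alternatingGroup (Fin n), ∀ v ∈ S, (fun i => v (σ⁻¹ i)) ∈ S)
    {v : Fin n → ZMod 2} (hv : v ∈ S) (hv0 : v ≠ 0) (hsum : ∑ i, v i = 0) :
    ∀ u : Fin n → ZMod 2, ∑ i, u i = 0 → u ∈ S := by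
  classical
  have hz : ∀ a : ZMod 2, a = 0 ∨ a = 1 := by decide
  have h3 : ∀ a b c : Fin n, a ≠ b → a ≠ c → b ≠ c →
      Equiv.swap a b * Equiv.swap b c ∈ alternatingGroup (Fin n) := by
    intro a b c hab hac hbc
    rw [Equiv.Perm.mem_alternatingGroup, Equiv.Perm.sign_mul, Equiv.Perm.sign_swap hab, Equiv.Perm.sign_swap hbc]
    norm_num
  let e : Fin n → Fin n → (Fin n → ZMod 2) := fun i j => Pi.single i (1 : ZMod 2) + Pi.single j (1 : ZMod 2)
  have hperm : ∀ σ : Equiv.Perm (Fin n), ∀ i j, (fun x => e i j (σ⁻¹ x)) = e (σ i) (σ j) := by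
    intro σ i j
    have hs : ∀ i x, (Pi.single i (1 : ZMod 2) : Fin n → ZMod 2) (σ⁻¹ x) =
        (Pi.single (σ i) (1 : ZMod 2) : Fin n → ZMod 2) x := by
      intro i x
      by_cases h : x = σ i
      · subst h; simp
      · rw [Pi.single_eq_of_ne h, Pi.single_eq_of_ne]
        exact fun h' => h (by rw [← h', Equiv.Perm.coe_inv, Equiv.apply_symm_apply])
    funext x
    show (Pi.single i (1 : ZMod 2) : Fin n → ZMod 2) (σ⁻¹ x) + (Pi.single j (1 : ZMod 2) : Fin n → ZMod 2) (σ⁻¹ x) = _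
    rw [hs, hs]; rfl
  -- a vector of weight two
  obtain ⟨i, hi⟩ : ∃ i, v i = 1 := by
    by_contra h
    exact hv0 (funext fun i => (hz (v i)).resolve_right fun h1 => h ⟨i, h1⟩)
  obtain ⟨j, hj⟩ : ∃ j, v j = 0 := by
    by_contra h
    have hall : ∀ j, v j = 1 := fun j => (hz (v j)).resolve_left fun h1 => h ⟨j, h1⟩
    simp only [hall, Finset.sum_const, Finset.card_univ, Fintype.card_fin, nsmul_eq_mul, mul_one] at hsum
    rw [ZMod.natCast_eq_zero_iff_even, Nat.even_iff] at hsum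
    omega
  have hij : i ≠ j := fun h => by rw [h, hj] at hi; exact zero_ne_one hi
  obtain ⟨k, hk, hki⟩ : ∃ k, v k = 1 ∧ k ≠ i := by
    by_contra h
    push Not at h
    rw [Finset.sum_eq_single i (fun b _ hb => (hz (v b)).resolve_right fun h1 => hb (h b h1)) (by simp), hi] at hsum
    exact one_ne_zero hsum
  have hkj : k ≠ j := fun h => by rw [h, hj] at hk; exact zero_ne_one hk
  have hw : v + (fun x => v ((Equiv.swap i j * Equiv.swap j k)⁻¹ x)) ∈ S :=
    add_mem hv (hinv _ (h3 i j k hij hki.symm hkj.symm) v hv)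
  have hpair : e i j ∈ S ∨ e j k ∈ S ∨ e i k ∈ S := by
    have key : v + (fun x => v ((Equiv.swap i j * Equiv.swap j k)⁻¹ x)) = e i j ∨
        v + (fun x => v ((Equiv.swap i j * Equiv.swap j k)⁻¹ x)) = e j k ∨
        v + (fun x => v ((Equiv.swap i j * Equiv.swap j k)⁻¹ x)) = e i k := by
      rw [mul_inv_rev, Equiv.swap_inv, Equiv.swap_inv]
      have hval : ∀ x, (v + fun x => v ((Equiv.swap j k * Equiv.swap i j) x)) x =
          if x = i then 1 + v k else if x = j then v i else if x = k then 1 + v j else 0 := by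
        intro x
        simp only [Pi.add_apply, Equiv.Perm.mul_apply]
        split_ifs with h1 h2 h4
        · subst h1; rw [Equiv.swap_apply_left, Equiv.swap_apply_left, hi]
        · subst h2; rw [Equiv.swap_apply_right, Equiv.swap_apply_of_ne_of_ne hij hki.symm, hj, zero_add]
        · subst h4; rw [Equiv.swap_apply_of_ne_of_ne hki hkj, Equiv.swap_apply_right, hk]
        · rw [Equiv.swap_apply_of_ne_of_ne h1 h2, Equiv.swap_apply_of_ne_of_ne h2 h4]
          exact CharTwo.add_self_eq_zero _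
      refine Or.inr (Or.inl (funext fun x => (hval x).trans ?_))
      simp only [hk, hi, hj, e, Pi.add_apply]
      by_cases h1 : x = i
      · subst h1; simp [Pi.single_eq_of_ne hij, Pi.single_eq_of_ne hki.symm]; rfl
      by_cases h2 : x = j
      · subst h2; simp [h1, Pi.single_eq_of_ne hkj.symm]
      by_cases h4 : x = k
      · subst h4; simp [h1, h2]
      · simp [h1, h2, h4]
    rcases key with h | h | h <;> rw [h] at hw
    · exact Or.inl hw
    · exact Or.inr (Or.inl hw)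
    · exact Or.inr (Or.inr hw)
  obtain ⟨a, b, hab, habS⟩ : ∃ a b, a ≠ b ∧ e a b ∈ S := by
    rcases hpair with h | h | h
    exacts [⟨i, j, hij, h⟩, ⟨j, k, hkj.symm, h⟩, ⟨i, k, hki.symm, h⟩]
  have hmove : ∀ a b c, a ≠ b → a ≠ c → b ≠ c → e a b ∈ S → e a c ∈ S := by
    intro a b c hab hac hbc h
    have h1 := hinv _ (h3 a b c hab hac hbc) _ h
    rw [hperm] at h1
    have e1 : (Equiv.swap a b * Equiv.swap b c) a = b := by
      rw [Equiv.Perm.mul_apply, Equiv.swap_apply_of_ne_of_ne hab hac, Equiv.swap_apply_left]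
    have e2 : (Equiv.swap a b * Equiv.swap b c) b = c := by
      rw [Equiv.Perm.mul_apply, Equiv.swap_apply_left, Equiv.swap_apply_of_ne_of_ne hac.symm hbc.symm]
    rw [e1, e2] at h1
    have h2 := add_mem h h1
    have e3 : e a b + e b c = e a c := by
      funext x
      simp only [e, Pi.add_apply]
      rw [add_assoc, ← add_assoc ((Pi.single b (1 : ZMod 2) : Fin n → ZMod 2) x), CharTwo.add_self_eq_zero, zero_add]
    rwa [e3] at h2
  have hcomm : ∀ a b, e a b = e b a := fun a b => add_comm _ _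
  have hall : ∀ c, e a c ∈ S := by
    intro c
    by_cases hac : a = c
    · subst hac
      have : e a a = 0 := funext fun x => CharTwo.add_self_eq_zero _
      rw [this]; exact zero_mem S
    by_cases hbc : b = c
    · exact hbc ▸ habS
    exact hmove a b c hab hac hbc habS
  intro u hu
  have hdec : u = ∑ c, u c • e a c := by
    funext x
    simp only [Finset.sum_apply, Pi.smul_apply, smul_eq_mul, e, Pi.add_apply, mul_add, Finset.sum_add_distrib]
    rw [← Finset.sum_mul, hu, zero_mul, zero_add, Finset.sum_eq_single x (fun c _ hc => by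
      rw [Pi.single_eq_of_ne (Ne.symm hc), mul_zero]) (by simp), Pi.single_eq_same, mul_one]
  rw [hdec]
  refine sum_mem fun c _ => ?_
  rcases hz (u c) with h | h <;> rw [h]
  · rw [zero_smul]; exact zero_mem S
  · rw [one_smul]; exact hall c

section Block

variable {G : Type u} [Group G] [Finite G] {p : ℕ} [hp : Fact p.Prime]

/-- The module of a block. -/
def modW (p : ℕ) (E : Subgroup G) : Subgroup G := Cfsg.omegaOneCenter p (Cfsg.pCoreOf p E)

omit [Finite G] hp in
theorem modW_le (E : Subgroup G) : modW p E ≤ Cfsg.pCoreOf p E ⊓ centralizer (Cfsg.pCoreOf p E : Set G) :=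
  (closure_le _).mpr fun _ hx => hx.1

omit [Finite G] hp in
theorem omegaOneCenter_pow (X : Subgroup G) {x : G} (hx : x ∈ Cfsg.omegaOneCenter p X) : x ^ p = 1 := by
  have hle : ∀ y ∈ Cfsg.omegaOneCenter p X, y ∈ X ⊓ centralizer (X : Set G) :=
    fun y hy => ((closure_le _).mpr fun _ h => h.1 : Cfsg.omegaOneCenter p X ≤ _) hy
  induction hx using closure_induction with
  | mem y hy => exact hy.2
  | one => exact one_pow p
  | mul a b ha hb iha ihb =>
    have hc : Commute a b := mem_centralizer_iff.mp (hle b hb).2 a (hle a ha).1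
    rw [hc.mul_pow, iha, ihb, one_mul]
  | inv a _ iha => rw [inv_pow, iha, inv_one]

omit hp in
theorem normalizer_le_pCoreOf (E : Subgroup G) [Fact p.Prime] :
    normalizer (E : Set G) ≤ normalizer (Cfsg.pCoreOf p E : Set G) := by
  intro g hg
  refine mem_normalizer_fintype ?_
  rintro _ ⟨x, hx, rfl⟩
  let φ : ↥E ≃* ↥E :=
    ((MulAut.conj g).subgroupMap E).trans (MulEquiv.subgroupCongr (show E.map (MulAut.conj g).toMonoidHom = E by
      rw [Grp.map_conj_eq_smul]; exact Grp.mem_normalizer_iff_smul.mp hg))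
  have h : φ x ∈ Cfsg.pCore p ↥E :=
    Grp.le_pCore ((Grp.pCore_isNormal (p := p) (G := ↥E)).map φ.toMonoidHom φ.surjective)
      (Grp.pCore_isPGroup.map φ.toMonoidHom) ⟨x, hx, rfl⟩
  exact ⟨φ x, h, rfl⟩

omit hp in
theorem normalizer_le_omegaOneCenter (X : Subgroup G) :
    normalizer (X : Set G) ≤ normalizer (Cfsg.omegaOneCenter p X : Set G) := by
  intro g hg
  refine mem_normalizer_fintype fun x hx => ?_
  have hle : Cfsg.omegaOneCenter p X ≤ (Cfsg.omegaOneCenter p X).comap (MulAut.conj g).toMonoidHom := by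
    refine (closure_le _).mpr fun y hy => subset_closure ⟨⟨(mem_normalizer_iff.mp hg y).mp hy.1.1, ?_⟩, ?_⟩
    · refine mem_centralizer_iff.mpr fun z hz => ?_
      have h := mem_centralizer_iff.mp hy.1.2 _ ((mem_normalizer_iff''.mp hg z).mp hz)
      show z * (g * y * g⁻¹) = g * y * g⁻¹ * z
      calc z * (g * y * g⁻¹) = g * (g⁻¹ * z * g * y) * g⁻¹ := by group
        _ = g * (y * (g⁻¹ * z * g)) * g⁻¹ := by rw [h]
        _ = g * y * g⁻¹ * z := by group
    · rw [← map_pow, hy.2, map_one]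
  exact hle hx

variable {T : Sylow p G} {E : Subgroup G}

/-- The action on the section has no invariant subgroups and is not trivial. -/
theorem section_irred (hE : Cfsg.IsBaumannBlock p (T : Subgroup G) E) :
    (∀ U : Subgroup G, U ≤ modW p E → modW p E ⊓ centralizer (E : Set G) ≤ U →
      E ≤ normalizer (U : Set G) → U ≤ centralizer (E : Set G) ∨ modW p E ≤ U) ∧
    ∃ e ∈ E, ∃ w ∈ modW p E, ¬ e * w * e⁻¹ * w⁻¹ ∈ centralizer (E : Set G) := by
  obtain ⟨hres, -, -, hne, hcase⟩ := hE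
  obtain ⟨W, hW⟩ : ∃ W, W = modW p E := ⟨_, rfl⟩
  rw [show Cfsg.omegaOneCenter p (Cfsg.pCoreOf p E) = W from hW.symm] at hcase
  rw [← hW]
  rcases hcase with ⟨F, _, _, n, -, -, ⟨-, -, ρ, ψ, hρ, hψ, hker, hact⟩, -⟩ | ⟨-, m, ⟨eE⟩, ⟨-, -, ρ, ψ, hρ, hev, hsurj, hker, hact⟩, -⟩
  · constructor
    · intro U hUW hZU hEU
      refine or_iff_not_imp_left.mpr fun hU => ?_
      obtain ⟨u, hu, huZ⟩ := SetLike.not_le_iff_exists.mp hU
      intro w hw
      by_cases hwz : ψ ⟨w, hw⟩ = 1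
      · exact hZU ((hker _).mp hwz)
      have hu1 : Multiplicative.toAdd (ψ ⟨u, hUW hu⟩) ≠ 0 := fun h => huZ ((hker ⟨u, hUW hu⟩).mp h).2
      obtain ⟨r, hr, hre⟩ := transitive_derived hu1 (fun h => hwz h : Multiplicative.toAdd (ψ ⟨w, hw⟩) ≠ 0)
      rw [← hρ] at hr
      obtain ⟨e, rfl⟩ := hr
      obtain ⟨w', hw', hw'e⟩ := hact e ⟨u, hUW hu⟩
      have hw'U : (w' : G) ∈ U := hw' ▸ (mem_normalizer_iff.mp (hEU e.2) u).mp hu
      have heq : ψ w' = ψ ⟨w, hw⟩ := Multiplicative.toAdd.injective (hw'e.trans hre)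
      have h1 : ((w'⁻¹ * ⟨w, hw⟩ : ↥W) : G) ∈ W ⊓ centralizer (E : Set G) :=
        (hker _).mp (by rw [map_mul, map_inv, heq, inv_mul_cancel])
      have := mul_mem hw'U (hZU h1)
      rwa [Subgroup.coe_mul, Subgroup.coe_inv, mul_inv_cancel_left] at this
    · obtain ⟨w, hw⟩ := hψ (Multiplicative.ofAdd ![1, 0])
      obtain ⟨r, hr, hre⟩ := transitive_derived (v := (![1, 0] : Fin 2 → F)) (w := ![0, 1])
        (fun h => one_ne_zero (congrFun h 0)) (fun h => one_ne_zero (congrFun h 1))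
      rw [← hρ] at hr
      obtain ⟨e, rfl⟩ := hr
      obtain ⟨w', hw', hw'e⟩ := hact e w
      refine ⟨e, e.2, w, w.2, fun h => ?_⟩
      have h2 : ψ w' * (ψ w)⁻¹ = 1 := by
        rw [← map_inv, ← map_mul]
        refine (hker _).mpr ⟨(w' * w⁻¹).2, ?_⟩
        rw [Subgroup.coe_mul, Subgroup.coe_inv, hw']
        exact h
      rw [mul_inv_eq_one] at h2
      rw [h2, hw, toAdd_ofAdd, hre] at hw'e
      exact one_ne_zero (congrFun hw'e 0)
  · have hm : 1 ≤ m := by
      by_contra hm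
      obtain rfl : m = 0 := by omega
      apply hne
      haveI : Subsingleton (↥E ⧸ Cfsg.pCore p ↥E) := eE.toEquiv.subsingleton_congr.mpr
        ⟨fun a b => Subtype.ext (Equiv.ext fun i => by fin_cases i; exact Subsingleton.elim (α := Fin 1) _ _)⟩
      have htop : Cfsg.pCore p ↥E = ⊤ := eq_top_iff.mpr fun x _ =>
        (QuotientGroup.eq_one_iff x).mp (Subsingleton.elim _ _)
      have hEp : IsPGroup p ↥E := by
        have h := Grp.pCore_isPGroup (p := p) (G := ↥E)
        rw [htop] at h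
        exact h.of_equiv Subgroup.topEquiv
      have hbot : E = ⊥ := by
        rw [← hres]
        refine (map_eq_bot_iff_of_injective _ E.subtype_injective).mpr (le_bot_iff.mp ((closure_le _).mpr ?_))
        intro g hg
        obtain ⟨k, hk⟩ := IsPGroup.iff_orderOf.mp hEp g
        exact orderOf_eq_one_iff.mp (Nat.eq_one_of_dvd_coprimes (hg.pow_right k) dvd_rfl (dvd_of_eq hk))
      rw [hbot, commutator_bot_left]
    constructor
    · intro U hUW hZU hEU
      refine or_iff_not_imp_left.mpr fun hU => ?_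
      obtain ⟨u, hu, huZ⟩ := SetLike.not_le_iff_exists.mp hU
      let S : AddSubgroup (Fin (2 * m + 1) → ZMod 2) :=
        { carrier := {v | ∃ x : ↥W, (x : G) ∈ U ∧ Multiplicative.toAdd (ψ x) = v}
          zero_mem' := ⟨1, one_mem U, by simp⟩
          add_mem' := by
            rintro a b ⟨x, hx, rfl⟩ ⟨y, hy, rfl⟩
            exact ⟨x * y, mul_mem hx hy, by simp⟩
          neg_mem' := by
            rintro a ⟨x, hx, rfl⟩
            exact ⟨x⁻¹, inv_mem hx, by simp⟩ }
      have hall := even_weight_generated (n := 2 * m + 1) (by omega) (by omega) S ?_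
        (v := Multiplicative.toAdd (ψ ⟨u, hUW hu⟩)) ⟨⟨u, hUW hu⟩, hu, rfl⟩
        (fun h => huZ ((hker ⟨u, hUW hu⟩).mp h).2) (hev _)
      · intro w hw
        obtain ⟨w', hw'U, hw'e⟩ := hall _ (hev ⟨w, hw⟩)
        have heq : ψ w' = ψ ⟨w, hw⟩ := Multiplicative.toAdd.injective hw'e
        have h1 : ((w'⁻¹ * ⟨w, hw⟩ : ↥W) : G) ∈ W ⊓ centralizer (E : Set G) :=
          (hker _).mp (by rw [map_mul, map_inv, heq, inv_mul_cancel])
        have := mul_mem hw'U (hZU h1)
        rwa [Subgroup.coe_mul, Subgroup.coe_inv, mul_inv_cancel_left] at this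
      · rintro σ hσ v ⟨x, hx, rfl⟩
        rw [← hρ] at hσ
        obtain ⟨e, rfl⟩ := hσ
        obtain ⟨w', hw', hw'e⟩ := hact e x
        exact ⟨w', hw' ▸ (mem_normalizer_iff.mp (hEU e.2) _).mp hx, funext fun i => hw'e i⟩
    · have h0 : (0 : Fin (2 * m + 1)) ≠ ⟨1, by omega⟩ := fun h => by simp [Fin.ext_iff] at h
      have h02 : (0 : Fin (2 * m + 1)) ≠ ⟨2, by omega⟩ := fun h => by simp [Fin.ext_iff] at h
      have h12 : (⟨1, by omega⟩ : Fin (2 * m + 1)) ≠ ⟨2, by omega⟩ := fun h => by simp [Fin.ext_iff] at h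
      obtain ⟨v, hv⟩ : ∃ v : Fin (2 * m + 1) → ZMod 2,
          v = (Pi.single (0 : Fin (2 * m + 1)) (1 : ZMod 2) : Fin (2 * m + 1) → ZMod 2) + Pi.single (⟨1, by omega⟩ : Fin (2 * m + 1)) (1 : ZMod 2) := ⟨_, rfl⟩
      have hvs : ∑ i, v i = 0 := by
        rw [hv]
        simp only [Pi.add_apply, Finset.sum_add_distrib, Finset.sum_pi_single', Finset.mem_univ, if_true]
        decide
      obtain ⟨w, hw⟩ := hsurj v hvs
      have hσ : Equiv.swap (0 : Fin (2 * m + 1)) ⟨1, by omega⟩ * Equiv.swap ⟨1, by omega⟩ ⟨2, by omega⟩ ∈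
          alternatingGroup (Fin (2 * m + 1)) := by
        rw [Equiv.Perm.mem_alternatingGroup, Equiv.Perm.sign_mul, Equiv.Perm.sign_swap h0, Equiv.Perm.sign_swap h12]
        norm_num
      rw [← hρ] at hσ
      obtain ⟨e, he⟩ := hσ
      obtain ⟨w', hw', hw'e⟩ := hact e w
      refine ⟨e, e.2, w, w.2, fun h => ?_⟩
      have h2 : ψ w' * (ψ w)⁻¹ = 1 := by
        rw [← map_inv, ← map_mul]
        refine (hker _).mpr ⟨(w' * w⁻¹).2, ?_⟩
        rw [Subgroup.coe_mul, Subgroup.coe_inv, hw']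
        exact h
      rw [mul_inv_eq_one] at h2
      have h3 := hw'e 0
      rw [h2, hw, he, mul_inv_rev, Equiv.swap_inv, Equiv.swap_inv, Equiv.Perm.mul_apply,
        Equiv.swap_apply_left, Equiv.swap_apply_left, hv] at h3
      simp [Pi.single_eq_of_ne h02.symm, Pi.single_eq_of_ne h12.symm, Pi.single_eq_of_ne h0] at h3

/-- The normal `p`-subgroup normalizes the block. -/
theorem pCore_le_normalizer (hG : centralizer (Cfsg.pCore p G : Set G) ≤ Cfsg.pCore p G)
    (hE : Cfsg.IsBaumannBlock p (T : Subgroup G) E) : Cfsg.pCore p G ≤ normalizer (E : Set G) := by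
  have htop : normalizer (Cfsg.pCore p G : Set G) = ⊤ := normalizer_eq_top_iff.mpr Grp.pCore_isNormal
  exact S2983.result hG T E hE _ Grp.pCore_isPGroup (by rw [htop]; exact le_top) (by rw [htop]; exact le_top)

/-- Elements of order prime to `p` of `E ⊔ Q` lie in `E`. -/
theorem mem_of_coprime {Q : Subgroup G} (hQ : IsPGroup p Q) (hQE : Q ≤ normalizer (E : Set G)) {g : G}
    (hg : g ∈ E ⊔ Q) (hgo : (orderOf g).Coprime p) : g ∈ E := by
  rw [← SetLike.mem_coe, Subgroup.coe_mul_of_right_le_normalizer_left _ _ hQE] at hg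
  obtain ⟨k, hk, j, hj, rfl⟩ := hg
  haveI : (E.subgroupOf (E ⊔ Q)).Normal := normal_subgroupOf_of_le_normalizer (sup_le le_normalizer hQE)
  let q := QuotientGroup.mk' (E.subgroupOf (E ⊔ Q))
  have hmem : k * j ∈ E ⊔ Q := mul_mem (mem_sup_left hk) (mem_sup_right hj)
  have hqg : q ⟨k * j, hmem⟩ = q ⟨j, mem_sup_right hj⟩ := by
    rw [show (⟨k * j, hmem⟩ : ↥(E ⊔ Q)) = ⟨k, mem_sup_left hk⟩ * ⟨j, mem_sup_right hj⟩ from rfl, map_mul,
      show q ⟨k, mem_sup_left hk⟩ = 1 from (QuotientGroup.eq_one_iff _).mpr hk, one_mul]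
  have h1 : orderOf (q ⟨k * j, hmem⟩) ∣ orderOf (k * j) :=
    (orderOf_map_dvd q _).trans (Subgroup.orderOf_mk _ _).dvd
  obtain ⟨i, hi⟩ := IsPGroup.iff_orderOf.mp hQ ⟨j, hj⟩
  rw [Subgroup.orderOf_mk] at hi
  have h2 : orderOf (q ⟨k * j, hmem⟩) ∣ p ^ i := by
    rw [hqg]
    exact (orderOf_map_dvd q _).trans ((Subgroup.orderOf_mk _ _).trans hi).dvd
  exact mem_subgroupOf.mp ((QuotientGroup.eq_one_iff _).mp
    (orderOf_eq_one_iff.mp (Nat.eq_one_of_dvd_coprimes (hgo.pow_right i) h1 h2)))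

theorem pResidualOf_sup (hG : centralizer (Cfsg.pCore p G : Set G) ≤ Cfsg.pCore p G)
    (hE : Cfsg.IsBaumannBlock p (T : Subgroup G) E) : Cfsg.pResidualOf p (E ⊔ Cfsg.pCore p G) = E := by
  refine le_antisymm ?_ ?_
  · rw [Cfsg.pResidualOf, map_le_iff_le_comap]
    refine (closure_le _).mpr fun g hg => mem_of_coprime Grp.pCore_isPGroup (pCore_le_normalizer hG hE) g.2 ?_
    rw [Subgroup.coe_subtype, Subgroup.orderOf_coe]; exact hg
  · conv_lhs => rw [← hE.1]
    rw [Cfsg.pResidualOf, Cfsg.pResidual, MonoidHom.map_closure]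
    refine (closure_le _).mpr ?_
    rintro _ ⟨g, hg, rfl⟩
    refine ⟨⟨(g : G), mem_sup_left g.2⟩, subset_closure ?_, rfl⟩
    show (orderOf (⟨(g : G), mem_sup_left g.2⟩ : ↥(E ⊔ Cfsg.pCore p G))).Coprime p
    rw [Subgroup.orderOf_mk, Subgroup.orderOf_coe]; exact hg

omit hp in
theorem block_le_normalizer_modW [Fact p.Prime] : E ≤ normalizer (modW p E : Set G) :=
  le_normalizer.trans ((normalizer_le_pCoreOf E).trans (normalizer_le_omegaOneCenter _))

/-- The module commutator is central in the normal `p`-subgroup. -/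
theorem comm_le_center (hG : centralizer (Cfsg.pCore p G : Set G) ≤ Cfsg.pCore p G)
    (hE : Cfsg.IsBaumannBlock p (T : Subgroup G) E) :
    ⁅modW p E, E⁆ ≤ Cfsg.omegaOneCenter p (Cfsg.pCore p G) := by
  obtain ⟨Q, hQ⟩ : ∃ Q, Q = Cfsg.pCore p G := ⟨_, rfl⟩
  rw [← hQ] at hG ⊢
  have hQp : IsPGroup p Q := hQ ▸ Grp.pCore_isPGroup
  have hQn : ∀ x : G, x ∈ normalizer (Q : Set G) := fun x => by
    rw [hQ, normalizer_eq_top_iff.mpr Grp.pCore_isNormal]; exact mem_top x
  have hQE : Q ≤ normalizer (E : Set G) := hQ ▸ pCore_le_normalizer (hQ ▸ hG) hE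
  obtain ⟨W, hW⟩ : ∃ W, W = modW p E := ⟨_, rfl⟩
  rw [← hW]
  have hEW : E ≤ normalizer (W : Set G) := hW ▸ block_le_normalizer_modW
  have hQW : Q ≤ normalizer (W : Set G) :=
    hW ▸ hQE.trans ((normalizer_le_pCoreOf E).trans (normalizer_le_omegaOneCenter _))
  have hWX := hW ▸ modW_le (p := p) E
  have hWE : W ≤ E := (hWX.trans inf_le_left).trans (map_subtype_le _)
  -- the commutator with the normal subgroup is centralized by the block
  obtain ⟨hirr, e₀, he₀, w₀, hw₀, hnz⟩ := section_irred hE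
  rw [← hW] at hirr hw₀
  obtain ⟨Z, hZ⟩ : ∃ Z, Z = W ⊓ centralizer (E : Set G) := ⟨_, rfl⟩
  rw [← hZ] at hirr
  have hEZ : E ≤ normalizer (Z : Set G) := fun x hx => mem_normalizer_fintype fun z hz => by
    rw [SetLike.mem_coe, hZ] at hz ⊢
    refine ⟨(mem_normalizer_iff.mp (hEW hx) z).mp hz.1, ?_⟩
    rw [mem_centralizer_iff.mp hz.2 x hx, mul_inv_cancel_right]
    exact hz.2
  have hQZ : Q ≤ normalizer (Z : Set G) := fun x hx => mem_normalizer_fintype fun z hz => by
    rw [SetLike.mem_coe, hZ] at hz ⊢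
    refine ⟨(mem_normalizer_iff.mp (hQW hx) z).mp hz.1, mem_centralizer_iff.mpr fun a ha => ?_⟩
    have h := mem_centralizer_iff.mp hz.2 _ ((mem_normalizer_iff''.mp (hQE hx) a).mp ha)
    calc a * (x * z * x⁻¹) = x * (x⁻¹ * a * x * z) * x⁻¹ := by group
      _ = x * (z * (x⁻¹ * a * x)) * x⁻¹ := by rw [h]
      _ = x * z * x⁻¹ * a := by group
  have hWQle : ⁅W, Q⁆ ≤ W := commutator_le.mpr fun w hw x hx => by
    rw [commutatorElement_def, mul_assoc, mul_assoc]
    refine mul_mem hw ?_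
    rw [← mul_assoc]
    exact (mem_normalizer_iff.mp (hQW hx) _).mp (inv_mem hw)
  have hUn : E ≤ normalizer ((⁅W, Q⁆ ⊔ Z : Subgroup G) : Set G) := by
    intro x hx
    refine mem_normalizer_fintype fun z hz => ?_
    have e : (⁅W, Q⁆ ⊔ Z).map (MulAut.conj x).toMonoidHom = ⁅W, Q⁆ ⊔ Z := by
      rw [Subgroup.map_sup, map_commutator]
      simp only [Grp.map_conj_eq_smul]
      rw [Grp.mem_normalizer_iff_smul.mp (hEW hx), Grp.mem_normalizer_iff_smul.mp (hQn x),
        Grp.mem_normalizer_iff_smul.mp (hEZ hx)]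
    exact e.le ⟨z, hz, rfl⟩
  have hU : ⁅W, Q⁆ ≤ centralizer (E : Set G) := by
    rcases hirr (⁅W, Q⁆ ⊔ Z) (sup_le hWQle (hZ ▸ inf_le_left)) le_sup_right hUn with h | h
    · exact le_sup_left.trans h
    · exfalso
      obtain ⟨X, hX⟩ : ∃ X, X = W ⊔ Q := ⟨_, rfl⟩
      have hZW : Z ≤ W := hZ ▸ inf_le_left
      have hWp : IsPGroup p W :=
        (((Grp.pCore_isPGroup (p := p) (G := ↥E)).map E.subtype)).to_le (hWX.trans inf_le_left)
      have hXp : IsPGroup p X := hX ▸ IsPGroup.to_sup_of_normal_left' hWp hQp hQW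
      have hXZ : X ≤ normalizer (Z : Set G) := by
        rw [hX]
        exact sup_le (hWE.trans hEZ) hQZ
      haveI : (Z.subgroupOf X).Normal := normal_subgroupOf_of_le_normalizer hXZ
      let π := QuotientGroup.mk' (Z.subgroupOf X)
      haveI : Group.IsNilpotent (↥X ⧸ Z.subgroupOf X) := (hXp.to_quotient _).isNilpotent
      have hb : (W.subgroupOf X).map π = ⊥ := by
        refine Transfer.eq_bot_of_le_commutator_top ?_
        have hle : W.subgroupOf X ≤ ⁅W.subgroupOf X, Q.subgroupOf X⁆ ⊔ Z.subgroupOf X := by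
          rw [← map_le_map_iff_of_injective X.subtype_injective, Subgroup.map_sup, map_commutator,
            map_subgroupOf_eq_of_le (hX ▸ le_sup_left), map_subgroupOf_eq_of_le (hX ▸ le_sup_right),
            map_subgroupOf_eq_of_le (hZW.trans (hX ▸ le_sup_left))]
          exact h
        refine (map_mono hle).trans ?_
        rw [Subgroup.map_sup, map_commutator,
          show (Z.subgroupOf X).map π = ⊥ from (Subgroup.map_eq_bot_iff _).mpr (QuotientGroup.ker_mk' _).ge, sup_bot_eq]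
        exact commutator_mono le_rfl le_top
      have hwz : ∀ w ∈ W, w ∈ Z := fun w hw => by
        have hmem : (⟨w, hX ▸ mem_sup_left hw⟩ : ↥X) ∈ W.subgroupOf X := hw
        have := mem_map_of_mem π hmem
        rw [hb, mem_bot] at this
        exact mem_subgroupOf.mp ((QuotientGroup.eq_one_iff (⟨w, hX ▸ mem_sup_left hw⟩ : ↥X)).mp this)
      refine hnz ?_
      have h1 := (hZ ▸ hwz w₀ hw₀ : w₀ ∈ W ⊓ centralizer (E : Set G)).2
      rw [mem_centralizer_iff.mp h1 e₀ he₀, mul_inv_cancel_right, mul_inv_cancel]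
      exact Subgroup.one_mem _
  have hEQ : ⁅E, Q⁆ ≤ Cfsg.pCoreOf p E := by
    have h1 : ⁅E, Q⁆ ≤ E ⊓ Q := le_inf (commutator_le.mpr fun a ha x hx => by
        rw [commutatorElement_def, mul_assoc, mul_assoc]
        refine mul_mem ha ?_
        rw [← mul_assoc]
        exact (mem_normalizer_iff.mp (hQE hx) _).mp (inv_mem ha))
      (commutator_le.mpr fun a _ x hx => by
        rw [commutatorElement_def]
        exact mul_mem ((mem_normalizer_iff.mp (hQn a) _).mp hx) (inv_mem hx))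
    refine h1.trans fun z hz => ⟨⟨z, hz.1⟩, ?_, rfl⟩
    have hn : ((E ⊓ Q).subgroupOf E).Normal := normal_subgroupOf_of_le_normalizer fun x hx =>
      mem_normalizer_fintype fun y hy => mem_inf.mpr ⟨mul_mem (mul_mem hx hy.1) (inv_mem hx), (mem_normalizer_iff.mp (hQn x) y).mp hy.2⟩
    exact Grp.le_pCore hn ((hQp.to_le inf_le_right).comap_subtype (K := E)) hz
  have hWEQ : ⁅⁅W, E⁆, Q⁆ = ⊥ := by
    refine commutator_commutator_eq_bot_of_rotate ?_ ?_
    · refine le_bot_iff.mp ((commutator_mono hEQ le_rfl).trans ?_)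
      rw [le_bot_iff, commutator_eq_bot_iff_le_centralizer]
      intro y hy
      exact mem_centralizer_iff.mpr fun w hw => (mem_centralizer_iff.mp (hWX hw).2 y hy).symm
    · rw [commutator_comm Q W, commutator_eq_bot_iff_le_centralizer]
      exact hU
  have hle : ⁅W, E⁆ ≤ centralizer (Q : Set G) := commutator_eq_bot_iff_le_centralizer.mp hWEQ
  have hWEW : ⁅W, E⁆ ≤ W := commutator_le.mpr fun w hw a ha => by
    rw [commutatorElement_def, mul_assoc, mul_assoc]
    refine mul_mem hw ?_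
    rw [← mul_assoc]
    exact (mem_normalizer_iff.mp (hEW ha) _).mp (inv_mem hw)
  intro x hx
  exact subset_closure ⟨⟨hG (hle hx), hle hx⟩, omegaOneCenter_pow _ (hW ▸ hWEW hx : x ∈ modW p E)⟩

/-- The Thompson subgroup moves the module commutator. -/
theorem comm_thompson_ne_bot (hG : centralizer (Cfsg.pCore p G : Set G) ≤ Cfsg.pCore p G)
    (hE : Cfsg.IsBaumannBlock p (T : Subgroup G) E) :
    ⁅⁅modW p E, E⁆, Cfsg.thompsonSubgroupOf p (T : Subgroup G)⁆ ≠ ⊥ := by
  intro hbot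
  have hcenter := comm_le_center hG hE
  obtain ⟨hirr, e₀, he₀, w₀, hw₀, hnz⟩ := section_irred hE
  have hres := hE.2.1
  obtain ⟨W, hW⟩ : ∃ W, W = modW p E := ⟨_, rfl⟩
  obtain ⟨WE, hWE⟩ : ∃ WE, WE = ⁅W, E⁆ := ⟨_, rfl⟩
  obtain ⟨J, hJ⟩ : ∃ J, J = Cfsg.thompsonSubgroupOf p (T : Subgroup G) := ⟨_, rfl⟩
  rw [← hW, ← hWE] at hcenter hbot
  rw [← hJ] at hbot
  rw [← hW] at hirr hw₀
  have hcomJ := commutator_eq_bot_iff_le_centralizer.mp hbot
  have hWEJ : ∀ x ∈ WE, x ∈ J := by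
    intro x hx
    have hx' := ((closure_le _).mpr (fun y hy => hy.1) : Cfsg.omegaOneCenter p (Cfsg.pCore p G) ≤ _) (hcenter hx)
    have hxT : x ∈ (T : Subgroup G) := Grp.pCore_le_sylow T hx'.1
    haveI : Nonempty {A : Subgroup G // A ≤ (T : Subgroup G) ∧
        ((∀ a ∈ A, ∀ b ∈ A, a * b = b * a) ∧ ∀ a ∈ A, a ^ p = 1)} := ⟨⟨⊥, bot_le, by simp, by simp⟩⟩
    obtain ⟨⟨A, hA1, hA2⟩, hmax⟩ := Finite.exists_max (fun A : {A : Subgroup G // A ≤ (T : Subgroup G) ∧
        ((∀ a ∈ A, ∀ b ∈ A, a * b = b * a) ∧ ∀ a ∈ A, a ^ p = 1)} => Nat.card A.1)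
    have hAmax : Invol.IsMaxEl p (T : Subgroup G) A := ⟨hA1, hA2, fun B hB hc => hmax ⟨B, hB, hc⟩⟩
    rw [hJ]
    refine hAmax.le_thompsonEl (hAmax.mem_of_commute hxT (omegaOneCenter_pow _ (hcenter hx)) fun a ha => ?_)
    exact mem_centralizer_iff.mp (hcomJ hx) a (hJ.ge (hAmax.le_thompsonEl ha))
  have hBW : ∀ b ∈ Cfsg.baumannSubgroupOf p (T : Subgroup G), ∀ x ∈ WE, b * x = x * b := fun b hb x hx =>
    (mem_centralizer_iff.mp hb.2 x (subset_closure
      ⟨⟨hJ ▸ hWEJ x hx, hJ ▸ hcomJ hx⟩, omegaOneCenter_pow _ (hcenter hx)⟩)).symm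
  have hEW : E ≤ normalizer (W : Set G) := hW ▸ block_le_normalizer_modW
  have hWEW : WE ≤ W := hWE ▸ commutator_le.mpr fun w hw a ha => by
    rw [commutatorElement_def, mul_assoc, mul_assoc]
    refine mul_mem hw ?_
    rw [← mul_assoc]
    exact (mem_normalizer_iff.mp (hEW ha) _).mp (inv_mem hw)
  have hBE : ⁅Cfsg.baumannSubgroupOf p (T : Subgroup G), WE⁆ = ⊥ :=
    commutator_eq_bot_iff_le_centralizer.mpr fun b hb => mem_centralizer_iff.mpr fun x hx => (hBW b hb x hx).symm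
  have hWEE : ⁅WE, E⁆ ≤ WE := by
    rw [hWE]
    exact commutator_mono (hWE ▸ hWEW) le_rfl
  have h0 : ⁅⁅E, Cfsg.baumannSubgroupOf p (T : Subgroup G)⁆, WE⁆ = ⊥ := by
    refine commutator_commutator_eq_bot_of_rotate ?_ ?_
    · rw [hBE, commutator_bot_left]
    · refine le_bot_iff.mp ((commutator_mono hWEE le_rfl).trans ?_)
      rw [commutator_comm, hBE]
  rw [hres] at h0
  have hEc : ∀ x ∈ WE, x ∈ centralizer (E : Set G) := fun x hx =>
    (commutator_eq_bot_iff_le_centralizer.mp ((commutator_comm WE E).trans h0)) hx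
  refine hnz (hEc _ ?_)
  rw [hWE, commutator_comm]
  exact commutator_mem_commutator he₀ hw₀

end Block

end Cfsg.Agent.Invol.BlockBasic
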