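import Mathlib
import Cfsg.Agent.Lib.Transfer.RankTwo
import Cfsg.Agent.S0016

/-!
A `2`-group containing an elementary abelian subgroup of order `8` has a normal elementary abelian
subgroup of order `4`.
-/

set_option autoImplicit false

namespace Cfsg.Agent.Invol.NormalFour

open Subgroup

variable {R : Type*} [Group R] [Finite R]

/-- A `2`-group with an elementary abelian subgroup of order `8` has a normal one of order `4`. -/
theorem exists_normal_four (hR : IsPGroup 2 R) (E : Subgroup R) (hE : Nat.card E = 8)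
    (hE2 : ∀ e ∈ E, e ^ 2 = 1) :
    ∃ U : Subgroup R, U.Normal ∧ Nat.card U = 4 ∧ ∀ u ∈ U, u ^ 2 = 1 := by
  classical
  haveI : Fact (Nat.Prime 2) := ⟨Nat.prime_two⟩
  haveI : Fintype R := Fintype.ofFinite R
  haveI : Nonempty {A : Subgroup R // A.Normal ∧ IsMulCommutative A} :=
    ⟨⟨⊥, inferInstance, ⟨⟨fun a b => Subsingleton.elim _ _⟩⟩⟩⟩
  obtain ⟨⟨A, hAn, hAab⟩, hmax⟩ := Finite.exists_max
    (fun A : {A : Subgroup R // A.Normal ∧ IsMulCommutative A} => Nat.card A.1)
  haveI := hAn
  have hC := Transfer.NormalSteps.centralizer_eq_of_max hR hAab fun B hBn hBc hAB =>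
    (Subgroup.eq_of_le_of_card_ge hAB (hmax ⟨B, hBn, hBc⟩)).symm
  let _ : CommGroup A := { (inferInstance : Group A) with mul_comm := hAab.is_comm.comm }
  -- the elements of exponent two of `A`
  let W : Subgroup R := ((powMonoidHom 2 : A →* A).ker).map A.subtype
  haveI hWn : W.Normal := by
    refine ⟨?_⟩
    rintro _ ⟨w, hw, rfl⟩ g
    refine ⟨⟨g * w * g⁻¹, hAn.conj_mem _ w.2 g⟩, Subtype.ext ?_, rfl⟩
    show (g * (w : R) * g⁻¹) ^ 2 = 1
    rw [conj_pow, show (w : R) ^ 2 = 1 from congrArg Subtype.val hw, mul_one, mul_inv_cancel]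
  have hW2 : ∀ w ∈ W, w ^ 2 = 1 := by
    rintro _ ⟨w, hw, rfl⟩
    exact congrArg Subtype.val hw
  by_cases hW : 4 ≤ Nat.card W
  · obtain ⟨U, hUn, hUW, hUc⟩ := Transfer.RankTwo.exists_normal_card hR W 2 (by simpa using hW)
    exact ⟨U, hUn, by simpa using hUc, fun u hu => hW2 u (hUW hu)⟩
  have hle : ∀ (x y : A), x ^ 2 = 1 → y ^ 2 = 1 → x ≠ 1 → y ≠ 1 → x = y := by
    intro x y hx hy hx1 hy1
    by_contra hxy
    refine hW ?_
    rw [Subgroup.card_map_of_injective A.subtype_injective]
    have h := Finset.card_le_card (s := ({1, x, y, x * y} : Finset A))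
      (t := Finset.univ.filter fun a : A => a ∈ (powMonoidHom 2 : A →* A).ker) (by
        intro a ha
        simp only [Finset.mem_filter, Finset.mem_univ, true_and, MonoidHom.mem_ker, powMonoidHom_apply]
        simp only [Finset.mem_insert, Finset.mem_singleton] at ha
        rcases ha with rfl | rfl | rfl | rfl
        · exact one_pow 2
        · exact hx
        · exact hy
        · rw [mul_pow, hx, hy, one_mul])
    have hxy' : x * y ≠ 1 := fun e => hxy (by
      rw [← mul_one x, ← hy, pow_two, ← mul_assoc, e, one_mul])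
    rw [Finset.card_insert_of_notMem, Finset.card_insert_of_notMem, Finset.card_insert_of_notMem,
      Finset.card_singleton] at h
    · rw [Nat.card_eq_fintype_card, Fintype.card_subtype]
      exact h
    · simp only [Finset.mem_singleton]
      exact fun e => hx1 (mul_eq_right.mp e.symm)
    · simp only [Finset.mem_insert, Finset.mem_singleton, not_or]
      exact ⟨hxy, fun e => hy1 (mul_eq_left.mp e.symm)⟩
    · simp only [Finset.mem_insert, Finset.mem_singleton, not_or]
      exact ⟨Ne.symm hx1, Ne.symm hy1, Ne.symm hxy'⟩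
  haveI hAc : IsCyclic A := by
    have huniq : ∀ H K : Subgroup A, Nat.card H = 2 → Nat.card K = 2 → H = K := by
      intro H K hH hK
      have hgen : ∀ L : Subgroup A, Nat.card L = 2 → ∃ x : A, x ^ 2 = 1 ∧ x ≠ 1 ∧ L = Subgroup.zpowers x := by
        intro L hL
        haveI : Nontrivial L := Finite.one_lt_card_iff_nontrivial.mp (by omega)
        obtain ⟨⟨x, hx⟩, hx1⟩ := exists_ne (1 : L)
        have hxo : (⟨x, hx⟩ : L) ^ 2 = 1 := hL ▸ pow_card_eq_one'
        refine ⟨x, congrArg Subtype.val hxo, fun e => hx1 (Subtype.ext e), (Subgroup.eq_of_le_of_card_ge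
          (Subgroup.zpowers_le.mpr hx) ?_).symm⟩
        rw [hL, Nat.card_zpowers, orderOf_eq_prime (congrArg Subtype.val hxo) fun e => hx1 (Subtype.ext e)]
      obtain ⟨x, hx, hx1, rfl⟩ := hgen H hH
      obtain ⟨y, hy, hy1, rfl⟩ := hgen K hK
      rw [hle x y hx hy hx1 hy1]
    rcases S0016.result 2 (hR.to_subgroup A) huniq with h | ⟨-, n, ⟨e⟩⟩
    · exact h
    · have hc := mul_comm (e.symm (QuaternionGroup.a 1)) (e.symm (QuaternionGroup.xa 0))
      rw [← map_mul, ← map_mul, EmbeddingLike.apply_eq_iff_eq, QuaternionGroup.a_mul_xa, QuaternionGroup.xa_mul_a,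
        QuaternionGroup.xa.injEq] at hc
      haveI : NeZero (2 ^ n) := ⟨by positivity⟩
      have h2 : ((2 : ℕ) : ZMod (2 * 2 ^ n)) = 0 := by
        push_cast
        linear_combination -hc
      rw [ZMod.natCast_eq_zero_iff] at h2
      have hn : 2 ^ n = 1 := by
        have h3 := Nat.le_of_dvd two_pos h2
        have : 0 < 2 ^ n := by positivity
        omega
      refine isCyclic_of_orderOf_eq_card (e.symm (QuaternionGroup.xa 0)) ?_
      rw [MulEquiv.orderOf_eq, QuaternionGroup.orderOf_xa,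
        Nat.card_congr e.toEquiv, Nat.card_eq_fintype_card, QuaternionGroup.card, hn]
  obtain ⟨a, ha⟩ := IsCyclic.exists_generator (α := A)
  obtain ⟨m, hm⟩ := (hR.to_subgroup A).exists_card_eq
  have hao : orderOf a = 2 ^ m := hm ▸ orderOf_eq_card_of_forall_mem_zpowers ha
  -- the conjugation action
  obtain ⟨κ, hκ⟩ : ∃ κ : R → A, ∀ r, (κ r : R) = r * a * r⁻¹ :=
    ⟨fun r => ⟨r * a * r⁻¹, hAn.conj_mem _ a.2 r⟩, fun r => rfl⟩
  have hpow : ∀ (x : A) (r : R) (j : ℤ), x = a ^ j → r * (x : R) * r⁻¹ = ((κ r ^ j : A) : R) := by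
    intro x r j hx
    rw [hx, SubgroupClass.coe_zpow, SubgroupClass.coe_zpow, hκ, conj_zpow]
  have hfib : ∀ r s : R, κ r = κ s → s⁻¹ * r ∈ A := by
    intro r s h
    have h' := congrArg Subtype.val h
    rw [hκ, hκ] at h'
    refine hC.le (Subgroup.mem_centralizer_iff.mpr fun x hx => ?_)
    obtain ⟨j, hj⟩ := ha ⟨x, hx⟩
    have e : Commute (a : R) (s⁻¹ * r) := by
      show (a : R) * (s⁻¹ * r) = s⁻¹ * r * a
      calc (a : R) * (s⁻¹ * r) = s⁻¹ * (s * a * s⁻¹) * r := by group
        _ = s⁻¹ * (r * a * r⁻¹) * r := by rw [h']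
        _ = _ := by group
    have hx' : ((a : R) ^ j) = x := by
      rw [← SubgroupClass.coe_zpow]; exact congrArg Subtype.val hj
    rw [← hx']
    exact (e.zpow_left j).eq
  have hκe : ∀ e ∈ E, ∀ j : ℤ, κ e = a ^ j → a ^ (j * j) = a := by
    intro e he j hj
    have he2 : e * e = 1 := by rw [← pow_two]; exact hE2 e he
    refine Subtype.ext ?_
    rw [zpow_mul, ← hj, ← hpow (κ e) e j hj, hκ]
    calc e * (e * (a : R) * e⁻¹) * e⁻¹ = (e * e) * a * (e * e)⁻¹ := by group
      _ = a := by rw [he2, one_mul, inv_one, mul_one]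
  -- the image of `E`
  have hEA : Nat.card (E ⊓ A : Subgroup R) ≤ 2 := by
    by_contra h
    obtain ⟨x, hx1⟩ : ∃ x : (E ⊓ A : Subgroup R), x ≠ 1 :=
      haveI : Nontrivial (E ⊓ A : Subgroup R) := Finite.one_lt_card_iff_nontrivial.mp (by omega)
      exists_ne 1
    obtain ⟨y, hy⟩ : ∃ y : (E ⊓ A : Subgroup R), y ∉ ({1, x} : Finset (E ⊓ A : Subgroup R)) := by
      by_contra hall
      simp only [not_exists, not_not] at hall
      have := (Finset.card_le_card fun z (_ : z ∈ Finset.univ) => hall z).trans Finset.card_le_two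
      rw [Finset.card_univ, ← Nat.card_eq_fintype_card] at this
      omega
    simp only [Finset.mem_insert, Finset.mem_singleton, not_or] at hy
    refine hy.2 (Subtype.ext ?_)
    refine (congrArg Subtype.val (hle ⟨x, x.2.2⟩ ⟨y, y.2.2⟩ (Subtype.ext (hE2 _ x.2.1)) (Subtype.ext (hE2 _ y.2.1))
      (fun e => hx1 (Subtype.ext (congrArg Subtype.val e : _))) (fun e => hy.1 (Subtype.ext (congrArg Subtype.val e : _)))) :).symm
  have himg : 4 ≤ ((Finset.univ : Finset E).image fun e : E => κ (e : R)).card := by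
    have h := Finset.card_le_mul_card_image (Finset.univ : Finset E) (f := fun e : E => κ (e : R)) 2 fun b hb => by
      obtain ⟨e₀, -, rfl⟩ := Finset.mem_image.mp hb
      refine le_trans ?_ hEA
      rw [Nat.card_eq_fintype_card, ← Finset.card_univ]
      refine Finset.card_le_card_of_injOn
        (fun e : E => if h : κ (e : R) = κ (e₀ : R) then
          (⟨(e₀ : R)⁻¹ * e, E.mul_mem (E.inv_mem e₀.2) e.2, hfib _ _ h⟩ : (E ⊓ A : Subgroup R)) else 1)
        (fun _ _ => Finset.mem_univ _) ?_
      intro e he e' he' h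
      simp only [Finset.coe_filter, Finset.mem_univ, true_and, Set.mem_setOf_eq] at he he'
      simp only [dif_pos he, dif_pos he'] at h
      exact Subtype.ext (mul_left_cancel (congrArg Subtype.val h))
    rw [Finset.card_univ, ← Nat.card_eq_fintype_card, hE] at h
    omega
  -- all values are `a, a⁻¹, a * c, a⁻¹ * c`
  have hm3 : 3 ≤ m := by
    by_contra h
    have h2 : ((Finset.univ : Finset E).image fun e : E => κ (e : R)).card ≤ 2 := by
      refine le_trans (Finset.card_le_card (t := ({a, a⁻¹} : Finset A)) ?_) Finset.card_le_two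
      intro b hb
      obtain ⟨e, -, rfl⟩ := Finset.mem_image.mp hb
      obtain ⟨j, hj⟩ := ha (κ (e : R))
      have hj' : κ (e : R) = a ^ j := hj.symm
      have h1 := hκe e e.2 j hj'
      simp only [Finset.mem_insert, Finset.mem_singleton]
      have h4 : a ^ (4 : ℤ) = 1 := by
        rw [← orderOf_dvd_iff_zpow_eq_one, hao]
        exact_mod_cast pow_dvd_pow 2 (show m ≤ 2 by omega)
      rw [hj', show j = 4 * (j / 4) + j % 4 from (Int.mul_ediv_add_emod j 4).symm, zpow_add, zpow_mul, h4,
        one_zpow, one_mul]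
      rw [show j * j = 4 * (4 * (j / 4) * (j / 4) + 2 * (j / 4) * (j % 4)) + (j % 4) * (j % 4) by
        conv_lhs => rw [← Int.mul_ediv_add_emod j 4]
        ring, zpow_add, zpow_mul, h4, one_zpow, one_mul] at h1
      have hr : j % 4 = 0 ∨ j % 4 = 1 ∨ j % 4 = 2 ∨ j % 4 = 3 := by omega
      rcases hr with e0 | e0 | e0 | e0 <;> rw [e0] at h1 ⊢
      · left; rw [← h1]; simp
      · left; exact zpow_one a
      · left
        rw [show (2 : ℤ) * 2 = 4 by norm_num, h4] at h1
        rw [← h1, one_zpow]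
      · right
        rw [eq_inv_iff_mul_eq_one, ← zpow_add_one]
        exact_mod_cast h4
    omega
  obtain ⟨c, hc⟩ : ∃ c : A, c = a ^ (2 ^ (m - 1)) := ⟨_, rfl⟩
  have hc2 : c ^ 2 = 1 := by
    rw [hc, ← pow_mul, ← pow_succ, show m - 1 + 1 = m by omega, ← hao, pow_orderOf_eq_one]
  have hc1 : c ≠ 1 := by
    rw [hc]
    refine pow_ne_one_of_lt_orderOf (by positivity) ?_
    rw [hao]; exact Nat.pow_lt_pow_right (by norm_num) (by omega)
  have hsq : ∀ x : A, x ^ 2 = 1 → x = 1 ∨ x = c := fun x hx =>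
    or_iff_not_imp_left.mpr fun hx1 => hle x c hx hc2 hx1 hc1
  obtain ⟨e, he, hec⟩ : ∃ e ∈ E, κ e = a * c := by
    by_contra hno
    have h3 : ((Finset.univ : Finset E).image fun e : E => κ (e : R)).card ≤ 3 := by
      refine le_trans (Finset.card_le_card (t := ({a, a⁻¹, a⁻¹ * c} : Finset A)) ?_) Finset.card_le_three
      intro b hb
      obtain ⟨e, -, rfl⟩ := Finset.mem_image.mp hb
      obtain ⟨j, hj⟩ := ha (κ (e : R))
      have hj' : κ (e : R) = a ^ j := hj.symm
      have h1 := hκe e e.2 j hj'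
      have h2 : a ^ ((j - 1) * (j + 1)) = 1 := by
        rw [show (j - 1) * (j + 1) = j * j + (-1) by ring, zpow_add, h1, zpow_neg_one, mul_inv_cancel]
      rw [← orderOf_dvd_iff_zpow_eq_one, hao] at h2
      push_cast at h2
      simp only [Finset.mem_insert, Finset.mem_singleton]
      rcases Int.even_or_odd j with ⟨i, hi⟩ | ⟨i, hi⟩
      · exfalso
        have h5 : (2 : ℤ) ∣ (j - 1) * (j + 1) := (dvd_pow_self 2 (by omega)).trans h2
        rcases Int.prime_two.dvd_mul.mp h5 with h | h <;> omega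
      · have h6 : (2 : ℤ) ^ (m - 2) ∣ i * (i + 1) := by
          have e4 : (2 : ℤ) ^ m = 4 * 2 ^ (m - 2) := by
            rw [show (4 : ℤ) = 2 ^ 2 by norm_num, ← pow_add]; congr 1; omega
          rw [e4, hi, show (2 * i + 1 - 1) * (2 * i + 1 + 1) = 4 * (i * (i + 1)) by ring] at h2
          exact Int.dvd_of_mul_dvd_mul_left (by norm_num) h2
        have e1 : (2 : ℤ) ^ (m - 1) = 2 * 2 ^ (m - 2) := by
          rw [← pow_succ']; congr 1; omega
        rcases Int.even_or_odd i with hev | hodd
        · have h7 : (2 : ℤ) ^ (m - 2) ∣ i := by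
            refine Int.dvd_of_dvd_mul_left_of_gcd_one h6 ?_
            rw [Int.gcd_comm, ← Int.isCoprime_iff_gcd_eq_one]
            refine IsCoprime.pow_left ?_ |>.symm
            obtain ⟨u, hu⟩ := hev
            exact ⟨-u, 1, by omega⟩
          obtain ⟨u, hu⟩ := h7
          have hq : κ (e : R) = a * c ^ u := by
            rw [hj', hi, hu, ← mul_assoc, ← e1, add_comm, zpow_one_add, zpow_mul, hc, ← zpow_natCast a (2 ^ (m - 1))]
            push_cast
            rfl
          rcases hsq (c ^ u) (by rw [← zpow_natCast, ← zpow_mul, mul_comm, zpow_mul, zpow_natCast, hc2, one_zpow]) with h | h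
          · left; rw [hq, h, mul_one]
          · exact absurd ⟨e, e.2, by rw [hq, h]⟩ hno
        · have h7 : (2 : ℤ) ^ (m - 2) ∣ i + 1 := by
            rw [mul_comm] at h6
            refine Int.dvd_of_dvd_mul_left_of_gcd_one h6 ?_
            rw [Int.gcd_comm, ← Int.isCoprime_iff_gcd_eq_one]
            refine IsCoprime.pow_left ?_ |>.symm
            obtain ⟨u, hu⟩ := hodd
            exact ⟨-u, 1, by omega⟩
          obtain ⟨u, hu⟩ := h7
          have hq : κ (e : R) = a⁻¹ * c ^ u := by
            rw [hj', show j = -1 + 2 ^ (m - 1) * u by rw [e1, hi, mul_assoc, ← hu]; ring, zpow_add, zpow_neg_one,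
              zpow_mul, hc, ← zpow_natCast a (2 ^ (m - 1))]
            push_cast
            rfl
          rcases hsq (c ^ u) (by rw [← zpow_natCast, ← zpow_mul, mul_comm, zpow_mul, zpow_natCast, hc2, one_zpow]) with h | h
          · right; left; rw [hq, h, mul_one]
          · right; right; rw [hq, h]
    omega
  -- the four-group
  have he2 : e * e = 1 := by rw [← pow_two]; exact hE2 e he
  have hcR : (c : R) * c = 1 := by rw [← pow_two]; exact congrArg Subtype.val hc2
  have hec' : e * (a : R) * e⁻¹ = a * c := by rw [← hκ, hec]; rfl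
  have hcz : ∀ g : R, g * (c : R) * g⁻¹ = c := by
    intro g
    rcases hsq ⟨g * c * g⁻¹, hAn.conj_mem _ c.2 g⟩ (Subtype.ext (by
      show (g * (c : R) * g⁻¹) ^ 2 = 1
      rw [conj_pow, pow_two, hcR, mul_one, mul_inv_cancel])) with h | h
    · exact absurd (Subtype.ext (conj_eq_one_iff.mp (congrArg Subtype.val h))) hc1
    · exact congrArg Subtype.val h
  have hcc : ∀ g : R, g * (c : R) = c * g := fun g => mul_inv_eq_iff_eq_mul.mp (hcz g)
  have heA : e ∉ A := by
    intro heA
    have h := congrArg Subtype.val (mul_comm (⟨e, heA⟩ : A) a)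
    simp only [Subgroup.coe_mul] at h
    rw [h, mul_inv_cancel_right] at hec'
    exact hc1 (Subtype.ext (mul_eq_left.mp hec'.symm))
  let U : Subgroup R :=
    { carrier := {1, (c : R), e, (c : R) * e}
      one_mem' := Or.inl rfl
      mul_mem' := by
        intro x y hx hy
        simp only [Set.mem_insert_iff, Set.mem_singleton_iff] at hx hy ⊢
        have h1 : e * ((c : R) * e) = c := by rw [← mul_assoc, hcc e, mul_assoc, he2, mul_one]
        have h2 : (c : R) * (c * e) = e := by rw [← mul_assoc, hcR, one_mul]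
        rcases hx with hx | hx | hx | hx <;> rcases hy with hy | hy | hy | hy <;>
          simp [hx, hy, hcR, he2, hcc e, h1, h2, mul_assoc]
      inv_mem' := by
        have hi : (c : R)⁻¹ = c := inv_eq_of_mul_eq_one_right hcR
        have hj : e⁻¹ = e := inv_eq_of_mul_eq_one_right he2
        intro x hx
        simp only [Set.mem_insert_iff, Set.mem_singleton_iff] at hx ⊢
        rcases hx with hx | hx | hx | hx <;> simp [hx, hi, hj, hcc e] }
  have hU : ∀ x, x ∈ U ↔ x = 1 ∨ x = c ∨ x = e ∨ x = c * e := fun x => Iff.rfl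
  have hU2 : ∀ u ∈ U, u ^ 2 = 1 := by
    intro u hu
    rcases (hU u).mp hu with h | h | h | h <;> rw [h]
    · exact one_pow 2
    · rw [pow_two, hcR]
    · rw [pow_two, he2]
    · rw [pow_two, mul_assoc, ← mul_assoc e, hcc e, mul_assoc (c : R) e, he2, mul_one, hcR]
  refine ⟨U, ⟨?_⟩, ?_, hU2⟩
  · have hconj : ∀ g : R, g * e * g⁻¹ = e ∨ g * e * g⁻¹ = c * e := by
      intro g
      obtain ⟨j, hj⟩ := ha (κ g⁻¹)
      have hj' : κ g⁻¹ = a ^ j := hj.symm
      have hjodd : (c : R) ^ j = c := by
        rcases Int.even_or_odd j with ⟨i, hi⟩ | ⟨i, hi⟩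
        · exfalso
          have h1 : (a : R) ^ ((2 : ℤ) * i) = g⁻¹ * a * g := by
            rw [← two_mul] at hi
            rw [← hi, ← SubgroupClass.coe_zpow, ← hj', hκ, inv_inv]
          refine hc1 (Subtype.ext ?_)
          have h2 : (g⁻¹ * (a : R) * g) ^ (2 ^ (m - 1)) = 1 := by
            rw [← h1, ← zpow_natCast, ← zpow_mul, show (2 : ℤ) * i * ((2 ^ (m - 1) : ℕ) : ℤ) = ((2 ^ m : ℕ) : ℤ) * i by
              push_cast
              rw [show (2 : ℤ) ^ m = 2 * 2 ^ (m - 1) by rw [← pow_succ']; congr 1; omega]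
              ring, zpow_mul, zpow_natCast, ← SubgroupClass.coe_pow, ← hao, pow_orderOf_eq_one, Subgroup.coe_one, one_zpow]
          rw [show g⁻¹ * (a : R) * g = g⁻¹ * a * g⁻¹⁻¹ by rw [inv_inv], conj_pow, conj_eq_one_iff] at h2
          rw [hc, SubgroupClass.coe_pow]
          exact h2
        · rw [hi, zpow_add, zpow_mul, zpow_two, hcR, one_zpow, one_mul, zpow_one]
      have hκg : κ (g * e * g⁻¹) = κ e := by
        refine Subtype.ext ?_
        rw [hκ, hec]
        calc g * e * g⁻¹ * (a : R) * (g * e * g⁻¹)⁻¹ = g * (e * (g⁻¹ * a * g⁻¹⁻¹) * e⁻¹) * g⁻¹ := by group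
          _ = g * ((e * a * e⁻¹) ^ j) * g⁻¹ := by rw [← hκ, hj', SubgroupClass.coe_zpow, conj_zpow]
          _ = g * ((g⁻¹ * a * g⁻¹⁻¹) * c) * g⁻¹ := by
              rw [hec', (show Commute (a : R) c from hcc a).mul_zpow, hjodd, ← SubgroupClass.coe_zpow, ← hj', hκ]
          _ = (a : R) * (g * c * g⁻¹) := by group
          _ = (a : R) * c := by rw [hcz]
          _ = _ := rfl
      have hb := hfib _ _ hκg
      obtain ⟨i, hi⟩ := ha ⟨_, hb⟩
      have hi' : (a : R) ^ i = e⁻¹ * (g * e * g⁻¹) := by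
        rw [← SubgroupClass.coe_zpow]; exact congrArg Subtype.val hi
      have hsq' : ((e⁻¹ * (g * e * g⁻¹)) * (e * (e⁻¹ * (g * e * g⁻¹)) * e⁻¹)) = 1 := by
        have hej : e⁻¹ = e := inv_eq_of_mul_eq_one_right he2
        calc _ = e⁻¹ * (g * e * g⁻¹) * (g * e * g⁻¹) * e⁻¹ := by group
          _ = e⁻¹ * (g * (e * e) * g⁻¹) * e⁻¹ := by group
          _ = 1 := by rw [he2, mul_one, mul_inv_cancel, mul_one, hej, he2]
      rw [← hi', ← conj_zpow, hec', (show Commute (a : R) c from hcc a).mul_zpow, ← mul_assoc, ← zpow_add] at hsq'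
      rcases Int.even_or_odd i with ⟨k, hk⟩ | ⟨k, hk⟩
      · rw [show (c : R) ^ i = 1 by rw [hk, ← two_mul, zpow_mul, zpow_two, hcR, one_zpow], mul_one] at hsq'
        have h5 : ((a ^ i) ^ 2 : A) = 1 := Subtype.ext (by
          rw [SubgroupClass.coe_pow, SubgroupClass.coe_zpow, pow_two, ← zpow_add]; exact hsq')
        rcases hsq _ h5 with h | h
        · left
          have h6 := congrArg Subtype.val h
          rw [SubgroupClass.coe_zpow, hi'] at h6
          exact (inv_mul_eq_one.mp h6).symm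
        · right
          have h6 := congrArg Subtype.val h
          rw [SubgroupClass.coe_zpow, hi', inv_mul_eq_iff_eq_mul, hcc] at h6
          exact h6
      · exfalso
        have h5 : (a ^ (i + i + 2 ^ (m - 1)) : A) = 1 := Subtype.ext (by
          rw [SubgroupClass.coe_zpow, zpow_add]
          have : (a : R) ^ ((2 : ℤ) ^ (m - 1)) = c := by
            rw [hc, SubgroupClass.coe_pow, ← zpow_natCast]; push_cast; rfl
          rw [this]
          rwa [show (c : R) ^ i = c by rw [hk, zpow_add, zpow_mul, zpow_two, hcR, one_zpow, one_mul, zpow_one]] at hsq')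
        rw [← orderOf_dvd_iff_zpow_eq_one, hao] at h5
        push_cast at h5
        have h6 : (4 : ℤ) ∣ (2 : ℤ) ^ m := by
          exact_mod_cast pow_dvd_pow (2 : ℤ) (show 2 ≤ m by omega)
        have h7 : (4 : ℤ) ∣ (2 : ℤ) ^ (m - 1) := by
          exact_mod_cast pow_dvd_pow (2 : ℤ) (show 2 ≤ m - 1 by omega)
        have h8 := h6.trans h5
        rw [hk] at h8
        omega
    intro u hu g
    rcases (hU u).mp hu with hh | hh | hh | hh <;> rw [hh] at hu ⊢
    · simpa using (hU 1).mpr (Or.inl rfl)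
    · rw [hcz]; exact hu
    · rcases hconj g with h | h <;> rw [h]
      · exact hu
      · exact (hU _).mpr (Or.inr (Or.inr (Or.inr rfl)))
    · rw [show g * ((c : R) * e) * g⁻¹ = (g * c * g⁻¹) * (g * e * g⁻¹) by group, hcz]
      rcases hconj g with h | h <;> rw [h]
      · exact hu
      · rw [← mul_assoc, hcR, one_mul]; exact (hU _).mpr (Or.inr (Or.inr (Or.inl rfl)))
  · show Nat.card ↥({1, (c : R), e, (c : R) * e} : Set R) = 4
    have hcne : (c : R) ≠ 1 := fun h => hc1 (Subtype.ext h)
    have hene : e ≠ 1 := fun h => heA (h ▸ one_mem A)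
    have hce : (c : R) ≠ e := fun h => heA (h ▸ c.2)
    have h1 : (c : R) * e ≠ 1 := fun h => hce (by rw [mul_eq_one_iff_eq_inv.mp h, inv_eq_of_mul_eq_one_right he2])
    rw [Nat.card_coe_set_eq, Set.ncard_insert_of_notMem, Set.ncard_insert_of_notMem, Set.ncard_insert_of_notMem,
      Set.ncard_singleton]
    · simp only [Set.mem_singleton_iff]
      exact fun h => hcne (mul_eq_right.mp h.symm)
    · simp only [Set.mem_insert_iff, Set.mem_singleton_iff, not_or]
      exact ⟨hce, fun h => hene (mul_eq_left.mp h.symm)⟩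
    · simp only [Set.mem_insert_iff, Set.mem_singleton_iff, not_or]
      exact ⟨Ne.symm hcne, Ne.symm hene, Ne.symm h1⟩

end Cfsg.Agent.Invol.NormalFour
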