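import Cfsg.Agent.Lib.Invol.PushTildeBase

/-!
# Pushing up: the normal closure of `C_S(Z(J(S)))`
-/

set_option autoImplicit false
set_option linter.style.haveILetI false
set_option linter.unusedSectionVars false

namespace Cfsg.Agent.Invol.PushTilde

open Subgroup
open scoped commutatorElement

universe u

variable {G : Type u} [Group G] [Finite G] {p : ℕ} [hp : Fact p.Prime]

/-- Elements of `W` fixed by `H` modulo the centre. -/
def cmod (H W : Subgroup G) : Subgroup G where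
  carrier := {x | x ∈ W ∧ ∀ s ∈ H, s * x * s⁻¹ * x⁻¹ ∈ center G}
  one_mem' := ⟨one_mem _, fun s _ => by simp⟩
  mul_mem' := fun {x y} hx hy => ⟨mul_mem hx.1 hy.1, fun s hs => by
    have h := Subgroup.mem_center_iff.mp (hy.2 s hs) x
    have e : s * (x * y) * s⁻¹ * (x * y)⁻¹ = (s * x * s⁻¹ * x⁻¹) * (x * (s * y * s⁻¹ * y⁻¹) * x⁻¹) := by group
    rw [e, h, mul_inv_cancel_right]
    exact mul_mem (hx.2 s hs) (hy.2 s hs)⟩
  inv_mem' := fun {x} hx => ⟨inv_mem hx.1, fun s hs => by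
    have h := Subgroup.mem_center_iff.mp (inv_mem (hx.2 s hs)) x⁻¹
    have e : s * x⁻¹ * s⁻¹ * x⁻¹⁻¹ = x⁻¹ * (s * x * s⁻¹ * x⁻¹)⁻¹ * x := by group
    rw [e, h, inv_mul_cancel_right]
    exact inv_mem (hx.2 s hs)⟩

theorem mem_cmod {H W : Subgroup G} {x : G} :
    x ∈ cmod H W ↔ x ∈ W ∧ ∀ s ∈ H, s * x * s⁻¹ * x⁻¹ ∈ center G := Iff.rfl

/-- Elements moving `x` only by central elements. -/
def stabMod (x : G) : Subgroup G where
  carrier := {g | g * x * g⁻¹ * x⁻¹ ∈ center G}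
  one_mem' := by simp
  mul_mem' := fun {g h} hg hh => by
    show g * h * x * (g * h)⁻¹ * x⁻¹ ∈ center G
    have e : g * h * x * (g * h)⁻¹ * x⁻¹ = (g * (h * x * h⁻¹ * x⁻¹) * g⁻¹) * (g * x * g⁻¹ * x⁻¹) := by group
    rw [e, Subgroup.mem_center_iff.mp hh g, mul_inv_cancel_right]
    exact mul_mem hh hg
  inv_mem' := fun {g} hg => by
    show g⁻¹ * x * g⁻¹⁻¹ * x⁻¹ ∈ center G
    have e : g⁻¹ * x * g⁻¹⁻¹ * x⁻¹ = g⁻¹ * (g * x * g⁻¹ * x⁻¹)⁻¹ * g := by group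
    rw [e, Subgroup.mem_center_iff.mp (inv_mem hg) g⁻¹, inv_mul_cancel_right]
    exact inv_mem hg

theorem top_of_two (S : Sylow p G) {M : Subgroup G} (hnn : normalizer (M : Set G) = M)
    (huniq : ∀ M' : Subgroup G, IsCoatom M' ∧ (S : Subgroup G) ≤ M' → M' = M) {w : G} (hw : w ∉ M)
    {N : Subgroup G} (h1 : (S : Subgroup G) ≤ N) (h2 : ∀ s ∈ (S : Subgroup G), w * s * w⁻¹ ∈ N) : N = ⊤ := by
  by_contra hne'
  obtain ⟨M', hM', hle⟩ := (eq_top_or_exists_le_coatom N).resolve_left hne'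
  obtain rfl := huniq M' ⟨hM', h1.trans hle⟩
  have hback : IsCoatom (M'.map (MulAut.conj w⁻¹).toMonoidHom) ∧
      (S : Subgroup G) ≤ M'.map (MulAut.conj w⁻¹).toMonoidHom :=
    ⟨((MulAut.conj w⁻¹).mapSubgroup.isCoatom_iff M').mpr hM',
      fun s hs => ⟨_, hle (h2 s hs), by simp [mul_assoc]⟩⟩
  refine hw (inv_mem_iff.mp ?_)
  rw [← hnn]
  exact mem_normalizer_fintype fun a ha => (huniq _ hback).le ⟨a, ha, by simp⟩

/-- Counting conjugates of a subgroup which meet only in `D`. -/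
theorem count_bound {F : Type} [Fintype F] {n : ℕ} (hF : Fintype.card F = p ^ n) {M : Subgroup G}
    {f : Option F → G} (hf : ∀ i j, i ≠ j → (f i)⁻¹ * f j ∉ M) {W C D : Subgroup G} [W.Normal]
    (hW : IsPGroup p W) (hCW : C ≤ W) (hDC : D ≤ C) (hne : D ≠ C)
    (hdisj : ∀ x ∈ C, x ∉ D → ∀ w ∉ M, w * x * w⁻¹ ∈ C → w * x * w⁻¹ ∈ D) (hDn : ∀ g : G, ∀ x ∈ D, g * x * g⁻¹ ∈ D) :
    Fintype.card F * Nat.card C ≤ Nat.card W := by
  classical
  obtain ⟨A, hA⟩ : ∃ A : Type u, A = {x : ↥C // (x : G) ∉ D} := ⟨_, rfl⟩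
  subst hA
  have hinj : Function.Injective (fun a : Option F × {x : ↥C // (x : G) ∉ D} =>
      (⟨f a.1 * ((a.2 : ↥C) : G) * (f a.1)⁻¹,
        (inferInstance : W.Normal).conj_mem _ (hCW (a.2 : ↥C).2) _⟩ : W)) := by
    rintro ⟨i, x⟩ ⟨j, y⟩ h
    have h' : f i * ((x : ↥C) : G) * (f i)⁻¹ = f j * ((y : ↥C) : G) * (f j)⁻¹ := congrArg Subtype.val h
    by_cases hij : i = j
    · subst hij
      have h'' : ((x : ↥C) : G) = ((y : ↥C) : G) := by simpa using h'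
      exact Prod.ext rfl (Subtype.ext (Subtype.ext h''))
    exfalso
    have hx : ((x : ↥C) : G) = ((f i)⁻¹ * f j) * ((y : ↥C) : G) * ((f i)⁻¹ * f j)⁻¹ := by
      calc ((x : ↥C) : G) = (f i)⁻¹ * (f i * ((x : ↥C) : G) * (f i)⁻¹) * f i := by group
        _ = ((f i)⁻¹ * f j) * ((y : ↥C) : G) * ((f i)⁻¹ * f j)⁻¹ := by rw [h']; group
    apply x.2
    rw [hx]
    exact hdisj _ (y : ↥C).2 y.2 _ (hf i j hij) (hx ▸ (x : ↥C).2)
  have hle := Nat.card_le_card_of_injective _ hinj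
  rw [Nat.card_prod, Nat.card_eq_fintype_card, Fintype.card_option, hF] at hle
  obtain ⟨A, hAdef⟩ : ∃ A, A = Nat.card {x : ↥C // (x : G) ∉ D} := ⟨_, rfl⟩
  rw [← hAdef] at hle
  have hA : A + Nat.card D = Nat.card C := by
    rw [hAdef, ← Nat.card_congr (subgroupOfEquivOfLe hDC).toEquiv,
      ← Nat.card_congr (Equiv.sumCompl (fun x : ↥C => (x : G) ∈ D)), Nat.card_sum, add_comm]
    rfl
  have hC : IsPGroup p C := hW.to_le hCW
  obtain ⟨c, hc⟩ := IsPGroup.iff_card.mp hC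
  obtain ⟨z, hz⟩ := IsPGroup.iff_card.mp (hC.to_le hDC)
  obtain ⟨w, hw⟩ := IsPGroup.iff_card.mp hW
  have hzc : z < c := by
    refine (Nat.pow_lt_pow_iff_right hp.out.one_lt).mp ?_
    rw [← hz, ← hc]
    exact lt_of_le_of_ne (card_le_of_le hDC) fun he => hne (eq_of_le_of_card_ge hDC he.ge)
  rw [hc, hz] at hA
  rw [hF, hc, hw, ← pow_add]
  refine Nat.pow_le_pow_right hp.out.pos ?_
  by_contra hlt
  push Not at hlt
  have h1 : p ^ (z + 1) ≤ p ^ c := Nat.pow_le_pow_right hp.out.pos hzc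
  have h2 : p ^ (w + 1) ≤ p ^ (n + c) := Nat.pow_le_pow_right hp.out.pos hlt
  have h3 := hp.out.two_le
  rw [hw] at hle
  rw [pow_succ] at h1 h2
  rw [pow_add] at h2
  have h4 : 0 < p ^ c := pow_pos hp.out.pos c
  have h5 : 0 < p ^ n := pow_pos hp.out.pos n
  have hAp : p ^ c ≤ A * p := by nlinarith
  have h6 := Nat.mul_le_mul_left (p ^ n + 1) hAp
  have h7 := Nat.mul_le_mul_right p hle
  nlinarith

/-- `C(Z(J)) ∩ S` is normal, or its normal closure `N` satisfies `Z(J) = C_{Z(J)}(N) Z(S)`. -/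
theorem tilde_decomp (S : Sylow p G) (hE₁ : centralizer (Cfsg.pCore p G : Set G) ≤ Cfsg.pCore p G)
    (hE₂ : ∃! M : Subgroup G, IsCoatom M ∧ (S : Subgroup G) ≤ M)
    {F : Type} [Field F] [Fintype F] {n : ℕ} (hF : Fintype.card F = p ^ n) (K : Subgroup G) [K.Normal]
    (e : G ⧸ K ≃* Matrix.ProjectiveSpecialLinearGroup (Fin 2) F)
    (hne : ¬ (S : Subgroup G) ⊓ centralizer ((S : Subgroup G) : Set G) ≤ center G) :
    ((S : Subgroup G) ⊓ centralizer (Cfsg.centerThompsonAOf (S : Subgroup G) : Set G)).Normal ∨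
      (normalClosure (((S : Subgroup G) ⊓ centralizer (Cfsg.centerThompsonAOf (S : Subgroup G) : Set G) : Subgroup G) : Set G)
          ⊔ (S : Subgroup G) = ⊤ ∧
        ∀ z ∈ Cfsg.centerThompsonAOf (S : Subgroup G), ∃ z' ∈ centralizer ((normalClosure
          (((S : Subgroup G) ⊓ centralizer (Cfsg.centerThompsonAOf (S : Subgroup G) : Set G) : Subgroup G) : Set G) : Subgroup G) : Set G),
          z'⁻¹ * z ∈ (S : Subgroup G) ⊓ centralizer ((S : Subgroup G) : Set G)) := by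
  classical
  haveI := Nat2.charP_of_card (F := F) hF
  obtain ⟨C, hC⟩ : ∃ C, C = (S : Subgroup G) ⊓ centralizer ((S : Subgroup G) : Set G) := ⟨_, rfl⟩
  obtain ⟨J, hJ⟩ : ∃ J, J = Cfsg.thompsonSubgroupAOf (S : Subgroup G) := ⟨_, rfl⟩
  obtain ⟨ZJ, hZJ⟩ : ∃ ZJ, ZJ = Cfsg.centerThompsonAOf (S : Subgroup G) := ⟨_, rfl⟩
  obtain ⟨Jt, hJt⟩ : ∃ Jt, Jt = (S : Subgroup G) ⊓ centralizer (ZJ : Set G) := ⟨_, rfl⟩
  rw [← hC] at hne ⊢
  rw [← hZJ, ← hJt]
  by_cases hJn : Jt.Normal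
  · exact Or.inl hJn
  right
  obtain ⟨M, ⟨hM, hSM⟩, huniq⟩ := id hE₂
  obtain ⟨-, hnn, ⟨f, hf⟩, hcardS⟩ := PushCL.exists_cosets S hM hSM huniq K e
  obtain ⟨q, hq⟩ : ∃ q, q = Nat.card ((S : Subgroup G).map (QuotientGroup.mk' K)) := ⟨_, rfl⟩
  rw [← hq] at hcardS
  obtain ⟨T, hT⟩ : ∃ T, T = Cfsg.pCore p G := ⟨_, rfl⟩
  rw [← hT] at hE₁
  haveI hTn : T.Normal := hT ▸ Grp.pCore_isNormal
  have hTS : T ≤ (S : Subgroup G) := hT ▸ Grp.pCore_le_sylow S
  have hKT : (S : Subgroup G) ⊓ K ≤ T := hT ▸ inf_kernel_le_core S hE₂ K e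
  have hq_le : ∀ X : Subgroup G, X ≤ (S : Subgroup G) → Nat.card X ≤ q * Nat.card ↥(X ⊓ T) :=
    fun X hX => hq ▸ card_le_image_mul S K hKT hX
  obtain ⟨W, hW⟩ : ∃ W, W = T ⊓ centralizer (T : Set G) := ⟨_, rfl⟩
  have hCn := PushUnique.centralizer_normal' T
  haveI hWn : W.Normal := hW ▸ ⟨fun x hx g => ⟨hTn.conj_mem x hx.1 g, hCn.conj_mem x hx.2 g⟩⟩
  have hC1 : ∀ x ∈ C, x ∈ (S : Subgroup G) ∧ x ∈ centralizer ((S : Subgroup G) : Set G) := fun x hx => by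
    rw [hC] at hx; exact hx
  have hCW : C ≤ W := fun z hz => by
    rw [hW]; exact ⟨hE₁ (centralizer_le hTS (hC1 z hz).2), centralizer_le hTS (hC1 z hz).2⟩
  have hWT : W ≤ T := hW ▸ inf_le_left
  have hWab : W ≤ centralizer (W : Set G) := by
    rw [hW]; exact inf_le_right.trans (centralizer_le inf_le_left)
  have hWTc : ∀ w ∈ W, ∀ t ∈ T, t * w = w * t := fun w hw t ht => by
    rw [hW] at hw; exact mem_centralizer_iff.mp hw.2 t ht
  have hWp : IsPGroup p W := S.isPGroup'.to_le (hWT.trans hTS)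
  have hJS : J ≤ (S : Subgroup G) := hJ ▸ Fus.thompsonA_le _
  have hZJ1 : ∀ z ∈ ZJ, z ∈ J ∧ z ∈ centralizer (J : Set G) := fun z hz => by
    rw [hZJ] at hz; rw [hJ]; exact hz
  have hZJS : ZJ ≤ (S : Subgroup G) := fun z hz => hJS (hZJ1 z hz).1
  have hJtS : Jt ≤ (S : Subgroup G) := hJt ▸ inf_le_left
  have hJJt : J ≤ Jt := fun x hx => by
    rw [hJt]
    exact ⟨hJS hx, mem_centralizer_iff.mpr fun z hz => (mem_centralizer_iff.mp (hZJ1 z hz).2 x hx).symm⟩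
  have hCZJ : C ≤ ZJ := fun x hx => by
    have h : x ∈ centralizer (J : Set G) := centralizer_le hJS (hC1 x hx).2
    rw [hJ] at h
    rw [hZJ]
    exact ⟨Fus.centralizer_thompsonA_le ⟨(hC1 x hx).1, h⟩, h⟩
  -- the Thompson subgroup is not in the core
  have hJT : ¬ J ≤ T := by
    intro hle
    haveI hJn' : J.Normal := hJ ▸ PushUnique.thompson_normal hTS (hJ ▸ hle)
    have hCJ := PushUnique.centralizer_normal' J
    haveI hZn : ZJ.Normal := ⟨fun x hx g => by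
      have h := hZJ1 x hx
      rw [hZJ]
      show g * x * g⁻¹ ∈ Cfsg.thompsonSubgroupAOf (S : Subgroup G) ⊓
        centralizer (Cfsg.thompsonSubgroupAOf (S : Subgroup G) : Set G)
      rw [← hJ]
      exact ⟨hJn'.conj_mem x h.1 g, hCJ.conj_mem x h.2 g⟩⟩
    haveI := PushUnique.centralizer_normal' ZJ
    rcases PushUnique.sup_eq_top_or_normal S hE₂ (centralizer (ZJ : Set G)) with htop | hn
    · exact hne fun x hx => PushUnique.mem_center_of htop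
        (fun m hm => (mem_centralizer_iff.mp hm x (hCZJ hx)).symm) (fun s hs => mem_centralizer_iff.mp (hC1 x hx).2 s hs)
    · exact hJn (hJt ▸ hn)
  have hJtT : ¬ Jt ≤ T := fun h => hJT (hJJt.trans h)
  have hinvJt : ∀ m : G, (∀ s ∈ (S : Subgroup G), m * s * m⁻¹ ∈ (S : Subgroup G)) → ∀ x ∈ Jt, m * x * m⁻¹ ∈ Jt := by
    intro m hm x hx
    rw [hJt, hZJ] at hx ⊢
    exact tilde_conj_mem hm hx
  have hinvZJ : ∀ m : G, (∀ s ∈ (S : Subgroup G), m * s * m⁻¹ ∈ (S : Subgroup G)) → ∀ x ∈ ZJ, m * x * m⁻¹ ∈ ZJ := by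
    intro m hm x hx
    rw [hZJ] at hx ⊢
    exact centerThompson_conj_mem hm hx
  have hSconj : ∀ s ∈ (S : Subgroup G), ∀ a ∈ (S : Subgroup G), s * a * s⁻¹ ∈ (S : Subgroup G) :=
    fun s hs a ha => mul_mem (mul_mem hs ha) (inv_mem hs)
  have hsup_inv : ∀ X : Subgroup G, (∀ m : G, (∀ s ∈ (S : Subgroup G), m * s * m⁻¹ ∈ (S : Subgroup G)) → ∀ x ∈ X, m * x * m⁻¹ ∈ X) →
      ∀ m : G, (∀ s ∈ (S : Subgroup G), m * s * m⁻¹ ∈ (S : Subgroup G)) → ∀ x ∈ X ⊔ T, m * x * m⁻¹ ∈ X ⊔ T := by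
    intro X hX m hm x hx
    have hle : X ⊔ T ≤ (X ⊔ T).comap (MulAut.conj m).toMonoidHom :=
      sup_le (fun a ha => mem_sup_left (hX m hm a ha)) (fun a ha => mem_sup_right (hTn.conj_mem a ha m))
    exact hle hx
  have hJtTS : Jt ⊔ T = (S : Subgroup G) :=
    eq_of_normalizer_invariant S K e hKT (sup_le hJtS hTS) le_sup_right (hsup_inv Jt hinvJt)
      fun h => hJtT (le_sup_left.trans h)
  have hsplitS : ∀ s ∈ (S : Subgroup G), ∃ j ∈ Jt, ∃ t ∈ T, j * t = s := by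
    intro s hs
    rw [← hJtTS] at hs
    have hn' : Jt ≤ normalizer (T : Set G) := by rw [normalizer_eq_top_iff.mpr hTn]; exact le_top
    exact (Subgroup.coe_mul_of_left_le_normalizer_right _ _ hn').subset hs
  have hfixC : ∀ w ∈ W, (∀ j ∈ Jt, j * w = w * j) → w ∈ C := by
    intro w hw h
    rw [hC]
    refine ⟨hTS (hWT hw), mem_centralizer_iff.mpr fun s hs => ?_⟩
    obtain ⟨j, hj, t, ht, rfl⟩ := hsplitS s hs
    rw [mul_assoc, hWTc w hw t ht, ← mul_assoc, h j hj, mul_assoc]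
  -- the bound from below
  have hlow : q * Nat.card C ≤ Nat.card W :=
    hq ▸ PushCL.center_bound S hE₂ hF K e hWp hCW (fun x hx => (hC1 x hx).2) hne
  have hBZJ : ∀ B, Fus.IsMaxAb (S : Subgroup G) B → ZJ ≤ B := fun B hB => hZJ ▸ centerThompson_le_maxAb hB
  have habW : ∀ B : Subgroup G, Fus.IsMaxAb (S : Subgroup G) B →
      ∀ x ∈ (B ⊓ T) ⊔ W, ∀ y ∈ (B ⊓ T) ⊔ W, x * y = y * x := by
    intro B hB x hx y hy
    have hle : (B ⊓ T) ⊔ W ≤ centralizer (((B ⊓ T) ⊔ W : Subgroup G) : Set G) := by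
      refine sup_le (le_trans (le_inf ?_ ?_) (Invol.centralizer_sup_le _ _))
        (le_trans (le_inf ?_ ?_) (Invol.centralizer_sup_le _ _))
      · exact fun a ha => mem_centralizer_iff.mpr fun b hb => hB.2.1 b hb.1 a ha.1
      · exact fun a ha => mem_centralizer_iff.mpr fun b hb => (hWTc b hb a ha.2).symm
      · exact fun a ha => mem_centralizer_iff.mpr fun b hb => hWTc a ha b hb.2
      · exact hWab
    exact (mem_centralizer_iff.mp (hle hx) y hy).symm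
  have hreplace : ∀ B, Fus.IsMaxAb (S : Subgroup G) B → Nat.card B * Nat.card ↥(B ⊓ W) ≤ Nat.card ↥(B ⊓ T) * Nat.card W →
      Fus.IsMaxAb (S : Subgroup G) ((B ⊓ T) ⊔ W) := by
    intro B hB hle
    refine ⟨sup_le (inf_le_right.trans hTS) (hWT.trans hTS), habW B hB, fun X hX hc => (hB.2.2 X hX hc).trans ?_⟩
    have h := Grp.card_sup_mul_card_inf_normal (H := B ⊓ T) (N := W)
    rw [show (B ⊓ T) ⊓ W = B ⊓ W by rw [inf_assoc, inf_eq_right.mpr hWT]] at h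
    exact Nat.le_of_mul_le_mul_right (h ▸ hle) Nat.card_pos
  obtain ⟨B₁, hB₁⟩ := exists_isMaxAb (S : Subgroup G)
  have hZJT : ZJ ≤ T := by
    by_contra hno
    have hS' : ZJ ⊔ T = (S : Subgroup G) :=
      eq_of_normalizer_invariant S K e hKT (sup_le hZJS hTS) le_sup_right (hsup_inv ZJ hinvZJ)
        fun h => hno (le_sup_left.trans h)
    have hBW : B₁ ⊓ W ≤ C := fun w hw => by
      rw [hC]
      refine ⟨hTS (hWT hw.2), mem_centralizer_iff.mpr fun s hs => mem_centralizer_singleton_iff.mp ?_⟩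
      refine (sup_le ?_ ?_ : ZJ ⊔ T ≤ centralizer ({w} : Set G)) (hS' ▸ hs)
      · exact fun a ha => mem_centralizer_singleton_iff.mpr (hB₁.2.1 a (hBZJ B₁ hB₁ ha) w hw.1)
      · exact fun a ha => mem_centralizer_singleton_iff.mpr (hWTc w hw.2 a ha)
    have h := hreplace B₁ hB₁ (by
      calc Nat.card B₁ * Nat.card ↥(B₁ ⊓ W) ≤ (q * Nat.card ↥(B₁ ⊓ T)) * Nat.card C :=
            Nat.mul_le_mul (hq_le B₁ hB₁.1) (card_le_of_le hBW)
        _ = Nat.card ↥(B₁ ⊓ T) * (q * Nat.card C) := by ring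
        _ ≤ _ := Nat.mul_le_mul_left _ hlow)
    exact hno ((hBZJ _ h).trans (sup_le inf_le_right hWT))
  have hWJt : W ≤ Jt := fun w hw => by
    rw [hJt]
    exact ⟨hTS (hWT hw), mem_centralizer_iff.mpr fun z hz => hWTc w hw z (hZJT hz)⟩
  obtain ⟨T₁, hT₁⟩ : ∃ T₁, T₁ = Jt ⊓ T := ⟨_, rfl⟩
  have hZJab : ∀ x ∈ ZJ, ∀ y ∈ ZJ, x * y = y * x := fun x hx y hy =>
    mem_centralizer_iff.mp (hZJ1 y hy).2 x (hZJ1 x hx).1
  have hmeas : ∀ X : Subgroup G, X ≤ Jt →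
      Nat.card X * Nat.card ↥(Jt ⊓ centralizer (X : Set G)) ≤ Nat.card Jt * Nat.card ZJ := by
    intro X hX
    have h := measure_le (S : Subgroup G) (X := X) (by rw [← hZJ, ← hJt]; exact hX)
    rwa [← hZJ, ← hJt] at h
  have hJtZJ : ZJ ≤ Jt := fun z hz => hJJt (hZJ1 z hz).1
  have hzjfix : ∀ j ∈ Jt, ∀ z ∈ ZJ, j * z = z * j := fun j hj z hz => by
    rw [hJt] at hj
    exact (mem_centralizer_iff.mp hj.2 z hz).symm
  have hZW : ZJ ⊓ W = C := le_antisymm (fun x hx => hfixC x hx.2 fun j hj => hzjfix j hj x hx.1) (le_inf hCZJ hCW)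
  have hup : Nat.card W ≤ q * Nat.card C := by
    have hin : ZJ ⊔ W ≤ Jt ⊓ centralizer (T₁ : Set G) := by
      refine sup_le (le_inf hJtZJ fun z hz => mem_centralizer_iff.mpr fun a ha => ?_)
        (le_inf hWJt fun z hz => mem_centralizer_iff.mpr fun a ha => ?_)
      · rw [SetLike.mem_coe, hT₁] at ha; exact hzjfix a ha.1 z hz
      · rw [SetLike.mem_coe, hT₁] at ha; exact hWTc z hz a ha.2
    have h1 := hmeas T₁ (hT₁ ▸ inf_le_left)
    have h2 := Grp.card_sup_mul_card_inf_normal (H := ZJ) (N := W)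
    rw [hZW] at h2
    have h3 := hq_le Jt hJtS
    rw [← hT₁] at h3
    have h4 : Nat.card T₁ * Nat.card ↥(ZJ ⊔ W) ≤ q * Nat.card T₁ * Nat.card ZJ :=
      ((Nat.mul_le_mul_left _ (card_le_of_le hin)).trans h1).trans (Nat.mul_le_mul_right _ h3)
    have h5 := Nat.mul_le_mul_right (Nat.card C) h4
    rw [mul_assoc, h2] at h5
    refine Nat.le_of_mul_le_mul_left ?_ (Nat.mul_pos (Nat.card_pos (α := T₁)) (Nat.card_pos (α := ZJ)))
    calc Nat.card T₁ * Nat.card ZJ * Nat.card W = Nat.card T₁ * (Nat.card ZJ * Nat.card W) := by ring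
      _ ≤ q * Nat.card T₁ * Nat.card ZJ * Nat.card C := h5
      _ = _ := by ring
  have hT₁n : Jt ≤ normalizer (T₁ : Set G) := fun j hj => mem_normalizer_fintype fun a ha => by
    rw [SetLike.mem_coe, hT₁] at ha ⊢
    have h1 : j * a * j⁻¹ ∈ Jt := mul_mem (mul_mem hj ha.1) (inv_mem hj)
    exact ⟨h1, hTn.conj_mem a ha.2 j⟩
  -- every abelian subgroup of largest order has a replacement in the core
  have hrep : ∀ B, Fus.IsMaxAb (S : Subgroup G) B → Fus.IsMaxAb (S : Subgroup G) ((B ⊓ T) ⊔ W) := by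
    intro B hB
    have hBJt : B ≤ Jt := fun b hb => hJJt (hJ ▸ hB.le_thompsonA hb)
    refine hreplace B hB ?_
    have hsup := Grp.card_sup_mul_card_inf (H := B) (N := T₁) (hBJt.trans hT₁n)
    rw [show B ⊓ T₁ = B ⊓ T by rw [hT₁, ← inf_assoc, inf_eq_left.mpr hBJt]] at hsup
    have h2 := Grp.card_sup_mul_card_inf_normal (H := ZJ) (N := W)
    have hin : ZJ ⊔ (B ⊓ W) ≤ Jt ⊓ centralizer ((B ⊔ T₁ : Subgroup G) : Set G) := by
      refine le_inf (sup_le hJtZJ (inf_le_right.trans hWJt))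
        (le_trans (le_inf (sup_le ?_ ?_) (sup_le ?_ ?_)) (Invol.centralizer_sup_le _ _))
      · exact fun z hz => mem_centralizer_iff.mpr fun a ha => hzjfix a (hBJt ha) z hz
      · exact fun z hz => mem_centralizer_iff.mpr fun a ha => hB.2.1 a ha z hz.1
      · exact fun z hz => mem_centralizer_iff.mpr fun a ha => hzjfix a (hT₁ ▸ ha : a ∈ Jt ⊓ T).1 z hz
      · exact fun z hz => mem_centralizer_iff.mpr fun a ha => hWTc z hz.2 a (hT₁ ▸ ha : a ∈ Jt ⊓ T).2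
    have h1 := hmeas (B ⊔ T₁) (sup_le hBJt (hT₁ ▸ inf_le_left))
    have h3 := hq_le Jt hJtS
    rw [← hT₁] at h3
    have hn2 : ZJ ≤ normalizer ((B ⊓ W : Subgroup G) : Set G) := by
      refine le_trans (fun z hz => ?_) (centralizer_le_normalizer _)
      exact mem_centralizer_iff.mpr fun a ha => hB.2.1 a ha.1 z (hBZJ B hB hz)
    have h5 := Grp.card_sup_mul_card_inf (H := ZJ) (N := B ⊓ W) hn2
    rw [show ZJ ⊓ (B ⊓ W) = C by rw [← inf_assoc, inf_eq_left.mpr (hBZJ B hB), hZW]] at h5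
    obtain ⟨s, hs⟩ : ∃ s, s = Nat.card ↥(B ⊔ T₁) := ⟨_, rfl⟩
    obtain ⟨r, hr⟩ : ∃ r, r = Nat.card ↥(ZJ ⊔ (B ⊓ W)) := ⟨_, rfl⟩
    have h6 : s * r ≤ q * Nat.card T₁ * Nat.card ZJ :=
      hs ▸ hr ▸ ((Nat.mul_le_mul_left _ (card_le_of_le hin)).trans h1).trans (Nat.mul_le_mul_right _ h3)
    rw [← hs] at hsup
    rw [← hr] at h5
    refine Nat.le_of_mul_le_mul_left ?_ (Nat.mul_pos (Nat.card_pos (α := T₁)) (Nat.card_pos (α := ZJ)))
    calc Nat.card T₁ * Nat.card ZJ * (Nat.card B * Nat.card ↥(B ⊓ W))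
        = (Nat.card B * Nat.card T₁) * (Nat.card ZJ * Nat.card ↥(B ⊓ W)) := by ring
      _ = (s * Nat.card ↥(B ⊓ T)) * (r * Nat.card C) := by rw [hsup, h5]
      _ = (s * r) * (Nat.card ↥(B ⊓ T) * Nat.card C) := by ring
      _ ≤ (q * Nat.card T₁ * Nat.card ZJ) * (Nat.card ↥(B ⊓ T) * Nat.card C) := Nat.mul_le_mul_right _ h6
      _ = Nat.card T₁ * Nat.card ZJ * (Nat.card ↥(B ⊓ T) * (q * Nat.card C)) := by ring
      _ ≤ _ := Nat.mul_le_mul_left _ (Nat.mul_le_mul_left _ hlow)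
  -- conjugates of `B` move `Z(J)` into `W`
  have hmove : ∀ B, Fus.IsMaxAb (S : Subgroup G) B → ∀ g : G, ∀ b ∈ B, ∀ z ∈ ZJ,
      z⁻¹ * ((g * b * g⁻¹) * z * (g * b * g⁻¹)⁻¹) ∈ W := by
    intro B hB g b hb z hz
    have hB0 := hrep B hB
    have hB0T : (B ⊓ T) ⊔ W ≤ T := sup_le inf_le_right hWT
    have hconj : Fus.IsMaxAb (S : Subgroup G) (((B ⊓ T) ⊔ W).map (MulAut.conj g).toMonoidHom) :=
      isMaxAb_conj hB0 (by rintro _ ⟨a, ha, rfl⟩; exact hTS (hTn.conj_mem a (hB0T ha) g))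
    obtain ⟨a, ha, rfl⟩ := hBZJ _ hconj hz
    have hn' : B ⊓ T ≤ normalizer (W : Set G) := by rw [normalizer_eq_top_iff.mpr hWn]; exact le_top
    obtain ⟨a', ha', w, hw, rfl⟩ := (Subgroup.coe_mul_of_left_le_normalizer_right _ _ hn').subset ha
    have hc := hB.2.1 b hb a' ha'.1
    show (g * (a' * w) * g⁻¹)⁻¹ * (g * b * g⁻¹ * (g * (a' * w) * g⁻¹) * (g * b * g⁻¹)⁻¹) ∈ W
    have e1 : (g * (a' * w) * g⁻¹)⁻¹ * (g * b * g⁻¹ * (g * (a' * w) * g⁻¹) * (g * b * g⁻¹)⁻¹) =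
        g * (w⁻¹ * (b * w * b⁻¹)) * g⁻¹ := by
      calc _ = g * (w⁻¹ * a'⁻¹ * (b * a') * w * b⁻¹) * g⁻¹ := by group
        _ = g * (w⁻¹ * a'⁻¹ * (a' * b) * w * b⁻¹) * g⁻¹ := by rw [hc]
        _ = _ := by group
    rw [e1]
    exact hWn.conj_mem _ (mul_mem (inv_mem hw) (hWn.conj_mem w hw b)) g
  -- `Y = Z(J) W` is normal
  obtain ⟨Y, hY⟩ : ∃ Y, Y = ZJ ⊔ W := ⟨_, rfl⟩
  have hYnorm : ∀ m : G, (∀ z ∈ ZJ, m * z * m⁻¹ ∈ Y) → m ∈ normalizer (Y : Set G) := fun m hm => by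
    refine mem_normalizer_fintype fun a ha => ?_
    have hle : Y ≤ Y.comap (MulAut.conj m).toMonoidHom := hY ▸ sup_le (fun z hz => hY ▸ hm z hz)
      (fun w hw => mem_sup_right (hWn.conj_mem w hw m))
    exact hle ha
  have hYn : Y.Normal := by
    rw [← normalizer_eq_top_iff]
    by_contra hne'
    obtain ⟨M', hM', hle⟩ := (eq_top_or_exists_le_coatom _).resolve_left hne'
    have hSle : (S : Subgroup G) ≤ normalizer (Y : Set G) := fun s hs =>
      hYnorm s fun z hz => hY ▸ mem_sup_left (hinvZJ s (hSconj s hs) z hz)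
    obtain rfl := huniq M' ⟨hM', hSle.trans hle⟩
    have hJcl : normalClosure (J : Set G) ≤ M' := by
      rw [normalClosure, closure_le]
      intro x hx
      obtain ⟨a, ha, hax⟩ := Group.mem_conjugatesOfSet_iff.mp hx
      obtain ⟨g, rfl⟩ := isConj_iff.mp hax
      have hmem : J ≤ M'.comap (MulAut.conj g).toMonoidHom := by
        rw [hJ]
        refine Fus.thompsonA_le_of fun B hB b hb => hle (hYnorm _ fun z hz => ?_)
        show g * b * g⁻¹ * z * (g * b * g⁻¹)⁻¹ ∈ Y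
        rw [hY, show g * b * g⁻¹ * z * (g * b * g⁻¹)⁻¹ = z * (z⁻¹ * (g * b * g⁻¹ * z * (g * b * g⁻¹)⁻¹)) by group]
        exact mul_mem (mem_sup_left hz) (mem_sup_right (hmove B hB g b hb z hz))
      exact hmem ha
    rcases PushUnique.sup_eq_top_or_normal S hE₂ (normalClosure (J : Set G)) with htop | hn
    · exact hM'.1 (top_le_iff.mp (htop.ge.trans (sup_le hJcl (hSle.trans hle))))
    · exact hJT fun x hx => hT ▸ Grp.le_pCore hn (S.isPGroup'.to_le inf_le_left) ⟨hJS hx, le_normalClosure hx⟩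
  haveI := hYn
  -- elements acting trivially on `Y / W`
  have hWmv : ∀ g : G, ∀ w ∈ W, w⁻¹ * (g * w * g⁻¹) ∈ W := fun g w hw => mul_mem (inv_mem hw) (hWn.conj_mem w hw g)
  let H : Subgroup G :=
    { carrier := {g | ∀ y ∈ Y, y⁻¹ * (g * y * g⁻¹) ∈ W}
      one_mem' := fun y _ => by simp
      mul_mem' := fun {g h} hg hh y hy => by
        have h1 := hh y hy
        have h2 := hg (h * y * h⁻¹) (hYn.conj_mem y hy h)
        have e1 : y⁻¹ * (g * h * y * (g * h)⁻¹) =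
            (y⁻¹ * (h * y * h⁻¹)) * ((h * y * h⁻¹)⁻¹ * (g * (h * y * h⁻¹) * g⁻¹)) := by group
        rw [e1]; exact mul_mem h1 h2
      inv_mem' := fun {g} hg y hy => by
        have h2 := hg (g⁻¹ * y * g⁻¹⁻¹) (hYn.conj_mem y hy g⁻¹)
        have e1 : y⁻¹ * (g⁻¹ * y * g⁻¹⁻¹) = ((g⁻¹ * y * g⁻¹⁻¹)⁻¹ * (g * (g⁻¹ * y * g⁻¹⁻¹) * g⁻¹))⁻¹ := by group
        rw [e1]; exact inv_mem h2 }
  have hHn : H.Normal := ⟨fun x hx g y hy => by
    have h := hWn.conj_mem _ (hx (g⁻¹ * y * g⁻¹⁻¹) (hYn.conj_mem y hy g⁻¹)) g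
    have e1 : y⁻¹ * (g * x * g⁻¹ * y * (g * x * g⁻¹)⁻¹) =
        g * ((g⁻¹ * y * g⁻¹⁻¹)⁻¹ * (x * (g⁻¹ * y * g⁻¹⁻¹) * x⁻¹)) * g⁻¹ := by group
    rw [e1]; exact h⟩
  haveI := hHn
  obtain ⟨N, hN⟩ : ∃ N, N = normalClosure (Jt : Set G) := ⟨_, rfl⟩
  haveI hNn : N.Normal := hN ▸ normalClosure_normal
  rw [← hN]
  have hJtN : Jt ≤ N := hN ▸ le_normalClosure
  have hn' : ZJ ≤ normalizer (W : Set G) := by rw [normalizer_eq_top_iff.mpr hWn]; exact le_top
  have hNH : N ≤ H := by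
    rw [hN]
    refine normalClosure_le_normal fun j hj y hy => ?_
    obtain ⟨z, hz, w, hw, rfl⟩ := (Subgroup.coe_mul_of_left_le_normalizer_right _ _ hn').subset (hY ▸ hy)
    have e1 : (z * w)⁻¹ * (j * (z * w) * j⁻¹) = w⁻¹ * (j * w * j⁻¹) := by
      calc _ = w⁻¹ * z⁻¹ * (j * z) * w * j⁻¹ := by group
        _ = w⁻¹ * z⁻¹ * (z * j) * w * j⁻¹ := by rw [hzjfix j hj z hz]
        _ = _ := by group
    rw [e1]; exact hWmv j w hw
  have hNS : N ⊔ (S : Subgroup G) = ⊤ :=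
    (PushUnique.sup_eq_top_or_normal S hE₂ N).resolve_right fun hn =>
      hJtT fun x hx => hT ▸ Grp.le_pCore hn (S.isPGroup'.to_le inf_le_left) ⟨hJtS hx, hJtN hx⟩
  refine ⟨hNS, ?_⟩
  have hT₁fix : ∀ t, t ∈ T₁ → ∀ y ∈ Y, t * y = y * t := by
    intro t ht y hy
    rw [hT₁] at ht
    obtain ⟨z, hz, w, hw, rfl⟩ := (Subgroup.coe_mul_of_left_le_normalizer_right _ _ hn').subset (hY ▸ hy)
    rw [← mul_assoc, hzjfix t ht.1 z hz, mul_assoc, hWTc w hw t ht.2, ← mul_assoc]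
  let H₂ : Subgroup G :=
    { carrier := {g | ∀ t ∈ T, ∀ y ∈ Y, (g * t * g⁻¹ * t⁻¹) * y = y * (g * t * g⁻¹ * t⁻¹)}
      one_mem' := fun t _ y _ => by simp
      mul_mem' := fun {g h} hg hh t ht y hy => by
        have h1 := hg (h * t * h⁻¹) (hTn.conj_mem t ht h) y hy
        have h2 := hh t ht y hy
        have e1 : g * h * t * (g * h)⁻¹ * t⁻¹ = (g * (h * t * h⁻¹) * g⁻¹ * (h * t * h⁻¹)⁻¹) * (h * t * h⁻¹ * t⁻¹) := by group
        rw [e1]
        exact (Commute.mul_left h1 h2).eq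
      inv_mem' := fun {g} hg t ht y hy => by
        have h1 := hg (g⁻¹ * t * g⁻¹⁻¹) (hTn.conj_mem t ht g⁻¹) y hy
        have e1 : g⁻¹ * t * g⁻¹⁻¹ * t⁻¹ = (g * (g⁻¹ * t * g⁻¹⁻¹) * g⁻¹ * (g⁻¹ * t * g⁻¹⁻¹)⁻¹)⁻¹ := by group
        rw [e1]
        exact (Commute.inv_left h1).eq }
  have hH₂n : H₂.Normal := ⟨fun x hx g t ht y hy => by
    have h := hx (g⁻¹ * t * g⁻¹⁻¹) (hTn.conj_mem t ht g⁻¹) (g⁻¹ * y * g⁻¹⁻¹) (hYn.conj_mem y hy g⁻¹)
    calc (g * x * g⁻¹ * t * (g * x * g⁻¹)⁻¹ * t⁻¹) * y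
        = g * ((x * (g⁻¹ * t * g⁻¹⁻¹) * x⁻¹ * (g⁻¹ * t * g⁻¹⁻¹)⁻¹) * (g⁻¹ * y * g⁻¹⁻¹)) * g⁻¹ := by group
      _ = g * ((g⁻¹ * y * g⁻¹⁻¹) * (x * (g⁻¹ * t * g⁻¹⁻¹) * x⁻¹ * (g⁻¹ * t * g⁻¹⁻¹)⁻¹)) * g⁻¹ := by rw [h]
      _ = _ := by group⟩
  haveI := hH₂n
  have hNH₂ : N ≤ H₂ := by
    rw [hN]
    refine normalClosure_le_normal fun j hj t ht y hy => hT₁fix _ ?_ y hy
    rw [hT₁]
    have h2 : j * t * j⁻¹ * t⁻¹ ∈ T := mul_mem (hTn.conj_mem t ht j) (inv_mem ht)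
    refine ⟨?_, h2⟩
    rw [show j * t * j⁻¹ * t⁻¹ = j * (t * j⁻¹ * t⁻¹) by group]
    exact mul_mem hj (hinvJt t (hSconj t (hTS ht)) _ (inv_mem hj))
  have hYab : ∀ a ∈ Y, ∀ b ∈ Y, a * b = b * a := by
    intro a ha b hb
    have hle : Y ≤ centralizer (Y : Set G) := by
      rw [hY]
      refine sup_le (le_trans (le_inf ?_ ?_) (Invol.centralizer_sup_le _ _))
        (le_trans (le_inf ?_ ?_) (Invol.centralizer_sup_le _ _))
      · exact fun x hx => mem_centralizer_iff.mpr fun y hy => hZJab y hy x hx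
      · exact fun x hx => mem_centralizer_iff.mpr fun y hy => (hWTc y hy x (hZJT hx)).symm
      · exact fun x hx => mem_centralizer_iff.mpr fun y hy => hWTc x hx y (hZJT hy)
      · exact hWab
    exact (mem_centralizer_iff.mp (hle ha) b hb).symm
  have hZJY : ZJ ≤ Y := hY ▸ le_sup_left
  have hWY : W ≤ Y := hY ▸ le_sup_right
  intro z hz
  -- elements of `S ∩ N` move `z` by central elements
  have hzfix : z ∈ cmod ((S : Subgroup G) ⊓ N) Y := by
    refine ⟨hZJY hz, fun s hs => ?_⟩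
    obtain ⟨j, hj, t, ht, rfl⟩ := hsplitS s hs.1
    have htN : t ∈ N := by
      have := mul_mem (inv_mem (hJtN hj)) hs.2
      simpa using this
    obtain ⟨c, hc⟩ : ∃ c, c = z⁻¹ * (t * z * t⁻¹) := ⟨_, rfl⟩
    have hcW : c ∈ W := hc ▸ hNH htN z (hZJY hz)
    have hcZ : c ∈ ZJ := hc ▸ mul_mem (inv_mem hz) (hinvZJ t (hSconj t (hTS ht)) z hz)
    have hcC : c ∈ C := hZW ▸ ⟨hcZ, hcW⟩
    have hcc : c ∈ center G := by
      refine PushUnique.mem_center_of hNS (fun l hl => ?_) (fun s' hs' => mem_centralizer_iff.mp (hC1 c hcC).2 s' hs')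
      obtain ⟨w, hw⟩ : ∃ w, w = z⁻¹ * (l * z * l⁻¹) := ⟨_, rfl⟩
      have hwW : w ∈ W := hw ▸ hNH hl z (hZJY hz)
      obtain ⟨t', ht'⟩ : ∃ t', t' = l * t * l⁻¹ * t⁻¹ := ⟨_, rfl⟩
      have htY : ∀ y ∈ Y, t' * y = y * t' := fun y hy => ht' ▸ hNH₂ hl t ht y hy
      have hzw : z * w = l * z * l⁻¹ := by rw [hw]; group
      have htz : t * z * t⁻¹ = z * c := by rw [hc]; group
      have htw : t * w * t⁻¹ = w := by rw [hWTc w hwW t ht]; group
      have hlc : l * c * l⁻¹ = c := by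
        calc l * c * l⁻¹ = (l * z * l⁻¹)⁻¹ * ((l * t * l⁻¹) * (l * z * l⁻¹) * (l * t * l⁻¹)⁻¹) := by rw [hc]; group
          _ = (z * w)⁻¹ * (t' * ((t * z * t⁻¹) * (t * w * t⁻¹)) * t'⁻¹) := by rw [← hzw, ht']; group
          _ = (z * w)⁻¹ * (t' * (z * c * w) * t'⁻¹) := by rw [htz, htw]
          _ = (z * w)⁻¹ * ((z * c * w) * t' * t'⁻¹) := by
            rw [htY _ (mul_mem (mul_mem (hZJY hz) (hWY hcW)) (hWY hwW))]
          _ = w⁻¹ * (c * w) := by group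
          _ = c := by rw [hYab c (hWY hcW) w (hWY hwW)]; group
      exact mul_inv_eq_iff_eq_mul.mp hlc
    have e1 : j * t * z * (j * t)⁻¹ * z⁻¹ = c := by
      have h1 : t * z * t⁻¹ = z * c := by rw [hc]; group
      calc j * t * z * (j * t)⁻¹ * z⁻¹ = j * (t * z * t⁻¹) * j⁻¹ * z⁻¹ := by group
        _ = (j * (z * c)) * j⁻¹ * z⁻¹ := by rw [h1]
        _ = (z * c) * j * j⁻¹ * z⁻¹ := by rw [hzjfix j hj _ (mul_mem hz hcZ)]
        _ = (z * c) * z⁻¹ := by group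
        _ = c := by rw [Subgroup.mem_center_iff.mp hcc z]; group
    rw [e1]; exact hcc
  -- averaging
  letI : CommGroup Y := { (inferInstance : Group Y) with mul_comm := fun a b => Subtype.ext (hYab a a.2 b b.2) }
  letI : Fintype (N ⧸ (S : Subgroup G).subgroupOf N) := Fintype.ofFinite _
  obtain ⟨d, hd⟩ : ∃ d, d = Fintype.card (N ⧸ (S : Subgroup G).subgroupOf N) := ⟨_, rfl⟩
  let F0 : N ⧸ (S : Subgroup G).subgroupOf N → Y := fun x =>
    ⟨(x.out : G) * z * (x.out : G)⁻¹, hYn.conj_mem z (hZJY hz) _⟩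
  obtain ⟨y, hy⟩ : ∃ y : Y, y = ∏ x, F0 x := ⟨_, rfl⟩
  have hyN : ∀ m : N, (m : G) * (y : G) * (m : G)⁻¹ * (y : G)⁻¹ ∈ center G := by
    intro m
    let cm : Y →* Y :=
      { toFun := fun a => ⟨(m : G) * (a : G) * (m : G)⁻¹, hYn.conj_mem _ a.2 _⟩
        map_one' := Subtype.ext (by simp)
        map_mul' := fun a b => Subtype.ext (by simp [mul_assoc]) }
    have h1 : ∀ x, cm (F0 x) * (F0 (m • x))⁻¹ ∈ (center G).subgroupOf Y := by
      intro x
      rw [mem_subgroupOf]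
      show (m : G) * ((x.out : G) * z * (x.out : G)⁻¹) * (m : G)⁻¹ *
        (((m • x).out : G) * z * ((m • x).out : G)⁻¹)⁻¹ ∈ center G
      obtain ⟨s, hs⟩ : ∃ s : N, s = (m • x).out⁻¹ * (m * x.out) := ⟨_, rfl⟩
      have hsS : (s : G) ∈ (S : Subgroup G) := by
        have h : ((m • x).out : N ⧸ (S : Subgroup G).subgroupOf N) = ((m * x.out : N) : N ⧸ (S : Subgroup G).subgroupOf N) := by
          rw [QuotientGroup.out_eq', ← MulAction.Quotient.coe_smul_out, smul_eq_mul]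
        exact hs ▸ mem_subgroupOf.mp (QuotientGroup.eq.mp h)
      have hc := hzfix.2 (s : G) ⟨hsS, s.2⟩
      have hmx : (m : G) * (x.out : G) = ((m • x).out : G) * (s : G) := by
        rw [hs]; simp
      have e1 : (m : G) * ((x.out : G) * z * (x.out : G)⁻¹) * (m : G)⁻¹ *
          (((m • x).out : G) * z * ((m • x).out : G)⁻¹)⁻¹ =
          ((m • x).out : G) * ((s : G) * z * (s : G)⁻¹ * z⁻¹) * ((m • x).out : G)⁻¹ := by
        calc _ = ((m : G) * (x.out : G)) * z * ((m : G) * (x.out : G))⁻¹ *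
              (((m • x).out : G) * z * ((m • x).out : G)⁻¹)⁻¹ := by group
          _ = _ := by rw [hmx]; group
      rw [e1]
      exact (inferInstance : (center G).Normal).conj_mem _ hc _
    have h2 : cm y * y⁻¹ ∈ (center G).subgroupOf Y := by
      have h3 : ∏ x, (F0 (m • x)) = y := by
        rw [hy]; exact Equiv.prod_comp (MulAction.toPerm m) F0
      rw [← congrArg (fun a : Y => cm y * a⁻¹) h3, hy, map_prod, ← Finset.prod_inv_distrib, ← Finset.prod_mul_distrib]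
      exact Subgroup.prod_mem _ fun x _ => h1 x
    exact h2
  have hyW : (z ^ d)⁻¹ * (y : G) ∈ W := by
    have h1 : ((⟨z, hZJY hz⟩ : Y) ^ d)⁻¹ * y ∈ W.subgroupOf Y := by
      rw [hy, hd, ← Finset.card_univ, ← Finset.prod_const, ← Finset.prod_inv_distrib, ← Finset.prod_mul_distrib]
      exact Subgroup.prod_mem _ fun x _ => mem_subgroupOf.mpr (hNH x.out.2 z (hZJY hz))
    exact h1
  obtain ⟨w, hwdef⟩ : ∃ w, w = (z ^ d)⁻¹ * (y : G) := ⟨_, rfl⟩
  rw [← hwdef] at hyW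
  -- `w` is fixed by `S` modulo the centre, so it is in `C`
  have hwC : w ∈ C := by
    have h1 : w ∈ cmod ((S : Subgroup G) ⊓ N) Y := hwdef ▸
      mul_mem (inv_mem (pow_mem hzfix d)) (show (y : G) ∈ cmod ((S : Subgroup G) ⊓ N) Y from
        ⟨y.2, fun s hs => hyN ⟨s, hs.2⟩⟩)
    have h2 : w ∈ cmod (S : Subgroup G) W := by
      refine ⟨hyW, fun s hs => ?_⟩
      obtain ⟨j, hj, t, ht, rfl⟩ := hsplitS s hs
      have e1 : j * t * w * (j * t)⁻¹ * w⁻¹ = j * w * j⁻¹ * w⁻¹ := by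
        calc _ = j * (t * w) * t⁻¹ * j⁻¹ * w⁻¹ := by group
          _ = j * (w * t) * t⁻¹ * j⁻¹ * w⁻¹ := by rw [hWTc w hyW t ht]
          _ = _ := by group
      rw [e1]
      exact h1.2 j ⟨hJtS hj, hJtN hj⟩
    have hCle : C ≤ cmod (S : Subgroup G) W := fun x hx => ⟨hCW hx, fun s hs => by
      rw [show s * x * s⁻¹ * x⁻¹ = 1 by rw [mem_centralizer_iff.mp (hC1 x hx).2 s hs]; group]; exact one_mem _⟩
    have hDC : cmod ⊤ W ≤ cmod (S : Subgroup G) W := fun x hx => ⟨hx.1, fun s _ => hx.2 s (mem_top _)⟩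
    have hneD : cmod ⊤ W ≠ cmod (S : Subgroup G) W := by
      intro heq
      obtain ⟨x, hx, hxc⟩ := SetLike.not_le_iff_exists.mp hne
      have hxD : x ∈ cmod ⊤ W := heq ▸ hCle hx
      obtain ⟨v, hv⟩ : ∃ v, v ∉ M := by
        by_contra hall
        push Not at hall
        exact hM.1 (eq_top_iff.mpr fun a _ => hall a)
      refine hxc (PushCLF.mem_center_of_conj S hnn huniq hv (fun s hs => mem_centralizer_iff.mp (hC1 x hx).2 s hs) fun s hs => ?_)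
      have hc := hxD.2 v⁻¹ (mem_top _)
      obtain ⟨c, hcdef⟩ : ∃ c, c = v⁻¹ * x * v⁻¹⁻¹ * x⁻¹ := ⟨_, rfl⟩
      rw [← hcdef] at hc
      have hx' : x = v * (c * x) * v⁻¹ := by rw [hcdef]; group
      have h5 : s * (c * x) = c * x * s := by
        rw [← mul_assoc, Subgroup.mem_center_iff.mp hc s, mul_assoc, mem_centralizer_iff.mp (hC1 x hx).2 s hs, mul_assoc]
      calc v * s * v⁻¹ * x = v * s * v⁻¹ * (v * (c * x) * v⁻¹) := by rw [← hx']
        _ = v * (s * (c * x)) * v⁻¹ := by group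
        _ = v * (c * x * s) * v⁻¹ := by rw [h5]
        _ = v * (c * x) * v⁻¹ * (v * s * v⁻¹) := by group
        _ = x * (v * s * v⁻¹) := by rw [← hx']
    have hb := count_bound hF hf hWp (fun x (hx : x ∈ cmod (S : Subgroup G) W) => hx.1) hDC hneD
      (fun x hx _ v hv hvx => by
        refine ⟨hvx.1, fun g _ => ?_⟩
        have htop : stabMod (v * x * v⁻¹) = ⊤ := top_of_two S hnn huniq hv (fun s hs => hvx.2 s hs) fun s hs => by
          show v * s * v⁻¹ * (v * x * v⁻¹) * (v * s * v⁻¹)⁻¹ * (v * x * v⁻¹)⁻¹ ∈ center G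
          rw [show v * s * v⁻¹ * (v * x * v⁻¹) * (v * s * v⁻¹)⁻¹ * (v * x * v⁻¹)⁻¹ = v * (s * x * s⁻¹ * x⁻¹) * v⁻¹ by group]
          exact (inferInstance : (center G).Normal).conj_mem _ (hx.2 s hs) v
        exact htop.ge (mem_top g))
      (fun g x hx => ⟨hWn.conj_mem x hx.1 g, fun s _ => by
        rw [show s * (g * x * g⁻¹) * s⁻¹ * (g * x * g⁻¹)⁻¹ = g * ((g⁻¹ * s * g) * x * (g⁻¹ * s * g)⁻¹ * x⁻¹) * g⁻¹ by group]
        exact (inferInstance : (center G).Normal).conj_mem _ (hx.2 _ (mem_top _)) g⟩)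
    have heq : C = cmod (S : Subgroup G) W := by
      refine eq_of_le_of_card_ge hCle ?_
      refine Nat.le_of_mul_le_mul_left (hb.trans (hup.trans ?_)) Fintype.card_pos
      exact Nat.mul_le_mul_right _ hcardS
    exact heq ▸ h2
  have hyZJ : (y : G) ∈ ZJ := by
    rw [show (y : G) = z ^ d * w by rw [hwdef]; group]
    exact mul_mem (pow_mem hz d) (hCZJ hwC)
  have hyc : (y : G) ∈ centralizer (N : Set G) := by
    refine mem_centralizer_iff.mpr fun a ha => mem_centralizer_singleton_iff.mp ?_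
    suffices hle : N ≤ centralizer ({(y : G)} : Set G) from hle ha
    rw [hN, normalClosure, closure_le]
    intro b hb
    obtain ⟨j, hj, hjb⟩ := Group.mem_conjugatesOfSet_iff.mp hb
    obtain ⟨g, rfl⟩ := isConj_iff.mp hjb
    rw [SetLike.mem_coe, mem_centralizer_singleton_iff]
    have hg : g ∈ N ⊔ (S : Subgroup G) := hNS ▸ mem_top g
    have hg' : g ∈ ((N ⊔ (S : Subgroup G) : Subgroup G) : Set G) := hg
    rw [Subgroup.normal_mul] at hg'
    obtain ⟨m, hm, s, hs, rfl⟩ := hg'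
    obtain ⟨c, hc⟩ : ∃ c, c = m⁻¹ * (y : G) * m * (y : G)⁻¹ := ⟨_, rfl⟩
    have hcc : c ∈ center G := by
      have h := hyN ⟨m⁻¹, inv_mem hm⟩
      simpa [hc] using h
    have hsj : s * j * s⁻¹ ∈ Jt := hinvJt s (hSconj s hs) j hj
    have hy' : (y : G) = m * (c * (y : G)) * m⁻¹ := by rw [hc]; group
    have h5 : s * j * s⁻¹ * (c * (y : G)) = c * (y : G) * (s * j * s⁻¹) := by
      rw [← mul_assoc, Subgroup.mem_center_iff.mp hcc, mul_assoc, hzjfix _ hsj _ hyZJ, ← mul_assoc]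
    calc m * s * j * (m * s)⁻¹ * (y : G) = m * s * j * (m * s)⁻¹ * (m * (c * (y : G)) * m⁻¹) := by rw [← hy']
      _ = m * (s * j * s⁻¹ * (c * (y : G))) * m⁻¹ := by group
      _ = m * (c * (y : G) * (s * j * s⁻¹)) * m⁻¹ := by rw [h5]
      _ = m * (c * (y : G)) * m⁻¹ * (m * s * j * (m * s)⁻¹) := by group
      _ = (y : G) * (m * s * j * (m * s)⁻¹) := by rw [← hy']
  -- descend from `z ^ d` to `z`
  have hcop : d.Coprime (orderOf z) := by
    obtain ⟨k, hk⟩ := S.isPGroup' ⟨z, hZJS hz⟩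
    have hk' : z ^ p ^ k = 1 := congrArg Subtype.val hk
    refine Nat.Coprime.coprime_dvd_right (orderOf_dvd_of_pow_eq_one hk') (Nat.Coprime.pow_right k ?_)
    refine (hp.out.coprime_iff_not_dvd.mpr ?_).symm
    rw [hd, ← Nat.card_eq_fintype_card]
    exact Grp.sylow_inf_normal_relIndex S N
  obtain ⟨k, hk⟩ := exists_pow_eq_self_of_coprime hcop
  refine ⟨(y : G) ^ k, pow_mem hyc k, ?_⟩
  have hzd : z ^ d = (y : G) * w⁻¹ := by rw [hwdef]; group
  have hcm : Commute (y : G) w⁻¹ := hYab _ y.2 _ (inv_mem (hWY hyW))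
  have hC' : ((y : G) ^ k)⁻¹ * z = (w⁻¹) ^ k := by
    conv_lhs => rw [← hk, hzd, hcm.mul_pow]
    group
  rw [hC']
  exact pow_mem (inv_mem hwC) k

/-- `C_S(Z(J(S)))` is a Sylow subgroup of its normal closure unless `Z(S)` is normal. -/
theorem sylow_of_closure (S : Sylow p G) (hE₁ : centralizer (Cfsg.pCore p G : Set G) ≤ Cfsg.pCore p G)
    (hE₂ : ∃! M : Subgroup G, IsCoatom M ∧ (S : Subgroup G) ≤ M)
    {F : Type} [Field F] [Fintype F] {n : ℕ} (hF : Fintype.card F = p ^ n) (K : Subgroup G) [K.Normal]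
    (e : G ⧸ K ≃* Matrix.ProjectiveSpecialLinearGroup (Fin 2) F)
    (hZ : ¬ ((S : Subgroup G) ⊓ centralizer ((S : Subgroup G) : Set G)).Normal) :
    ∃ P : Sylow p ↥(normalClosure (((S : Subgroup G) ⊓ centralizer (Cfsg.centerThompsonAOf (S : Subgroup G) : Set G) : Subgroup G) : Set G)),
      (P : Subgroup ↥(normalClosure (((S : Subgroup G) ⊓ centralizer (Cfsg.centerThompsonAOf (S : Subgroup G) : Set G) : Subgroup G) : Set G))) =
        ((S : Subgroup G) ⊓ centralizer (Cfsg.centerThompsonAOf (S : Subgroup G) : Set G)).subgroupOf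
          (normalClosure (((S : Subgroup G) ⊓ centralizer (Cfsg.centerThompsonAOf (S : Subgroup G) : Set G) : Subgroup G) : Set G)) := by
  have hne : ¬ (S : Subgroup G) ⊓ centralizer ((S : Subgroup G) : Set G) ≤ center G :=
    fun h => hZ (PushUnique.normal_of_le_center h)
  have hd := tilde_decomp S hE₁ hE₂ hF K e hne
  obtain ⟨ZJ, hZJ⟩ : ∃ ZJ, ZJ = Cfsg.centerThompsonAOf (S : Subgroup G) := ⟨_, rfl⟩
  rw [← hZJ] at hd ⊢
  obtain ⟨Jt, hJt⟩ : ∃ Jt, Jt = (S : Subgroup G) ⊓ centralizer (ZJ : Set G) := ⟨_, rfl⟩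
  rw [← hJt] at hd ⊢
  obtain ⟨N, hN⟩ : ∃ N, N = normalClosure (Jt : Set G) := ⟨_, rfl⟩
  haveI hNn : N.Normal := hN ▸ normalClosure_normal
  rw [← hN] at hd ⊢
  have hJtN : Jt ≤ N := hN ▸ le_normalClosure
  have heq : (S : Subgroup G) ⊓ N = Jt := by
    refine le_antisymm ?_ (le_inf (hJt ▸ inf_le_left) hJtN)
    rcases hd with hn | ⟨-, hdec⟩
    · intro x hx
      have : N = Jt := by haveI := hn; rw [hN, normalClosure_eq_self]
      exact this ▸ hx.2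
    · intro s hs
      rw [hJt]
      refine ⟨hs.1, mem_centralizer_iff.mpr fun z hz => ?_⟩
      obtain ⟨z', hz', hc⟩ := hdec z hz
      have h1 : s * z' = z' * s := mem_centralizer_iff.mp hz' s hs.2
      have h2 : s * (z'⁻¹ * z) = z'⁻¹ * z * s := mem_centralizer_iff.mp hc.2 s hs.1
      calc z * s = z' * (z'⁻¹ * z * s) := by group
        _ = z' * (s * (z'⁻¹ * z)) := by rw [h2]
        _ = (z' * s) * (z'⁻¹ * z) := by group
        _ = (s * z') * (z'⁻¹ * z) := by rw [h1]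
        _ = s * z := by group
  have hpg : IsPGroup p ↥((S : Subgroup G).subgroupOf N) := S.isPGroup'.comap_subtype
  refine ⟨hpg.toSylow (Grp.sylow_inf_normal_relIndex S N), ?_⟩
  show (S : Subgroup G).subgroupOf N = Jt.subgroupOf N
  rw [← heq, inf_subgroupOf_right]

/-- `[Z(J), S] ∩ Z(S)` or `C_S(Z(J))` is normal. -/
theorem commutator_or_tilde_normal (S : Sylow p G) (hE₁ : centralizer (Cfsg.pCore p G : Set G) ≤ Cfsg.pCore p G)
    (hE₂ : ∃! M : Subgroup G, IsCoatom M ∧ (S : Subgroup G) ≤ M)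
    {F : Type} [Field F] [Fintype F] {n : ℕ} (hF : Fintype.card F = p ^ n) (K : Subgroup G) [K.Normal]
    (e : G ⧸ K ≃* Matrix.ProjectiveSpecialLinearGroup (Fin 2) F) :
    (⁅Cfsg.centerThompsonAOf (S : Subgroup G), (S : Subgroup G)⁆ ⊓
        ((S : Subgroup G) ⊓ centralizer ((S : Subgroup G) : Set G))).Normal ∨
      ((S : Subgroup G) ⊓ centralizer (Cfsg.centerThompsonAOf (S : Subgroup G) : Set G)).Normal := by
  by_cases hne : (S : Subgroup G) ⊓ centralizer ((S : Subgroup G) : Set G) ≤ center G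
  · exact Or.inl (PushUnique.normal_of_le_center (inf_le_right.trans hne))
  rcases tilde_decomp S hE₁ hE₂ hF K e hne with hn | ⟨hNS, hdec⟩
  · exact Or.inr hn
  left
  obtain ⟨ZJ, hZJ⟩ : ∃ ZJ, ZJ = Cfsg.centerThompsonAOf (S : Subgroup G) := ⟨_, rfl⟩
  rw [← hZJ] at hdec hNS ⊢
  obtain ⟨N, hN⟩ : ∃ N, N = normalClosure (((S : Subgroup G) ⊓ centralizer (ZJ : Set G) : Subgroup G) : Set G) := ⟨_, rfl⟩
  haveI hNn : N.Normal := hN ▸ normalClosure_normal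
  rw [← hN] at hdec hNS
  have hCn := PushUnique.centralizer_normal' N
  have hle : ⁅ZJ, (S : Subgroup G)⁆ ≤ centralizer (N : Set G) := by
    refine commutator_le.mpr fun z hz s hs => ?_
    obtain ⟨z', hz', hc⟩ := hdec z hz
    have h2 : s * (z'⁻¹ * z) = z'⁻¹ * z * s := mem_centralizer_iff.mp hc.2 s hs
    have e1 : ⁅z, s⁆ = z' * (s * z'⁻¹ * s⁻¹) := by
      rw [commutatorElement_def]
      calc z * s * z⁻¹ * s⁻¹ = z' * (z'⁻¹ * z * s) * z⁻¹ * s⁻¹ := by group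
        _ = z' * (s * (z'⁻¹ * z)) * z⁻¹ * s⁻¹ := by rw [h2]
        _ = _ := by group
    rw [e1]
    exact mul_mem hz' (hCn.conj_mem _ (inv_mem hz') s)
  refine PushUnique.normal_of_le_center fun x hx => ?_
  exact PushUnique.mem_center_of hNS (fun l hl => mem_centralizer_iff.mp (hle hx.1) l hl)
    (fun s hs => mem_centralizer_iff.mp hx.2.2 s hs)

end Cfsg.Agent.Invol.PushTilde
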