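import Mathlib
import Cfsg.Agent.Lib.Fus.Replacement
import Cfsg.Agent.Lib.Grp.Cores
import Cfsg.Prelude.Def_Local

/-!
# A Sylow subgroup in a unique maximal subgroup: the easy dichotomy of pushing up
-/

set_option autoImplicit false

namespace Cfsg.Agent.Invol.PushUnique

open Subgroup
open Cfsg.Agent

universe u

variable {G : Type u} [Group G] [Finite G] {p : ℕ} [hp : Fact p.Prime] (S : Sylow p G)

/-- A normal subgroup either covers `G` together with `S`, or meets `S` in a normal subgroup. -/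
theorem sup_eq_top_or_normal (h : ∃! M : Subgroup G, IsCoatom M ∧ (S : Subgroup G) ≤ M) (N : Subgroup G)
    [N.Normal] : N ⊔ (S : Subgroup G) = ⊤ ∨ ((S : Subgroup G) ⊓ N).Normal := by
  refine or_iff_not_imp_left.mpr fun hne => ?_
  obtain ⟨M, ⟨hM, hSM⟩, huniq⟩ := h
  obtain ⟨M', hM', hle⟩ := (eq_top_or_exists_le_coatom _).resolve_left hne
  obtain rfl := huniq M' ⟨hM', le_sup_right.trans hle⟩
  have hNM : N ≤ M' := le_sup_left.trans hle
  set X := (S : Subgroup G) ⊓ N with hX
  obtain ⟨Q, hQ⟩ := ((S.isPGroup'.to_le (inf_le_left (b := N))).comap_subtype :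
    IsPGroup p ↥(X.subgroupOf N)).exists_le_sylow
  have hQX : (Q : Subgroup ↥N).map N.subtype = X := by
    have hXQ : X ≤ (Q : Subgroup ↥N).map N.subtype := fun x hx =>
      ⟨⟨x, hx.2⟩, hQ hx, rfl⟩
    refine le_antisymm ?_ hXQ
    have hn : (S : Subgroup G) ≤ normalizer (N : Set G) := by rw [normalizer_eq_top]; exact le_top
    obtain ⟨P, hP⟩ := (Q.isPGroup'.map N.subtype).exists_le_sylow
    obtain ⟨g, hg⟩ := MulAction.exists_smul_eq G P S
    have hcard : Nat.card ↥((Q : Subgroup ↥N).map N.subtype) ≤ Nat.card ↥X := by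
      refine le_trans (le_of_eq ?_) (card_le_of_le (H := ((Q : Subgroup ↥N).map N.subtype).map
        (MulAut.conj g).toMonoidHom) ?_)
      · exact (card_map_of_injective (MulAut.conj g).injective).symm
      · rintro _ ⟨x, hx, rfl⟩
        refine ⟨hg ▸ ⟨x, hP hx, rfl⟩, ?_⟩
        exact (inferInstance : N.Normal).conj_mem x (map_subtype_le _ hx) g
    exact (eq_of_le_of_card_ge hXQ hcard).ge
  have hfr := Sylow.normalizer_sup_eq_top Q
  rw [hQX] at hfr
  have hSn : (S : Subgroup G) ≤ normalizer (X : Set G) := by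
    intro s hs
    refine mem_normalizer_fintype fun x hx => ?_
    exact ⟨(S : Subgroup G).mul_mem ((S : Subgroup G).mul_mem hs hx.1) ((S : Subgroup G).inv_mem hs), (inferInstance : N.Normal).conj_mem x hx.2 s⟩
  rw [← normalizer_eq_top_iff]
  by_contra hne'
  obtain ⟨M'', hM'', hle'⟩ := (eq_top_or_exists_le_coatom _).resolve_left hne'
  obtain rfl := huniq M'' ⟨hM'', hSn.trans hle'⟩
  exact hM.1 (top_le_iff.mp (hfr.ge.trans (sup_le hle' hNM)))

omit hp in
/-- The centraliser of a normal subgroup is normal. -/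
theorem centralizer_normal' (N : Subgroup G) [hN : N.Normal] : (centralizer (N : Set G)).Normal :=
  ⟨fun x hx g => mem_centralizer_iff.mpr fun a ha => by
    have h1 := mem_centralizer_iff.mp hx (g⁻¹ * a * g⁻¹⁻¹) (hN.conj_mem a ha g⁻¹)
    calc a * (g * x * g⁻¹) = g * (g⁻¹ * a * g⁻¹⁻¹ * x) * g⁻¹ := by group
      _ = g * (x * (g⁻¹ * a * g⁻¹⁻¹)) * g⁻¹ := by rw [h1]
      _ = g * x * g⁻¹ * a := by group⟩

omit hp in
/-- An element commuting with `N` and `S`, where `N ⊔ S = ⊤`, is central. -/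
theorem mem_center_of {N : Subgroup G} {H : Subgroup G} (htop : N ⊔ H = ⊤) {z : G}
    (hN : ∀ n ∈ N, n * z = z * n) (hH : ∀ n ∈ H, n * z = z * n) : z ∈ center G := by
  rw [Subgroup.mem_center_iff]
  intro g
  have hle : N ⊔ H ≤ centralizer ({z} : Set G) := sup_le
    (fun n hn => mem_centralizer_singleton_iff.mpr (hN n hn))
    (fun n hn => mem_centralizer_singleton_iff.mpr (hH n hn))
  exact mem_centralizer_singleton_iff.mp (hle (htop ▸ mem_top g))

omit [Finite G] hp in
/-- Subgroups of the centre are normal. -/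
theorem normal_of_le_center {H : Subgroup G} (h : H ≤ center G) : H.Normal :=
  ⟨fun x hx g => by rwa [Subgroup.mem_center_iff.mp (h hx) g, mul_inv_cancel_right]⟩

omit hp in
/-- `J(S)` is normal if all its abelian subgroups of largest order lie in a normal subgroup inside `S`. -/
theorem thompson_normal {R U : Subgroup G} [hU : U.Normal] (hUR : U ≤ R)
    (hJ : Cfsg.thompsonSubgroupAOf R ≤ U) : (Cfsg.thompsonSubgroupAOf R).Normal := by
  refine ⟨fun x hx g => ?_⟩
  suffices (Cfsg.thompsonSubgroupAOf R).map (MulAut.conj g).toMonoidHom ≤ Cfsg.thompsonSubgroupAOf R from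
    this ⟨x, hx, rfl⟩
  rw [map_le_iff_le_comap]
  refine Fus.thompsonA_le_of fun A hA a ha => ?_
  refine (Fus.IsMaxAb.le_thompsonA (A := A.map (MulAut.conj g).toMonoidHom) ⟨?_, ?_, ?_⟩) ⟨a, ha, rfl⟩
  · rintro _ ⟨b, hb, rfl⟩
    exact hUR (hU.conj_mem b (hJ (hA.le_thompsonA hb)) g)
  · rintro _ ⟨b, hb, rfl⟩ _ ⟨c, hc, rfl⟩
    rw [← map_mul, hA.2.1 b hb c hc, map_mul]
  · intro B hB hc
    rw [card_map_of_injective (MulAut.conj g).injective]
    exact hA.2.2 B hB hc

/-- `℧¹(Z(S))` or `C_S(Z(J(S)))` is normal. -/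
theorem powerClosure_or_centralizer_normal
    (hE₁ : centralizer (Cfsg.pCore p G : Set G) ≤ Cfsg.pCore p G)
    (hE₂ : ∃! M : Subgroup G, IsCoatom M ∧ (S : Subgroup G) ≤ M) :
    (Cfsg.powerClosure p 1 ((S : Subgroup G) ⊓ centralizer ((S : Subgroup G) : Set G))).Normal ∨
      ((S : Subgroup G) ⊓ centralizer (Cfsg.centerThompsonAOf (S : Subgroup G) : Set G)).Normal := by
  set Q := Cfsg.pCore p G with hQ
  have hQn : Q.Normal := Grp.pCore_isNormal
  have hQS : Q ≤ (S : Subgroup G) := Grp.pCore_le_sylow S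
  set ZS := (S : Subgroup G) ⊓ centralizer ((S : Subgroup G) : Set G) with hZS
  have hZQ : ZS ≤ Q ⊓ centralizer (Q : Set G) := fun z hz =>
    ⟨hE₁ (centralizer_le hQS hz.2), centralizer_le hQS hz.2⟩
  have hCQn := centralizer_normal' Q
  have hWn0 : (Q ⊓ centralizer (Q : Set G)).Normal :=
    ⟨fun x hx g => ⟨hQn.conj_mem x hx.1 g, hCQn.conj_mem x hx.2 g⟩⟩
  set W := normalClosure (ZS : Set G) with hW
  have hWQ : W ≤ Q ⊓ centralizer (Q : Set G) := normalClosure_le_normal hZQ
  have hWc : ∀ a ∈ W, ∀ b ∈ W, a * b = b * a := fun a ha b hb =>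
    mem_centralizer_iff.mp (hWQ hb).2 a (hWQ ha).1
  have hZW : ZS ≤ W := le_normalClosure
  set C := centralizer (W : Set G) with hC
  have hCn : C.Normal := centralizer_normal' W
  have hcentral : ∀ y ∈ Cfsg.powerClosure p 1 ZS, ∀ s ∈ (S : Subgroup G), s * y = y * s := by
    intro y hy s hs
    have : Cfsg.powerClosure p 1 ZS ≤ ZS := by
      refine (closure_le ZS).mpr ?_
      rintro _ ⟨x, hx, rfl⟩
      exact pow_mem hx _
    exact mem_centralizer_iff.mp (this hy).2 s hs
  rcases Fus.exists_quad_or_thompsonA_le (U := (S : Subgroup G) ⊓ C) (V := W) S.isPGroup'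
    ((hWQ.trans inf_le_left).trans hQS) (by rw [normalizer_eq_top]; exact le_top) hWc inf_le_right with
    ⟨x, hxS, hxU, hquad⟩ | hJ
  · left
    refine normal_of_le_center ((closure_le _).mpr ?_)
    rintro y ⟨z, hz, rfl⟩
    set N0 := centralizer ({v : G | ∃ w ∈ W, v = w ^ p}) with hN0
    have hN0n : N0.Normal := by
      refine ⟨fun n hn g => mem_centralizer_iff.mpr ?_⟩
      rintro _ ⟨w, hw, rfl⟩
      have h1 := mem_centralizer_iff.mp hn ((g⁻¹ * w * g⁻¹⁻¹) ^ p)
        ⟨_, normalClosure_normal.conj_mem w hw g⁻¹, rfl⟩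
      rw [conj_pow] at h1
      calc w ^ p * (g * n * g⁻¹) = g * (g⁻¹ * w ^ p * g⁻¹⁻¹ * n) * g⁻¹ := by group
        _ = g * (n * (g⁻¹ * w ^ p * g⁻¹⁻¹)) * g⁻¹ := by rw [h1]
        _ = g * n * g⁻¹ * w ^ p := by group
    have hxN0 : x ∈ N0 := mem_centralizer_iff.mpr (by
      rintro _ ⟨w, hw, rfl⟩
      have := Fus.IsQuad.conj_pow_eq hquad hWc (fun a ha => normalClosure_normal.conj_mem a ha x) hw
      exact (mul_inv_eq_iff_eq_mul.mp this).symm)
    have htop : N0 ⊔ (S : Subgroup G) = ⊤ := by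
      refine (sup_eq_top_or_normal S hE₂ N0).resolve_right fun hn => hxU ⟨hxS, ?_⟩
      have hxQ : x ∈ Q := Grp.le_pCore hn (S.isPGroup'.to_le inf_le_left) ⟨hxS, hxN0⟩
      exact mem_centralizer_iff.mpr fun w hw => (mem_centralizer_iff.mp (hWQ hw).2 x hxQ).symm
    rw [pow_one]
    exact mem_center_of htop (fun n hn => (mem_centralizer_iff.mp hn (z ^ p) ⟨z, hZW hz, rfl⟩).symm)
      (fun s hs => (mem_centralizer_iff.mp (pow_mem hz p : z ^ p ∈ ZS).2 s hs))
  · rcases sup_eq_top_or_normal S hE₂ C with htop | hUn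
    · left
      refine normal_of_le_center fun y hy => ?_
      have hyW : y ∈ W := hZW ((closure_le ZS).mpr (by rintro _ ⟨x, hx, rfl⟩; exact pow_mem hx _) hy)
      exact mem_center_of htop (fun n hn => (mem_centralizer_iff.mp hn y hyW).symm) (hcentral y hy)
    · set J := Cfsg.thompsonSubgroupAOf (S : Subgroup G) with hJdef
      have hJn : J.Normal := thompson_normal (U := (S : Subgroup G) ⊓ C) inf_le_left hJ
      have hCJn := centralizer_normal' J
      have hZJn : (Cfsg.centerThompsonAOf (S : Subgroup G)).Normal :=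
        ⟨fun x hx g => ⟨hJn.conj_mem x hx.1 g, hCJn.conj_mem x hx.2 g⟩⟩
      have hCZn := centralizer_normal' (Cfsg.centerThompsonAOf (S : Subgroup G))
      rcases sup_eq_top_or_normal S hE₂ (centralizer (Cfsg.centerThompsonAOf (S : Subgroup G) : Set G)) with
        htop | h
      · left
        refine normal_of_le_center fun y hy => ?_
        have hyZ : y ∈ ZS := (closure_le ZS).mpr (by rintro _ ⟨x, hx, rfl⟩; exact pow_mem hx _) hy
        have hyJ : y ∈ J := Fus.centralizer_thompsonA_le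
          ⟨hyZ.1, centralizer_le (Fus.thompsonA_le _) hyZ.2⟩
        have hyZJ : y ∈ Cfsg.centerThompsonAOf (S : Subgroup G) :=
          ⟨hyJ, centralizer_le (Fus.thompsonA_le _) hyZ.2⟩
        exact mem_center_of htop (fun n hn => (mem_centralizer_iff.mp hn y hyZJ).symm) (hcentral y hy)
      · exact Or.inr h

end Cfsg.Agent.Invol.PushUnique
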