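import Cfsg.Agent.Lib.Invol.PushCLFrattini
import Cfsg.Agent.Lib.Fus.Replacement

/-!
# Pushing up: auxiliary facts on the Sylow subgroup and `C(Z(J))`
-/

set_option autoImplicit false
set_option linter.style.haveILetI false
set_option linter.unusedSectionVars false

namespace Cfsg.Agent.Invol.PushTilde

open Subgroup
open Cfsg.Agent.Grp.SL2 (up up_zero up_mul)
open Cfsg.Agent.Invol.Nat2 (upG mem_upG dg dg_up)

universe u

/-- An additive subgroup of a finite field stable under multiplication by squares. -/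
theorem addSubgroup_top_of_sq {F : Type*} [Field F] [Fintype F] (Y : AddSubgroup F)
    (hY : ∀ a t : F, t ∈ Y → a * a * t ∈ Y) {t : F} (ht : t ∈ Y) (h0 : t ≠ 0) : Y = ⊤ := by
  refine eq_top_iff.mpr fun x _ => ?_
  obtain ⟨a, b, hab⟩ : ∃ a b : F, a * a + b * b = x / t := by
    by_cases h2 : ringChar F = 2
    · obtain ⟨a, ha⟩ := FiniteField.isSquare_of_char_two h2 (x / t)
      exact ⟨a, 0, by rw [ha]; ring⟩
    · obtain ⟨a, b, hab⟩ := FiniteField.exists_root_sum_quadratic (R := F)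
        (f := Polynomial.X ^ 2) (g := Polynomial.X ^ 2 - Polynomial.C (x / t))
        (Polynomial.degree_X_pow 2) (Polynomial.degree_X_pow_sub_C (by decide) _)
        (FiniteField.odd_card_of_char_ne_two h2)
      refine ⟨a, b, ?_⟩
      simp only [Polynomial.eval_pow, Polynomial.eval_X, Polynomial.eval_sub, Polynomial.eval_C] at hab
      linear_combination hab
  have h := add_mem (hY a t ht) (hY b t ht)
  rwa [← add_mul, hab, div_mul_cancel₀ _ h0] at h

variable {G : Type u} [Group G] [Finite G] {p : ℕ} [hp : Fact p.Prime]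

/-- The image of a Sylow subgroup in `PSL₂` as the image of the unitriangular group. -/
theorem sylow_image (S : Sylow p G) {F : Type} [Field F] [Fintype F] [CharP F p] (K : Subgroup G) [K.Normal]
    (e : G ⧸ K ≃* Matrix.ProjectiveSpecialLinearGroup (Fin 2) F) :
    ∃ ψ : Matrix.SpecialLinearGroup (Fin 2) F →* G ⧸ K, Function.Surjective ψ ∧
      (S : Subgroup G).map (QuotientGroup.mk' K) = upG.map ψ := by
  have hπ : Function.Surjective (QuotientGroup.mk' K) := QuotientGroup.mk'_surjective K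
  let φ : Matrix.SpecialLinearGroup (Fin 2) F →* G ⧸ K := e.symm.toMonoidHom.comp (QuotientGroup.mk' _)
  have hφ : Function.Surjective φ := e.symm.surjective.comp (QuotientGroup.mk'_surjective _)
  obtain ⟨P₀, -⟩ : ∃ P₀ : Sylow p (Matrix.SpecialLinearGroup (Fin 2) F), True := ⟨default, trivial⟩
  obtain ⟨γ, hγ⟩ := MulAction.exists_smul_eq (G ⧸ K) (Sylow.mapSurjective hφ P₀) (Sylow.mapSurjective hπ S)
  obtain ⟨g₁, rfl⟩ := hφ γ
  have hSimg : (S : Subgroup G).map (QuotientGroup.mk' K) =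
      ((g₁ • P₀ : Sylow p _) : Subgroup (Matrix.SpecialLinearGroup (Fin 2) F)).map φ := by
    have h := congrArg (fun X : Sylow p (G ⧸ K) => (X : Subgroup (G ⧸ K))) hγ
    simp only [Sylow.coe_subgroup_smul, Sylow.coe_mapSurjective] at h
    rw [← h, Sylow.coe_subgroup_smul]
    ext x
    simp only [Subgroup.mem_map, Subgroup.mem_pointwise_smul_iff_inv_smul_mem]
    constructor
    · rintro ⟨a, ha, hax⟩
      refine ⟨g₁ * a * g₁⁻¹, by simpa [mul_assoc, MulAut.smul_def] using ha, ?_⟩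
      simp only [MulAut.smul_def, MulAut.inv_apply, MulAut.conj_symm_apply] at hax
      rw [map_mul, map_mul, map_inv, hax]; group
    · rintro ⟨b, hb, rfl⟩
      simp only [MulAut.smul_def, MulAut.inv_apply, MulAut.conj_symm_apply] at hb ⊢
      exact ⟨_, hb, by simp⟩
  obtain ⟨g₂, hg₂⟩ := Nat2.exists_conj_upG (F := F) p (g₁ • P₀)
  refine ⟨φ.comp (MulAut.conj g₂).toMonoidHom, hφ.comp (MulAut.conj g₂).surjective, ?_⟩
  rw [hSimg, hg₂, Subgroup.map_map]

theorem inf_kernel_le_core (S : Sylow p G) (hE₂ : ∃! M : Subgroup G, IsCoatom M ∧ (S : Subgroup G) ≤ M)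
    {F : Type} [Field F] [Fintype F] [CharP F p] (K : Subgroup G) [K.Normal]
    (e : G ⧸ K ≃* Matrix.ProjectiveSpecialLinearGroup (Fin 2) F) : (S : Subgroup G) ⊓ K ≤ Cfsg.pCore p G := by
  obtain ⟨M, ⟨hM, hSM⟩, huniq⟩ := id hE₂
  rcases PushUnique.sup_eq_top_or_normal S hE₂ K with htop | hn
  · exact absurd (top_le_iff.mp (htop.ge.trans (sup_le (PushCL.exists_cosets S hM hSM huniq K e).1 hSM))) hM.1
  · exact Grp.le_pCore hn (S.isPGroup'.to_le inf_le_left)

theorem card_le_image_mul (S : Sylow p G) (K : Subgroup G) [K.Normal] {T : Subgroup G}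
    (hKT : (S : Subgroup G) ⊓ K ≤ T) {X : Subgroup G} (hX : X ≤ (S : Subgroup G)) :
    Nat.card X ≤ Nat.card ((S : Subgroup G).map (QuotientGroup.mk' K)) * Nat.card ↥(X ⊓ T) := by
  obtain ⟨π, hπ⟩ : ∃ π, π = QuotientGroup.mk' K := ⟨_, rfl⟩
  rw [← hπ]
  have h1 := ((π.domRestrict X).ker).index_mul_card
  rw [index_ker, MonoidHom.domRestrict_range] at h1
  rw [← h1]
  refine Nat.mul_le_mul (card_le_of_le (map_mono hX)) ?_
  rw [← card_map_of_injective X.subtype_injective]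
  refine card_le_of_le ?_
  rintro _ ⟨x, hx, rfl⟩
  refine ⟨x.2, hKT ⟨hX x.2, ?_⟩⟩
  rw [hπ] at hx
  exact (QuotientGroup.eq_one_iff _).mp hx

/-- A subgroup between the core and `S` invariant under `N(S)` is trivial modulo the core or all of `S`. -/
theorem eq_of_normalizer_invariant (S : Sylow p G) {F : Type} [Field F] [Fintype F] [CharP F p] (K : Subgroup G) [K.Normal]
    (e : G ⧸ K ≃* Matrix.ProjectiveSpecialLinearGroup (Fin 2) F) {T : Subgroup G}
    (hKT : (S : Subgroup G) ⊓ K ≤ T) {X : Subgroup G} (hXS : X ≤ (S : Subgroup G)) (hTX : T ≤ X)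
    (hinv : ∀ n : G, (∀ s ∈ (S : Subgroup G), n * s * n⁻¹ ∈ (S : Subgroup G)) → ∀ x ∈ X, n * x * n⁻¹ ∈ X)
    (hXT : ¬ X ≤ T) : X = S := by
  obtain ⟨ψ, hψ, hSimg⟩ := sylow_image S K e
  obtain ⟨π, hπdef⟩ : ∃ π, π = QuotientGroup.mk' K := ⟨_, rfl⟩
  have hπ : Function.Surjective π := hπdef ▸ QuotientGroup.mk'_surjective K
  rw [← hπdef] at hSimg
  have hSX : ∀ s ∈ (S : Subgroup G), ∀ x ∈ X, s * x * s⁻¹ ∈ X := fun s hs =>
    hinv s fun a ha => mul_mem (mul_mem hs ha) (inv_mem hs)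
  let Y : AddSubgroup F :=
    { carrier := {t | ψ (up t) ∈ X.map π}
      zero_mem' := by show ψ (up 0) ∈ X.map π; rw [up_zero, map_one]; exact one_mem _
      add_mem' := fun {a b} ha hb => by
        show ψ (up (a + b)) ∈ X.map π
        rw [← up_mul, map_mul]; exact mul_mem ha hb
      neg_mem' := fun {a} ha => by
        show ψ (up (-a)) ∈ X.map π
        rw [show (up (-a) : Matrix.SpecialLinearGroup (Fin 2) F) = (up a)⁻¹ from
          eq_inv_of_mul_eq_one_left (by rw [up_mul, neg_add_cancel, up_zero]), map_inv]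
        exact inv_mem ha }
  have hY : ∀ a t : F, t ∈ Y → a * a * t ∈ Y := by
    intro a t ht
    by_cases ha : a = 0
    · rw [ha, mul_zero, zero_mul]; exact zero_mem _
    obtain ⟨n, hn⟩ := hπ (ψ (dg a ha))
    -- normalising element over the torus element
    obtain ⟨H, hH⟩ : ∃ H, H = ((S : Subgroup G).map π).comap π := ⟨_, rfl⟩
    have h1 : (S : Subgroup G) ≤ H := hH ▸ le_comap_map _ _
    have h2 : ((n • S : Sylow p G) : Subgroup G) ≤ H := by
      intro x hx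
      rw [Sylow.coe_subgroup_smul, Subgroup.mem_pointwise_smul_iff_inv_smul_mem] at hx
      simp only [MulAut.smul_def, MulAut.inv_apply, MulAut.conj_symm_apply] at hx
      rw [hH, mem_comap, hSimg]
      obtain ⟨u, hu, hux⟩ := (hSimg ▸ mem_map_of_mem π hx : π (n⁻¹ * x * n) ∈ upG.map ψ)
      obtain ⟨r, rfl⟩ := mem_upG.mp hu
      refine ⟨up (a * a * r), mem_upG.mpr ⟨_, rfl⟩, ?_⟩
      rw [show (up (a * a * r) : Matrix.SpecialLinearGroup (Fin 2) F) = dg a ha * up r * (dg a ha)⁻¹ by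
        rw [dg_up]; group, map_mul, map_mul, map_inv, hux, ← hn, map_mul, map_mul, map_inv]
      group
    obtain ⟨k, hk⟩ := MulAction.exists_smul_eq H ((n • S).subtype h2) (S.subtype h1)
    have hnS : ∀ s ∈ (S : Subgroup G), (k : G) * n * s * ((k : G) * n)⁻¹ ∈ (S : Subgroup G) := by
      intro s hs
      have hmem : n * s * n⁻¹ ∈ ((n • S : Sylow p G) : Subgroup G) := by
        rw [Sylow.coe_subgroup_smul, Subgroup.mem_pointwise_smul_iff_inv_smul_mem]
        simpa [MulAut.smul_def, mul_assoc] using hs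
      have h : k * (⟨n * s * n⁻¹, h2 hmem⟩ : H) * k⁻¹ ∈ ((S.subtype h1 : Sylow p H) : Subgroup H) := by
        rw [← hk, Sylow.coe_subgroup_smul, Subgroup.mem_pointwise_smul_iff_inv_smul_mem]
        simpa [MulAut.smul_def, mul_assoc, mem_subgroupOf] using hmem
      have h' : (k : G) * (n * s * n⁻¹) * (k : G)⁻¹ ∈ (S : Subgroup G) := h
      simpa [mul_assoc] using h'
    obtain ⟨x, hx, hxt⟩ := ht
    obtain ⟨k', hk', hkk⟩ := (mem_comap.mp (hH ▸ k.2) : π k ∈ (S : Subgroup G).map π)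
    have h3 : k'⁻¹ * ((k : G) * n * x * ((k : G) * n)⁻¹) * k'⁻¹⁻¹ ∈ X :=
      hSX _ (inv_mem hk') _ (hinv _ hnS x hx)
    refine ⟨_, h3, ?_⟩
    rw [show (up (a * a * t) : Matrix.SpecialLinearGroup (Fin 2) F) = dg a ha * up t * (dg a ha)⁻¹ by
      rw [dg_up]; group, map_mul ψ, map_mul ψ, map_inv ψ, ← hxt, ← hn]
    simp only [map_mul, map_inv, hkk]
    group
  obtain ⟨x, hx, hxT⟩ := SetLike.not_le_iff_exists.mp hXT
  obtain ⟨_, ⟨t, rfl⟩, ht⟩ := (hSimg ▸ mem_map_of_mem π (hXS hx) : π x ∈ upG.map ψ)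
  have ht0 : t ≠ 0 := by
    rintro rfl
    rw [up_zero, map_one] at ht
    refine hxT (hKT ⟨hXS hx, ?_⟩)
    rw [hπdef] at ht
    exact (QuotientGroup.eq_one_iff _).mp ht.symm
  have htop := addSubgroup_top_of_sq Y hY (show t ∈ Y from ⟨x, hx, ht.symm⟩) ht0
  refine le_antisymm hXS fun s hs => ?_
  obtain ⟨_, ⟨r, rfl⟩, hr⟩ := (hSimg ▸ mem_map_of_mem π hs : π s ∈ upG.map ψ)
  obtain ⟨y, hy, hyr⟩ := htop.ge (AddSubgroup.mem_top r)
  have : y⁻¹ * s ∈ X := by
    have h0 : y⁻¹ * s ∈ (S : Subgroup G) := mul_mem (inv_mem (hXS hy)) hs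
    refine hTX (hKT ⟨h0, ?_⟩)
    have h : π (y⁻¹ * s) = 1 := by rw [map_mul, map_inv, ← hr, hyr, inv_mul_cancel]
    rw [hπdef] at h
    exact (QuotientGroup.eq_one_iff _).mp h
  simpa using mul_mem hy this

section Thompson

theorem isMaxAb_conj {R A : Subgroup G} (hA : Fus.IsMaxAb R A) {n : G} (hn : A.map (MulAut.conj n).toMonoidHom ≤ R) :
    Fus.IsMaxAb R (A.map (MulAut.conj n).toMonoidHom) := by
  refine ⟨hn, ?_, ?_⟩
  · rintro _ ⟨b, hb, rfl⟩ _ ⟨c, hc, rfl⟩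
    rw [← map_mul, hA.2.1 b hb c hc, map_mul]
  · intro B hB hc
    rw [card_map_of_injective (MulAut.conj n).injective]
    exact hA.2.2 B hB hc

theorem thompson_conj_mem {R : Subgroup G} {n : G} (hn : ∀ s ∈ R, n * s * n⁻¹ ∈ R) {x : G}
    (hx : x ∈ Cfsg.thompsonSubgroupAOf R) : n * x * n⁻¹ ∈ Cfsg.thompsonSubgroupAOf R := by
  suffices h : Cfsg.thompsonSubgroupAOf R ≤ (Cfsg.thompsonSubgroupAOf R).comap (MulAut.conj n).toMonoidHom from h hx
  refine Fus.thompsonA_le_of fun A hA a ha => ?_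
  have hle : A.map (MulAut.conj n).toMonoidHom ≤ R := by
    rintro _ ⟨b, hb, rfl⟩; exact hn b (hA.1 hb)
  exact (isMaxAb_conj hA hle).le_thompsonA ⟨a, ha, rfl⟩

theorem centralizer_inv_conj {R : Subgroup G} {n : G} (hn : ∀ s ∈ R, n * s * n⁻¹ ∈ R) (s : G) (hs : s ∈ R) :
    n⁻¹ * s * n ∈ R := by
  obtain ⟨t, ht, e⟩ : s ∈ R.map (MulAut.conj n).toMonoidHom := by
    have hle : R.map (MulAut.conj n).toMonoidHom ≤ R := by rintro _ ⟨b, hb, rfl⟩; exact hn b hb
    rw [eq_of_le_of_card_ge hle (card_map_of_injective (MulAut.conj n).injective).ge]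
    exact hs
  rw [← e]
  simpa [mul_assoc] using ht

theorem centerThompson_conj_mem {R : Subgroup G} {n : G} (hn : ∀ s ∈ R, n * s * n⁻¹ ∈ R) {x : G}
    (hx : x ∈ Cfsg.centerThompsonAOf R) : n * x * n⁻¹ ∈ Cfsg.centerThompsonAOf R := by
  refine ⟨thompson_conj_mem hn hx.1, mem_centralizer_iff.mpr fun a ha => ?_⟩
  have h := mem_centralizer_iff.mp hx.2 (n⁻¹ * a * n⁻¹⁻¹)
    (thompson_conj_mem (fun s hs => by simpa using centralizer_inv_conj hn s hs) ha)
  rw [inv_inv] at h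
  calc a * (n * x * n⁻¹) = n * (n⁻¹ * a * n * x) * n⁻¹ := by group
    _ = n * (x * (n⁻¹ * a * n)) * n⁻¹ := by rw [h]
    _ = n * x * n⁻¹ * a := by group

theorem tilde_conj_mem {R : Subgroup G} {n : G} (hn : ∀ s ∈ R, n * s * n⁻¹ ∈ R) {x : G}
    (hx : x ∈ R ⊓ centralizer (Cfsg.centerThompsonAOf R : Set G)) :
    n * x * n⁻¹ ∈ R ⊓ centralizer (Cfsg.centerThompsonAOf R : Set G) := by
  refine ⟨hn x hx.1, mem_centralizer_iff.mpr fun a ha => ?_⟩
  have h := mem_centralizer_iff.mp hx.2 (n⁻¹ * a * n⁻¹⁻¹)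
    (centerThompson_conj_mem (fun s hs => by simpa using centralizer_inv_conj hn s hs) ha)
  rw [inv_inv] at h
  calc a * (n * x * n⁻¹) = n * (n⁻¹ * a * n * x) * n⁻¹ := by group
    _ = n * (x * (n⁻¹ * a * n)) * n⁻¹ := by rw [h]
    _ = n * x * n⁻¹ * a := by group

theorem exists_isMaxAb (R : Subgroup G) : ∃ A, Fus.IsMaxAb R A := by
  obtain ⟨A, hA⟩ := CL.exists_maxAbelian ↥R
  refine ⟨A.map R.subtype, Fus.isMaxAb_iff.mpr ⟨map_subtype_le _, ?_⟩⟩
  rwa [subgroupOf, comap_map_eq_self_of_injective R.subtype_injective]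

theorem centerThompson_le_maxAb {R A : Subgroup G} (hA : Fus.IsMaxAb R A) :
    Cfsg.centerThompsonAOf R ≤ A := by
  intro z hz
  have hzR : z ∈ R := Fus.thompsonA_le R hz.1
  obtain ⟨hAR, hA'⟩ := Fus.isMaxAb_iff.mp hA
  have : (⟨z, hzR⟩ : R) ∈ A.subgroupOf R := by
    rw [← CL.maxAbelian_centralizer hA']
    exact mem_centralizer_iff.mpr fun a ha => Subtype.ext (mem_centralizer_iff.mp hz.2 (a : G) (hA.le_thompsonA ha))
  exact this

/-- The measure of every subgroup of `C_R(Z(J(R)))` is at most that of the whole. -/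
theorem measure_le (R : Subgroup G) {X : Subgroup G}
    (hX : X ≤ R ⊓ centralizer (Cfsg.centerThompsonAOf R : Set G)) :
    Nat.card X * Nat.card ↥(R ⊓ centralizer (Cfsg.centerThompsonAOf R : Set G) ⊓ centralizer (X : Set G)) ≤
      Nat.card ↥(R ⊓ centralizer (Cfsg.centerThompsonAOf R : Set G)) * Nat.card ↥(Cfsg.centerThompsonAOf R) := by
  obtain ⟨Jt, hJt⟩ : ∃ Jt, Jt = R ⊓ centralizer (Cfsg.centerThompsonAOf R : Set G) := ⟨_, rfl⟩
  rw [← hJt] at hX ⊢
  have hJle : Cfsg.thompsonSubgroupAOf R ≤ Jt := fun x hx => by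
    rw [hJt]
    exact ⟨Fus.thompsonA_le R hx, mem_centralizer_iff.mpr fun z hz => (mem_centralizer_iff.mp hz.2 x hx).symm⟩
  have hJR : Jt ≤ R := hJt ▸ inf_le_left
  obtain ⟨A₀, hA₀⟩ := exists_isMaxAb R
  have hA₀t : Fus.IsMaxAb Jt A₀ := ⟨hA₀.le_thompsonA.trans hJle, hA₀.2.1, fun B hB hc => hA₀.2.2 B (hB.trans hJR) hc⟩
  have hJeq : Cfsg.thompsonSubgroupAOf Jt = Cfsg.thompsonSubgroupAOf R := by
    refine le_antisymm (Fus.thompsonA_le_of fun A hA => ?_) (Fus.thompsonA_le_of fun A hA => ?_)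
    · exact Fus.IsMaxAb.le_thompsonA ⟨hA.1.trans hJR, hA.2.1, fun B hB hc =>
        (hA₀.2.2 B hB hc).trans (hA.2.2 A₀ hA₀t.1 hA₀t.2.1)⟩
    · exact Fus.IsMaxAb.le_thompsonA ⟨hA.le_thompsonA.trans hJle, hA.2.1, fun B hB hc => hA.2.2 B (hB.trans hJR) hc⟩
  obtain ⟨Q, hQ⟩ := CL.exists_centrallyLarge ↥Jt
  have hM := CL.sup_thompson hQ
  have htop : (Q ⊔ Cfsg.thompsonSubgroupA ↥Jt) = ⊤ := by
    refine eq_top_iff.mpr fun x _ => CL.centralizer_center_thompson_le hM le_sup_right ?_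
    refine mem_centralizer_iff.mpr fun y hy => Subtype.ext ?_
    have hy1 : (y : G) ∈ Cfsg.thompsonSubgroupAOf Jt := ⟨y, hy.1, rfl⟩
    have hxx : (x : G) ∈ R ⊓ centralizer (Cfsg.centerThompsonAOf R : Set G) := hJt ▸ x.2
    refine mem_centralizer_iff.mp hxx.2 (y : G) ⟨hJeq ▸ hy1, mem_centralizer_iff.mpr fun j hj => ?_⟩
    rw [SetLike.mem_coe, ← hJeq] at hj
    obtain ⟨j', hj', rfl⟩ := hj
    exact congrArg Subtype.val (mem_centralizer_iff.mp hy.2 j' hj')
  rw [htop] at hM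
  have h := ((Invol.centrallyLarge_iff _).mp hM).1 (X.subgroupOf Jt)
  unfold Invol.cdMeasure at h
  rw [card_top, Nat.card_congr (subgroupOfEquivOfLe hX).toEquiv] at h
  refine le_trans (Nat.mul_le_mul_left _ ?_) (h.trans (Nat.mul_le_mul_left _ ?_))
  · rw [← card_map_of_injective Jt.subtype_injective]
    refine card_le_of_le fun x hx => ⟨⟨x, hx.1⟩, mem_centralizer_iff.mpr fun y hy => Subtype.ext ?_, rfl⟩
    exact mem_centralizer_iff.mp hx.2 (y : G) hy
  · rw [← card_map_of_injective Jt.subtype_injective]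
    refine card_le_of_le ?_
    rintro _ ⟨x, hx, rfl⟩
    have hc : ∀ j ∈ Cfsg.thompsonSubgroupAOf R, j * (x : G) = (x : G) * j := fun j hj =>
      congrArg Subtype.val (mem_centralizer_iff.mp hx ⟨j, hJle hj⟩ (mem_top _))
    exact ⟨Fus.centralizer_thompsonA_le ⟨hJR x.2, mem_centralizer_iff.mpr hc⟩, mem_centralizer_iff.mpr hc⟩

end Thompson

end Cfsg.Agent.Invol.PushTilde
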