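import Mathlib
import Cfsg.Prelude.Def_TwoFusion
import Cfsg.Prelude.Def_CaseTheorems
import Cfsg.Agent.Lib.Fus.ZStarCenter

/-!
# A strongly closed 2-group acting on a core-free group it meets trivially
-/

namespace Cfsg.Agent.Invol

universe u

theorem commute_of_stronglyClosed_disjoint {X : Type u} [Group X] [Finite X] (T : Sylow 2 X)
    (A H : Subgroup X) [H.Normal] (hsup : H ⊔ A = ⊤) (hAT : A ≤ (T : Subgroup X))
    (hA : ∀ a ∈ A, ∀ g : X, g * a * g⁻¹ ∈ (T : Subgroup X) → g * a * g⁻¹ ∈ A)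
    (hdisj : A ⊓ H = ⊥) (hO : Cfsg.pPrimeCore 2 ↥H = ⊥) :
    A ≤ Subgroup.centralizer (H : Set X) := by
  have : Fact (Nat.Prime 2) := ⟨Nat.prime_two⟩
  set K := A ⊓ Subgroup.centralizer (H : Set X) with hK
  by_contra hcon
  have hCn : ∀ a : X, ∀ c ∈ Subgroup.centralizer (H : Set X), a * c * a⁻¹ ∈ Subgroup.centralizer (H : Set X) := by
    intro a c hc
    rw [Subgroup.mem_centralizer_iff] at hc ⊢
    intro h hh
    have := hc _ (‹H.Normal›.conj_mem h hh a⁻¹)
    calc h * (a * c * a⁻¹) = a * ((a⁻¹ * h * a⁻¹⁻¹) * c) * a⁻¹ := by group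
      _ = a * (c * (a⁻¹ * h * a⁻¹⁻¹)) * a⁻¹ := by rw [this]
      _ = a * c * a⁻¹ * h := by group
  have hdec : ∀ x : X, ∃ h ∈ H, ∃ a ∈ A, x = h * a := fun x => by
    obtain ⟨h, hh, a, ha, he⟩ := Subgroup.mem_sup_of_normal_left.mp (hsup ▸ Subgroup.mem_top x)
    exact ⟨h, hh, a, ha, he.symm⟩
  have hKn : K.Normal := ⟨fun c hc x => by
    obtain ⟨h, hh, a, ha, rfl⟩ := hdec x
    have h1 : a * c * a⁻¹ ∈ K := Subgroup.mem_inf.mpr ⟨mul_mem (mul_mem ha hc.1) (inv_mem ha), hCn a c hc.2⟩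
    have h2 := Subgroup.mem_centralizer_iff.mp h1.2 h hh
    rw [show h * a * c * (h * a)⁻¹ = h * (a * c * a⁻¹) * h⁻¹ by group, h2, mul_inv_cancel_right]
    exact h1⟩
  have hKA : ¬ (A ≤ K) := fun h => hcon fun a ha => (h ha).2
  -- an element of `A` central modulo `K`
  obtain ⟨z, hzA, hzK, hzc⟩ : ∃ z ∈ A, z ∉ K ∧ ∀ a ∈ A, a * z * a⁻¹ * z⁻¹ ∈ K := by
    set K' := K.subgroupOf A with hK'
    have : K'.Normal := hKn.subgroupOf A
    have : Nontrivial (A ⧸ K') := by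
      rw [← Finite.one_lt_card_iff_nontrivial, ← Subgroup.index_eq_card]
      have h0 : K'.index ≠ 1 := fun h => hKA (Subgroup.subgroupOf_eq_top.mp (Subgroup.index_eq_one.mp h))
      have := K'.index_ne_zero_of_finite
      omega
    have hp : IsPGroup 2 (A ⧸ K') := (T.isPGroup'.to_le hAT).to_quotient K'
    have := hp.center_nontrivial
    obtain ⟨⟨w, hw⟩, hw1⟩ := exists_ne (1 : Subgroup.center (A ⧸ K'))
    obtain ⟨z, rfl⟩ := QuotientGroup.mk_surjective w
    refine ⟨z, z.2, fun h => hw1 (Subtype.ext ((QuotientGroup.eq_one_iff z).mpr h)), fun a ha => ?_⟩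
    have h1 := Subgroup.mem_center_iff.mp hw (QuotientGroup.mk ⟨a, ha⟩)
    rw [← QuotientGroup.mk_mul, ← QuotientGroup.mk_mul, QuotientGroup.eq] at h1
    have h2 : (⟨a, ha⟩ * z)⁻¹ * (z * ⟨a, ha⟩) ∈ K' := h1
    have h3 := hKn.conj_mem _ (inv_mem (Subgroup.mem_subgroupOf.mp h2)) (z * a)
    simpa [mul_assoc] using h3
  set f := QuotientGroup.mk' K with hf
  have hiso : Fus.IsoElt (T.mapSurjective (QuotientGroup.mk'_surjective K)) (f z) := by
    refine ⟨⟨z, hAT hzA, rfl⟩, fun g hg => ?_⟩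
    obtain ⟨x, rfl⟩ := QuotientGroup.mk'_surjective K g
    rw [← map_inv, ← map_mul, ← map_mul] at hg ⊢
    obtain ⟨s, hs, hse⟩ := hg
    have hk : s⁻¹ * (x * z * x⁻¹) ∈ K := QuotientGroup.eq.mp hse
    have hxz : x * z * x⁻¹ ∈ A := by
      refine hA z hzA x ?_
      have := mul_mem hs (hAT hk.1 : _ ∈ (T : Subgroup X))
      simpa using this
    obtain ⟨h, hh, a, ha, rfl⟩ := hdec x
    set z' := a * z * a⁻¹ with hz'
    have hz'A : z' ∈ A := mul_mem (mul_mem ha hzA) (inv_mem ha)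
    have h1 : h * z' * h⁻¹ * z'⁻¹ ∈ A ⊓ H := by
      refine Subgroup.mem_inf.mpr ⟨mul_mem ?_ (inv_mem hz'A), ?_⟩
      · convert hxz using 1; rw [hz']; group
      · have := mul_mem hh (‹H.Normal›.conj_mem _ (inv_mem hh) z')
        show _ ∈ H
        simpa [mul_assoc] using this
    rw [hdisj, Subgroup.mem_bot, mul_inv_eq_one] at h1
    rw [show h * a * z * (h * a)⁻¹ = h * z' * h⁻¹ by rw [hz']; group, h1]
    refine QuotientGroup.eq.mpr ?_
    have h2 := inv_mem (hzc a ha)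
    have h3 := hKn.conj_mem _ h2 z⁻¹
    rw [hz']
    simpa [mul_assoc] using h3
  refine hzK ⟨hzA, Subgroup.mem_centralizer_iff.mpr fun h hh => ?_⟩
  have h1 := Fus.IsoElt.commutator_mem _ _ rfl _ _ hiso (f h)
  rw [← map_inv, ← map_inv, ← map_mul, ← map_mul, ← map_mul] at h1
  set O := Cfsg.pPrimeCore 2 (X ⧸ K) with hOdef
  have : O.Normal := Grp.pPrimeCore_isNormal
  set M := (O.comap f).subgroupOf H with hM
  have hinj : Function.Injective ((f.comp H.subtype).domRestrict M) := by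
    refine (injective_iff_map_eq_one _).mpr fun m hm => ?_
    have h2 : ((m : H) : X) ∈ A ⊓ H := ⟨((QuotientGroup.eq_one_iff _).mp hm : _ ∈ K).1, (m : H).2⟩
    rw [hdisj, Subgroup.mem_bot] at h2
    exact Subtype.ext (Subtype.ext h2)
  have hMO : M ≤ Cfsg.pPrimeCore 2 ↥H := by
    refine Grp.le_pPrimeCore ((Subgroup.Normal.comap inferInstance f).subgroupOf H) ?_
    have h2 : Nat.card M ∣ Nat.card O := by
      have h3 : Nat.card ((f.comp H.subtype).domRestrict M).range = Nat.card M :=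
        (Nat.card_congr (MonoidHom.ofInjective hinj).toEquiv).symm
      rw [← h3]
      refine Subgroup.card_dvd_of_le ?_
      rintro _ ⟨m, rfl⟩
      exact m.2
    exact (Grp.pPrimeCore_coprime (p := 2)).coprime_dvd_left h2
  have hc : z * h * z⁻¹ * h⁻¹ ∈ H := mul_mem (‹H.Normal›.conj_mem h hh z) (inv_mem hh)
  have h4 : (⟨_, hc⟩ : H) ∈ Cfsg.pPrimeCore 2 ↥H := hMO h1
  rw [hO, Subgroup.mem_bot] at h4
  have h5 : z * h * z⁻¹ * h⁻¹ = 1 := congrArg Subtype.val h4
  calc h * z = h * z * 1 := (mul_one _).symm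
    _ = (z * h * z⁻¹ * h⁻¹) * (h * z) := by rw [h5, mul_one, one_mul]
    _ = z * h := by group

theorem le_centralizer_of_stronglyClosed {G : Type u} [Group G] [Finite G] (S : Sylow 2 G)
    (A : Subgroup G) (hA : Cfsg.IsStronglyClosed A (S : Subgroup G)) (H : Subgroup G)
    (hAH : A ≤ Subgroup.normalizer (H : Set G)) (hO : Cfsg.oddCore ↥H = ⊥) (hdisj : A ⊓ H = ⊥) :
    A ≤ Subgroup.centralizer (H : Set G) := by
  have : Fact (Nat.Prime 2) := ⟨Nat.prime_two⟩
  set X := H ⊔ A with hX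
  have hHn : (H.subgroupOf X).Normal :=
    (Subgroup.normal_subgroupOf_iff_le_normalizer le_sup_left).mpr (sup_le Subgroup.le_normalizer hAH)
  obtain ⟨T, hT⟩ := ((S.isPGroup'.to_le hA.1).comap_subtype (K := X)).exists_le_sylow
  obtain ⟨g, hg⟩ := exists_conj_subset_sylow (T.isPGroup'.map X.subtype) S
  have hga : ∀ a ∈ A, g * a * g⁻¹ ∈ A := fun a ha => hA.2 a ha g
    (hg a ⟨⟨a, Subgroup.mem_sup_right ha⟩, hT ha, rfl⟩)
  have hgN : g ∈ Subgroup.normalizer (A : Set G) := Subgroup.mem_normalizer_fintype hga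
  have hequiv : ↥(H.subgroupOf X) ≃* ↥H := Subgroup.subgroupOfEquivOfLe le_sup_left
  have key := commute_of_stronglyClosed_disjoint T (A.subgroupOf X) (H.subgroupOf X) ?_ hT ?_ ?_ ?_
  · intro a ha
    refine Subgroup.mem_centralizer_iff.mpr fun h hh => ?_
    exact congrArg Subtype.val (Subgroup.mem_centralizer_iff.mp
      (key (x := ⟨a, Subgroup.mem_sup_right ha⟩) ha) ⟨h, Subgroup.mem_sup_left hh⟩ hh)
  · rw [← Subgroup.subgroupOf_sup le_sup_left le_sup_right, Subgroup.subgroupOf_self]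
  · intro a ha x hx
    have h1 : g * ((x : G) * a * (x : G)⁻¹) * g⁻¹ ∈ (S : Subgroup G) := hg _ ⟨_, hx, rfl⟩
    have h2 := hA.2 a ha (g * x) (by convert h1 using 1; group)
    show (x : G) * a * (x : G)⁻¹ ∈ A
    refine (Subgroup.mem_normalizer_iff.mp hgN _).mpr ?_
    convert h2 using 1; group
  · rw [← le_bot_iff]
    rintro a ⟨ha, hh⟩
    have h1 : (a : G) ∈ A ⊓ H := ⟨ha, hh⟩
    rw [hdisj, Subgroup.mem_bot] at h1
    exact Subgroup.mem_bot.mpr (Subtype.ext h1)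
  · refine le_bot_iff.mp fun w hw => ?_
    set O := Cfsg.pPrimeCore 2 ↥(H.subgroupOf X) with hOdef
    have hOn : O.Normal := Grp.pPrimeCore_isNormal
    have h1 : O.map hequiv.toMonoidHom ≤ Cfsg.oddCore ↥H := Grp.le_pPrimeCore
      (hOn.map _ hequiv.surjective) (by
        rw [Subgroup.card_map_of_injective (f := hequiv.toMonoidHom) hequiv.injective]
        exact Grp.pPrimeCore_coprime)
    have h2 := h1 ⟨w, hw, rfl⟩
    rw [hO, Subgroup.mem_bot] at h2
    exact Subgroup.mem_bot.mpr (hequiv.injective (h2.trans (map_one hequiv).symm))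

end Cfsg.Agent.Invol
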