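import Cfsg.Agent.Lib.Invol.CubicAdjust
import Cfsg.Agent.Lib.Invol.PResidual

/-!
Lifts, of order prime to `p` or generated by such, of generators of `SL(2, p)` for `p ≥ 5`; a
group inducing these generators on a section of exponent `p` is not `p`-stable.
-/

set_option autoImplicit false
set_option linter.style.haveILetI false
set_option linter.unusedSectionVars false

open scoped commutatorElement Matrix

namespace Cfsg.Agent.Invol.CubicStable

open Grp Grp.Quad Fus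

variable {p : ℕ} [hp : Fact p.Prime]

local notation "SL2" => Matrix.SpecialLinearGroup (Fin 2) (ZMod p)
local notation "F2" => Multiplicative (Fin 2 → ZMod p)

/-- Diagonal matrices. -/
def dg (c d : ZMod p) (h : c * d = 1) : SL2 := ⟨!![c, 0; 0, d], by simp [Matrix.det_fin_two, h]⟩

theorem dg_congr {c d c' d' : ZMod p} {h : c * d = 1} {h' : c' * d' = 1} (e : c = c') (e' : d = d') :
    dg c d h = dg c' d' h' := by subst e e'; rfl

theorem dg_pow (c d : ZMod p) (h : c * d = 1) :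
    ∀ n : ℕ, dg c d h ^ n = dg (c ^ n) (d ^ n) (by rw [← mul_pow, h, one_pow]) := by
  intro n
  induction n with
  | zero =>
    rw [pow_zero]
    refine Subtype.ext ?_
    ext i j
    fin_cases i <;> fin_cases j <;> simp [dg]
  | succ n ih =>
    refine Subtype.ext ?_
    rw [pow_succ, Matrix.SpecialLinearGroup.coe_mul, ih]
    ext i j
    fin_cases i <;> fin_cases j <;> simp [dg, Matrix.mul_apply, Fin.sum_univ_two, pow_succ]

theorem dg_pow_prime_pow (c d : ZMod p) (h : c * d = 1) :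
    ∀ k : ℕ, dg c d h ^ p ^ k = dg c d h := by
  intro k
  rw [dg_pow]
  exact dg_congr (ZMod.pow_card_pow c) (ZMod.pow_card_pow d)

theorem dg_mul_up (c d t : ZMod p) (h : c * d = 1) :
    dg c d h * SL2.up t = SL2.up (c * c * t) * dg c d h := by
  refine Subtype.ext ?_
  rw [Matrix.SpecialLinearGroup.coe_mul, Matrix.SpecialLinearGroup.coe_mul]
  ext i j
  fin_cases i <;> fin_cases j <;> simp [dg, SL2.up, Matrix.mul_apply, Fin.sum_univ_two]
  linear_combination (-(c * t)) * h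

theorem dg_mul_low (c d t : ZMod p) (h : c * d = 1) :
    dg c d h * SL2.low t = SL2.low (d * d * t) * dg c d h := by
  refine Subtype.ext ?_
  rw [Matrix.SpecialLinearGroup.coe_mul, Matrix.SpecialLinearGroup.coe_mul]
  ext i j
  fin_cases i <;> fin_cases j <;> simp [dg, SL2.low, Matrix.mul_apply, Fin.sum_univ_two]
  linear_combination (-(d * t)) * h

/-- Minus the identity. -/
def negOne : SL2 := dg (-1) (-1) (by simp)

theorem matAct_negOne (v : F2) : matAct (negOne (p := p)) v = v⁻¹ := by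
  apply Multiplicative.toAdd.injective
  funext i
  fin_cases i <;> simp [matAct, negOne, dg, Matrix.mulVec, dotProduct, Fin.sum_univ_two]

theorem matAct_inv_vec (A : SL2) (v : F2) : matAct A v⁻¹ = (matAct A v)⁻¹ := by
  refine eq_inv_of_mul_eq_one_left ?_
  rw [← matAct_map_mul, inv_mul_cancel, matAct_map_one]

theorem quad_of_unipotent (A : SL2) (a b : ZMod p) (hA : A.1 = !![1, a; b, 1]) (hab : a * b = 0)
    (v : F2) : matAct A (matAct A v * v⁻¹) = matAct A v * v⁻¹ := by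
  apply Multiplicative.toAdd.injective
  show A.1 *ᵥ (A.1 *ᵥ v.toAdd + -v.toAdd) = A.1 *ᵥ v.toAdd + -v.toAdd
  rw [hA]
  generalize v.toAdd = x
  funext i
  rcases mul_eq_zero.1 hab with rfl | rfl <;>
    fin_cases i <;> simp [Matrix.mulVec, dotProduct, Fin.sum_univ_two]

theorem up_low_up_sq :
    (SL2.up (1 : ZMod p) * SL2.low 1 ^ (p - 1) * SL2.up 1) ^ 2 = negOne (p := p) := by
  have h : ((p - 1 : ℕ) : ZMod p) = -1 := by
    rw [Nat.cast_sub hp.out.one_le, ZMod.natCast_self, Nat.cast_one, zero_sub]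
  rw [SL2.low_pow, h, sq]
  refine Subtype.ext ?_
  simp only [Matrix.SpecialLinearGroup.coe_mul]
  ext i j
  fin_cases i <;> fin_cases j <;>
    simp [SL2.up, SL2.low, negOne, dg, Matrix.mul_apply, Fin.sum_univ_two]

theorem two_sq_ne (h5 : 5 ≤ p) : (2 : ZMod p) * 2 - 1 ≠ 0 ∧ (2 : ZMod p) ≠ 0 := by
  have h : ∀ n : ℕ, 0 < n → n < 5 → (n : ZMod p) ≠ 0 := fun n h1 h2 e => by
    have := Nat.le_of_dvd h1 ((ZMod.natCast_eq_zero_iff n p).1 e)
    omega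
  exact ⟨by have := h 3 (by norm_num) (by norm_num); norm_num at this ⊢; exact this,
    by have := h 2 (by norm_num) (by norm_num); norm_num at this ⊢; exact this⟩

/-- For `p ≥ 5` the standard generators are induced by elements of the subgroup generated by the
elements of order prime to `p`. -/
theorem exists_lifts (h5 : 5 ≤ p) {Γ : Type*} [Group Γ] [Finite Γ] (Q : Γ → SL2 → Prop)
    (h1 : Q 1 1) (hmul : ∀ g h A B, Q g A → Q h B → Q (g * h) (A * B))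
    (huniq : ∀ g A B, Q g A → Q g B → A = B) (hsurj : ∀ A, ∃ g, Q g A) :
    (∃ g ∈ pResidual p Γ, Q g negOne) ∧ (∃ g ∈ pResidual p Γ, Q g (SL2.up 1)) ∧
      ∃ g ∈ pResidual p Γ, Q g (SL2.low 1) := by
  have hpow : ∀ g A, Q g A → ∀ n : ℕ, Q (g ^ n) (A ^ n) := fun g A hg n => by
    induction n with
    | zero => simpa using h1
    | succ n ih => rw [pow_succ, pow_succ]; exact hmul _ _ _ _ ih hg
  have hinv : ∀ g A, Q g A → Q g⁻¹ A⁻¹ := fun g A hg => by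
    obtain ⟨n, hn⟩ : ∃ n, orderOf g = n + 1 := ⟨orderOf g - 1, by have := orderOf_pos g; omega⟩
    have hA : A ^ (n + 1) = 1 := huniq 1 _ _ (by
      have := hpow g A hg (n + 1)
      rwa [show g ^ (n + 1) = 1 by rw [← hn, pow_orderOf_eq_one]] at this) h1
    have hg' : g ^ (n + 1) = 1 := by rw [← hn, pow_orderOf_eq_one]
    rw [inv_eq_of_mul_eq_one_left (by rw [← pow_succ]; exact hg' : g ^ n * g = 1),
      inv_eq_of_mul_eq_one_left (by rw [← pow_succ]; exact hA : A ^ n * A = 1)]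
    exact hpow g A hg n
  have hdiag : ∀ c d : ZMod p, ∀ h : c * d = 1, ∃ g ∈ pResidual p Γ, Q g (dg c d h) := by
    intro c d h
    obtain ⟨g, hg⟩ := hsurj (dg c d h)
    refine ⟨g ^ p ^ ((orderOf g).factorization p), Subgroup.subset_closure ?_, ?_⟩
    · show Nat.Coprime (orderOf _) p
      rw [orderOf_pow_of_dvd (pow_ne_zero _ hp.out.ne_zero) (Nat.ordProj_dvd _ _)]
      exact (Nat.coprime_ordCompl hp.out (orderOf_pos g).ne').symm
    · have := hpow g _ hg (p ^ ((orderOf g).factorization p))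
      rwa [dg_pow_prime_pow] at this
  obtain ⟨h3, h2⟩ := two_sq_ne (p := p) h5
  haveI hnR : (pResidual p Γ).Normal := inferInstance
  have hcomm : ∀ (c d : ZMod p) (h : c * d = 1) (g : Γ) (A : SL2), Q g A →
      ∃ x ∈ pResidual p Γ, Q x (dg c d h * A * (dg c d h)⁻¹ * A⁻¹) := by
    intro c d h g A hg
    obtain ⟨x, hx, hxQ⟩ := hdiag c d h
    refine ⟨x * g * x⁻¹ * g⁻¹, ?_, hmul _ _ _ _ (hmul _ _ _ _ (hmul _ _ _ _ hxQ hg) (hinv _ _ hxQ))
      (hinv _ _ hg)⟩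
    rw [mul_assoc, mul_assoc, ← mul_assoc g]
    exact mul_mem hx (hnR.conj_mem _ (inv_mem hx) g)
  refine ⟨hdiag _ _ _, ?_, ?_⟩
  · obtain ⟨g, hg⟩ := hsurj (SL2.up 1)
    obtain ⟨x, hx, hxQ⟩ := hcomm 2 2⁻¹ (mul_inv_cancel₀ h2) g _ hg
    have hinvup : (SL2.up (1 : ZMod p))⁻¹ = SL2.up (-1) :=
      inv_eq_of_mul_eq_one_left (by rw [SL2.up_mul, neg_add_cancel, SL2.up_zero])
    rw [dg_mul_up, mul_inv_cancel_right, hinvup, SL2.up_mul] at hxQ
    refine ⟨x ^ ((2 * 2 - 1 : ZMod p)⁻¹).val, pow_mem hx _, ?_⟩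
    have hQ := hpow x _ hxQ ((2 * 2 - 1 : ZMod p)⁻¹).val
    rwa [SL2.up_pow, ZMod.natCast_zmod_val,
      show (2 * 2 - 1 : ZMod p)⁻¹ * (2 * 2 * 1 + -1) = 1 by
        rw [mul_one, ← sub_eq_add_neg]; exact inv_mul_cancel₀ h3] at hQ
  · obtain ⟨g, hg⟩ := hsurj (SL2.low 1)
    obtain ⟨x, hx, hxQ⟩ := hcomm 2⁻¹ 2 (inv_mul_cancel₀ h2) g _ hg
    have hinvup : (SL2.low (1 : ZMod p))⁻¹ = SL2.low (-1) :=
      inv_eq_of_mul_eq_one_left (by rw [SL2.low_mul, neg_add_cancel, SL2.low_zero])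
    rw [dg_mul_low, mul_inv_cancel_right, hinvup, SL2.low_mul] at hxQ
    refine ⟨x ^ ((2 * 2 - 1 : ZMod p)⁻¹).val, pow_mem hx _, ?_⟩
    have hQ := hpow x _ hxQ ((2 * 2 - 1 : ZMod p)⁻¹).val
    rwa [SL2.low_pow, ZMod.natCast_zmod_val,
      show (2 * 2 - 1 : ZMod p)⁻¹ * (2 * 2 * 1 + -1) = 1 by
        rw [mul_one, ← sub_eq_add_neg]; exact inv_mul_cancel₀ h3] at hQ

variable {G : Type*} [Group G]

/-- `g` normalizes `W` and induces `A` through `π`. -/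
def Acts (W : Subgroup G) (π : W →* F2) (g : G) (A : SL2) : Prop :=
  ∃ h : ∀ w ∈ W, g * w * g⁻¹ ∈ W, ∀ w : W, π ⟨g * w * g⁻¹, h w w.2⟩ = matAct A (π w)

theorem Acts.pi {W : Subgroup G} {π : W →* F2} {g : G} {A : SL2} (hg : Acts W π g A) {w : G}
    (hw : w ∈ W) (hm : g * w * g⁻¹ ∈ W) : π ⟨g * w * g⁻¹, hm⟩ = matAct A (π ⟨w, hw⟩) :=
  hg.2 ⟨w, hw⟩

theorem Acts.mem_normalizer [Finite G] {W : Subgroup G} {π : W →* F2} {g : G} {A : SL2}
    (hg : Acts W π g A) : g ∈ Subgroup.normalizer (W : Set G) :=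
  mem_normalizer_of_forall_mem hg.1

theorem Acts.mul {W : Subgroup G} {π : W →* F2} {g k : G} {A B : SL2} (hg : Acts W π g A)
    (hk : Acts W π k B) : Acts W π (g * k) (A * B) := by
  have e : ∀ w : G, g * k * w * (g * k)⁻¹ = g * (k * w * k⁻¹) * g⁻¹ := fun w => by group
  refine ⟨fun w hw => e w ▸ hg.1 _ (hk.1 w hw), fun w => ?_⟩
  rw [matAct_mul, ← hk.2 w, ← hg.2 ⟨_, hk.1 w w.2⟩]
  exact congrArg π (Subtype.ext (e w))

theorem Acts.one (W : Subgroup G) (π : W →* F2) : Acts W π 1 1 :=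
  ⟨fun w hw => by simpa using hw, fun w => by
    rw [matAct_one]; exact congrArg π (Subtype.ext (by simp))⟩

theorem Acts.pow {W : Subgroup G} {π : W →* F2} {g : G} {A : SL2} (hg : Acts W π g A) :
    ∀ n : ℕ, Acts W π (g ^ n) (A ^ n) := fun n => by
  induction n with
  | zero => simpa using Acts.one W π
  | succ n ih => rw [pow_succ, pow_succ]; exact ih.mul hg

theorem Acts.unique {W : Subgroup G} {π : W →* F2} (hπ : Function.Surjective π) {g : G} {A B : SL2}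
    (hA : Acts W π g A) (hB : Acts W π g B) : A = B :=
  eq_of_matAct_eq fun v => by
    obtain ⟨w, rfl⟩ := hπ v
    rw [← hA.2 w, ← hB.2 w]

set_option maxHeartbeats 1000000 in
/-- A `p`-stable group induces no `SL(2, p)` on a quotient of order `p²` of a subgroup of exponent
`p`, by elements fixing the kernel. -/
theorem false_of_lifts [Finite G] (hodd : p ≠ 2) (hst : IsNormalizerPStable p G) {W Y : Subgroup G}
    (hYW : Y ≤ W) {π : W →* F2} (hπ : Function.Surjective π)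
    (hker : ∀ w : W, (w : G) ∈ Y → π w = 1) (hexp : ∀ w ∈ W, w ^ p = 1)
    (hYc : ∀ y ∈ Y, ∀ w ∈ W, Commute y w) (hab : ∀ a ∈ W, ∀ b ∈ W, a * b * a⁻¹ * b⁻¹ ∈ Y)
    {τ u v : G} (hτ : Acts W π τ negOne) (hu : Acts W π u (SL2.up 1))
    (hv : Acts W π v (SL2.low 1)) (hτR : ∀ w : W, π w = 1 → Commute τ w)
    (huR : ∀ w : W, π w = 1 → Commute u w) (hvR : ∀ w : W, π w = 1 → Commute v w) : False := by
  classical
  set NY := Subgroup.normalizer (Y : Set G) with hNY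
  set Ys := Y.subgroupOf NY with hYs
  haveI : Ys.Normal := Subgroup.normal_in_normalizer
  set f := QuotientGroup.mk' Ys with hf
  have hf1 : ∀ x : NY, f x = 1 ↔ (x : G) ∈ Y := fun x =>
    (QuotientGroup.eq_one_iff x).trans Subgroup.mem_subgroupOf
  have hcen : ∀ {g : G}, (∀ y ∈ Y, Commute g y) → g ∈ NY := fun hg =>
    Subgroup.centralizer_le_normalizer _ (Subgroup.mem_centralizer_iff.2 fun y hy => ((hg y hy).eq).symm)
  have hWN : W ≤ NY := fun w hw => hcen fun y hy => (hYc y hy w hw).symm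
  set R := π.ker.map W.subtype with hR
  have hRW : R ≤ W := Subgroup.map_subtype_le _
  have hmemR : ∀ {x : G} (hx : x ∈ W), π ⟨x, hx⟩ = 1 → x ∈ R := fun hx h => ⟨⟨_, hx⟩, h, rfl⟩
  have hYR : Y ≤ R := fun y hy => hmemR (hYW hy) (hker _ hy)
  have hR1 : ∀ {x : G} (hx : x ∈ R), π ⟨x, hRW hx⟩ = 1 := by
    rintro _ ⟨w, hw, rfl⟩
    exact hw
  have hex : ∀ {g : G}, (∀ w : W, π w = 1 → Commute g w) → ∀ y ∈ Y, Commute g y := fun hg y hy =>
    hg ⟨y, hYW hy⟩ (hker _ hy)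
  -- the inverted subgroup modulo `Y`
  have hsplit : ∀ a ∈ W, ∀ b ∈ W, τ * (a * b) * τ⁻¹ * (a * b) =
      (τ * a * τ⁻¹ * a) * (a⁻¹ * (τ * b * τ⁻¹) * a⁻¹⁻¹ * (τ * b * τ⁻¹)⁻¹) * (τ * b * τ⁻¹ * b) :=
    fun a _ b _ => by group
  let W₁ : Subgroup G :=
    { carrier := {w | w ∈ W ∧ τ * w * τ⁻¹ * w ∈ Y}
      one_mem' := ⟨W.one_mem, by simpa using Y.one_mem⟩
      mul_mem' := fun {a b} ha hb => ⟨W.mul_mem ha.1 hb.1, by
        rw [hsplit a ha.1 b hb.1]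
        exact Y.mul_mem (Y.mul_mem ha.2 (hab _ (W.inv_mem ha.1) _ (hτ.1 b hb.1))) hb.2⟩
      inv_mem' := fun {a} ha => ⟨W.inv_mem ha.1, by
        rw [show τ * a⁻¹ * τ⁻¹ * a⁻¹ = (a * (τ * a * τ⁻¹ * a) * a⁻¹)⁻¹ by group]
        refine Y.inv_mem ?_
        rw [← (hYc _ ha.2 a ha.1).eq, mul_inv_cancel_right]
        exact ha.2⟩ }
  have hW₁W : W₁ ≤ W := fun w hw => hw.1
  have hYW₁ : Y ≤ W₁ := fun y hy => ⟨hYW hy, by
    rw [(hex hτR y hy).eq, mul_inv_cancel_right]; exact Y.mul_mem hy hy⟩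
  let π₁ : W₁ →* F2 := π.comp (Subgroup.inclusion hW₁W)
  have hinvR : ∀ w ∈ W, τ * w * τ⁻¹ * w ∈ R := fun w hw => by
    refine hmemR (W.mul_mem (hτ.1 w hw) hw) ?_
    rw [show (⟨τ * w * τ⁻¹ * w, W.mul_mem (hτ.1 w hw) hw⟩ : W) =
      ⟨τ * w * τ⁻¹, hτ.1 w hw⟩ * ⟨w, hw⟩ from rfl, map_mul, hτ.pi hw, matAct_negOne, inv_mul_cancel]
  have hπ₁ : Function.Surjective π₁ := by
    intro x
    obtain ⟨⟨w, hw⟩, rfl⟩ := hπ x
    set r := τ * w * τ⁻¹ * w with hr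
    have hrR : r ∈ R := hinvR w hw
    set c := r ^ ((p - 1) / 2) with hc
    have hcR : c ∈ R := R.pow_mem hrR _
    have hcc : r * c * c = 1 := by
      rw [hc, mul_assoc, ← pow_add, ← pow_succ', show (p - 1) / 2 + (p - 1) / 2 + 1 = p by
        have := odd_prime_eq (p := p) hodd; omega, hexp _ (hRW hrR)]
    have hτc : τ * c * τ⁻¹ = c := by
      rw [(hτR ⟨c, hRW hcR⟩ (hR1 hcR)).eq, mul_inv_cancel_right]
    have hwc : w * c ∈ W₁ := by
      refine ⟨W.mul_mem hw (hRW hcR), ?_⟩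
      rw [show τ * (w * c) * τ⁻¹ * (w * c) = r * w⁻¹ * (τ * c * τ⁻¹) * w * c by rw [hr]; group, hτc]
      have h1 := hab _ (W.inv_mem hw) _ (hRW hcR)
      rw [inv_inv] at h1
      rw [show r * w⁻¹ * c * w * c = r * (w⁻¹ * c * w * c⁻¹) * r⁻¹ * (r * c * c) by group, hcc,
        mul_one, ← (hYc _ h1 r (hRW hrR)).eq, mul_inv_cancel_right]
      exact h1
    refine ⟨⟨w * c, hwc⟩, ?_⟩
    show π (⟨w, hw⟩ * ⟨c, hRW hcR⟩) = _
    rw [map_mul, hR1 hcR, mul_one]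
  have hker₁ : ∀ {x : G} (hx : x ∈ W₁), π ⟨x, hW₁W hx⟩ = 1 → x ∈ Y := fun {x} hx h => by
    have h1 := hx.2
    rw [(hτR ⟨x, hW₁W hx⟩ h).eq, mul_inv_cancel_right, ← sq] at h1
    have h2 : (x ^ 2) ^ ((p - 1) / 2 + 1) = x := by
      rw [← pow_mul, show 2 * ((p - 1) / 2 + 1) = p + 1 by
        have := odd_prime_eq (p := p) hodd; omega, pow_succ, hexp x (hW₁W hx), one_mul]
    exact h2 ▸ Y.pow_mem h1 _
  -- first correction
  let Ws : Subgroup (NY ⧸ Ys) := (W.subgroupOf NY).map f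
  let Rs : Subgroup (NY ⧸ Ys) := (R.subgroupOf NY).map f
  have step : ∀ {u : G} {A : SL2}, Acts W π u A → (∀ w : W, π w = 1 → Commute u w) →
      ∃ u', Acts W₁ π₁ u' A ∧ (∀ y ∈ Y, Commute u' y) := by
    intro u A hu huR
    let t : NY := ⟨τ, hcen (hex hτR)⟩
    let s : NY := ⟨u, hcen (hex huR)⟩
    have hfn : ∀ {g : NY}, (∀ w ∈ W, (g : G) * w * (g : G)⁻¹ ∈ W) →
        f g ∈ Subgroup.normalizer (Ws : Set (NY ⧸ Ys)) := fun {g} hg =>
      mem_normalizer_of_forall_mem (by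
        rintro _ ⟨x, hx, rfl⟩
        exact ⟨g * x * g⁻¹, hg _ hx, by rw [map_mul, map_mul, map_inv]⟩)
    have hcR : ∀ {g : NY}, (∀ w : W, π w = 1 → Commute (g : G) w) →
        ∀ r ∈ Rs, Commute (f g) r := fun {g} hg => by
      rintro _ ⟨x, hx, rfl⟩
      have hxR : (x : G) ∈ R := hx
      exact (show Commute g x from Subtype.ext (hg ⟨x, hRW hxR⟩ (hR1 hxR)).eq).map f
    obtain ⟨hA1, hA2⟩ := adjust (M := NY ⧸ Ys) hodd (W := Ws) (R := Rs)
      (Subgroup.map_mono fun x hx => hRW hx)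
      (by
        rintro _ ⟨x, hx, rfl⟩
        rw [← map_pow, hf1, SubmonoidClass.coe_pow, hexp (x : G) hx]
        exact Y.one_mem)
      (by
        rintro _ ⟨r, hr, rfl⟩ _ ⟨w, hw, rfl⟩
        refine mul_inv_eq_iff_eq_mul.1 (mul_inv_eq_one.1 ?_)
        rw [← map_inv, ← map_inv, ← map_mul, ← map_mul, ← map_mul, hf1]
        exact hab _ (hRW hr) _ hw)
      (τ := f t) (u := f s) (hfn hτ.1) (hfn hu.1) (hcR (g := t) hτR) (hcR (g := s) huR)
      (by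
        rintro _ ⟨x, hx, rfl⟩
        exact ⟨t * x * t⁻¹ * x, hinvR _ hx, by simp only [map_mul, map_inv]⟩)
      (by
        rintro _ ⟨x, hx, rfl⟩
        refine ⟨(t * s * x * (t * s)⁻¹)⁻¹ * (s * t * x * (s * t)⁻¹), ?_,
          by simp only [map_mul, map_inv]⟩
        have h1 := (hτ.mul hu)
        have h2 := (hu.mul hτ)
        have hxW : (x : G) ∈ W := hx
        refine hmemR (W.mul_mem (W.inv_mem (h1.1 (x : G) hxW)) (h2.1 (x : G) hxW)) ?_
        show π ((⟨_, h1.1 (x : G) hxW⟩ : W)⁻¹ * ⟨_, h2.1 (x : G) hxW⟩) = 1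
        rw [map_mul, map_inv, h1.pi hxW, h2.pi hxW,
          matAct_mul, matAct_mul, matAct_negOne, matAct_negOne, matAct_inv_vec, inv_mul_cancel])
    set s' : NY := (s * t * s⁻¹ * t⁻¹) ^ ((p - 1) / 2) * s with hs'
    have hfs' : f s' = (f s * f t * (f s)⁻¹ * (f t)⁻¹) ^ ((p - 1) / 2) * f s := by
      rw [hs', map_mul, map_pow, map_mul, map_mul, map_mul, map_inv, map_inv]
    rw [← hfs'] at hA1 hA2
    have hc : ∀ y ∈ Y, Commute (s' : G) y := fun y hy => by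
      have hcu : Commute u y := hex huR y hy
      have hct : Commute τ y := hex hτR y hy
      simp only [hs', Subgroup.coe_mul, SubmonoidClass.coe_pow, InvMemClass.coe_inv]
      exact ((((hcu.mul_left hct).mul_left hcu.inv_left).mul_left hct.inv_left).pow_left _).mul_left hcu
    have hπu : ∀ (w : G) (hw : w ∈ W), ∃ h : (s' : G) * w * (s' : G)⁻¹ ∈ W,
        π ⟨_, h⟩ = π ⟨u * w * u⁻¹, hu.1 w hw⟩ := by
      intro w hw
      obtain ⟨r, hr, hre⟩ := hA2 (f ⟨w, hWN hw⟩) ⟨_, hw, rfl⟩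
      have hm : f ((s * ⟨w, hWN hw⟩ * s⁻¹)⁻¹ * (s' * ⟨w, hWN hw⟩ * s'⁻¹)) = f r := by
        rw [hre]; simp only [map_mul, map_inv]
      have hy := (hf1 _).1 (show f (r⁻¹ * ((s * ⟨w, hWN hw⟩ * s⁻¹)⁻¹ *
        (s' * ⟨w, hWN hw⟩ * s'⁻¹))) = 1 by rw [map_mul, map_inv, hm, inv_mul_cancel])
      have hx : (u * w * u⁻¹)⁻¹ * ((s' : G) * w * (s' : G)⁻¹) ∈ R := by
        have h3 := R.mul_mem (show (r : G) ∈ R from hr) (hYR hy)
        simp only [Subgroup.coe_mul, InvMemClass.coe_inv, mul_inv_cancel_left] at h3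
        exact h3
      have hW' : (s' : G) * w * (s' : G)⁻¹ ∈ W := by
        have h4 := W.mul_mem (hu.1 w hw) (hRW hx)
        rwa [mul_inv_cancel_left] at h4
      refine ⟨hW', ?_⟩
      rw [show (⟨_, hW'⟩ : W) = ⟨u * w * u⁻¹, hu.1 w hw⟩ * ⟨_, hRW hx⟩ from
        Subtype.ext (mul_inv_cancel_left _ _).symm, map_mul, hR1 hx, mul_one]
    have hW₁' : ∀ w ∈ W₁, (s' : G) * w * (s' : G)⁻¹ ∈ W₁ := fun w hw => by
      obtain ⟨h, -⟩ := hπu w hw.1
      refine ⟨h, ?_⟩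
      have h1 := hA1 (f ⟨w, hWN hw.1⟩) ⟨_, hw.1, rfl⟩
      have h2 : f (t * s' * ⟨w, hWN hw.1⟩ * (t * s')⁻¹ * (s' * ⟨w, hWN hw.1⟩ * s'⁻¹)) = 1 := by
        have h3 : f (t * ⟨w, hWN hw.1⟩ * t⁻¹ * ⟨w, hWN hw.1⟩) = 1 := (hf1 _).2 hw.2
        simp only [map_mul, map_inv] at h3 ⊢
        rw [h1, show f s' * f t * f ⟨w, hWN hw.1⟩ * (f s' * f t)⁻¹ *
          (f s' * f ⟨w, hWN hw.1⟩ * (f s')⁻¹) =
          f s' * (f t * f ⟨w, hWN hw.1⟩ * (f t)⁻¹ * f ⟨w, hWN hw.1⟩) * (f s')⁻¹ by group, h3,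
          mul_one, mul_inv_cancel]
      have h4 := (hf1 _).1 h2
      simp only [Subgroup.coe_mul, InvMemClass.coe_inv] at h4
      simpa [mul_assoc] using h4
    refine ⟨s', ⟨hW₁', fun w => ?_⟩, hc⟩
    obtain ⟨h, he⟩ := hπu w (hW₁W w.2)
    exact he.trans (hu.pi (hW₁W w.2) _)
  have hτ₁ : Acts W₁ π₁ τ negOne := by
    refine ⟨fun w hw => ⟨hτ.1 w hw.1, ?_⟩, fun w => hτ.pi (hW₁W w.2) _⟩
    rw [show τ * (τ * w * τ⁻¹) * τ⁻¹ * (τ * w * τ⁻¹) = τ * (τ * w * τ⁻¹ * w) * τ⁻¹ by group,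
      (hex hτR _ hw.2).eq, mul_inv_cancel_right]
    exact hw.2
  -- second correction: quadratic elements
  have step2 : ∀ {u : G} {A : SL2}, Acts W₁ π₁ u A → (∀ y ∈ Y, Commute u y) →
      (∀ x : F2, matAct A (matAct A x * x⁻¹) = matAct A x * x⁻¹) →
      ∃ u', Acts W₁ π₁ u' A ∧ u' ∈ Subgroup.normalizer (W₁ : Set G) ∧
        ⁅⁅W₁, Subgroup.zpowers u'⁆, Subgroup.zpowers u'⁆ = ⊥ := by
    intro u A hu huY hA
    obtain ⟨hB1, hB2⟩ := adjust hodd hYW₁ (fun w hw => hexp w (hW₁W hw))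
      (fun y hy w hw => hYc y hy w (hW₁W hw)) hτ₁.mem_normalizer hu.mem_normalizer
      (hex hτR) huY (fun w hw => hw.2) (fun w hw => by
        have h1 := hτ₁.mul hu
        have h2 := hu.mul hτ₁
        refine hker₁ (W₁.mul_mem (W₁.inv_mem (h1.1 _ hw)) (h2.1 _ hw)) ?_
        show π₁ ((⟨_, h1.1 _ hw⟩ : W₁)⁻¹ * ⟨_, h2.1 _ hw⟩) = 1
        rw [map_mul, map_inv, h1.pi hw, h2.pi hw,
          matAct_mul, matAct_mul, matAct_negOne, matAct_negOne, matAct_inv_vec, inv_mul_cancel])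
    set u' := (u * τ * u⁻¹ * τ⁻¹) ^ ((p - 1) / 2) * u with hu'
    have hct : ∀ y ∈ Y, Commute τ y := hex hτR
    have hu'Y : ∀ y ∈ Y, Commute u' y := fun y hy =>
      (((((huY y hy).mul_left (hct y hy)).mul_left (huY y hy).inv_left).mul_left
        (hct y hy).inv_left).pow_left _).mul_left (huY y hy)
    have hu'N : u' ∈ Subgroup.normalizer (W₁ : Set G) :=
      mul_mem (pow_mem (mul_mem (mul_mem (mul_mem hu.mem_normalizer hτ₁.mem_normalizer)
        (inv_mem hu.mem_normalizer)) (inv_mem hτ₁.mem_normalizer)) _) hu.mem_normalizer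
    have hu'A : Acts W₁ π₁ u' A := by
      refine ⟨fun w hw => (Subgroup.mem_normalizer_iff.1 hu'N w).1 hw, fun w => ?_⟩
      have h := hB2 w w.2
      rw [← hu.2 w, show (⟨u' * w * u'⁻¹, (Subgroup.mem_normalizer_iff.1 hu'N _).1 w.2⟩ : W₁) =
        ⟨u * w * u⁻¹, hu.1 w w.2⟩ * ⟨_, hYW₁ h⟩ from Subtype.ext (mul_inv_cancel_left _ _).symm,
        map_mul, show π₁ ⟨_, hYW₁ h⟩ = 1 from hker _ h, mul_one]
    refine ⟨u', hu'A, hu'N, commutator_eq_bot_of_quadOn (quadOn_of_commute hodd hYW₁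
      (fun w hw => hexp w (hW₁W hw)) (fun y hy w hw => hYc y hy w (hW₁W hw)) hu'N hct hu'Y hB1
      (fun w hw => hw.2) fun w hw => ?_)⟩
    have hd : u' * w * u'⁻¹ * w⁻¹ ∈ W₁ := W₁.mul_mem (hu'A.1 w hw) (W₁.inv_mem hw)
    refine hker₁ (W₁.mul_mem (W₁.inv_mem hd) (hu'A.1 _ hd)) ?_
    show π₁ ((⟨_, hd⟩ : W₁)⁻¹ * ⟨_, hu'A.1 _ hd⟩) = 1
    rw [map_mul, map_inv, hu'A.pi hd, show (⟨_, hd⟩ : W₁) = ⟨_, hu'A.1 w hw⟩ * ⟨w, hw⟩⁻¹ from rfl,
      map_mul, map_inv, hu'A.pi hw, hA, inv_mul_cancel]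
  obtain ⟨u₁, hu₁, hu₁Y⟩ := step hu huR
  obtain ⟨v₁, hv₁, hv₁Y⟩ := step hv hvR
  obtain ⟨u₂, hu₂, hu₂N, hu₂q⟩ := step2 hu₁ hu₁Y (fun x => quad_of_unipotent _ 1 0 rfl (mul_zero 1) x)
  obtain ⟨v₂, hv₂, hv₂N, hv₂q⟩ := step2 hv₁ hv₁Y (fun x => quad_of_unipotent _ 0 1 rfl (zero_mul 1) x)
  have hW₁p : IsPGroup p W₁ := fun w => ⟨1, Subtype.ext (by
    rw [pow_one, SubmonoidClass.coe_pow]; exact hexp _ (hW₁W w.2))⟩
  set N := Subgroup.normalizer (W₁ : Set G) with hN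
  set C := (Subgroup.centralizer (W₁ : Set G)).subgroupOf N with hC
  let u₃ : N := ⟨u₂, hu₂N⟩
  let v₃ : N := ⟨v₂, hv₂N⟩
  set z := (u₃ * v₃ ^ (p - 1) * u₃) ^ 2 with hz
  have hzP : (QuotientGroup.mk z : N ⧸ C) ∈ pCore p (N ⧸ C) := by
    rw [hz, QuotientGroup.mk_pow, QuotientGroup.mk_mul, QuotientGroup.mk_mul, QuotientGroup.mk_pow]
    exact pow_mem (mul_mem (mul_mem (hst W₁ hW₁p u₂ hu₂N hu₂q)
      (pow_mem (hst W₁ hW₁p v₂ hv₂N hv₂q) _)) (hst W₁ hW₁p u₂ hu₂N hu₂q)) 2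
  obtain ⟨k, hk⟩ := (Grp.pCore_isPGroup (p := p) (G := N ⧸ C)) ⟨_, hzP⟩
  have hk' : ((z ^ p ^ k : N) : G) ∈ Subgroup.centralizer (W₁ : Set G) :=
    (QuotientGroup.eq_one_iff (N := C) (z ^ p ^ k)).1 (by rw [QuotientGroup.mk_pow]; exact congrArg Subtype.val hk)
  have hzA : Acts W₁ π₁ (((u₂ * v₂ ^ (p - 1) * u₂) ^ 2) ^ p ^ k) (negOne ^ p ^ k) := by
    have := ((((hu₂.mul (hv₂.pow (p - 1))).mul hu₂)).pow 2).pow (p ^ k)
    rwa [up_low_up_sq] at this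
  rw [show negOne (p := p) ^ p ^ k = negOne from dg_pow_prime_pow _ _ _ k] at hzA
  have hfix : ∀ x : F2, x⁻¹ = x := fun x => by
    obtain ⟨w, rfl⟩ := hπ₁ x
    rw [← matAct_negOne, ← hzA.2 w]
    refine congrArg π₁ (Subtype.ext ?_)
    have h1 := Subgroup.mem_centralizer_iff.1 hk' w w.2
    simp only [hz, u₃, v₃, SubmonoidClass.coe_pow, Subgroup.coe_mul] at h1
    exact mul_inv_eq_iff_eq_mul.2 h1.symm
  have h3 := congrArg (fun x : F2 => Multiplicative.toAdd x 0)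
    (hfix (Multiplicative.ofAdd (fun _ => 1)))
  simp only [toAdd_inv, toAdd_ofAdd, Pi.neg_apply] at h3
  have h4 : ((2 : ℕ) : ZMod p) = 0 := by
    push_cast
    linear_combination -h3
  exact hodd ((Nat.prime_dvd_prime_iff_eq hp.out Nat.prime_two).1 ((ZMod.natCast_eq_zero_iff 2 p).1 h4))

end Cfsg.Agent.Invol.CubicStable
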