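import Cfsg.Agent.Lib.Invol.TransferMinimal
import Cfsg.Agent.Lib.Invol.NilpotentNormal
import Cfsg.Agent.Lib.Invol.Transport

/-!
# Local-to-global theorems for control of transfer
-/

set_option autoImplicit false

open scoped Pointwise commutatorElement

namespace Cfsg.Agent.Invol

universe u

variable {p : ℕ} [hp : Fact p.Prime] {𝓦 : Set (∀ (Q : Type u) [Group Q], Subgroup Q)}
  (h𝓦 : ∀ W ∈ 𝓦, Cfsg.IsCharPFunctor.{u} p W) (hne : 𝓦.Nonempty)

include h𝓦 hne in
/-- In a minimal failure no element of `S` outside `O_p(G)` acts with degree `p-1` on the chief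
factors inside `O_p(G)`. -/
theorem not_mem_nilpSet_of_minimal {G : Type u} [Group G] [Finite G]
    (hsub : ∀ H : Subgroup G, H ≠ ⊤ → TransferCtrl p 𝓦 H)
    (hquot : ∀ (R : Subgroup G) [R.Normal], R ≠ ⊥ → TransferCtrl p 𝓦 (G ⧸ R))
    (hG : ¬ TransferCtrl p 𝓦 G) (S : Sylow p G) {u : G} (huS : u ∈ (S : Subgroup G))
    (hu : u ∉ Cfsg.pCore p G) : u ∉ nilpSet p (Cfsg.pCore p G) := by
  intro hnu
  obtain ⟨-, -, hM, hover⟩ := transfer_minimal h𝓦 hne hsub hquot hG S
  set T₀ := Cfsg.pCore p G with hT₀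
  set F := Foc (ind 𝓦 G) (S : Subgroup G) with hF
  set M := Subgroup.normalizer ((F ⊓ T₀ : Subgroup G) : Set G) with hMdef
  have hTn : T₀.Normal := Grp.pCore_isNormal
  have hTS : T₀ ≤ (S : Subgroup G) := Grp.pCore_le_sylow S
  set E := Subgroup.closure (nilpSet p T₀ ∩ (S : Set G)) with hE
  have hES : E ≤ (S : Subgroup G) := (Subgroup.closure_le _).mpr fun l hl => hl.2
  have hSN : (S : Subgroup G) ≤ Subgroup.normalizer (E : Set G) := by
    intro s hs
    refine mem_normalizer_of_forall_mem ?_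
    suffices h : E ≤ E.comap (MulAut.conj s).toMonoidHom from fun x hx => h hx
    refine (Subgroup.closure_le _).mpr fun l hl => Subgroup.subset_closure ⟨conj_mem_nilpSet hl.1 s, ?_⟩
    exact (S : Subgroup G).mul_mem ((S : Subgroup G).mul_mem hs hl.2) ((S : Subgroup G).inv_mem hs)
  have hEne : Subgroup.normalizer (E : Set G) ≠ ⊤ := fun h =>
    hu (Grp.le_pCore (Subgroup.normalizer_eq_top_iff.mp h) (S.isPGroup'.to_le hES)
      (Subgroup.subset_closure ⟨hnu, huS⟩))
  have hSne : (S : Subgroup G) ≠ ⊤ := fun h => hEne (top_le_iff.mp (h ▸ hSN))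
  have hSM : (S : Subgroup G) ≤ M := (hover _ le_rfl hSne).1
  refine hM (Subgroup.normalizer_eq_top_iff.mpr (normal_of_nilpotent_action (p := p) (T := T₀)
    (Grp.pCore_isPGroup) inf_le_right ?_ (hover M hSM hM).2
    (fun hd => S.not_dvd_index (hd.trans (Subgroup.index_dvd_of_le hSM)))
    (Λ := nilpSet p T₀ ∩ (S : Set G)) (fun l hl => hl.1) (fun l hl => hSM hl.2)
    (S.isPGroup'.to_le hES)
    (fix_only_coset S hSM (fun g hg h => conj_mem_nilpSet hg h) (hover _ hSN hEne).1)))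
  exact le_inf ((Subgroup.commutator_mono hTS hTS).trans (sylow_commutator_le h𝓦 hne S))
    (Subgroup.commutator_le_left T₀ T₀)

include h𝓦 hne in
/-- Induction over sections. -/
theorem transferCtrl_induction {G : Type u} [Group G] [Finite G]
    (step : ∀ (X : Type u) [Group X] [Finite X], IsSectionOf X G →
      (∀ H : Subgroup X, H ≠ ⊤ → TransferCtrl p 𝓦 H) →
      (∀ (R : Subgroup X) [R.Normal], R ≠ ⊥ → TransferCtrl p 𝓦 (X ⧸ R)) →
      ∀ S : Sylow p X, Cfsg.pPrimeCore p X = ⊥ →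
      Subgroup.centralizer (Cfsg.pCore p X : Set X) ≤ Cfsg.pCore p X →
      ¬ TransferCtrl p 𝓦 X → False) :
    ∀ (X : Type u) [Group X] [Finite X], IsSectionOf X G → TransferCtrl p 𝓦 X := by
  suffices key : ∀ n : ℕ, ∀ (X : Type u) [Group X] [Finite X], Nat.card X = n → IsSectionOf X G →
      TransferCtrl p 𝓦 X from fun X _ _ h => key _ X rfl h
  intro n
  induction n using Nat.strong_induction_on with
  | _ n ih =>
  intro X _ _ hX hsec
  by_contra hcon
  have hsub : ∀ H : Subgroup X, H ≠ ⊤ → TransferCtrl p 𝓦 H := fun H hH =>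
    ih _ (hX ▸ Grp.card_lt_of_ne_top hH) H rfl ((IsSectionOf.of_subgroup H).trans hsec)
  have hquot : ∀ (R : Subgroup X) [R.Normal], R ≠ ⊥ → TransferCtrl p 𝓦 (X ⧸ R) := fun R _ hR =>
    ih _ (hX ▸ Grp.card_quotient_lt hR) (X ⧸ R) rfl
      ((IsSectionOf.of_surjective _ (QuotientGroup.mk'_surjective R)).trans hsec)
  obtain ⟨S⟩ : Nonempty (Sylow p X) := inferInstance
  obtain ⟨hL, hC, -, -⟩ := transfer_minimal h𝓦 hne hsub hquot hcon S
  exact step X hsec hsub hquot S hL hC hcon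

include h𝓦 hne in
/-- It is enough to control `O_p ∩ X'` in the constrained sections. -/
theorem transferCtrl_of_local {G : Type u} [Group G] [Finite G]
    (hloc : ∀ (X : Type u) [Group X] [Finite X], IsSectionOf X G →
      Subgroup.centralizer (Cfsg.pCore p X : Set X) ≤ Cfsg.pCore p X → ∀ S : Sylow p X,
        Cfsg.pCore p X ⊓ ⁅(⊤ : Subgroup X), ⊤⁆ ≤ Foc (ind 𝓦 X) (S : Subgroup X)) :
    ∀ (X : Type u) [Group X] [Finite X], IsSectionOf X G → TransferCtrl p 𝓦 X :=
  transferCtrl_induction h𝓦 hne fun X _ _ hsec hsub hquot S _ hC hcon =>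
    hcon (transferCtrl_of_pCore_inf_le h𝓦 hne hsub hquot S (hloc X hsec hC S))

/-- The single functor case. -/
theorem transferCtrl_of_normal {W : ∀ (Q : Type u) [Group Q], Subgroup Q} {X : Type u} [Group X]
    [Finite X] (S : Sylow p X) (hW : Cfsg.IsCharPFunctor.{u} p W)
    (hn : (Cfsg.inducedFunctor (G := X) W (S : Subgroup X)).Normal) :
    TransferCtrl p {W} X := by
  refine transferCtrl_of_one (by rintro _ rfl; exact hW) S ?_
  refine le_trans ?_ (le_foc (𝒲 := ind {W} X) (W := Cfsg.inducedFunctor (G := X) W) ⟨W, rfl, rfl⟩)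
  rw [Subgroup.normalizer_eq_top_iff.mpr hn]

omit hp in
theorem foc_singleton {G : Type u} [Group G] (W : ∀ (Q : Type u) [Group Q], Subgroup Q)
    (T : Subgroup G) :
    Foc (ind {W} G) T = T ⊓ ⁅Subgroup.normalizer (Cfsg.inducedFunctor W T : Set G),
      Subgroup.normalizer (Cfsg.inducedFunctor W T : Set G)⁆ := by
  refine le_antisymm (iSup₂_le ?_) (le_foc ⟨W, rfl, rfl⟩)
  rintro _ ⟨W', rfl, rfl⟩
  exact le_rfl

theorem controlsTransferIn_iff {W : ∀ (Q : Type u) [Group Q], Subgroup Q}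
    (hW : Cfsg.IsCharPFunctor.{u} p W) {X : Type u} [Group X] [Finite X] :
    Cfsg.ControlsTransferIn p (Cfsg.inducedFunctor (G := X) W) ⊤ ↔ TransferCtrl p {W} X := by
  constructor
  · rintro ⟨T, -, hTp, hTi, he⟩
    rw [Subgroup.relIndex_top_right] at hTi
    refine transferCtrl_of_one (by rintro _ rfl; exact hW) (hTp.toSylow hTi) ?_
    simp only [top_inf_eq] at he
    change T ⊓ _ ≤ Foc (ind {W} X) T
    rw [foc_singleton]
    exact he.le
  · intro h
    obtain ⟨S⟩ : Nonempty (Sylow p X) := inferInstance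
    refine ⟨S, le_top, S.isPGroup', by rw [Subgroup.relIndex_top_right]; exact S.not_dvd_index,
      le_antisymm ?_ ?_⟩
    · simp only [top_inf_eq]
      exact (h S).trans_eq (foc_singleton W _)
    · simp only [top_inf_eq]
      exact inf_le_inf le_rfl (Subgroup.commutator_mono le_top le_top)

/-- Nilpotent action of degree `p-1` gives control of transfer. -/
theorem transferCtrl_of_nilpotent {W : ∀ (Q : Type u) [Group Q], Subgroup Q}
    (hW : Cfsg.IsCharPFunctor.{u} p W) {G : Type u} [Group G] [Finite G]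
    (hloc : ∀ (X : Type u) [Group X] [Finite X], IsSectionOf X G →
      Subgroup.centralizer (Cfsg.pCore p X : Set X) ≤ Cfsg.pCore p X → ∀ S : Sylow p X,
        ¬ (Cfsg.inducedFunctor (G := X) W (S : Subgroup X)).Normal →
          ∃ g ∈ (S : Subgroup X), g ∉ Cfsg.pCore p X ∧ g ∈ nilpSet p (Cfsg.pCore p X)) :
    ∀ (X : Type u) [Group X] [Finite X], IsSectionOf X G → TransferCtrl p {W} X := by
  have h𝓦 : ∀ W' ∈ ({W} : Set (∀ (Q : Type u) [Group Q], Subgroup Q)),
      Cfsg.IsCharPFunctor.{u} p W' := by rintro _ rfl; exact hW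
  refine transferCtrl_induction h𝓦 ⟨W, rfl⟩ fun X _ _ hsec hsub hquot S _ hC hcon => ?_
  by_cases hn : (Cfsg.inducedFunctor (G := X) W (S : Subgroup X)).Normal
  · exact hcon (transferCtrl_of_normal S hW hn)
  obtain ⟨g, hgS, hg, hgn⟩ := hloc X hsec hC S hn
  exact not_mem_nilpSet_of_minimal h𝓦 ⟨W, rfl⟩ hsub hquot hcon S hgS hg hgn

end Cfsg.Agent.Invol
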