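import Mathlib
import Cfsg.Agent.Lib.Invol.KInfCritical
import Cfsg.Agent.Lib.Invol.TransferTheorems

/-!
# The K-infinity subgroups control transfer for `p ≥ 5`
-/

set_option autoImplicit false
set_option linter.style.haveILetI false

open scoped commutatorElement

namespace Cfsg.Agent.Invol

universe u

theorem iterCommutator_le_add {G : Type*} [Group G] {U V L : Subgroup G} [V.Normal] {n : ℕ}
    (h : Cfsg.iterCommutator U L n ≤ V) : ∀ d : ℕ, Cfsg.iterCommutator U L (n + d) ≤ V
  | 0 => h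
  | d + 1 => (Subgroup.commutator_mono (iterCommutator_le_add h d) le_rfl).trans
      (Subgroup.commutator_le_left V L)

variable {p : ℕ} [hp : Fact p.Prime]

/-- If a K-infinity subgroup is not normal and `p ≥ 5`, some element outside `O_p` acts with degree
`p - 1`. -/
theorem exists_nilp_of_kInf (hp5 : 5 ≤ p) {X : Type u} [Group X] [Finite X] (S : Sylow p X)
    (hK : ¬ (Cfsg.inducedFunctor Cfsg.kInfLower (S : Subgroup X)).Normal ∨
      ¬ (Cfsg.inducedFunctor Cfsg.kInfUpper (S : Subgroup X)).Normal) :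
    ∃ g ∈ (S : Subgroup X), g ∉ Cfsg.pCore p X ∧ g ∈ nilpSet p (Cfsg.pCore p X) := by
  haveI hTn : (Cfsg.pCore p X).Normal := Grp.pCore_isNormal
  obtain ⟨A, hAn, hAT, hTA, hA2, hC⟩ :=
    exists_critical_normal (Grp.pCore_isPGroup (p := p) (G := X))
  haveI := hAn
  haveI hzn : (KInf.zen A).Normal := KInf.zen_normal A
  obtain ⟨g, hgS, hgT, hg, -⟩ := KInf.exists_cubic_element S A hAT hA2 hTA hC hK
  refine ⟨g, hgS, hgT, fun U V hUV hUT => ?_⟩
  haveI := hUV.2.2.1
  have h4 : Cfsg.iterCommutator U (Subgroup.zpowers g) 4 ≤ V :=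
    degree_of_selfCentralizing (i := 3) (j := 2) (Z := KInf.zen A)
      Grp.pCore_isPGroup hAT (KInf.zen_le A) hTA hC (by norm_num)
      (fun U V hUV hUA => KInf.iterCommutator_chief_le (n := 3) (m := 2) hg.1 hg.2 (by norm_num) hUV hUA)
      (fun U V hUV hUZ => ((iterCommutator_mono hUZ le_rfl 2).trans hg.2.le).trans bot_le) U V hUV hUT
  rw [show p - 1 = 4 + (p - 5) by omega]
  exact iterCommutator_le_add h4 _

theorem transferCtrl_kInfLower (hp5 : 5 ≤ p) {G : Type u} [Group G] [Finite G]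
    (X : Type u) [Group X] [Finite X] (hX : IsSectionOf X G) :
    TransferCtrl p {fun Q [Group Q] => Cfsg.kInfLower Q} X :=
  transferCtrl_of_nilpotent (KInf.isCharPFunctor_kInfLower p)
    (fun X _ _ _ _ S hn => exists_nilp_of_kInf hp5 S (Or.inl hn)) X hX

theorem transferCtrl_kInfUpper (hp5 : 5 ≤ p) {G : Type u} [Group G] [Finite G]
    (X : Type u) [Group X] [Finite X] (hX : IsSectionOf X G) :
    TransferCtrl p {fun Q [Group Q] => Cfsg.kInfUpper Q} X :=
  transferCtrl_of_nilpotent (KInf.isCharPFunctor_kInfUpper p)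
    (fun X _ _ _ _ S hn => exists_nilp_of_kInf hp5 S (Or.inr hn)) X hX

theorem inf_commutator_eq_of_transferCtrl {W : ∀ (Q : Type u) [Group Q], Subgroup Q} {G : Type u}
    [Group G] [Finite G] (h : TransferCtrl p {W} G) (S : Sylow p G) :
    (S : Subgroup G) ⊓ commutator G = (S : Subgroup G) ⊓
      ⁅Subgroup.normalizer (Cfsg.inducedFunctor W (S : Subgroup G) : Set G),
        Subgroup.normalizer (Cfsg.inducedFunctor W (S : Subgroup G) : Set G)⁆ := by
  rw [commutator_def, ← foc_singleton W (S : Subgroup G)]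
  refine le_antisymm (h S) (le_inf (foc_le_left _ _) (foc_le_commutator _ _))

end Cfsg.Agent.Invol
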