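import Mathlib
import Cfsg.Agent.Lib.Invol.OneInvol
import Cfsg.Agent.Lib.Invol.Sylow
import Cfsg.Agent.Lib.Transfer.Fusion

/-!
# Groups of 2-rank one: local facts
-/

set_option linter.unusedSectionVars false
set_option linter.style.haveILetI false

namespace Cfsg.Agent.BS

variable {G : Type*} [Group G]

/-- No two distinct involutions commute. -/
def TwoRankOne (G : Type*) [Group G] : Prop :=
  ∀ u v : G, orderOf u = 2 → orderOf v = 2 → Commute u v → u = v

theorem TwoRankOne.subgroup (h : TwoRankOne G) (H : Subgroup G) : TwoRankOne H :=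
  fun u v hu hv huv => Subtype.ext (h u v (by rwa [Subgroup.orderOf_coe])
    (by rwa [Subgroup.orderOf_coe]) (huv.map H.subtype))

theorem unique_of_isPGroup [Finite G] (h : TwoRankOne G) {P : Subgroup G} (hP : IsPGroup 2 P)
    {u v : G} (huP : u ∈ P) (hvP : v ∈ P) (hu : orderOf u = 2) (hv : orderOf v = 2) : u = v := by
  haveI : Fact (Nat.Prime 2) := ⟨Nat.prime_two⟩
  haveI : Nontrivial P := ⟨⟨⟨u, huP⟩, 1, fun he =>
    Invol.ne_one_of_orderOf_two hu (congrArg Subtype.val he)⟩⟩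
  haveI := hP.center_nontrivial
  obtain ⟨k, hk⟩ := IsPGroup.iff_card.1 (hP.to_subgroup (Subgroup.center P))
  have hk0 : k ≠ 0 := by
    rintro rfl
    have := Finite.one_lt_card (α := Subgroup.center P)
    omega
  obtain ⟨w, hw⟩ := exists_prime_orderOf_dvd_card' (G := Subgroup.center P) 2
    (hk ▸ dvd_pow_self 2 hk0)
  have hw2 : orderOf ((w : P) : G) = 2 := by rw [Subgroup.orderOf_coe, Subgroup.orderOf_coe, hw]
  have key : ∀ t : G, t ∈ P → orderOf t = 2 → t = ((w : P) : G) := fun t ht ht2 =>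
    h t _ ht2 hw2 (congrArg Subtype.val (Subgroup.mem_center_iff.1 w.2 ⟨t, ht⟩))
  exact (key u huP hu).trans (key v hvP hv).symm

theorem isConj_involution [Finite G] (h : TwoRankOne G) {u v : G} (hu : orderOf u = 2)
    (hv : orderOf v = 2) : IsConj u v := by
  haveI : Fact (Nat.Prime 2) := ⟨Nat.prime_two⟩
  obtain ⟨P⟩ := (inferInstance : Nonempty (Sylow 2 G))
  obtain ⟨g, hg⟩ := Invol.exists_conj_mem_sylow (n := 1) (by rw [hu, pow_one]) P
  obtain ⟨k, hk⟩ := Invol.exists_conj_mem_sylow (n := 1) (by rw [hv, pow_one]) P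
  have he := unique_of_isPGroup h P.isPGroup' hg hk (by rw [Invol.orderOf_conj_eq, hu])
    (by rw [Invol.orderOf_conj_eq, hv])
  exact (isConj_iff.2 ⟨g, he⟩).trans (isConj_iff.2 ⟨k, rfl⟩).symm

theorem odd_orderOf_mul [Finite G] (h : TwoRankOne G) {u v : G} (hu : orderOf u = 2)
    (hv : orderOf v = 2) : Odd (orderOf (u * v)) := by
  haveI : Fact (Nat.Prime 2) := ⟨Nat.prime_two⟩
  obtain ⟨a, b, hb, hab⟩ := Nat.exists_eq_two_pow_mul_odd (orderOf_pos (u * v)).ne'
  obtain ⟨d, -, hd, hord⟩ := Invol.exists_conj_two_part hu hv hab hb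
  set w := (u * v) ^ b with hw
  have hv' : orderOf (u * w) = 2 := by rw [← hd, Invol.orderOf_conj_eq, hv]
  have hpq : orderOf (u * (u * w)) = 2 ^ a := by
    rw [← mul_assoc, Invol.mul_self_of_orderOf_two hu, one_mul, hord]
  have key := unique_of_isPGroup h (Invol.isPGroup_closure_pair hu hv' hpq)
    Invol.left_mem_closure_pair Invol.right_mem_closure_pair hu hv'
  rw [left_eq_mul] at key
  rw [key, orderOf_one] at hord
  rcases Nat.eq_zero_or_pos a with rfl | ha
  · rw [hab]; simpa using hb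
  · exact absurd hord (Nat.one_lt_two_pow ha.ne').ne

/-- A cyclic Sylow 2-subgroup gives a normal odd subgroup with abelian quotient. -/
theorem exists_odd_commutator_of_cyclic [Finite G] (P : Sylow 2 G) [hP : IsCyclic P]
    (heven : 2 ∣ Nat.card G) :
    ∃ N : Subgroup G, N.Normal ∧ Odd (Nat.card N) ∧ ∀ a b : G, a * b * a⁻¹ * b⁻¹ ∈ N := by
  haveI : Fact (Nat.Prime 2) := ⟨Nat.prime_two⟩
  have hp : (Nat.card G).minFac = 2 := (Nat.minFac_eq_two_iff _).2 heven
  have hN := hP.normalizer_le_centralizer hp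
  refine ⟨(MonoidHom.transferSylow P hN).ker, inferInstance, ?_, fun a b => ?_⟩
  · exact Nat.odd_iff.2 (Nat.two_dvd_ne_zero.1 (MonoidHom.not_dvd_card_ker_transferSylow P hN))
  · rw [MonoidHom.mem_ker, map_mul, map_mul, map_mul, map_inv, map_inv]
    letI := hP.commGroup
    rw [mul_inv_cancel_comm, mul_inv_cancel]

/-- Elements of the same order in a cyclic group generate the same subgroup. -/
theorem mem_zpowers_of_orderOf_eq [Finite G] {b y w : G} (hy : y ∈ Subgroup.zpowers b)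
    (hw : w ∈ Subgroup.zpowers b) (h : orderOf w = orderOf y) : w ∈ Subgroup.zpowers y := by
  obtain ⟨i, hi⟩ := mem_powers_iff_mem_zpowers.2 hy
  obtain ⟨j, hj⟩ := mem_powers_iff_mem_zpowers.2 hw
  have hi' : b ^ i = y := hi
  have hj' : b ^ j = w := hj
  rw [← hi', ← hj', orderOf_pow, orderOf_pow] at h
  have hn := orderOf_pos b
  have hgi := Nat.gcd_dvd_left (orderOf b) i
  have hgj := Nat.gcd_dvd_left (orderOf b) j
  have heq : Nat.gcd (orderOf b) j = Nat.gcd (orderOf b) i := by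
    have e1 := Nat.div_mul_cancel hgi
    have e2 := Nat.div_mul_cancel hgj
    rw [h] at e2
    exact Nat.eq_of_mul_eq_mul_left
      (Nat.pos_of_ne_zero fun h0 => by rw [h0, zero_mul] at e1; omega) (e2.trans e1.symm)
  have hbg : b ^ Nat.gcd (orderOf b) i ∈ Subgroup.zpowers y := by
    have e := Nat.gcd_eq_gcd_ab (orderOf b) i
    rw [← zpow_natCast, e, zpow_add, zpow_mul, zpow_natCast, pow_orderOf_eq_one, one_zpow, one_mul,
      zpow_mul, zpow_natCast, hi']
    exact Subgroup.zpow_mem_zpowers y _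
  obtain ⟨c, hc⟩ := heq ▸ Nat.gcd_dvd_right (orderOf b) j
  rw [← hj', hc, pow_mul]
  exact pow_mem hbg c

theorem mem_normalizer_of_conj_le [Finite G] {U : Subgroup G} {g : G}
    (hU : ∀ u ∈ U, g * u * g⁻¹ ∈ U) : g ∈ Subgroup.normalizer (U : Set G) := by
  have he : U.map (MulAut.conj g).toMonoidHom = U := by
    refine Subgroup.eq_of_le_of_card_ge (by rintro _ ⟨u, hu, rfl⟩; exact hU u hu) ?_
    rw [Subgroup.card_map_of_injective (f := (MulAut.conj g).toMonoidHom) (MulAut.conj g).injective]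
  refine Subgroup.mem_normalizer_iff.mpr fun u => ⟨hU u, fun hu => ?_⟩
  obtain ⟨w, hw, hwe⟩ := he.symm.le hu
  rwa [← (MulAut.conj g).injective hwe]

/-- Data of a Sylow 2-subgroup of quaternion shape. -/
structure QData (G : Type*) [Group G] where
  Q : Sylow 2 G
  b : G
  hb : b ∈ (Q : Subgroup G)
  h4 : 4 ∣ orderOf b
  hcard : Nat.card (Q : Subgroup G) = 2 * orderOf b
  hinv : ∀ x ∈ (Q : Subgroup G), x ∉ Subgroup.zpowers b → x * b * x⁻¹ = b⁻¹

theorem nonempty_qData [Finite G] (h : TwoRankOne G) (P : Sylow 2 G) (hP : ¬ IsCyclic P) :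
    Nonempty (QData G) := by
  haveI : Fact (Nat.Prime 2) := ⟨Nat.prime_two⟩
  rcases OneInvol.cyclic_or_quatShape (R := (P : Subgroup G)) P.isPGroup' (fun u v hu hv =>
      Subtype.ext (unique_of_isPGroup h P.isPGroup' u.2 v.2 (by rwa [Subgroup.orderOf_coe])
        (by rwa [Subgroup.orderOf_coe]))) with hc | ⟨a, ha4, hidx, hinv⟩
  · exact absurd hc hP
  refine ⟨⟨P, a, a.2, by rwa [Subgroup.orderOf_coe], ?_, fun x hx hxa => ?_⟩⟩
  · rw [← Subgroup.card_mul_index (Subgroup.zpowers a), hidx, Nat.card_zpowers,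
      Subgroup.orderOf_coe, mul_comm]
  · exact congrArg Subtype.val (hinv ⟨x, hx⟩ fun hm => hxa (by
      obtain ⟨i, hi⟩ := Subgroup.mem_zpowers_iff.1 hm
      exact Subgroup.mem_zpowers_iff.2 ⟨i, congrArg Subtype.val hi⟩))

variable (D : QData G)

namespace QData

/-- The cyclic subgroup. -/
def C : Subgroup G := Subgroup.zpowers D.b

theorem C_le : D.C ≤ (D.Q : Subgroup G) := Subgroup.zpowers_le.2 D.hb

theorem card_C : Nat.card D.C = orderOf D.b := Nat.card_zpowers _

theorem exists_pow [Finite G] : ∃ k, orderOf D.b = 2 ^ k := by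
  haveI : Fact (Nat.Prime 2) := ⟨Nat.prime_two⟩
  obtain ⟨k, hk⟩ := IsPGroup.iff_orderOf.1 D.Q.isPGroup' ⟨D.b, D.hb⟩
  exact ⟨k, by rwa [Subgroup.orderOf_mk] at hk⟩

theorem exists_notMem [Finite G] : ∃ q ∈ (D.Q : Subgroup G), q ∉ D.C := by
  by_contra hno
  push Not at hno
  have := Subgroup.card_le_of_le hno
  rw [D.hcard, D.card_C] at this
  have := orderOf_pos D.b
  omega

theorem conj_C {y : G} (hy : y ∈ D.C) {x : G} (hx : x ∈ (D.Q : Subgroup G)) :
    (x ∈ D.C → x * y * x⁻¹ = y) ∧ (x ∉ D.C → x * y * x⁻¹ = y⁻¹) := by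
  obtain ⟨i, rfl⟩ := Subgroup.mem_zpowers_iff.1 hy
  refine ⟨fun hxC => ?_, fun hxC => by rw [← conj_zpow, D.hinv x hx hxC, inv_zpow]⟩
  obtain ⟨j, rfl⟩ := Subgroup.mem_zpowers_iff.1 hxC
  rw [((Commute.refl D.b).zpow_zpow j i).eq, mul_inv_cancel_right]

theorem Q_le_normalizer [Finite G] :
    (D.Q : Subgroup G) ≤ Subgroup.normalizer (D.C : Set G) := by
  intro x hx
  refine mem_normalizer_of_conj_le fun y hy => ?_
  by_cases hxC : x ∈ D.C
  · rw [(D.conj_C hy hx).1 hxC]; exact hy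
  · rw [(D.conj_C hy hx).2 hxC]; exact inv_mem hy

/-- The involution. -/
noncomputable def zz : G := D.b ^ (orderOf D.b / 2)

theorem zz_mem : D.zz ∈ D.C := Subgroup.npow_mem_zpowers _ _

theorem zz_order [Finite G] : orderOf D.zz = 2 :=
  orderOf_pow_orderOf_div (orderOf_pos D.b).ne' ((show 2 ∣ 4 by norm_num).trans D.h4)

theorem eq_zz [Finite G] (h : TwoRankOne G) {y : G} (hy : y ∈ (D.Q : Subgroup G))
    (hy2 : y ^ 2 = 1) (hy1 : y ≠ 1) : y = D.zz := by
  haveI : Fact (Nat.Prime 2) := ⟨Nat.prime_two⟩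
  exact unique_of_isPGroup h D.Q.isPGroup' hy (D.C_le D.zz_mem) (orderOf_eq_prime hy2 hy1)
    D.zz_order

theorem sq_eq_zz [Finite G] (h : TwoRankOne G) {x : G} (hx : x ∈ (D.Q : Subgroup G))
    (hxC : x ∉ D.C) : x ^ 2 = D.zz := by
  have hidx : (D.C.subgroupOf (D.Q : Subgroup G)).index = 2 := by
    have := Subgroup.card_mul_index (D.C.subgroupOf (D.Q : Subgroup G))
    rw [Nat.card_congr (Subgroup.subgroupOfEquivOfLe D.C_le).toEquiv, D.card_C, D.hcard] at this
    have hpos := orderOf_pos D.b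
    exact Nat.eq_of_mul_eq_mul_left hpos (this.trans (mul_comm _ _))
  have hsq : x ^ 2 ∈ D.C :=
    Subgroup.mem_subgroupOf.1 (Subgroup.sq_mem_of_index_two hidx ⟨x, hx⟩)
  have h1 : x ^ 2 = (x ^ 2)⁻¹ := by
    rw [← (D.conj_C hsq hx).2 hxC, pow_two]; group
  refine D.eq_zz h (pow_mem hx 2) ?_ fun h2 => ?_
  · rw [pow_two (x ^ 2)]; nth_rewrite 1 [h1]; exact inv_mul_cancel _
  · have := D.eq_zz h hx h2 fun h3 => hxC (h3 ▸ one_mem _)
    exact hxC (this ▸ D.zz_mem)

/-- Elements of order at least four of the cyclic subgroup: the centralizer has a cyclic Sylow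
2-subgroup. -/
theorem centralizer_sylow [Finite G] (h : TwoRankOne G) {y : G} (hy : y ∈ D.C) (hy2 : y ^ 2 ≠ 1) :
    ∃ T : Sylow 2 (Subgroup.centralizer ({y} : Set G)),
      (T : Subgroup (Subgroup.centralizer ({y} : Set G))) =
        D.C.subgroupOf (Subgroup.centralizer ({y} : Set G)) := by
  haveI : Fact (Nat.Prime 2) := ⟨Nat.prime_two⟩
  set Cy := Subgroup.centralizer ({y} : Set G) with hCy
  have hle : D.C ≤ Cy := fun x hx => Subgroup.mem_centralizer_singleton_iff.2 (by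
    have := (D.conj_C hy (D.C_le hx)).1 hx
    exact mul_inv_eq_iff_eq_mul.1 this)
  have hCp : IsPGroup 2 (D.C.subgroupOf Cy) :=
    (D.Q.isPGroup'.to_le D.C_le).of_equiv (Subgroup.subgroupOfEquivOfLe hle).symm
  obtain ⟨T, hT⟩ := hCp.exists_le_sylow
  refine ⟨T, (Subgroup.eq_of_le_of_card_ge hT ?_).symm⟩
  rw [Nat.card_congr (Subgroup.subgroupOfEquivOfLe hle).toEquiv, D.card_C]
  by_contra hlt
  rw [not_le] at hlt
  set T' := (T : Subgroup Cy).map Cy.subtype with hT'
  have hT'p : IsPGroup 2 T' := T.isPGroup'.map _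
  obtain ⟨P, hP⟩ := hT'p.exists_le_sylow
  obtain ⟨k, hk⟩ := D.exists_pow
  obtain ⟨l, hl⟩ := IsPGroup.iff_card.1 T.isPGroup'
  have hkl : k < l := by
    rw [hk, hl] at hlt
    exact (Nat.pow_lt_pow_iff_right (by norm_num)).1 hlt
  have hPQ : Nat.card (P : Subgroup G) = 2 ^ (k + 1) := by
    rw [P.card_eq_multiplicity, ← D.Q.card_eq_multiplicity, D.hcard, hk, pow_succ']
  have hTc : Nat.card T' = 2 ^ l := by
    rw [hT', Subgroup.card_map_of_injective Cy.subtype_injective, hl]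
  have heq : T' = (P : Subgroup G) := Subgroup.eq_of_le_of_card_ge hP (by
    rw [hPQ, hTc]; exact Nat.pow_le_pow_right (by norm_num) hkl)
  obtain ⟨g, hg⟩ := MulAction.exists_smul_eq G P D.Q
  have hyP : y ∈ (P : Subgroup G) := heq ▸ ⟨⟨y, Subgroup.mem_centralizer_singleton_iff.2 rfl⟩,
    hT (Subgroup.mem_subgroupOf.2 hy), rfl⟩
  have hcen : ∀ p ∈ (P : Subgroup G), Commute p y := fun p hp => by
    obtain ⟨c, -, rfl⟩ := heq.symm ▸ hp
    exact Subgroup.mem_centralizer_singleton_iff.1 c.2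
  have hmemQ : ∀ p : G, p ∈ (P : Subgroup G) → g * p * g⁻¹ ∈ (D.Q : Subgroup G) := fun p hp => by
    rw [← hg, Sylow.coe_subgroup_smul]
    exact Subgroup.smul_mem_pointwise_smul p (MulAut.conj g) _ hp
  have hmemP : ∀ q ∈ (D.Q : Subgroup G), g⁻¹ * q * g ∈ (P : Subgroup G) := fun q hq => by
    rw [← hg, Sylow.coe_subgroup_smul] at hq
    simpa [mul_assoc] using Subgroup.mem_pointwise_smul_iff_inv_smul_mem.1 hq
  set y' := g * y * g⁻¹ with hy'
  have hy'Q : y' ∈ (D.Q : Subgroup G) := hmemQ y hyP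
  have hy'c : ∀ q ∈ (D.Q : Subgroup G), Commute q y' := fun q hq => by
    have := (hcen _ (hmemP q hq)).map (MulAut.conj g).toMonoidHom
    simpa [hy', mul_assoc] using this
  have hy'2 : y' ^ 2 ≠ 1 := fun he => hy2 (by rwa [hy', conj_pow, conj_eq_one_iff] at he)
  by_cases hy'C : y' ∈ D.C
  · obtain ⟨q, hq, hqC⟩ := D.exists_notMem
    have e := (D.conj_C hy'C hq).2 hqC
    rw [(hy'c q hq).eq, mul_inv_cancel_right] at e
    exact hy'2 (by rw [pow_two]; nth_rewrite 1 [e]; exact inv_mul_cancel y')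
  · have e := D.hinv y' hy'Q hy'C
    rw [← (hy'c D.b D.hb).eq, mul_inv_cancel_right] at e
    have : D.b ^ 2 = 1 := by rw [pow_two]; nth_rewrite 1 [e]; exact inv_mul_cancel D.b
    have := Nat.le_of_dvd two_pos (orderOf_dvd_of_pow_eq_one this)
    have := Nat.le_of_dvd (orderOf_pos D.b) D.h4
    omega

/-- A normal 2-complement in the centralizer. -/
theorem centralizer_complement [Finite G] (h : TwoRankOne G) {y : G} (hy : y ∈ D.C)
    (hy2 : y ^ 2 ≠ 1) :
    ∃ K : Subgroup (Subgroup.centralizer ({y} : Set G)), K.Normal ∧ ¬ 2 ∣ Nat.card K ∧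
      K.index = orderOf D.b := by
  haveI : Fact (Nat.Prime 2) := ⟨Nat.prime_two⟩
  obtain ⟨T, hT⟩ := D.centralizer_sylow h hy hy2
  have hle : D.C ≤ Subgroup.centralizer ({y} : Set G) := fun x hx =>
    Subgroup.mem_centralizer_singleton_iff.2
      (mul_inv_eq_iff_eq_mul.1 ((D.conj_C hy (D.C_le hx)).1 hx))
  have hcyc : IsCyclic T := by
    haveI : IsCyclic D.C := by unfold QData.C; infer_instance
    exact ((MulEquiv.subgroupCongr hT).trans (Subgroup.subgroupOfEquivOfLe hle)).isCyclic.2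
      inferInstance
  have hcT : Nat.card (T : Subgroup (Subgroup.centralizer ({y} : Set G))) = orderOf D.b := by
    rw [hT, Nat.card_congr (Subgroup.subgroupOfEquivOfLe hle).toEquiv, D.card_C]
  have heven : 2 ∣ Nat.card (Subgroup.centralizer ({y} : Set G)) :=
    dvd_trans ((show 2 ∣ 4 by norm_num).trans (hcT ▸ D.h4)) (Subgroup.card_subgroup_dvd_card _)
  have hN := hcyc.normalizer_le_centralizer ((Nat.minFac_eq_two_iff _).2 heven)
  exact ⟨(MonoidHom.transferSylow T hN).ker, inferInstance,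
    MonoidHom.not_dvd_card_ker_transferSylow T hN,
    (MonoidHom.ker_transferSylow_isComplement' T hN).symm.index_eq_card.trans hcT⟩

/-- Fusion in the cyclic subgroup: only inversion. -/
theorem fusion [Finite G] (h : TwoRankOne G) {y : G} (hy : y ∈ D.C) (hy2 : y ^ 2 ≠ 1) {g : G}
    (hg : g * y * g⁻¹ ∈ D.C) : g * y * g⁻¹ = y ∨ g * y * g⁻¹ = y⁻¹ := by
  haveI : Fact (Nat.Prime 2) := ⟨Nat.prime_two⟩
  set S := Subgroup.zpowers y with hS
  set N := Subgroup.normalizer (S : Set G) with hN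
  have hmem : ∀ n : G, n * y * n⁻¹ ∈ S → n ∈ N := fun n hn => by
    refine mem_normalizer_of_conj_le fun s hs => ?_
    obtain ⟨i, rfl⟩ := Subgroup.mem_zpowers_iff.1 hs
    rw [← conj_zpow]; exact zpow_mem hn i
  have hgN : g ∈ N := hmem g (mem_zpowers_of_orderOf_eq hy hg (Invol.orderOf_conj_eq g y))
  obtain ⟨q, hq, hqC⟩ := D.exists_notMem
  have hqy : q * y * q⁻¹ = y⁻¹ := (D.conj_C hy hq).2 hqC
  have hqN : q ∈ N := hmem q (hqy ▸ inv_mem (Subgroup.mem_zpowers y))
  set ψ : N →* MulAut S := Subgroup.normalizerMonoidHom S with hψ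
  have hker : ∀ n : N, n ∈ ψ.ker ↔ (n : G) * y * (n : G)⁻¹ = y := by
    intro n
    rw [hψ, Subgroup.normalizerMonoidHom_ker, Subgroup.mem_subgroupOf, Subgroup.mem_centralizer_iff,
      mul_inv_eq_iff_eq_mul]
    constructor
    · intro hall
      exact (hall y (Subgroup.mem_zpowers y)).symm
    · intro hny s hs
      obtain ⟨i, rfl⟩ := Subgroup.mem_zpowers_iff.1 hs
      exact ((show Commute (n : G) y from hny).zpow_right i).eq.symm
  obtain ⟨m, hm⟩ := IsPGroup.iff_orderOf.1 D.Q.isPGroup' ⟨y, D.C_le hy⟩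
  rw [Subgroup.orderOf_mk] at hm
  have hm0 : 0 < m := Nat.pos_of_ne_zero fun h0 => hy2 (by
    rw [h0, pow_zero, orderOf_eq_one_iff] at hm; rw [hm, one_pow])
  obtain ⟨s, -, hs⟩ : ∃ s ≤ m - 1, ψ.ker.index = 2 ^ s := by
    refine (Nat.dvd_prime_pow Nat.prime_two).1 ?_
    rw [Subgroup.index_ker]
    refine (Subgroup.card_subgroup_dvd_card _).trans (dvd_of_eq ?_)
    rw [IsCyclic.card_mulAut, hS, Nat.card_zpowers, hm, Nat.totient_prime_pow Nat.prime_two hm0]
    simp
  have hCker : (D.C.subgroupOf N) ≤ ψ.ker := fun n hn =>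
    (hker n).2 ((D.conj_C hy (D.C_le hn)).1 hn)
  have hCN : D.C ≤ N := fun c hc => hmem c (by
    rw [(D.conj_C hy (D.C_le hc)).1 hc]; exact Subgroup.mem_zpowers y)
  have hidx : ψ.ker.index = 2 := by
    obtain ⟨k, hk⟩ := D.exists_pow
    have h1 : 2 ^ (k + s) ∣ Nat.card G := by
      refine dvd_trans ?_ (Subgroup.card_subgroup_dvd_card N)
      rw [pow_add, ← Subgroup.card_mul_index ψ.ker, hs]
      refine mul_dvd_mul ?_ dvd_rfl
      rw [← hk, ← D.card_C, ← Nat.card_congr (Subgroup.subgroupOfEquivOfLe hCN).toEquiv]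
      exact Subgroup.card_dvd_of_le hCker
    have h2 : k + s ≤ k + 1 := by
      rw [Nat.Prime.pow_dvd_iff_le_factorization Nat.prime_two Nat.card_pos.ne'] at h1
      have h3 := D.Q.card_eq_multiplicity
      rw [D.hcard, hk, ← pow_succ'] at h3
      have h4 := Nat.pow_right_injective (le_refl 2) h3
      omega
    rcases (by omega : s = 0 ∨ s = 1) with rfl | rfl
    · exfalso
      rw [pow_zero, Subgroup.index_eq_one] at hs
      have e := (hker ⟨q, hqN⟩).1 (hs ▸ Subgroup.mem_top _)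
      simp only [hqy] at e
      exact hy2 (by rw [pow_two]; nth_rewrite 1 [← e]; exact inv_mul_cancel y)
    · simpa using hs
  by_cases hgk : (⟨g, hgN⟩ : N) ∈ ψ.ker
  · exact .inl ((hker _).1 hgk)
  · right
    have hqk : (⟨q, hqN⟩ : N) ∉ ψ.ker := fun hk => by
      have e := (hker _).1 hk
      simp only [hqy] at e
      exact hy2 (by rw [pow_two]; nth_rewrite 1 [← e]; exact inv_mul_cancel y)
    have hgq : ((⟨g, hgN⟩ : N) * ⟨q, hqN⟩) ∈ ψ.ker :=
      (Subgroup.mul_mem_iff_of_index_two hidx).2 (iff_of_false hgk hqk)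
    have e := (hker _).1 hgq
    simp only [Subgroup.coe_mul] at e
    have e2 : g * (q * y * q⁻¹) * g⁻¹ = y :=
      (show g * (q * y * q⁻¹) * g⁻¹ = g * q * y * (g * q)⁻¹ by group).trans e
    rw [hqy, ← conj_inv] at e2
    exact inv_eq_iff_eq_inv.1 e2

theorem inf_centralizer [Finite G] {y : G} (hy : y ∈ D.C) (hy2 : y ^ 2 ≠ 1) :
    (D.Q : Subgroup G) ⊓ Subgroup.centralizer ({y} : Set G) = D.C := by
  refine le_antisymm (fun x hx => ?_) fun x hx => ⟨D.C_le hx,
    Subgroup.mem_centralizer_singleton_iff.2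
      (mul_inv_eq_iff_eq_mul.1 ((D.conj_C hy (D.C_le hx)).1 hx))⟩
  by_contra hxC
  have e := (D.conj_C hy hx.1).2 hxC
  rw [mul_inv_eq_iff_eq_mul.2 (Subgroup.mem_centralizer_singleton_iff.1 hx.2)] at e
  exact hy2 (by rw [pow_two]; nth_rewrite 1 [e]; exact inv_mul_cancel y)

/-- No conjugate of an involution inverts an element of order at least four. -/
theorem not_inverted [Finite G] (h : TwoRankOne G) {y : G} (hy : y ∈ D.C) (hy2 : y ^ 2 ≠ 1)
    {t : G} (ht : orderOf t = 2) : t * y * t⁻¹ ≠ y⁻¹ := by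
  haveI : Fact (Nat.Prime 2) := ⟨Nat.prime_two⟩
  intro he
  obtain ⟨m, hm⟩ := IsPGroup.iff_orderOf.1 D.Q.isPGroup' ⟨y, D.C_le hy⟩
  rw [Subgroup.orderOf_mk] at hm
  have hy1 : y ≠ 1 := fun h1 => hy2 (by rw [h1, one_pow])
  have hm0 : m ≠ 0 := fun h0 => hy1 (orderOf_eq_one_iff.1 (by simpa [h0] using hm))
  set u := y ^ (orderOf y / 2) with hu
  have hu2 : orderOf u = 2 :=
    orderOf_pow_orderOf_div (orderOf_pos y).ne' (hm ▸ dvd_pow_self 2 hm0)
  have htu : Commute t u := by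
    have : t * u * t⁻¹ = u := by rw [hu, ← conj_pow, he, inv_pow, ← hu, Invol.inv_of_orderOf_two hu2]
    exact mul_inv_eq_iff_eq_mul.1 this
  rw [h t u ht hu2 htu, hu, ((Commute.refl y).pow_left _).eq, mul_inv_cancel_right] at he
  exact hy2 (by rw [pow_two]; nth_rewrite 1 [he]; exact inv_mul_cancel y)

/-- A four element of `Q` (of order eight) fuses out of its cyclic subgroup in a perfect group. -/
theorem exists_fused [Finite G] (h : TwoRankOne G) (hperf : commutator G = ⊤)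
    (h8 : Nat.card (D.Q : Subgroup G) = 8) {x : G} (hx : x ∈ (D.Q : Subgroup G))
    (hx4 : orderOf x = 4) :
    ∃ u : G, u * x * u⁻¹ ∈ (D.Q : Subgroup G) ∧ u * x * u⁻¹ ∉ Subgroup.zpowers x := by
  haveI : Fact (Nat.Prime 2) := ⟨Nat.prime_two⟩
  by_contra hno
  push Not at hno
  set S := Subgroup.zpowers x with hS
  have hSQ : S ≤ (D.Q : Subgroup G) := Subgroup.zpowers_le.2 hx
  have hin : ∀ v ∈ S, ∀ u : G, u * v * u⁻¹ ∈ (D.Q : Subgroup G) → u * v * u⁻¹ ∈ S := by
    intro v hv u huv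
    by_cases hv2 : v ^ 2 = 1
    · by_cases hv1 : v = 1
      · rw [hv1]; simpa using one_mem S
      · have hv2' : orderOf v = 2 := orderOf_eq_prime hv2 hv1
        rw [unique_of_isPGroup h D.Q.isPGroup' huv (hSQ hv) (by rw [Invol.orderOf_conj_eq, hv2'])
          hv2']
        exact hv
    · have hxv : x ∈ Subgroup.zpowers v := by
        refine mem_zpowers_of_orderOf_eq hv (Subgroup.mem_zpowers x) ?_
        have h1 : orderOf v ∣ 4 := by
          obtain ⟨i, rfl⟩ := Subgroup.mem_zpowers_iff.1 hv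
          exact hx4 ▸ orderOf_dvd_of_mem_zpowers (Subgroup.zpow_mem_zpowers x i)
        have h2 : ¬ orderOf v ∣ 2 := fun hd => hv2 (orderOf_dvd_iff_pow_eq_one.1 hd)
        have h3 := Nat.le_of_dvd (by norm_num) h1
        rw [hx4]
        interval_cases (orderOf v) <;> first | rfl | (exfalso; revert h1 h2; decide)
      obtain ⟨i, hi⟩ := Subgroup.mem_zpowers_iff.1 hxv
      have hux : u * x * u⁻¹ ∈ (D.Q : Subgroup G) := by
        rw [← hi, ← conj_zpow]; exact zpow_mem huv i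
      obtain ⟨j, hj⟩ := Subgroup.mem_zpowers_iff.1 hv
      rw [← hj, ← conj_zpow]
      exact zpow_mem (hno u hux) j
  have hidx : (S.subgroupOf (D.Q : Subgroup G)).index = 2 := by
    have := Subgroup.card_mul_index (S.subgroupOf (D.Q : Subgroup G))
    rw [Nat.card_congr (Subgroup.subgroupOfEquivOfLe hSQ).toEquiv, hS, Nat.card_zpowers, hx4,
      h8] at this
    rw [hS]
    omega
  have hle := Transfer.commutator_inf_sylow_le D.Q (K := S) fun w hw u huw => by
    by_cases hwS : w ∈ S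
    · exact mul_mem (inv_mem hwS) (hin w hwS u huw)
    · have hnS : u * w * u⁻¹ ∉ S := fun hS' => hwS (by
        have := hin _ hS' u⁻¹ (by simpa [mul_assoc] using hw)
        simpa [mul_assoc] using this)
      have := (Subgroup.mul_mem_iff_of_index_two (a := (⟨w, hw⟩ : (D.Q : Subgroup G))⁻¹)
        (b := ⟨u * w * u⁻¹, huw⟩) hidx).2 (iff_of_false
          (fun hh => hwS (by simpa using Subgroup.mem_subgroupOf.1 hh))
          (fun hh => hnS (Subgroup.mem_subgroupOf.1 hh)))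
      simpa using Subgroup.mem_subgroupOf.1 this
  rw [hperf, top_inf_eq] at hle
  have := Subgroup.card_le_of_le hle
  rw [h8, hS, Nat.card_zpowers, hx4] at this
  omega

/-- In a perfect group with a quaternion Sylow subgroup of order eight all elements of order
four are conjugate. -/
theorem isConj_b [Finite G] (h : TwoRankOne G) (hperf : commutator G = ⊤) (hb4 : orderOf D.b = 4)
    {x : G} (hx : x ∈ (D.Q : Subgroup G)) (hx2 : x ^ 2 ≠ 1) : IsConj D.b x := by
  haveI : Fact (Nat.Prime 2) := ⟨Nat.prime_two⟩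
  have h8 : Nat.card (D.Q : Subgroup G) = 8 := by rw [D.hcard, hb4]
  have hzz : D.zz = D.b ^ 2 := by rw [QData.zz, hb4]
  have hord : ∀ w ∈ (D.Q : Subgroup G), w ∉ D.C → orderOf w = 4 := fun w hw hwC => by
    have e := D.sq_eq_zz h hw hwC
    refine orderOf_eq_prime_pow (p := 2) (n := 1) ?_ ?_
    · rw [pow_one, e]; exact Invol.ne_one_of_orderOf_two D.zz_order
    · show w ^ 2 ^ 2 = 1
      rw [show 2 ^ 2 = 2 * 2 by norm_num, pow_mul, e, ← D.zz_order, pow_orderOf_eq_one]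
  have hinC : ∀ y ∈ D.C, y ^ 2 ≠ 1 → y = D.b ∨ y = D.b⁻¹ := by
    intro y hy hy2
    obtain ⟨i, hi⟩ := mem_powers_iff_mem_zpowers.2 hy
    have hi' : D.b ^ i = y := hi
    rw [← pow_mod_orderOf, hb4] at hi'
    rcases (by omega : i % 4 = 0 ∨ i % 4 = 1 ∨ i % 4 = 2 ∨ i % 4 = 3) with e | e | e | e <;>
      rw [e] at hi'
    · exact absurd (by rw [← hi']; simp) hy2
    · exact .inl (by rw [← hi', pow_one])
    · exact absurd (by rw [← hi', ← pow_mul, show (2 * 2 : ℕ) = orderOf D.b by rw [hb4],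
        pow_orderOf_eq_one]) hy2
    · refine .inr ?_
      rw [← hi']
      refine eq_inv_of_mul_eq_one_left ?_
      rw [← pow_succ, show 3 + 1 = orderOf D.b by rw [hb4], pow_orderOf_eq_one]
  obtain ⟨q, hq, hqC⟩ := D.exists_notMem
  have hbinv : IsConj D.b D.b⁻¹ := isConj_iff.2 ⟨q, D.hinv q hq hqC⟩
  have hconjinv : ∀ w ∈ (D.Q : Subgroup G), w ∉ D.C → IsConj w w⁻¹ := by
    intro w hw hwC
    refine isConj_iff.2 ⟨D.b, ?_⟩
    have hbi : w * D.b = D.b⁻¹ * w := mul_inv_eq_iff_eq_mul.1 (D.hinv w hw hwC)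
    have e1 : w * D.b⁻¹ = D.b * w := by
      calc w * D.b⁻¹ = D.b * (D.b⁻¹ * w) * D.b⁻¹ := by group
        _ = D.b * w := by rw [← hbi]; group
    calc D.b * w * D.b⁻¹ = w * D.b⁻¹ * D.b⁻¹ := by rw [e1]
      _ = w * D.zz⁻¹ := by rw [hzz, mul_assoc, ← mul_inv_rev, pow_two]
      _ = w * (w ^ 2)⁻¹ := by rw [D.sq_eq_zz h hw hwC]
      _ = w⁻¹ := by group
  have hclass : ∀ w ∈ (D.Q : Subgroup G), w ∉ D.C → ∀ v ∈ (D.Q : Subgroup G), v ∉ D.C →
      v ∈ Subgroup.zpowers w ∨ v ∈ Subgroup.zpowers (w * D.b) := by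
    intro w hw hwC v hv hvC
    have hidx : (D.C.subgroupOf (D.Q : Subgroup G)).index = 2 := by
      have := Subgroup.card_mul_index (D.C.subgroupOf (D.Q : Subgroup G))
      rw [Nat.card_congr (Subgroup.subgroupOfEquivOfLe D.C_le).toEquiv, D.card_C, hb4, h8] at this
      omega
    have hc : w⁻¹ * v ∈ D.C := by
      have := (Subgroup.mul_mem_iff_of_index_two (a := (⟨w, hw⟩ : (D.Q : Subgroup G))⁻¹)
        (b := ⟨v, hv⟩) hidx).2 (iff_of_false
          (fun hh => hwC (by simpa using Subgroup.mem_subgroupOf.1 hh))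
          (fun hh => hvC (Subgroup.mem_subgroupOf.1 hh)))
      simpa using Subgroup.mem_subgroupOf.1 this
    by_cases hc2 : (w⁻¹ * v) ^ 2 = 1
    · left
      by_cases hc1 : w⁻¹ * v = 1
      · rw [← inv_mul_eq_one.1 hc1]; exact Subgroup.mem_zpowers w
      · have := D.eq_zz h (D.C_le hc) hc2 hc1
        rw [← D.sq_eq_zz h hw hwC, inv_mul_eq_iff_eq_mul, ← pow_succ'] at this
        rw [this]; exact Subgroup.npow_mem_zpowers w _
    · right
      rcases hinC _ hc hc2 with e | e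
      · rw [inv_mul_eq_iff_eq_mul.1 e]; exact Subgroup.mem_zpowers _
      · rw [inv_mul_eq_iff_eq_mul.1 e]
        have hwbQ := mul_mem hw D.hb
        have hwbC : w * D.b ∉ D.C := fun hh =>
          hwC ((Subgroup.mul_mem_cancel_right _ (Subgroup.mem_zpowers D.b)).1 hh)
        have : w * D.b⁻¹ = (w * D.b) ^ 3 := by
          rw [pow_succ' (w * D.b) 2, D.sq_eq_zz h hwbQ hwbC, mul_assoc, hzz, ← pow_succ',
            show D.b⁻¹ = D.b ^ 3 from inv_eq_of_mul_eq_one_right (by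
              rw [← pow_succ', show 3 + 1 = orderOf D.b by rw [hb4], pow_orderOf_eq_one])]
        rw [this]; exact Subgroup.npow_mem_zpowers _ _
  have hgen : ∀ w ∈ (D.Q : Subgroup G), w ∉ D.C → ∀ v ∈ Subgroup.zpowers w, v ∉ D.C →
      IsConj w v := by
    intro w hw hwC v hv hvC
    obtain ⟨i, hi⟩ := mem_powers_iff_mem_zpowers.2 hv
    have hi' : w ^ i = v := hi
    rw [← pow_mod_orderOf, hord w hw hwC] at hi'
    rcases (by omega : i % 4 = 0 ∨ i % 4 = 1 ∨ i % 4 = 2 ∨ i % 4 = 3) with e | e | e | e <;>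
      rw [e] at hi'
    · exact absurd (by rw [← hi', pow_zero]; exact one_mem _) hvC
    · rw [← hi', pow_one]
    · exact absurd (by rw [← hi', D.sq_eq_zz h hw hwC]; exact D.zz_mem) hvC
    · have : w ^ 3 = w⁻¹ := by
        refine eq_inv_of_mul_eq_one_left ?_
        rw [← pow_succ, show 3 + 1 = orderOf w by rw [hord w hw hwC], pow_orderOf_eq_one]
      rw [← hi', this]; exact hconjinv w hw hwC
  by_cases hxC : x ∈ D.C
  · rcases hinC x hxC hx2 with rfl | rfl
    · rfl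
    · exact hbinv
  obtain ⟨u, hu, hux⟩ := D.exists_fused h hperf h8 hx (hord x hx hxC)
  set y := u * x * u⁻¹ with hy
  have hxy : IsConj x y := isConj_iff.2 ⟨u, rfl⟩
  by_cases hyC : y ∈ D.C
  · have hy2 : y ^ 2 ≠ 1 := fun e => hx2 (by rwa [hy, conj_pow, conj_eq_one_iff] at e)
    rcases hinC y hyC hy2 with e | e
    · exact e ▸ hxy.symm
    · exact hbinv.trans (e ▸ hxy.symm)
  obtain ⟨r, hr, hrb⟩ := D.exists_fused h hperf h8 D.hb hb4
  set y' := r * D.b * r⁻¹ with hy'
  have hby' : IsConj D.b y' := isConj_iff.2 ⟨r, rfl⟩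
  have hy'C : y' ∉ D.C := hrb
  rcases hclass x hx hxC y' hr hy'C with hc | hc
  · exact hby'.trans (hgen x hx hxC y' hc hy'C).symm
  · have hwQ : x * D.b ∈ (D.Q : Subgroup G) := mul_mem hx D.hb
    have hwC : x * D.b ∉ D.C := fun hh =>
      hxC ((Subgroup.mul_mem_cancel_right _ (Subgroup.mem_zpowers D.b)).1 hh)
    have hyw : y ∈ Subgroup.zpowers (x * D.b) := (hclass x hx hxC y hu hyC).resolve_left hux
    exact hby'.trans ((hgen _ hwQ hwC y' hc hy'C).symm.trans
      ((hgen _ hwQ hwC y hyw hyC).trans hxy.symm))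

end QData

end Cfsg.Agent.BS
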