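import Mathlib
import Cfsg.Agent.Lib.Grp.Basic
import Cfsg.Prelude.Def_BaumannBlocks

/-!
# The Chermak–Delgado lattice
-/

namespace Cfsg.Agent.Invol

open scoped Pointwise

variable {G : Type*} [Group G] [Finite G]

/-- The Chermak–Delgado measure. -/
noncomputable def cdMeasure (H : Subgroup G) : ℕ :=
  Nat.card H * Nat.card (Subgroup.centralizer (H : Set G))

/-- `H` has maximal measure. -/
def CDMax (H : Subgroup G) : Prop := ∀ K : Subgroup G, cdMeasure K ≤ cdMeasure H

theorem card_mul_le_card_sup (H K : Subgroup G) :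
    Nat.card H * Nat.card K ≤ Nat.card ↥(H ⊔ K) * Nat.card ↥(H ⊓ K) := by
  have h1 := Grp.relIndex_mul_card_inf H K
  have h2 := Grp.card_mul_relIndex (le_sup_right : K ≤ H ⊔ K)
  have h3 : K.relIndex H ≤ K.relIndex (H ⊔ K) :=
    Subgroup.relIndex_le_of_le_right le_sup_left
      (fun h => by rw [h, mul_zero] at h2; exact absurd h2.symm Nat.card_pos.ne')
  calc Nat.card H * Nat.card K = Nat.card ↥(H ⊓ K) * K.relIndex H * Nat.card K := by rw [h1]
    _ ≤ Nat.card ↥(H ⊓ K) * K.relIndex (H ⊔ K) * Nat.card K :=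
        Nat.mul_le_mul_right _ (Nat.mul_le_mul_left _ h3)
    _ = Nat.card ↥(H ⊔ K) * Nat.card ↥(H ⊓ K) := by rw [← h2]; ring

/-- If the order of a join is that of the set product then the join is the set product. -/
theorem sup_eq_mul_of_card_le (H K : Subgroup G)
    (h : Nat.card ↥(H ⊔ K) * Nat.card ↥(H ⊓ K) ≤ Nat.card H * Nat.card K) :
    ((H ⊔ K : Subgroup G) : Set G) = (H : Set G) * (K : Set G) := by
  have heq := le_antisymm (card_mul_le_card_sup H K) h
  have h1 := Grp.relIndex_mul_card_inf H K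
  have h2 := Grp.card_mul_relIndex (le_sup_right : K ≤ H ⊔ K)
  have hidx : K.relIndex H = K.relIndex (H ⊔ K) := by
    rw [← h1, ← h2] at heq
    have : Nat.card ↥(H ⊓ K) * Nat.card K * K.relIndex H =
        Nat.card ↥(H ⊓ K) * Nat.card K * K.relIndex (H ⊔ K) := by linarith
    exact Nat.eq_of_mul_eq_mul_left (Nat.mul_pos Nat.card_pos Nat.card_pos) this
  refine subset_antisymm (fun x hx => ?_)
    (Set.mul_subset_iff.mpr fun a ha b hb => Subgroup.mul_mem_sup ha hb)
  let ι := Subgroup.quotientSubgroupOfEmbeddingOfLE K (le_sup_left : H ≤ H ⊔ K)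
  have hbij : Function.Bijective ι :=
    (Nat.bijective_iff_injective_and_card ι).mpr ⟨ι.injective, hidx⟩
  obtain ⟨q, hq⟩ := hbij.2 (QuotientGroup.mk (⟨x, hx⟩ : ↥(H ⊔ K)))
  induction q using QuotientGroup.induction_on with
  | _ a =>
    rw [Subgroup.quotientSubgroupOfEmbeddingOfLE_apply_mk, QuotientGroup.eq,
      Subgroup.mem_subgroupOf] at hq
    exact ⟨a, a.2, _, hq, by simp⟩

theorem centralizer_sup_le (H K : Subgroup G) :
    Subgroup.centralizer (H : Set G) ⊓ Subgroup.centralizer (K : Set G) ≤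
      Subgroup.centralizer ((H ⊔ K : Subgroup G) : Set G) := by
  intro x hx
  have hH : H ≤ Subgroup.centralizer {x} := fun a ha =>
    Subgroup.mem_centralizer_singleton_iff.mpr (Subgroup.mem_centralizer_iff.mp hx.1 a ha)
  have hK : K ≤ Subgroup.centralizer {x} := fun a ha =>
    Subgroup.mem_centralizer_singleton_iff.mpr (Subgroup.mem_centralizer_iff.mp hx.2 a ha)
  exact Subgroup.mem_centralizer_iff.mpr fun a ha =>
    Subgroup.mem_centralizer_singleton_iff.mp (sup_le hH hK ha)

theorem sup_centralizer_le (H K : Subgroup G) :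
    Subgroup.centralizer (H : Set G) ⊔ Subgroup.centralizer (K : Set G) ≤
      Subgroup.centralizer ((H ⊓ K : Subgroup G) : Set G) :=
  sup_le (Subgroup.centralizer_le (SetLike.coe_subset_coe.mpr inf_le_left)) (Subgroup.centralizer_le (SetLike.coe_subset_coe.mpr inf_le_right))

/-- The measure is submodular. -/
theorem cdMeasure_mul_le (H K : Subgroup G) :
    cdMeasure H * cdMeasure K ≤ cdMeasure (H ⊔ K) * cdMeasure (H ⊓ K) := by
  have h1 := card_mul_le_card_sup H K
  have h2 := card_mul_le_card_sup (Subgroup.centralizer (H : Set G)) (Subgroup.centralizer (K : Set G))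
  have h3 := Subgroup.card_le_of_le (sup_centralizer_le H K)
  have h4 := Subgroup.card_le_of_le (centralizer_sup_le H K)
  have h5 := h2.trans (Nat.mul_le_mul h3 h4)
  calc cdMeasure H * cdMeasure K = (Nat.card H * Nat.card K) *
        (Nat.card (Subgroup.centralizer (H : Set G)) * Nat.card (Subgroup.centralizer (K : Set G))) := by
        unfold cdMeasure; ring
    _ ≤ _ := Nat.mul_le_mul h1 h5
    _ = cdMeasure (H ⊔ K) * cdMeasure (H ⊓ K) := by unfold cdMeasure; ring

theorem exists_cdMax : ∃ H : Subgroup G, CDMax H := Finite.exists_max cdMeasure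

theorem CDMax.cdMeasure_eq {H K : Subgroup G} (hH : CDMax H) (hK : CDMax K) :
    cdMeasure H = cdMeasure K := le_antisymm (hK H) (hH K)

theorem CDMax.of_ge {H K : Subgroup G} (hH : CDMax H) (h : cdMeasure H ≤ cdMeasure K) : CDMax K :=
  fun L => (hH L).trans h

theorem cdMeasure_pos (H : Subgroup G) : 0 < cdMeasure H := Nat.mul_pos Nat.card_pos Nat.card_pos

/-- The lattice property, with the product and centralizer identities. -/
theorem CDMax.lattice {H K : Subgroup G} (hH : CDMax H) (hK : CDMax K) :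
    CDMax (H ⊔ K) ∧ CDMax (H ⊓ K) ∧
      ((H ⊔ K : Subgroup G) : Set G) = (H : Set G) * (K : Set G) ∧
      (((Subgroup.centralizer (H : Set G) ⊔ Subgroup.centralizer (K : Set G) : Subgroup G)) : Set G) =
        (Subgroup.centralizer (H : Set G) : Set G) * (Subgroup.centralizer (K : Set G) : Set G) ∧
      Subgroup.centralizer ((H ⊓ K : Subgroup G) : Set G) =
        Subgroup.centralizer (H : Set G) ⊔ Subgroup.centralizer (K : Set G) := by
  have h := cdMeasure_mul_le H K
  have hM := hH.cdMeasure_eq hK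
  have hu := hH (H ⊔ K)
  have hi := hH (H ⊓ K)
  have hpos := cdMeasure_pos H
  have he1 : cdMeasure H ≤ cdMeasure (H ⊔ K) := by
    by_contra hlt
    push Not at hlt
    have := Nat.mul_lt_mul_of_lt_of_le hlt hi hpos
    rw [← hM] at h
    omega
  have he2 : cdMeasure H ≤ cdMeasure (H ⊓ K) := by
    by_contra hlt
    push Not at hlt
    have := Nat.mul_lt_mul_of_le_of_lt hu hlt hpos
    rw [← hM] at h
    omega
  refine ⟨hH.of_ge he1, hH.of_ge he2, ?_⟩
  set A := Nat.card H * Nat.card K
  set A' := Nat.card ↥(H ⊔ K) * Nat.card ↥(H ⊓ K)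
  set CH := Subgroup.centralizer (H : Set G)
  set CK := Subgroup.centralizer (K : Set G)
  have h1 : A ≤ A' := card_mul_le_card_sup H K
  have h2 := card_mul_le_card_sup CH CK
  have h3 := Subgroup.card_le_of_le (sup_centralizer_le H K)
  have h4 := Subgroup.card_le_of_le (centralizer_sup_le H K)
  have hB : Nat.card ↥(CH ⊔ CK) * Nat.card ↥(CH ⊓ CK) ≤
      Nat.card (Subgroup.centralizer ((H ⊓ K : Subgroup G) : Set G)) *
        Nat.card (Subgroup.centralizer ((H ⊔ K : Subgroup G) : Set G)) := Nat.mul_le_mul h3 h4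
  have heq : A' * (Nat.card (Subgroup.centralizer ((H ⊓ K : Subgroup G) : Set G)) *
      Nat.card (Subgroup.centralizer ((H ⊔ K : Subgroup G) : Set G))) = A * (Nat.card CH * Nat.card CK) := by
    have e1 := le_antisymm hu he1
    have e2 := le_antisymm hi he2
    have : cdMeasure (H ⊔ K) * cdMeasure (H ⊓ K) = cdMeasure H * cdMeasure K := by
      rw [e1, e2, ← hM]
    simp only [A, A', CH, CK, cdMeasure] at this ⊢
    linarith
  have hApos : 0 < A := Nat.mul_pos Nat.card_pos Nat.card_pos
  have hle : A' * (Nat.card ↥(CH ⊔ CK) * Nat.card ↥(CH ⊓ CK)) ≤ A * (Nat.card CH * Nat.card CK) :=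
    heq ▸ Nat.mul_le_mul_left _ hB
  refine ⟨sup_eq_mul_of_card_le H K ?_, sup_eq_mul_of_card_le CH CK ?_, ?_⟩
  · have : A' * (Nat.card CH * Nat.card CK) ≤ A * (Nat.card CH * Nat.card CK) :=
      (Nat.mul_le_mul_left _ h2).trans hle
    exact Nat.le_of_mul_le_mul_right this (Nat.mul_pos Nat.card_pos Nat.card_pos)
  · exact Nat.le_of_mul_le_mul_left ((Nat.mul_le_mul_right _ h1).trans hle) hApos
  · refine (Subgroup.eq_of_le_of_card_ge (sup_centralizer_le H K) ?_).symm
    have h6 : A * (Nat.card (Subgroup.centralizer ((H ⊓ K : Subgroup G) : Set G)) *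
        Nat.card (Subgroup.centralizer ((H ⊔ K : Subgroup G) : Set G))) ≤
        A * (Nat.card ↥(CH ⊔ CK) * Nat.card ↥(CH ⊓ CK)) :=
      ((Nat.mul_le_mul_right _ h1).trans heq.le).trans (Nat.mul_le_mul_left _ h2)
    have h7 := Nat.le_of_mul_le_mul_left h6 hApos
    have h8 : Nat.card ↥(CH ⊔ CK) * Nat.card ↥(CH ⊓ CK) ≤
        Nat.card ↥(CH ⊔ CK) * Nat.card (Subgroup.centralizer ((H ⊔ K : Subgroup G) : Set G)) :=
      Nat.mul_le_mul_left _ h4
    exact Nat.le_of_mul_le_mul_right (h7.trans h8) Nat.card_pos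

theorem cdMeasure_le_centralizer (H : Subgroup G) :
    cdMeasure H ≤ cdMeasure (Subgroup.centralizer (H : Set G)) := by
  have h : H ≤ Subgroup.centralizer ((Subgroup.centralizer (H : Set G) : Subgroup G) : Set G) :=
    Subgroup.le_centralizer_iff.mp le_rfl
  calc cdMeasure H = Nat.card (Subgroup.centralizer (H : Set G)) * Nat.card H := Nat.mul_comm _ _
    _ ≤ _ := Nat.mul_le_mul_left _ (Subgroup.card_le_of_le h)

theorem CDMax.centralizer {H : Subgroup G} (hH : CDMax H) :
    CDMax (Subgroup.centralizer (H : Set G)) := hH.of_ge (cdMeasure_le_centralizer H)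

theorem CDMax.centralizer_centralizer {H : Subgroup G} (hH : CDMax H) :
    H = Subgroup.centralizer ((Subgroup.centralizer (H : Set G) : Subgroup G) : Set G) := by
  refine Subgroup.eq_of_le_of_card_ge (Subgroup.le_centralizer_iff.mp le_rfl) ?_
  have := hH (Subgroup.centralizer (H : Set G))
  unfold cdMeasure at this
  rw [Nat.mul_comm (Nat.card H)] at this
  exact Nat.le_of_mul_le_mul_left this Nat.card_pos

theorem cdMeasure_map (H : Subgroup G) (e : G ≃* G) :
    cdMeasure (H.map e.toMonoidHom) = cdMeasure H := by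
  have hC : Subgroup.centralizer ((H.map e.toMonoidHom : Subgroup G) : Set G) =
      (Subgroup.centralizer (H : Set G)).map e.toMonoidHom := by
    ext x
    simp only [Subgroup.mem_map_equiv, Subgroup.mem_centralizer_iff, SetLike.mem_coe]
    constructor
    · intro h a ha
      apply e.injective
      simpa using h (e a) (by simpa using ha)
    · intro h a ha
      apply e.symm.injective
      simpa using h (e.symm a) ha
  unfold cdMeasure
  rw [hC, Subgroup.card_map_of_injective e.injective, Subgroup.card_map_of_injective e.injective]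

theorem CDMax.map {H : Subgroup G} (hH : CDMax H) (e : G ≃* G) : CDMax (H.map e.toMonoidHom) :=
  hH.of_ge (cdMeasure_map H e).ge

theorem card_center_eq (R : Subgroup G) :
    Nat.card (Subgroup.center R) = Nat.card ↥(R ⊓ Subgroup.centralizer (R : Set G)) := by
  rw [← Subgroup.card_map_of_injective R.subtype_injective]
  congr 2
  ext x
  constructor
  · rintro ⟨a, ha, rfl⟩
    exact ⟨a.2, Subgroup.mem_centralizer_iff.mpr fun b hb =>
      congrArg Subtype.val (Subgroup.mem_center_iff.mp ha ⟨b, hb⟩)⟩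
  · rintro ⟨hxR, hxC⟩
    exact ⟨⟨x, hxR⟩, Subgroup.mem_center_iff.mpr fun b =>
      Subtype.ext (Subgroup.mem_centralizer_iff.mp hxC b b.2), rfl⟩

theorem centralizerLarge_iff (R : Subgroup G) : Cfsg.IsCentralizerLarge R ↔ CDMax R := by
  obtain ⟨M, hM⟩ := exists_cdMax (G := G)
  have h : Cfsg.maxCentralizerProduct G = cdMeasure M :=
    IsGreatest.csSup_eq ⟨⟨M, rfl⟩, by rintro k ⟨K, rfl⟩; exact hM K⟩
  rw [Cfsg.IsCentralizerLarge, h]
  exact ⟨fun hR => hM.of_ge hR.ge, fun hR => hR.cdMeasure_eq hM⟩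

theorem CDMax.centralizer_le_sup {R : Subgroup G} (hR : CDMax R) :
    CDMax (R ⊔ Subgroup.centralizer (R : Set G)) ∧
      Subgroup.centralizer ((R ⊔ Subgroup.centralizer (R : Set G) : Subgroup G) : Set G) ≤
        R ⊔ Subgroup.centralizer (R : Set G) :=
  ⟨(hR.lattice hR.centralizer).1, le_trans (Subgroup.centralizer_le (SetLike.coe_subset_coe.mpr le_sup_left)) le_sup_right⟩

/-- Centrally large = of maximal measure and containing its centralizer. -/
theorem centrallyLarge_iff (R : Subgroup G) :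
    Cfsg.IsCentrallyLarge R ↔ CDMax R ∧ Subgroup.centralizer (R : Set G) ≤ R := by
  obtain ⟨M, hM⟩ := exists_cdMax (G := G)
  set M' := M ⊔ Subgroup.centralizer (M : Set G)
  obtain ⟨hM', hM'C⟩ := hM.centralizer_le_sup
  have hle : ∀ K : Subgroup G, Nat.card K * Nat.card (Subgroup.center K) ≤ cdMeasure K := fun K => by
    rw [card_center_eq]
    exact Nat.mul_le_mul_left _ (Subgroup.card_le_of_le inf_le_right)
  have h : Cfsg.maxCentralProduct G = cdMeasure M' :=
    IsGreatest.csSup_eq ⟨⟨M', by rw [card_center_eq, inf_eq_right.mpr hM'C]; rfl⟩,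
      by rintro k ⟨K, rfl⟩; exact (hle K).trans (hM' K)⟩
  rw [Cfsg.IsCentrallyLarge, h]
  constructor
  · intro hR
    have hmax : CDMax R := hM'.of_ge (hR ▸ hle R)
    refine ⟨hmax, ?_⟩
    rw [card_center_eq] at hR
    have h2 : Nat.card ↥(R ⊓ Subgroup.centralizer (R : Set G)) =
        Nat.card (Subgroup.centralizer (R : Set G)) :=
      Nat.eq_of_mul_eq_mul_left Nat.card_pos (hR.trans (hM'.cdMeasure_eq hmax))
    have h3 : R ⊓ Subgroup.centralizer (R : Set G) = Subgroup.centralizer (R : Set G) :=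
      Subgroup.eq_of_le_of_card_ge inf_le_right h2.ge
    exact inf_eq_right.mp h3
  · rintro ⟨hmax, hC⟩
    rw [card_center_eq, inf_eq_right.mpr hC]
    exact hmax.cdMeasure_eq hM'

end Cfsg.Agent.Invol
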