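import Cfsg.Agent.Lib.Invol.PushCL
import Cfsg.Agent.Lib.Grp.Frattini

/-!
# The subgroup generated by the Frattini subgroups of minimal centrally large subgroups
-/

set_option autoImplicit false
set_option linter.style.haveILetI false
set_option linter.unusedSectionVars false

namespace Cfsg.Agent.Invol.PushCLF

open Subgroup

universe u

section PGroup

variable {P : Type u} [Group P] [Finite P] {p : ℕ} [hp : Fact p.Prime]

theorem mem_omega_of_comm {Z : Subgroup P} (hZ : Z ≤ centralizer (Z : Set P)) {x : P}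
    (hx : x ∈ Cfsg.omegaOne p Z) : x ∈ Z ∧ x ^ p = 1 := by
  induction hx using Subgroup.closure_induction with
  | mem a ha => exact ha
  | one => exact ⟨one_mem _, one_pow _⟩
  | mul a b _ _ iha ihb =>
    refine ⟨mul_mem iha.1 ihb.1, ?_⟩
    rw [Commute.mul_pow (mem_centralizer_iff.mp (hZ ihb.1) a iha.1), iha.2, ihb.2, one_mul]
  | inv a _ iha => exact ⟨inv_mem iha.1, by rw [inv_pow, iha.2, inv_one]⟩

theorem card_sup_comm {A H N : Subgroup P} (hA : A ≤ centralizer (A : Set P)) (hH : H ≤ A) (hN : N ≤ A) :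
    Nat.card ↥(H ⊔ N) * Nat.card ↥(H ⊓ N) = Nat.card H * Nat.card N :=
  Grp.card_sup_mul_card_inf ((hH.trans (hA.trans (centralizer_le hN))).trans (centralizer_le_normalizer _))

/-- Replacement of a minimal centrally large subgroup by one inside a given centrally large subgroup. -/
theorem replacement (hP : IsPGroup p P) {T₀ : Subgroup P} (hT : Cfsg.IsCentrallyLarge T₀)
    (hsplit : ∀ w ∈ centralizer (T₀ : Set P), ∃ c ∈ center P, ∃ v ∈ centralizer (T₀ : Set P),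
      v ^ p = 1 ∧ w = c * v)
    {Q : Subgroup P} (hQ : Cfsg.IsMinimalCentrallyLarge Q) :
    ∃ Q' : Subgroup P, Cfsg.IsMinimalCentrallyLarge Q' ∧ Q' ≤ T₀ ∧
      Nat.card ↥(Cfsg.omegaOneCenter p Q) ≤ Nat.card ↥(Cfsg.omegaOneCenter p Q') ∧
      (Nat.card ↥(Cfsg.omegaOneCenter p Q') ≤ Nat.card ↥(Cfsg.omegaOneCenter p Q) →
        (frattini ↥Q).map Q.subtype ≤ (frattini ↥Q').map Q'.subtype) := by
  obtain ⟨hTm, hWT⟩ := (Invol.centrallyLarge_iff _).mp hT
  obtain ⟨hQm, hZQ⟩ := (Invol.centrallyLarge_iff _).mp hQ.1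
  obtain ⟨W, hW⟩ : ∃ W, W = centralizer (T₀ : Set P) := ⟨_, rfl⟩
  obtain ⟨Z, hZ⟩ : ∃ Z, Z = centralizer (Q : Set P) := ⟨_, rfl⟩
  rw [← hW] at hWT hsplit
  rw [← hZ] at hZQ
  obtain ⟨I, hI⟩ : ∃ I, I = Q ⊓ T₀ := ⟨_, rfl⟩
  obtain ⟨ZI, hZI⟩ : ∃ ZI, ZI = Z ⊓ T₀ := ⟨_, rfl⟩
  obtain ⟨-, hIm, -, hset, hCI⟩ := hQm.lattice hTm
  rw [← hI] at hIm hCI
  rw [← hZ, ← hW] at hset hCI
  have hCW : centralizer (W : Set P) = T₀ := hW ▸ hTm.centralizer_centralizer.symm
  have hWm : Invol.CDMax W := hW ▸ hTm.centralizer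
  have hQ'T : I ⊔ W ≤ T₀ := sup_le (hI ▸ inf_le_right) hWT
  have hZIQ : ZI ≤ I := by rw [hZI, hI]; exact inf_le_inf_right _ hZQ
  have hCQ' : centralizer ((I ⊔ W : Subgroup P) : Set P) = ZI ⊔ W := by
    refine le_antisymm (fun x hx => ?_) ?_
    · have h1 : x ∈ Z ⊔ W := hCI ▸ centralizer_le (SetLike.coe_subset_coe.mpr (le_sup_left : I ≤ I ⊔ W)) hx
      have h2 : x ∈ T₀ := hCW ▸ centralizer_le (SetLike.coe_subset_coe.mpr (le_sup_right : W ≤ I ⊔ W)) hx
      obtain ⟨z, hz, w, hw, rfl⟩ := hset.subset (show x ∈ ((Z ⊔ W : Subgroup P) : Set P) from h1)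
      refine mul_mem (mem_sup_left ?_) (mem_sup_right hw)
      rw [hZI]
      exact ⟨hz, by simpa using mul_mem h2 (inv_mem (hWT hw))⟩
    · refine le_trans (le_inf ?_ ?_) (Invol.centralizer_sup_le _ _)
      · rw [hCI]; exact sup_le_sup_right (hZI ▸ inf_le_left) _
      · rw [hCW]; exact sup_le (hZI ▸ inf_le_right) hWT
  have hCle : centralizer ((I ⊔ W : Subgroup P) : Set P) ≤ I ⊔ W := hCQ'.le.trans (sup_le_sup_right hZIQ _)
  have hQ'cl : Cfsg.IsCentrallyLarge (I ⊔ W) :=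
    (Invol.centrallyLarge_iff _).mpr ⟨(hIm.lattice hWm).1, hCle⟩
  obtain ⟨R, hRle, hR⟩ := CL.exists_minimal_le hQ'cl
  have hCR : ZI ⊔ W ≤ R := hCQ' ▸ (centralizer_le hRle).trans ((Invol.centrallyLarge_iff _).mp hR.1).2
  have hEq := CL.minimal_eq hQ hR
  rw [← hZ] at hEq
  have hn : (Q ⊓ R) ≤ normalizer (Z : Set P) := by
    rw [hZ]
    exact (inf_le_left.trans (Subgroup.le_centralizer_iff.mp le_rfl)).trans (centralizer_le_normalizer _)
  have hQsplit : ∀ x ∈ Q, ∃ a ∈ Q ⊓ R, ∃ z ∈ Z, a * z = x := by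
    intro x hx
    rw [← hEq] at hx
    exact (Subgroup.coe_mul_of_left_le_normalizer_right _ _ hn).subset hx
  have hIR : I ≤ R := by
    intro x hx
    rw [hI] at hx
    obtain ⟨a, ha, z, hz, rfl⟩ := hQsplit x hx.1
    refine mul_mem ha.2 (hCR (mem_sup_left ?_))
    rw [hZI]
    exact ⟨hz, by simpa using mul_mem (inv_mem (hQ'T (hRle ha.2))) hx.2⟩
  have hReq : R = I ⊔ W := le_antisymm hRle (sup_le hIR (le_sup_right.trans hCR))
  subst hReq
  have hQI : Q = I ⊔ Z := by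
    refine le_antisymm ?_ (sup_le (hI ▸ inf_le_left) hZQ)
    intro x hx
    obtain ⟨a, ha, z, hz, rfl⟩ := hQsplit x hx
    exact mul_mem (mem_sup_left (hI ▸ ⟨ha.1, hQ'T ha.2⟩)) (mem_sup_right hz)
  -- commutativity
  have hZab : Z ≤ centralizer (Z : Set P) := by
    have h := centralizer_le (show (Z : Set P) ⊆ Q from hZQ)
    rwa [← hZ] at h
  have hAab : ZI ⊔ W ≤ centralizer ((ZI ⊔ W : Subgroup P) : Set P) := by
    rw [← hCQ']
    exact Subgroup.le_centralizer_iff.mp ((centralizer_le hCle))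
  -- the orders
  obtain ⟨X, hX⟩ : ∃ X, X = Z ⊓ W := ⟨_, rfl⟩
  have hXeq : ZI ⊓ W = X := by
    rw [hX, hZI, inf_assoc, inf_eq_right.mpr hWT]
  have hd : Nat.card Z * Nat.card X = Nat.card ZI * Nat.card W := by
    have h1 := card_sup_comm hAab (le_sup_left : ZI ≤ ZI ⊔ W) le_sup_right
    rw [hXeq] at h1
    rw [← h1, hZ, (CL.minimal_card_eq hQ hR).2, hCQ']
  obtain ⟨E, hE⟩ : ∃ E, E = Cfsg.omegaOne p Z := ⟨_, rfl⟩
  obtain ⟨V, hV⟩ : ∃ V, V = Cfsg.omegaOne p W := ⟨_, rfl⟩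
  obtain ⟨EI, hEI⟩ : ∃ EI, EI = E ⊓ T₀ := ⟨_, rfl⟩
  have hWab : W ≤ centralizer (W : Set P) := hCW.symm ▸ hWT
  have hEmem : ∀ x, x ∈ E → x ∈ Z ∧ x ^ p = 1 := fun x hx => mem_omega_of_comm hZab (hE ▸ hx)
  have hVmem : ∀ x, x ∈ V → x ∈ W ∧ x ^ p = 1 := fun x hx => mem_omega_of_comm hWab (hV ▸ hx)
  have hEZ : E ≤ Z := fun x hx => (hEmem x hx).1
  have hVW : V ≤ W := fun x hx => (hVmem x hx).1
  have hEIZ : EI ≤ ZI := by rw [hEI, hZI]; exact inf_le_inf_right _ hEZ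
  have hVXW : V ⊔ X = W := by
    refine le_antisymm (sup_le hVW (hX ▸ inf_le_right)) fun w hw => ?_
    obtain ⟨c, hc, v, hv, hvp, rfl⟩ := hsplit w hw
    refine mul_mem (mem_sup_right ?_) (mem_sup_left (hV ▸ subset_closure ⟨hv, hvp⟩))
    rw [hX, hZ]
    exact ⟨mem_centralizer_iff.mpr fun q _ => mem_center_iff.mp hc q,
      by simpa using mul_mem hw (inv_mem hv)⟩
  have hVX : EI ⊓ V = V ⊓ X := by
    ext x
    simp only [mem_inf]
    constructor
    · rintro ⟨h1, h2⟩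
      exact ⟨h2, hX ▸ ⟨hEZ (hEI ▸ h1 : x ∈ E ⊓ T₀).1, hVW h2⟩⟩
    · rintro ⟨h1, h2⟩
      rw [hX] at h2
      exact ⟨hEI ▸ ⟨hE ▸ subset_closure ⟨h2.1, (hVmem x h1).2⟩, hWT h2.2⟩, h1⟩
  have c1 := card_sup_comm hWab hVW (hX ▸ inf_le_right : X ≤ W)
  rw [hVXW] at c1
  have c2 := card_sup_comm hAab (hEIZ.trans le_sup_left) (hVW.trans le_sup_right)
  rw [hVX] at c2
  have hEZI : E ⊓ ZI = EI := by
    rw [hEI, hZI, ← inf_assoc, inf_eq_left.mpr hEZ]
  have hZIZ : ZI ≤ Z := hZI ▸ inf_le_left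
  have c3 := card_sup_comm hZab hEZ hZIZ
  rw [hEZI] at c3
  have hs : Nat.card ↥(EI ⊔ V) * Nat.card ZI = Nat.card EI * Nat.card Z := by
    have hpos : 0 < Nat.card ↥(V ⊓ X) * Nat.card X := Nat.mul_pos Nat.card_pos Nat.card_pos
    refine Nat.eq_of_mul_eq_mul_right hpos ?_
    calc Nat.card ↥(EI ⊔ V) * Nat.card ZI * (Nat.card ↥(V ⊓ X) * Nat.card X)
        = (Nat.card ↥(EI ⊔ V) * Nat.card ↥(V ⊓ X)) * (Nat.card ZI * Nat.card X) := by ring
      _ = (Nat.card EI * Nat.card V) * (Nat.card ZI * Nat.card X) := by rw [c2]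
      _ = Nat.card EI * Nat.card ZI * (Nat.card V * Nat.card X) := by ring
      _ = Nat.card EI * Nat.card ZI * (Nat.card W * Nat.card ↥(V ⊓ X)) := by rw [c1]
      _ = Nat.card EI * (Nat.card ZI * Nat.card W) * Nat.card ↥(V ⊓ X) := by ring
      _ = Nat.card EI * (Nat.card Z * Nat.card X) * Nat.card ↥(V ⊓ X) := by rw [hd]
      _ = _ := by ring
  have hsub : EI ⊔ V ≤ Cfsg.omegaOne p (ZI ⊔ W) := by
    refine sup_le (fun x hx => subset_closure ⟨mem_sup_left (hEIZ hx), ?_⟩)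
      (fun x hx => subset_closure ⟨mem_sup_right (hVW hx), (hVmem x hx).2⟩)
    exact (hEmem x (hEI ▸ hx : x ∈ E ⊓ T₀).1).2
  have hom : Cfsg.omegaOneCenter p Q = E := by
    rw [Cfsg.omegaOneCenter, ← hZ, inf_eq_right.mpr hZQ, hE]
  have hom' : Cfsg.omegaOneCenter p (I ⊔ W) = Cfsg.omegaOne p (ZI ⊔ W) := by
    rw [Cfsg.omegaOneCenter, inf_eq_right.mpr hCle, hCQ']
  have hle3 : Nat.card ↥(E ⊔ ZI) ≤ Nat.card Z := card_le_of_le (sup_le hEZ hZIZ)
  have hcs := card_le_of_le hsub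
  have hEle : Nat.card E ≤ Nat.card ↥(EI ⊔ V) := by
    refine Nat.le_of_mul_le_mul_right ?_ (Nat.card_pos : 0 < Nat.card ZI)
    rw [hs, ← c3, mul_comm (Nat.card EI)]
    exact Nat.mul_le_mul_right _ hle3
  refine ⟨I ⊔ W, hR, hQ'T, by rw [hom, hom']; exact hEle.trans hcs, fun hle => ?_⟩
  rw [hom, hom'] at hle
  have hsupeq : E ⊔ ZI = Z := by
    refine eq_of_le_of_card_ge (sup_le hEZ hZIZ) ?_
    refine Nat.le_of_mul_le_mul_right ?_ (Nat.card_pos : 0 < Nat.card EI)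
    rw [c3, mul_comm (Nat.card Z), ← hs]
    exact Nat.mul_le_mul_right _ (hcs.trans hle)
  have hQE : Q = I ⊔ E := by
    refine le_antisymm ?_ (sup_le (hI ▸ inf_le_left) (hEZ.trans hZQ))
    intro x hx
    rw [hQI, ← hsupeq] at hx
    exact (sup_le le_sup_left (sup_le le_sup_right (hZIQ.trans le_sup_left)) : I ⊔ (E ⊔ ZI) ≤ I ⊔ E) hx
  -- Frattini subgroups
  obtain ⟨N, hN⟩ : ∃ N : Subgroup ↥Q, N = ((frattini ↥(I ⊔ W : Subgroup P)).map (I ⊔ W).subtype).subgroupOf Q := ⟨_, rfl⟩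
  have hcomm : commutator ↥Q ≤ N := by
    intro x hx
    rw [hN, mem_subgroupOf]
    have h1 : (x : P) ∈ ⁅Q, Q⁆ := by
      have h := mem_map_of_mem Q.subtype hx
      rwa [Subgroup.map_subtype_commutator] at h
    have h2 := CL.minimal_commutator_le hQ hR h1
    rw [← Subgroup.map_subtype_commutator] at h2
    exact map_mono (Grp.pGroup_commutator_le_frattini (hP.to_subgroup _)) h2
  haveI : N.Normal := ⟨fun x hx g => by
    have h : g * x * g⁻¹ * x⁻¹ ∈ N :=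
      hcomm (commutator_mem_commutator (mem_top g) (mem_top x))
    simpa [mul_assoc] using mul_mem h hx⟩
  have hpow : ∀ x : ↥Q, x ^ p ∈ N := by
    rintro ⟨x, hx⟩
    rw [hN, mem_subgroupOf]
    have hn2 : I ≤ normalizer (E : Set P) := by
      refine ((hI ▸ inf_le_left : I ≤ Q).trans (Subgroup.le_centralizer_iff.mp ?_)).trans (centralizer_le_normalizer _)
      rw [← hZ]; exact hEZ
    have hx' : x ∈ I ⊔ E := hQE ▸ hx
    obtain ⟨i, hi, e, he, rfl⟩ := (Subgroup.coe_mul_of_left_le_normalizer_right _ _ hn2).subset hx'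
    have hc : Commute i e := by
      have h := (hEmem e he).1
      rw [hZ] at h
      exact mem_centralizer_iff.mp h i (hI ▸ hi : i ∈ Q ⊓ T₀).1
    show ((i * e) ^ p : P) ∈ _
    rw [hc.mul_pow, (hEmem e he).2, mul_one]
    exact ⟨_, Grp.pGroup_pow_mem_frattini (hP.to_subgroup _) ⟨i, mem_sup_left hi⟩, rfl⟩
  rintro _ ⟨x, hx, rfl⟩
  have := Grp.frattini_le_of_elementary hp.out hcomm hpow hx
  rw [hN, mem_subgroupOf] at this
  exact this

end PGroup

section Main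

variable {G : Type u} [Group G] [Finite G] {p : ℕ} [hp : Fact p.Prime]

/-- An element centralised by `S` and by a conjugate of `S` outside the maximal subgroup is central. -/
theorem mem_center_of_conj (S : Sylow p G) {M : Subgroup G} (hnn : normalizer (M : Set G) = M)
    (huniq : ∀ M' : Subgroup G, IsCoatom M' ∧ (S : Subgroup G) ≤ M' → M' = M) {w x : G} (hw : w ∉ M)
    (h1 : ∀ s ∈ (S : Subgroup G), s * x = x * s)
    (h2 : ∀ s ∈ (S : Subgroup G), w * s * w⁻¹ * x = x * (w * s * w⁻¹)) : x ∈ center G := by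
  obtain ⟨N, hN⟩ : ∃ N, N = centralizer ({x} : Set G) := ⟨_, rfl⟩
  have h1' : (S : Subgroup G) ≤ N := fun s hs => by
    rw [hN, mem_centralizer_singleton_iff]
    exact h1 s hs
  have h2' : (S : Subgroup G).map (MulAut.conj w).toMonoidHom ≤ N := by
    rintro _ ⟨s, hs, rfl⟩
    rw [hN, mem_centralizer_singleton_iff]
    exact h2 s hs
  have htop : N = ⊤ := by
    by_contra hne'
    obtain ⟨M', hM', hle⟩ := (eq_top_or_exists_le_coatom N).resolve_left hne'
    obtain rfl := huniq M' ⟨hM', h1'.trans hle⟩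
    have hback : IsCoatom (M'.map (MulAut.conj w⁻¹).toMonoidHom) ∧
        (S : Subgroup G) ≤ M'.map (MulAut.conj w⁻¹).toMonoidHom :=
      ⟨((MulAut.conj w⁻¹).mapSubgroup.isCoatom_iff M').mpr hM',
        fun s hs => ⟨_, hle (h2' ⟨s, hs, rfl⟩), by simp [mul_assoc]⟩⟩
    refine hw (inv_mem_iff.mp ?_)
    rw [← hnn]
    exact mem_normalizer_fintype fun a ha => (huniq _ hback).le ⟨a, ha, by simp⟩
  rw [Subgroup.mem_center_iff]
  intro g
  exact mem_centralizer_singleton_iff.mp (hN ▸ htop.ge (mem_top g))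

/-- `Z(T) = Z(S) Ω₁(Z(T))` for the `p`-core `T`. -/
theorem omega_split (S : Sylow p G) (hE₂ : ∃! M : Subgroup G, IsCoatom M ∧ (S : Subgroup G) ≤ M)
    {F : Type} [Field F] [Fintype F] [CharP F p] {n : ℕ} (hF : Fintype.card F = p ^ n) (K : Subgroup G) [K.Normal]
    (e : G ⧸ K ≃* Matrix.ProjectiveSpecialLinearGroup (Fin 2) F) {W C : Subgroup G} [W.Normal]
    (hW : IsPGroup p W) (hWab : W ≤ centralizer (W : Set G)) (hCW : C ≤ W)
    (hCS : C ≤ centralizer ((S : Subgroup G) : Set G)) (hne : ¬ C ≤ center G)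
    (hle : Nat.card W ≤ Nat.card ((S : Subgroup G).map (QuotientGroup.mk' K)) * Nat.card C) :
    ∀ w ∈ W, ∃ c ∈ C, ∃ v ∈ W, v ^ p = 1 ∧ w = c * v := by
  classical
  obtain ⟨π, hπ⟩ : ∃ π, π = QuotientGroup.mk' K := ⟨_, rfl⟩
  rw [← hπ] at hle
  have hcomm : ∀ a ∈ W, ∀ b ∈ W, Commute a b := fun a ha b hb => mem_centralizer_iff.mp (hWab hb) a ha
  obtain ⟨V, hVdef⟩ : ∃ V, V = Cfsg.omegaOne p W := ⟨_, rfl⟩
  have hVmem : ∀ x, x ∈ V ↔ x ∈ W ∧ x ^ p = 1 := fun x =>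
    ⟨fun h => mem_omega_of_comm hWab (hVdef ▸ h), fun h => hVdef ▸ subset_closure h⟩
  haveI hVn : V.Normal := ⟨fun x hx g => by
    rw [hVmem] at hx ⊢
    exact ⟨(inferInstance : W.Normal).conj_mem x hx.1 g, by rw [conj_pow, hx.2]; group⟩⟩
  have hVW : V ≤ W := fun x hx => ((hVmem x).mp hx).1
  obtain ⟨M, ⟨hM, hSM⟩, huniq⟩ := id hE₂
  obtain ⟨-, hnn, ⟨f, hf⟩, hcardS⟩ := PushCL.exists_cosets S hM hSM huniq K e
  rw [← hπ] at hcardS
  by_cases hcent : C ⊓ V ≤ center G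
  · exfalso
    -- an element of `C` which is central only after taking the `p`-th power
    have hex : ∃ x ∈ C, x ∉ center G ∧ x ^ p ∈ center G := by
      obtain ⟨y, hy, hy'⟩ := SetLike.not_le_iff_exists.mp hne
      obtain ⟨k, hk⟩ := hW ⟨y, hCW hy⟩
      have hk' : y ^ (p ^ k) ∈ center G := by
        have h := congrArg Subtype.val hk
        rw [Subgroup.coe_pow] at h
        rw [show y ^ (p ^ k) = 1 from h]
        exact one_mem _
      clear hk
      induction k with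
      | zero => rw [pow_zero, pow_one] at hk'; exact absurd hk' hy'
      | succ k ih =>
        by_cases h : y ^ (p ^ k) ∈ center G
        · exact ih h
        · exact ⟨_, pow_mem hy _, h, by rwa [← pow_mul, ← pow_succ]⟩
    obtain ⟨x, hxC, hxc, hxp⟩ := hex
    obtain ⟨v, hv⟩ : ∃ v : Option F → G, ∀ i, v i = x⁻¹ * (f i * x * (f i)⁻¹) := ⟨_, fun i => rfl⟩
    have hyW : ∀ i, f i * x * (f i)⁻¹ ∈ W := fun i => (inferInstance : W.Normal).conj_mem x (hCW hxC) _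
    have hvV : ∀ i, v i ∈ V := fun i => by
      rw [hVmem, hv]
      refine ⟨mul_mem (inv_mem (hCW hxC)) (hyW i), ?_⟩
      rw [(hcomm _ (inv_mem (hCW hxC)) _ (hyW i)).mul_pow, conj_pow, inv_pow,
        Subgroup.mem_center_iff.mp hxp (f i)]
      group
    have hinj : Function.Injective (fun i : Option F => ((⟨v i, hVW (hvV i)⟩ : W) : W ⧸ C.subgroupOf W)) := by
      intro i j h
      by_contra hij
      have h' : (v i)⁻¹ * v j ∈ C := mem_subgroupOf.mp (QuotientGroup.eq.mp h)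
      have h'' : (v i)⁻¹ * v j ∈ V := mul_mem (inv_mem (hvV i)) (hvV j)
      have hc : (v i)⁻¹ * v j ∈ center G := hcent ⟨h', h''⟩
      obtain ⟨w, hw⟩ : ∃ w, w = (f i)⁻¹ * f j := ⟨_, rfl⟩
      obtain ⟨c, hcdef⟩ : ∃ c, c = (v i)⁻¹ * v j := ⟨_, rfl⟩
      rw [← hcdef] at hc
      have hwx : w * x * w⁻¹ = x * c := by
        have h1 : f j * x * (f j)⁻¹ = (f i * x * (f i)⁻¹) * c := by rw [hcdef, hv, hv]; group
        calc w * x * w⁻¹ = (f i)⁻¹ * (f j * x * (f j)⁻¹) * f i := by rw [hw]; group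
          _ = (f i)⁻¹ * ((f i * x * (f i)⁻¹) * c) * f i := by rw [h1]
          _ = x * ((f i)⁻¹ * (c * f i)) := by group
          _ = x * ((f i)⁻¹ * (f i * c)) := by rw [Subgroup.mem_center_iff.mp hc (f i)]
          _ = x * c := by group
      refine hxc (mem_center_of_conj S hnn huniq (hw ▸ hf i j hij) (fun s hs => mem_centralizer_iff.mp (hCS hxC) s hs)
        fun s hs => ?_)
      have h3 := mem_centralizer_iff.mp (hCS hxC) s hs
      have h4 : x = w * x * w⁻¹ * c⁻¹ := by rw [hwx]; group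
      have h5 : c⁻¹ * (w * s * w⁻¹) = w * s * w⁻¹ * c⁻¹ := (Subgroup.mem_center_iff.mp (inv_mem hc) _).symm
      calc w * s * w⁻¹ * x = w * s * w⁻¹ * (w * x * w⁻¹ * c⁻¹) := by rw [← h4]
        _ = w * (s * x) * w⁻¹ * c⁻¹ := by group
        _ = w * (x * s) * w⁻¹ * c⁻¹ := by rw [h3]
        _ = w * x * w⁻¹ * (w * s * w⁻¹ * c⁻¹) := by group
        _ = w * x * w⁻¹ * (c⁻¹ * (w * s * w⁻¹)) := by rw [h5]
        _ = w * x * w⁻¹ * c⁻¹ * (w * s * w⁻¹) := by group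
        _ = x * (w * s * w⁻¹) := by rw [← h4]
    have h := Nat.card_le_card_of_injective _ hinj
    rw [Nat.card_eq_fintype_card (α := Option F), Fintype.card_option] at h
    have hi := Subgroup.card_eq_card_quotient_mul_card_subgroup (C.subgroupOf W)
    rw [Nat.card_congr (subgroupOfEquivOfLe hCW).toEquiv] at hi
    have h2 : Nat.card (W ⧸ C.subgroupOf W) ≤ Fintype.card F := by
      refine le_trans (Nat.le_of_mul_le_mul_right ?_ (Nat.card_pos : 0 < Nat.card C)) hcardS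
      rw [← hi]; exact hle
    omega
  · intro w hw
    have hCV : C ⊓ V ≤ centralizer ((S : Subgroup G) : Set G) := inf_le_left.trans hCS
    have hb := PushCL.center_bound S hE₂ hF K e (hW.to_le hVW) (inf_le_right : C ⊓ V ≤ V) hCV hcent
    rw [← hπ] at hb
    have hsup : C ⊔ V = W := by
      refine eq_of_le_of_card_ge (sup_le hCW hVW) ?_
      refine Nat.le_of_mul_le_mul_right ?_ (Nat.card_pos : 0 < Nat.card ↥(C ⊓ V))
      rw [card_sup_comm hWab hCW hVW]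
      calc Nat.card W * Nat.card ↥(C ⊓ V) ≤ Nat.card ((S : Subgroup G).map π) * Nat.card C * Nat.card ↥(C ⊓ V) :=
            Nat.mul_le_mul_right _ hle
        _ = Nat.card C * (Nat.card ((S : Subgroup G).map π) * Nat.card ↥(C ⊓ V)) := by ring
        _ ≤ _ := Nat.mul_le_mul_left _ hb
    rw [← hsup] at hw
    have hn : C ≤ normalizer (V : Set G) := by rw [normalizer_eq_top_iff.mpr hVn]; exact le_top
    obtain ⟨c, hc, v, hv, rfl⟩ := (Subgroup.coe_mul_of_left_le_normalizer_right _ _ hn).subset hw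
    exact ⟨c, hc, v, hVW hv, ((hVmem v).mp hv).2, rfl⟩

theorem omegaOneCenter_map {A : Type*} [Group A] {B : Type*} [Group B] (f : A →* B) (hf : Function.Injective f)
    (H : Subgroup A) : Cfsg.omegaOneCenter p (H.map f) = (Cfsg.omegaOneCenter p H).map f := by
  unfold Cfsg.omegaOneCenter Cfsg.omegaOne
  rw [MonoidHom.map_closure]
  congr 1
  ext x
  constructor
  · rintro ⟨⟨⟨a, ha, rfl⟩, hc⟩, hp'⟩
    refine ⟨a, ⟨⟨ha, mem_centralizer_iff.mpr fun b hb => hf ?_⟩, hf (by rw [map_pow, hp', map_one])⟩, rfl⟩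
    rw [map_mul, map_mul]
    exact mem_centralizer_iff.mp hc (f b) ⟨b, hb, rfl⟩
  · rintro ⟨a, ⟨⟨ha, hc⟩, hp'⟩, rfl⟩
    refine ⟨⟨⟨a, ha, rfl⟩, mem_centralizer_iff.mpr ?_⟩, by rw [← map_pow, hp', map_one]⟩
    rintro _ ⟨b, hb, rfl⟩
    rw [← map_mul, ← map_mul, mem_centralizer_iff.mp hc b hb]

theorem sSup_attained {P : Type*} [Group P] [Finite P] :
    ∃ Q : Subgroup P, Cfsg.IsMinimalCentrallyLarge Q ∧
      Nat.card ↥(Cfsg.omegaOneCenter p Q) = Cfsg.maxOmegaCenterOfMinimalCL p P := by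
  have hne : {k : ℕ | ∃ Q : Subgroup P, Cfsg.IsMinimalCentrallyLarge Q ∧ Nat.card ↥(Cfsg.omegaOneCenter p Q) = k}.Nonempty := by
    obtain ⟨Q, hQ⟩ := CL.exists_centrallyLarge P
    obtain ⟨R, -, hR⟩ := CL.exists_minimal_le hQ
    exact ⟨_, R, hR, rfl⟩
  exact Nat.sSup_mem hne ⟨Nat.card P, by rintro _ ⟨Q, -, rfl⟩; exact Subgroup.card_le_card_group _⟩

theorem le_maxOmega {P : Type*} [Group P] [Finite P] {Q : Subgroup P} (hQ : Cfsg.IsMinimalCentrallyLarge Q) :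
    Nat.card ↥(Cfsg.omegaOneCenter p Q) ≤ Cfsg.maxOmegaCenterOfMinimalCL p P :=
  le_csSup ⟨Nat.card P, by rintro _ ⟨R, -, rfl⟩; exact Subgroup.card_le_card_group _⟩ ⟨Q, hQ, rfl⟩

/-- `Z(S)` or the Frattini join is normal. -/
theorem center_or_frattini_normal (S : Sylow p G) (hE₁ : centralizer (Cfsg.pCore p G : Set G) ≤ Cfsg.pCore p G)
    (hE₂ : ∃! M : Subgroup G, IsCoatom M ∧ (S : Subgroup G) ≤ M)
    {F : Type} [Field F] [Fintype F] {n : ℕ} (hF : Fintype.card F = p ^ n) (K : Subgroup G) [K.Normal]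
    (e : G ⧸ K ≃* Matrix.ProjectiveSpecialLinearGroup (Fin 2) F)
    (hJ : (S : Subgroup G) ≤ centralizer (Cfsg.centerThompsonAOf (S : Subgroup G) : Set G)) :
    ((S : Subgroup G) ⊓ centralizer ((S : Subgroup G) : Set G)).Normal ∨
      ((Cfsg.frattiniOfMinimalCLJoin p ↥(S : Subgroup G)).map (S : Subgroup G).subtype).Normal := by
  obtain ⟨ZS, hZS⟩ : ∃ ZS, ZS = (S : Subgroup G) ⊓ centralizer ((S : Subgroup G) : Set G) := ⟨_, rfl⟩
  rw [← hZS]
  by_cases hne : ZS ≤ center G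
  · exact Or.inl (PushUnique.normal_of_le_center hne)
  right
  haveI := Nat2.charP_of_card (F := F) hF
  obtain ⟨hTcl, hWle⟩ := PushCL.core_centrallyLarge S hE₁ hE₂ hF K e hJ (hZS ▸ hne)
  obtain ⟨T, hT⟩ : ∃ T, T = Cfsg.pCore p G := ⟨_, rfl⟩
  rw [← hT] at hE₁ hTcl hWle
  rw [← hZS] at hWle
  haveI hTn : T.Normal := hT ▸ Grp.pCore_isNormal
  have hTS : T ≤ (S : Subgroup G) := hT ▸ Grp.pCore_le_sylow S
  obtain ⟨W, hW⟩ : ∃ W, W = T ⊓ centralizer (T : Set G) := ⟨_, rfl⟩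
  rw [← hW] at hWle
  have hCn := PushUnique.centralizer_normal' T
  haveI hWn : W.Normal := hW ▸ ⟨fun x hx g => ⟨hTn.conj_mem x hx.1 g, hCn.conj_mem x hx.2 g⟩⟩
  have hZ1 : ∀ z ∈ ZS, z ∈ centralizer ((S : Subgroup G) : Set G) := fun z hz => by
    rw [hZS] at hz; exact hz.2
  have hZW : ZS ≤ W := fun z hz => by
    rw [hW]; exact ⟨hE₁ (centralizer_le hTS (hZ1 z hz)), centralizer_le hTS (hZ1 z hz)⟩
  have hWab : W ≤ centralizer (W : Set G) := by
    rw [hW]; exact inf_le_right.trans (centralizer_le inf_le_left)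
  have hWp : IsPGroup p W := S.isPGroup'.to_le ((hW ▸ inf_le_left : W ≤ T).trans hTS)
  have hsplit := omega_split S hE₂ hF K e hWp hWab hZW hZ1 hne hWle
  have hmemW : ∀ x : ↥(S : Subgroup G), x ∈ centralizer ((T.subgroupOf (S : Subgroup G)) : Set ↥(S : Subgroup G)) ↔
      (x : G) ∈ W := by
    intro x
    rw [hW]
    constructor
    · intro hx
      have h : (x : G) ∈ centralizer (T : Set G) := mem_centralizer_iff.mpr fun t ht =>
        congrArg Subtype.val (mem_centralizer_iff.mp hx ⟨t, hTS ht⟩ (mem_subgroupOf.mpr ht))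
      exact ⟨hE₁ h, h⟩
    · rintro ⟨-, hx⟩
      exact mem_centralizer_iff.mpr fun t ht => Subtype.ext (mem_centralizer_iff.mp hx (t : G) ht)
  have hsplit' : ∀ w ∈ centralizer ((T.subgroupOf (S : Subgroup G)) : Set ↥(S : Subgroup G)),
      ∃ c ∈ center ↥(S : Subgroup G), ∃ v ∈ centralizer ((T.subgroupOf (S : Subgroup G)) : Set ↥(S : Subgroup G)),
        v ^ p = 1 ∧ w = c * v := by
    intro w hw
    obtain ⟨c, hc, v, hv, hvp, hwe⟩ := hsplit _ ((hmemW w).mp hw)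
    have hcS : c ∈ (S : Subgroup G) := (hZS ▸ hc : c ∈ (S : Subgroup G) ⊓ centralizer ((S : Subgroup G) : Set G)).1
    have hvS : v ∈ (S : Subgroup G) := hTS ((hW ▸ hv : v ∈ T ⊓ centralizer (T : Set G)).1)
    refine ⟨⟨c, hcS⟩, mem_center_iff.mpr fun s => Subtype.ext (mem_centralizer_iff.mp (hZ1 c hc) (s : G) s.2),
      ⟨v, hvS⟩, (hmemW _).mpr hv, Subtype.ext hvp, Subtype.ext hwe⟩
  refine ⟨fun x hx g => ?_⟩
  have hle : (Cfsg.frattiniOfMinimalCLJoin p ↥(S : Subgroup G)).map (S : Subgroup G).subtype ≤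
      ((Cfsg.frattiniOfMinimalCLJoin p ↥(S : Subgroup G)).map (S : Subgroup G).subtype).comap (MulAut.conj g).toMonoidHom := by
    rw [Subgroup.map_le_iff_le_comap]
    refine iSup_le ?_
    rintro ⟨Q, hQ, hQmax⟩
    obtain ⟨Q', hQ', hQ'T, hom, hfr⟩ := replacement S.isPGroup' hTcl hsplit' hQ
    have hQ'max : Nat.card ↥(Cfsg.omegaOneCenter p Q') = Cfsg.maxOmegaCenterOfMinimalCL p ↥(S : Subgroup G) :=
      le_antisymm (le_maxOmega hQ') (hQmax ▸ hom)
    refine (hfr (by rw [hQ'max, hQmax])).trans ?_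
    have hQ'T' : Q'.map (S : Subgroup G).subtype ≤ T := by
      rintro _ ⟨a, ha, rfl⟩
      exact mem_subgroupOf.mp (hQ'T ha)
    obtain ⟨R, hR, he⟩ := PushCL.exists_conj_minimal hTS hQ' hQ'T' g
    have hRmax : Nat.card ↥(Cfsg.omegaOneCenter p R) = Cfsg.maxOmegaCenterOfMinimalCL p ↥(S : Subgroup G) := by
      rw [← hQ'max, ← card_map_of_injective (K := Cfsg.omegaOneCenter p R) (S : Subgroup G).subtype_injective,
        ← omegaOneCenter_map _ (S : Subgroup G).subtype_injective, he, omegaOneCenter_map _ (MulAut.conj g).injective,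
        card_map_of_injective (MulAut.conj g).injective, omegaOneCenter_map _ (S : Subgroup G).subtype_injective,
        card_map_of_injective (S : Subgroup G).subtype_injective]
    let φ : ↥Q' ≃* ↥R := (Q'.equivMapOfInjective _ (S : Subgroup G).subtype_injective).trans
      (((MulAut.conj g).subgroupMap _).trans ((MulEquiv.subgroupCongr he.symm).trans
        (R.equivMapOfInjective _ (S : Subgroup G).subtype_injective).symm))
    have hφ : ∀ a : ↥Q', ((φ a : ↥(S : Subgroup G)) : G) = g * ((a : ↥(S : Subgroup G)) : G) * g⁻¹ := by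
      intro a
      have h := congrArg Subtype.val ((R.equivMapOfInjective _ (S : Subgroup G).subtype_injective).apply_symm_apply
        (((Q'.equivMapOfInjective _ (S : Subgroup G).subtype_injective).trans
          (((MulAut.conj g).subgroupMap _).trans (MulEquiv.subgroupCongr he.symm))) a))
      exact h
    rintro _ ⟨a, ha, rfl⟩
    have h1 : φ a ∈ frattini ↥R := frattini_le_comap_frattini_of_surjective (φ := φ.toMonoidHom) φ.surjective ha
    have h2 : (φ a : ↥(S : Subgroup G)) ∈ Cfsg.frattiniOfMinimalCLJoin p ↥(S : Subgroup G) :=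
      le_iSup (fun Q : {Q : Subgroup ↥(S : Subgroup G) // Cfsg.IsMinimalCentrallyLarge Q ∧
          Nat.card ↥(Cfsg.omegaOneCenter p Q) = Cfsg.maxOmegaCenterOfMinimalCL p ↥(S : Subgroup G)} =>
        (frattini ↥(Q : Subgroup ↥(S : Subgroup G))).map (Q : Subgroup ↥(S : Subgroup G)).subtype)
        ⟨R, hR, hRmax⟩ ⟨φ a, h1, rfl⟩
    exact ⟨_, h2, hφ a⟩
  exact hle hx

end Main

/-- The statement on the Frattini join. -/
theorem main {G : Type u} [Group G] [Finite G] {p : ℕ} [Fact p.Prime] (S : Subgroup G)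
    (hE : Cfsg.IsPushingUpSituation p S) (hJ : S ≤ centralizer (Cfsg.centerThompsonAOf S : Set G)) :
    ((S ⊓ centralizer (S : Set G)).Normal ∨ ((Cfsg.frattiniOfMinimalCLJoin p ↥S).map S.subtype).Normal) ∧
      (Cfsg.frattiniOfMinimalCLJoin p ↥S = ⊥ →
        (∀ Q : Subgroup ↥S, Cfsg.IsMinimalCentrallyLarge Q ↔ Q ∈ Cfsg.maxAbelianSubgroups ↥S) ∧
          ∃ A ∈ Cfsg.maxAbelianSubgroups ↥S, Cfsg.IsElementaryAbelian p A) := by
  obtain ⟨-, ⟨P, rfl⟩, hE₁, hE₂, K, hK, F, hF, hFi, n, hn, ⟨e⟩⟩ := hE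
  refine ⟨center_or_frattini_normal P hE₁ hE₂ hn K e hJ, fun hbot => ?_⟩
  obtain ⟨Q, hQ, hmax⟩ := sSup_attained (p := p) (P := ↥(P : Subgroup G))
  have hfr : frattini ↥Q = ⊥ := by
    refine (map_eq_bot_iff_of_injective _ Q.subtype_injective).mp (le_bot_iff.mp (hbot ▸ ?_))
    exact le_iSup (fun Q : {Q : Subgroup ↥(P : Subgroup G) // Cfsg.IsMinimalCentrallyLarge Q ∧
        Nat.card ↥(Cfsg.omegaOneCenter p Q) = Cfsg.maxOmegaCenterOfMinimalCL p ↥(P : Subgroup G)} =>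
      (frattini ↥(Q : Subgroup ↥(P : Subgroup G))).map (Q : Subgroup ↥(P : Subgroup G)).subtype) ⟨Q, hQ, hmax⟩
  have hPQ : IsPGroup p ↥Q := P.isPGroup'.to_subgroup Q
  have hab : IsMulCommutative ↥Q := by
    have h := le_bot_iff.mp (hfr ▸ Grp.pGroup_commutator_le_frattini hPQ)
    exact ⟨⟨fun a b => commutatorElement_eq_one_iff_mul_comm.mp (mem_bot.mp (h ▸ commutator_mem_commutator (mem_top a) (mem_top b)))⟩⟩
  refine ⟨CL.minimal_abelian_iff hQ hab, Q, (CL.minimal_abelian_iff hQ hab Q).mp hQ, hab, fun x hx => ?_⟩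
  have h := Grp.pGroup_pow_mem_frattini hPQ ⟨x, hx⟩
  rw [hfr, mem_bot] at h
  exact congrArg Subtype.val h

end Cfsg.Agent.Invol.PushCLF
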