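import Cfsg.Agent.Lib.Spor.PSLThreeFour
import Cfsg.Agent.Lib.Spor.M21Psl
import Cfsg.Agent.Lib.Spor.L34Cover
import Cfsg.Agent.Lib.Classical.SLNormal
import Cfsg.Prelude.Def_CaseTheorems
import Cfsg.Prelude.Def_Transfer

/-!
The two parabolic subgroups of a two-cover of `PSL(3,4)`: their radicals are elementary abelian and
they split over them.
-/

set_option autoImplicit false
set_option linter.style.haveILetI false
set_option linter.unusedSectionVars false

open scoped commutatorElement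

namespace Cfsg.Agent.Invol.L34Par

open Matrix Cfsg.Agent.Spor Cfsg.Agent.Spor.SU32

local notation "M3" => Matrix (Fin 3) (Fin 3) F4
local notation "S" => Matrix.SpecialLinearGroup (Fin 3) F4
local notation "S2" => Matrix.SpecialLinearGroup (Fin 2) F4
local notation "PS" => Matrix.ProjectiveSpecialLinearGroup (Fin 3) F4
local notation "π" => L34Elem.π

/-- Unitriangular elements. -/
def uni (a c b : F4) : S :=
  ⟨!![1, a, b; 0, 1, c; 0, 0, 1], by simp [Matrix.det_fin_three]⟩

theorem uni_coe (a c b : F4) : (uni a c b : M3) = !![1, a, b; 0, 1, c; 0, 0, 1] := rfl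

theorem uni_mul (a c b a' c' b' : F4) :
    uni a c b * uni a' c' b' = uni (a + a') (c + c') (b + b' + a * c') := by
  refine Subtype.ext (Matrix.ext fun i j => ?_)
  fin_cases i <;> fin_cases j <;>
    simp [uni_coe, Matrix.SpecialLinearGroup.coe_mul, Matrix.mul_apply, Fin.sum_univ_three] <;> ring_nf

theorem uni_zero : uni 0 0 0 = 1 := by
  refine Subtype.ext (Matrix.ext fun i j => ?_)
  fin_cases i <;> fin_cases j <;> simp [uni_coe]

theorem self_add : ∀ a : F4, a + a = 0 := by decide +kernel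

theorem uni_inv (a c b : F4) : (uni a c b)⁻¹ = uni a c (b + a * c) := by
  refine inv_eq_of_mul_eq_one_right ?_
  rw [uni_mul, self_add, self_add, ← uni_zero]
  congr 1
  rw [← add_assoc, self_add, zero_add, self_add]

theorem π_uni_eq_one {a c b : F4} (h : π (uni a c b) = 1) : a = 0 ∧ c = 0 ∧ b = 0 := by
  obtain ⟨r, -, hr⟩ := L34Elem.center_scalar (L34Elem.π_eq_one.1 h)
  have e := fun i j => congrFun (congrFun hr i) j
  exact ⟨by simpa [uni_coe] using e 0 1, by simpa [uni_coe] using e 1 2, by simpa [uni_coe] using e 0 2⟩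

theorem π_uni_inj {a c b a' c' b' : F4} (h : π (uni a c b) = π (uni a' c' b')) :
    a = a' ∧ c = c' ∧ b = b' := by
  have h1 : π (uni a c b * (uni a' c' b')⁻¹) = 1 := by rw [map_mul, map_inv, h, mul_inv_cancel]
  rw [uni_inv, uni_mul] at h1
  obtain ⟨ha, hc, hb⟩ := π_uni_eq_one h1
  have key : ∀ x y : F4, x + y = 0 → x = y := by decide +kernel
  obtain rfl := key _ _ ha
  obtain rfl := key _ _ hc
  exact ⟨rfl, rfl, key _ _ (by rw [add_assoc, add_assoc, self_add, add_zero] at hb; exact hb)⟩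

/-- The image of the upper unitriangular group. -/
def U0 : Subgroup PS where
  carrier := {x | ∃ a c b, π (uni a c b) = x}
  one_mem' := ⟨0, 0, 0, by rw [uni_zero, map_one]⟩
  mul_mem' := by
    rintro _ _ ⟨a, c, b, rfl⟩ ⟨a', c', b', rfl⟩
    exact ⟨_, _, _, by rw [← map_mul, uni_mul]⟩
  inv_mem' := by
    rintro _ ⟨a, c, b, rfl⟩
    exact ⟨_, _, _, by rw [← map_inv, uni_inv]⟩

/-- The radical of the stabiliser of a line. -/
def H0 : Subgroup PS where
  carrier := {x | ∃ a b, π (uni a 0 b) = x}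
  one_mem' := ⟨0, 0, by rw [uni_zero, map_one]⟩
  mul_mem' := by
    rintro _ _ ⟨a, b, rfl⟩ ⟨a', b', rfl⟩
    exact ⟨a + a', b + b', by rw [← map_mul, uni_mul, mul_zero, add_zero, add_zero]⟩
  inv_mem' := by
    rintro _ ⟨a, b, rfl⟩
    exact ⟨a, b, by rw [← map_inv, uni_inv, mul_zero, add_zero]⟩

/-- The radical of the stabiliser of a point. -/
def K0 : Subgroup PS where
  carrier := {x | ∃ c b, π (uni 0 c b) = x}
  one_mem' := ⟨0, 0, by rw [uni_zero, map_one]⟩
  mul_mem' := by
    rintro _ _ ⟨c, b, rfl⟩ ⟨c', b', rfl⟩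
    exact ⟨c + c', b + b', by rw [← map_mul, uni_mul, zero_mul, add_zero, add_zero]⟩
  inv_mem' := by
    rintro _ ⟨c, b, rfl⟩
    exact ⟨c, b, by rw [← map_inv, uni_inv, zero_mul, add_zero]⟩

theorem H0_le : H0 ≤ U0 := by rintro _ ⟨a, b, rfl⟩; exact ⟨a, 0, b, rfl⟩

theorem K0_le : K0 ≤ U0 := by rintro _ ⟨c, b, rfl⟩; exact ⟨0, c, b, rfl⟩

theorem natCard_H0 : Nat.card H0 = 16 := by
  have h : Function.Bijective (fun p : F4 × F4 => (⟨π (uni p.1 0 p.2), _, _, rfl⟩ : H0)) := by
    refine ⟨fun p q h => ?_, ?_⟩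
    · obtain ⟨h1, -, h2⟩ := π_uni_inj (congrArg Subtype.val h)
      exact Prod.ext h1 h2
    · rintro ⟨_, a, b, rfl⟩; exact ⟨(a, b), rfl⟩
  rw [← Nat.card_eq_of_bijective _ h, Nat.card_eq_fintype_card, Fintype.card_prod, card_F4]

theorem natCard_K0 : Nat.card K0 = 16 := by
  have h : Function.Bijective (fun p : F4 × F4 => (⟨π (uni 0 p.1 p.2), _, _, rfl⟩ : K0)) := by
    refine ⟨fun p q h => ?_, ?_⟩
    · obtain ⟨-, h1, h2⟩ := π_uni_inj (congrArg Subtype.val h)
      exact Prod.ext h1 h2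
    · rintro ⟨_, a, b, rfl⟩; exact ⟨(a, b), rfl⟩
  rw [← Nat.card_eq_of_bijective _ h, Nat.card_eq_fintype_card, Fintype.card_prod, card_F4]

theorem natCard_U0 : Nat.card U0 = 64 := by
  have h : Function.Bijective (fun p : F4 × F4 × F4 => (⟨π (uni p.1 p.2.1 p.2.2), _, _, _, rfl⟩ : U0)) := by
    refine ⟨fun p q h => ?_, ?_⟩
    · obtain ⟨h1, h2, h3⟩ := π_uni_inj (congrArg Subtype.val h)
      exact Prod.ext h1 (Prod.ext h2 h3)
    · rintro ⟨_, a, c, b, rfl⟩; exact ⟨(a, c, b), rfl⟩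
  rw [← Nat.card_eq_of_bijective _ h, Nat.card_eq_fintype_card, Fintype.card_prod, Fintype.card_prod, card_F4]

/-- An elementary abelian subgroup of order 16 of the unitriangular group is one of the radicals. -/
theorem eq_H0_or_K0 {A : Subgroup PS} (hA : A ≤ U0) (hsq : ∀ x ∈ A, x * x = 1) (hcard : Nat.card A = 16) :
    A = H0 ∨ A = K0 := by
  have hor : ∀ x ∈ A, x ∈ H0 ∨ x ∈ K0 := by
    intro x hx
    obtain ⟨a, c, b, rfl⟩ := hA hx
    have h := hsq _ hx
    rw [← map_mul, uni_mul, self_add, self_add, self_add, zero_add] at h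
    rcases mul_eq_zero.1 (π_uni_eq_one h).2.2 with rfl | rfl
    · exact Or.inr ⟨c, b, rfl⟩
    · exact Or.inl ⟨a, b, rfl⟩
  have hle : A ≤ H0 ∨ A ≤ K0 := by
    by_contra hc
    simp only [SetLike.le_def, not_or, not_forall] at hc
    obtain ⟨⟨x, hx, hx'⟩, y, hy, hy'⟩ := hc
    rcases hor _ (mul_mem hx hy) with h | h
    · exact hx' ((mul_mem_cancel_right ((hor y hy).resolve_right hy')).1 h)
    · exact hy' ((mul_mem_cancel_left ((hor x hx).resolve_left hx')).1 h)
  rcases hle with h | h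
  · exact Or.inl (Subgroup.eq_of_le_of_card_ge h (by rw [natCard_H0, hcard]))
  · exact Or.inr (Subgroup.eq_of_le_of_card_ge h (by rw [natCard_K0, hcard]))

theorem exists_U0_sylow : ∃ P : Sylow 2 PS, (P : Subgroup PS) = U0 := by
  haveI : Fact (Nat.Prime 2) := ⟨Nat.prime_two⟩
  refine ⟨Sylow.ofCard U0 ?_, rfl⟩
  rw [natCard_U0, M21.natCard_psl card_F4, show 20160 = 2 ^ 6 * 315 by norm_num,
    Nat.factorization_mul (by norm_num) (by norm_num), Finsupp.add_apply,
    Nat.factorization_eq_zero_of_not_dvd (n := 315) (by norm_num), Nat.prime_two.factorization_pow,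
    Finsupp.single_eq_same]
  rfl

/-- `diag(1, g)`. -/
def blk : S2 →* S where
  toFun g := ⟨!![1, 0, 0; 0, g 0 0, g 0 1; 0, g 1 0, g 1 1], by
    have := g.2
    rw [Matrix.det_fin_two] at this
    simp [Matrix.det_fin_three]
    linear_combination this⟩
  map_one' := by refine Subtype.ext (Matrix.ext fun i j => ?_); fin_cases i <;> fin_cases j <;> simp
  map_mul' g h := by
    refine Subtype.ext (Eq.trans (Matrix.ext fun i j => ?_) (Matrix.SpecialLinearGroup.coe_mul _ _).symm)
    fin_cases i <;> fin_cases j <;>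
      simp [Matrix.SpecialLinearGroup.coe_mul, Matrix.mul_apply, Fin.sum_univ_three, Fin.sum_univ_two]

/-- `diag(g, 1)`. -/
def blk2 : S2 →* S where
  toFun g := ⟨!![g 0 0, g 0 1, 0; g 1 0, g 1 1, 0; 0, 0, 1], by
    have := g.2
    rw [Matrix.det_fin_two] at this
    simp [Matrix.det_fin_three]
    linear_combination this⟩
  map_one' := by refine Subtype.ext (Matrix.ext fun i j => ?_); fin_cases i <;> fin_cases j <;> simp
  map_mul' g h := by
    refine Subtype.ext (Eq.trans (Matrix.ext fun i j => ?_) (Matrix.SpecialLinearGroup.coe_mul _ _).symm)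
    fin_cases i <;> fin_cases j <;>
      simp [Matrix.SpecialLinearGroup.coe_mul, Matrix.mul_apply, Fin.sum_univ_three, Fin.sum_univ_two]

theorem blk_coe (g : S2) : (blk g : M3) = !![1, 0, 0; 0, g 0 0, g 0 1; 0, g 1 0, g 1 1] := rfl

theorem blk2_coe (g : S2) : (blk2 g : M3) = !![g 0 0, g 0 1, 0; g 1 0, g 1 1, 0; 0, 0, 1] := rfl

theorem blk_uni (g : S2) (a b : F4) :
    blk g * uni a 0 b = uni (a * g 1 1 + b * g 1 0) 0 (a * g 0 1 + b * g 0 0) * blk g := by
  have hdet := g.2
  rw [Matrix.det_fin_two] at hdet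
  have key : ∀ a b p q r t : F4, p * t - q * r = 1 →
      a = (a * t + b * r) * p + (a * q + b * p) * r ∧ b = (a * t + b * r) * q + (a * q + b * p) * t := by
    decide +kernel
  obtain ⟨k1, k2⟩ := key a b _ _ _ _ hdet
  refine Subtype.ext (Matrix.ext fun i j => ?_)
  fin_cases i <;> fin_cases j <;>
    simp [blk_coe, Matrix.SpecialLinearGroup.coe_mul, uni_coe, Matrix.SpecialLinearGroup.coe_mul, Matrix.mul_apply, Fin.sum_univ_three] <;> assumption

theorem blk2_uni (g : S2) (c b : F4) :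
    blk2 g * uni 0 c b = uni 0 (g 1 0 * b + g 1 1 * c) (g 0 0 * b + g 0 1 * c) * blk2 g := by
  refine Subtype.ext (Matrix.ext fun i j => ?_)
  fin_cases i <;> fin_cases j <;> simp [blk2_coe, Matrix.SpecialLinearGroup.coe_mul, uni_coe, Matrix.SpecialLinearGroup.coe_mul, Matrix.mul_apply, Fin.sum_univ_three]

theorem range_blk_le : ((π).comp blk).range ≤ Subgroup.normalizer (H0 : Set PS) := by
  have hc : ∀ (g : S2) (x : PS), x ∈ H0 → π (blk g) * x * (π (blk g))⁻¹ ∈ H0 := by
    rintro g _ ⟨a, b, rfl⟩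
    refine ⟨a * g 1 1 + b * g 1 0, a * g 0 1 + b * g 0 0, ?_⟩
    rw [← map_mul, blk_uni, map_mul, mul_inv_cancel_right]
  rintro _ ⟨g, rfl⟩
  refine Subgroup.mem_set_normalizer_iff.2 fun x => ⟨hc g x, fun hx => ?_⟩
  have := hc g⁻¹ _ hx
  simpa [mul_assoc] using this

theorem range_blk2_le : ((π).comp blk2).range ≤ Subgroup.normalizer (K0 : Set PS) := by
  have hc : ∀ (g : S2) (x : PS), x ∈ K0 → π (blk2 g) * x * (π (blk2 g))⁻¹ ∈ K0 := by
    rintro g _ ⟨a, b, rfl⟩
    refine ⟨g 1 0 * b + g 1 1 * a, g 0 0 * b + g 0 1 * a, ?_⟩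
    rw [← map_mul, blk2_uni, map_mul, mul_inv_cancel_right]
  rintro _ ⟨g, rfl⟩
  refine Subgroup.mem_set_normalizer_iff.2 fun x => ⟨hc g x, fun hx => ?_⟩
  have := hc g⁻¹ _ hx
  simpa [mul_assoc] using this

theorem range_blk_inf : ((π).comp blk).range ⊓ H0 = ⊥ ∧ Function.Injective ((π).comp blk) := by
  have key : ∀ g a b, π (blk g) = π (uni a 0 b) → g = 1 := by
    intro g a b h
    have h1 : π ((uni a 0 b)⁻¹ * blk g) = 1 := by rw [map_mul, map_inv, h, inv_mul_cancel]
    obtain ⟨r, -, hr⟩ := L34Elem.center_scalar (L34Elem.π_eq_one.1 h1)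
    rw [uni_inv, mul_zero, add_zero, Matrix.SpecialLinearGroup.coe_mul] at hr
    have e := fun i j => congrFun (congrFun hr i) j
    obtain rfl : r = 1 := by simpa [uni_coe, Matrix.SpecialLinearGroup.coe_mul, blk_coe, Matrix.SpecialLinearGroup.coe_mul, Matrix.mul_apply, Fin.sum_univ_three] using (e 0 0).symm
    refine Subtype.ext (Matrix.ext fun i j => ?_)
    fin_cases i <;> fin_cases j
    · simpa [uni_coe, Matrix.SpecialLinearGroup.coe_mul, blk_coe, Matrix.SpecialLinearGroup.coe_mul, Matrix.mul_apply, Fin.sum_univ_three] using e 1 1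
    · simpa [uni_coe, Matrix.SpecialLinearGroup.coe_mul, blk_coe, Matrix.SpecialLinearGroup.coe_mul, Matrix.mul_apply, Fin.sum_univ_three] using e 1 2
    · simpa [uni_coe, Matrix.SpecialLinearGroup.coe_mul, blk_coe, Matrix.SpecialLinearGroup.coe_mul, Matrix.mul_apply, Fin.sum_univ_three] using e 2 1
    · simpa [uni_coe, Matrix.SpecialLinearGroup.coe_mul, blk_coe, Matrix.SpecialLinearGroup.coe_mul, Matrix.mul_apply, Fin.sum_univ_three] using e 2 2
  refine ⟨eq_bot_iff.2 ?_, (injective_iff_map_eq_one _).2 fun g hg => key g 0 0 (hg.trans (by rw [uni_zero, map_one]))⟩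
  rintro _ ⟨⟨g, rfl⟩, a, b, h⟩
  rw [key g a b h.symm, map_one]
  exact one_mem _

theorem range_blk2_inf : ((π).comp blk2).range ⊓ K0 = ⊥ ∧ Function.Injective ((π).comp blk2) := by
  have key : ∀ g a b, π (blk2 g) = π (uni 0 a b) → g = 1 := by
    intro g a b h
    have h1 : π (blk2 g * (uni 0 a b)⁻¹) = 1 := by rw [map_mul, map_inv, h, mul_inv_cancel]
    obtain ⟨r, -, hr⟩ := L34Elem.center_scalar (L34Elem.π_eq_one.1 h1)
    rw [uni_inv, zero_mul, add_zero, Matrix.SpecialLinearGroup.coe_mul] at hr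
    have e := fun i j => congrFun (congrFun hr i) j
    obtain rfl : r = 1 := by simpa [uni_coe, Matrix.SpecialLinearGroup.coe_mul, blk2_coe, Matrix.SpecialLinearGroup.coe_mul, Matrix.mul_apply, Fin.sum_univ_three] using (e 2 2).symm
    refine Subtype.ext (Matrix.ext fun i j => ?_)
    fin_cases i <;> fin_cases j
    · simpa [uni_coe, Matrix.SpecialLinearGroup.coe_mul, blk2_coe, Matrix.SpecialLinearGroup.coe_mul, Matrix.mul_apply, Fin.sum_univ_three] using e 0 0
    · simpa [uni_coe, Matrix.SpecialLinearGroup.coe_mul, blk2_coe, Matrix.SpecialLinearGroup.coe_mul, Matrix.mul_apply, Fin.sum_univ_three] using e 0 1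
    · simpa [uni_coe, Matrix.SpecialLinearGroup.coe_mul, blk2_coe, Matrix.SpecialLinearGroup.coe_mul, Matrix.mul_apply, Fin.sum_univ_three] using e 1 0
    · simpa [uni_coe, Matrix.SpecialLinearGroup.coe_mul, blk2_coe, Matrix.SpecialLinearGroup.coe_mul, Matrix.mul_apply, Fin.sum_univ_three] using e 1 1
  refine ⟨eq_bot_iff.2 ?_, (injective_iff_map_eq_one _).2 fun g hg => key g 0 0 (hg.trans (by rw [uni_zero, map_one]))⟩
  rintro _ ⟨⟨g, rfl⟩, a, b, h⟩
  rw [key g a b h.symm, map_one]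
  exact one_mem _

/-- A lift of a normalizing element commutes with involutions up to the radical. -/
theorem conj_exact {A M M' : S} (hM : M * M = 1) (hM' : M' * M' = 1) (h : π A * π M * (π A)⁻¹ = π M') :
    A * M = M' * A := by
  have hz : M'⁻¹ * (A * M * A⁻¹) ∈ Subgroup.center S :=
    L34Elem.π_eq_one.1 (by rw [map_mul, map_inv, map_mul, map_mul, map_inv, h, inv_mul_cancel])
  generalize hz' : M'⁻¹ * (A * M * A⁻¹) = z at hz
  have h2 : z * z = 1 := by
    have hzc := Subgroup.mem_center_iff.1 hz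
    have e : A * M * A⁻¹ = M' * z := by rw [← hz', mul_inv_cancel_left]
    have e2 : A * M * A⁻¹ * (A * M * A⁻¹) = 1 := by
      rw [show A * M * A⁻¹ * (A * M * A⁻¹) = A * (M * M) * A⁻¹ by group, hM, mul_one, mul_inv_cancel]
    rw [e] at e2
    calc z * z = M' * z * (M' * z) := by
          rw [show M' * z * (M' * z) = M' * (z * M') * z by group, ← hzc M', ← mul_assoc M' M' z, hM',
            one_mul]
      _ = 1 := e2
  have h3 := L34Elem.center_cube hz
  rw [pow_three, h2, mul_one] at h3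
  rw [h3] at hz'
  exact mul_inv_eq_iff_eq_mul.1 (inv_mul_eq_one.1 hz').symm

theorem scal_cube : ∀ c : F4, c ≠ 0 → c ^ 3 = 1 := L34Elem.cube_of_ne

/-- Scalar matrices with cube one. -/
def scal (c : F4) (hc : c ≠ 0) : S :=
  ⟨c • (1 : M3), by rw [Matrix.det_smul, Matrix.det_one, mul_one, Fintype.card_fin, scal_cube c hc]⟩

theorem scal_coe (c : F4) (hc : c ≠ 0) : (scal c hc : M3) = c • (1 : M3) := rfl

theorem π_scal (c : F4) (hc : c ≠ 0) : π (scal c hc) = 1 :=
  L34Elem.π_eq_one.2 (L34Elem.center_mem (c := c) rfl)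

theorem normalizer_H0_le : Subgroup.normalizer (H0 : Set PS) ≤ H0 ⊔ ((π).comp blk).range := by
  intro n hn
  obtain ⟨A, rfl⟩ := QuotientGroup.mk'_surjective _ n
  have col : ∀ p q : F4, ∀ i : Fin 3, i ≠ 0 → A i 0 * p = 0 ∧ A i 0 * q = 0 := by
    intro p q i hi
    obtain ⟨a, b, hab⟩ := (Subgroup.mem_set_normalizer_iff.1 hn _).1 (⟨p, q, rfl⟩ : π (uni p 0 q) ∈ H0)
    have sq : ∀ a b : F4, uni a 0 b * uni a 0 b = 1 := fun a b => by
      rw [uni_mul, self_add, self_add, self_add, mul_zero, add_zero, uni_zero]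
    have e := conj_exact (sq p q) (sq a b) hab.symm
    have e' := fun j => congrFun (congrFun (congrArg Subtype.val e) i) j
    fin_cases i
    · exact absurd rfl hi
    · exact ⟨by simpa [uni_coe, Matrix.SpecialLinearGroup.coe_mul, Matrix.mul_apply, Fin.sum_univ_three] using e' 1,
        by simpa [uni_coe, Matrix.SpecialLinearGroup.coe_mul, Matrix.mul_apply, Fin.sum_univ_three] using e' 2⟩
    · exact ⟨by simpa [uni_coe, Matrix.SpecialLinearGroup.coe_mul, Matrix.mul_apply, Fin.sum_univ_three] using e' 1,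
        by simpa [uni_coe, Matrix.SpecialLinearGroup.coe_mul, Matrix.mul_apply, Fin.sum_univ_three] using e' 2⟩
  have h10 : A 1 0 = 0 := by simpa using (col 1 0 1 (by decide)).1
  have h20 : A 2 0 = 0 := by simpa using (col 1 0 2 (by decide)).1
  have hdet := A.2
  rw [Matrix.det_fin_three, h10, h20] at hdet
  simp only [mul_zero, zero_mul, add_zero, sub_zero] at hdet
  have h00 : A 0 0 ≠ 0 := fun h => by rw [h] at hdet; simp at hdet
  have hinv : ∀ c : F4, c ≠ 0 → c * (c * c) = 1 := by decide +kernel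
  set c := A 0 0 * A 0 0 with hc
  have hc0 : c ≠ 0 := mul_ne_zero h00 h00
  let G : S2 := ⟨!![c * A 1 1, c * A 1 2; c * A 2 1, c * A 2 2], by
    have hk := hinv _ h00
    rw [Matrix.det_fin_two_of, hc]
    linear_combination hdet + (A 0 0 * (A 1 1 * A 2 2 - A 1 2 * A 2 1)) * hk⟩
  have e : scal c hc0 * A = blk G * uni (c * A 0 1) 0 (c * A 0 2) := by
    have hk : c * A 0 0 = 1 := by rw [hc, mul_assoc]; exact hinv _ h00
    refine Subtype.ext ?_
    rw [Matrix.SpecialLinearGroup.coe_mul, Matrix.SpecialLinearGroup.coe_mul, blk_coe, uni_coe, scal_coe]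
    ext i j
    fin_cases i <;> fin_cases j <;>
      simp [G, Matrix.mul_apply, Fin.sum_univ_three, h10, h20, hk]
  have : π A = π (blk G) * π (uni (c * A 0 1) 0 (c * A 0 2)) := by
    rw [← map_mul, ← e, map_mul, π_scal, one_mul]
  rw [this]
  exact mul_mem (Subgroup.mem_sup_right ⟨G, rfl⟩) (Subgroup.mem_sup_left ⟨_, _, rfl⟩)

theorem normalizer_K0_le : Subgroup.normalizer (K0 : Set PS) ≤ K0 ⊔ ((π).comp blk2).range := by
  intro n hn
  obtain ⟨A, rfl⟩ := QuotientGroup.mk'_surjective _ n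
  have row : ∀ p q : F4, A 2 0 * q + A 2 1 * p = 0 := by
    intro p q
    obtain ⟨a, b, hab⟩ := (Subgroup.mem_set_normalizer_iff.1 hn _).1 (⟨p, q, rfl⟩ : π (uni 0 p q) ∈ K0)
    have sq : ∀ a b : F4, uni 0 a b * uni 0 a b = 1 := fun a b => by
      rw [uni_mul, self_add, self_add, self_add, zero_mul, add_zero, uni_zero]
    have e := conj_exact (sq p q) (sq a b) hab.symm
    have e' := congrFun (congrFun (congrArg Subtype.val e) 2) 2
    simpa [uni_coe, Matrix.SpecialLinearGroup.coe_mul, Matrix.mul_apply, Fin.sum_univ_three] using e'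
  have h20 : A 2 0 = 0 := by simpa using row 0 1
  have h21 : A 2 1 = 0 := by simpa using row 1 0
  have hdet := A.2
  rw [Matrix.det_fin_three, h20, h21] at hdet
  simp only [mul_zero, add_zero, sub_zero] at hdet
  have h22 : A 2 2 ≠ 0 := fun h => by rw [h] at hdet; simp at hdet
  have hinv : ∀ c : F4, c ≠ 0 → c * (c * c) = 1 := by decide +kernel
  set c := A 2 2 * A 2 2 with hc
  have hc0 : c ≠ 0 := mul_ne_zero h22 h22
  let G : S2 := ⟨!![c * A 0 0, c * A 0 1; c * A 1 0, c * A 1 1], by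
    have hk := hinv _ h22
    rw [Matrix.det_fin_two_of, hc]
    linear_combination hdet + (A 2 2 * (A 0 0 * A 1 1 - A 0 1 * A 1 0)) * hk⟩
  have e : scal c hc0 * A = uni 0 (c * A 1 2) (c * A 0 2) * blk2 G := by
    have hk : c * A 2 2 = 1 := by rw [hc, mul_assoc]; exact hinv _ h22
    refine Subtype.ext ?_
    rw [Matrix.SpecialLinearGroup.coe_mul, Matrix.SpecialLinearGroup.coe_mul, blk2_coe, uni_coe, scal_coe]
    ext i j
    fin_cases i <;> fin_cases j <;>
      simp [G, Matrix.mul_apply, Fin.sum_univ_three, h20, h21, hk]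
  have : π A = π (uni 0 (c * A 1 2) (c * A 0 2)) * π (blk2 G) := by
    rw [← map_mul, ← e, map_mul, π_scal, one_mul]
  rw [this]
  exact mul_mem (Subgroup.mem_sup_left ⟨_, _, rfl⟩) (Subgroup.mem_sup_right ⟨G, rfl⟩)

section Cover

variable {X : Type*} [Group X] [Finite X] (φ : X →* PS) (hφ : Function.Surjective φ)
  (hker : φ.ker ≤ Subgroup.center X) (hel : ∀ z ∈ φ.ker, z * z = 1)
include hφ hker hel

theorem π_uni_tau (a c : F4) :
    π (uni a 0 0) = L34.tau (show (0 : Fin 3) ≠ 1 by decide) a ∧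
      π (uni 0 0 c) = L34.tau (show (0 : Fin 3) ≠ 2 by decide) c ∧
      π (uni 0 c 0) = L34.tau (show (1 : Fin 3) ≠ 2 by decide) c := by
  refine ⟨congrArg π (Subtype.ext (Matrix.ext fun i j => ?_)),
    congrArg π (Subtype.ext (Matrix.ext fun i j => ?_)), congrArg π (Subtype.ext (Matrix.ext fun i j => ?_))⟩ <;>
    fin_cases i <;> fin_cases j <;>
    simp [uni_coe, Matrix.SpecialLinearGroup.coe_mul, Matrix.SpecialLinearGroup.transvection_coe, Matrix.transvection, Matrix.single_apply]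

theorem sq_of_prod {x p q : X} (h : φ x = φ (p * q)) (hpq : Commute p q) (hp : p * p = 1) (hq : q * q = 1) :
    x * x = 1 := by
  obtain ⟨z, hz, rfl⟩ := L34.central_of_eq φ hker h
  have hzk : z ∈ φ.ker := by
    rw [MonoidHom.mem_ker]
    exact mul_eq_right.1 (show φ z * φ (p * q) = φ (p * q) by rw [← map_mul]; exact h)
  have hzc := Subgroup.mem_center_iff.1 hz (p * q)
  rw [show z * (p * q) * (z * (p * q)) = z * ((p * q) * z) * (p * q) by group, hzc,
    show z * (z * (p * q)) * (p * q) = (z * z) * ((p * q) * (p * q)) by group, hel z hzk, one_mul,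
    hpq.symm.mul_mul_mul_comm, hp, hq, one_mul]

theorem sq_H0 {x : X} (hx : φ x ∈ H0) : x * x = 1 := by
  obtain ⟨a, b, hab⟩ := hx
  obtain ⟨p, hp⟩ := hφ (π (uni a 0 0))
  obtain ⟨q, hq⟩ := hφ (π (uni 0 0 b))
  refine sq_of_prod φ hφ hker hel (p := p) (q := q) ?_ ?_
    (L34.sq_eq_one φ hφ hker hel card_F4 _ (hp.trans (π_uni_tau φ hφ hker hel a b).1))
    (L34.sq_eq_one φ hφ hker hel card_F4 _ (hq.trans (π_uni_tau φ hφ hker hel a b).2.1))
  · rw [map_mul, hp, hq, ← map_mul, uni_mul]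
    simp only [zero_add, mul_zero, add_zero, hab]
  · exact L34.comm_row φ hφ hker hel card_F4 (i := 0) (j := 2) (k := 1) _ _ (by decide)
      (hp.trans (π_uni_tau φ hφ hker hel a b).1) (hq.trans (π_uni_tau φ hφ hker hel a b).2.1)

theorem sq_K0 {x : X} (hx : φ x ∈ K0) : x * x = 1 := by
  obtain ⟨c, b, hab⟩ := hx
  obtain ⟨p, hp⟩ := hφ (π (uni 0 c 0))
  obtain ⟨q, hq⟩ := hφ (π (uni 0 0 b))
  refine sq_of_prod φ hφ hker hel (p := p) (q := q) ?_ ?_
    (L34.sq_eq_one φ hφ hker hel card_F4 _ (hp.trans (π_uni_tau φ hφ hker hel 0 c).2.2))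
    (L34.sq_eq_one φ hφ hker hel card_F4 _ (hq.trans (π_uni_tau φ hφ hker hel 0 b).2.1))
  · rw [map_mul, hp, hq, ← map_mul, uni_mul]
    simp only [zero_add, zero_mul, add_zero, hab]
  · exact L34.comm_col φ hφ hker hel card_F4 (i := 0) (j := 2) (k := 1) _ (by decide) _
      (hp.trans (π_uni_tau φ hφ hker hel 0 c).2.2) (hq.trans (π_uni_tau φ hφ hker hel 0 b).2.1)

theorem inf_eq_center :
    H0.comap φ ⊓ K0.comap φ =
      (Subgroup.center ↥(H0.comap φ ⊔ K0.comap φ)).map (H0.comap φ ⊔ K0.comap φ).subtype := by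
  have comm : ∀ (W : Subgroup X), (∀ w ∈ W, w * w = 1) → ∀ a ∈ W, ∀ b ∈ W, a * b = b * a := by
    intro W hW a ha b hb
    have i1 : ∀ w ∈ W, w⁻¹ = w := fun w hw => inv_eq_of_mul_eq_one_right (hW w hw)
    conv_lhs => rw [← i1 _ (mul_mem ha hb), _root_.mul_inv_rev, i1 a ha, i1 b hb]
  apply le_antisymm
  · rintro z ⟨hzH, hzK⟩
    refine ⟨⟨z, Subgroup.mem_sup_left hzH⟩, Subgroup.mem_center_iff.2 fun g => Subtype.ext ?_, rfl⟩
    show (g : X) * z = z * g
    have : H0.comap φ ⊔ K0.comap φ ≤ Subgroup.centralizer {z} := sup_le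
      (fun a ha => Subgroup.mem_centralizer_singleton_iff.2
        (comm _ (fun w hw => sq_H0 φ hφ hker hel hw) a ha z hzH))
      (fun a ha => Subgroup.mem_centralizer_singleton_iff.2
        (comm _ (fun w hw => sq_K0 φ hφ hker hel hw) a ha z hzK))
    exact Subgroup.mem_centralizer_singleton_iff.1 (this g.2)
  · rintro _ ⟨⟨z, hz⟩, hzc, rfl⟩
    have hU : φ z ∈ U0 := by
      have : H0.comap φ ⊔ K0.comap φ ≤ U0.comap φ :=
        sup_le (Subgroup.comap_mono H0_le) (Subgroup.comap_mono K0_le)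
      exact this hz
    obtain ⟨a, c, b, habc⟩ := hU
    obtain ⟨p, hp⟩ := hφ (π (uni 1 0 0))
    obtain ⟨q, hq⟩ := hφ (π (uni 0 1 0))
    have h1 := congrArg φ (congrArg Subtype.val
      (Subgroup.mem_center_iff.1 hzc ⟨p, Subgroup.mem_sup_left (show φ p ∈ H0 from hp ▸ ⟨1, 0, rfl⟩)⟩))
    have h2 := congrArg φ (congrArg Subtype.val
      (Subgroup.mem_center_iff.1 hzc ⟨q, Subgroup.mem_sup_right (show φ q ∈ K0 from hq ▸ ⟨1, 0, rfl⟩)⟩))
    simp only [Subgroup.coe_mul, map_mul, hp, hq, ← habc] at h1 h2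
    rw [← map_mul, ← map_mul, uni_mul, uni_mul] at h1 h2
    have e1 := (π_uni_inj h1).2.2
    have e2 := (π_uni_inj h2).2.2
    have hc : c = 0 := by simpa using e1
    have ha : a = 0 := by simpa using e2
    subst hc ha
    exact ⟨⟨0, b, habc⟩, ⟨0, b, habc⟩⟩

/-- Splitting over a radical, given the projection of a complement. -/
theorem exists_complement (ψ : S2 →* PS) (hψ : Function.Injective ψ) (W : Subgroup PS)
    (hle : ψ.range ≤ Subgroup.normalizer (W : Set PS)) (hsup : Subgroup.normalizer (W : Set PS) ≤ W ⊔ ψ.range)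
    (hinf : ψ.range ⊓ W = ⊥)
    (htr : ∀ a : F4, ∀ x, φ x = ψ (Matrix.SpecialLinearGroup.transvection (show (0 : Fin 2) ≠ 1 by decide) a) →
      x * x = 1) :
    ∃ C : Subgroup X, C ≤ Subgroup.normalizer ((W.comap φ : Subgroup X) : Set X) ∧ C ⊓ W.comap φ = ⊥ ∧
      W.comap φ ⊔ C = Subgroup.normalizer ((W.comap φ : Subgroup X) : Set X) ∧ Nonempty (↥C ≃* S2) := by
  classical
  haveI : Fact (Nat.Prime 2) := ⟨Nat.prime_two⟩
  have hperf : commutator S2 = ⊤ :=
    Classical.SL_commutator_eq_top fun _ => Classical.exists_sq_ne_one_field (by rw [card_F4])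
  set D := ψ.range.comap φ with hD
  let θ : ↥D →* S2 := (MonoidHom.ofInjective hψ).symm.toMonoidHom.comp
    ((φ.comp D.subtype).codRestrict ψ.range fun d => d.2)
  have hθ : ∀ d : D, ψ (θ d) = φ d := fun d => by
    have h := (MonoidHom.ofInjective hψ).apply_symm_apply ((φ.comp D.subtype).codRestrict ψ.range (fun d => d.2) d)
    exact congrArg Subtype.val h
  have hθs : Function.Surjective θ := fun g => by
    obtain ⟨x, hx⟩ := hφ (ψ g)
    exact ⟨⟨x, g, hx.symm⟩, hψ (by rw [hθ]; exact hx)⟩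
  refine ⟨(commutator D).map D.subtype, ?_⟩
  set C := (commutator D).map D.subtype with hC
  have hCφ : C.map φ = ψ.range := by
    have hsub : φ.comp D.subtype = ψ.comp θ := MonoidHom.ext fun d => (hθ d).symm
    have hDθ : (commutator D).map θ = ⊤ := by
      rw [commutator_def, Subgroup.map_commutator, Subgroup.map_top_of_surjective θ hθs, ← commutator_def, hperf]
    rw [hC, Subgroup.map_map, hsub, ← Subgroup.map_map, hDθ, MonoidHom.range_eq_map]
  -- the kernel misses the derived subgroup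
  have hCker : C ⊓ φ.ker = ⊥ := by
    refine eq_bot_iff.2 ?_
    rintro _ ⟨⟨z, hz, rfl⟩, hzk⟩
    let U : Subgroup S2 :=
      { carrier := {g | ∃ a, Matrix.SpecialLinearGroup.transvection (show (0 : Fin 2) ≠ 1 by decide) a = g}
        one_mem' := ⟨0, Subtype.ext (by simp [Matrix.SpecialLinearGroup.transvection_coe])⟩
        mul_mem' := by
          rintro _ _ ⟨a, rfl⟩ ⟨b, rfl⟩
          exact ⟨a + b, Subtype.ext (by
            simp [Matrix.SpecialLinearGroup.transvection_coe, Matrix.transvection, mul_add, add_mul,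
              Matrix.single_mul_single_of_ne, ← Matrix.single_add, add_assoc, add_comm a b])⟩
        inv_mem' := by
          rintro _ ⟨a, rfl⟩
          exact ⟨-a, by rw [Matrix.SpecialLinearGroup.transvection_inv]⟩ }
    have hU : Nat.card U = 4 := by
      have h : Function.Bijective (fun a : F4 => (⟨_, a, rfl⟩ : U)) := by
        refine ⟨fun a b h => ?_, ?_⟩
        · have := congrFun (congrFun (congrArg Subtype.val (congrArg Subtype.val h)) 0) 1
          simpa [Matrix.SpecialLinearGroup.transvection_coe, Matrix.transvection] using this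
        · rintro ⟨_, a, rfl⟩; exact ⟨a, rfl⟩
      rw [← Nat.card_eq_of_bijective _ h, Nat.card_eq_fintype_card, card_F4]
    have hS2 : Nat.card S2 = 60 := by
      have h1 := Classical.natCard_GL_eq_SL_mul (F := F4) 2 (by norm_num)
      rw [Classical.natCard_units_field, Matrix.card_GL_field, card_F4, Fin.prod_univ_two] at h1
      norm_num at h1
      rw [Nat.card_eq_fintype_card]
      omega
    let Q : Subgroup D := U.comap θ
    have hQi : Q.index = 15 := by
      have h := U.card_mul_index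
      rw [hU, hS2] at h
      rw [show Q.index = U.index from Subgroup.index_comap_of_surjective U hθs]
      omega
    have hQ2 : ∀ x : Q, x * x = 1 := by
      rintro ⟨x, a, ha⟩
      exact Subtype.ext (Subtype.ext (htr a x (by rw [← hθ x, ← ha])))
    letI : CommGroup Q := { (inferInstance : Group Q) with
      mul_comm := fun a b => by
        have i1 : ∀ w : Q, w⁻¹ = w := fun w => inv_eq_of_mul_eq_one_right (hQ2 w)
        conv_lhs => rw [← i1 (a * b), _root_.mul_inv_rev, i1 a, i1 b] }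
    have hzc : ∀ g : D, g * z = z * g := fun g => Subtype.ext (Subgroup.mem_center_iff.1 (hker hzk) g)
    have htr1 : MonoidHom.transfer (MonoidHom.id Q) z = 1 := Abelianization.commutator_subset_ker _ hz
    rw [MonoidHom.transfer_eq_pow _ z (fun k g₀ _ => by
      rw [mul_assoc, ← (Commute.pow_right (hzc g₀) k).eq, inv_mul_cancel_left])] at htr1
    have hz15 : z ^ Q.index = 1 := congrArg Subtype.val htr1
    have hz2 : z * z = 1 := Subtype.ext (hel _ hzk)
    rw [hQi, show 15 = 2 * 7 + 1 by norm_num, pow_succ, pow_mul, sq, hz2, one_pow, one_mul] at hz15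
    rw [hz15, map_one]
    exact one_mem _
  have hN : Subgroup.normalizer ((W.comap φ : Subgroup X) : Set X) = (Subgroup.normalizer (W : Set PS)).comap φ :=
    (Subgroup.comap_normalizer_eq_of_surjective W hφ).symm
  have hCle : C ≤ Subgroup.normalizer ((W.comap φ : Subgroup X) : Set X) := by
    rw [hN, ← Subgroup.map_le_iff_le_comap, hCφ]
    exact hle
  have hCW : C ⊓ W.comap φ = ⊥ := by
    refine eq_bot_iff.2 fun x hx => hCker.le ⟨hx.1, ?_⟩
    have : φ x ∈ ψ.range ⊓ W := ⟨hCφ.le ⟨x, hx.1, rfl⟩, hx.2⟩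
    rw [hinf] at this
    exact Subgroup.mem_bot.1 this
  refine ⟨hCle, hCW, le_antisymm (sup_le Subgroup.le_normalizer hCle) ?_, ?_⟩
  · have hkW : φ.ker ≤ W.comap φ ⊔ C :=
      le_sup_of_le_left fun x hx => by rw [Subgroup.mem_comap, hx]; exact one_mem _
    rw [hN, ← Subgroup.comap_map_eq_self hkW, Subgroup.map_sup, Subgroup.map_comap_eq_self_of_surjective hφ, hCφ]
    exact Subgroup.comap_mono hsup
  · let ρ : ↥C →* ↥ψ.range := (φ.comp C.subtype).codRestrict ψ.range fun c => hCφ.le ⟨c, c.2, rfl⟩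
    have hρ : Function.Bijective ρ := by
      constructor
      · refine (injective_iff_map_eq_one ρ).2 fun c hc => Subtype.ext ?_
        exact Subgroup.mem_bot.1 (hCker.le ⟨c.2, congrArg Subtype.val hc⟩)
      · rintro ⟨y, hy⟩
        obtain ⟨c, hc, hcy⟩ := hCφ.ge hy
        exact ⟨⟨c, hc⟩, Subtype.ext hcy⟩
    exact ⟨(MulEquiv.ofBijective ρ hρ).trans (MonoidHom.ofInjective hψ).symm⟩

theorem htr_blk (a : F4) (x : X)
    (h : φ x = π (blk (Matrix.SpecialLinearGroup.transvection (show (0 : Fin 2) ≠ 1 by decide) a))) :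
    x * x = 1 := by
  refine L34.sq_eq_one φ hφ hker hel card_F4 (show (1 : Fin 3) ≠ 2 by decide) (a := a) (h.trans ?_)
  rw [← (π_uni_tau φ hφ hker hel a a).2.2]
  refine congrArg π (Subtype.ext (Matrix.ext fun i j => ?_))
  fin_cases i <;> fin_cases j <;>
    simp [uni_coe, Matrix.SpecialLinearGroup.coe_mul, blk_coe, Matrix.SpecialLinearGroup.coe_mul, Matrix.SpecialLinearGroup.transvection_coe, Matrix.transvection, Matrix.single_apply]

theorem htr_blk2 (a : F4) (x : X)
    (h : φ x = π (blk2 (Matrix.SpecialLinearGroup.transvection (show (0 : Fin 2) ≠ 1 by decide) a))) :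
    x * x = 1 := by
  refine L34.sq_eq_one φ hφ hker hel card_F4 (show (0 : Fin 3) ≠ 1 by decide) (a := a) (h.trans ?_)
  rw [← (π_uni_tau φ hφ hker hel a a).1]
  refine congrArg π (Subtype.ext (Matrix.ext fun i j => ?_))
  fin_cases i <;> fin_cases j <;>
    simp [uni_coe, Matrix.SpecialLinearGroup.coe_mul, blk2_coe, Matrix.SpecialLinearGroup.coe_mul, Matrix.SpecialLinearGroup.transvection_coe, Matrix.transvection, Matrix.single_apply]

end Cover

set_option maxHeartbeats 1000000 in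
/-- `SL(2,4) ≅ PSL(2,F)` for any field with four elements. -/
theorem model_two {F : Type*} [Field F] [Fintype F] (hF : Fintype.card F = 4) :
    Nonempty (S2 ≃* Matrix.ProjectiveSpecialLinearGroup (Fin 2) F) := by
  let e : F ≃+* F4 := FiniteField.ringEquivOfCardEq (hF.trans card_F4.symm)
  let s : S2 ≃* Matrix.SpecialLinearGroup (Fin 2) F :=
    { toFun := Matrix.SpecialLinearGroup.map (e.symm : F4 →+* F)
      invFun := Matrix.SpecialLinearGroup.map (e : F →+* F4)
      left_inv := fun g => Subtype.ext (Matrix.ext fun i j => e.apply_symm_apply _)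
      right_inv := fun g => Subtype.ext (Matrix.ext fun i j => e.symm_apply_apply _)
      map_mul' := map_mul _ }
  have hc : Nat.card (Subgroup.center (Matrix.SpecialLinearGroup (Fin 2) F)) = 1 := by
    rw [Classical.natCard_center_SL, Classical.natCard_units_field, hF]
    rfl
  have hb : Subgroup.center (Matrix.SpecialLinearGroup (Fin 2) F) = ⊥ := Subgroup.card_eq_one.1 hc
  have hm : Function.Bijective (QuotientGroup.mk' (Subgroup.center (Matrix.SpecialLinearGroup (Fin 2) F))) := by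
    refine ⟨?_, QuotientGroup.mk'_surjective _⟩
    rw [← MonoidHom.ker_eq_bot_iff, QuotientGroup.ker_mk', hb]
  exact ⟨s.trans (MulEquiv.ofBijective _ hm)⟩

set_option maxHeartbeats 1000000 in
/-- The statement about a two-cover of `PSL(3,4)`. -/
theorem main {X : Type*} [Group X] [Finite X] (hZ : Cfsg.IsElementaryAbelian 2 (Subgroup.center X))
    {F : Type*} [Field F] [Fintype F] (hF : Fintype.card F = 4)
    (hXL : Nonempty ((X ⧸ Subgroup.center X) ≃* Matrix.ProjectiveSpecialLinearGroup (Fin 3) F))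
    (T : Sylow 2 X) (H K : Subgroup X) (hHK : H ≠ K) (hHT : H ≤ T) (hKT : K ≤ T)
    (hZH : Subgroup.center X ≤ H) (hZK : Subgroup.center X ≤ K)
    (hH : Cfsg.IsElementaryAbelian 2 (H.map (QuotientGroup.mk' (Subgroup.center X))) ∧
      Nat.card ↥(H.map (QuotientGroup.mk' (Subgroup.center X))) = 16)
    (hK : Cfsg.IsElementaryAbelian 2 (K.map (QuotientGroup.mk' (Subgroup.center X))) ∧
      Nat.card ↥(K.map (QuotientGroup.mk' (Subgroup.center X))) = 16) :
    Cfsg.IsElementaryAbelian 2 H ∧ Cfsg.IsElementaryAbelian 2 K ∧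
      H ⊓ K = (Subgroup.center ↥(H ⊔ K)).map (H ⊔ K).subtype ∧
      (∃ C : Subgroup X, C ≤ Subgroup.normalizer (H : Set X) ∧ C ⊓ H = ⊥ ∧ H ⊔ C = Subgroup.normalizer (H : Set X) ∧
        Nonempty (↥C ≃* Matrix.ProjectiveSpecialLinearGroup (Fin 2) F)) ∧
      (∃ C : Subgroup X, C ≤ Subgroup.normalizer (K : Set X) ∧ C ⊓ K = ⊥ ∧ K ⊔ C = Subgroup.normalizer (K : Set X) ∧
        Nonempty (↥C ≃* Matrix.ProjectiveSpecialLinearGroup (Fin 2) F)) := by
  haveI : Fact (Nat.Prime 2) := ⟨Nat.prime_two⟩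
  obtain ⟨e₀⟩ := hXL
  obtain ⟨e₁⟩ := L34Elem.model hF
  obtain ⟨P, hP⟩ := exists_U0_sylow
  let φ₀ : X →* PS := (e₀.trans e₁).toMonoidHom.comp (QuotientGroup.mk' (Subgroup.center X))
  have hφ₀ : Function.Surjective φ₀ := (e₀.trans e₁).surjective.comp (QuotientGroup.mk'_surjective _)
  obtain ⟨g, hg⟩ := MulAction.exists_smul_eq PS (T.mapSurjective hφ₀) P
  let e : (X ⧸ Subgroup.center X) ≃* PS := (e₀.trans e₁).trans (MulAut.conj g)
  let φ : X →* PS := e.toMonoidHom.comp (QuotientGroup.mk' (Subgroup.center X))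
  have hφ : Function.Surjective φ := e.surjective.comp (QuotientGroup.mk'_surjective _)
  have hkereq : φ.ker = Subgroup.center X := by
    ext x
    rw [MonoidHom.mem_ker]
    show e (QuotientGroup.mk x) = 1 ↔ _
    rw [MulEquiv.map_eq_one_iff, QuotientGroup.eq_one_iff]
  have hker : φ.ker ≤ Subgroup.center X := hkereq.le
  have hel : ∀ z ∈ φ.ker, z * z = 1 := fun z hz => by
    rw [← sq]; exact hZ.2 z (hkereq.le hz)
  have hT : (T : Subgroup X).map φ = U0 := by
    rw [← hP, ← hg, Sylow.coe_subgroup_smul, Sylow.coe_mapSurjective]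
    rw [← Subgroup.map_map, ← Subgroup.map_map]
    show (((T : Subgroup X).map (QuotientGroup.mk' (Subgroup.center X))).map e.toMonoidHom) = _
    rw [show e.toMonoidHom = (MulAut.conj g).toMonoidHom.comp (e₀.trans e₁).toMonoidHom from rfl, ← Subgroup.map_map]
    rfl
  have classify : ∀ L : Subgroup X, L ≤ T → Subgroup.center X ≤ L →
      Cfsg.IsElementaryAbelian 2 (L.map (QuotientGroup.mk' (Subgroup.center X))) →
      Nat.card ↥(L.map (QuotientGroup.mk' (Subgroup.center X))) = 16 →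
      L = H0.comap φ ∨ L = K0.comap φ := by
    intro L hLT hZL hel2 hcard
    have hmap : L.map φ = (L.map (QuotientGroup.mk' (Subgroup.center X))).map e.toMonoidHom :=
      (Subgroup.map_map _ _ _).symm
    have hback : (L.map φ).comap φ = L := Subgroup.comap_map_eq_self (hkereq.le.trans hZL)
    rcases eq_H0_or_K0 (A := L.map φ) (hT ▸ Subgroup.map_mono hLT) (by
        rw [hmap]
        rintro _ ⟨y, hy, rfl⟩
        rw [← map_mul, ← sq, hel2.2 y hy, map_one])
      (by rw [hmap, Subgroup.card_map_of_injective e.injective, hcard]) with h | h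
    · exact Or.inl (by rw [← h, hback])
    · exact Or.inr (by rw [← h, hback])
  have elem : ∀ W : Subgroup X, (∀ w ∈ W, w * w = 1) → Cfsg.IsElementaryAbelian 2 W := by
    intro W hW
    refine ⟨⟨⟨fun a b => Subtype.ext ?_⟩⟩, fun a ha => by rw [sq, hW a ha]⟩
    have i1 : ∀ w ∈ W, w⁻¹ = w := fun w hw => inv_eq_of_mul_eq_one_right (hW w hw)
    show (a : X) * b = b * a
    conv_lhs => rw [← i1 _ (mul_mem a.2 b.2), _root_.mul_inv_rev, i1 _ a.2, i1 _ b.2]
  have eH : Cfsg.IsElementaryAbelian 2 (H0.comap φ) := elem _ fun w hw => sq_H0 φ hφ hker hel hw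
  have eK : Cfsg.IsElementaryAbelian 2 (K0.comap φ) := elem _ fun w hw => sq_K0 φ hφ hker hel hw
  obtain ⟨m⟩ := model_two hF
  obtain ⟨C1, a1, a2, a3, ⟨a4⟩⟩ := exists_complement φ hφ hker hel ((π).comp blk) range_blk_inf.2 H0
    range_blk_le normalizer_H0_le range_blk_inf.1 (htr_blk φ hφ hker hel)
  obtain ⟨C2, b1, b2, b3, ⟨b4⟩⟩ := exists_complement φ hφ hker hel ((π).comp blk2) range_blk2_inf.2 K0
    range_blk2_le normalizer_K0_le range_blk2_inf.1 (htr_blk2 φ hφ hker hel)
  rcases classify H hHT hZH hH.1 hH.2 with rfl | rfl <;> rcases classify K hKT hZK hK.1 hK.2 with rfl | rfl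
  · exact absurd rfl hHK
  · exact ⟨eH, eK, inf_eq_center φ hφ hker hel, ⟨C1, a1, a2, a3, ⟨a4.trans m⟩⟩,
      C2, b1, b2, b3, ⟨b4.trans m⟩⟩
  · refine ⟨eK, eH, ?_, ⟨C2, b1, b2, b3, ⟨b4.trans m⟩⟩, C1, a1, a2, a3, ⟨a4.trans m⟩⟩
    rw [inf_comm, sup_comm]
    exact inf_eq_center φ hφ hker hel
  · exact absurd rfl hHK

end Cfsg.Agent.Invol.L34Par
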