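import Cfsg.Agent.Lib.Invol.LargeSubgroup
import Cfsg.Agent.Lib.Transfer.Residual

/-!
The residual of the weak closure of a weakly closed subgroup in a product of two normal subgroups.
-/

set_option autoImplicit false

namespace Cfsg.Agent.Invol.WCProduct

open Subgroup
open scoped commutatorElement

variable {G : Type*} [Group G] {p : ℕ}

theorem conj_map_trans (a b : G) (X : Subgroup G) :
    (X.map (MulAut.conj b).toMonoidHom).map (MulAut.conj a).toMonoidHom = X.map (MulAut.conj (a * b)).toMonoidHom := by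
  rw [Subgroup.map_map]
  congr 1
  ext x
  simp [MulAut.conj_apply, mul_assoc]

theorem conj_map_one (X : Subgroup G) : X.map (MulAut.conj (1 : G)).toMonoidHom = X := by
  ext x; simp [Subgroup.mem_map]

theorem mem_conj {g x : G} {X : Subgroup G} (hx : x ∈ X) : g * x * g⁻¹ ∈ X.map (MulAut.conj g).toMonoidHom :=
  ⟨x, hx, rfl⟩

/-- The residual of a subgroup. -/
def res (p : ℕ) (X : Subgroup G) : Subgroup G := (Cfsg.pResidual p X).map X.subtype

theorem res_eq_closure (X : Subgroup G) :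
    res p X = closure {x : G | x ∈ X ∧ (orderOf x).Coprime p} := by
  rw [res, Cfsg.pResidual, MonoidHom.map_closure]
  congr 1
  ext x
  constructor
  · rintro ⟨y, hy, rfl⟩
    exact ⟨y.2, by simpa using hy⟩
  · rintro ⟨hx, hc⟩
    exact ⟨⟨x, hx⟩, by simpa using hc, rfl⟩

theorem res_le (X : Subgroup G) : res p X ≤ X := map_subtype_le _

theorem res_mono {X Y : Subgroup G} (h : X ≤ Y) : res p X ≤ res p Y := by
  rw [res_eq_closure, res_eq_closure]
  exact closure_mono fun x hx => ⟨h hx.1, hx.2⟩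

theorem res_idem (X : Subgroup G) : res p (res p X) = res p X := by
  refine le_antisymm (res_le _) ?_
  conv_lhs => rw [res_eq_closure]
  rw [closure_le]
  intro x hx
  rw [SetLike.mem_coe, res_eq_closure (res p X)]
  refine subset_closure ⟨?_, hx.2⟩
  rw [res_eq_closure]
  exact subset_closure hx

theorem res_map_conj (g : G) (X : Subgroup G) :
    (res p X).map (MulAut.conj g).toMonoidHom = res p (X.map (MulAut.conj g).toMonoidHom) := by
  rw [res_eq_closure, res_eq_closure, MonoidHom.map_closure]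
  congr 1
  ext x
  constructor
  · rintro ⟨y, ⟨hy, hc⟩, rfl⟩
    exact ⟨⟨y, hy, rfl⟩, by rwa [MulEquiv.coe_toMonoidHom, MulEquiv.orderOf_eq]⟩
  · rintro ⟨⟨y, hy, rfl⟩, hc⟩
    exact ⟨y, ⟨hy, by rwa [MulEquiv.coe_toMonoidHom, MulEquiv.orderOf_eq] at hc⟩, rfl⟩

theorem mem_normalizer_of_conj {g : G} {X : Subgroup G} [Finite G]
    (h : X.map (MulAut.conj g).toMonoidHom = X) : g ∈ normalizer (X : Set G) :=
  wc_map_conj_eq_iff.mp h

theorem normalizer_le_res [Finite G] (X : Subgroup G) :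
    normalizer (X : Set G) ≤ normalizer (res p X : Set G) := fun g hg => by
  refine mem_normalizer_of_conj ?_
  rw [res_map_conj, wc_map_conj_eq_iff.mpr hg]

variable [Finite G] [hp : Fact p.Prime]

theorem exists_pow_mem_res {X : Subgroup G} {x : G} (hx : x ∈ X) : ∃ k, x ^ p ^ k ∈ res p X := by
  refine ⟨(orderOf x).factorization p, ?_⟩
  rw [res_eq_closure]
  exact subset_closure ⟨X.pow_mem hx _, Transfer.orderOf_pow_ordProj_coprime hp.out x⟩

/-- A subgroup containing a power of order a power of `p` of every element contains the residual. -/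
theorem res_le_of_pow {X N : Subgroup G} (h : ∀ x ∈ X, ∃ k, x ^ p ^ k ∈ N) : res p X ≤ N := by
  rw [res_eq_closure, closure_le]
  rintro x ⟨hx, hc⟩
  obtain ⟨k, hk⟩ := h x hx
  obtain ⟨m, hm⟩ := exists_pow_eq_self_of_coprime (x := x) (Nat.Coprime.pow_left k hc.symm)
  exact hm ▸ N.pow_mem hk m

theorem pow_mem_of_sup {N Q : Subgroup G} (hQ : IsPGroup p Q) (hn : Q ≤ normalizer (N : Set G))
    {x : G} (hx : x ∈ N ⊔ Q) : ∃ k, x ^ p ^ k ∈ N := by
  rw [← SetLike.mem_coe, coe_mul_of_right_le_normalizer_left N Q hn] at hx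
  obtain ⟨a, ha, q, hq, rfl⟩ := hx
  obtain ⟨k, hk⟩ := hQ ⟨q, hq⟩
  have hk' : q ^ p ^ k = 1 := by simpa using congrArg Subtype.val hk
  refine ⟨k, ?_⟩
  have key : ∀ m : ℕ, ∃ b ∈ N, (a * q) ^ m = b * q ^ m := by
    intro m
    induction m with
    | zero => exact ⟨1, N.one_mem, by simp⟩
    | succ m ih =>
      obtain ⟨b, hb, e⟩ := ih
      refine ⟨b * (q ^ m * a * (q ^ m)⁻¹),
        N.mul_mem hb ((mem_normalizer_iff.mp (hn (Q.pow_mem hq m)) _).mp ha), ?_⟩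
      rw [pow_succ, e, pow_succ q]
      group
  obtain ⟨b, hb, e⟩ := key (p ^ k)
  rw [e, hk', mul_one]
  exact hb

theorem res_le_of_le_sup {X N Q : Subgroup G} (hQ : IsPGroup p Q) (hn : Q ≤ normalizer (N : Set G))
    (h : X ≤ N ⊔ Q) : res p X ≤ N :=
  res_le_of_pow fun _ hx => pow_mem_of_sup hQ hn (h hx)

section WC

variable {Q : Subgroup G} (hQp : IsPGroup p Q) (hwc : Cfsg.IsWeaklyClosedSubgroup p Q)
include hwc

theorem eq_of_le_pgroup {S : Subgroup G} (hS : IsPGroup p S) (hQS : Q ≤ S) {g : G}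
    (hg : Q.map (MulAut.conj g).toMonoidHom ≤ S) : Q.map (MulAut.conj g).toMonoidHom = Q := by
  obtain ⟨T, -, hT⟩ := hwc
  obtain ⟨P, hP⟩ := hS.exists_le_sylow
  obtain ⟨x, hx⟩ := MulAction.exists_smul_eq G P T
  have hx' : (P : Subgroup G).map (MulAut.conj x).toMonoidHom = (T : Subgroup G) := by
    rw [← hx, Sylow.coe_subgroup_smul]
    rfl
  have h1 := hT x ((map_mono (hQS.trans hP)).trans hx'.le)
  have h2 := hT (x * g) (conj_map_trans x g Q ▸ (map_mono (hg.trans hP)).trans hx'.le)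
  rw [← conj_map_trans] at h2
  exact map_injective (f := (MulAut.conj x).toMonoidHom) (MulAut.conj x).injective (h2.trans h1.symm)

theorem le_normalizer_of_pgroup {S : Subgroup G} (hS : IsPGroup p S) (hQS : Q ≤ S) :
    S ≤ normalizer (Q : Set G) := fun s hs =>
  mem_normalizer_of_conj (eq_of_le_pgroup hwc hS hQS (by
    rintro _ ⟨q, hq, rfl⟩
    exact S.mul_mem (S.mul_mem hs (hQS hq)) (S.inv_mem hs)))

include hQp

theorem conj_in {X : Subgroup G} (hQX : Q ≤ X) {g : G} (hg : Q.map (MulAut.conj g).toMonoidHom ≤ X) :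
    ∃ y ∈ X, Q.map (MulAut.conj g).toMonoidHom = Q.map (MulAut.conj y).toMonoidHom := by
  obtain ⟨S, hS⟩ := (hQp.comap_of_injective X.subtype X.subtype_injective).exists_le_sylow
  obtain ⟨S', hS'⟩ := ((hQp.map (MulAut.conj g).toMonoidHom).comap_of_injective X.subtype X.subtype_injective).exists_le_sylow
  obtain ⟨y, hy⟩ := MulAction.exists_smul_eq X S' S
  refine ⟨(y : G)⁻¹, X.inv_mem y.2, ?_⟩
  have h1 : Q.map (MulAut.conj ((y : G) * g)).toMonoidHom ≤ (S : Subgroup X).map X.subtype := by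
    rintro _ ⟨q, hq, rfl⟩
    have hmem : g * q * g⁻¹ ∈ X := hg ⟨q, hq, rfl⟩
    have h2 : y * (⟨g * q * g⁻¹, hmem⟩ : X) * y⁻¹ ∈ (S : Subgroup X) := by
      rw [← hy, Sylow.coe_subgroup_smul]
      exact ⟨⟨g * q * g⁻¹, hmem⟩, hS' (show (⟨g * q * g⁻¹, hmem⟩ : X).1 ∈ Q.map (MulAut.conj g).toMonoidHom from ⟨q, hq, rfl⟩), rfl⟩
    exact ⟨_, h2, by simp [mul_assoc]⟩
  have h3 := eq_of_le_pgroup hwc (S.isPGroup'.map X.subtype)
    (fun q hq => ⟨⟨q, hQX hq⟩, hS hq, rfl⟩) h1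
  have h4 := congrArg (fun Y : Subgroup G => Y.map (MulAut.conj (y : G)⁻¹).toMonoidHom) h3
  simp only [conj_map_trans, inv_mul_cancel_left] at h4
  exact h4

theorem conj_le_sup {K W : Subgroup G} (hKW : K ≤ W) (hWK : W ≤ normalizer (K : Set G)) (hQW : Q ≤ W)
    (hres : res p W ≤ K) {g : G} (hg : Q.map (MulAut.conj g).toMonoidHom ≤ W) :
    ∃ k ∈ K, Q.map (MulAut.conj g).toMonoidHom = Q.map (MulAut.conj k).toMonoidHom := by
  obtain ⟨y, hy, e⟩ := conj_in hQp hwc hQW hg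
  obtain ⟨S, hS⟩ := (hQp.comap_of_injective W.subtype W.subtype_injective).exists_le_sylow
  have hsup : W ≤ K ⊔ (S : Subgroup W).map W.subtype := by
    intro w hw
    have h := Transfer.sylow_sup_pResidual S
    have hwm : (⟨w, hw⟩ : W) ∈ (S : Subgroup W) ⊔ Cfsg.pResidual p W := h ▸ mem_top _
    have := mem_map_of_mem W.subtype hwm
    rw [Subgroup.map_sup] at this
    exact (sup_le le_sup_right (le_sup_of_le_left hres)) this
  have hSW : (S : Subgroup W).map W.subtype ≤ W := map_subtype_le _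
  have hy' := hsup hy
  rw [← SetLike.mem_coe, coe_mul_of_right_le_normalizer_left K _ (hSW.trans hWK)] at hy'
  obtain ⟨k, hk, s, hs, rfl⟩ := hy'
  refine ⟨k, hk, e.trans ?_⟩
  rw [← conj_map_trans, wc_map_conj_eq_iff.mpr (le_normalizer_of_pgroup hwc (S.isPGroup'.map W.subtype)
    (fun q hq => ⟨⟨q, hQW hq⟩, hS hq, rfl⟩) hs)]

theorem component_facts (Hc H₁ H₂ K₁ : Subgroup G) (hHc : Hc = Cfsg.weakClosure Q ⊤)
    (hn₁ : H₁ ≤ Hc ∧ Hc ≤ normalizer (H₁ : Set G)) (hn₂ : H₂ ≤ Hc ∧ Hc ≤ normalizer (H₂ : Set G))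
    (hprod : H₁ ⊔ H₂ = Hc) (hcomm : ⁅H₁, H₂⁆ ≤ normalizer (Q : Set G))
    (hK₁ : K₁ = res p (Cfsg.weakClosure Q (H₁ ⊔ Q))) :
    ⁅K₁, Q⁆ = K₁ ∧ ⁅K₁, H₁⁆ = K₁ ∧ K₁ ≤ ⁅H₁, H₁⁆ ∧ Hc ≤ normalizer (K₁ : Set G) ∧ K₁ ≤ H₁ ∧
      K₁ ≤ res p Hc ∧ (∀ a ∈ H₁, Q.map (MulAut.conj a).toMonoidHom ≤ K₁ ⊔ Q) ∧
      ⁅⁅H₁, H₂⁆, Hc⁆ ≤ Cfsg.pCoreOf p Hc := by
  obtain ⟨W, hW⟩ : ∃ W, W = Cfsg.weakClosure Q (H₁ ⊔ Q) := ⟨_, rfl⟩
  rw [← hW] at hK₁
  have hQHc : Q ≤ Hc := by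
    rw [hHc]
    have h := le_iSup (fun g : {g : G // Q.map (MulAut.conj g).toMonoidHom ≤ (⊤ : Subgroup G)} =>
      Q.map (MulAut.conj (g : G)).toMonoidHom) ⟨1, le_top⟩
    rwa [conj_map_one] at h
  have hQW : Q ≤ W := by
    rw [hW]
    have h := le_iSup (fun g : {g : G // Q.map (MulAut.conj g).toMonoidHom ≤ H₁ ⊔ Q} =>
      Q.map (MulAut.conj (g : G)).toMonoidHom) ⟨1, by rw [conj_map_one]; exact le_sup_right⟩
    rwa [conj_map_one] at h
  have hWle : W ≤ H₁ ⊔ Q := hW ▸ iSup_le fun g => g.2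
  have hH1Q : H₁ ⊔ Q ≤ Hc := sup_le hn₁.1 hQHc
  have hWn : H₁ ⊔ Q ≤ normalizer (W : Set G) := by
    have key : ∀ x ∈ H₁ ⊔ Q, W.map (MulAut.conj x).toMonoidHom ≤ W := by
      intro x hx
      rw [hW, Cfsg.weakClosure, Subgroup.map_iSup]
      refine iSup_le fun g => ?_
      rw [conj_map_trans]
      refine le_iSup (fun g : {g : G // Q.map (MulAut.conj g).toMonoidHom ≤ H₁ ⊔ Q} =>
        Q.map (MulAut.conj (g : G)).toMonoidHom) ⟨x * g, ?_⟩
      rw [← conj_map_trans]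
      rintro _ ⟨y, hy, rfl⟩
      exact mul_mem (mul_mem hx (g.2 hy)) (inv_mem hx)
    exact fun x hx => Subgroup.mem_normalizer_fintype fun y hy => key x hx ⟨y, hy, rfl⟩
  have hKW : K₁ ≤ W := hK₁ ▸ res_le W
  have hHK : H₁ ⊔ Q ≤ normalizer (K₁ : Set G) := hK₁ ▸ hWn.trans (normalizer_le_res W)
  have hQK : Q ≤ normalizer (K₁ : Set G) := le_sup_right.trans hHK
  have hQH1 : Q ≤ normalizer (H₁ : Set G) := hQHc.trans hn₁.2
  have hKH : K₁ ≤ H₁ := hK₁ ▸ res_le_of_le_sup hQp hQH1 hWle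
  have hconjW : ∀ g : G, Q.map (MulAut.conj g).toMonoidHom ≤ W →
      ∃ k ∈ K₁, Q.map (MulAut.conj g).toMonoidHom = Q.map (MulAut.conj k).toMonoidHom := fun g hg =>
    conj_le_sup hQp hwc hKW ((hWle).trans hHK) hQW hK₁.ge hg
  have hW_le : ∀ M : Subgroup G, Q ≤ M → K₁ ≤ normalizer (M : Set G) → W ≤ M := by
    intro M hQM hKM
    conv_lhs => rw [hW]
    refine iSup_le fun g => ?_
    obtain ⟨k, hk, e⟩ := hconjW g (hW ▸ le_iSup (fun g : {g : G // Q.map (MulAut.conj g).toMonoidHom ≤ H₁ ⊔ Q} =>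
      Q.map (MulAut.conj (g : G)).toMonoidHom) g)
    rw [e]
    exact (map_mono hQM).trans (wc_map_conj_eq_iff.mpr (hKM hk)).le
  have hKQ : ∀ a ∈ H₁, Q.map (MulAut.conj a).toMonoidHom ≤ K₁ ⊔ Q := by
    intro a ha
    have haW : Q.map (MulAut.conj a).toMonoidHom ≤ W :=
      (map_mono hQW).trans (wc_map_conj_eq_iff.mpr (hWn (mem_sup_left ha))).le
    obtain ⟨k, hk, e⟩ := hconjW a haW
    rw [e]
    rintro _ ⟨q, hq, rfl⟩
    exact mul_mem (mul_mem (mem_sup_left hk) (mem_sup_right hq)) (inv_mem (mem_sup_left hk))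
  -- [K, Q] = K
  have hKQK : ⁅K₁, Q⁆ = K₁ := by
    refine le_antisymm (commutator_le.mpr fun k hk q hq => ?_) ?_
    · rw [commutatorElement_def, mul_assoc, mul_assoc]
      refine K₁.mul_mem hk ?_
      rw [← mul_assoc]
      exact (mem_normalizer_iff.mp (hQK hq) _).mp (K₁.inv_mem hk)
    conv_lhs => rw [hK₁]
    refine res_le_of_le_sup hQp (normalizer_commutator_ge_right K₁ Q) (hW_le _ le_sup_right ?_)
    intro k hk
    refine Subgroup.mem_normalizer_fintype fun x hx => ?_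
    have hmap : (⁅K₁, Q⁆ ⊔ Q).map (MulAut.conj k).toMonoidHom ≤ ⁅K₁, Q⁆ ⊔ Q := by
      rw [Subgroup.map_sup]
      refine sup_le ((wc_map_conj_eq_iff.mpr (normalizer_commutator_ge_left K₁ Q hk)).le.trans le_sup_left) ?_
      rintro _ ⟨q, hq, rfl⟩
      show k * q * k⁻¹ ∈ _
      rw [show k * q * k⁻¹ = ⁅k, q⁆ * q by rw [commutatorElement_def]; group]
      exact mul_mem (mem_sup_left (commutator_mem_commutator hk hq)) (mem_sup_right hq)
    exact hmap ⟨x, hx, rfl⟩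
  -- the commutator of the two factors
  obtain ⟨D, hD⟩ : ∃ D, D = ⁅H₁, H₂⁆ := ⟨_, rfl⟩
  have hDH1 : D ≤ H₁ := hD ▸ commutator_le.mpr fun a ha b hb => by
    rw [commutatorElement_def, mul_assoc, mul_assoc]
    refine H₁.mul_mem ha ?_
    rw [← mul_assoc]
    exact (mem_normalizer_iff.mp (hn₁.2 (hn₂.1 hb)) _).mp (H₁.inv_mem ha)
  have hDHc : D ≤ Hc := hDH1.trans hn₁.1
  have hDn : Hc ≤ normalizer (D : Set G) := by
    intro x hx
    refine mem_normalizer_of_conj ?_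
    rw [hD, Subgroup.map_commutator, wc_map_conj_eq_iff.mpr (hn₁.2 hx), wc_map_conj_eq_iff.mpr (hn₂.2 hx)]
  have hDQ : D ≤ normalizer (Q : Set G) := hD ▸ hcomm
  have hDR : ∀ g : G, ∀ d ∈ D, ∀ x ∈ Q.map (MulAut.conj g).toMonoidHom, ⁅d, x⁆ ∈ Cfsg.pCoreOf p Hc := by
    intro g d hd x hx
    obtain ⟨y, hy, e⟩ := conj_in hQp hwc hQHc (g := g) (hHc ▸ le_iSup
      (fun g : {g : G // Q.map (MulAut.conj g).toMonoidHom ≤ (⊤ : Subgroup G)} =>
        Q.map (MulAut.conj (g : G)).toMonoidHom) ⟨g, le_top⟩)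
    have hnR : D ≤ normalizer (Q.map (MulAut.conj g).toMonoidHom : Set G) := by
      rw [e]
      have h := map_mono (f := (MulAut.conj y).toMonoidHom) hDQ
      rw [wc_map_conj_eq_iff.mpr (hDn hy)] at h
      exact h.trans (le_normalizer_map _)
    have hRHc : Q.map (MulAut.conj g).toMonoidHom ≤ Hc := by
      rw [e]; exact (map_mono hQHc).trans (by rintro _ ⟨z, hz, rfl⟩; exact mul_mem (mul_mem hy hz) (inv_mem hy))
    have hmem : ⁅d, x⁆ ∈ Q.map (MulAut.conj g).toMonoidHom ⊓ D := by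
      refine mem_inf.mpr ⟨?_, ?_⟩
      · rw [commutatorElement_def]
        exact mul_mem ((mem_normalizer_iff.mp (hnR hd) _).mp hx) (inv_mem hx)
      · rw [commutatorElement_def, mul_assoc, mul_assoc]
        refine D.mul_mem hd ?_
        rw [← mul_assoc]
        exact (mem_normalizer_iff.mp (hDn (hRHc hx)) _).mp (D.inv_mem hd)
    have hle : Q.map (MulAut.conj g).toMonoidHom ⊓ D ≤ Cfsg.pCoreOf p D := by
      refine lg_le_pCoreOf inf_le_right ?_ ((hQp.map _).to_le inf_le_left)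
      intro z hz
      refine Subgroup.mem_normalizer_fintype fun w hw => mem_inf.mpr
        ⟨(mem_normalizer_iff.mp (hnR hz) _).mp (mem_inf.mp hw).1,
          mul_mem (mul_mem hz (mem_inf.mp hw).2) (inv_mem hz)⟩
    exact lg_le_pCoreOf (U := Cfsg.pCoreOf p D) ((lg_pCoreOf_le D).trans hDHc)
      (hDn.trans (lg_normalizer_le_normalizer_pCoreOf D)) (lg_isPGroup_pCoreOf D) (hle hmem)
  have hPn : Hc ≤ normalizer (Cfsg.pCoreOf p Hc : Set G) := lg_le_normalizer_pCoreOf Hc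
  have hP1 : ∀ d ∈ D, ∀ x ∈ Hc, ⁅d, x⁆ ∈ Cfsg.pCoreOf p Hc := by
    intro d hd x hx
    have key : x ∈ Hc ∧ ⁅d, x⁆ ∈ Cfsg.pCoreOf p Hc := by
      rw [hHc, Cfsg.weakClosure] at hx
      refine Subgroup.iSup_induction (C := fun x => x ∈ Hc ∧ ⁅d, x⁆ ∈ Cfsg.pCoreOf p Hc) _ hx
        (fun g y hy => ⟨?_, hDR g d hd y hy⟩) ⟨Hc.one_mem, by rw [commutatorElement_one_right]; exact one_mem _⟩ ?_
      · rw [hHc]
        exact le_iSup (fun g : {g : G // Q.map (MulAut.conj g).toMonoidHom ≤ (⊤ : Subgroup G)} =>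
          Q.map (MulAut.conj (g : G)).toMonoidHom) g hy
      · rintro a b ⟨ha, ha'⟩ ⟨hb, hb'⟩
        refine ⟨mul_mem ha hb, ?_⟩
        rw [show ⁅d, a * b⁆ = ⁅d, a⁆ * (a * ⁅d, b⁆ * a⁻¹) by simp only [commutatorElement_def]; group]
        exact mul_mem ha' ((mem_normalizer_iff.mp (hPn ha) _).mp hb')
    exact key.2
  have hP : ⁅D, Hc⁆ ≤ Cfsg.pCoreOf p Hc := commutator_le.mpr hP1
  -- [K, H₁] = K
  have hMle : ⁅K₁, H₁⁆ ≤ K₁ := commutator_le.mpr fun k hk a ha => by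
    rw [commutatorElement_def, mul_assoc, mul_assoc]
    refine K₁.mul_mem hk ?_
    rw [← mul_assoc]
    exact (mem_normalizer_iff.mp (hHK (mem_sup_left ha)) _).mp (K₁.inv_mem hk)
  have hMn : H₁ ⊔ Q ≤ normalizer ((⁅K₁, H₁⁆ : Subgroup G) : Set G) := by
    intro x hx
    refine mem_normalizer_of_conj ?_
    rw [Subgroup.map_commutator, wc_map_conj_eq_iff.mpr (hHK hx), wc_map_conj_eq_iff.mpr (hn₁.2 (hH1Q hx))]
  have hKM : K₁ ≤ ⁅K₁, H₁⁆ ⊔ D := by
    conv_lhs => rw [← hKQK]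
    refine commutator_le.mpr fun k hk q hq => ?_
    have hqHc := hQHc hq
    rw [← hprod, ← SetLike.mem_coe, coe_mul_of_left_le_normalizer_right H₁ H₂ (hn₁.1.trans hn₂.2)] at hqHc
    obtain ⟨a, ha, b, hb, rfl⟩ := hqHc
    rw [show ⁅k, a * b⁆ = ⁅k, a⁆ * (a * ⁅k, b⁆ * a⁻¹) by simp only [commutatorElement_def]; group]
    exact mul_mem (mem_sup_left (commutator_mem_commutator hk ha)) (mem_sup_right
      ((mem_normalizer_iff.mp (hDn (hn₁.1 ha)) _).mp (hD ▸ commutator_mem_commutator (hKH hk) hb)))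
  have hKH1 : ⁅K₁, H₁⁆ = K₁ := by
    refine le_antisymm hMle ?_
    have hQM : Q ≤ normalizer ((⁅K₁, H₁⁆ : Subgroup G) : Set G) := le_sup_right.trans hMn
    have h1 : K₁ ≤ ⁅K₁, H₁⁆ ⊔ Q := by
      conv_lhs => rw [← hKQK]
      refine commutator_le.mpr fun k hk q hq => ?_
      have hk' := hKM hk
      rw [← SetLike.mem_coe, coe_mul_of_right_le_normalizer_left _ _ (hDH1.trans (le_sup_left.trans hMn))] at hk'
      obtain ⟨m, hm, d, hd, rfl⟩ := hk'
      rw [show ⁅m * d, q⁆ = m * ⁅d, q⁆ * (q * m⁻¹ * q⁻¹) by simp only [commutatorElement_def]; group]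
      refine mul_mem (mul_mem (mem_sup_left hm) (mem_sup_right ?_)) (mem_sup_left ((mem_normalizer_iff.mp (hQM hq) _).mp (inv_mem hm)))
      rw [commutatorElement_def]
      exact mul_mem ((mem_normalizer_iff.mp (hDQ hd) _).mp hq) (inv_mem hq)
    conv_lhs => rw [hK₁]
    refine res_le_of_le_sup hQp hQM (hW_le _ le_sup_right (h1.trans ?_))
    exact le_normalizer
  have hK1' : K₁ ≤ ⁅H₁, H₁⁆ := hKH1.ge.trans (commutator_mono hKH le_rfl)
  -- normality
  have hPQ : Cfsg.pCoreOf p Hc ≤ normalizer (Q : Set G) := by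
    refine le_sup_left.trans (le_normalizer_of_pgroup hwc ?_ le_sup_right)
    exact (lg_isPGroup_pCoreOf Hc).to_sup_of_normal_left' hQp (hQHc.trans hPn)
  have hPK : Cfsg.pCoreOf p Hc ≤ normalizer (K₁ : Set G) := by
    intro x hx
    rw [hK₁]
    refine normalizer_le_res W ?_
    refine Subgroup.mem_normalizer_fintype fun y hy => ?_
    have : W.map (MulAut.conj x).toMonoidHom ≤ W := by
      conv_lhs => rw [hW]
      rw [Cfsg.weakClosure, Subgroup.map_iSup]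
      refine iSup_le fun g => ?_
      obtain ⟨k, hk, e⟩ := hconjW g (hW ▸ le_iSup (fun g : {g : G // Q.map (MulAut.conj g).toMonoidHom ≤ H₁ ⊔ Q} =>
        Q.map (MulAut.conj (g : G)).toMonoidHom) g)
      have hk' : k ∈ Hc := hn₁.1 (hKH hk)
      have hx' : k⁻¹ * x * k ∈ Cfsg.pCoreOf p Hc := by
        simpa using (mem_normalizer_iff.mp (hPn (inv_mem hk')) x).mp hx
      rw [e, conj_map_trans, show x * k = k * (k⁻¹ * x * k) by group, ← conj_map_trans,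
        wc_map_conj_eq_iff.mpr (hPQ hx'), ← e, hW]
      exact le_iSup (fun g : {g : G // Q.map (MulAut.conj g).toMonoidHom ≤ H₁ ⊔ Q} =>
        Q.map (MulAut.conj (g : G)).toMonoidHom) g
    exact this ⟨y, hy, rfl⟩
  have hnorm : ∀ h ∈ H₂, K₁.map (MulAut.conj h).toMonoidHom ≤ K₁ := by
    intro h hh
    obtain ⟨X, hX⟩ : ∃ X, X = K₁.map (MulAut.conj h).toMonoidHom := ⟨_, rfl⟩
    rw [← hX]
    have hXH : ⁅X, H₁⁆ = X := by
      conv_lhs => rw [hX, ← wc_map_conj_eq_iff.mpr (hn₁.2 (hn₂.1 hh)), ← Subgroup.map_commutator, hKH1]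
      exact hX.symm
    have hXres : res p X = X := by rw [hX, ← res_map_conj, hK₁, res_idem]
    have hXKD : ∀ x ∈ X, ∃ k ∈ K₁, ∃ d ∈ D, x = d * k := by
      rw [hX]
      rintro _ ⟨k, hk, rfl⟩
      refine ⟨k, hk, ⁅h, k⁆, ?_, ?_⟩
      · rw [hD, commutator_comm]; exact commutator_mem_commutator hh (hKH hk)
      · show h * k * h⁻¹ = _
        rw [commutatorElement_def]; group
    have h2 : X ≤ K₁ ⊔ Cfsg.pCoreOf p Hc := by
      conv_lhs => rw [← hXH]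
      refine commutator_le.mpr fun x hx a ha => ?_
      obtain ⟨k, hk, d, hd, rfl⟩ := hXKD x hx
      rw [show ⁅d * k, a⁆ = (d * ⁅k, a⁆ * d⁻¹) * ⁅d, a⁆ by simp only [commutatorElement_def]; group]
      refine mul_mem (mem_sup_left ?_) (mem_sup_right (hP1 d hd a (hn₁.1 ha)))
      exact (mem_normalizer_iff.mp (hHK (mem_sup_left (hDH1 hd))) _).mp
        (hKH1.le (commutator_mem_commutator hk ha))
    rw [← hXres]
    exact res_le_of_le_sup (lg_isPGroup_pCoreOf Hc) hPK h2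
  have hHcK : Hc ≤ normalizer (K₁ : Set G) := by
    rw [← hprod]
    exact sup_le (le_sup_left.trans hHK) fun h hh =>
      Subgroup.mem_normalizer_fintype fun y hy => hnorm h hh ⟨y, hy, rfl⟩
  exact ⟨hKQK, hKH1, hK1', hHcK, hKH, hK₁ ▸ res_mono (hWle.trans hH1Q), hKQ, hD ▸ hP⟩

theorem weak_closure_product (Hc H₁ H₂ K₁ K₂ : Subgroup G) (hHc : Hc = Cfsg.weakClosure Q ⊤)
    (hn₁ : H₁ ≤ Hc ∧ Hc ≤ normalizer (H₁ : Set G)) (hn₂ : H₂ ≤ Hc ∧ Hc ≤ normalizer (H₂ : Set G))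
    (hprod : H₁ ⊔ H₂ = Hc) (hcomm : ⁅H₁, H₂⁆ ≤ normalizer (Q : Set G))
    (hK₁ : K₁ = res p (Cfsg.weakClosure Q (H₁ ⊔ Q))) (hK₂ : K₂ = res p (Cfsg.weakClosure Q (H₂ ⊔ Q))) :
    (⁅K₁, Q⁆ = K₁ ∧ ⁅K₁, H₁⁆ = K₁ ∧ K₁ ≤ ⁅H₁, H₁⁆ ∧ Hc ≤ normalizer (K₁ : Set G)) ∧
      (⁅K₂, Q⁆ = K₂ ∧ ⁅K₂, H₂⁆ = K₂ ∧ K₂ ≤ ⁅H₂, H₂⁆ ∧ Hc ≤ normalizer (K₂ : Set G)) ∧
      K₁ ⊔ K₂ = res p Hc ∧ ⁅K₁, K₂⁆ ≤ Cfsg.pCoreOf p Hc := by
  obtain ⟨a1, b1, c1, d1, e1, f1, g1, hP⟩ := component_facts hQp hwc Hc H₁ H₂ K₁ hHc hn₁ hn₂ hprod hcomm hK₁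
  obtain ⟨a2, b2, c2, d2, e2, f2, g2, -⟩ := component_facts hQp hwc Hc H₂ H₁ K₂ hHc hn₂ hn₁
    (by rw [sup_comm]; exact hprod) (by rw [commutator_comm]; exact hcomm) hK₂
  have hQHc : Q ≤ Hc := by
    rw [hHc]
    have h := le_iSup (fun g : {g : G // Q.map (MulAut.conj g).toMonoidHom ≤ (⊤ : Subgroup G)} =>
      Q.map (MulAut.conj (g : G)).toMonoidHom) ⟨1, le_top⟩
    rwa [conj_map_one] at h
  refine ⟨⟨a1, b1, c1, d1⟩, ⟨a2, b2, c2, d2⟩, le_antisymm (sup_le f1 f2) ?_, ?_⟩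
  · have hN : Hc ≤ normalizer ((K₁ ⊔ K₂ : Subgroup G) : Set G) := fun x hx => mem_normalizer_of_conj (by
      rw [Subgroup.map_sup, wc_map_conj_eq_iff.mpr (d1 hx), wc_map_conj_eq_iff.mpr (d2 hx)])
    refine res_le_of_le_sup hQp (hQHc.trans hN) ?_
    have hnQ : Hc ≤ normalizer ((K₁ ⊔ K₂ ⊔ Q : Subgroup G) : Set G) := by
      rw [← hprod]
      refine sup_le ?_ ?_
      · intro a ha
        refine Subgroup.mem_normalizer_fintype fun y hy => ?_
        have : (K₁ ⊔ K₂ ⊔ Q).map (MulAut.conj a).toMonoidHom ≤ K₁ ⊔ K₂ ⊔ Q := by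
          rw [Subgroup.map_sup]
          exact sup_le ((wc_map_conj_eq_iff.mpr (hN (hn₁.1 ha))).le.trans le_sup_left)
            ((g1 a ha).trans (sup_le (le_sup_left.trans le_sup_left) le_sup_right))
        exact this ⟨y, hy, rfl⟩
      · intro a ha
        refine Subgroup.mem_normalizer_fintype fun y hy => ?_
        have : (K₁ ⊔ K₂ ⊔ Q).map (MulAut.conj a).toMonoidHom ≤ K₁ ⊔ K₂ ⊔ Q := by
          rw [Subgroup.map_sup]
          exact sup_le ((wc_map_conj_eq_iff.mpr (hN (hn₂.1 ha))).le.trans le_sup_left)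
            ((g2 a ha).trans (sup_le (le_sup_right.trans le_sup_left) le_sup_right))
        exact this ⟨y, hy, rfl⟩
    conv_lhs => rw [hHc]
    refine iSup_le fun g => ?_
    obtain ⟨y, hy, e⟩ := conj_in hQp hwc hQHc (g := (g : G)) (hHc ▸ le_iSup
      (fun g : {g : G // Q.map (MulAut.conj g).toMonoidHom ≤ (⊤ : Subgroup G)} =>
        Q.map (MulAut.conj (g : G)).toMonoidHom) g)
    rw [e]
    exact (map_mono le_sup_right).trans (wc_map_conj_eq_iff.mpr (hnQ hy)).le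
  · have hPn : Hc ≤ normalizer (Cfsg.pCoreOf p Hc : Set G) := lg_le_normalizer_pCoreOf Hc
    haveI : ((Cfsg.pCoreOf p Hc).subgroupOf Hc).Normal :=
      normal_subgroupOf_of_le_normalizer hPn
    let f := QuotientGroup.mk' ((Cfsg.pCoreOf p Hc).subgroupOf Hc)
    have hc : ∀ d ∈ ⁅H₁, H₂⁆, ∀ hdc : d ∈ Hc, ∀ x : ↥Hc, Commute (f ⟨d, hdc⟩) (f x) := by
      intro d hd hdc x
      rw [commute_iff_eq, ← commutatorElement_eq_one_iff_mul_comm, ← map_commutatorElement]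
      refine (QuotientGroup.eq_one_iff _).mpr (mem_subgroupOf.mpr ?_)
      exact hP (commutator_mem_commutator hd x.2)
    refine commutator_le.mpr fun k hk l hl => ?_
    have key : ∀ k ∈ ⁅K₁, H₁⁆, ⁅k, l⁆ ∈ Cfsg.pCoreOf p Hc ∧ k ∈ Hc := by
      intro k hk
      rw [Subgroup.commutator_def] at hk
      induction hk using closure_induction with
      | mem z hz =>
        obtain ⟨u, hu, a, ha, rfl⟩ := hz
        have hu1 := e1 hu
        have hl2 := e2 hl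
        have huc : u ∈ Hc := hn₁.1 hu1
        have hac : a ∈ Hc := hn₁.1 ha
        have hlc : l ∈ Hc := hn₂.1 hl2
        have hd1 : ⁅l, u⁆ ∈ ⁅H₁, H₂⁆ := by
          rw [commutator_comm]; exact commutator_mem_commutator hl2 hu1
        have hd2 : ⁅l, a⁆ ∈ ⁅H₁, H₂⁆ := by
          rw [commutator_comm]; exact commutator_mem_commutator hl2 ha
        have hzc : ⁅u, a⁆ ∈ Hc := hn₁.1 (by
          rw [commutatorElement_def]
          exact mul_mem (mul_mem (mul_mem hu1 ha) (inv_mem hu1)) (inv_mem ha))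
        refine ⟨?_, hzc⟩
        have e1' : f ⟨l, hlc⟩ * f ⁅(⟨u, huc⟩ : ↥Hc), ⟨a, hac⟩⁆ * (f ⟨l, hlc⟩)⁻¹ = f ⁅(⟨u, huc⟩ : ↥Hc), ⟨a, hac⟩⁆ := by
          have E : ∀ {M : Type _} [Group M] (L U A c c' : M), (∀ z, Commute c z) → (∀ z, Commute c' z) →
              L * U * L⁻¹ = c * U → L * A * L⁻¹ = c' * A → L * ⁅U, A⁆ * L⁻¹ = ⁅U, A⁆ := by
            intro M _ L U A c c' h1 h2 h3 h4
            calc L * ⁅U, A⁆ * L⁻¹ = (L * U * L⁻¹) * (L * A * L⁻¹) * (L * U * L⁻¹)⁻¹ * (L * A * L⁻¹)⁻¹ := by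
                  rw [commutatorElement_def]; group
              _ = (c * U) * (c' * A) * (c * U)⁻¹ * (c' * A)⁻¹ := by rw [h3, h4]
              _ = c * (c' * (U * A)) * (U⁻¹ * c⁻¹) * (A⁻¹ * c'⁻¹) := by
                  rw [mul_assoc c U, ← mul_assoc U c', ← (h2 U).eq]; group
              _ = c * c' * (U * A * U⁻¹) * (c⁻¹ * A⁻¹) * c'⁻¹ := by group
              _ = c * c' * (U * A * U⁻¹) * (A⁻¹ * c⁻¹) * c'⁻¹ := by rw [((h1 A⁻¹).inv_left).eq]
              _ = (c * c') * ⁅U, A⁆ * (c' * c)⁻¹ := by rw [commutatorElement_def]; group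
              _ = ⁅U, A⁆ := by
                  rw [← (h1 c').eq, ((h1 _).mul_left (h2 ⁅U, A⁆)).eq, mul_inv_cancel_right]
          rw [map_commutatorElement]
          have hd1c : ⁅l, u⁆ ∈ Hc := by rw [commutatorElement_def]; exact mul_mem (mul_mem (mul_mem hlc huc) (inv_mem hlc)) (inv_mem huc)
          have hd2c : ⁅l, a⁆ ∈ Hc := by rw [commutatorElement_def]; exact mul_mem (mul_mem (mul_mem hlc hac) (inv_mem hlc)) (inv_mem hac)
          refine E _ _ _ (f ⟨⁅l, u⁆, hd1c⟩) (f ⟨⁅l, a⁆, hd2c⟩) ?_ ?_ ?_ ?_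
          · intro z; obtain ⟨z, rfl⟩ := QuotientGroup.mk'_surjective _ z; exact hc _ hd1 hd1c z
          · intro z; obtain ⟨z, rfl⟩ := QuotientGroup.mk'_surjective _ z; exact hc _ hd2 hd2c z
          · rw [← map_inv, ← map_mul, ← map_mul, ← map_mul]; congr 1; apply Subtype.ext; simp [commutatorElement_def]
          · rw [← map_inv, ← map_mul, ← map_mul, ← map_mul]; congr 1; apply Subtype.ext; simp [commutatorElement_def]
        have h5 : f ⁅(⟨⁅u, a⁆, hzc⟩ : ↥Hc), ⟨l, hlc⟩⁆ = 1 := by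
          rw [map_commutatorElement, commutatorElement_eq_one_iff_mul_comm]
          have e6 : (⟨⁅u, a⁆, hzc⟩ : ↥Hc) = ⁅(⟨u, huc⟩ : ↥Hc), ⟨a, hac⟩⁆ := by
            apply Subtype.ext; simp [commutatorElement_def]
          rw [e6]
          exact (mul_inv_eq_iff_eq_mul.mp e1').symm
        have h7 := mem_subgroupOf.mp ((QuotientGroup.eq_one_iff _).mp h5)
        simpa [commutatorElement_def] using h7
      | one => exact ⟨by rw [commutatorElement_one_left]; exact one_mem _, Hc.one_mem⟩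
      | mul x y _ _ hx hy =>
        refine ⟨?_, mul_mem hx.2 hy.2⟩
        rw [show ⁅x * y, l⁆ = (x * ⁅y, l⁆ * x⁻¹) * ⁅x, l⁆ by simp only [commutatorElement_def]; group]
        exact mul_mem ((mem_normalizer_iff.mp (hPn hx.2) _).mp hy.1) hx.1
      | inv x _ hx =>
        refine ⟨?_, inv_mem hx.2⟩
        rw [show ⁅x⁻¹, l⁆ = x⁻¹ * ⁅x, l⁆⁻¹ * x by simp only [commutatorElement_def]; group]
        have := (mem_normalizer_iff.mp (hPn (inv_mem hx.2)) _).mp (inv_mem hx.1)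
        simpa using this
    exact (key k (b1.ge hk)).1

end WC

end Cfsg.Agent.Invol.WCProduct
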