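import Cfsg.Agent.Lib.Invol.SylowChains
import Cfsg.Agent.Lib.Invol.WeakClosureProduct
import Cfsg.Agent.Lib.Transfer.Frobenius
import Cfsg.Agent.Lib.Grp.Coprime
import Cfsg.Agent.Lib.Grp.Cores
import Cfsg.Agent.Lib.Grp.CoprimeAbelian
import Cfsg.Prelude.Def_TwoFusion

/-!
A strong form of Alperin's fusion theorem.
-/

set_option autoImplicit false

open scoped Pointwise commutatorElement

namespace Cfsg.Agent.Invol.StrongAlperin

open Subgroup
open Cfsg.Agent.Invol.WCProduct

universe u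

variable {G : Type u} [Group G] [Finite G] {p : ℕ} [hp : Fact p.Prime]

/-- Conjugation of a set from the right. -/
def rc (x : G) (A : Set G) : Set G := (fun a => x⁻¹ * a * x) '' A

omit [Finite G] in
theorem rc_one (A : Set G) : rc 1 A = A := by simp [rc]

omit [Finite G] in
theorem rc_mul (x y : G) (A : Set G) : rc (x * y) A = rc y (rc x A) := by
  rw [rc, rc, rc, Set.image_image]
  simp [mul_assoc]

omit [Finite G] in
theorem rc_mono (x : G) {A B : Set G} (h : A ⊆ B) : rc x A ⊆ rc x B := Set.image_mono h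

omit [Finite G] in
theorem rc_coe (x : G) (Q : Subgroup G) : rc x (Q : Set G) = (Q.map (MulAut.conj x⁻¹).toMonoidHom : Subgroup G) := by
  ext a; simp [rc, Subgroup.mem_map]

omit [Finite G] in
theorem rc_of_centralizer {c : G} {A : Set G} (hc : c ∈ centralizer A) : rc c A = A := by
  have e : ∀ a ∈ A, c⁻¹ * a * c = a := fun a ha => by
    rw [mul_assoc, mem_centralizer_iff.mp hc a ha, inv_mul_cancel_left]
  ext a
  exact ⟨fun ⟨b, hb, hba⟩ => by rw [← hba, show (fun a => c⁻¹ * a * c) b = b from e b hb]; exact hb,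
    fun ha => ⟨a, ha, e a ha⟩⟩

omit [Finite G] in
theorem rc_subset_of_normalizer {y : G} {A : Set G} {H : Subgroup G} (hy : y ∈ normalizer (H : Set G))
    (hA : A ⊆ H) : rc y A ⊆ H := by
  rintro _ ⟨a, ha, rfl⟩
  simpa using (mem_normalizer_iff.mp (inv_mem hy) a).mp (hA ha)

/-- A radical centric subgroup with Sylow normalizer. -/
structure Good (P : Sylow p G) (H : Subgroup G) : Prop where
  le : H ≤ (P : Subgroup G)
  full : ¬ p ∣ ((P : Subgroup G) ⊓ normalizer (H : Set G)).relIndex (normalizer (H : Set G))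
  centric : (P : Subgroup G) ⊓ centralizer (H : Set G) ≤ H
  radical : ∀ V : Subgroup G, V ≤ normalizer (H : Set G) → normalizer (H : Set G) ≤ normalizer (V : Set G) →
    (∀ x ∈ V, ∃ k, x ^ p ^ k ∈ centralizer (H : Set G)) → V ≤ H ⊔ centralizer (H : Set G)

/-- A normal subgroup of the normalizer over `H` of index divisible by `p`. -/
def Over (p : ℕ) (H Y : Subgroup G) : Prop :=
  H ≤ Y ∧ Y ≤ normalizer (H : Set G) ∧ normalizer (H : Set G) ≤ normalizer (Y : Set G) ∧ p ∣ H.relIndex Y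

/-- One step of the strong chain. -/
def Step (P : Sylow p G) (H : Subgroup G) (x : G) : Prop :=
  Good P H ∧
    ¬ Cfsg.IsSylowChainConnected p (↥(normalizer (H : Set G)) ⧸ H.subgroupOf (normalizer (H : Set G))) ∧
    ∃ X : Subgroup G, Over p H X ∧ (∀ Y, Over p H Y → X ≤ Y) ∧ x ∈ res p X

omit [Finite G] hp in
theorem Step.mem_normalizer {P : Sylow p G} {H : Subgroup G} {x : G} (h : Step P H x) :
    x ∈ normalizer (H : Set G) := by
  obtain ⟨-, -, X, hX, -, hx⟩ := h
  exact hX.2.1 (res_le X hx)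

omit [Finite G] hp in
theorem Step.inv {P : Sylow p G} {H : Subgroup G} {x : G} (h : Step P H x) : Step P H x⁻¹ := by
  obtain ⟨h1, h2, X, hX, hmin, hx⟩ := h
  exact ⟨h1, h2, X, hX, hmin, inv_mem hx⟩

/-- A chain of steps. -/
inductive Chain (P : Sylow p G) : Set G → G → Prop
  | nil (A : Set G) : Chain P A 1
  | cons {A : Set G} (H : Subgroup G) (x : G) {y : G} : Step P H x → A ⊆ H → Chain P (rc x A) y →
      Chain P A (x * y)

omit [Finite G] hp in
theorem Chain.mono {P : Sylow p G} {A : Set G} {g : G} (h : Chain P A g) :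
    ∀ {B : Set G}, B ⊆ A → Chain P B g := by
  induction h with
  | nil A => exact fun _ => .nil _
  | cons H x hs hA _ ih => exact fun hB => .cons H x hs (hB.trans hA) (ih (rc_mono x hB))

omit [Finite G] hp in
theorem Chain.trans {P : Sylow p G} {A : Set G} {g : G} (h : Chain P A g) :
    ∀ {k : G}, Chain P (rc g A) k → Chain P A (g * k) := by
  induction h with
  | nil A => intro k hk; rw [one_mul]; rwa [rc_one] at hk
  | @cons A H x y hs hA _ ih =>
    intro k hk
    rw [mul_assoc]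
    exact .cons H x hs hA (ih (by rwa [← rc_mul]))

omit [Finite G] hp in
theorem Chain.single {P : Sylow p G} {A : Set G} {H : Subgroup G} {x : G} (hs : Step P H x) (hA : A ⊆ H) :
    Chain P A x := by
  have := Chain.cons H x hs hA (.nil _)
  rwa [mul_one] at this

omit [Finite G] hp in
theorem Chain.inv {P : Sylow p G} {A : Set G} {g : G} (h : Chain P A g) : Chain P (rc g A) g⁻¹ := by
  induction h with
  | nil A => rw [inv_one, rc_one]; exact .nil A
  | @cons A H x y hs hA _ ih =>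
    rw [mul_inv_rev, rc_mul]
    refine ih.trans ?_
    rw [← rc_mul, mul_inv_cancel, rc_one]
    exact Chain.single hs.inv (rc_subset_of_normalizer hs.mem_normalizer hA)

theorem connected_congr {A B : Type*} [Group A] [Group B] [Finite A] [Finite B] (e : A ≃* B)
    (h : Cfsg.IsSylowChainConnected p A) : Cfsg.IsSylowChainConnected p B := by
  rw [isSylowChainConnected_iff] at h ⊢
  intro S T
  let F : Sylow p A → Sylow p B := fun U => U.mapSurjective (f := e.toMonoidHom) e.surjective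
  have hcoe : ∀ U : Sylow p A, (F U : Subgroup B) = (U : Subgroup A).map e.toMonoidHom := fun U =>
    Sylow.coe_mapSurjective _ U
  obtain ⟨U, hU⟩ := Sylow.mapSurjective_surjective (f := e.toMonoidHom) e.surjective p S
  obtain ⟨V, hV⟩ := Sylow.mapSurjective_surjective (f := e.toMonoidHom) e.surjective p T
  subst hU hV
  refine Relation.ReflTransGen.lift F (fun a b (hab : SylowAdj a b) => (⟨fun he => hab.1 ?_, ?_⟩ : SylowAdj (F a) (F b))) _ _ (h U V)
  · exact Sylow.ext (map_injective (f := e.toMonoidHom) e.injective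
      (by rw [← hcoe, ← hcoe]; exact congrArg _ he))
  · rw [hcoe, hcoe, ← map_inf_eq (f := e.toMonoidHom) _ _ e.injective, Ne,
      Subgroup.map_eq_bot_iff_of_injective _ e.injective]
    exact hab.2

section Transport

variable {P : Sylow p G} {y : G}

omit [Finite G] hp in
theorem map_conj_normalizer (H : Subgroup G) :
    (normalizer (H : Set G)).map (MulAut.conj y).toMonoidHom =
      normalizer ((H.map (MulAut.conj y).toMonoidHom : Subgroup G) : Set G) :=
  map_equiv_normalizer_eq H (MulAut.conj y)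

omit [Finite G] hp in
theorem map_conj_centralizer (H : Subgroup G) :
    (centralizer (H : Set G)).map (MulAut.conj y).toMonoidHom =
      centralizer ((H.map (MulAut.conj y).toMonoidHom : Subgroup G) : Set G) := by
  ext z
  rw [mem_centralizer_iff]
  constructor
  · rintro ⟨c, hc, rfl⟩ _ ⟨a, ha, rfl⟩
    rw [← map_mul, ← map_mul, mem_centralizer_iff.mp hc a ha]
  · intro hz
    refine ⟨y⁻¹ * z * y, mem_centralizer_iff.mpr fun a ha => ?_, by simp [mul_assoc]⟩
    have h : y * a * y⁻¹ * z = z * (y * a * y⁻¹) := hz _ ⟨a, ha, rfl⟩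
    calc a * (y⁻¹ * z * y) = y⁻¹ * (y * a * y⁻¹ * z) * y := by group
      _ = y⁻¹ * (z * (y * a * y⁻¹)) * y := by rw [h]
      _ = y⁻¹ * z * y * a := by group

omit hp in
theorem Good.map (hy : y ∈ normalizer ((P : Subgroup G) : Set G)) {H : Subgroup G} (h : Good P H) :
    Good P (H.map (MulAut.conj y).toMonoidHom) := by
  have hP : (P : Subgroup G).map (MulAut.conj y).toMonoidHom = P := wc_map_conj_eq_iff.mpr hy
  refine ⟨(map_mono h.le).trans hP.le, ?_, ?_, ?_⟩
  · rw [← map_conj_normalizer, ← hP, ← map_inf_eq (f := (MulAut.conj y).toMonoidHom) _ _ (MulAut.conj y).injective,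
      relIndex_map_map_of_injective _ _ (MulAut.conj y).injective]
    exact h.full
  · rw [← map_conj_centralizer, ← hP, ← map_inf_eq (f := (MulAut.conj y).toMonoidHom) _ _ (MulAut.conj y).injective]
    exact map_mono h.centric
  · intro V hVN hNV hV
    have hVe : (V.map (MulAut.conj y⁻¹).toMonoidHom).map (MulAut.conj y).toMonoidHom = V := by
      rw [conj_map_trans, mul_inv_cancel, conj_map_one]
    have hN : normalizer (H : Set G) =
        (normalizer ((H.map (MulAut.conj y).toMonoidHom : Subgroup G) : Set G)).map (MulAut.conj y⁻¹).toMonoidHom := by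
      rw [← map_conj_normalizer, conj_map_trans, inv_mul_cancel, conj_map_one]
    have h' := h.radical (V.map (MulAut.conj y⁻¹).toMonoidHom) (hN ▸ map_mono hVN) ?_ ?_
    · rw [← hVe, ← map_conj_centralizer, ← Subgroup.map_sup]
      exact map_mono h'
    · rw [hN, ← map_conj_normalizer (y := y⁻¹) V]
      exact map_mono hNV
    · rintro _ ⟨x, hx, rfl⟩
      obtain ⟨k, hk⟩ := hV x hx
      refine ⟨k, ?_⟩
      rw [← map_conj_centralizer] at hk
      obtain ⟨c, hc, e⟩ := hk
      have e' : y * c * y⁻¹ = x ^ p ^ k := e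
      have : ((MulAut.conj y⁻¹).toMonoidHom x) ^ p ^ k = c := by
        rw [← map_pow, ← e']
        simp [mul_assoc]
      rw [this]; exact hc

omit hp in
theorem Step.map (hy : y ∈ normalizer ((P : Subgroup G) : Set G)) [Fact p.Prime] {H : Subgroup G} {x : G}
    (h : Step P H x) : Step P (H.map (MulAut.conj y).toMonoidHom) (y * x * y⁻¹) := by
  obtain ⟨h1, h2, X, hX, hmin, hx⟩ := h
  refine ⟨h1.map hy, fun hc => h2 ?_, X.map (MulAut.conj y).toMonoidHom, ?_, ?_, ?_⟩
  · let φ : ↥(normalizer (H : Set G)) ≃* ↥(normalizer ((H.map (MulAut.conj y).toMonoidHom : Subgroup G) : Set G)) :=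
      ((MulAut.conj y).subgroupMap (normalizer (H : Set G))).trans (MulEquiv.subgroupCongr (map_conj_normalizer H))
    refine connected_congr (QuotientGroup.congr _ _ φ ?_).symm hc
    ext z
    constructor
    · rintro ⟨w, hw, rfl⟩
      exact ⟨(w : G), hw, rfl⟩
    · rintro ⟨w, hw, hwz⟩
      refine ⟨⟨w, le_normalizer hw⟩, hw, Subtype.ext hwz⟩
  · refine ⟨map_mono hX.1, map_conj_normalizer H ▸ map_mono hX.2.1, ?_, ?_⟩
    · rw [← map_conj_normalizer, ← map_conj_normalizer (y := y) X]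
      exact map_mono hX.2.2.1
    · rw [relIndex_map_map_of_injective _ _ (MulAut.conj y).injective]
      exact hX.2.2.2
  · intro Y hY
    have hYe : (Y.map (MulAut.conj y⁻¹).toMonoidHom).map (MulAut.conj y).toMonoidHom = Y := by
      rw [conj_map_trans, mul_inv_cancel, conj_map_one]
    have hHe : (H.map (MulAut.conj y).toMonoidHom).map (MulAut.conj y⁻¹).toMonoidHom = H := by
      rw [conj_map_trans, inv_mul_cancel, conj_map_one]
    have hN : normalizer (H : Set G) =
        (normalizer ((H.map (MulAut.conj y).toMonoidHom : Subgroup G) : Set G)).map (MulAut.conj y⁻¹).toMonoidHom := by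
      rw [← map_conj_normalizer, conj_map_trans, inv_mul_cancel, conj_map_one]
    rw [← hYe]
    refine map_mono (hmin _ ⟨hHe.ge.trans (map_mono hY.1), hN ▸ map_mono hY.2.1, ?_, ?_⟩)
    · rw [hN, ← map_conj_normalizer (y := y⁻¹) Y]
      exact map_mono hY.2.2.1
    · have := hY.2.2.2
      rw [← relIndex_map_map_of_injective (f := (MulAut.conj y⁻¹).toMonoidHom) _ _ (MulAut.conj y⁻¹).injective] at this
      exact hHe ▸ this
  · rw [← res_map_conj]
    exact ⟨x, hx, rfl⟩

omit hp in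
theorem Chain.map (hy : y ∈ normalizer ((P : Subgroup G) : Set G)) [Fact p.Prime] {A : Set G} {g : G}
    (h : Chain P A g) : Chain P (rc y⁻¹ A) (y * g * y⁻¹) := by
  induction h with
  | nil A => rw [mul_one, mul_inv_cancel]; exact .nil _
  | @cons A H x z hs hA _ ih =>
    rw [show y * (x * z) * y⁻¹ = (y * x * y⁻¹) * (y * z * y⁻¹) by group]
    refine .cons _ _ (hs.map hy) ?_ ?_
    · rintro _ ⟨a, ha, rfl⟩
      exact ⟨a, hA ha, by simp⟩
    · rw [← rc_mul, show y⁻¹ * (y * x * y⁻¹) = x * y⁻¹ by group, rc_mul]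
      exact ih

end Transport

/-- A decomposition of a conjugation. -/
def Dec (P : Sylow p G) (A : Set G) (g : G) : Prop :=
  ∃ c x y, c ∈ centralizer A ∧ Chain P A x ∧ y ∈ normalizer ((P : Subgroup G) : Set G) ∧ g = c * x * y

variable {P : Sylow p G}

omit [Finite G] hp in
theorem Dec.mono {A B : Set G} {g : G} (h : Dec P A g) (hB : B ⊆ A) : Dec P B g := by
  obtain ⟨c, x, y, hc, hx, hy, e⟩ := h
  exact ⟨c, x, y, centralizer_le hB hc, hx.mono hB, hy, e⟩

omit [Finite G] hp in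
theorem Dec.of_cent {A : Set G} {c : G} (hc : c ∈ centralizer A) : Dec P A c :=
  ⟨c, 1, 1, hc, .nil A, one_mem _, by simp⟩

omit [Finite G] hp in
theorem Dec.of_norm {A : Set G} {y : G} (hy : y ∈ normalizer ((P : Subgroup G) : Set G)) : Dec P A y :=
  ⟨1, 1, y, one_mem _, .nil A, hy, by simp⟩

omit [Finite G] hp in
theorem Dec.of_chain {A : Set G} {x : G} (hx : Chain P A x) : Dec P A x :=
  ⟨1, x, 1, one_mem _, hx, one_mem _, by simp⟩

theorem Dec.trans {A : Set G} {g k : G} (h : Dec P A g) (h' : Dec P (rc g A) k) : Dec P A (g * k) := by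
  obtain ⟨c, x, y, hc, hx, hy, rfl⟩ := h
  obtain ⟨c', x', y', hc', hx', hy', rfl⟩ := h'
  rw [rc_mul, rc_mul, rc_of_centralizer hc] at hx' hc'
  refine ⟨c * (x * y * c' * (x * y)⁻¹), x * (y * x' * y⁻¹), y * y', mul_mem hc ?_, hx.trans ?_,
    mul_mem hy hy', by group⟩
  · rw [mem_centralizer_iff]
    intro a ha
    have h := mem_centralizer_iff.mp hc' _ ⟨x⁻¹ * a * x, ⟨a, ha, rfl⟩, rfl⟩
    calc a * (x * y * c' * (x * y)⁻¹) = (x * y) * (y⁻¹ * (x⁻¹ * a * x) * y * c') * (x * y)⁻¹ := by group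
      _ = (x * y) * (c' * (y⁻¹ * (x⁻¹ * a * x) * y)) * (x * y)⁻¹ := by rw [h]
      _ = x * y * c' * (x * y)⁻¹ * a := by group
  · have := hx'.map hy
    rwa [← rc_mul, mul_inv_cancel, rc_one] at this

theorem Dec.inv {A : Set G} {g : G} (h : Dec P A g) : Dec P (rc g A) g⁻¹ := by
  obtain ⟨c, x, y, hc, hx, hy, rfl⟩ := h
  rw [show (c * x * y)⁻¹ = y⁻¹ * x⁻¹ * c⁻¹ by group, mul_assoc c x y, rc_mul, rc_of_centralizer hc, rc_mul]
  refine ((Dec.of_norm (inv_mem hy)).trans ?_).trans ?_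
  · rw [← rc_mul, mul_inv_cancel, rc_one]
    exact Dec.of_chain hx.inv
  · rw [← rc_mul, ← rc_mul, show x * (y * (y⁻¹ * x⁻¹)) = 1 by group, rc_one]
    exact Dec.of_cent (inv_mem hc)

/-- A normal subgroup of the normalizer, Sylow intersection. -/
theorem sylow_of_normal {N K : Subgroup G} (hN : ¬ p ∣ ((P : Subgroup G) ⊓ N).relIndex N) (hKN : K ≤ N)
    (hNK : N ≤ normalizer (K : Set G)) : Grp.IsSylowIn p ((P : Subgroup G) ⊓ K) K := by
  refine ⟨inf_le_right, P.isPGroup'.to_le inf_le_left, ?_⟩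
  rw [inf_relIndex_right] at hN ⊢
  let T : Sylow p ↥N := (P.isPGroup'.comap_subtype (K := N)).toSylow hN
  haveI : (K.subgroupOf N).Normal := (normal_subgroupOf_iff_le_normalizer hKN).mpr hNK
  have h := Grp.sylow_inf_normal_relIndex T (K.subgroupOf N)
  have e : (T : Subgroup ↥N) = (P : Subgroup G).subgroupOf N := rfl
  rwa [e, relIndex_subgroupOf hKN] at h

/-- The Frattini argument. -/
theorem frattini_mem {S K : Subgroup G} (hS : Grp.IsSylowIn p S K) {x : G}
    (hx : x ∈ normalizer (K : Set G)) : ∃ u ∈ K, u⁻¹ * x ∈ normalizer (S : Set G) := by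
  have h2 := hS.smul (g := x) (Grp.mem_normalizer_iff_smul.mp hx)
  obtain ⟨u, hu, e⟩ := hS.conj h2
  refine ⟨u, hu, Grp.mem_normalizer_iff_smul.mpr ?_⟩
  rw [map_mul, mul_smul, ← e, smul_smul, ← map_mul, inv_mul_cancel, map_one, one_smul]

/-- Two normal subgroups of order divisible by `p` meeting in a `p'`-group force connectedness. -/
theorem connected_of_two {Q : Type u} [Group Q] [Finite Q] (X₁ X₂ : Subgroup Q) [X₁.Normal] [X₂.Normal]
    (h₁ : p ∣ Nat.card X₁) (h₂ : p ∣ Nat.card X₂) (hW : ¬ p ∣ Nat.card ↥(X₁ ⊓ X₂)) :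
    Cfsg.IsSylowChainConnected p Q := by
  rw [isSylowChainConnected_iff]
  obtain ⟨T⟩ : Nonempty (Sylow p Q) := inferInstance
  obtain ⟨St, hSt⟩ : ∃ St, St = sylowComponentStab T := ⟨_, rfl⟩
  have hnorm : ∀ D : Subgroup Q, D ≠ ⊥ → D ≤ (T : Subgroup Q) → normalizer (D : Set Q) ≤ St := by
    intro D hD hDT g hg
    rw [hSt]
    show SylowJoin T (g • T)
    rcases eq_or_ne T (g • T) with e | e
    · exact e ▸ .refl
    refine Relation.ReflTransGen.single ⟨e, fun hb => hD (le_bot_iff.mp (hb ▸ le_inf hDT fun d hd => ?_))⟩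
    rw [Sylow.coe_subgroup_smul, mem_pointwise_smul_iff_inv_smul_mem]
    rw [show (MulAut.conj g)⁻¹ • d = g⁻¹ * d * g⁻¹⁻¹ by simp [MulAut.smul_def]]
    exact hDT ((mem_normalizer_iff.mp (inv_mem hg) d).mp hd)
  have hsyl : ∀ X : Subgroup Q, X.Normal → Grp.IsSylowIn p ((T : Subgroup Q) ⊓ X) X := fun X hX =>
    sylow_of_normal (N := ⊤) (by rw [inf_top_eq, relIndex_top_right]; exact T.not_dvd_index) le_top
      (by rw [normalizer_eq_top_iff.mpr hX])
  have hpick : ∀ X : Subgroup Q, X.Normal → p ∣ Nat.card X → ∃ a ∈ (T : Subgroup Q) ⊓ X, orderOf a = p := by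
    intro X hX hdvd
    obtain ⟨S, hS⟩ := Grp.isSylowIn_iff.mp (hsyl X hX)
    obtain ⟨a, ha⟩ := exists_prime_orderOf_dvd_card' (G := (S : Subgroup ↥X)) p (S.dvd_card_of_dvd_card hdvd)
    refine ⟨((a : ↥X) : Q), hS.le ⟨a, a.2, rfl⟩, ?_⟩
    rw [Subgroup.orderOf_coe, Subgroup.orderOf_coe, ha]
  obtain ⟨W, hWdef⟩ : ∃ W, W = X₁ ⊓ X₂ := ⟨_, rfl⟩
  rw [← hWdef] at hW
  haveI : W.Normal := hWdef ▸ inferInstance
  obtain ⟨a, ha, hao⟩ := hpick X₁ inferInstance h₁
  obtain ⟨b, hb, hbo⟩ := hpick X₂ inferInstance h₂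
  have hWT : ∀ z ∈ W, z ∈ (T : Subgroup Q) → z = 1 := by
    intro z hz hzT
    by_contra h
    obtain ⟨k, hk⟩ := IsPGroup.iff_orderOf.mp T.isPGroup' ⟨z, hzT⟩
    rw [orderOf_mk] at hk
    rcases k with _ | k
    · exact h (orderOf_eq_one_iff.mp (by simpa using hk))
    · exact hW ((dvd_pow_self p k.succ_ne_zero).trans (hk ▸ Subgroup.orderOf_dvd_natCard W hz))
  have hab : Commute a b := by
    rw [commute_iff_eq, ← commutatorElement_eq_one_iff_mul_comm]
    refine hWT _ ?_ ?_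
    · rw [hWdef]
      refine mem_inf.mpr ⟨?_, ?_⟩
      · rw [commutatorElement_def, mul_assoc, mul_assoc]
        refine mul_mem (mem_inf.mp ha).2 ?_
        rw [← mul_assoc]
        exact (‹X₁.Normal›).conj_mem _ (inv_mem (mem_inf.mp ha).2) b
      · rw [commutatorElement_def]
        exact mul_mem ((‹X₂.Normal›).conj_mem _ (mem_inf.mp hb).2 a) (inv_mem (mem_inf.mp hb).2)
    · rw [commutatorElement_def]
      exact mul_mem (mul_mem (mul_mem (mem_inf.mp ha).1 (mem_inf.mp hb).1) (inv_mem (mem_inf.mp ha).1))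
        (inv_mem (mem_inf.mp hb).1)
  obtain ⟨E, hE⟩ : ∃ E, E = closure ({a, b} : Set Q) := ⟨_, rfl⟩
  haveI : IsMulCommutative E := hE ▸ isMulCommutative_closure (by
    rintro u (rfl | rfl) v (rfl | rfl) <;> first | rfl | exact hab.eq | exact hab.eq.symm)
  have hET : E ≤ (T : Subgroup Q) := hE ▸ (closure_le _).mpr (by
    rintro u (rfl | rfl)
    · exact (mem_inf.mp ha).1
    · exact (mem_inf.mp hb).1)
  have hcyc : ¬ IsCyclic E := by
    intro hc
    have haE : a ∈ E := hE ▸ subset_closure (by simp)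
    have hbE : b ∈ E := hE ▸ subset_closure (by simp)
    have hexp : ∀ e ∈ E, e ^ p = 1 := by
      intro e he
      rw [hE] at he
      induction he using closure_induction with
      | mem u hu =>
        rcases hu with rfl | rfl
        · rw [← hao]; exact pow_orderOf_eq_one _
        · rw [← hbo]; exact pow_orderOf_eq_one _
      | one => exact one_pow p
      | mul u v hu hv iu iv =>
        have hc : Commute u v := congrArg Subtype.val
          ((inferInstance : IsMulCommutative E).is_comm.comm ⟨u, hE ▸ hu⟩ ⟨v, hE ▸ hv⟩)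
        rw [hc.mul_pow, iu, iv, one_mul]
      | inv u _ iu => rw [inv_pow, iu, inv_one]
    obtain ⟨gen, hgen⟩ := hc.exists_generator
    have hle : zpowers a ≤ E := zpowers_le.mpr haE
    have hEa : zpowers a = E := by
      refine eq_of_le_of_card_ge hle ?_
      rw [Nat.card_zpowers, hao, ← orderOf_eq_card_of_forall_mem_zpowers hgen]
      refine Nat.le_of_dvd hp.out.pos (orderOf_dvd_of_pow_eq_one (Subtype.ext ?_))
      simpa using hexp gen gen.2
    obtain ⟨i, hi⟩ := mem_zpowers_iff.mp (hEa.ge hbE)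
    have hb1 : b ∈ X₁ := hi ▸ zpow_mem (mem_inf.mp ha).2 i
    have := hWT b (hWdef ▸ mem_inf.mpr ⟨hb1, (mem_inf.mp hb).2⟩) (mem_inf.mp hb).1
    rw [this, orderOf_one] at hbo
    exact hp.out.ne_one hbo.symm
  have hWSt : W ≤ St := by
    have hgen := Grp.generated_by_centralizers E W hcyc (by rw [normalizer_eq_top]; exact le_top) (by
      obtain ⟨k, hk⟩ := (T.isPGroup'.to_le hET).exists_card_eq
      rw [hk]
      exact (hp.out.coprime_iff_not_dvd.mpr hW).pow_left k)
    rw [← hgen]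
    refine iSup₂_le fun e he => inf_le_right.trans ?_
    rw [Grp.centralizer_singleton_eq_zpowers]
    exact (centralizer_le_normalizer _).trans (hnorm _ (fun hz => he.2 (zpowers_eq_bot.mp hz))
      (zpowers_le.mpr (hET he.1)))
  have hbne : (T : Subgroup Q) ⊓ X₂ ≠ ⊥ := fun e => by
    rw [e, mem_bot] at hb
    rw [hb, orderOf_one] at hbo
    exact hp.out.ne_one hbo.symm
  have hane : (T : Subgroup Q) ⊓ X₁ ≠ ⊥ := fun e => by
    rw [e, mem_bot] at ha
    rw [ha, orderOf_one] at hao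
    exact hp.out.ne_one hao.symm
  have hX₁ : X₁ ≤ St := by
    intro x hx
    obtain ⟨B, hB⟩ : ∃ B, B = (T : Subgroup Q) ⊓ X₂ := ⟨_, rfl⟩
    have hWX : W ⊔ B ≤ X₂ := sup_le (hWdef ▸ inf_le_right) (hB ▸ inf_le_right)
    have hS : Grp.IsSylowIn p B (W ⊔ B) := by
      refine ⟨le_sup_right, hB ▸ T.isPGroup'.to_le inf_le_left, fun h => ?_⟩
      have h2 := hsyl X₂ inferInstance
      rw [← hB] at h2
      exact h2.2.2 (h.trans (Dvd.intro _ (relIndex_mul_relIndex B (W ⊔ B) X₂ le_sup_right hWX)))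
    have hn : x ∈ normalizer ((W ⊔ B : Subgroup Q) : Set Q) := by
      refine Subgroup.mem_normalizer_fintype fun z hz => ?_
      have hm : (W ⊔ B).map (MulAut.conj x).toMonoidHom ≤ W ⊔ B := by
        rw [Subgroup.map_sup]
        refine sup_le ?_ ?_
        · rintro _ ⟨w, hw, rfl⟩
          exact mem_sup_left ((‹W.Normal›).conj_mem w hw x)
        · rintro _ ⟨c, hc, rfl⟩
          show x * c * x⁻¹ ∈ _
          rw [show x * c * x⁻¹ = (x * c * x⁻¹ * c⁻¹) * c by group]
          refine mul_mem (mem_sup_left ?_) (mem_sup_right hc)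
          rw [hWdef]
          refine mem_inf.mpr ⟨?_, ?_⟩
          · rw [mul_assoc x c, mul_assoc x]
            exact mul_mem hx ((‹X₁.Normal›).conj_mem _ (inv_mem hx) c)
          · exact mul_mem ((‹X₂.Normal›).conj_mem c (hB ▸ hc : c ∈ (T : Subgroup Q) ⊓ X₂).2 x)
              (inv_mem (hB ▸ hc : c ∈ (T : Subgroup Q) ⊓ X₂).2)
      exact hm ⟨z, hz, rfl⟩
    obtain ⟨v, hv, hvn⟩ := frattini_mem hS hn
    have hBT : B ≤ (T : Subgroup Q) := hB ▸ inf_le_left
    have hBSt : B ≤ St := le_normalizer.trans (hnorm B (hB ▸ hbne) hBT)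
    have := mul_mem (sup_le hWSt hBSt hv) (hnorm B (hB ▸ hbne) hBT hvn)
    rwa [mul_inv_cancel_left] at this
  have htop : ∀ g : Q, g ∈ St := by
    intro g
    obtain ⟨v, hv, hvn⟩ := frattini_mem (hsyl X₁ inferInstance) (x := g)
      (by rw [normalizer_eq_top]; exact mem_top g)
    have := mul_mem (hX₁ hv) (hnorm _ hane inf_le_left hvn)
    rwa [mul_inv_cancel_left] at this
  intro S S'
  obtain ⟨g, rfl⟩ := MulAction.exists_smul_eq Q T S
  obtain ⟨g', rfl⟩ := MulAction.exists_smul_eq Q T S'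
  have h1 : g ∈ sylowComponentStab T := hSt.le (htop g)
  have h2 : g' ∈ sylowComponentStab T := hSt.le (htop g')
  exact (SylowJoin.symm h1).trans h2

/-- The centralizer of a centric subgroup. -/
theorem centralizer_structure {H : Subgroup G}
    (hfull : ¬ p ∣ ((P : Subgroup G) ⊓ normalizer (H : Set G)).relIndex (normalizer (H : Set G)))
    (hc : (P : Subgroup G) ⊓ centralizer (H : Set G) ≤ H) :
    (∀ x ∈ res p (centralizer (H : Set G)), (orderOf x).Coprime p) ∧
      centralizer (H : Set G) ≤ res p (centralizer (H : Set G)) ⊔ H := by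
  obtain ⟨C, hC⟩ : ∃ C, C = centralizer (H : Set G) := ⟨_, rfl⟩
  rw [← hC] at hc ⊢
  have hCn : normalizer (H : Set G) ≤ normalizer (C : Set G) := hC ▸ fun x hx => by
    refine mem_normalizer_of_conj ?_
    rw [map_conj_centralizer, wc_map_conj_eq_iff.mpr hx]
  obtain ⟨S, hS⟩ := Grp.isSylowIn_iff.mp
    (sylow_of_normal (K := C) hfull (hC ▸ centralizer_le_normalizer _) hCn)
  have hcomp : Cfsg.HasNormalPComplement p ↥C := by
    rw [Transfer.hasNormalPComplement_iff_frobeniusCondition S]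
    intro U hU g _ _
    rw [mem_centralizer_iff]
    intro u hu
    have hu' : (u : G) ∈ H := hc (hS.le ⟨u, hU hu, rfl⟩)
    exact Subtype.ext (mem_centralizer_iff.mp (hC ▸ g.2 : (g : G) ∈ centralizer (H : Set G)) _ hu')
  refine ⟨?_, fun x hx => ?_⟩
  · rintro _ ⟨y, hy, rfl⟩
    rw [Subgroup.coe_subtype, orderOf_coe]
    exact (Transfer.mem_pResidual_iff hcomp).1 hy
  · have hm := Transfer.sylow_sup_pResidual S
    have hx' : (⟨x, hx⟩ : ↥C) ∈ (S : Subgroup ↥C) ⊔ Cfsg.pResidual p ↥C := hm ▸ mem_top _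
    have := mem_map_of_mem C.subtype hx'
    rw [Subgroup.map_sup, hS] at this
    exact sup_le (le_sup_of_le_right hc) le_sup_left this

theorem good_radical_pPrimePCore {H : Subgroup G} (h : Good P H) :
    (Cfsg.pPrimePCore p ↥(normalizer (H : Set G))).map (normalizer (H : Set G)).subtype =
        H ⊔ centralizer (H : Set G) ∧
      Cfsg.IsInternalDirectProduct
        ((Cfsg.pPrimeCore p ↥(normalizer (H : Set G))).map (normalizer (H : Set G)).subtype) H
        ((Cfsg.pPrimePCore p ↥(normalizer (H : Set G))).map (normalizer (H : Set G)).subtype) := by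
  obtain ⟨N, hN⟩ : ∃ N, N = normalizer (H : Set G) := ⟨_, rfl⟩
  obtain ⟨hres, hCle⟩ := centralizer_structure h.full h.centric
  have hrad := h.radical
  rw [← hN] at hrad ⊢
  obtain ⟨C, hC⟩ : ∃ C, C = centralizer (H : Set G) := ⟨_, rfl⟩
  rw [← hC] at hres hCle hrad ⊢
  have hCN : C ≤ N := hC ▸ hN ▸ centralizer_le_normalizer _
  have hHN : H ≤ N := hN ▸ le_normalizer
  haveI hKn := Grp.pPrimeCore_isNormal (p := p) (G := ↥N)
  obtain ⟨K, hK⟩ : ∃ K, K = (Cfsg.pPrimeCore p ↥N).map N.subtype := ⟨_, rfl⟩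
  rw [← hK]
  have hHp : IsPGroup p H := P.isPGroup'.to_le h.le
  have hKc : (Nat.card ↥K).Coprime p := by
    rw [hK, card_map_of_injective N.subtype_injective]; exact Grp.pPrimeCore_coprime
  have hinf : K ⊓ H = ⊥ := by
    obtain ⟨k, hk⟩ := hHp.exists_card_eq
    exact Grp.inf_eq_bot_of_coprime (hk ▸ hKc.pow_right k)
  haveI : (H.subgroupOf N).Normal := hN ▸ inferInstance
  have hcomm : ∀ a ∈ K, ∀ b ∈ H, a * b = b * a := by
    rw [hK]
    rintro _ ⟨a, ha, rfl⟩ b hb
    have hcop : (Nat.card ↥(Cfsg.pPrimeCore p ↥N)).Coprime (Nat.card ↥(H.subgroupOf N)) := by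
      obtain ⟨k, hk⟩ := (hHp.of_equiv (subgroupOfEquivOfLe hHN).symm).exists_card_eq
      rw [hk]; exact Grp.pPrimeCore_coprime.pow_right k
    exact congrArg Subtype.val (mem_centralizer_iff.mp (Grp.commute_of_coprime_normal hcop ha) ⟨b, hHN hb⟩ hb).symm
  have hKC : K ≤ C := hC ▸ fun a ha => mem_centralizer_iff.mpr fun b hb => (hcomm a ha b hb).symm
  have hCK : C ≤ K ⊔ H := by
    refine hCle.trans (sup_le_sup_right ?_ H)
    rw [hK]
    intro x hx
    have hxN : x ∈ N := hCN (res_le C hx)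
    haveI : ((res p C).subgroupOf N).Normal := by
      rw [normal_subgroupOf_iff_le_normalizer ((res_le C).trans hCN), hN]
      refine le_trans (fun g hg => ?_) (normalizer_le_res C)
      refine mem_normalizer_of_conj ?_
      rw [hC, map_conj_centralizer, wc_map_conj_eq_iff.mpr hg]
    have hcop : (Nat.card ↥((res p C).subgroupOf N)).Coprime p := by
      rw [Nat.coprime_comm, hp.out.coprime_iff_not_dvd]
      intro hd
      obtain ⟨z, hz⟩ := exists_prime_orderOf_dvd_card' (G := ↥((res p C).subgroupOf N)) p hd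
      have := hres _ z.2
      rw [Subgroup.coe_subtype, Subgroup.orderOf_coe, Subgroup.orderOf_coe, hz, Nat.coprime_self] at this
      exact hp.out.ne_one this
    exact ⟨⟨x, hxN⟩, Grp.le_pPrimeCore inferInstance hcop hx, rfl⟩
  let π := QuotientGroup.mk' (Cfsg.pPrimeCore p ↥N)
  have hKW : K ≤ (Cfsg.pPrimePCore p ↥N).map N.subtype := by
    rw [hK]
    refine map_mono fun x hx => ?_
    show π x ∈ Cfsg.pCore p _
    rw [show π x = 1 from (QuotientGroup.eq_one_iff x).mpr hx]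
    exact one_mem _
  have hHW : H ≤ (Cfsg.pPrimePCore p ↥N).map N.subtype := fun b hb =>
    ⟨⟨b, hHN hb⟩, Grp.le_pCore ((inferInstance : (H.subgroupOf N).Normal).map π (QuotientGroup.mk'_surjective _))
      ((hHp.of_equiv (subgroupOfEquivOfLe hHN).symm).map π) ⟨_, hb, rfl⟩, rfl⟩
  have hW : (Cfsg.pPrimePCore p ↥N).map N.subtype ≤ H ⊔ C := by
    refine hrad _ (map_subtype_le _) (fun n hn => ?_) ?_
    · refine Subgroup.mem_normalizer_fintype ?_
      rintro _ ⟨w, hw, rfl⟩
      have hWn : (Cfsg.pPrimePCore p ↥N).Normal := (Grp.pCore_isNormal (p := p)).comap π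
      exact ⟨⟨n, hn⟩ * w * ⟨n, hn⟩⁻¹, hWn.conj_mem w hw _, by simp⟩
    · rintro _ ⟨w, hw, rfl⟩
      obtain ⟨k, hk⟩ := (Grp.pCore_isPGroup (p := p) (G := ↥N ⧸ Cfsg.pPrimeCore p ↥N)) ⟨π w, hw⟩
      refine ⟨k, hKC ?_⟩
      rw [hK, ← map_pow]
      refine mem_map_of_mem _ ((QuotientGroup.eq_one_iff _).mp ?_)
      have := congrArg Subtype.val hk
      simpa [π] using this
  have heq : (Cfsg.pPrimePCore p ↥N).map N.subtype = H ⊔ C :=
    le_antisymm hW (sup_le hHW (hCK.trans (sup_le hKW hHW)))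
  refine ⟨heq, hKW, hHW, hcomm, hinf, le_antisymm (sup_le hKW hHW) ?_⟩
  rw [heq]
  exact sup_le le_sup_right hCK

/-- The inductive step inside the normalizer of a fully normalized subgroup. -/
theorem normalizer_dec {Q : Subgroup G} (hQP : Q ≤ (P : Subgroup G)) (hQne : Q ≠ (P : Subgroup G))
    (hfull : ¬ p ∣ ((P : Subgroup G) ⊓ normalizer (Q : Set G)).relIndex (normalizer (Q : Set G)))
    (IH : ∀ D : Subgroup G, D ≤ (P : Subgroup G) → Nat.card Q < Nat.card D →
      ∀ m : G, rc m (D : Set G) ⊆ (P : Subgroup G) → Dec P (D : Set G) m)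
    {n : G} (hn : n ∈ normalizer (Q : Set G)) : Dec P (Q : Set G) n := by
  obtain ⟨N, hN⟩ : ∃ N, N = normalizer (Q : Set G) := ⟨_, rfl⟩
  rw [← hN] at hfull hn
  obtain ⟨C, hC⟩ : ∃ C, C = centralizer (Q : Set G) := ⟨_, rfl⟩
  have hrc : ∀ m ∈ N, rc m (Q : Set G) = Q := fun m hm => by
    rw [rc_coe, wc_map_conj_eq_iff.mpr (inv_mem (hN ▸ hm : m ∈ normalizer (Q : Set G)))]
  obtain ⟨M, hM⟩ : ∃ M : Subgroup G, ∀ m, m ∈ M ↔ m ∈ N ∧ Dec P (Q : Set G) m := by
    refine ⟨{ carrier := {m | m ∈ N ∧ Dec P (Q : Set G) m}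
              one_mem' := ⟨one_mem _, Dec.of_cent (one_mem _)⟩
              mul_mem' := fun {a b} ha hb => ⟨mul_mem ha.1 hb.1, ha.2.trans ((hrc a ha.1).symm ▸ hb.2)⟩
              inv_mem' := fun {a} ha => ⟨inv_mem ha.1, by
                have := ha.2.inv
                rwa [hrc a ha.1] at this⟩ }, fun _ => Iff.rfl⟩
  have hF : ∀ D : Subgroup G, Q ≤ D → D ≤ (P : Subgroup G) → D ≠ Q → ∀ m ∈ N,
      rc m (D : Set G) ⊆ (P : Subgroup G) → m ∈ M := by
    intro D hQD hDP hne m hm hmD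
    refine (hM m).mpr ⟨hm, (IH D hDP ?_ m hmD).mono hQD⟩
    by_contra hle
    exact hne (eq_of_le_of_card_ge hQD (not_lt.mp hle)).symm
  have hFn : ∀ D : Subgroup G, Q ≤ D → D ≤ (P : Subgroup G) → D ≠ Q → ∀ m ∈ N,
      m ∈ normalizer (D : Set G) → m ∈ M := fun D hQD hDP hne m hm hmD =>
    hF D hQD hDP hne m hm ((rc_subset_of_normalizer hmD subset_rfl).trans hDP)
  have hCM : C ≤ M := fun c hc =>
    (hM c).mpr ⟨hN ▸ centralizer_le_normalizer _ (hC ▸ hc), Dec.of_cent (hC ▸ hc)⟩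
  obtain ⟨T, hT⟩ : ∃ T, T = (P : Subgroup G) ⊓ N := ⟨_, rfl⟩
  have hQT : Q ≤ T := hT ▸ le_inf hQP (hN ▸ le_normalizer)
  have hTne : T ≠ Q := fun e => by
    have h := Transfer.lt_inf_normalizer P (lt_of_le_of_ne hQP hQne)
    rw [← hN, ← hT, e] at h
    exact lt_irrefl _ h
  have hTM : T ≤ M := fun t ht =>
    hFn T hQT (hT ▸ inf_le_left) hTne t (hT ▸ ht : t ∈ (P : Subgroup G) ⊓ N).2 (le_normalizer ht)
  suffices hall : N ≤ M from ((hM n).mp (hall hn)).2
  -- the Frattini argument over a normal subgroup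
  have hfrat : ∀ K : Subgroup G, K ≤ N → N ≤ normalizer (K : Set G) → ¬ (P : Subgroup G) ⊓ K ≤ Q →
      K ≤ M → N ≤ M := by
    intro K hKN hNK hne hKM m hm
    obtain ⟨v, hv, hvn⟩ := frattini_mem (sylow_of_normal hfull hKN hNK) (hNK hm)
    have hvN : v⁻¹ * m ∈ N := mul_mem (inv_mem (hKN hv)) hm
    have h2 : v⁻¹ * m ∈ M := by
      refine hFn (Q ⊔ (P : Subgroup G) ⊓ K) le_sup_left (sup_le hQP inf_le_left)
        (fun e => hne (e ▸ le_sup_right)) _ hvN (mem_normalizer_of_conj ?_)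
      rw [Subgroup.map_sup, wc_map_conj_eq_iff.mpr hvn,
        wc_map_conj_eq_iff.mpr (hN ▸ hvN : v⁻¹ * m ∈ normalizer (Q : Set G))]
    have := mul_mem (hKM hv) h2
    rwa [mul_inv_cancel_left] at this
  have hNC : N ≤ normalizer (C : Set G) := fun x hx => mem_normalizer_of_conj (by
    rw [hC, map_conj_centralizer, wc_map_conj_eq_iff.mpr (hN ▸ hx : x ∈ normalizer (Q : Set G))])
  by_cases hcent : (P : Subgroup G) ⊓ C ≤ Q
  swap
  · exact hfrat C (hC ▸ hN ▸ centralizer_le_normalizer _) hNC hcent hCM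
  by_cases hrad : ∀ V : Subgroup G, V ≤ N → N ≤ normalizer (V : Set G) →
      (∀ x ∈ V, ∃ k, x ^ p ^ k ∈ C) → V ≤ Q ⊔ C
  swap
  · push Not at hrad
    obtain ⟨V, hVN, hNV, hVp, hVle⟩ := hrad
    have hdec : V ≤ res p V ⊔ ((P : Subgroup G) ⊓ V) := by
      obtain ⟨S, hS⟩ := Grp.isSylowIn_iff.mp (sylow_of_normal hfull hVN hNV)
      intro x hx
      have hx' : (⟨x, hx⟩ : ↥V) ∈ (S : Subgroup ↥V) ⊔ Cfsg.pResidual p ↥V :=
        (Transfer.sylow_sup_pResidual S).ge (mem_top _)
      have := mem_map_of_mem V.subtype hx'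
      rw [Subgroup.map_sup, hS, sup_comm] at this
      exact this
    have hresC : res p V ≤ C := res_le_of_pow hVp
    refine hfrat V hVN hNV (fun hle => hVle (hdec.trans (sup_le (hresC.trans le_sup_right) (hle.trans le_sup_left)))) ?_
    exact hdec.trans (sup_le (hresC.trans hCM) (le_trans (hT ▸ inf_le_inf_left _ hVN) hTM))
  have hgood : Good P Q := by
    subst hN hC
    exact ⟨hQP, hfull, hcent, hrad⟩
  have hQN : Q ≤ N := hN ▸ le_normalizer
  haveI hQn : (Q.subgroupOf N).Normal := hN ▸ inferInstance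
  let π := QuotientGroup.mk' (Q.subgroupOf N)
  let T₀ : Sylow p ↥N := (P.isPGroup'.comap_subtype (K := N)).toSylow (by
    rw [inf_relIndex_right] at hfull; exact hfull)
  let Tb : Sylow p (↥N ⧸ Q.subgroupOf N) := T₀.mapSurjective (QuotientGroup.mk'_surjective _)
  have hQker : ∀ z : ↥N, π z = 1 ↔ (z : G) ∈ Q := fun z => (QuotientGroup.eq_one_iff z).trans mem_subgroupOf
  have hTmem : ∀ z : ↥N, π z ∈ (Tb : Subgroup (↥N ⧸ Q.subgroupOf N)) → (z : G) ∈ (P : Subgroup G) := by
    intro z hz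
    rw [Sylow.coe_mapSurjective] at hz
    obtain ⟨t, ht, e⟩ := hz
    have hq : ((t⁻¹ * z : ↥N) : G) ∈ Q := (hQker _).mp (by rw [map_mul, map_inv, e, inv_mul_cancel])
    have := mul_mem (show (t : G) ∈ (P : Subgroup G) from ht) (hQP hq)
    rwa [Subgroup.coe_mul, Subgroup.coe_inv, mul_inv_cancel_left] at this
  by_cases hconn : Cfsg.IsSylowChainConnected p (↥N ⧸ Q.subgroupOf N)
  · rw [isSylowChainConnected_iff] at hconn
    have hedge : ∀ m : ↥N, (Tb : Subgroup (↥N ⧸ Q.subgroupOf N)) ⊓ (π m • Tb : Sylow p _) ≠ ⊥ → (m : G) ∈ M := by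
      intro m hm
      obtain ⟨⟨z, hz⟩, hz1⟩ := Subgroup.ne_bot_iff_exists_ne_one.mp hm
      obtain ⟨z, rfl⟩ := QuotientGroup.mk'_surjective _ z
      obtain ⟨hzT, hzm⟩ := mem_inf.mp hz
      have hzP := hTmem z hzT
      have hzP' : (m : G)⁻¹ * (z : G) * m ∈ (P : Subgroup G) := by
        rw [Sylow.coe_subgroup_smul, mem_pointwise_smul_iff_inv_smul_mem] at hzm
        have h3 : π (m⁻¹ * z * m) ∈ (Tb : Subgroup (↥N ⧸ Q.subgroupOf N)) := by
          have e : ((MulAut.conj (π m))⁻¹ • π z) = π (m⁻¹ * z * m) := by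
            rw [map_mul π, map_mul π, map_inv π]
            simp [MulAut.smul_def]
          rwa [e] at hzm
        simpa using hTmem _ h3
      refine hF (Q ⊔ zpowers (z : G)) le_sup_left (sup_le hQP (zpowers_le.mpr hzP)) (fun e => ?_) _ m.2 ?_
      · exact hz1 (Subtype.ext ((hQker z).mpr (e ▸ mem_sup_right (mem_zpowers _))))
      · rw [rc_coe, Subgroup.map_sup,
          wc_map_conj_eq_iff.mpr (inv_mem (hN ▸ m.2 : (m : G) ∈ normalizer (Q : Set G))), MonoidHom.map_zpowers]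
        exact sup_le hQP (zpowers_le.mpr (by simpa using hzP'))
    have hstab : ∀ m : ↥N, π m • Tb = Tb → (m : G) ∈ M := by
      intro m hm
      refine hedge m ?_
      rw [hm, inf_idem]
      intro hb
      apply hTne
      refine le_antisymm (fun t ht => ?_) hQT
      obtain ⟨htP, htN⟩ := mem_inf.mp (hT ▸ ht : t ∈ (P : Subgroup G) ⊓ N)
      refine (hQker ⟨t, htN⟩).mp (mem_bot.mp (hb ▸ ?_))
      rw [Sylow.coe_mapSurjective]
      exact ⟨⟨t, htN⟩, htP, rfl⟩
    intro m hm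
    have key : ∀ S : Sylow p (↥N ⧸ Q.subgroupOf N), SylowJoin Tb S → ∀ a : ↥N, π a • Tb = S → (a : G) ∈ M := by
      intro S hS
      induction hS with
      | refl => exact hstab
      | @tail S₁ S₂ _ hadj ih =>
        intro a ha
        obtain ⟨b, hb⟩ : ∃ b : ↥N, π b • Tb = S₁ := by
          obtain ⟨g, hg⟩ := MulAction.exists_smul_eq (↥N ⧸ Q.subgroupOf N) Tb S₁
          obtain ⟨b, rfl⟩ := QuotientGroup.mk'_surjective _ g
          exact ⟨b, hg⟩
        have h1 := ih b hb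
        have h2 : ((b⁻¹ * a : ↥N) : G) ∈ M := by
          refine hedge _ fun e => hadj.2 ?_
          rw [← hb, ← ha]
          have : π a = π b * π (b⁻¹ * a) := by rw [← map_mul, mul_inv_cancel_left]
          rw [this, mul_smul, Sylow.coe_subgroup_smul, Sylow.coe_subgroup_smul, ← Subgroup.smul_inf, e, Subgroup.smul_bot]
        have := mul_mem h1 h2
        rwa [Subgroup.coe_mul, Subgroup.coe_inv, mul_inv_cancel_left] at this
    exact key _ (hconn Tb (π ⟨m, hm⟩ • Tb)) ⟨m, hm⟩ rfl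
  -- the disconnected case
  have hdvd : p ∣ Q.relIndex N := by
    have h1 : Q.relIndex T ∣ Q.relIndex N := Dvd.intro _ (relIndex_mul_relIndex Q T N hQT (hT ▸ inf_le_right))
    refine dvd_trans ?_ h1
    obtain ⟨k, hk⟩ := ((P.isPGroup'.to_le (hT ▸ inf_le_left : T ≤ (P : Subgroup G))).index (Q.subgroupOf T))
    change Q.relIndex T = _ at hk
    rcases k with _ | k
    · rw [pow_zero] at hk
      exact absurd (relIndex_eq_one.mp hk) (fun h => hTne (le_antisymm h hQT))
    · exact hk ▸ dvd_pow_self p k.succ_ne_zero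
  have hOver : ∀ Y : Subgroup G, Over p Q Y ↔ Q ≤ Y ∧ Y ≤ N ∧ N ≤ normalizer (Y : Set G) ∧ p ∣ Q.relIndex Y :=
    fun Y => by rw [Over, hN]
  obtain ⟨X, hX, hXmin⟩ := exists_minimal_of_wellFoundedLT (fun Y => Over p Q Y)
    ⟨N, (hOver N).mpr ⟨hQN, le_rfl, le_normalizer, hdvd⟩⟩
  have hcardmap : ∀ Y : Subgroup G, Y ≤ N →
      Nat.card ↥((Y.subgroupOf N).map π) = Q.relIndex Y := by
    intro Y hYN
    rw [← relIndex_bot_left, ← relIndex_comap, MonoidHom.comap_bot, QuotientGroup.ker_mk', relIndex_subgroupOf hYN]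
  have hXleast : ∀ Y, Over p Q Y → X ≤ Y := by
    intro Y hY
    obtain ⟨hX1, hX2, hX3, hX4⟩ := (hOver X).mp hX
    obtain ⟨hY1, hY2, hY3, hY4⟩ := (hOver Y).mp hY
    refine le_inf_iff.mp (hXmin (y := X ⊓ Y) ?_ inf_le_left) |>.2
    refine (hOver _).mpr ⟨le_inf hX1 hY1, inf_le_left.trans hX2, fun g hg => mem_normalizer_of_conj (by
      rw [map_inf_eq (f := (MulAut.conj g).toMonoidHom) _ _ (MulAut.conj g).injective,
        wc_map_conj_eq_iff.mpr (hX3 hg), wc_map_conj_eq_iff.mpr (hY3 hg)]), ?_⟩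
    by_contra hnd
    apply hconn
    haveI : (X.subgroupOf N).Normal := (normal_subgroupOf_iff_le_normalizer hX2).mpr hX3
    haveI : (Y.subgroupOf N).Normal := (normal_subgroupOf_iff_le_normalizer hY2).mpr hY3
    haveI : ((X.subgroupOf N).map π).Normal := (inferInstance : (X.subgroupOf N).Normal).map π (QuotientGroup.mk'_surjective _)
    haveI : ((Y.subgroupOf N).map π).Normal := (inferInstance : (Y.subgroupOf N).Normal).map π (QuotientGroup.mk'_surjective _)
    refine connected_of_two ((X.subgroupOf N).map π) ((Y.subgroupOf N).map π)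
      (by rwa [hcardmap X hX2]) (by rwa [hcardmap Y hY2]) ?_
    rw [← hcardmap (X ⊓ Y) (inf_le_left.trans hX2)] at hnd
    intro h
    apply hnd
    refine h.trans (dvd_of_eq (congrArg (fun S : Subgroup (↥N ⧸ Q.subgroupOf N) => Nat.card ↥S) ?_))
    refine le_antisymm (fun z hz => ?_) (le_inf (map_mono (comap_mono inf_le_left)) (map_mono (comap_mono inf_le_right)))
    obtain ⟨⟨x, hx, rfl⟩, y, hy, e⟩ := mem_inf.mp hz
    refine ⟨x, mem_inf.mpr ⟨hx, ?_⟩, rfl⟩
    have hq : ((y⁻¹ * x : ↥N) : G) ∈ Q := (hQker _).mp (by rw [map_mul, map_inv, e, inv_mul_cancel])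
    have := mul_mem (show (y : G) ∈ Y from hy) (hY1 hq)
    rwa [Subgroup.coe_mul, Subgroup.coe_inv, mul_inv_cancel_left] at this
  obtain ⟨hX1, hX2, hX3, hX4⟩ := (hOver X).mp hX
  have hconn' : ¬ Cfsg.IsSylowChainConnected p (↥(normalizer (Q : Set G)) ⧸ Q.subgroupOf (normalizer (Q : Set G))) := by
    subst hN; exact hconn
  obtain ⟨S, hS⟩ := Grp.isSylowIn_iff.mp (sylow_of_normal hfull hX2 hX3)
  have hPX : ¬ (P : Subgroup G) ⊓ X ≤ Q := by
    intro hle
    have h2 := (sylow_of_normal hfull hX2 hX3).2.2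
    exact h2 (hX4.trans (relIndex_dvd_of_le_left X hle))
  refine hfrat X hX2 hX3 hPX ?_
  intro x hx
  have hx' : (⟨x, hx⟩ : ↥X) ∈ (S : Subgroup ↥X) ⊔ Cfsg.pResidual p ↥X :=
    (Transfer.sylow_sup_pResidual S).ge (mem_top _)
  have hx2 := mem_map_of_mem X.subtype hx'
  rw [Subgroup.map_sup, hS] at hx2
  refine sup_le (le_trans (hT ▸ inf_le_inf_left _ hX2) hTM) ?_ hx2
  intro r hr
  refine (hM r).mpr ⟨hX2 (res_le X hr), Dec.of_chain (Chain.single (H := Q) ⟨hgood, hconn', X, hX, hXleast, hr⟩ subset_rfl)⟩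

/-- Every conjugation inside the Sylow subgroup decomposes. -/
theorem dec_all (P : Sylow p G) : ∀ (d : ℕ) (Q : Subgroup G), Q ≤ (P : Subgroup G) →
    Nat.card ↥(P : Subgroup G) - Nat.card Q = d → ∀ g : G, rc g (Q : Set G) ⊆ (P : Subgroup G) →
      Dec P (Q : Set G) g := by
  intro d
  induction d using Nat.strong_induction_on with
  | _ d ih =>
    intro Q hQP hd g hg
    have hgQ : Q.map (MulAut.conj g⁻¹).toMonoidHom ≤ (P : Subgroup G) := by
      rw [rc_coe] at hg; exact hg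
    rcases eq_or_ne Q (P : Subgroup G) with rfl | hne
    · refine Dec.of_norm (inv_mem_iff.mp (wc_map_conj_eq_iff.mp ?_))
      exact eq_of_le_of_card_ge hgQ (card_map_of_injective (MulAut.conj g⁻¹).injective).ge
    have IH : ∀ Q' : Subgroup G, Nat.card Q' = Nat.card Q → ∀ D : Subgroup G, D ≤ (P : Subgroup G) →
        Nat.card Q' < Nat.card D → ∀ m : G, rc m (D : Set G) ⊆ (P : Subgroup G) → Dec P (D : Set G) m :=
      fun Q' hQ' D hD hlt m hm => ih _ (by
        have := Nat.le_of_dvd Nat.card_pos (card_dvd_of_le hD)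
        omega) D hD rfl m hm
    have hbig : ∀ R : Subgroup G, R ≤ (P : Subgroup G) → Nat.card R = Nat.card Q → R ≠ (P : Subgroup G) →
        ∀ a : G, rc a (((P : Subgroup G) ⊓ normalizer (R : Set G) : Subgroup G) : Set G) ⊆ (P : Subgroup G) →
          Dec P (R : Set G) a := by
      intro R hR hRc hRne a ha
      have hlt := Transfer.lt_inf_normalizer P (lt_of_le_of_ne hR hRne)
      refine (IH R hRc _ inf_le_left ?_ a ha).mono hlt.le
      by_contra hle
      exact hlt.ne (eq_of_le_of_card_ge hlt.le (not_lt.mp hle))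
    -- a fully normalized conjugate
    obtain ⟨U, hU⟩ := ((P.isPGroup'.to_le (inf_le_left : (P : Subgroup G) ⊓ normalizer (Q : Set G) ≤ _)).comap_subtype
      (K := normalizer (Q : Set G))).exists_le_sylow
    obtain ⟨S, hS⟩ := (U.isPGroup'.map (normalizer (Q : Set G)).subtype).exists_le_sylow
    obtain ⟨h₀, hh₀⟩ := MulAction.exists_smul_eq G S P
    obtain ⟨h, hh⟩ : ∃ h, h = h₀⁻¹ := ⟨_, rfl⟩
    have hSP : ∀ z ∈ (S : Subgroup G), h⁻¹ * z * h ∈ (P : Subgroup G) := fun z hz => by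
      rw [← hh₀, Transfer.mem_smul_sylow, hh]
      simpa [mul_assoc] using hz
    have hUS : (P : Subgroup G) ⊓ normalizer (Q : Set G) ≤ (S : Subgroup G) := fun z hz =>
      hS ⟨⟨z, hz.2⟩, hU hz, rfl⟩
    obtain ⟨Q', hQ'⟩ : ∃ Q', Q' = Q.map (MulAut.conj h⁻¹).toMonoidHom := ⟨_, rfl⟩
    have hdecH : Dec P (Q : Set G) h := hbig Q hQP rfl hne h (by
      rintro _ ⟨z, hz, rfl⟩
      exact hSP z (hUS hz))
    have hQc : Nat.card Q' = Nat.card Q := by rw [hQ', card_map_of_injective (MulAut.conj h⁻¹).injective]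
    have hQ'P : Q' ≤ (P : Subgroup G) := by
      rw [hQ']
      rintro _ ⟨z, hz, rfl⟩
      simpa using hSP z (hUS ⟨hQP hz, le_normalizer hz⟩)
    have hQ'ne : Q' ≠ (P : Subgroup G) := fun e => hne (eq_of_le_of_card_ge hQP (by rw [← hQc, e]))
    have hfull : ¬ p ∣ ((P : Subgroup G) ⊓ normalizer (Q' : Set G)).relIndex (normalizer (Q' : Set G)) := by
      obtain ⟨U', hU'⟩ : ∃ U', U' = (U : Subgroup ↥(normalizer (Q : Set G))).map (normalizer (Q : Set G)).subtype := ⟨_, rfl⟩
      have hUs := Grp.isSylowIn_iff.mpr ⟨U, hU'.symm⟩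
      have hle : U'.map (MulAut.conj h⁻¹).toMonoidHom ≤ (P : Subgroup G) ⊓ normalizer (Q' : Set G) := by
        refine le_inf ?_ ?_
        · rintro _ ⟨z, hz, rfl⟩
          simpa using hSP z (hS (hU' ▸ hz))
        · rw [hQ', ← map_conj_normalizer]
          exact map_mono hUs.1
      intro hd'
      apply hUs.2.2
      rw [← relIndex_map_map_of_injective (f := (MulAut.conj h⁻¹).toMonoidHom) _ _ (MulAut.conj h⁻¹).injective,
        map_conj_normalizer, ← hQ']
      exact hd'.trans (relIndex_dvd_of_le_left _ hle)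
    -- move the image back
    obtain ⟨R, hR⟩ : ∃ R, R = Q.map (MulAut.conj g⁻¹).toMonoidHom := ⟨_, rfl⟩
    have hRP : R ≤ (P : Subgroup G) := hR ▸ hgQ
    have hRc : Nat.card R = Nat.card Q := by rw [hR, card_map_of_injective (MulAut.conj g⁻¹).injective]
    have hRne : R ≠ (P : Subgroup G) := fun e => hne (eq_of_le_of_card_ge hQP (by rw [← hRc, e]))
    obtain ⟨a, ha⟩ : ∃ a, a = g⁻¹ * h := ⟨_, rfl⟩
    have hRa : R.map (MulAut.conj a⁻¹).toMonoidHom = Q' := by
      rw [hR, hQ', conj_map_trans, show a⁻¹ * g⁻¹ = h⁻¹ by rw [ha]; group]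
    obtain ⟨Y, hY⟩ : ∃ Y, Y = ((P : Subgroup G) ⊓ normalizer (R : Set G)).map (MulAut.conj a⁻¹).toMonoidHom := ⟨_, rfl⟩
    have hYN : Y ≤ normalizer (Q' : Set G) := by
      rw [hY, ← hRa, ← map_conj_normalizer]
      exact map_mono inf_le_right
    have hYp : IsPGroup p Y := hY ▸ (P.isPGroup'.to_le inf_le_left).map _
    obtain ⟨V, hV⟩ := (hYp.comap_subtype (K := normalizer (Q' : Set G))).exists_le_sylow
    have hT : Grp.IsSylowIn p ((P : Subgroup G) ⊓ normalizer (Q' : Set G)) (normalizer (Q' : Set G)) :=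
      ⟨inf_le_right, P.isPGroup'.to_le inf_le_left, hfull⟩
    obtain ⟨n₀, hn₀, hconjV⟩ := (Grp.isSylowIn_iff.mpr ⟨V, rfl⟩).conj hT
    obtain ⟨n, hn⟩ : ∃ n, n = n₀⁻¹ := ⟨_, rfl⟩
    have hnN : n ∈ normalizer (Q' : Set G) := hn ▸ inv_mem hn₀
    have hdecR : Dec P (R : Set G) (a * n) := hbig R hRP hRc hRne _ (by
      rw [rc_mul]
      rintro _ ⟨_, ⟨z, hz, rfl⟩, rfl⟩
      have hzY : a⁻¹ * z * a ∈ Y := hY ▸ ⟨z, hz, by simp⟩
      have h1 : n₀ * (a⁻¹ * z * a) * n₀⁻¹ ∈ MulAut.conj n₀ •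
          ((V : Subgroup ↥(normalizer (Q' : Set G))).map (normalizer (Q' : Set G)).subtype) :=
        smul_mem_pointwise_smul _ _ _ ⟨⟨_, hYN hzY⟩, hV hzY, rfl⟩
      rw [hconjV] at h1
      have h2 := (mem_inf.mp h1).1
      rw [hn, inv_inv]
      exact h2)
    have hback : Dec P (Q' : Set G) (a * n)⁻¹ := by
      have h1 := hdecR.inv
      rwa [rc_mul, rc_coe a, hRa, rc_coe n, wc_map_conj_eq_iff.mpr (inv_mem hnN)] at h1
    have hmid : Dec P (Q' : Set G) n :=
      normalizer_dec hQ'P hQ'ne hfull (IH Q' hQc) hnN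
    have hfin : Dec P (Q : Set G) (h * (n * (a * n)⁻¹)) := by
      refine hdecH.trans ?_
      rw [rc_coe, ← hQ']
      refine hmid.trans ?_
      rwa [rc_coe, wc_map_conj_eq_iff.mpr (inv_mem hnN)]
    have e : h * (n * (a * n)⁻¹) = g := by rw [ha]; group
    rwa [e] at hfin

theorem dec (P : Sylow p G) {A : Set G} (hA : A ⊆ (P : Set G)) {g : G} (hg : rc g A ⊆ (P : Set G)) :
    Dec P A g := by
  have hle : closure A ≤ (P : Subgroup G) := (closure_le _).mpr hA
  refine (dec_all P _ (closure A) hle rfl g ?_).mono subset_closure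
  rw [rc_coe, MonoidHom.map_closure]
  refine (closure_le _).mpr ?_
  rintro _ ⟨a, ha, rfl⟩
  exact hg ⟨a, ha, by simp⟩

/-- The list form of a chain. -/
theorem Chain.exists_list {P : Sylow p G} {A : Set G} {x : G} (h : Chain P A x) :
    ∃ (n : ℕ) (H : Fin n → Subgroup G) (z : Fin n → G), (List.ofFn z).prod = x ∧
      ∀ i : Fin n, Step P (H i) (z i) ∧ rc ((List.ofFn z).take i.val).prod A ⊆ H i := by
  induction h with
  | nil A => exact ⟨0, Fin.elim0, Fin.elim0, by simp, fun i => i.elim0⟩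
  | @cons A H₀ x₀ y hs hA _ ih =>
    obtain ⟨n, H, z, hprod, hall⟩ := ih
    refine ⟨n + 1, Fin.cons H₀ H, Fin.cons x₀ z, by rw [List.ofFn_cons, List.prod_cons, hprod], fun i => ?_⟩
    rw [List.ofFn_cons]
    refine Fin.cases ?_ (fun j => ?_) i
    · simp only [Fin.cons_zero, Fin.val_zero, List.take_zero, List.prod_nil, rc_one]
      exact ⟨hs, hA⟩
    · simp only [Fin.cons_succ, Fin.val_succ, List.take_succ_cons, List.prod_cons, rc_mul]
      exact hall j

theorem good_sylow (P : Sylow p G) : Good P (P : Subgroup G) := by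
  have hfull : ¬ p ∣ ((P : Subgroup G) ⊓ normalizer ((P : Subgroup G) : Set G)).relIndex
      (normalizer ((P : Subgroup G) : Set G)) := by
    rw [inf_eq_left.mpr le_normalizer]
    exact fun h => P.not_dvd_index (h.trans (relIndex_dvd_index_of_le le_normalizer))
  refine ⟨le_rfl, hfull, inf_le_left, fun V hVN hNV hV => ?_⟩
  obtain ⟨S, hS⟩ := Grp.isSylowIn_iff.mp (sylow_of_normal hfull hVN hNV)
  intro x hx
  have hx' : (⟨x, hx⟩ : ↥V) ∈ (S : Subgroup ↥V) ⊔ Cfsg.pResidual p ↥V :=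
    (Transfer.sylow_sup_pResidual S).ge (mem_top _)
  have := mem_map_of_mem V.subtype hx'
  rw [Subgroup.map_sup, hS] at this
  exact sup_le (inf_le_left.trans le_sup_left) ((res_le_of_pow hV).trans le_sup_right) this

end Cfsg.Agent.Invol.StrongAlperin

namespace Cfsg.Agent.Invol.StrongAlperin

open Subgroup

universe u

variable {G : Type u} [Group G] [Finite G] {p : ℕ} [hp : Fact p.Prime]

/-- The list of normalizer steps, the last one in the normalizer of the Sylow subgroup. -/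
theorem exists_steps {P : Sylow p G} {A : Set G} {x : G} (h : Chain P A x) {y : G}
    (hy : y ∈ normalizer ((P : Subgroup G) : Set G)) (hx : rc x A ⊆ (P : Subgroup G)) :
    ∃ (n : ℕ) (D : Fin n → Subgroup G) (z : Fin n → G), 0 < n ∧ (List.ofFn z).prod = x * y ∧
      ∀ i : Fin n, Good P (D i) ∧ z i ∈ normalizer (D i : Set G) ∧
        rc ((List.ofFn z).take i.val).prod A ⊆ D i := by
  induction h with
  | nil A =>
    refine ⟨1, fun _ => (P : Subgroup G), fun _ => y, Nat.one_pos, by simp, fun i => ⟨good_sylow P, hy, ?_⟩⟩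
    rw [Fin.fin_one_eq_zero i]
    simpa [rc_one] using hx
  | @cons A H₀ x₀ w hs hA _ ih =>
    obtain ⟨n, D, z, -, hprod, hall⟩ := ih (by rwa [← rc_mul])
    refine ⟨n + 1, Fin.cons H₀ D, Fin.cons x₀ z, n.succ_pos,
      by rw [List.ofFn_cons, List.prod_cons, hprod, mul_assoc], fun i => ?_⟩
    rw [List.ofFn_cons]
    refine Fin.cases ?_ (fun j => ?_) i
    · simp only [Fin.cons_zero, Fin.val_zero, List.take_zero, List.prod_nil, rc_one]
      exact ⟨hs.1, hs.mem_normalizer, hA⟩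
    · simp only [Fin.cons_succ, Fin.val_succ, List.take_succ_cons, List.prod_cons, rc_mul]
      exact hall j

end Cfsg.Agent.Invol.StrongAlperin
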