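import Cfsg.Prelude
import Cfsg.Agent.Lib.Grp.Cores
import Cfsg.Agent.Lib.Grp.Coprime
import Cfsg.Agent.Lib.Grp.Components
import Cfsg.Agent.Lib.Invol.PResidual
import Cfsg.Agent.S2790
import Cfsg.Agent.S2905

/-!
An isolated `p`-minimal subgroup: a normal subgroup either contains the normal closure `Y` of `O^p(P)` or lies in `L`,
and in the second case its commutator with `Y` lies in the `p`-core. In the solvable case this forces `Y = O^p(P)`.
-/

set_option autoImplicit false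

open scoped commutatorElement Pointwise

namespace Cfsg.Agent.Invol.Isolated

open Subgroup

universe u

variable {G : Type u} [Group G] [Finite G] {p : ℕ} [Fact p.Prime]

/-- A subgroup containing a Sylow `p`-subgroup is generated by the normalizer of it and the `p`-minimal subgroups. -/
theorem gen_le (S : Sylow p G) (K : Subgroup G) : ∀ X : Subgroup G, (S : Subgroup G) ≤ X →
    normalizer ((S : Subgroup G) : Set G) ⊓ X ≤ K →
    (∀ P' : Subgroup G, (S : Subgroup G) ≤ P' → P' ≤ X → Cfsg.IsPMinimal p ↥P' → P' ≤ K) → X ≤ K := by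
  intro X
  induction h : Nat.card ↥X using Nat.strong_induction_on generalizing X with
  | _ n ih =>
  intro hSX hN hP
  subst h
  by_cases hnorm : X ≤ normalizer ((S : Subgroup G) : Set G)
  · exact (le_inf hnorm le_rfl).trans hN
  by_cases huniq : ∃! M : Subgroup ↥X, IsCoatom M ∧ (S.subtype hSX : Subgroup ↥X) ≤ M
  · exact hP X hSX le_rfl (S2790.of_one (S.subtype hSX)
      (fun h => hnorm ((normal_subgroupOf_iff_le_normalizer hSX).mp h)) huniq)
  have hne : (S.subtype hSX : Subgroup ↥X) ≠ ⊤ := fun h => hnorm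
    ((subgroupOf_eq_top.mp h).trans le_normalizer)
  obtain ⟨M₁, hM₁, hle₁⟩ := (eq_top_or_exists_le_coatom _).resolve_left hne
  obtain ⟨M₂, ⟨hM₂, hle₂⟩, hne₂⟩ : ∃ M₂, (IsCoatom M₂ ∧ (S.subtype hSX : Subgroup ↥X) ≤ M₂) ∧ M₂ ≠ M₁ := by
    by_contra h
    push Not at h
    exact huniq ⟨M₁, ⟨hM₁, hle₁⟩, h⟩
  have hsub : ∀ M : Subgroup ↥X, IsCoatom M → (S.subtype hSX : Subgroup ↥X) ≤ M → M.map X.subtype ≤ K :=
    fun M hM hle => ih _ (by
      rw [card_map_of_injective (subtype_injective _)]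
      exact Grp.card_lt_of_ne_top hM.1) _ rfl (fun x hx => ⟨⟨x, hSX hx⟩, hle hx, rfl⟩)
      ((inf_le_inf_left _ (map_subtype_le M)).trans hN)
      (fun P' h1 h2 h3 => hP P' h1 (h2.trans (map_subtype_le M)) h3)
  have htop : M₁ ⊔ M₂ = ⊤ := hM₁.2 _ (lt_of_le_of_ne le_sup_left fun h =>
    hne₂ ((hM₂.le_iff.mp (h ▸ le_sup_right : M₂ ≤ M₁)).resolve_left hM₁.1).symm)
  intro x hx
  have h1 : (⟨x, hx⟩ : ↥X) ∈ M₁ ⊔ M₂ := htop ▸ mem_top _
  have h2 := mem_map_of_mem X.subtype h1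
  rw [Subgroup.map_sup] at h2
  exact sup_le (hsub M₁ hM₁ hle₁) (hsub M₂ hM₂ hle₂) h2

omit [Fact p.Prime] in
/-- Elements of order prime to `p` of `E ⊔ Q` lie in `E`. -/
theorem mem_of_coprime {E Q : Subgroup G} (hQ : IsPGroup p Q) (hQE : Q ≤ normalizer (E : Set G)) {g : G}
    (hg : g ∈ E ⊔ Q) (hgo : (orderOf g).Coprime p) : g ∈ E := by
  rw [← SetLike.mem_coe, Subgroup.coe_mul_of_right_le_normalizer_left _ _ hQE] at hg
  obtain ⟨k, hk, j, hj, rfl⟩ := hg
  haveI : (E.subgroupOf (E ⊔ Q)).Normal := normal_subgroupOf_of_le_normalizer (sup_le le_normalizer hQE)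
  let q := QuotientGroup.mk' (E.subgroupOf (E ⊔ Q))
  have hmem : k * j ∈ E ⊔ Q := mul_mem (mem_sup_left hk) (mem_sup_right hj)
  have hqg : q ⟨k * j, hmem⟩ = q ⟨j, mem_sup_right hj⟩ := by
    rw [show (⟨k * j, hmem⟩ : ↥(E ⊔ Q)) = ⟨k, mem_sup_left hk⟩ * ⟨j, mem_sup_right hj⟩ from rfl, map_mul,
      show q ⟨k, mem_sup_left hk⟩ = 1 from (QuotientGroup.eq_one_iff _).mpr hk, one_mul]
  obtain ⟨i, hi⟩ := hQ ⟨j, hj⟩
  have h1 : orderOf (q ⟨k * j, hmem⟩) ∣ orderOf (k * j) :=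
    (orderOf_map_dvd q _).trans (Subgroup.orderOf_mk _ _).dvd
  have h2 : orderOf (q ⟨k * j, hmem⟩) ∣ p ^ i := by
    rw [hqg]
    refine orderOf_dvd_of_pow_eq_one ?_
    have hji : (⟨j, mem_sup_right hj⟩ : ↥(E ⊔ Q)) ^ (p ^ i) = 1 := Subtype.ext (by
      have := congrArg Subtype.val hi
      simpa using this)
    rw [← map_pow, hji, map_one]
  exact mem_subgroupOf.mp ((QuotientGroup.eq_one_iff _).mp
    (orderOf_eq_one_iff.mp (Nat.eq_one_of_dvd_coprimes (hgo.pow_right i) h1 h2)))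

omit [Fact p.Prime] in
/-- The normalizer of a subgroup normalizes its characteristic subgroups. -/
theorem normalizer_le_map_char (H : Subgroup G) (K : Subgroup ↥H) [K.Characteristic] :
    normalizer (H : Set G) ≤ normalizer ((K.map H.subtype : Subgroup G) : Set G) := by
  intro g hg
  refine mem_normalizer_fintype ?_
  rintro _ ⟨x, hx, rfl⟩
  let φ : ↥H ≃* ↥H :=
    ((MulAut.conj g).subgroupMap H).trans (MulEquiv.subgroupCongr (show H.map (MulAut.conj g).toMonoidHom = H by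
      rw [Grp.map_conj_eq_smul]; exact Grp.mem_normalizer_iff_smul.mp hg))
  have h : φ x ∈ K := by
    have h1 : K.map φ.toMonoidHom ≤ K := Subgroup.characteristic_iff_map_le.mp ‹_› φ
    exact h1 ⟨x, hx, rfl⟩
  exact ⟨φ x, h, rfl⟩

omit [Fact p.Prime] in
theorem normalizer_le_pCoreOf (H : Subgroup G) :
    normalizer (H : Set G) ≤ normalizer (Cfsg.pCoreOf p H : Set G) :=
  normalizer_le_map_char H (Cfsg.pCore p ↥H)

omit [Fact p.Prime] in
/-- A `p`-subgroup normalized by a normal subgroup containing it lies in the `p`-core. -/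
theorem le_pCore_of_normal {H U : Subgroup G} [H.Normal] (hUH : U ≤ H) (hn : H ≤ normalizer (U : Set G))
    (hp : IsPGroup p U) : U ≤ Cfsg.pCore p G := by
  have h1 : U.subgroupOf H ≤ Cfsg.pCore p ↥H :=
    Grp.le_pCore (normal_subgroupOf_of_le_normalizer hn) (hp.comap_subtype (K := H))
  have h2 : (Cfsg.pCore p ↥H).map H.subtype ≤ Cfsg.pCore p G :=
    Grp.le_pCore ConjAct.normal_of_characteristic_of_normal (Grp.pCore_isPGroup.map _)
  exact fun u hu => h2 ⟨⟨u, hUH hu⟩, h1 hu, rfl⟩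

/-- The hypotheses. -/
structure Hyp (S : Sylow p G) (P L : Subgroup G) : Prop where
  hSP : (S : Subgroup G) ≤ P
  pm : Cfsg.IsPMinimal p ↥P
  hL : L = normalizer ((S : Subgroup G) : Set G) ⊔
    ⨆ P' : {P' : Subgroup G // (S : Subgroup G) ≤ P' ∧ Cfsg.IsPMinimal p ↥P' ∧ P' ≠ P}, (P' : Subgroup G)
  hiso : ¬ (Cfsg.pCore p ↥L).map L.subtype ≤ (Cfsg.pCore p ↥P).map P.subtype

/-- `O^p(P)`. -/
abbrev res (p : ℕ) (P : Subgroup G) : Subgroup G := (Cfsg.pResidual p ↥P).map P.subtype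

/-- The normal closure of `O^p(P)`. -/
abbrev clo (p : ℕ) (P : Subgroup G) : Subgroup G := normalClosure ((res p P : Subgroup G) : Set G)

omit [Finite G] [Fact p.Prime] in
theorem res_le_clo (P : Subgroup G) : res p P ≤ clo p P := subset_normalClosure

omit [Fact p.Prime] in
theorem res_le_of_coprime {P : Subgroup G} {U : Subgroup G}
    (h : ∀ g ∈ P, (orderOf g).Coprime p → g ∈ U) : res p P ≤ U := by
  refine map_le_iff_le_comap.mpr ((closure_le _).mpr fun x hx => ?_)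
  exact h x x.2 (by rw [Subgroup.orderOf_coe]; exact hx)

omit [Finite G] [Fact p.Prime] in
theorem res_le (P : Subgroup G) : res p P ≤ P := map_subtype_le _

variable {S : Sylow p G} {P L : Subgroup G}

theorem Hyp.normalizer_le (h : Hyp S P L) : normalizer ((S : Subgroup G) : Set G) ≤ L :=
  (le_sup_left : _ ≤ normalizer ((S : Subgroup G) : Set G) ⊔ _).trans_eq h.hL.symm

theorem Hyp.S_le (h : Hyp S P L) : (S : Subgroup G) ≤ L := Subgroup.le_normalizer.trans h.normalizer_le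

theorem Hyp.Q_le_S (h : Hyp S P L) : Cfsg.pCoreOf p L ≤ (S : Subgroup G) := by
  refine (Subgroup.map_mono (Grp.pCore_le_sylow (S.subtype h.S_le))).trans ?_
  rw [Sylow.coe_subtype, subgroupOf_map_subtype, inf_eq_left.mpr h.S_le]

theorem Hyp.L_norm_Q (_h : Hyp S P L) : L ≤ normalizer (Cfsg.pCoreOf p L : Set G) :=
  Subgroup.le_normalizer.trans (normalizer_le_pCoreOf L)

theorem Hyp.cases (h : Hyp S P L) {X : Subgroup G} (hX : (S : Subgroup G) ≤ X) : P ≤ X ∨ X ≤ L := by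
  refine or_iff_not_imp_left.mpr fun hPX => gen_le S L X hX (inf_le_left.trans h.normalizer_le) ?_
  intro P' h1 h2 h3
  rw [h.hL]
  exact le_sup_of_le_right (le_iSup_of_le ⟨P', h1, h3, fun e => hPX (e ▸ h2)⟩ le_rfl)

theorem Hyp.P_norm_res (_h : Hyp S P L) : P ≤ normalizer ((res p P : Subgroup G) : Set G) :=
  Subgroup.le_normalizer.trans (normalizer_le_map_char P (Cfsg.pResidual p ↥P))

theorem Hyp.res_sup (h : Hyp S P L) : res p P ⊔ (S : Subgroup G) = P := by
  have e := congrArg (Subgroup.map P.subtype) (pResidual_sup_sylow (S.subtype h.hSP))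
  rw [Subgroup.map_sup, Sylow.coe_subtype, subgroupOf_map_subtype, inf_eq_left.mpr h.hSP,
    ← MonoidHom.range_eq_map, range_subtype] at e
  exact e

theorem Hyp.core_le_L (h : Hyp S P L) : Cfsg.pCore p G ≤ L := (Grp.pCore_le_sylow S).trans h.S_le

theorem Hyp.not_P_le (h : Hyp S P L) : ¬ P ≤ L := by
  intro hPL
  refine h.hiso ?_
  have h1 : (Cfsg.pCoreOf p L).subgroupOf P ≤ Cfsg.pCore p ↥P :=
    Grp.le_pCore (normal_subgroupOf_of_le_normalizer (hPL.trans h.L_norm_Q))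
      ((S.2.to_le h.Q_le_S).comap_subtype (K := P))
  exact fun x hx => ⟨⟨x, h.hSP (h.Q_le_S hx)⟩, h1 hx, rfl⟩

theorem Hyp.not_res_le (h : Hyp S P L) : ¬ res p P ≤ L := fun hle =>
  h.not_P_le (h.res_sup ▸ sup_le hle h.S_le)

theorem Hyp.sup_top (h : Hyp S P L) : P ⊔ L = ⊤ := by
  refine top_le_iff.mp (gen_le S (P ⊔ L) ⊤ le_top (inf_le_left.trans (h.normalizer_le.trans le_sup_right)) ?_)
  intro P' h1 _ h3
  by_cases e : P' = P
  · exact e ▸ le_sup_left
  · refine le_trans ?_ le_sup_right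
    rw [h.hL]
    exact le_sup_of_le_right (le_iSup_of_le ⟨P', h1, h3, e⟩ le_rfl)

theorem Hyp.not_clo_le (h : Hyp S P L) : ¬ clo p P ≤ L := fun hle =>
  h.not_res_le ((res_le_clo P).trans hle)

theorem Hyp.clo_sup (h : Hyp S P L) : clo p P ⊔ L = ⊤ :=
  top_le_iff.mp (h.sup_top.ge.trans (sup_le
    (h.res_sup.ge.trans (sup_le_sup (res_le_clo P) h.S_le)) le_sup_right))

/-- A subgroup normalized by `P` and containing `O_p(L)` contains `O^p(P)`. -/
theorem Hyp.res_le_of (h : Hyp S P L) {U : Subgroup G} (hn : P ≤ normalizer (U : Set G))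
    (hQ : Cfsg.pCoreOf p L ≤ U) : res p P ≤ U := by
  obtain ⟨-, M, ⟨hM, hSM⟩, -⟩ := h.pm (S.subtype h.hSP)
  haveI := Subgroup.normalCore_normal M
  obtain ⟨h1, -, h3, -, -⟩ := Cfsg.Agent.S2905.result h.pm (S.subtype h.hSP) M hM hSM
  haveI hUn : (U.subgroupOf P).Normal := normal_subgroupOf_of_le_normalizer hn
  rcases h3 (U.subgroupOf P) hUn with h4 | h4
  · rintro _ ⟨x, hx, rfl⟩
    exact mem_subgroupOf.mp (h4 hx)
  · exfalso
    refine h.hiso fun x hx => ?_
    have hxS := h.Q_le_S hx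
    exact ⟨⟨x, h.hSP hxS⟩, h1 (U.subgroupOf P) hUn.isSubnormal (h4.trans (Subgroup.normalCore_le M))
      ⟨hQ hx, hxS⟩, rfl⟩

theorem Hyp.not_comm_le (h : Hyp S P L) {K : Subgroup G} [K.Normal] (hK : ¬ res p P ≤ K) :
    ¬ ⁅res p P, Cfsg.pCoreOf p L⁆ ≤ K := by
  intro hle
  obtain ⟨Q, hQ⟩ : ∃ Q, Q = Cfsg.pCoreOf p L := ⟨_, rfl⟩
  rw [← hQ] at hle
  have hQP : Q ≤ P := hQ ▸ h.Q_le_S.trans h.hSP
  have key : ∀ g ∈ P, g ∈ normalizer ((P ⊓ K ⊔ Q : Subgroup G) : Set G) := by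
    have hR : res p P ≤ normalizer ((P ⊓ K ⊔ Q : Subgroup G) : Set G) := by
      intro r hr
      refine mem_normalizer_fintype fun x hx => ?_
      have hle' : P ⊓ K ⊔ Q ≤ (P ⊓ K ⊔ Q).comap (MulAut.conj r).toMonoidHom := by
        refine sup_le (fun y hy => mem_sup_left ?_) fun y hy => ?_
        · exact ⟨P.mul_mem (P.mul_mem (res_le P hr) hy.1) (P.inv_mem (res_le P hr)),
            Normal.conj_mem inferInstance y hy.2 r⟩
        · have h1 : ⁅r, y⁆ ∈ P ⊓ K := ⟨by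
            rw [commutatorElement_def]
            exact P.mul_mem (P.mul_mem (P.mul_mem (res_le P hr) (hQP hy)) (P.inv_mem (res_le P hr))) (P.inv_mem (hQP hy)),
            hle (commutator_mem_commutator hr hy)⟩
          have h2 := mul_mem (mem_sup_left (T := Q) h1) (mem_sup_right (S := P ⊓ K) hy)
          rw [commutatorElement_def, inv_mul_cancel_right] at h2
          exact h2
      exact hle' hx
    have hS : (S : Subgroup G) ≤ normalizer ((P ⊓ K ⊔ Q : Subgroup G) : Set G) := by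
      intro s hs
      rw [Grp.mem_normalizer_iff_smul, Subgroup.smul_sup, Subgroup.smul_inf,
        Grp.normalizer_le_smul Subgroup.le_normalizer (h.hSP hs),
        Grp.normalizer_le_smul (Subgroup.normalizer_eq_top (H := K)).ge (mem_top s),
        Grp.normalizer_le_smul (hQ ▸ h.L_norm_Q) (h.S_le hs)]
    exact fun g hg => sup_le hR hS (h.res_sup.ge hg)
  have hR := h.res_le_of key (hQ ▸ le_sup_right)
  refine hK (res_le_of_coprime fun g hg hgo => ?_)
  have hgR : g ∈ res p P := ⟨⟨g, hg⟩, mem_pResidual (by rwa [← Subgroup.orderOf_coe]), rfl⟩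
  refine (mem_of_coprime (hQ ▸ S.2.to_le h.Q_le_S) ?_ (hR hgR) hgo).2
  intro q hq
  rw [Grp.mem_normalizer_iff_smul, Subgroup.smul_inf, Grp.normalizer_le_smul Subgroup.le_normalizer (hQP hq),
    Grp.normalizer_le_smul (Subgroup.normalizer_eq_top (H := K)).ge (mem_top q)]

/-- A normal subgroup contains `Y` or lies in `L`. -/
theorem Hyp.dichotomy (h : Hyp S P L) {N : Subgroup G} [N.Normal] : clo p P ≤ N ∨ N ≤ L := by
  rcases h.cases (X := N ⊔ (S : Subgroup G)) le_sup_right with h1 | h1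
  · refine Or.inl (normalClosure_le_normal (res_le_of_coprime fun g hg hgo => ?_))
    exact mem_of_coprime S.2 ((Subgroup.normalizer_eq_top (H := N)).ge.trans' le_top) (h1 hg) hgo
  · exact Or.inr (le_sup_left.trans h1)

/-- A normal subgroup inside `L` centralizes `Y` modulo the `p`-core. -/
theorem Hyp.comm_clo_le (h : Hyp S P L) {N : Subgroup G} [N.Normal] (hN : N ≤ L) :
    ⁅N, clo p P⁆ ≤ Cfsg.pCore p G := by
  obtain ⟨Q, hQ⟩ : ∃ Q, Q = Cfsg.pCoreOf p L := ⟨_, rfl⟩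
  have hNQ : ⁅N, Q⁆ ≤ N ⊓ Q := le_inf (commutator_le_left N Q)
    (by rw [commutator_comm]; exact le_normalizer_iff_commutator_le_left.mp (hQ ▸ hN.trans h.L_norm_Q))
  have hNQO : N ⊓ Q ≤ Cfsg.pCore p G := by
    refine le_pCore_of_normal (H := N) inf_le_left (fun n hn => ?_) ((hQ ▸ S.2.to_le h.Q_le_S).to_le inf_le_right)
    rw [Grp.mem_normalizer_iff_smul, Subgroup.smul_inf, Grp.normalizer_le_smul Subgroup.le_normalizer hn,
      Grp.normalizer_le_smul (hQ ▸ h.L_norm_Q) (hN hn)]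
  let π := QuotientGroup.mk' (Cfsg.pCore p G)
  haveI : (N.map π).Normal := Normal.map inferInstance π (QuotientGroup.mk'_surjective _)
  have hiff : ∀ X : Subgroup G, ⁅N, X⁆ ≤ Cfsg.pCore p G ↔ X ≤ (centralizer (N.map π : Set (G ⧸ Cfsg.pCore p G))).comap π := by
    intro X
    rw [← map_le_iff_le_comap, ← commutator_eq_bot_iff_le_centralizer, commutator_comm, ← map_commutator,
      Subgroup.map_eq_bot_iff, QuotientGroup.ker_mk']
  rw [hiff]
  refine normalClosure_le_normal (h.res_le_of ((Subgroup.normalizer_eq_top (H :=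
    (centralizer (N.map π : Set (G ⧸ Cfsg.pCore p G))).comap π)).ge.trans' le_top) ?_)
  rw [← hQ]
  exact (hiff Q).mp (hNQ.trans hNQO)

/-- The first assertion of the solvable theorem. -/
theorem Hyp.res_le_gfitting (h : Hyp S P L) :
    res p P ≤ (Cfsg.generalizedFittingSubgroup (G ⧸ Cfsg.pCore p G)).comap (QuotientGroup.mk' (Cfsg.pCore p G)) := by
  set π := QuotientGroup.mk' (Cfsg.pCore p G) with hπ
  haveI hFn : (Cfsg.generalizedFittingSubgroup (G ⧸ Cfsg.pCore p G)).Normal := by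
    haveI := Grp.fittingSubgroup_isNormal (G := G ⧸ Cfsg.pCore p G)
    rw [Cfsg.generalizedFittingSubgroup]; infer_instance
  set N := (Cfsg.generalizedFittingSubgroup (G ⧸ Cfsg.pCore p G)).comap π with hN
  rcases h.dichotomy (N := N) with h1 | h1
  · exact (res_le_clo P).trans h1
  · exfalso
    have h2 := h.comm_clo_le h1
    have h3 : (clo p P).map π ≤ centralizer (N.map π : Set (G ⧸ Cfsg.pCore p G)) := by
      rw [← commutator_eq_bot_iff_le_centralizer, commutator_comm, ← map_commutator, Subgroup.map_eq_bot_iff,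
        QuotientGroup.ker_mk']
      exact h2
    rw [hN, map_comap_eq_self_of_surjective (QuotientGroup.mk'_surjective _)] at h3
    exact h.not_clo_le ((map_le_iff_le_comap.mp (h3.trans Grp.centralizer_gfitting_le)).trans h1)

/-- The derived subgroup of `Y` together with the `p`-core. -/
abbrev derY (p : ℕ) (P : Subgroup G) : Subgroup G := ⁅clo p P, clo p P⁆ ⊔ (Cfsg.pCore p G ⊓ clo p P)

omit [Fact p.Prime] in
theorem pCoreOf_clo (P : Subgroup G) : Cfsg.pCoreOf p (clo p P) = Cfsg.pCore p G ⊓ clo p P := by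
  refine le_antisymm (le_inf ?_ (map_subtype_le _)) fun x hx => ?_
  · exact Grp.le_pCore ConjAct.normal_of_characteristic_of_normal (Grp.pCore_isPGroup.map _)
  · refine ⟨⟨x, hx.2⟩, Grp.le_pCore (N := (Cfsg.pCore p G).subgroupOf (clo p P)) inferInstance
      ((Grp.pCore_isPGroup (p := p) (G := G)).comap_subtype) hx.1, rfl⟩

omit [Fact p.Prime] in
theorem mem_pCore_clo {P : Subgroup G} (y : ↥(clo p P)) :
    y ∈ Cfsg.pCore p ↥(clo p P) ↔ (y : G) ∈ Cfsg.pCore p G := by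
  constructor
  · intro hy
    have h1 : (y : G) ∈ Cfsg.pCoreOf p (clo p P) := ⟨y, hy, rfl⟩
    exact ((pCoreOf_clo P).le h1).1
  · intro hy
    obtain ⟨z, hz, e⟩ := (pCoreOf_clo P).ge ⟨hy, y.2⟩
    rwa [Subtype.ext e] at hz

omit [Fact p.Prime] in
theorem derY_le (P : Subgroup G) : derY p P ≤ clo p P := sup_le (commutator_le_self _) inf_le_right

/-- If `Y` is solvable the derived part is proper. -/
theorem Hyp.derY_le_L (h : Hyp S P L) (hsol : Group.IsSolvable ↥(clo p P)) : derY p P ≤ L := by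
  rcases h.dichotomy (N := derY p P) with h1 | h1
  swap
  · exact h1
  exfalso
  refine h.not_clo_le ?_
  haveI := hsol
  let π := QuotientGroup.mk' (Cfsg.pCore p G)
  have hperf : ⁅(clo p P).map π, (clo p P).map π⁆ = (clo p P).map π := by
    refine le_antisymm (commutator_le_self _) ?_
    refine (Subgroup.map_mono h1).trans ?_
    rw [Subgroup.map_sup, map_commutator, show (Cfsg.pCore p G ⊓ clo p P).map π = ⊥ from
      (Subgroup.map_eq_bot_iff _).mpr (inf_le_left.trans (QuotientGroup.ker_mk' _).ge), sup_bot_eq]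
  have hs : Group.IsSolvable ↥((clo p P).map π) :=
    Group.isSolvable_of_surjective (π.subgroupMap_surjective (clo p P))
  have hbot := Grp.eq_bot_of_perfect_of_solvable hperf hs
  rw [Subgroup.map_eq_bot_iff, QuotientGroup.ker_mk'] at hbot
  exact hbot.trans h.core_le_L

theorem Hyp.not_res_le_core (h : Hyp S P L) : ¬ res p P ≤ Cfsg.pCore p G := fun hle =>
  h.not_res_le (hle.trans h.core_le_L)

theorem Hyp.quot_center (h : Hyp S P L) (hsol : Group.IsSolvable ↥(clo p P)) :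
    commutator (↥(clo p P) ⧸ Cfsg.pCore p ↥(clo p P)) ≤ Subgroup.center (↥(clo p P) ⧸ Cfsg.pCore p ↥(clo p P)) := by
  have hc := h.comm_clo_le (h.derY_le_L hsol)
  rw [_root_.commutator_def, Subgroup.commutator_le]
  intro a _ b _
  induction a using QuotientGroup.induction_on with | _ a => ?_
  induction b using QuotientGroup.induction_on with | _ b => ?_
  rw [Subgroup.mem_center_iff]
  intro c
  induction c using QuotientGroup.induction_on with | _ c => ?_
  have h1 : ⁅⁅(a : G), (b : G)⁆, (c : G)⁆ ∈ Cfsg.pCore p G :=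
    hc (commutator_mem_commutator (mem_sup_left (commutator_mem_commutator a.2 b.2)) c.2)
  have h2 : ⁅⁅a, b⁆, c⁆ ∈ Cfsg.pCore p ↥(clo p P) := (mem_pCore_clo _).mpr (by
    simpa [commutatorElement_def] using h1)
  have h3 : ⁅⁅(a : ↥(clo p P) ⧸ Cfsg.pCore p ↥(clo p P)), (b : ↥(clo p P) ⧸ Cfsg.pCore p ↥(clo p P))⁆, (c : ↥(clo p P) ⧸ Cfsg.pCore p ↥(clo p P))⁆ = 1 := by
    have h4 := (QuotientGroup.eq_one_iff ⁅⁅a, b⁆, c⁆).mpr h2
    simpa [commutatorElement_def] using h4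
  exact (commutatorElement_eq_one_iff_mul_comm.mp h3).symm

omit [Finite G] [Fact p.Prime] in
theorem class_le_two {A : Type*} [Group A] (hc : commutator A ≤ Subgroup.center A) :
    ∃ _ : Group.IsNilpotent A, Group.nilpotencyClass A ≤ 2 := by
  have h2 : (⊤ : Subgroup A).lowerCentralSeries 2 = ⊥ := by
    show ⁅⁅(⊤ : Subgroup A), ⊤⁆, ⊤⁆ = ⊥
    rw [commutator_eq_bot_iff_le_centralizer, ← _root_.commutator_def, coe_top, centralizer_univ]
    exact hc
  haveI hn : Group.IsNilpotent A := Subgroup.nilpotent_iff_lowerCentralSeries.mpr ⟨2, h2⟩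
  exact ⟨hn, Subgroup.lowerCentralSeries_eq_bot_iff_nilpotencyClass_le.mp h2⟩

theorem Hyp.quot_nilpotent (h : Hyp S P L) (hsol : Group.IsSolvable ↥(clo p P)) :
    ∃ _ : Group.IsNilpotent (↥(clo p P) ⧸ Cfsg.pCore p ↥(clo p P)),
      Group.nilpotencyClass (↥(clo p P) ⧸ Cfsg.pCore p ↥(clo p P)) ≤ 2 := by
  exact class_le_two (h.quot_center hsol)

theorem Hyp.quot_primary (h : Hyp S P L) (hsol : Group.IsSolvable ↥(clo p P)) :
    ∃ t : ℕ, t.Prime ∧ t ≠ p ∧ IsPGroup t (↥(clo p P) ⧸ Cfsg.pCore p ↥(clo p P)) := by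
  obtain ⟨hn, -⟩ := h.quot_nilpotent hsol
  haveI := hn
  set C := Cfsg.pCore p ↥(clo p P) with hC
  set ψ := QuotientGroup.mk' C with hψ
  have hkey : ∃ t : ℕ, t.Prime ∧ IsPGroup t (↥(clo p P) ⧸ C) := by
    by_contra hcon
    refine h.not_clo_le ?_
    have hall : ∀ (t : ℕ) [Fact t.Prime] (T : Sylow t (↥(clo p P) ⧸ C)),
        (T : Subgroup (↥(clo p P) ⧸ C)) ≤ (L.subgroupOf (clo p P)).map ψ := by
      intro t ht T
      haveI hTn : (T : Subgroup (↥(clo p P) ⧸ C)).Normal := Grp.isNilpotent_iff_sylow_normal.1 hn t inferInstance T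
      haveI hTc := T.characteristic_of_normal hTn
      haveI : ((T : Subgroup (↥(clo p P) ⧸ C)).comap ψ).Characteristic := by
        refine characteristic_iff_map_le.mpr fun φ => ?_
        let φ' : ↥(clo p P) ⧸ C ≃* ↥(clo p P) ⧸ C :=
          QuotientGroup.congr C C φ (characteristic_iff_map_eq.mp inferInstance φ)
        rintro _ ⟨y, hy, rfl⟩
        have h1 : φ' (ψ y) ∈ (T : Subgroup (↥(clo p P) ⧸ C)) :=
          characteristic_iff_map_le.mp hTc φ' ⟨_, hy, rfl⟩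
        exact h1
      haveI : ((((T : Subgroup (↥(clo p P) ⧸ C)).comap ψ)).map (clo p P).subtype).Normal :=
        ConjAct.normal_of_characteristic_of_normal
      rcases h.dichotomy (N := ((T : Subgroup (↥(clo p P) ⧸ C)).comap ψ).map (clo p P).subtype) with h1 | h1
      · exfalso
        refine hcon ⟨t, Fact.out, fun x => ?_⟩
        obtain ⟨y, rfl⟩ := QuotientGroup.mk'_surjective C x
        obtain ⟨y', hy', e⟩ := h1 y.2
        rw [Subtype.ext e] at hy'
        obtain ⟨k, hk⟩ := T.2 ⟨_, hy'⟩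
        exact ⟨k, congrArg Subtype.val hk⟩
      · intro x hx
        obtain ⟨y, rfl⟩ := QuotientGroup.mk'_surjective C x
        exact ⟨y, h1 ⟨y, hx, rfl⟩, rfl⟩
    have htop : ⊤ ≤ (L.subgroupOf (clo p P)).map ψ := by
      refine Grp.le_of_forall_sylow le_top fun t ht => ?_
      obtain ⟨T⟩ : Nonempty (Sylow t (↥(clo p P) ⧸ C)) := inferInstance
      exact ⟨T, ⟨le_top, T.2, by rw [relIndex_top_right]; exact T.not_dvd_index⟩, hall t T⟩
    intro y hy
    obtain ⟨z, hz, e⟩ := htop (mem_top (ψ ⟨y, hy⟩))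
    have h1 : z⁻¹ * ⟨y, hy⟩ ∈ C := QuotientGroup.eq.mp e
    have h2 : (z : G)⁻¹ * y ∈ L := h.core_le_L ((mem_pCore_clo _).mp h1)
    simpa using L.mul_mem hz h2
  obtain ⟨t, ht, hpg⟩ := hkey
  refine ⟨t, ht, fun e => h.not_res_le_core ?_, hpg⟩
  subst e
  have hp : IsPGroup t ↥(clo t P) := by
    intro y
    obtain ⟨k, hk⟩ := hpg (ψ y)
    rw [← map_pow] at hk
    obtain ⟨j, hj⟩ := (Grp.pCore_isPGroup (p := t) (G := ↥(clo t P))) ⟨_, (QuotientGroup.eq_one_iff _).mp hk⟩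
    exact ⟨k + j, by rw [pow_add, pow_mul]; exact congrArg Subtype.val hj⟩
  exact (res_le_clo P).trans (Grp.le_pCore normalClosure_normal hp)

/-- `Y = O^p(P)` when `Y` is solvable. -/
theorem Hyp.clo_eq_res (h : Hyp S P L) (hsol : Group.IsSolvable ↥(clo p P)) : res p P = clo p P := by
  obtain ⟨Y, hY⟩ : ∃ Y, Y = clo p P := ⟨_, rfl⟩
  obtain ⟨Q, hQ⟩ : ∃ Q, Q = Cfsg.pCoreOf p L := ⟨_, rfl⟩
  obtain ⟨R, hR⟩ : ∃ R, R = res p P := ⟨_, rfl⟩
  obtain ⟨N1, hN1⟩ : ∃ N1, N1 = derY p P := ⟨_, rfl⟩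
  haveI hYn : Y.Normal := hY ▸ normalClosure_normal
  haveI hN1n : N1.Normal := hN1 ▸ inferInstance
  have hRY : R ≤ Y := hR ▸ hY ▸ res_le_clo P
  have hN1Y : N1 ≤ Y := hN1 ▸ hY ▸ derY_le P
  have hOY : Cfsg.pCore p G ⊓ Y ≤ N1 := hN1 ▸ hY ▸ le_sup_right
  have hYY : ⁅Y, Y⁆ ≤ N1 := hN1 ▸ hY ▸ le_sup_left
  have hcN1 : ⁅N1, Y⁆ ≤ Cfsg.pCore p G := hN1 ▸ hY ▸ h.comm_clo_le (h.derY_le_L hsol)
  have hQS : Q ≤ (S : Subgroup G) := hQ ▸ h.Q_le_S
  have hLQ : L ≤ normalizer (Q : Set G) := hQ ▸ h.L_norm_Q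
  obtain ⟨t, ht, htp, hpg⟩ := h.quot_primary hsol
  -- exponents
  have hexp : ∀ y ∈ Y, ∃ b : ℕ, y ^ (t ^ b) ∈ Cfsg.pCore p G := by
    subst hY
    intro y hy
    obtain ⟨b, hb⟩ := hpg (QuotientGroup.mk (⟨y, hy⟩ : ↥(clo p P)))
    rw [← QuotientGroup.mk_pow, QuotientGroup.eq_one_iff, mem_pCore_clo] at hb
    exact ⟨b, by simpa using hb⟩
  have hsmall : ∀ y ∈ Y, ∀ a : ℕ, y ^ (p ^ a) ∈ N1 → y ∈ N1 := by
    intro y hy a ha
    obtain ⟨b, hb⟩ := hexp y hy
    have hb' : y ^ (t ^ b) ∈ N1 := hOY ⟨hb, Y.pow_mem hy _⟩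
    rw [← QuotientGroup.eq_one_iff, QuotientGroup.mk_pow, ← orderOf_dvd_iff_pow_eq_one] at ha hb'
    rw [← QuotientGroup.eq_one_iff, ← orderOf_eq_one_iff]
    exact Nat.eq_one_of_dvd_coprimes (((Nat.coprime_primes Fact.out ht).mpr (Ne.symm htp)).pow a b) ha hb'
  have hYp : ∀ y ∈ Y, (∃ a : ℕ, y ^ (p ^ a) = 1) → y ∈ N1 := fun y hy ⟨a, ha⟩ =>
    hsmall y hy a (ha ▸ N1.one_mem)
  have hYQ : ∀ y ∈ Y, y ∈ Q → y ∈ N1 := fun y hy hyQ => hYp y hy (by
    obtain ⟨a, ha⟩ := S.2 ⟨y, hQS hyQ⟩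
    exact ⟨a, congrArg Subtype.val ha⟩)
  have hSQ : (S : Subgroup G) ≤ normalizer (Q : Set G) := h.S_le.trans hLQ
  have hSR : (S : Subgroup G) ≤ normalizer (R : Set G) := hR ▸ h.hSP.trans h.P_norm_res
  -- `Y` is generated by `R`, `Y ∩ L` and the derived part
  obtain ⟨W, hW⟩ : ∃ W, W = R ⊔ (Y ⊓ L) ⊔ N1 := ⟨_, rfl⟩
  have hSW : (S : Subgroup G) ≤ normalizer (W : Set G) := by
    intro s hs
    rw [hW, Grp.mem_normalizer_iff_smul, Subgroup.smul_sup, Subgroup.smul_sup, Subgroup.smul_inf,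
      Grp.normalizer_le_smul hSR hs, Grp.normalizer_le_smul (Subgroup.normalizer_eq_top (H := Y)).ge (mem_top s),
      Grp.normalizer_le_smul (Subgroup.normalizer_eq_top (H := N1)).ge (mem_top s),
      Grp.normalizer_le_smul Subgroup.le_normalizer (h.S_le hs)]
  have hXW : Y ⊔ (S : Subgroup G) ≤ W ⊔ (S : Subgroup G) := by
    have hLX : L ⊓ (Y ⊔ (S : Subgroup G)) ≤ W ⊔ (S : Subgroup G) := by
      rintro x ⟨hxL, hx⟩
      obtain ⟨y, hy, s, hs, rfl⟩ := (Subgroup.coe_mul_of_right_le_normalizer_left _ _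
        ((Subgroup.normalizer_eq_top (H := Y)).ge.trans' le_top : (S : Subgroup G) ≤ _)).subset hx
      refine mul_mem_sup (hW ▸ mem_sup_left (mem_sup_right ⟨hy, ?_⟩)) hs
      simpa using L.mul_mem hxL (L.inv_mem (h.S_le hs))
    refine gen_le S _ _ le_sup_right ((inf_le_inf_right _ h.normalizer_le).trans hLX) fun P' h1 h2 h3 => ?_
    by_cases e : P' = P
    · rw [e, ← h.res_sup, ← hR]
      exact sup_le_sup_right (hW ▸ le_sup_left.trans le_sup_left) _
    · refine (le_inf ?_ h2).trans hLX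
      rw [h.hL]
      exact le_sup_of_le_right (le_iSup_of_le ⟨P', h1, h3, e⟩ le_rfl)
  have hWY : W ≤ Y := hW ▸ sup_le (sup_le hRY inf_le_left) hN1Y
  have hYW : Y ≤ W := by
    intro y hy
    have hy' := hXW (mem_sup_left (T := (S : Subgroup G)) hy)
    rw [← SetLike.mem_coe, Subgroup.coe_mul_of_right_le_normalizer_left _ _ hSW] at hy'
    obtain ⟨w, hw, s, hs, rfl⟩ := hy'
    refine W.mul_mem hw (hW ▸ mem_sup_right (hYp s ?_ ?_))
    · simpa using Y.mul_mem (Y.inv_mem (hWY hw)) hy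
    · obtain ⟨a, ha⟩ := S.2 ⟨s, hs⟩
      exact ⟨a, congrArg Subtype.val ha⟩
  -- the commutator with `O_p(L)`
  obtain ⟨W2, hW2⟩ : ∃ W2, W2 = R ⊔ N1 := ⟨_, rfl⟩
  have hYW2 : Y ≤ normalizer (W2 : Set G) := by
    intro y hy
    refine mem_normalizer_fintype fun w hw => ?_
    have hwY : w ∈ Y := (hW2 ▸ sup_le hRY hN1Y : W2 ≤ Y) hw
    have h1 : ⁅y, w⁆ ∈ W2 := hW2 ▸ mem_sup_right (hYY (commutator_mem_commutator hy hwY))
    have h2 := W2.mul_mem h1 hw
    rw [commutatorElement_def, inv_mul_cancel_right] at h2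
    exact h2
  let Z : Subgroup G :=
    { carrier := {y | y ∈ Y ∧ ∀ q ∈ Q, ⁅y, q⁆ ∈ W2}
      one_mem' := ⟨Y.one_mem, fun q _ => by rw [commutatorElement_one_left]; exact W2.one_mem⟩
      mul_mem' := by
        rintro a b ⟨ha, ha'⟩ ⟨hb, hb'⟩
        refine ⟨Y.mul_mem ha hb, fun q hq => ?_⟩
        rw [commutatorElement_mul_left_eq_conj_mul]
        exact W2.mul_mem ((mem_normalizer_iff.mp (hYW2 ha) _).mp (hb' q hq)) (ha' q hq)
      inv_mem' := by
        rintro a ⟨ha, ha'⟩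
        refine ⟨Y.inv_mem ha, fun q hq => ?_⟩
        have e : ⁅a⁻¹, q⁆ = a⁻¹ * ⁅a, q⁆⁻¹ * a⁻¹⁻¹ := by simp only [commutatorElement_def]; group
        rw [e]
        exact (mem_normalizer_iff.mp (hYW2 (Y.inv_mem ha)) _).mp (W2.inv_mem (ha' q hq)) }
  have hZ : W ≤ Z := by
    rw [hW]
    refine sup_le (sup_le ?_ ?_) ?_
    · intro r hr
      refine ⟨hRY hr, fun q hq => hW2 ▸ mem_sup_left ?_⟩
      have h1 : q * r⁻¹ * q⁻¹ ∈ R := (mem_normalizer_iff.mp (hSR (hQS hq)) _).mp (R.inv_mem hr)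
      have e : ⁅r, q⁆ = r * (q * r⁻¹ * q⁻¹) := by simp only [commutatorElement_def]; group
      rw [e]
      exact R.mul_mem hr h1
    · rintro m ⟨hm, hmL⟩
      refine ⟨hm, fun q hq => hW2 ▸ mem_sup_right (hYQ _ ?_ ?_)⟩
      · have e : ⁅m, q⁆ = m * (q * m⁻¹ * q⁻¹) := by simp only [commutatorElement_def]; group
        rw [e]
        exact Y.mul_mem hm (hYn.conj_mem _ (Y.inv_mem hm) q)
      · rw [commutatorElement_def]
        exact Q.mul_mem ((mem_normalizer_iff.mp (hLQ hmL) q).mp hq) (Q.inv_mem hq)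
    · intro n hn
      refine ⟨hN1Y hn, fun q _ => hW2 ▸ mem_sup_right ?_⟩
      have e : ⁅n, q⁆ = n * (q * n⁻¹ * q⁻¹) := by simp only [commutatorElement_def]; group
      rw [e]
      exact N1.mul_mem hn (hN1n.conj_mem _ (N1.inv_mem hn) q)
  obtain ⟨D, hD⟩ : ∃ D, D = ⁅Y, Q⁆ ⊔ N1 := ⟨_, rfl⟩
  have hDW2 : D ≤ W2 := hD ▸ sup_le (commutator_le.mpr fun y hy q hq => ((hZ (hYW hy)).2 q hq)) (hW2 ▸ le_sup_right)
  haveI hDn : D.Normal := by
    rw [← Subgroup.normalizer_eq_top_iff, eq_top_iff, ← h.clo_sup, ← hY]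
    refine sup_le ?_ ?_
    · intro y hy
      rw [hD, Grp.mem_normalizer_iff_smul, Subgroup.smul_sup,
        Grp.normalizer_le_smul (Grp.left_le_normalizer_commutator Q Y) hy,
        Grp.normalizer_le_smul (Subgroup.normalizer_eq_top (H := N1)).ge (mem_top y)]
    · intro l hl
      rw [hD, Grp.mem_normalizer_iff_smul, Subgroup.smul_sup,
        Grp.normalizer_le_smul (Subgroup.normalizer_eq_top (H := N1)).ge (mem_top l), ← Grp.map_conj_eq_smul,
        map_commutator, Grp.map_conj_eq_smul, Grp.map_conj_eq_smul,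
        Grp.normalizer_le_smul (Subgroup.normalizer_eq_top (H := Y)).ge (mem_top l),
        Grp.normalizer_le_smul hLQ hl]
  have hYD : Y ≤ D := by
    rcases h.dichotomy (N := D) with h1 | h1
    · exact hY ▸ h1
    exfalso
    refine h.not_comm_le (K := N1) (fun hle => h.not_res_le (hle.trans (hN1 ▸ h.derY_le_L hsol))) ?_
    rw [← hR, ← hQ, commutator_le]
    intro r hr q hq
    have hy := hRY hr
    obtain ⟨c, hc⟩ : ∃ c, c = ⁅q, r⁆ := ⟨_, rfl⟩
    have hcD : c ∈ D := hc ▸ hD ▸ mem_sup_left (commutator_comm Q Y ▸ commutator_mem_commutator hq hy)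
    have hcY : c ∈ Y := (hDW2.trans (hW2 ▸ sup_le hRY hN1Y)) hcD
    have hqc : ⁅q, c⁆ ∈ N1 := by
      refine hYQ _ ?_ ?_
      · rw [commutatorElement_def]
        exact Y.mul_mem (hYn.conj_mem c hcY q) (Y.inv_mem hcY)
      · have e : ⁅q, c⁆ = q * (c * q⁻¹ * c⁻¹) := by simp only [commutatorElement_def]; group
        rw [e]
        exact Q.mul_mem hq ((mem_normalizer_iff.mp (hLQ (h1 hcD)) _).mp (Q.inv_mem hq))
    let π := QuotientGroup.mk' N1
    have hcomm : Commute (π q) (π c) := by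
      rw [commute_iff_eq, ← commutatorElement_eq_one_iff_mul_comm, ← map_commutatorElement]
      exact (QuotientGroup.eq_one_iff _).mpr hqc
    have hstep : ∀ k : ℕ, (π q) ^ k * π r * ((π q) ^ k)⁻¹ = (π c) ^ k * π r := by
      intro k
      induction k with
      | zero => simp
      | succ k ih =>
        calc (π q) ^ (k + 1) * π r * ((π q) ^ (k + 1))⁻¹
            = π q * ((π q) ^ k * π r * ((π q) ^ k)⁻¹) * (π q)⁻¹ := by rw [pow_succ']; group
          _ = (π q * (π c) ^ k * (π q)⁻¹) * (π q * π r * (π q)⁻¹) := by rw [ih]; group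
          _ = (π c) ^ k * (π q * π r * (π q)⁻¹) := by rw [(hcomm.pow_right k).eq, mul_inv_cancel_right]
          _ = (π c) ^ k * (π c * π r) := by rw [hc, map_commutatorElement, commutatorElement_def]; group
          _ = (π c) ^ (k + 1) * π r := by rw [pow_succ, mul_assoc]
    obtain ⟨a, ha⟩ := S.2 ⟨q, hQS hq⟩
    have ha' : q ^ (p ^ a) = 1 := congrArg Subtype.val ha
    have hs := hstep (p ^ a)
    rw [← map_pow π q, ha', map_one, one_mul, inv_one, mul_one] at hs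
    have hc1 : c ∈ N1 := hsmall c hcY a ((QuotientGroup.eq_one_iff _).mp (mul_eq_right.mp hs.symm))
    have e : ⁅r, q⁆ = c⁻¹ := by rw [hc, commutatorElement_inv]
    rw [e]
    exact N1.inv_mem hc1
  have hY2 : Y ≤ W2 := hYD.trans hDW2
  -- the derived subgroup lies in `R (O ∩ Y)`
  obtain ⟨U, hU⟩ : ∃ U, U = R ⊔ (Cfsg.pCore p G ⊓ Y) := ⟨_, rfl⟩
  have hN1U : N1 ≤ U := by
    rw [hN1]
    refine sup_le (commutator_le.mpr ?_) (hU ▸ hY ▸ le_sup_right)
    intro a ha b hb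
    rw [← hY] at ha hb
    have ha' := hY2 ha
    have hb' := hY2 hb
    rw [hW2, mem_sup_of_normal_right] at ha' hb'
    obtain ⟨r, hr, n, hn, rfl⟩ := ha'
    obtain ⟨r', hr', n', hn', rfl⟩ := hb'
    let π := QuotientGroup.mk' (Cfsg.pCore p G)
    have hcen : ∀ m ∈ N1, ∀ y ∈ Y, Commute (π m) (π y) := fun m hm y hy => by
      rw [commute_iff_eq, ← commutatorElement_eq_one_iff_mul_comm, ← map_commutatorElement]
      exact (QuotientGroup.eq_one_iff _).mpr (hcN1 (commutator_mem_commutator hm hy))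
    have hπ : π ⁅r * n, r' * n'⁆ = π ⁅r, r'⁆ := by
      have e1 := (hcen n hn r' (hRY hr')).eq
      have e2 := (hcen n hn n' (hN1Y hn')).eq
      have e3 := (hcen n' hn' r (hRY hr)).eq
      simp only [commutatorElement_def, map_mul, map_inv, mul_inv_rev]
      calc π r * π n * (π r' * π n') * ((π n)⁻¹ * (π r)⁻¹) * ((π n')⁻¹ * (π r')⁻¹)
          = π r * (π n * π r') * π n' * (π n)⁻¹ * (π r)⁻¹ * (π n')⁻¹ * (π r')⁻¹ := by group
        _ = π r * π r' * (π n * π n') * (π n)⁻¹ * (π r)⁻¹ * (π n')⁻¹ * (π r')⁻¹ := by rw [e1]; group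
        _ = π r * π r' * (π n' * (π r)⁻¹) * (π n')⁻¹ * (π r')⁻¹ := by rw [e2]; group
        _ = π r * π r' * (π r)⁻¹ * (π r')⁻¹ := by
          rw [show π n' * (π r)⁻¹ = (π r)⁻¹ * π n' from ((hcen n' hn' r (hRY hr)).inv_right).eq]; group
    have h1 : ⁅r, r'⁆⁻¹ * ⁅r * n, r' * n'⁆ ∈ Cfsg.pCore p G := QuotientGroup.eq.mp hπ.symm
    have h2 : ⁅r, r'⁆ ∈ R := by
      rw [commutatorElement_def]
      exact R.mul_mem (R.mul_mem (R.mul_mem hr hr') (R.inv_mem hr)) (R.inv_mem hr')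
    have h3 : ⁅r * n, r' * n'⁆ ∈ Y := hN1Y (hYY (commutator_mem_commutator ha hb))
    have := mul_mem (mem_sup_left (T := Cfsg.pCore p G ⊓ Y) h2)
      (mem_sup_right (S := R) ⟨h1, Y.mul_mem (Y.inv_mem (hRY h2)) h3⟩)
    rw [mul_inv_cancel_left] at this
    exact hU ▸ this
  have hYP : Y ≤ P := hY2.trans (hW2 ▸ sup_le (hR ▸ res_le P) (hN1U.trans (hU ▸ sup_le (hR ▸ res_le P)
    (inf_le_left.trans ((Grp.pCore_le_sylow S).trans h.hSP)))))
  refine le_antisymm (res_le_clo P) ?_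
  haveI : (res p P).Normal := ⟨fun x hx g => by
    have hle : res p P ≤ (res p P).comap (MulAut.conj g).toMonoidHom := res_le_of_coprime fun y hy hyo => by
      have hyR : y ∈ res p P := ⟨⟨y, hy⟩, mem_pResidual (by rwa [← Subgroup.orderOf_coe]), rfl⟩
      refine ⟨⟨g * y * g⁻¹, hYP (hYn.conj_mem y (hY ▸ res_le_clo P hyR) g)⟩, mem_pResidual ?_, rfl⟩
      rw [Subgroup.orderOf_mk]
      exact (show orderOf (g * y * g⁻¹) = orderOf y from (MulAut.conj g).orderOf_eq y) ▸ hyo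
    exact hle hx⟩
  exact normalClosure_le_normal le_rfl

theorem solvable_case (h : Hyp S P L) (hsol : Group.IsSolvable ↥(clo p P)) :
    res p P = clo p P ∧ ∃ t : ℕ, t.Prime ∧ t ≠ p ∧ IsPGroup t (↥(clo p P) ⧸ Cfsg.pCore p ↥(clo p P)) ∧
      ∃ _ : Group.IsNilpotent (↥(clo p P) ⧸ Cfsg.pCore p ↥(clo p P)),
        Group.nilpotencyClass (↥(clo p P) ⧸ Cfsg.pCore p ↥(clo p P)) ≤ 2 := by
  obtain ⟨t, ht, htp, hpg⟩ := h.quot_primary hsol
  exact ⟨h.clo_eq_res hsol, t, ht, htp, hpg, h.quot_nilpotent hsol⟩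

end Cfsg.Agent.Invol.Isolated
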