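import Cfsg.Agent.Lib.Invol.JCompSubnormal
import Cfsg.Agent.Lib.Transfer.Thompson

/-!
The maximal straddling `2`-subgroups relative to a `2`-local subgroup `M`, and the components in normalizers of
four-groups `W_K`.
-/

set_option autoImplicit false

open scoped commutatorElement Classical

namespace Cfsg.Agent.Invol.JComp

open Subgroup

variable {G : Type*} [Group G] [Finite G]

theorem thompson_ne_bot {T : Subgroup G} (hT : IsPGroup 2 ↥T) (hT1 : T ≠ ⊥) :
    thompsonSubgroupOf 2 T ≠ ⊥ := by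
  haveI := Fact.mk Nat.prime_two
  intro h
  rw [Cfsg.thompsonSubgroupOf, map_eq_bot_iff_of_injective _ T.subtype_injective] at h
  refine Transfer.Thompson.thompsonSubgroup_ne_bot ?_ h
  obtain ⟨n, hn⟩ := IsPGroup.iff_card.1 hT
  rcases n.eq_zero_or_pos with h0 | h0
  · subst h0
    exact absurd (card_eq_one.1 (by simpa using hn)) hT1
  · rw [hn]; exact dvd_pow_self 2 h0.ne'

/-- A 2-local subgroup contains the centralizer of its 2-core in that core. -/
theorem centralizer_pCoreOf_le {L : Subgroup G} (hL : IsCharacteristicTwoType G) (hL2 : IsTwoLocal L) :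
    centralizer (pCoreOf 2 L : Set G) ≤ pCoreOf 2 L := by
  obtain ⟨R, hR, hR1, rfl⟩ := hL2
  have hRQ : R ≤ pCoreOf 2 (normalizer (R : Set G)) := le_pCoreOf le_normalizer le_rfl hR
  intro x hx
  have hxL : x ∈ normalizer (R : Set G) := centralizer_le_normalizer _ (centralizer_le hRQ hx)
  refine ⟨⟨x, hxL⟩, hL.2 R hR hR1 (mem_centralizer_iff.2 fun q hq => Subtype.ext ?_), rfl⟩
  exact mem_centralizer_iff.1 hx _ ⟨q, hq, rfl⟩

theorem jOvergroups_of_two_local {T L : Subgroup G} (hL : IsCharacteristicTwoType G) (hL2 : IsTwoLocal L)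
    (hT : IsSylowTwoIn T L) (hJ : ¬ L ≤ normalizer (thompsonSubgroupOf 2 T : Set G)) : L ∈ jOvergroups T := by
  refine ⟨hT, fun hle => hJ ?_, centralizer_pCoreOf_le hL hL2⟩
  have hQT : pCoreOf 2 L ≤ T := normal_le_sylowIn hT (pCoreOf_isPGroup L) (pCoreOf_le L) (le_normalizer_pCoreOf L)
  intro g hg
  refine mem_normalizer_of_map_eq ?_
  rw [← thompson_eq_of_between hle hQT, ← thompson_map _ (MulAut.conj g).injective,
    map_conj_eq_self (le_normalizer_pCoreOf L hg)]

section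
variable {M T : Subgroup G}

/-- A straddling subgroup containing `J(T)`, for a maximal `T`. -/
theorem straddling_max (hT : T ∈ maxStraddlingTwoSubgroups M) {P : Subgroup G}
    (hP : P ∈ straddlingTwoSubgroups M) (hJP : thompsonSubgroupOf 2 T ≤ P) :
    thompsonSubgroupOf 2 P = thompsonSubgroupOf 2 T ∧ Nat.card ↥P ≤ Nat.card ↥T := by
  obtain ⟨h1, h2⟩ := hT.2 P hP
  have he : maxElemAbelianOrder P = maxElemAbelianOrder T := le_antisymm h1
    ((maxElemAbelianOrder_thompson le_rfl (thompsonEl_le T)).ge.trans (maxElemAbelianOrder_mono hJP))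
  obtain ⟨h3, h4⟩ := h2 he
  have hle : thompsonSubgroupOf 2 T ≤ thompsonSubgroupOf 2 P := thompsonEl_le_of fun A hA =>
    IsMaxEl.le_thompsonEl ⟨hA.le_thompsonEl.trans hJP, hA.2.1, fun B hB hB' => by
      obtain ⟨C, hC⟩ := exists_maxEl P
      have := hC.2.2 B hB hB'
      rw [← maxElemAbelianOrder_eq hC, he, maxElemAbelianOrder_eq hA] at this
      exact this⟩
  have heq := (eq_of_le_of_card_ge hle h3).symm
  exact ⟨heq, h4 (by rw [heq])⟩

theorem normalizer_thompson_le (S : Sylow 2 G)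
    (hMJ : normalizer (thompsonSubgroupOf 2 (S : Subgroup G) : Set G) ≤ M)
    (hT : T ∈ maxStraddlingTwoSubgroups M) :
    normalizer (thompsonSubgroupOf 2 T : Set G) ≤ M := by
  haveI := Fact.mk Nat.prime_two
  by_contra hN
  obtain ⟨hTp, hT1, hTM, -⟩ := hT.1
  obtain ⟨J, hJ⟩ : ∃ J, J = thompsonSubgroupOf 2 T := ⟨_, rfl⟩
  rw [← hJ] at hN
  have hJT : J ≤ T := hJ ▸ thompsonEl_le T
  have hJp : IsPGroup 2 ↥J := hTp.to_le hJT
  have hJ2 : IsTwoLocal (normalizer (J : Set G)) := ⟨J, hJp, hJ ▸ thompson_ne_bot hTp hT1, rfl⟩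
  obtain ⟨P, hP, hJP⟩ := exists_sylowIn hJp (le_inf le_normalizer (hJT.trans hTM) :
    J ≤ normalizer (J : Set G) ⊓ M)
  have hP1 : P ≠ ⊥ := fun h => (hJ ▸ thompson_ne_bot hTp hT1) (le_bot_iff.1 (h ▸ hJP))
  have hJP' : thompsonSubgroupOf 2 P = J := by
    rw [(straddling_max hT ⟨hP.2.1, hP1, hP.1.trans inf_le_right, _, hJ2, hP.1.trans inf_le_left, hN⟩
      (hJ ▸ hJP)).1, hJ]
  have hSM : IsSylowTwoIn (S : Subgroup G) M := by
    have hle : (S : Subgroup G) ≤ M := le_trans (fun x hx => mem_normalizer_of_map_eq (by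
      rw [← thompson_map _ (MulAut.conj x).injective, map_conj_eq_self (le_normalizer hx)])) hMJ
    refine ⟨hle, S.isPGroup', ?_⟩
    rw [← Nat.not_even_iff_odd, even_iff_two_dvd]
    intro h
    exact S.not_dvd_index (h.trans (relIndex_dvd_index_of_le hle))
  obtain ⟨x, hx, hle⟩ := exists_conj_le hSM hP.2.1 (hP.1.trans inf_le_right)
  obtain ⟨S', hS'⟩ : ∃ S', S' = (S : Subgroup G).map (MulAut.conj x).toMonoidHom := ⟨_, rfl⟩
  rw [← hS'] at hle
  have hS'M : IsSylowTwoIn S' M := hS' ▸ isSylowTwoIn_conj hSM hx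
  rcases hle.eq_or_lt with h | hlt
  · refine hN ?_
    intro g hg
    have hg' : x⁻¹ * g * x ∈ normalizer (thompsonSubgroupOf 2 (S : Subgroup G) : Set G) := by
      refine mem_normalizer_of_map_eq ?_
      rw [← hJP', h, hS', thompson_map _ (MulAut.conj x).injective] at hg
      have := map_conj_eq_self hg
      rw [map_conj_conj] at this
      have h2 := congrArg (Subgroup.map (MulAut.conj x⁻¹).toMonoidHom) this
      rw [map_conj_conj, map_conj_conj, inv_mul_cancel, map_conj_one, ← mul_assoc] at h2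
      exact h2
    have := mul_mem (mul_mem hx (hMJ hg')) (inv_mem hx)
    rwa [show x * (x⁻¹ * g * x) * x⁻¹ = g by group] at this
  · haveI : Group.IsNilpotent ↥S' := hS'M.2.1.isNilpotent
    have hlt' : P.subgroupOf S' < ⊤ := lt_top_iff_ne_top.2 fun e => hlt.not_ge (subgroupOf_eq_top.1 e)
    obtain ⟨y, hy, hyn⟩ := SetLike.exists_of_lt (Group.normalizerCondition_of_isNilpotent _ hlt')
    refine hyn (mem_subgroupOf.2 ?_)
    have hy' : (y : G) ∈ normalizer (P : Set G) := by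
      refine mem_normalizer_fintype fun a ha => ?_
      exact (mem_normalizer_iff.1 hy ⟨a, hle ha⟩).1 ha
    have hyJ : (y : G) ∈ normalizer (J : Set G) := mem_normalizer_of_map_eq (by
      rw [← hJP', ← thompson_map _ (MulAut.conj (y : G)).injective, map_conj_eq_self hy'])
    obtain ⟨n, hn⟩ := hS'M.2.1 y
    exact mem_of_two_pow hP (mem_inf.2 ⟨hyJ, hS'M.1 y.2⟩) hy' (n := n)
      (by simpa using congrArg Subtype.val hn)

theorem straddling_overgroup' (hL : IsCharacteristicTwoType G)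
    (hNM : normalizer (thompsonSubgroupOf 2 T : Set G) ≤ M)
    (hT : T ∈ maxStraddlingTwoSubgroups M) {L : Subgroup G} (hL2 : IsTwoLocal L) (hLM : ¬ L ≤ M)
    {T₀ : Subgroup G} (hT₀ : IsSylowTwoIn T₀ L) (hJT₀ : thompsonSubgroupOf 2 T ≤ T₀) :
    thompsonSubgroupOf 2 T = thompsonSubgroupOf 2 T₀ ∧ T₀ ∈ straddlingTwoSubgroups M ∧ L ∈ jOvergroups T₀ ∧
      (T ≤ L → L ∈ jOvergroups T) := by
  haveI := Fact.mk Nat.prime_two
  obtain ⟨hTp, hT1, hTM, -⟩ := hT.1
  have hJne := thompson_ne_bot hTp hT1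
  have hJM : thompsonSubgroupOf 2 T ≤ M := (thompsonEl_le T).trans hTM
  -- every `2`-subgroup of `L` containing `J(T)` lies in `M`
  have key : ∀ P : Subgroup G, IsPGroup 2 ↥P → P ≤ L → thompsonSubgroupOf 2 T ≤ P →
      P ≤ M ∧ P ∈ straddlingTwoSubgroups M ∧ thompsonSubgroupOf 2 P = thompsonSubgroupOf 2 T ∧
        Nat.card ↥P ≤ Nat.card ↥T := by
    intro P hP hPL hJP
    have hP1 : P ≠ ⊥ := fun h => hJne (le_bot_iff.1 (h ▸ hJP))
    have hPM : P ≤ M := by
      by_contra hcon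
      obtain ⟨P₁, hP₁⟩ : ∃ P₁, P₁ = P ⊓ M := ⟨_, rfl⟩
      have hP₁1 : P₁ ≠ ⊥ := fun h => hJne (le_bot_iff.1 (h ▸ hP₁ ▸ le_inf hJP hJM))
      obtain ⟨hJP₁, -⟩ := straddling_max hT
        ⟨hP₁ ▸ hP.to_le inf_le_left, hP₁1, hP₁ ▸ inf_le_right, L, hL2, hP₁ ▸ inf_le_left.trans hPL, hLM⟩
        (hP₁ ▸ le_inf hJP hJM)
      haveI : Group.IsNilpotent ↥P := hP.isNilpotent
      have hlt : P₁.subgroupOf P < ⊤ := lt_top_iff_ne_top.2 fun e =>
        hcon ((subgroupOf_eq_top.1 e).trans (hP₁ ▸ inf_le_right))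
      obtain ⟨y, hy, hyn⟩ := SetLike.exists_of_lt (Group.normalizerCondition_of_isNilpotent _ hlt)
      refine hyn (mem_subgroupOf.2 (hP₁ ▸ ⟨y.2, hNM ?_⟩))
      have hy' : (y : G) ∈ normalizer (P₁ : Set G) := by
        refine mem_normalizer_fintype fun a ha => ?_
        exact (mem_normalizer_iff.1 hy ⟨a, (hP₁ ▸ inf_le_left : P₁ ≤ P) ha⟩).1 ha
      exact mem_normalizer_of_map_eq (by
        rw [← hJP₁, ← thompson_map _ (MulAut.conj (y : G)).injective, map_conj_eq_self hy'])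
    have hstr : P ∈ straddlingTwoSubgroups M := ⟨hP, hP1, hPM, L, hL2, hPL, hLM⟩
    exact ⟨hPM, hstr, straddling_max hT hstr hJP⟩
  obtain ⟨-, hstr, hJeq, -⟩ := key T₀ hT₀.2.1 hT₀.1 hJT₀
  refine ⟨hJeq.symm, hstr, jOvergroups_of_two_local hL hL2 hT₀ fun h => hLM (h.trans (hJeq ▸ hNM)), fun hTL => ?_⟩
  obtain ⟨T₁, hT₁, hTT₁⟩ := exists_sylowIn hTp hTL
  obtain ⟨-, -, -, hcard⟩ := key T₁ hT₁.2.1 hT₁.1 ((thompsonEl_le T).trans hTT₁)
  have : T = T₁ := eq_of_le_of_card_ge hTT₁ hcard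
  exact jOvergroups_of_two_local hL hL2 (this ▸ hT₁) fun h => hLM (h.trans hNM)

theorem straddling_overgroup (hL : IsCharacteristicTwoType G) (S : Sylow 2 G)
    (hMJ : normalizer (thompsonSubgroupOf 2 (S : Subgroup G) : Set G) ≤ M)
    (hT : T ∈ maxStraddlingTwoSubgroups M) {L : Subgroup G} (hL2 : IsTwoLocal L) (hLM : ¬ L ≤ M)
    {T₀ : Subgroup G} (hT₀ : IsSylowTwoIn T₀ L) (hJT₀ : thompsonSubgroupOf 2 T ≤ T₀) :
    thompsonSubgroupOf 2 T = thompsonSubgroupOf 2 T₀ ∧ T₀ ∈ straddlingTwoSubgroups M ∧ L ∈ jOvergroups T₀ ∧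
      (T ≤ L → L ∈ jOvergroups T) :=
  straddling_overgroup' hL (normalizer_thompson_le S hMJ hT) hT hL2 hLM hT₀ hJT₀

end

/-- The normalizer of `W_K`, for `K` in the family `jComponentsZero T`. -/
theorem normalizer_wOf_setup {T K : Subgroup G} (hL : IsCharacteristicTwoType G)
    (hN : ∀ N : Subgroup G, IsTwoLocal N → Group.IsSolvable ↥N)
    (hZ : ∀ S : Sylow 2 G, centralizer (omegaCenterOf (S : Subgroup G) : Set G) ≤
      normalizer ((S : Subgroup G) : Set G))
    (hT : IsPGroup 2 ↥T) (hK : K ∈ jComponentsZero T) :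
    ∃ S : Subgroup G, thompsonSubgroupOf 2 S = thompsonSubgroupOf 2 T ∧
      Sit S (normalizer (wOf K : Set G)) ∧ IsJComponent S K ∧ K ≤ normalizer (wOf K : Set G) := by
  haveI := Fact.mk Nat.prime_two
  obtain ⟨hKc, hzero⟩ := hK
  obtain ⟨hodd, hcom, hidx, hsyl, hW4, hsq⟩ := hKc
  have hKN : K ≤ normalizer (wOf K : Set G) := le_normalizer.trans (normalizer_le_normalizer_wOf K)
  have hJN : thompsonSubgroupOf 2 T ≤ normalizer (wOf K : Set G) :=
    le_trans (le_trans (Grp.right_le_normalizer_commutator (thompsonSubgroupOf 2 T) K) (le_of_eq (by rw [hcom])))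
      (normalizer_le_normalizer_wOf K)
  obtain ⟨S, hS, hJS⟩ := exists_sylowIn (hT.to_le (thompsonEl_le T)) hJN
  have hJ := hzero S hJS hS
  have hW1 : wOf K ≠ ⊥ := fun h => by rw [h, card_bot] at hW4; omega
  have hL2 : IsTwoLocal (normalizer (wOf K : Set G)) :=
    ⟨wOf K, IsPGroup.of_card (n := 2) (by rw [hW4]; norm_num), hW1, rfl⟩
  have hmem := jOvergroups_of_two_local hL hL2 hS fun h => by
    rw [hJ] at h
    have hKJ : K ≤ thompsonSubgroupOf 2 T := hcom.ge.trans (commutator_le.2 fun k hk j hj => by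
      rw [commutatorElement_def]
      exact mul_mem ((mem_normalizer_iff.1 (h (hKN hk)) j).1 hj) (inv_mem hj))
    rw [le_antisymm (pCoreOf_le K) (le_pCoreOf le_rfl le_normalizer (hT.to_le (hKJ.trans (thompsonEl_le T)))),
      relIndex_self] at hidx
    omega
  have hS1 : S ≠ ⊥ := fun h => by
    refine hmem.2.1 fun x hx => ?_
    have hx' := thompsonEl_le S hx
    rw [h, mem_bot] at hx'
    rw [hx']; exact one_mem _
  exact ⟨S, hJ, Sit.of_mem hL hN hZ hS1 hmem, isJComponent_congr hJ.symm ⟨hodd, hcom, hidx, hsyl, hW4, hsq⟩, hKN⟩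

theorem jComponentsZero_normalizer {T K : Subgroup G} (hL : IsCharacteristicTwoType G)
    (hN : ∀ N : Subgroup G, IsTwoLocal N → Group.IsSolvable ↥N)
    (hZ : ∀ S : Sylow 2 G, centralizer (omegaCenterOf (S : Subgroup G) : Set G) ≤
      normalizer ((S : Subgroup G) : Set G))
    (hT : IsPGroup 2 ↥T) (hK : K ∈ jComponentsZero T) :
    normalizer (K : Set G) = normalizer (wOf K : Set G) ∧
      ∀ g : G, thompsonSubgroupOf 2 (T.map (MulAut.conj g).toMonoidHom) ≤ normalizer (wOf K : Set G) →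
        IsJComponent (T.map (MulAut.conj g).toMonoidHom) K := by
  obtain ⟨S, hJ, s, hKS, hKL⟩ := normalizer_wOf_setup hL hN hZ hT hK
  have hW1 : ∃ w ∈ wOf K, w ≠ 1 := by
    by_contra hcon
    push Not at hcon
    have := hK.1.2.2.2.2.1
    rw [(Subgroup.eq_bot_iff_forall _).2 hcon, card_bot] at this
    omega
  have key : ∀ x ∈ normalizer (wOf K : Set G), K.map (MulAut.conj x).toMonoidHom = K := by
    intro x hx
    obtain ⟨h1, h2⟩ := s.comp_conj hKS hKL hx
    obtain ⟨w, hw, hw1⟩ := hW1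
    refine s.comp_eq h1 h2 hKS hKL ?_ hw hw1
    rw [wOf_map _ (MulAut.conj x).injective, map_conj_eq_self hx]
    exact hw
  refine ⟨le_antisymm (normalizer_le_normalizer_wOf K) fun x hx => mem_normalizer_of_map_eq (key x hx),
    fun g hg => ?_⟩
  obtain ⟨J', hJ'⟩ : ∃ J', J' = thompsonSubgroupOf 2 (T.map (MulAut.conj g).toMonoidHom) := ⟨_, rfl⟩
  rw [← hJ'] at hg
  have hf : Function.Injective (MulAut.conj g).toMonoidHom := (MulAut.conj g).injective
  have hJ'p : IsPGroup 2 ↥J' := hJ' ▸ (hT.map _).to_le (thompsonEl_le _)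
  obtain ⟨y, hy, hle⟩ := exists_conj_le s.syl hJ'p hg
  have hfy : Function.Injective (MulAut.conj y).toMonoidHom := (MulAut.conj y).injective
  have hle' : J' ≤ thompsonSubgroupOf 2 (S.map (MulAut.conj y).toMonoidHom) := by
    rw [hJ'] at hle ⊢
    refine thompsonEl_le_of fun A hA => IsMaxEl.le_thompsonEl ⟨hA.le_thompsonEl.trans hle, hA.2.1, ?_⟩
    intro B hB hB'
    obtain ⟨C, hC⟩ := exists_maxEl (S.map (MulAut.conj y).toMonoidHom)
    have := hC.2.2 B hB hB'
    rw [← maxElemAbelianOrder_eq hC, maxElemAbelianOrder_map _ hfy,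
      ← maxElemAbelianOrder_thompson le_rfl (thompsonEl_le S), hJ,
      maxElemAbelianOrder_thompson le_rfl (thompsonEl_le T), ← maxElemAbelianOrder_map _ hf,
      maxElemAbelianOrder_eq hA] at this
    exact this
  have heq : J' = thompsonSubgroupOf 2 (S.map (MulAut.conj y).toMonoidHom) := by
    refine eq_of_le_of_card_ge hle' ?_
    rw [hJ', thompson_map _ hf, thompson_map _ hfy, card_map_of_injective hf, card_map_of_injective hfy, hJ]
  rw [← key y hy]
  exact isJComponent_congr (heq.symm.trans hJ') (isJComponent_map_conj y hKS)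

end Cfsg.Agent.Invol.JComp

namespace Cfsg.Agent.Invol.JComp

open Subgroup

variable {G : Type*} [Group G] [Finite G]

/-- `J(T)`, `C_L(V)` and the components generate the group `D`. -/
theorem Sit.dOf_le_of_components {T L M : Subgroup G} (s : Sit T L)
    (hM : normalizer (thompsonSubgroupOf 2 T : Set G) ≤ M)
    (hK : ∀ K, IsJComponent T K → K ≤ L → K ≤ M) : dOf T L ≤ M := by
  obtain ⟨Ws, f⟩ := s.exists_frame
  intro d hd
  obtain ⟨e, ⟨heD, hed⟩, hmin⟩ := Set.exists_min_image {e : G | e ∈ dOf T L ∧ d⁻¹ * e ∈ M}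
    (fun e => {W : Subgroup G | W ∈ Ws ∧ e ∉ centralizer (W : Set G)}.ncard) (Set.toFinite _)
    ⟨d, hd, by rw [inv_mul_cancel]; exact one_mem _⟩
  have heC : e ∈ cOf L := by
    refine s.mem_cOf f heD fun W hW => ?_
    by_contra heW
    -- an element of `M` which moves only `W` and reduces the set
    have hfix : ∀ x, x ∈ dOf T L → x ∈ M → e * x ∈ centralizer (W : Set G) →
        (∀ W' ∈ Ws, W' ≠ W → x ∈ centralizer (W' : Set G)) → False := by
      intro x hxD hxM hxW hxo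
      have hsub : {V : Subgroup G | V ∈ Ws ∧ e * x ∉ centralizer (V : Set G)} ⊂
          {V : Subgroup G | V ∈ Ws ∧ e ∉ centralizer (V : Set G)} := by
        refine ⟨fun V hV => ⟨hV.1, fun h => hV.2 ?_⟩, fun hcon => (hcon ⟨hW, heW⟩).2 hxW⟩
        by_cases hVW : V = W
        · exact hVW ▸ hxW
        · exact mul_mem h (hxo V hV.1 hVW)
      have h1 := hmin (e * x) ⟨mul_mem heD hxD, by rw [← mul_assoc]; exact mul_mem hed hxM⟩
      have h2 := Set.ncard_lt_ncard hsub (Set.toFinite _)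
      omega
    have h4 := f.card W hW
    obtain ⟨K, hKc, hKL, hKW⟩ := s.exists_comp f hW
    obtain ⟨W', c⟩ := s.compData f hKc hKL
    have hWW : W' = W := c.w_eq.symm.trans hKW
    subst hWW
    obtain ⟨k, hk, -, hkW⟩ := c.exists_odd
    obtain ⟨t, ht, ht2, htW, hto⟩ := f.iso W' hW
    have htn := f.stab W' hW (J_le_dOf ht)
    have htne : ¬ Ev W' t := not_ev_of_sq h4 htn (by rw [ht2]; exact one_mem _) htW
    have hkM := hK K hKc hKL hk
    have htM : t ∈ M := hM (le_normalizer ht)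
    -- an even element moving `W`, times an element of `M`
    have heven : ∀ y, Ev W' y → ∀ x₀, x₀ ∈ dOf T L → x₀ ∈ M → y = e * x₀ →
        (∀ V ∈ Ws, V ≠ W' → x₀ ∈ centralizer (V : Set G)) → False := by
      intro y hy x₀ hx₀D hx₀M hye hx₀o
      rcases (c.ev k hk).cases h4 hkW hy with h | h | h
      · exact hfix x₀ hx₀D hx₀M (hye ▸ h) hx₀o
      · refine hfix (x₀ * k⁻¹) (mul_mem hx₀D (inv_mem (c.le_d hk))) (mul_mem hx₀M (inv_mem hkM)) ?_
          fun V hV hne => mul_mem (hx₀o V hV hne) (inv_mem (c.others V hV hne hk))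
        have := mul_mem (hy.comm h4 ((c.ev k hk).inv h4)) (show k⁻¹ * y ∈ centralizer (W' : Set G) from h)
        rw [← mul_assoc, ← hye]
        rwa [show y * k⁻¹ * y⁻¹ * k⁻¹⁻¹ * (k⁻¹ * y) = y * k⁻¹ by group] at this
      · refine hfix (x₀ * k) (mul_mem hx₀D (c.le_d hk)) (mul_mem hx₀M hkM) ?_
          fun V hV hne => mul_mem (hx₀o V hV hne) (c.others V hV hne hk)
        have := mul_mem (hy.comm h4 (c.ev k hk)) (show k * y ∈ centralizer (W' : Set G) from h)
        rw [← mul_assoc, ← hye]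
        rwa [show y * k * y⁻¹ * k⁻¹ * (k * y) = y * k by group] at this
    by_cases hee : Ev W' e
    · exact heven e hee 1 (one_mem _) (one_mem _) (mul_one e).symm fun _ _ _ => one_mem _
    · exact heven _ (odd_odd h4 (f.stab W' hW heD) hee htn htne).1 t (J_le_dOf ht) htM rfl hto
  have := mul_mem (hM (s.cOf_le_normalizer_J heC)) (inv_mem hed)
  rwa [show e * (d⁻¹ * e)⁻¹ = d by group] at this

end Cfsg.Agent.Invol.JComp
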