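import Mathlib
import Cfsg.Agent.Lib.Classical.DicksonMain

/-!
A group of order prime to `p` of `GL(2, p)` cannot contain elements of large projective order
fixing three different lines.
-/

set_option autoImplicit false
set_option linter.unusedSectionVars false
set_option linter.style.haveILetI false

namespace Cfsg.Agent.Invol.Lines

open Matrix

universe u v

variable {p : ℕ} [hp : Fact p.Prime]

/-- The determinant of two vectors. -/
def cr {R : Type*} [CommRing R] (v w : Fin 2 → R) : R := v 0 * w 1 - v 1 * w 0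

theorem cr_mulVec {R : Type*} [CommRing R] (Y : Matrix (Fin 2) (Fin 2) R) (v w : Fin 2 → R) :
    cr (Y.mulVec v) (Y.mulVec w) = Y.det * cr v w := by
  simp only [cr, Matrix.det_fin_two, Matrix.mulVec, dotProduct, Fin.sum_univ_two]
  ring

theorem cr_smul {R : Type*} [CommRing R] (a b : R) (v w : Fin 2 → R) :
    cr (a • v) (b • w) = a * b * cr v w := by
  simp only [cr, Pi.smul_apply, smul_eq_mul]
  ring

theorem exists_smul {v w : Fin 2 → ZMod p} (hv : v ≠ 0) (h : cr v w = 0) : ∃ k : ZMod p, w = k • v := by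
  rw [cr, sub_eq_zero] at h
  rcases eq_or_ne (v 0) 0 with h0 | h0
  · have h1 : v 1 ≠ 0 := fun h1 => hv (funext fun i => by fin_cases i <;> assumption)
    refine ⟨w 1 / v 1, funext fun i => ?_⟩
    fin_cases i
    · show w 0 = w 1 / v 1 * v 0
      rw [h0, mul_zero]
      rw [h0, zero_mul, eq_comm, mul_eq_zero] at h
      exact h.resolve_left h1
    · show w 1 = w 1 / v 1 * v 1
      rw [div_mul_cancel₀ _ h1]
  · refine ⟨w 0 / v 0, funext fun i => ?_⟩
    fin_cases i
    · show w 0 = w 0 / v 0 * v 0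
      rw [div_mul_cancel₀ _ h0]
    · show w 1 = w 0 / v 0 * v 1
      field_simp
      linear_combination h

variable {H : Type u} [Group H] [Finite H]

/-- The data of an element with an eigenvalue `lam⁻¹` and determinant `lam`. -/
structure Line (lam : (ZMod p)ˣ) (A : Matrix (Fin 2) (Fin 2) (ZMod p)) (v : Fin 2 → ZMod p) : Prop where
  eig : A.mulVec v = ((lam⁻¹ : (ZMod p)ˣ) : ZMod p) • v
  det : A.det = lam
  ne : v ≠ 0

theorem three_commuting {lam : (ZMod p)ˣ} (h6 : lam ^ 6 ≠ 1) {A : Fin 3 → Matrix (Fin 2) (Fin 2) (ZMod p)}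
    {v : Fin 3 → Fin 2 → ZMod p} (hL : ∀ i, Line lam (A i) (v i))
    (hind : ∀ i j, i ≠ j → cr (v i) (v j) ≠ 0) (hc : ∀ i j, A i * (A j * A j) = A j * A j * A i) : False := by
  set a : ZMod p := ((lam⁻¹ : (ZMod p)ˣ) : ZMod p) with ha
  set b : ZMod p := (lam : ZMod p) with hb
  have hab : a * b = 1 := by rw [ha, hb, ← Units.val_mul, inv_mul_cancel, Units.val_one]
  have h3 : b ^ 3 ≠ 1 := fun e => h6 (by
    have : lam ^ 3 = 1 := Units.ext (by rw [Units.val_pow_eq_pow_val]; exact e)
    rw [show 6 = 3 * 2 by norm_num, pow_mul, this, one_pow])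
  set Y := A 2 * A 2 with hY
  have hY2 : Y.mulVec (v 2) = (a * a) • v 2 := by
    rw [hY, ← Matrix.mulVec_mulVec, (hL 2).eig, Matrix.mulVec_smul, (hL 2).eig, smul_smul]
  have hYd : Y.det = b * b := by rw [hY, Matrix.det_mul, (hL 2).det]
  have key : ∀ i : Fin 3, i ≠ 2 → Y.mulVec (v i) = b ^ 4 • v i := by
    intro i hi
    have hz : cr (v i) (Y.mulVec (v i)) = 0 := by
      by_contra hne
      have hX : (A i).mulVec (Y.mulVec (v i)) = a • Y.mulVec (v i) := by
        rw [Matrix.mulVec_mulVec, hc i 2, ← Matrix.mulVec_mulVec, (hL i).eig, Matrix.mulVec_smul]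
      have h := cr_mulVec (A i) (v i) (Y.mulVec (v i))
      rw [hX, (hL i).eig, cr_smul, (hL i).det] at h
      have h2 : a * a = b := mul_right_cancel₀ hne h
      refine h3 ?_
      calc b ^ 3 = b * b * (a * a) := by rw [h2]; ring
        _ = (a * b) * (a * b) := by ring
        _ = 1 := by rw [hab, one_mul]
    obtain ⟨k, hk⟩ := exists_smul (hL i).ne hz
    have h := cr_mulVec Y (v i) (v 2)
    rw [hk, hY2, cr_smul, hYd] at h
    have h2 : k * (a * a) = b * b := mul_right_cancel₀ (hind i 2 hi) h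
    rw [hk, show k = b ^ 4 by
      calc k = k * ((a * b) * (a * b)) := by rw [hab]; ring
        _ = (k * (a * a)) * (b * b) := by ring
        _ = b ^ 4 := by rw [h2]; ring]
  have h := cr_mulVec Y (v 0) (v 1)
  rw [key 0 (by decide), key 1 (by decide), cr_smul, hYd] at h
  have h2 : b ^ 4 * b ^ 4 = b * b := mul_right_cancel₀ (hind 0 1 (by decide)) h
  refine h6 (Units.ext ?_)
  rw [Units.val_pow_eq_pow_val, Units.val_one]
  have hb0 : b * b ≠ 0 := mul_ne_zero lam.ne_zero lam.ne_zero
  refine mul_left_cancel₀ hb0 ?_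
  rw [mul_one]
  exact Eq.trans (by rw [← hb]; ring) h2

set_option maxRecDepth 100000 in
theorem perm_four_orders : ∀ g : Equiv.Perm (Fin 4), g ^ 2 = 1 ∨ g ^ 3 = 1 ∨ g ^ 4 = 1 := by decide

set_option maxRecDepth 100000 in
theorem perm_four_commute : ∀ g h : Equiv.Perm (Fin 4),
    (g ^ 2 ≠ 1 ∧ g ^ 4 = 1 ∧ h ^ 2 ≠ 1 ∧ h ^ 4 = 1 ∧ g ^ 2 = h ^ 2) → g * h = h * g := by decide

set_option maxRecDepth 100000 in
theorem perm_four_squares : ∃ S : Finset (Equiv.Perm (Fin 4)), S.card = 3 ∧
    ∀ g : Equiv.Perm (Fin 4), g ^ 2 ≠ 1 → g ^ 4 = 1 → g ^ 2 ∈ S :=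
  ⟨(Finset.univ.filter fun g : Equiv.Perm (Fin 4) => g ^ 2 = 1 ∧ ∀ i, g i ≠ i), by decide, by decide⟩

set_option maxRecDepth 100000 in
theorem alt_five_orders : ∀ g : alternatingGroup (Fin 5), g ^ 2 = 1 ∨ g ^ 3 = 1 ∨ g ^ 5 = 1 := by decide

theorem exists_three {X : Type*} [Group X] {ι : Type*} [Fintype ι] (h3 : 3 ≤ Fintype.card ι) (y : ι → X)
    (hc : ∀ i j, Commute (y i) (y j)) : ∃ f : Fin 3 → ι, Function.Injective f ∧ ∀ a b, Commute (y (f a)) (y (f b)) := by
  obtain ⟨e⟩ : Nonempty (Fin 3 ↪ ι) := Function.Embedding.nonempty_of_card_le (by simpa using h3)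
  exact ⟨e, e.injective, fun a b => hc _ _⟩

/-- Three of the given elements of a group of order prime to `p` of Dickson's list commute. -/
theorem exists_three_commuting {X : Type u} [Group X] [Finite X] (D : Dickson.Data X p)
    (hX : ¬ p ∣ Nat.card X) {ι : Type*} [Fintype ι] (h3 : 3 ≤ Fintype.card ι) (y : ι → X)
    (hy : ∀ (i : ι) (k : ℕ), 1 ≤ k → k ≤ 3 → y i ^ k ≠ 1) (hy5 : ∀ i, y i ^ 5 ≠ 1)
    (hy4 : (∀ i, y i ^ 4 ≠ 1) ∨ 7 ≤ Fintype.card ι) :
    ∃ f : Fin 3 → ι, Function.Injective f ∧ ∀ a b, Commute (y (f a)) (y (f b)) := by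
  have hpelem : ∀ a : X, a ≠ 1 → a ^ p = 1 → False := fun a ha hap =>
    hX (orderOf_eq_prime hap ha ▸ orderOf_dvd_natCard a)
  have hy1 : ∀ i, y i ≠ 1 := fun i h => hy i 1 le_rfl (by norm_num) (by rw [h, one_pow])
  rcases D.kind_coprime hp.out hX with h1 | ⟨a, ha, -, hT⟩ | ⟨a, ha, hap, -, hN, -⟩ | ⟨a, ha, hap, -⟩ |
    ⟨-, ⟨e⟩, -⟩ | ⟨-, ⟨e⟩, -⟩ | ⟨-, ⟨e⟩, -⟩ | ⟨a, t, ha, hap, -⟩
  · exfalso
    obtain ⟨i⟩ : Nonempty ι := Fintype.card_pos_iff.mp (by omega)
    haveI := (Nat.card_eq_one_iff_unique.mp h1).1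
    exact hy1 i (Subsingleton.elim _ _)
  · exact exists_three h3 y fun i j => D.comm ha (hT ▸ Subgroup.mem_top _) (hT ▸ Subgroup.mem_top _)
  · have hmem : ∀ i, y i ∈ D.T a := fun i => by
      by_contra h
      exact hy i 2 (by norm_num) (by norm_num) (by
        rw [pow_two]
        exact (D.semi_flip ha hap ((D.mem_normalizer_iff ha).mp (hN ▸ Subgroup.mem_top _)) h).1)
    exact exists_three h3 y fun i j => D.comm ha (hmem i) (hmem j)
  · exact (hpelem a ha hap).elim
  · -- alternating of degree four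
    exfalso
    obtain ⟨i⟩ : Nonempty ι := Fintype.card_pos_iff.mp (by omega)
    have h6 : ∀ g : alternatingGroup (Fin 4), g ^ 2 = 1 ∨ g ^ 3 = 1 := by decide
    rcases h6 (e (y i)) with h | h <;> rw [← map_pow, ← map_one e] at h
    · exact hy i 2 (by norm_num) (by norm_num) (e.injective h)
    · exact hy i 3 (by norm_num) le_rfl (e.injective h)
  · -- symmetric of degree four
    have h4 : ∀ i, (e (y i)) ^ 2 ≠ 1 ∧ (e (y i)) ^ 4 = 1 := fun i => by
      refine ⟨fun h => ?_, ?_⟩
      · rw [← map_pow, ← map_one e] at h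
        exact hy i 2 (by norm_num) (by norm_num) (e.injective h)
      · rcases perm_four_orders (e (y i)) with h | h | h
        · rw [← map_pow, ← map_one e] at h
          exact absurd (e.injective h) (hy i 2 (by norm_num) (by norm_num))
        · rw [← map_pow, ← map_one e] at h
          exact absurd (e.injective h) (hy i 3 (by norm_num) le_rfl)
        · exact h
    rcases hy4 with hy4 | h7
    · exfalso
      obtain ⟨i⟩ : Nonempty ι := Fintype.card_pos_iff.mp (by omega)
      refine hy4 i (e.injective ?_)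
      rw [map_pow, map_one]
      exact (h4 i).2
    obtain ⟨S, hS, hmem⟩ := perm_four_squares
    classical
    obtain ⟨q, -, hq⟩ := Finset.exists_lt_card_fiber_of_mul_lt_card_of_maps_to
      (s := (Finset.univ : Finset ι)) (t := S) (f := fun i => (e (y i)) ^ 2) (n := 2)
      (fun i _ => hmem _ (h4 i).1 (h4 i).2) (by rw [hS, Finset.card_univ]; omega)
    obtain ⟨f⟩ : Nonempty (Fin 3 ↪ {i // (e (y i)) ^ 2 = q}) :=
      Function.Embedding.nonempty_of_card_le (by
        rw [Fintype.card_fin, Fintype.card_subtype]; exact hq)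
    refine ⟨fun a => (f a).1, fun a b h => f.injective (Subtype.ext h), fun a b => ?_⟩
    refine e.injective ?_
    rw [map_mul, map_mul]
    exact perm_four_commute _ _ ⟨(h4 _).1, (h4 _).2, (h4 _).1, (h4 _).2, (f a).2.trans (f b).2.symm⟩
  · exfalso
    obtain ⟨i⟩ : Nonempty ι := Fintype.card_pos_iff.mp (by omega)
    rcases alt_five_orders (e (y i)) with h | h | h <;> rw [← map_pow, ← map_one e] at h
    · exact hy i 2 (by norm_num) (by norm_num) (e.injective h)
    · exact hy i 3 (by norm_num) le_rfl (e.injective h)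
    · exact hy5 i (e.injective h)
  · exact (hpelem a ha hap).elim

/-- The main arithmetical bound. -/
theorem no_lines (hp11 : 11 ≤ p) (ρ : H →* GL (Fin 2) (ZMod p)) (hH : ¬ p ∣ Nat.card H)
    (lam : (ZMod p)ˣ) (hlam : orderOf lam = p - 1) {ι : Type*} [Fintype ι]
    (hι : (3 ≤ Fintype.card ι ∧ 13 < p) ∨ 7 ≤ Fintype.card ι) (x : ι → H) (v : ι → Fin 2 → ZMod p)
    (hL : ∀ i, Line lam (ρ (x i)).val (v i)) (hind : ∀ i j, i ≠ j → cr (v i) (v j) ≠ 0) : False := by
  classical
  have hp' := hp.out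
  haveI := Fintype.ofFinite (GaloisField p 2)
  haveI : CharP (GaloisField p 2) p := inferInstance
  let ι' : ZMod p →+* GaloisField p 2 := algebraMap (ZMod p) (GaloisField p 2)
  have hinj : Function.Injective ι' := ι'.injective
  have hcard : Fintype.card (GaloisField p 2) = p ^ 2 := by
    rw [← Nat.card_eq_fintype_card]; exact GaloisField.card p 2 two_ne_zero
  have hsq : ∀ a : (ZMod p)ˣ, ∃ s : (GaloisField p 2)ˣ, (s : GaloisField p 2) * s = ι' a := by
    intro a
    have ha0 : ι' (a : ZMod p) ≠ 0 := (map_ne_zero ι').mpr a.ne_zero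
    have hchar : ringChar (GaloisField p 2) ≠ 2 := by rw [ringChar.eq _ p]; omega
    obtain ⟨s, hs⟩ : IsSquare (ι' (a : ZMod p)) := by
      rw [FiniteField.isSquare_iff hchar ha0, hcard]
      obtain ⟨m, hm⟩ := hp'.odd_of_ne_two (by omega)
      have : p ^ 2 / 2 = (p - 1) * (m + 1) := by
        subst hm
        rw [show (2 * m + 1) ^ 2 = 1 + 2 * (2 * m * (m + 1)) by ring, Nat.add_mul_div_left _ _ two_pos,
          Nat.add_sub_cancel]
        omega
      rw [this, pow_mul, ← map_pow, ZMod.pow_card_sub_one_eq_one a.ne_zero, map_one, one_pow]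
    exact ⟨Units.mk0 s (fun e => ha0 (by rw [hs, e, mul_zero])), hs.symm⟩
  choose sq hsqe using hsq
  let dt : H → (ZMod p)ˣ := fun h => Matrix.GeneralLinearGroup.det (ρ h)
  let M : H → Matrix (Fin 2) (Fin 2) (GaloisField p 2) := fun h =>
    ((sq (dt h))⁻¹ : (GaloisField p 2)ˣ).val • (ρ h).val.map ι'
  have hdetM : ∀ h, (M h).det = 1 := fun h => by
    have h1 : ((ρ h).val.map ι').det = (sq (dt h) : GaloisField p 2) * sq (dt h) := by
      rw [hsqe, ← RingHom.mapMatrix_apply, ← RingHom.map_det]; rfl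
    rw [Matrix.det_smul, Fintype.card_fin, h1, pow_two]
    rw [mul_mul_mul_comm, ← Units.val_mul, inv_mul_cancel, Units.val_one, one_mul]
  let S : H → Matrix.SpecialLinearGroup (Fin 2) (GaloisField p 2) := fun h => ⟨M h, hdetM h⟩
  have hmul : ∀ g h, S g * S h = S (g * h) ∨ S g * S h = -S (g * h) := by
    intro g h
    have hd : dt (g * h) = dt g * dt h := by simp only [dt, map_mul]
    have e1 : ((sq (dt g) * sq (dt h) : (GaloisField p 2)ˣ) : GaloisField p 2) ^ 2 =
        (sq (dt (g * h)) : GaloisField p 2) ^ 2 := by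
      rw [pow_two, pow_two, Units.val_mul, mul_mul_mul_comm, hsqe, hsqe, hsqe, hd, Units.val_mul, map_mul]
    have hprod : (S g * S h : Matrix.SpecialLinearGroup (Fin 2) (GaloisField p 2)).1 =
        (((sq (dt g) * sq (dt h))⁻¹ : (GaloisField p 2)ˣ) : GaloisField p 2) • (ρ (g * h)).val.map ι' := by
      show M g * M h = _
      simp only [M]
      rw [Matrix.smul_mul, Matrix.mul_smul, smul_smul, ← Matrix.map_mul, map_mul, Units.val_mul,
        ← Units.val_mul, mul_inv]
    rcases sq_eq_sq_iff_eq_or_eq_neg.mp e1 with e | e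
    · left
      refine Subtype.ext ?_
      rw [hprod, Units.ext e]
    · right
      refine Subtype.ext ?_
      have e' : sq (dt g) * sq (dt h) = -sq (dt (g * h)) := Units.ext (by rw [Units.val_neg]; exact e)
      rw [hprod, e', inv_neg, Units.val_neg, Matrix.SpecialLinearGroup.coe_neg, neg_smul]
  let Φ : H →* Matrix.ProjectiveSpecialLinearGroup (Fin 2) (GaloisField p 2) :=
    MonoidHom.mk' (fun h => PSL2Spec.proj (S h)) fun g h => by
      rw [← map_mul]
      rcases hmul g h with e | e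
      · rw [e]
      · rw [e, Dickson.proj_neg]
  have hΦeq : ∀ g h, Φ g = Φ h → ∃ c : GaloisField p 2, (ρ g).val.map ι' = c • (ρ h).val.map ι' := by
    intro g h he
    have hunit : ∀ g, (ρ g).val.map ι' = (sq (dt g) : GaloisField p 2) • M g := fun g => by
      simp only [M, smul_smul, Units.mul_inv, one_smul]
    rcases Dickson.proj_eq_iff.mp he with e | e
    · refine ⟨(sq (dt g) : GaloisField p 2) * ((sq (dt h))⁻¹ : (GaloisField p 2)ˣ).val, ?_⟩
      rw [hunit g, show M g = M h from (congrArg Subtype.val e).symm, mul_smul]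
    · refine ⟨-((sq (dt g) : GaloisField p 2) * ((sq (dt h))⁻¹ : (GaloisField p 2)ˣ).val), ?_⟩
      rw [hunit g, show M g = -(M h) by
        rw [show M h = -(M g) from congrArg Subtype.val e, neg_neg], neg_smul, mul_smul, smul_neg]
  have hpow : ∀ (i : ι) (k : ℕ), Φ (x i) ^ k = 1 → lam ^ (3 * k) = 1 := by
    intro i k hk
    rw [← map_pow, ← map_one Φ] at hk
    obtain ⟨c, hc⟩ := hΦeq _ _ hk
    have hc1 : (ρ (x i ^ k)).val.map ι' = c • (1 : Matrix (Fin 2) (Fin 2) (GaloisField p 2)) := by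
      rw [hc, map_one, Units.val_one, Matrix.map_one _ (map_zero ι') (map_one ι')]
    set w : Fin 2 → GaloisField p 2 := fun j => ι' (v i j) with hw
    have hev : ∀ k : ℕ, (ρ (x i ^ k)).val.mulVec (v i) = ((lam⁻¹ : (ZMod p)ˣ) : ZMod p) ^ k • v i := by
      intro k
      induction k with
      | zero => rw [pow_zero, pow_zero, map_one, Units.val_one, Matrix.one_mulVec, one_smul]
      | succ k ih =>
        rw [pow_succ (x i), map_mul, Units.val_mul, ← Matrix.mulVec_mulVec, (hL i).eig, Matrix.mulVec_smul, ih,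
          smul_smul, pow_succ']
    obtain ⟨j, hj⟩ : ∃ j, v i j ≠ 0 := Function.ne_iff.mp (hL i).ne
    have e1 : c = ι' (((lam⁻¹ : (ZMod p)ˣ) : ZMod p) ^ k) := by
      have h1 := RingHom.map_mulVec ι' (ρ (x i ^ k)).val (v i) j
      rw [hev, hc1, Matrix.smul_mulVec, Matrix.one_mulVec, Pi.smul_apply, smul_eq_mul, map_mul] at h1
      exact (mul_right_cancel₀ ((map_ne_zero ι').mpr hj) h1).symm
    have e2 : c * c = ι' ((lam : ZMod p) ^ k) := by
      have h1 := congrArg Matrix.det hc1
      rw [← RingHom.mapMatrix_apply, ← RingHom.map_det, Matrix.det_smul, Matrix.det_one, mul_one,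
        Fintype.card_fin, map_pow ρ, Units.val_pow_eq_pow_val, Matrix.det_pow, (hL i).det, pow_two] at h1
      exact h1.symm
    rw [e1, ← map_mul, ← Units.val_pow_eq_pow_val, ← Units.val_mul, ← Units.val_pow_eq_pow_val] at e2
    have e3 : (lam⁻¹) ^ k * (lam⁻¹) ^ k = lam ^ k := Units.ext (hinj e2)
    calc lam ^ (3 * k) = lam ^ k * (lam ^ k * lam ^ k) := by
          rw [← pow_add, ← pow_add]; congr 1; ring
      _ = ((lam⁻¹) ^ k * (lam⁻¹) ^ k) * (lam ^ k * lam ^ k) := by rw [e3]
      _ = 1 := by rw [← mul_pow, ← mul_pow, ← mul_pow]; simp [mul_assoc]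
  have hk : ∀ (i : ι) (k : ℕ), 1 ≤ k → Φ (x i) ^ k = 1 → (p - 1) ∣ 3 * k := fun i k _ h =>
    hlam ▸ orderOf_dvd_of_pow_eq_one (hpow i k h)
  -- Dickson
  set X := Φ.range
  have hX : ¬ p ∣ Nat.card X := fun h => hH (h.trans (Subgroup.card_range_dvd Φ))
  let y : ι → X := fun i => ⟨Φ (x i), ⟨x i, rfl⟩⟩
  have hyk : ∀ i k, y i ^ k = 1 → Φ (x i) ^ k = 1 := fun i k h => congrArg Subtype.val h
  have hsmall : ∀ i k, 1 ≤ k → k ≤ 3 → y i ^ k ≠ 1 := fun i k h1 h2 h => by
    have := Nat.le_of_dvd (by omega) (hk i k h1 (hyk i k h))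
    omega
  have hne14 : p ≠ 16 := fun e => by rw [e] at hp'; norm_num at hp'
  have hy5 : ∀ i, y i ^ 5 ≠ 1 := fun i h => by
    have h15 : (p - 1) ∣ 15 := hk i 5 (by norm_num) (hyk i 5 h)
    have := Nat.le_of_dvd (by norm_num) h15
    have hp16 : p ≤ 16 := by omega
    interval_cases p <;> first | omega | (norm_num at h15) | (norm_num at hp')
  have hy4 : (∀ i, y i ^ 4 ≠ 1) ∨ 7 ≤ Fintype.card ι := hι.imp (fun h i e => by
    have := Nat.le_of_dvd (by norm_num) (hk i 4 (by norm_num) (hyk i 4 e))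
    omega) id
  obtain ⟨f, hf, hcom⟩ := exists_three_commuting ((Dickson.pslData (F := GaloisField p 2) p).restrict X) hX
    (by rcases hι with h | h <;> omega) y hsmall hy5 hy4
  refine three_commuting (lam := lam) (fun e => ?_) (A := fun a => (ρ (x (f a))).val) (v := fun a => v (f a))
    (fun a => hL _) (fun a b h => hind _ _ (hf.ne h)) fun a b => ?_
  · have := Nat.le_of_dvd (by norm_num) (hlam ▸ orderOf_dvd_of_pow_eq_one e)
    omega
  · have e : Φ (x (f a) * x (f b)) = Φ (x (f b) * x (f a)) := by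
      rw [map_mul, map_mul]; exact congrArg Subtype.val (hcom a b).eq
    obtain ⟨c, hc⟩ := hΦeq _ _ e
    simp only [map_mul, Units.val_mul] at hc
    set A := (ρ (x (f a))).val
    set B := (ρ (x (f b))).val
    have hc2 : c * c = 1 := by
      have h1 := congrArg Matrix.det hc
      rw [← RingHom.mapMatrix_apply, ← RingHom.mapMatrix_apply, ← RingHom.map_det, Matrix.det_smul, Fintype.card_fin,
        ← RingHom.map_det, Matrix.det_mul, Matrix.det_mul, mul_comm B.det, pow_two] at h1
      refine (mul_eq_right₀ ((map_ne_zero ι').mpr ?_)).mp h1.symm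
      rw [(hL _).det, (hL _).det]
      exact mul_ne_zero lam.ne_zero lam.ne_zero
    have hAB : A * B = B * A ∨ A * B = -(B * A) := by
      rcases mul_self_eq_one_iff.mp hc2 with rfl | rfl
      · left
        rw [one_smul] at hc
        exact Matrix.map_injective hinj hc
      · right
        refine Matrix.map_injective hinj ?_
        show (A * B).map ι' = (-(B * A)).map ι'
        rw [hc]
        ext i j
        simp only [Matrix.smul_apply, Matrix.map_apply, Matrix.neg_apply, smul_eq_mul, map_neg]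
        ring
    rcases hAB with h | h
    · rw [← mul_assoc, h, mul_assoc, h, mul_assoc]
    · rw [← mul_assoc, h, neg_mul, mul_assoc, h, mul_neg, neg_neg, mul_assoc]

end Cfsg.Agent.Invol.Lines
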