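import Mathlib
import Cfsg.Prelude
import Cfsg.Agent.Lib.Invol.PGLTwoLines
import Cfsg.Agent.Lib.Fus.RankTwoFrame
import Cfsg.Agent.Lib.Fus.RankTwoAut

/-!
Automizers `SL(2, p)` on three elementary subgroups of order `p²` of an extraspecial Sylow subgroup
of order `p³` bound `p`.
-/

set_option autoImplicit false
set_option linter.unusedSectionVars false
set_option linter.style.haveILetI false

namespace Cfsg.Agent.Invol.ExtraThree

open Cfsg Subgroup Cfsg.Agent.Fus Cfsg.Agent.Fus.RankTwo Cfsg.Agent.Fus.RankTwoAut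
open Grp.SL2 (up low up_mul up_pow up_zero low_pow)
open Cfsg.Agent.Invol.CubicStable (dg)
open scoped commutatorElement

universe u

variable {G : Type u} [Group G] [Finite G] {p : ℕ} [hp : Fact p.Prime]

/-- A nonabelian group of order `p³` and exponent `p` with special centre has a frame. -/
theorem exists_frame (P : Type u) [Group P] [Finite P] (hE : Cfsg.IsExtraspecial p P)
    (hcard : Nat.card P = p ^ 3) (hexp : ∀ x : P, x ^ p = 1) : Nonempty (Frame p P) := by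
  obtain ⟨⟨hP, hfr, hcom⟩, hZ⟩ := hE
  obtain ⟨z, hz⟩ := exists_prime_orderOf_dvd_card' (G := center P) p (dvd_of_eq hZ.symm)
  have hz1 : (z : P) ≠ 1 := fun e => hp.out.ne_one (by
    rw [← hz, ← Subgroup.orderOf_coe, e, orderOf_one])
  have hZz : center P = zpowers (z : P) := by
    refine (Subgroup.eq_of_le_of_card_ge (zpowers_le.mpr z.2) ?_).symm
    rw [Nat.card_zpowers, Subgroup.orderOf_coe, hz, hZ]
  obtain ⟨x, y, hxy⟩ : ∃ x y : P, ⁅x, y⁆ ≠ 1 := by
    by_contra h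
    push Not at h
    have : commutator P = ⊥ := by
      rw [_root_.commutator_def, eq_bot_iff, commutator_le]
      intro a _ b _; rw [h]; exact one_mem _
    rw [hcom] at this
    rw [this, Subgroup.card_bot] at hZ
    exact hp.out.ne_one hZ.symm
  have hcz : x⁻¹ * (y * x * y⁻¹) ∈ center P := by
    rw [← hcom, _root_.commutator_def, show x⁻¹ * (y * x * y⁻¹) = ⁅x⁻¹, y⁆ by rw [commutatorElement_def]; group]
    exact commutator_mem_commutator (mem_top _) (mem_top _)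
  rw [hZz, mem_zpowers_iff] at hcz
  obtain ⟨k, hk⟩ := hcz
  have hzp : (z : P) ^ p = 1 := hexp _
  obtain ⟨s, hs⟩ : ∃ s : ℕ, (z : P) ^ k = (z : P) ^ s := by
    refine ⟨((k : ZMod p)).val, ?_⟩
    rw [← zpow_natCast (z : P) (k : ZMod p).val, ZMod.val_intCast, zpow_eq_zpow_emod' k hzp]
  rw [hs] at hk
  have hzc : ∀ d : P, Commute (z : P) d := fun d => (mem_center_iff.mp z.2 d).symm
  have hs0 : (s : ZMod p) ≠ 0 := fun h => by
    rw [(pow_eq_of_cast hzp (b := 0) (by simpa using h)).trans (pow_zero _)] at hk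
    refine hxy (commutatorElement_eq_one_iff_mul_comm.mpr ?_)
    exact (mul_inv_eq_iff_eq_mul.mp (inv_mul_eq_one.mp hk.symm).symm).symm
  refine ⟨⟨x, y, z, s, hzc, hzp, hexp x, hexp y, hs0, ?_, ?_, hz1⟩⟩
  · rw [hk, mul_inv_cancel_left]
  · by_contra htop
    have h2 : closure ({x, y} : Set P) ⊔ zpowers (z : P) ≠ ⊤ := fun h => htop (by
      refine frattini_nongenerating ?_
      rw [hfr, hZz]; exact h)
    obtain ⟨i, hi⟩ := IsPGroup.iff_card.mp (hP.to_subgroup (closure ({x, y} : Set P) ⊔ zpowers (z : P)))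
    have hlt : i ≤ 2 := by
      by_contra h
      refine h2 (Subgroup.eq_top_of_le_card _ ?_)
      rw [hcard, hi]; exact Nat.pow_le_pow_right hp.out.pos (by omega)
    have hxm : x ∈ closure ({x, y} : Set P) ⊔ zpowers (z : P) := mem_sup_left (Subgroup.subset_closure (Or.inl rfl))
    have hym : y ∈ closure ({x, y} : Set P) ⊔ zpowers (z : P) := mem_sup_left (Subgroup.subset_closure (Or.inr rfl))
    refine hxy (commutatorElement_eq_one_iff_mul_comm.mpr ?_)
    have hc : ∀ a b : ↥(closure ({x, y} : Set P) ⊔ zpowers (z : P)), a * b = b * a := by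
      interval_cases i
      · intro a b
        haveI := (Nat.card_eq_one_iff_unique.mp (hi.trans (pow_zero p))).1
        exact Subsingleton.elim _ _
      · haveI := isCyclic_of_prime_card (hi.trans (pow_one p))
        letI := IsCyclic.commGroup (α := ↥(closure ({x, y} : Set P) ⊔ zpowers (z : P)))
        exact mul_comm
      · exact IsPGroup.commutative_of_card_eq_prime_sq hi
    exact congrArg Subtype.val (hc ⟨x, hxm⟩ ⟨y, hym⟩)

/-- The determinant of an automorphism is its action on the centre. -/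
theorem map_z_det {D : Type u} [Group D] (f : Frame p D) (α : MulAut D) {a b c d : ℕ}
    (h₀ : (f.x₀ ^ a * f.x₁ ^ c)⁻¹ * α f.x₀ ∈ center D) (h₁ : (f.x₀ ^ b * f.x₁ ^ d)⁻¹ * α f.x₁ ∈ center D) :
    α f.z = f.z ^ ((a : ZMod p) * d - b * c).val := by
  set κ : D → D → D := fun u w => ⁅u, w⁆ with hκ
  have hcent : ∀ u w : D, κ u w ∈ center D := fun u w => by
    rw [← QuotientGroup.eq_one_iff, hκ]
    show (QuotientGroup.mk' (center D)) ⁅u, w⁆ = 1
    rw [map_commutatorElement, commutatorElement_eq_one_iff_mul_comm]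
    exact f.quot_comm _ _
  have hzc : ∀ {t : D}, t ∈ center D → ∀ u : D, u * t = t * u := fun ht u => mem_center_iff.mp ht u
  have hr : ∀ u v w : D, κ u (v * w) = κ u v * κ u w := fun u v w => by
    calc κ u (v * w) = κ u v * (v * κ u w) * v⁻¹ := by simp only [hκ, commutatorElement_def]; group
      _ = κ u v * κ u w := by rw [hzc (hcent u w) v]; group
  have hl : ∀ u v w : D, κ (u * v) w = κ u w * κ v w := fun u v w => by
    calc κ (u * v) w = (u * κ v w) * u⁻¹ * κ u w := by simp only [hκ, commutatorElement_def]; group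
      _ = κ v w * κ u w := by rw [hzc (hcent v w) u]; group
      _ = κ u w * κ v w := hzc (hcent u w) _
  have hc1 : ∀ {t : D}, t ∈ center D → ∀ u : D, κ t u = 1 ∧ κ u t = 1 := fun ht u => by
    constructor <;> simp only [hκ, commutatorElement_eq_one_iff_mul_comm]
    exacts [(hzc ht u).symm, hzc ht u]
  have hpw : ∀ (u w : D) (n : ℕ), κ (u ^ n) w = κ u w ^ n ∧ κ u (w ^ n) = κ u w ^ n := fun u w n => by
    induction n with
    | zero => simp [hκ]
    | succ n ih => exact ⟨by rw [pow_succ, hl, ih.1, pow_succ], by rw [pow_succ, hr, ih.2, pow_succ]⟩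
  have hs : κ f.x₁ f.x₀ = f.z ^ f.s := by
    simp only [hκ, commutatorElement_def]
    rw [f.rel, ((f.hz f.x₀).pow_left f.s).eq.symm, mul_inv_cancel_right]
  have hα : κ (α f.x₁) (α f.x₀) = α f.z ^ f.s := by
    rw [← map_pow, ← hs]; exact (map_commutatorElement α.toMonoidHom _ _).symm
  obtain ⟨t₀, ht₀, e₀⟩ : ∃ t ∈ center D, α f.x₀ = f.x₀ ^ a * f.x₁ ^ c * t :=
    ⟨_, h₀, (mul_inv_cancel_left _ _).symm⟩
  obtain ⟨t₁, ht₁, e₁⟩ : ∃ t ∈ center D, α f.x₁ = f.x₀ ^ b * f.x₁ ^ d * t :=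
    ⟨_, h₁, (mul_inv_cancel_left _ _).symm⟩
  have hself : ∀ u : D, κ u u = 1 := fun u => commutatorElement_self u
  have hanti : κ f.x₀ f.x₁ = (f.z ^ f.s)⁻¹ := by
    rw [← hs]; exact (commutatorElement_inv _ _).symm
  rw [e₀, e₁] at hα
  simp only [hl, hr, hpw, hc1 ht₀, hc1 ht₁, hself, hs, hanti, one_pow, one_mul, mul_one, inv_pow,
    ← pow_mul] at hα
  have h2 : (α f.z) ^ f.s * f.z ^ (f.s * c * b) = f.z ^ (f.s * a * d) := by
    rw [← hα]; group
  have hzp := f.hzp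
  have hαz : (α f.z) ^ p = 1 := by rw [← map_pow, hzp, map_one]
  have h3 : (α f.z) ^ f.s = f.z ^ (((f.s : ZMod p) * ((a : ZMod p) * d - b * c)).val) := by
    refine mul_right_cancel (b := f.z ^ (f.s * c * b)) (h2.trans ?_)
    rw [← pow_add]
    refine pow_eq_of_cast hzp ?_
    push_cast [ZMod.natCast_zmod_val]
    ring
  obtain ⟨j, hj⟩ : ∃ j : ℕ, ((f.s * j : ℕ) : ZMod p) = ((1 : ℕ) : ZMod p) :=
    ⟨((f.s : ZMod p)⁻¹).val, by rw [Nat.cast_mul, ZMod.natCast_zmod_val, mul_inv_cancel₀ f.hs, Nat.cast_one]⟩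
  have h4 := congrArg (· ^ j) h3
  simp only [← pow_mul] at h4
  rw [pow_eq_of_cast hαz hj, pow_one] at h4
  refine h4.trans (pow_eq_of_cast hzp ?_)
  push_cast [ZMod.natCast_zmod_val]
  push_cast at hj
  linear_combination ((a : ZMod p) * d - b * c) * hj

/-- The automizer of `A` contains `SL(2, p)` in coordinates `(z, a)`. -/
def HasSL (A : Subgroup G) (z a : G) : Prop :=
  z ∈ A ∧ a ∈ A ∧ ∀ l : (ZMod p)ˣ, ∃ g ∈ normalizer (A : Set G),
    g * z * g⁻¹ = z ^ (l : ZMod p).val ∧ g * a * g⁻¹ = a ^ ((l⁻¹ : (ZMod p)ˣ) : ZMod p).val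

/-- Transvections on two lines generate the automizer. -/
theorem hasSL_of_shears (A : Subgroup G) (hAc : ∀ x y : A, x * y = y * x) (hAe : ∀ x : A, x ^ p = 1)
    (hA2 : Nat.card A = p ^ 2) {z a : G} (hz : z ∈ A) (ha : a ∈ A) (hz1 : z ≠ 1) (haz : a ∉ zpowers z)
    (hup : ∀ e : Multiplicative (Fin 2 → ZMod p) ≃* A, (e (Multiplicative.ofAdd (Pi.single 0 1)) : G) = z →
      (e (Multiplicative.ofAdd (Pi.single 1 1)) : G) = a →
      (∃ c : ZMod p, c ≠ 0 ∧ ∃ g ∈ normalizer (A : Set G), ∀ x : A, (act e (up c) x : G) = g * x * g⁻¹) ∧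
      (∃ c : ZMod p, c ≠ 0 ∧ ∃ g ∈ normalizer (A : Set G), ∀ x : A, (act e (low c) x : G) = g * x * g⁻¹)) :
    HasSL (p := p) A z a := by
  obtain ⟨e, e0, e1⟩ := exists_coords hAc hAe hA2 (v := (⟨z, hz⟩ : A)) (w := ⟨a, ha⟩)
    (fun h => hz1 (congrArg Subtype.val h)) (fun ⟨i, hi⟩ => haz ⟨i, congrArg Subtype.val hi⟩)
  have e0' := congrArg Subtype.val e0
  have e1' := congrArg Subtype.val e1
  obtain ⟨⟨c, hc, g, hgn, hg⟩, ⟨c', hc', g', hgn', hg'⟩⟩ := hup e e0' e1'
  let R : Subgroup (MulAut A) := A.normalizerMonoidHom.range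
  have hR : ∀ {φ : MulAut A} {g : G}, g ∈ normalizer (A : Set G) → (∀ x : A, (φ x : G) = g * x * g⁻¹) → φ ∈ R :=
    fun {φ g} hg h => ⟨⟨g, hg⟩, MulEquiv.ext fun x => Subtype.ext (h x).symm⟩
  have htop : R.comap (act e) = ⊤ := up_low_generate _
    (fun d => (zpowers_le.mpr (show act e (up c) ∈ R from hR hgn hg)) (by
      obtain ⟨n, hn⟩ := up_mem_zpowers hc d
      exact ⟨n, by rw [← hn, map_zpow]⟩))
    (fun d => (zpowers_le.mpr (show act e (low c') ∈ R from hR hgn' hg')) (by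
      obtain ⟨n, hn⟩ := low_mem_zpowers hc' d
      exact ⟨n, by rw [← hn, map_zpow]⟩))
  refine ⟨hz, ha, fun l => ?_⟩
  obtain ⟨⟨n, hn⟩, hne⟩ : act e (dg (l : ZMod p) ((l⁻¹ : (ZMod p)ˣ) : ZMod p) l.mul_inv) ∈ R :=
    (htop ▸ mem_top _ : dg (l : ZMod p) ((l⁻¹ : (ZMod p)ˣ) : ZMod p) l.mul_inv ∈ R.comap (act e))
  obtain ⟨d0, d1⟩ := act_dg e (l : ZMod p) ((l⁻¹ : (ZMod p)ˣ) : ZMod p) l.mul_inv
  rw [← hne] at d0 d1
  refine ⟨n, hn, ?_, ?_⟩
  · have := congrArg Subtype.val d0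
    rw [e0, SubmonoidClass.coe_pow] at this
    exact this
  · have := congrArg Subtype.val d1
    rw [e1, SubmonoidClass.coe_pow] at this
    exact this

variable (P : Sylow p G)

/-- From an automizer `SL(2, p)` to an element normalizing the Sylow subgroup. -/
theorem exists_torus {A : Subgroup G} (hAP : A ≤ (P : Subgroup G)) (hAc : ∀ x ∈ A, ∀ y ∈ A, x * y = y * x)
    {z a : G} (hSL : HasSL (p := p) A z a) (hz : ∀ x ∈ (P : Subgroup G), x * z = z * x) (hzp : z ^ p = 1) (hap : a ^ p = 1)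
    (hAn : (P : Subgroup G) ≤ normalizer (A : Set G)) (hgen : A ≤ closure ({z, a} : Set G))
    (hPa : ∀ x ∈ (P : Subgroup G), x * a * x⁻¹ * a⁻¹ ∈ zpowers z) (l : (ZMod p)ˣ) :
    ∃ n ∈ normalizer ((P : Subgroup G) : Set G),
      n * z * n⁻¹ = z ^ (l : ZMod p).val ∧
      (a ^ ((l⁻¹ : (ZMod p)ˣ) : ZMod p).val)⁻¹ * (n * a * n⁻¹) ∈ zpowers z := by
  obtain ⟨hzA, haA, hg⟩ := hSL
  obtain ⟨g, hgN, hgz, hga⟩ := hg l
  haveI : Finite ↥(zpowers z) := inferInstance
  let K : Subgroup G := normalizer (A : Set G) ⊓ normalizer (zpowers z : Set G)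
  have hK : ∀ {k : G}, k ∈ K → ∀ x ∈ zpowers z, k * x * k⁻¹ ∈ zpowers z := fun hk x hx =>
    (mem_normalizer_iff.mp hk.2 x).mp hx
  let K0 : Subgroup ↥K :=
    { carrier := {k | (k : G) * z * (k : G)⁻¹ = z ∧ (k : G) * a * (k : G)⁻¹ * a⁻¹ ∈ zpowers z}
      one_mem' := ⟨by simp, by simp⟩
      mul_mem' := fun {k k'} hk hk' => by
        refine ⟨?_, ?_⟩
        · show (k : G) * k' * z * ((k : G) * k')⁻¹ = z
          conv_rhs => rw [← hk.1, ← hk'.1]
          group
        · show (k : G) * k' * a * ((k : G) * k')⁻¹ * a⁻¹ ∈ zpowers z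
          rw [show (k : G) * k' * a * ((k : G) * k')⁻¹ * a⁻¹ =
            ((k : G) * ((k' : G) * a * (k' : G)⁻¹ * a⁻¹) * (k : G)⁻¹) * ((k : G) * a * (k : G)⁻¹ * a⁻¹) by group]
          exact mul_mem (hK k.2 _ hk'.2) hk.2
      inv_mem' := fun {k} hk => by
        have e1 : (k : G)⁻¹ * z * (k : G) = z := by
          conv_lhs => rw [← hk.1]
          group
        refine ⟨?_, ?_⟩
        · show (k : G)⁻¹ * z * (k : G)⁻¹⁻¹ = z
          rw [inv_inv, e1]
        · show (k : G)⁻¹ * a * (k : G)⁻¹⁻¹ * a⁻¹ ∈ zpowers z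
          rw [show (k : G)⁻¹ * a * (k : G)⁻¹⁻¹ * a⁻¹ =
            (k : G)⁻¹ * ((k : G) * a * (k : G)⁻¹ * a⁻¹)⁻¹ * (k : G)⁻¹⁻¹ by group]
          exact hK (inv_mem k.2) _ (inv_mem hk.2) }
  haveI : K0.Normal := ⟨fun k hk u => by
    obtain ⟨i, hi⟩ := mem_zpowers_iff.mp (hK (inv_mem u.2) z (mem_zpowers z))
    have hAa : (u : G)⁻¹ * a * (u : G)⁻¹⁻¹ ∈ A := (mem_normalizer_iff.mp (inv_mem u.2.1) a).mp haA
    refine ⟨?_, ?_⟩
    · show (u : G) * k * (u : G)⁻¹ * z * ((u : G) * k * (u : G)⁻¹)⁻¹ = z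
      have : (k : G) * z ^ i * (k : G)⁻¹ = z ^ i := by rw [← conj_zpow, hk.1]
      rw [hi] at this
      calc (u : G) * k * (u : G)⁻¹ * z * ((u : G) * k * (u : G)⁻¹)⁻¹
          = (u : G) * ((k : G) * ((u : G)⁻¹ * z * (u : G)⁻¹⁻¹) * (k : G)⁻¹) * (u : G)⁻¹ := by group
        _ = z := by rw [this]; group
    · show (u : G) * k * (u : G)⁻¹ * a * ((u : G) * k * (u : G)⁻¹)⁻¹ * a⁻¹ ∈ zpowers z
      have hmem : ∀ x ∈ A, (k : G) * x * (k : G)⁻¹ * x⁻¹ ∈ zpowers z := by
        intro x hx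
        obtain ⟨i, j, rfl⟩ := exists_pow_mul (hAc z hzA a haA) hzp hap (hgen hx)
        have hka : (k : G) * a * (k : G)⁻¹ ∈ A := (mem_normalizer_iff.mp k.2.1 a).mp haA
        have e : (k : G) * (z ^ i * a ^ j) * (k : G)⁻¹ * (z ^ i * a ^ j)⁻¹ =
            ((k : G) * a * (k : G)⁻¹ * a⁻¹) ^ j := by
          rw [(show Commute ((k : G) * a * (k : G)⁻¹) a⁻¹ from
            (show Commute _ a from hAc _ hka a haA).inv_right).mul_pow, conj_pow, inv_pow]
          calc (k : G) * (z ^ i * a ^ j) * (k : G)⁻¹ * (z ^ i * a ^ j)⁻¹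
              = ((k : G) * z * (k : G)⁻¹) ^ i * ((k : G) * a ^ j * (k : G)⁻¹ * (a ^ j)⁻¹) * (z ^ i)⁻¹ := by
                rw [conj_pow]; group
            _ = (k : G) * a ^ j * (k : G)⁻¹ * (a ^ j)⁻¹ := by
                rw [hk.1, hAc (z ^ i) (pow_mem hzA i) _ (mul_mem ?_ (inv_mem (pow_mem haA j))), mul_inv_cancel_right]
                exact (mem_normalizer_iff.mp k.2.1 _).mp (pow_mem haA j)
        rw [e]
        exact pow_mem hk.2 j
      rw [show (u : G) * k * (u : G)⁻¹ * a * ((u : G) * k * (u : G)⁻¹)⁻¹ * a⁻¹ =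
        (u : G) * ((k : G) * ((u : G)⁻¹ * a * (u : G)⁻¹⁻¹) * (k : G)⁻¹ * ((u : G)⁻¹ * a * (u : G)⁻¹⁻¹)⁻¹) * (u : G)⁻¹ by group]
      exact hK u.2 _ (hmem _ hAa)⟩
  have hPK : (P : Subgroup G) ≤ K := fun x hx =>
    ⟨hAn hx, mem_normalizer_fintype fun y hy => by
      obtain ⟨i, rfl⟩ := hy
      show x * z ^ i * x⁻¹ ∈ zpowers z
      rw [← conj_zpow, hz x hx, mul_inv_cancel_right]; exact zpow_mem (mem_zpowers z) i⟩
  have hP0 : ((P.subtype hPK : Sylow p ↥K) : Subgroup ↥K) ≤ K0 := fun k hk => by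
    rw [Sylow.coe_subtype, mem_subgroupOf] at hk
    exact ⟨by rw [hz _ hk, mul_inv_cancel_right], hPa _ hk⟩
  have hgK : g ∈ K := ⟨hgN, mem_normalizer_fintype fun y hy => by
    obtain ⟨i, rfl⟩ := hy
    show g * z ^ i * g⁻¹ ∈ zpowers z
    rw [← conj_zpow, hgz]; exact zpow_mem (pow_mem (mem_zpowers z) _) i⟩
  have htop := Sylow.normalizer_sup_eq_top' ((P.subtype hPK : Sylow p ↥K)) hP0
  obtain ⟨n, hn, k, hk, hnk⟩ := mem_sup_of_normal_right.mp (htop.ge (mem_top (⟨g, hgK⟩ : ↥K)))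
  have hge : g = (n : G) * k := (congrArg Subtype.val hnk).symm
  refine ⟨n, ?_, ?_, ?_⟩
  · refine mem_normalizer_fintype fun x hx => ?_
    have := (mem_normalizer_iff.mp hn ⟨x, hPK hx⟩).mp hx
    exact this
  · rw [← hgz, hge]
    calc (n : G) * z * (n : G)⁻¹ = (n : G) * ((k : G) * z * (k : G)⁻¹) * (n : G)⁻¹ := by rw [hk.1]
      _ = _ := by group
  · rw [← hga, hge, show ((n : G) * k * a * ((n : G) * k)⁻¹)⁻¹ * ((n : G) * a * (n : G)⁻¹) =
      (n : G) * (((k : G) * a * (k : G)⁻¹)⁻¹ * ((k : G) * a * (k : G)⁻¹ * a⁻¹)⁻¹ * ((k : G) * a * (k : G)⁻¹)) * (n : G)⁻¹ by group]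
    refine hK n.2 _ ?_
    obtain ⟨i, hi⟩ := mem_zpowers_iff.mp (inv_mem hk.2)
    have hcz : Commute ((k : G) * a * (k : G)⁻¹) z := hAc _ ((mem_normalizer_iff.mp k.2.1 a).mp haA) z hzA
    rw [← hi, mul_assoc, ← (hcz.zpow_right i).eq, inv_mul_cancel_left]
    exact zpow_mem (mem_zpowers z) i

/-- The central generator and a second generator of an elementary subgroup of order `p²`. -/
structure Adapted (A : Subgroup G) (z a : G) : Prop where
  comm : ∀ x ∈ A, ∀ y ∈ A, x * y = y * x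
  hz : z ∈ A
  ha : a ∈ A
  haz : a ∉ zpowers z
  gen : A ≤ closure ({z, a} : Set G)
  norm : (P : Subgroup G) ≤ normalizer (A : Set G)

variable {P}

theorem commute_of_card_sq {A : Subgroup G} (hA2 : Nat.card A = p ^ 2) :
    ∀ x ∈ A, ∀ y ∈ A, x * y = y * x := fun x hx y hy =>
  congrArg Subtype.val (IsPGroup.commutative_of_card_eq_prime_sq hA2 ⟨x, hx⟩ ⟨y, hy⟩)

theorem exists_adapted (f : Frame p ↥(P : Subgroup G)) (hodd : p ≠ 2) {A : Subgroup G}
    (hAP : A ≤ (P : Subgroup G)) (hA2 : Nat.card A = p ^ 2) : ∃ a, Adapted P A (f.z : G) a := by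
  have hAc := commute_of_card_sq hA2
  have hexp : ∀ x ∈ A, x ^ p = 1 := fun x hx => congrArg Subtype.val (f.pow_eq_one hodd ⟨x, hAP hx⟩)
  have hzP : ∀ x ∈ (P : Subgroup G), x * (f.z : G) = (f.z : G) * x := fun x hx =>
    congrArg Subtype.val (f.hz ⟨x, hx⟩).eq.symm
  have hzp : (f.z : G) ^ p = 1 := congrArg Subtype.val f.hzp
  have hz1 : (f.z : G) ≠ 1 := fun e => f.hz1 (Subtype.ext e)
  have hzc : Nat.card (zpowers (f.z : G)) = p := by rw [Nat.card_zpowers, orderOf_eq_prime hzp hz1]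
  have hPc : Nat.card (P : Subgroup G) = p ^ 3 := f.card_eq
  have hz : (f.z : G) ∈ A := by
    by_contra hz
    -- otherwise `P = A⟨z⟩` would be commutative
    obtain ⟨B, hB⟩ : ∃ B : Subgroup G, B = A ⊔ zpowers (f.z : G) := ⟨_, rfl⟩
    have hBP : B ≤ (P : Subgroup G) := hB ▸ sup_le hAP (zpowers_le.mpr f.z.2)
    obtain ⟨k, hk⟩ := IsPGroup.iff_card.mp (P.isPGroup'.to_le hBP)
    have hk3 : 3 ≤ k := by
      by_contra h
      have hlt : Nat.card A < Nat.card B := by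
        by_contra h'
        exact hz ((Subgroup.eq_of_le_of_card_ge (hB ▸ le_sup_left) (not_lt.mp h')).ge
          (hB ▸ mem_sup_right (mem_zpowers _)))
      rw [hA2, hk] at hlt
      exact absurd (Nat.pow_le_pow_right hp.out.pos (show k ≤ 2 by omega)) (not_le.mpr hlt)
    have hBe : B = (P : Subgroup G) :=
      Subgroup.eq_of_le_of_card_ge hBP (by rw [hk, hPc]; exact Nat.pow_le_pow_right hp.out.pos hk3)
    refine f.x₁_not_commute (Subtype.ext ?_)
    have hcomm : ∀ x ∈ B, ∀ y ∈ B, x * y = y * x := by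
      have h1 : ∀ u ∈ (A : Set G) ∪ {(f.z : G)}, ∀ w ∈ (A : Set G) ∪ {(f.z : G)}, u * w = w * u := by
        rintro u (hu | rfl) w (hw | rfl)
        exacts [hAc u hu w hw, hzP u (hAP hu), (hzP w (hAP hw)).symm, rfl]
      haveI := Subgroup.isMulCommutative_closure h1
      have e : B = closure ((A : Set G) ∪ {(f.z : G)}) := by
        rw [Subgroup.closure_union, closure_eq, hB, zpowers_eq_closure]
      subst e
      exact fun x hx y hy => congrArg Subtype.val (IsMulCommutative.is_comm.comm (⟨x, hx⟩ : ↥(Subgroup.closure ((A : Set G) ∪ {(f.z : G)}))) ⟨y, hy⟩)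
    exact hcomm _ (hBe ▸ f.x₁.2) _ (hBe ▸ f.x₀.2)
  obtain ⟨a, haA, haz⟩ : ∃ a ∈ A, a ∉ zpowers (f.z : G) := by
    by_contra h
    push Not at h
    have := Subgroup.card_le_of_le (H := A) (K := zpowers (f.z : G)) h
    rw [hA2, hzc, pow_two] at this
    have := hp.out.two_le
    nlinarith
  refine ⟨a, hAc, hz, haA, haz, ?_, fun x hx => mem_normalizer_fintype fun y hy => ?_⟩
  · have hle : closure ({(f.z : G), a} : Set G) ≤ A :=
      (closure_le _).mpr (by rintro _ (rfl | rfl) <;> assumption)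
    refine (Subgroup.eq_of_le_of_card_ge hle ?_).ge
    rw [hA2]
    exact sq_le_card (hAc _ hz _ haA) hzp (hexp a haA) hz1 haz
  · have h1 : (⟨x, hx⟩ : ↥(P : Subgroup G)) * ⟨y, hAP hy⟩ * (⟨x, hx⟩ : ↥(P : Subgroup G))⁻¹ * (⟨y, hAP hy⟩ : ↥(P : Subgroup G))⁻¹ ∈ center ↥(P : Subgroup G) := by
      rw [← QuotientGroup.eq_one_iff, QuotientGroup.mk_mul, QuotientGroup.mk_mul, QuotientGroup.mk_mul,
        QuotientGroup.mk_inv, QuotientGroup.mk_inv, f.quot_comm (QuotientGroup.mk _) (QuotientGroup.mk ⟨y, hAP hy⟩),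
        mul_inv_cancel_right, mul_inv_cancel]
    rw [f.center_eq, mem_zpowers_iff] at h1
    obtain ⟨i, hi⟩ := h1
    have hi' := congrArg Subtype.val hi
    simp only [Subgroup.coe_mul, Subgroup.coe_inv, Subgroup.coe_zpow] at hi'
    rw [show x * y * x⁻¹ = (x * y * x⁻¹ * y⁻¹) * y by group, ← hi']
    exact mul_mem (zpow_mem hz i) hy

theorem bound (hp11 : 11 ≤ p) (f : Frame p ↥(P : Subgroup G)) {ι : Type*} [Fintype ι]
    (hι : (3 ≤ Fintype.card ι ∧ 13 < p) ∨ 7 ≤ Fintype.card ι) (A : ι → Subgroup G) (hA : Function.Injective A)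
    (hAP : ∀ i, A i ≤ (P : Subgroup G)) (hA2 : ∀ i, Nat.card (A i) = p ^ 2)
    (hSL : ∀ i, ∀ a, Adapted P (A i) (f.z : G) a → HasSL (p := p) (A i) (f.z : G) a) : False := by
  classical
  have hodd : p ≠ 2 := by omega
  choose a ha using fun i => exists_adapted f hodd (hAP i) (hA2 i)
  have hzP : ∀ x ∈ (P : Subgroup G), x * (f.z : G) = (f.z : G) * x := fun x hx =>
    congrArg Subtype.val (f.hz ⟨x, hx⟩).eq.symm
  have hzp : (f.z : G) ^ p = 1 := congrArg Subtype.val f.hzp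
  obtain ⟨lam, hlam⟩ : ∃ lam : (ZMod p)ˣ, orderOf lam = p - 1 := by
    obtain ⟨g, hg⟩ := IsCyclic.exists_generator (α := (ZMod p)ˣ)
    exact ⟨g, by rw [orderOf_eq_card_of_forall_mem_zpowers hg, Nat.card_eq_fintype_card, ZMod.card_units p]⟩
  have hPa : ∀ i, ∀ x ∈ (P : Subgroup G), x * a i * x⁻¹ * (a i)⁻¹ ∈ zpowers (f.z : G) := by
    intro i x hx
    have h1 : (⟨x, hx⟩ : ↥(P : Subgroup G)) * ⟨a i, hAP i (ha i).ha⟩ * (⟨x, hx⟩ : ↥(P : Subgroup G))⁻¹ *
        (⟨a i, hAP i (ha i).ha⟩ : ↥(P : Subgroup G))⁻¹ ∈ center ↥(P : Subgroup G) := by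
      rw [← QuotientGroup.eq_one_iff, QuotientGroup.mk_mul, QuotientGroup.mk_mul, QuotientGroup.mk_mul,
        QuotientGroup.mk_inv, QuotientGroup.mk_inv, f.quot_comm (QuotientGroup.mk _) (QuotientGroup.mk ⟨a i, _⟩),
        mul_inv_cancel_right, mul_inv_cancel]
    rw [f.center_eq, mem_zpowers_iff] at h1
    obtain ⟨j, hj⟩ := h1
    exact ⟨j, congrArg Subtype.val hj⟩
  have hex := fun i => exists_torus P (hAP i) (ha i).comm (hSL i _ (ha i)) hzP hzp
    (congrArg Subtype.val (f.pow_eq_one hodd ⟨a i, hAP i (ha i).ha⟩)) (ha i).norm (ha i).gen (hPa i) lam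
  choose n hn hnz hna using hex
  -- coordinates
  set q := QuotientGroup.mk' (center ↥(P : Subgroup G)) with hq
  obtain ⟨e, e0, e1⟩ := exists_coords (Q := ↥(P : Subgroup G) ⧸ center ↥(P : Subgroup G)) f.quot_comm f.quot_exp
    f.card_quot (v := q f.x₀) (w := q f.x₁)
    (fun h => f.x₁_not_commute (Subgroup.mem_center_iff.1 ((QuotientGroup.eq_one_iff _).1 h) f.x₁))
    (fun ⟨i, hi⟩ => by
      have hm : (f.x₀ ^ i)⁻¹ * f.x₁ ∈ center ↥(P : Subgroup G) :=
        QuotientGroup.eq.1 (show q (f.x₀ ^ i) = q f.x₁ by rw [map_zpow]; exact hi)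
      refine f.x₁_not_commute ?_
      have h2 := ((Commute.refl f.x₀).zpow_left i).mul_left
        (show Commute ((f.x₀ ^ i)⁻¹ * f.x₁) f.x₀ from (Subgroup.mem_center_iff.1 hm f.x₀).symm)
      rwa [mul_inv_cancel_left] at h2)
  set N : Subgroup G := normalizer ((P : Subgroup G) : Set G)
  let R : N →* MulAut (↥(P : Subgroup G) ⧸ center ↥(P : Subgroup G)) :=
    (Frame.quotAut _).comp (P : Subgroup G).normalizerMonoidHom
  let Lm : MulAut (↥(P : Subgroup G) ⧸ center ↥(P : Subgroup G)) →* Matrix (Fin 2) (Fin 2) (ZMod p) :=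
    { toFun := fun g => LinearMap.toMatrix' (lin e g)
      map_one' := by rw [show lin e 1 = LinearMap.id from LinearMap.ext (lin_one e), LinearMap.toMatrix'_id]
      map_mul' := fun g h => by
        rw [← LinearMap.toMatrix'_comp]; exact congrArg _ (LinearMap.ext fun x => lin_mul e g h x) }
  let ρ : N →* GL (Fin 2) (ZMod p) := (Lm.comp R).toHomUnits
  have hρ : ∀ (g : N) (w : Fin 2 → ZMod p), (ρ g).val.mulVec w = lin e (R g) w := fun g w => by
    show (LinearMap.toMatrix' (lin e (R g))).mulVec w = _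
    rw [LinearMap.toMatrix'_mulVec]
  have hR : ¬ p ∣ Nat.card ρ.range := by
    intro hd
    set P' := (P : Subgroup G).subgroupOf N
    have hker : P' ≤ ρ.ker := fun x hx => by
      refine Units.ext (Matrix.ext_of_mulVec_single fun j => ?_)
      rw [hρ, Units.val_one, Matrix.one_mulVec,
        show R x = 1 from ?_, lin_one]
      refine MulEquiv.ext fun y => ?_
      induction y using QuotientGroup.induction_on with | _ y =>
      show QuotientGroup.mk ((P : Subgroup G).normalizerMonoidHom x y) = QuotientGroup.mk y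
      have h1 : (P : Subgroup G).normalizerMonoidHom x y = ⟨(x : G), hx⟩ * y * (⟨(x : G), hx⟩ : ↥(P : Subgroup G))⁻¹ := Subtype.ext rfl
      rw [h1, QuotientGroup.mk_mul, QuotientGroup.mk_mul, QuotientGroup.mk_inv,
        f.quot_comm _ (QuotientGroup.mk y), mul_inv_cancel_right]
    have h2 : Nat.card ρ.range ∣ P'.index := by
      rw [← Subgroup.index_ker]; exact Subgroup.index_dvd_of_le hker
    exact (P.subtype Subgroup.le_normalizer).not_dvd_index (hd.trans h2)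
  set v : ι → Fin 2 → ZMod p := fun i => (e.symm (q ⟨a i, hAP i (ha i).ha⟩)).toAdd with hv
  have hL : ∀ i, Lines.Line lam (ρ ⟨n i, hn i⟩).val (v i) := fun i => by
    refine ⟨?_, ?_, fun h0 => (ha i).haz ?_⟩
    · rw [hρ, lin_apply, hv]
      show Multiplicative.toAdd (e.symm (R ⟨n i, hn i⟩ (e (Multiplicative.ofAdd (Multiplicative.toAdd (e.symm (q _))))))) = _
      rw [ofAdd_toAdd, MulEquiv.apply_symm_apply]
      have h1 : R ⟨n i, hn i⟩ (q ⟨a i, hAP i (ha i).ha⟩) = q ⟨a i, hAP i (ha i).ha⟩ ^ ((lam⁻¹ : (ZMod p)ˣ) : ZMod p).val := by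
        rw [← map_pow]
        symm
        refine QuotientGroup.eq.mpr ?_
        rw [f.center_eq]
        obtain ⟨j, hj⟩ := hna i
        exact ⟨j, Subtype.ext (by rw [Subgroup.coe_zpow]; exact hj)⟩
      rw [h1, map_pow, toAdd_pow, ← Nat.cast_smul_eq_nsmul (ZMod p), ZMod.natCast_zmod_val]
    · set α := (P : Subgroup G).normalizerMonoidHom ⟨n i, hn i⟩ with hα
      set M := (ρ ⟨n i, hn i⟩).val with hM
      have hcol : ∀ j : Fin 2, (f.x₀ ^ (M 0 j).val * f.x₁ ^ (M 1 j).val)⁻¹ *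
          α (if j = 0 then f.x₀ else f.x₁) ∈ center ↥(P : Subgroup G) := fun j => by
        refine QuotientGroup.eq.mp ?_
        show q (f.x₀ ^ (M 0 j).val * f.x₁ ^ (M 1 j).val) = q _
        have h1 : M.mulVec (Pi.single j 1) = M 0 j • Pi.single 0 1 + M 1 j • Pi.single 1 1 := by
          rw [Matrix.mulVec_single_one]
          funext k; fin_cases k <;> simp
        rw [map_mul, map_pow, map_pow, ← e0, ← e1, ← e_smul, ← e_smul, ← map_mul, ← ofAdd_add, ← h1,
          hρ, lin_apply, ofAdd_toAdd, MulEquiv.apply_symm_apply]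
        fin_cases j
        · show R _ (e (Multiplicative.ofAdd (Pi.single 0 1))) = _
          rw [e0]; rfl
        · show R _ (e (Multiplicative.ofAdd (Pi.single 1 1))) = _
          rw [e1]; rfl
      have hdet := map_z_det f α (hcol 0) (hcol 1)
      rw [ZMod.natCast_zmod_val, ZMod.natCast_zmod_val, ZMod.natCast_zmod_val, ZMod.natCast_zmod_val,
        ← Matrix.det_fin_two] at hdet
      have h2 := cast_eq_of_pow hzp (fun e => f.hz1 (Subtype.ext e))
        ((congrArg Subtype.val hdet).symm.trans (hnz i) : (f.z : G) ^ (M.det).val = (f.z : G) ^ (lam : ZMod p).val)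
      rwa [ZMod.natCast_zmod_val, ZMod.natCast_zmod_val] at h2
    · have h1 : q ⟨a i, hAP i (ha i).ha⟩ = 1 := by
        have := congrArg (fun w => e (Multiplicative.ofAdd w)) h0
        simpa [hv] using this
      have h2 := (QuotientGroup.eq_one_iff _).1 h1
      rw [f.center_eq] at h2
      obtain ⟨j, hj⟩ := h2
      exact ⟨j, congrArg Subtype.val hj⟩
  have hind : ∀ i j, i ≠ j → Lines.cr (v i) (v j) ≠ 0 := by
    intro i j hij h0
    obtain ⟨k, hk⟩ := Lines.exists_smul (hL i).ne h0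
    have h1 : q ⟨a j, hAP j (ha j).ha⟩ = q (⟨a i, hAP i (ha i).ha⟩ ^ k.val) := by
      have := congrArg (fun w => e (Multiplicative.ofAdd w)) hk
      rw [map_pow]
      simpa [hv, e_smul] using this
    obtain ⟨m, hm⟩ : (⟨a j, hAP j (ha j).ha⟩ : ↥(P : Subgroup G))⁻¹ * ⟨a i, hAP i (ha i).ha⟩ ^ k.val ∈ zpowers f.z :=
      f.center_eq ▸ QuotientGroup.eq.mp h1
    have hm' := congrArg Subtype.val hm
    simp only [Subgroup.coe_zpow, Subgroup.coe_mul, Subgroup.coe_inv, SubmonoidClass.coe_pow] at hm'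
    have haj : a j ∈ A i := by
      rw [show a j = a i ^ k.val * ((f.z : G) ^ m)⁻¹ by rw [hm']; group]
      exact mul_mem (pow_mem (ha i).ha _) (inv_mem (zpow_mem (ha i).hz m))
    have hle : A j ≤ A i := (ha j).gen.trans ((closure_le _).mpr (by
      rintro _ (rfl | rfl)
      exacts [(ha i).hz, haj]))
    exact hij (hA (Subgroup.eq_of_le_of_card_ge hle (by rw [hA2, hA2]))).symm
  refine Lines.no_lines hp11 ρ.range.subtype hR lam hlam hι (fun i => ⟨ρ ⟨n i, hn i⟩, _, rfl⟩) v hL hind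

theorem frame_of (P : Sylow p G) (hE : Cfsg.IsExtraspecial p ↥P) (hcard : Nat.card P = p ^ 3)
    (hexp : Monoid.exponent ↥P = p) : Nonempty (Frame p ↥(P : Subgroup G)) :=
  exists_frame ↥(P : Subgroup G) hE hcard fun x => by
    have h := Monoid.pow_exponent_eq_one x
    rwa [show Monoid.exponent ↥(P : Subgroup G) = p from hexp] at h

/-- An element of a Sylow subgroup moving an elementary subgroup of index `p`. -/
theorem exists_mover {R : Sylow p G} (f : Frame p ↥(R : Subgroup G)) (hodd : p ≠ 2) {A : Subgroup G}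
    (hAR : A ≤ (R : Subgroup G)) (hA2 : Nat.card A = p ^ 2) :
    ∃ g ∈ normalizer (A : Set G), g ^ p = 1 ∧ g * (f.z : G) * g⁻¹ = f.z ∧ ∃ x ∈ A, g * x * g⁻¹ ≠ x := by
  obtain ⟨a, ha⟩ := exists_adapted f hodd hAR hA2
  by_contra hne
  push Not at hne
  have hRc : Nat.card (R : Subgroup G) = p ^ 3 := f.card_eq
  obtain ⟨g, hg, hgA⟩ : ∃ g ∈ (R : Subgroup G), g ∉ A := by
    by_contra h
    push Not at h
    have := Subgroup.card_le_of_le (H := (R : Subgroup G)) (K := A) h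
    rw [hA2, hRc] at this
    exact absurd this (not_le.mpr (Nat.pow_lt_pow_right hp.out.one_lt (by norm_num)))
  have hcent : ∀ g ∈ (R : Subgroup G), ∀ x ∈ A, g * x = x * g := fun g hg x hx =>
    mul_inv_eq_iff_eq_mul.mp (hne g (ha.norm hg) (congrArg Subtype.val (f.pow_eq_one hodd ⟨g, hg⟩))
      (by rw [congrArg Subtype.val (f.hz ⟨g, hg⟩).eq.symm |> fun e => (show g * (f.z : G) = (f.z : G) * g from e),
        mul_inv_cancel_right]) x hx)
  have h1 : ∀ u ∈ (A : Set G) ∪ {g}, ∀ w ∈ (A : Set G) ∪ {g}, u * w = w * u := by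
    rintro u (hu | rfl) w (hw | rfl)
    exacts [ha.comm u hu w hw, (hcent _ hg u hu).symm, hcent _ hg w hw, rfl]
  haveI := Subgroup.isMulCommutative_closure h1
  have hle : Subgroup.closure ((A : Set G) ∪ {g}) ≤ (R : Subgroup G) :=
    (closure_le _).mpr (Set.union_subset hAR (Set.singleton_subset_iff.mpr hg))
  obtain ⟨k, hk⟩ := IsPGroup.iff_card.mp (R.isPGroup'.to_le hle)
  have hk3 : 3 ≤ k := by
    by_contra h
    have hlt : Nat.card A < Nat.card (Subgroup.closure ((A : Set G) ∪ {g})) := by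
      by_contra h'
      exact hgA ((Subgroup.eq_of_le_of_card_ge (fun x hx => Subgroup.subset_closure (Or.inl hx)) (not_lt.mp h')).ge
        (Subgroup.subset_closure (Or.inr rfl)))
    rw [hA2, hk] at hlt
    exact absurd (Nat.pow_le_pow_right hp.out.pos (show k ≤ 2 by omega)) (not_le.mpr hlt)
  have hBe := Subgroup.eq_of_le_of_card_ge hle (by rw [hk, hRc]; exact Nat.pow_le_pow_right hp.out.pos hk3)
  refine f.x₁_not_commute (Subtype.ext ?_)
  show (f.x₁ : G) * (f.x₀ : G) = (f.x₀ : G) * (f.x₁ : G)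
  exact congrArg Subtype.val (IsMulCommutative.is_comm.comm
    (⟨f.x₁, hBe.ge f.x₁.2⟩ : ↥(Subgroup.closure ((A : Set G) ∪ {g}))) ⟨f.x₀, hBe.ge f.x₀.2⟩)

theorem hasSL_of_fusion {P : Sylow p G} (f : Frame p ↥(P : Subgroup G)) (hodd : p ≠ 2)
    (hconj : ∀ x y : ↥(P : Subgroup G), x ≠ 1 → y ≠ 1 → ∃ g : G, g * (x : G) * g⁻¹ = (y : G))
    {A : Subgroup G} (hAP : A ≤ (P : Subgroup G)) (hA2 : Nat.card A = p ^ 2) {a : G}
    (ha : Adapted P A (f.z : G) a) : HasSL (p := p) A (f.z : G) a := by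
  have hz1 : (f.z : G) ≠ 1 := fun e => f.hz1 (Subtype.ext e)
  have hexp : ∀ x : A, x ^ p = 1 := fun x =>
    Subtype.ext (congrArg (fun w : ↥(P : Subgroup G) => (w : G)) (f.pow_eq_one hodd ⟨x, hAP x.2⟩))
  refine hasSL_of_shears A (fun x y => Subtype.ext (ha.comm x x.2 y y.2)) hexp hA2 ha.hz ha.ha hz1 ha.haz
    fun e e0 e1 => ?_
  have key : ∀ (g : G), g ∈ normalizer (A : Set G) → g ^ p = 1 → ∀ {w : G} (i : Fin 2),
      (e (Multiplicative.ofAdd (Pi.single i 1)) : G) = w → g * w * g⁻¹ = w → (∃ x ∈ A, g * x * g⁻¹ ≠ x) →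
      ((i = 0 → ∃ c : ZMod p, c ≠ 0 ∧ ∃ g ∈ normalizer (A : Set G), ∀ x : A, (act e (up c) x : G) = g * x * g⁻¹) ∧
      (i = 1 → ∃ c : ZMod p, c ≠ 0 ∧ ∃ g ∈ normalizer (A : Set G), ∀ x : A, (act e (low c) x : G) = g * x * g⁻¹)) := by
    intro g hg hgp w i hw hfix hmove
    obtain ⟨x, hx, hxne⟩ := hmove
    set φ := A.normalizerMonoidHom ⟨g, hg⟩ with hφ
    have hφp : φ ^ p = 1 := by
      rw [hφ, ← map_pow, show (⟨g, hg⟩ : normalizer (A : Set G)) ^ p = 1 from Subtype.ext hgp, map_one]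
    have hl : lin e φ (Pi.single i 1) = Pi.single i 1 := by
      have : φ (e (Multiplicative.ofAdd (Pi.single i 1))) = e (Multiplicative.ofAdd (Pi.single i 1)) :=
        Subtype.ext (by rw [hw]; exact (show g * (e (Multiplicative.ofAdd (Pi.single i 1)) : G) * g⁻¹ = w by rw [hw, hfix]))
      rw [lin_apply, this, MulEquiv.symm_apply_apply, toAdd_ofAdd]
    have hφ1 : φ ≠ 1 := fun h => hxne (congrArg Subtype.val (DFunLike.congr_fun h (⟨x, hx⟩ : ↥A)) :)
    refine ⟨fun hi => ?_, fun hi => ?_⟩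
    · subst hi
      obtain ⟨c, hc⟩ := (eq_shear e hφp).1 hl
      refine ⟨c, fun h => hφ1 ?_, g, hg, fun x => by rw [← hc]; rfl⟩
      rw [hc, h, up_zero, map_one]
    · subst hi
      obtain ⟨c, hc⟩ := (eq_shear e hφp).2 hl
      refine ⟨c, fun h => hφ1 ?_, g, hg, fun x => by rw [← hc]; rfl⟩
      rw [hc, h, show (low (0 : ZMod p) : Matrix.SpecialLinearGroup (Fin 2) (ZMod p)) = 1 from
        Subtype.ext (by ext r s; fin_cases r <;> fin_cases s <;> simp [low]), map_one]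
  refine ⟨?_, ?_⟩
  · obtain ⟨g, hg, hgp, hgz, hmove⟩ := exists_mover f hodd hAP hA2
    exact (key g hg hgp 0 e0 hgz hmove).1 rfl
  · have ha1 : a ≠ 1 := fun h => ha.haz (h ▸ one_mem _)
    obtain ⟨g, hg⟩ := hconj ⟨a, hAP ha.ha⟩ f.z (fun h => ha1 (congrArg Subtype.val h)) f.hz1
    set C := centralizer ({a} : Set G)
    set P₁ : Sylow p G := g⁻¹ • P
    have hP₁C : (P₁ : Subgroup G) ≤ C := fun x hx => by
      rw [Sylow.coe_subgroup_smul, mem_pointwise_smul_iff_inv_smul_mem, ← map_inv, inv_inv, MulAut.smul_def,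
        MulAut.conj_apply] at hx
      refine mem_centralizer_singleton_iff.mpr ?_
      have h1 := congrArg Subtype.val (f.hz ⟨_, hx⟩).eq
      change (f.z : G) * (g * x * g⁻¹) = g * x * g⁻¹ * f.z at h1
      rw [← show g * a * g⁻¹ = (f.z : G) from hg] at h1
      refine mul_left_cancel (a := g) (mul_right_cancel (b := g⁻¹) ?_)
      calc g * (x * a) * g⁻¹ = g * x * g⁻¹ * (g * a * g⁻¹) := by group
        _ = g * a * g⁻¹ * (g * x * g⁻¹) := h1.symm
        _ = g * (a * x) * g⁻¹ := by group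
    have hAC : A ≤ C := fun x hx => mem_centralizer_singleton_iff.mpr (ha.comm x hx a ha.ha)
    obtain ⟨S, hS⟩ := ((IsPGroup.of_card hA2).of_equiv (subgroupOfEquivOfLe hAC).symm).exists_le_sylow
    obtain ⟨c, hc⟩ := MulAction.exists_smul_eq (↥C) (P₁.subtype hP₁C) S
    set h := (c : G) * g⁻¹ with hh
    set R : Sylow p G := h • P with hR
    have hAR : A ≤ (R : Subgroup G) := fun x hx => by
      have h1 : (⟨x, hAC hx⟩ : ↥C) ∈ (c • P₁.subtype hP₁C : Sylow p ↥C).1 := hc ▸ hS hx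
      rw [Sylow.coe_subgroup_smul, mem_pointwise_smul_iff_inv_smul_mem, ← map_inv, MulAut.smul_def,
        MulAut.conj_apply, inv_inv] at h1
      change (c : G)⁻¹ * x * (c : G) ∈ (P₁ : Subgroup G) at h1
      rw [hR, hh, mul_smul, Sylow.coe_subgroup_smul, mem_pointwise_smul_iff_inv_smul_mem, ← map_inv,
        MulAut.smul_def, MulAut.conj_apply, inv_inv]
      exact h1
    let E : ↥(P : Subgroup G) ≃* ↥(R : Subgroup G) := Subgroup.equivSMul (MulAut.conj h) (P : Subgroup G)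
    obtain ⟨g', hg', hgp, hgz, hmove⟩ := exists_mover (f.map E) hodd hAR hA2
    refine (key g' hg' hgp 1 e1 ?_ hmove).2 rfl
    have hza : (((f.map E).z : ↥(R : Subgroup G)) : G) = a := by
      show h * (f.z : G) * h⁻¹ = a
      rw [hh, ← show g * a * g⁻¹ = (f.z : G) from hg]
      calc (c : G) * g⁻¹ * (g * a * g⁻¹) * ((c : G) * g⁻¹)⁻¹ = (c : G) * a * (c : G)⁻¹ := by group
        _ = a := by rw [mem_centralizer_singleton_iff.mp c.2, mul_inv_cancel_right]
    rwa [hza] at hgz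

theorem bound_three (P : Sylow p G) (hE : Cfsg.IsExtraspecial p ↥P) (hcard : Nat.card P = p ^ 3)
    (hexp : Monoid.exponent ↥P = p) (A : Fin 3 → Subgroup G) (hA : Function.Injective A)
    (hAP : ∀ i, A i ≤ (P : Subgroup G)) (hAcard : ∀ i, Nat.card ↥(A i) = p ^ 2)
    (hSL : ∀ i, ∀ φ : MulAut ↥(A i), orderOf φ = p → ∃ g : G, ∀ a : ↥(A i), (φ a : G) = g * (a : G) * g⁻¹) :
    p ≤ 13 := by
  by_contra hlt
  have hodd : p ≠ 2 := by omega
  obtain ⟨f⟩ := frame_of P hE hcard hexp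
  refine bound (by omega) f (Or.inl ⟨by simp, by omega⟩) A hA hAP hAcard fun i a ha => ?_
  have hexp' : ∀ x : A i, x ^ p = 1 := fun x =>
    Subtype.ext (congrArg (fun w : ↥(P : Subgroup G) => (w : G)) (f.pow_eq_one hodd ⟨x, hAP i x.2⟩))
  refine hasSL_of_shears (A i) (fun x y => Subtype.ext (ha.comm x x.2 y y.2)) hexp' (hAcard i) ha.hz ha.ha
    (fun e => f.hz1 (Subtype.ext e)) ha.haz fun e _ _ => ?_
  have key : ∀ u : Matrix.SpecialLinearGroup (Fin 2) (ZMod p), u ^ p = 1 → u ≠ 1 →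
      ∃ g ∈ normalizer (A i : Set G), ∀ x : A i, (act e u x : G) = g * x * g⁻¹ := by
    intro u hup hu
    obtain ⟨g, hg⟩ := hSL i (act e u) (by
      rw [orderOf_injective (act e) (act_injective e) u]
      exact orderOf_eq_prime hup hu)
    refine ⟨g, mem_normalizer_fintype fun x hx => ?_, hg⟩
    have := hg ⟨x, hx⟩
    rw [← this]; exact SetLike.coe_mem _
  have h1 : ∀ r s : Fin 2, r ≠ s → (1 : Matrix.SpecialLinearGroup (Fin 2) (ZMod p)).1 r s = 0 := fun r s h => by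
    rw [Matrix.SpecialLinearGroup.coe_one, Matrix.one_apply_ne h]
  refine ⟨⟨1, one_ne_zero, key _ (by rw [up_pow, ZMod.natCast_self, zero_mul, up_zero]) fun h => ?_⟩,
    ⟨1, one_ne_zero, key _ ?_ fun h => ?_⟩⟩
  · have := congrArg (fun u : Matrix.SpecialLinearGroup (Fin 2) (ZMod p) => u.1 0 1) h
    simp [up] at this
  · rw [low_pow, ZMod.natCast_self, zero_mul]
    exact Subtype.ext (by ext r s; fin_cases r <;> fin_cases s <;> simp [low])
  · have := congrArg (fun u : Matrix.SpecialLinearGroup (Fin 2) (ZMod p) => u.1 1 0) h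
    simp [low] at this

theorem bound_fused (P : Sylow p G) (hE : Cfsg.IsExtraspecial p ↥P) (hcard : Nat.card P = p ^ 3)
    (hexp : Monoid.exponent ↥P = p)
    (hconj : ∀ x y : ↥P, x ≠ 1 → y ≠ 1 → ∃ g : G, g * (x : G) * g⁻¹ = (y : G)) : p ≤ 7 := by
  by_contra hlt
  have hpp := hp.out
  have hp11 : 11 ≤ p := by
    by_contra h
    interval_cases p <;> norm_num at hpp
  have hodd : p ≠ 2 := by omega
  obtain ⟨f⟩ := frame_of P hE hcard hexp
  have hexpG : ∀ x : ↥(P : Subgroup G), (x : G) ^ p = 1 := fun x => congrArg Subtype.val (f.pow_eq_one hodd x)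
  let w : Fin 7 → ↥(P : Subgroup G) := fun c => f.x₀ * f.x₁ ^ (c : ℕ)
  let A : Fin 7 → Subgroup G := fun c => closure ({(f.z : G), (w c : G)} : Set G)
  have hq : ∀ i j : ℕ, f.x₀ ^ i * f.x₁ ^ j ∈ center ↥(P : Subgroup G) → (i : ZMod p) = 0 ∧ (j : ZMod p) = 0 := by
    intro i j h
    have hd : ∀ y, Commute (f.x₀ ^ i * f.x₁ ^ j) y := fun y => (mem_center_iff.mp h y).symm
    have hj : (j : ZMod p) = 0 := by
      by_contra hj
      refine f.x₁_not_commute (commute_of_pow f.hx₁p hj ?_)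
      have h1 := ((Commute.refl f.x₀).pow_left i).inv_left.mul_left (hd f.x₀)
      rwa [inv_mul_cancel_left] at h1
    refine ⟨?_, hj⟩
    by_contra hi
    refine f.x₁_not_commute (commute_of_pow f.hx₀p hi ?_).symm
    have h1 := hd f.x₁
    rwa [(pow_eq_of_cast f.hx₁p (b := 0) (by simpa using hj)).trans (pow_zero _), mul_one] at h1
  have hcm : ∀ c, Commute (f.z : G) (w c : G) := fun c => congrArg Subtype.val (f.hz (w c)).eq
  have hz1 : (f.z : G) ≠ 1 := fun e => f.hz1 (Subtype.ext e)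
  have hAP : ∀ c, A c ≤ (P : Subgroup G) := fun c =>
    (closure_le _).mpr (by rintro _ (rfl | rfl) <;> exact SetLike.coe_mem _)
  have hnot : ∀ c, (w c : G) ∉ zpowers (f.z : G) := fun c ⟨i, hi⟩ => by
    have h : f.x₀ ^ 1 * f.x₁ ^ (c : ℕ) ∈ center ↥(P : Subgroup G) := by
      rw [pow_one, f.center_eq]; exact ⟨i, Subtype.ext hi⟩
    simpa using (hq _ _ h).1
  have hA2 : ∀ c, Nat.card (A c) = p ^ 2 := fun c => by
    refine le_antisymm ?_ (sq_le_card (hcm c) (hexpG f.z) (hexpG (w c)) hz1 (hnot c))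
    have hs : Function.Surjective (fun v : ZMod p × ZMod p =>
        (⟨(f.z : G) ^ v.1.val * (w c : G) ^ v.2.val, (A c).mul_mem ((A c).pow_mem (Subgroup.subset_closure (show (f.z : G) ∈ ({(f.z : G), (w c : G)} : Set G) from Or.inl rfl)) _)
          ((A c).pow_mem (Subgroup.subset_closure (show (w c : G) ∈ ({(f.z : G), (w c : G)} : Set G) from Or.inr rfl)) _)⟩ : A c)) := fun x => by
      obtain ⟨i, j, hij⟩ := exists_pow_mul (hcm c) (hexpG f.z) (hexpG (w c)) x.2
      exact ⟨(i, j), Subtype.ext (by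
        rw [hij]
        show (f.z : G) ^ _ * (w c : G) ^ _ = _
        rw [pow_eq_of_cast (hexpG f.z) (b := i) (by rw [ZMod.natCast_zmod_val]),
          pow_eq_of_cast (hexpG (w c)) (b := j) (by rw [ZMod.natCast_zmod_val])])⟩
    exact (Nat.card_le_card_of_surjective _ hs).trans (by simp [sq])
  have hAinj : Function.Injective A := by
    intro c d hcd
    have hm : (w d : G) ∈ A c := hcd ▸ Subgroup.subset_closure (Or.inr rfl)
    obtain ⟨i, j, hij⟩ := exists_pow_mul (hcm c) (hexpG f.z) (hexpG (w c)) hm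
    have he : w d = f.z ^ i * w c ^ j := Subtype.ext hij
    set q := QuotientGroup.mk' (center ↥(P : Subgroup G))
    have e := congrArg q he
    have hqz : q f.z = 1 := (QuotientGroup.eq_one_iff _).2 (f.mem_center_iff.2 ⟨1, (pow_one _).symm⟩)
    simp only [w, map_mul, map_pow, hqz, one_pow, one_mul] at e
    rw [(show Commute (q f.x₀) (q f.x₁ ^ (c : ℕ)) from f.quot_comm _ _).mul_pow, ← pow_mul] at e
    -- compare coordinates
    have e' : q (f.x₀ ^ (1 + (p - 1) * j) * f.x₁ ^ ((d : ℕ) + (p - 1) * ((c : ℕ) * j))) = 1 := by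
      rw [map_mul, map_pow, map_pow, pow_add, pow_add, pow_one, mul_assoc (q f.x₀),
        ← mul_assoc (q f.x₀ ^ ((p - 1) * j)), f.quot_comm (q f.x₀ ^ ((p - 1) * j)), ← mul_assoc, ← mul_assoc, e]
      rw [mul_assoc (q f.x₀ ^ j), f.quot_comm (q f.x₁ ^ ((c : ℕ) * j)), ← mul_assoc, ← pow_add,
        mul_assoc, ← pow_add]
      have hp1 : ∀ m : ℕ, m + (p - 1) * m = p * m := fun m => by
        obtain ⟨n, hn⟩ : ∃ n, p = n + 1 := ⟨p - 1, by omega⟩
        rw [hn, Nat.add_sub_cancel]; ring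
      rw [hp1, hp1, pow_mul, pow_mul, f.quot_exp, f.quot_exp, one_pow, one_pow, one_mul]
    obtain ⟨h1, h2⟩ := hq _ _ ((QuotientGroup.eq_one_iff _).1 e')
    have hm1 : ((p - 1 : ℕ) : ZMod p) = -1 := by
      rw [Nat.cast_sub (by omega), ZMod.natCast_self, Nat.cast_one, zero_sub]
    push_cast [hm1] at h1 h2
    have h3 : ((c : ℕ) : ZMod p) = ((d : ℕ) : ZMod p) := by linear_combination -h2 + ((c : ℕ) : ZMod p) * h1
    rw [ZMod.natCast_eq_natCast_iff'] at h3
    rw [Nat.mod_eq_of_lt (by omega), Nat.mod_eq_of_lt (by omega)] at h3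
    exact Fin.ext h3
  exact bound hp11 f (Or.inr (by simp)) A hAinj hAP hA2 fun i a ha =>
    hasSL_of_fusion f hodd hconj (hAP i) (hA2 i) ha

end Cfsg.Agent.Invol.ExtraThree
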