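import Mathlib
import Cfsg.Prelude
import Cfsg.Agent.Lib.Grp.Cores
import Cfsg.Agent.Lib.Grp.Quasisimple
import Cfsg.Agent.Lib.Transfer.Fusion

/-!
Properties of a Baumann block that decide how two subnormal blocks interact, and elementary
lemmas about them.
-/

set_option autoImplicit false

open scoped commutatorElement

namespace Cfsg.Agent.Invol.BlockPair

open Subgroup

variable {G : Type*} [Group G]

/-- `Ω₁(Z(E ∩ O_p(G)))`. -/
def WW (p : ℕ) (E : Subgroup G) : Subgroup G := Cfsg.omegaOneCenter p (E ⊓ Cfsg.pCore p G)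

/-- The commutator of the module with the block. -/
def WC (p : ℕ) (E : Subgroup G) : Subgroup G := ⁅WW p E, E⁆

/-- The facts for an exceptional block. -/
structure Exc (p : ℕ) (E : Subgroup G) : Prop where
  p3 : p = 3
  derived : ⁅E ⊓ Cfsg.pCore p G, E ⊓ Cfsg.pCore p G⁆ = WW p E ⊓ centralizer (E : Set G)
  derived_ne : WW p E ⊓ centralizer (E : Set G) ≠ ⊥
  irr2 : ∀ U : Subgroup G, WW p E ≤ U → U ≤ E ⊓ Cfsg.pCore p G → E ≤ normalizer (U : Set G) →
    U = WW p E ∨ U = E ⊓ Cfsg.pCore p G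
  faith2 : ∀ e ∈ E, (∀ x ∈ E ⊓ Cfsg.pCore p G, e * x * e⁻¹ * x⁻¹ ∈ WW p E) → e ∈ Cfsg.pCore p G
  nonab : ¬ ⁅E, E⁆ ≤ Cfsg.pCore p G

/-- Extra facts for a small exceptional block. -/
structure ExcSmall (p : ℕ) (E : Subgroup G) : Prop where
  exc : Exc p E
  fpf2 : ∀ e ∈ E, e ∉ Cfsg.pCore p G → ∀ x ∈ E ⊓ Cfsg.pCore p G,
    e * x * e⁻¹ * x⁻¹ ∈ WW p E → x ∈ WW p E
  idx : (WW p E).relIndex (E ⊓ Cfsg.pCore p G) = 9
  idx2 : (WW p E ⊓ centralizer (E : Set G)).relIndex (WW p E) = 9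
  zcard : Nat.card ↥(WW p E ⊓ centralizer (E : Set G)) = 3
  quad : ∃ b : G, b ∈ normalizer (E : Set G) ∧ IsPGroup p ↥(zpowers b) ∧
    ¬ ⁅⁅E ⊓ Cfsg.pCore p G, zpowers b⁆, zpowers b⁆ ≤ WW p E ⊓ centralizer (E : Set G)

/-- The facts for a block with small quotient. -/
structure Small (p : ℕ) (E : Subgroup G) [(Cfsg.pCore p G).Normal] : Prop where
  free : WC p E ⊓ centralizer (E : Set G) = ⊥
  card : Nat.card ↥(WC p E) = p ^ 2
  fpf : ∀ e ∈ E, e ∉ Cfsg.pCore p G → ∀ w ∈ WC p E, e * w * e⁻¹ = w → w = 1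
  trans : ∀ w ∈ WC p E, w ≠ 1 → ∀ w' ∈ WC p E, w' ≠ 1 → ∃ e ∈ E, e * w * e⁻¹ = w'
  kind : (p = 2 ∧ ∀ e ∈ E, e ^ 3 ∈ Cfsg.pCore p G) ∨
    (p = 3 ∧ ¬ ⁅E, E⁆ ≤ Cfsg.pCore p G ∧ ∀ e ∈ E, e ^ 4 ∈ Cfsg.pCore p G)
  exc : E ⊓ Cfsg.pCore p G ≤ WC p E ∨ ExcSmall p E

/-- The facts used about a block. -/
structure Facts (p : ℕ) (E : Subgroup G) [(Cfsg.pCore p G).Normal] : Prop where
  gen : E ≤ closure {g : G | g ∈ E ∧ (orderOf g).Coprime p}
  subn : E.IsSubnormal
  qnorm : Cfsg.pCore p G ≤ normalizer (E : Set G)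
  wc_le : WC p E ≤ Cfsg.omegaOneCenter p (Cfsg.pCore p G)
  wc_wc : ⁅WC p E, E⁆ = WC p E
  w_le : WW p E ≤ WC p E ⊔ (WW p E ⊓ centralizer (E : Set G))
  irr : ∀ U : Subgroup G, U ≤ WW p E → WW p E ⊓ centralizer (E : Set G) ≤ U →
    E ≤ normalizer (U : Set G) → U ≤ centralizer (E : Set G) ∨ WW p E ≤ U
  ne : ¬ WC p E ≤ centralizer (E : Set G)
  faith : ∀ e ∈ E, (∀ w ∈ WC p E, e * w * e⁻¹ * w⁻¹ ∈ centralizer (E : Set G)) → e ∈ Cfsg.pCore p G
  lin_or_exc : E ⊓ Cfsg.pCore p G ≤ WC p E ∨ Exc p E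
  kind : Cfsg.IsQuasisimple ↥(E.map (QuotientGroup.mk' (Cfsg.pCore p G))) ∨ Small p E

section General

variable {p : ℕ}

/-- A `p`-element fixed by a `p'`-element whose action it measures is trivial. -/
theorem coprime_fix {g x n : G} (hg : (orderOf g).Coprime p) (h1 : g * x * g⁻¹ = n * x)
    (h2 : g * n = n * g) (hn : ∃ k : ℕ, n ^ p ^ k = 1) : n = 1 := by
  obtain ⟨k, hk⟩ := hn
  have hpow : ∀ i : ℕ, g ^ i * x * (g ^ i)⁻¹ = n ^ i * x := by
    intro i
    induction i with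
    | zero => simp
    | succ i ih =>
      have hc : Commute g (n ^ i) := (show Commute g n from h2).pow_right i
      rw [pow_succ' g i, show g * g ^ i * x * (g * g ^ i)⁻¹ = g * (g ^ i * x * (g ^ i)⁻¹) * g⁻¹ by group,
        ih, show g * (n ^ i * x) * g⁻¹ = g * n ^ i * g⁻¹ * (g * x * g⁻¹) by group, hc.eq,
        mul_inv_cancel_right, h1, ← mul_assoc, ← pow_succ]
  have h3 := hpow (orderOf g)
  rw [pow_orderOf_eq_one, one_mul, inv_one, mul_one, eq_comm, mul_eq_right] at h3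
  exact orderOf_eq_one_iff.mp (Nat.eq_one_of_dvd_coprimes (hg.pow_right k)
    (orderOf_dvd_of_pow_eq_one h3) (orderOf_dvd_of_pow_eq_one hk))

theorem pow_pow_eq_one [Fact p.Prime] {X : Subgroup G} (hX : IsPGroup p X) {n : G} (hn : n ∈ X) :
    ∃ k : ℕ, n ^ p ^ k = 1 := by
  obtain ⟨k, hk⟩ := hX ⟨n, hn⟩
  exact ⟨k, congrArg Subtype.val hk⟩

theorem commutatorElement_fix {g x : G} (h : g * x = x * g) : g * x * g⁻¹ = x := by
  rw [h, mul_inv_cancel_right]

/-- A group generated by `p'`-elements acting quadratically trivially on a `p`-subgroup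
centralises it. -/
theorem le_centralizer_of_coprime [Fact p.Prime] {E X N : Subgroup G}
    (hgen : E ≤ closure {g : G | g ∈ E ∧ (orderOf g).Coprime p}) (hN : IsPGroup p N)
    (h1 : ⁅E, X⁆ ≤ N) (h2 : N ≤ centralizer (E : Set G)) : E ≤ centralizer (X : Set G) := by
  refine hgen.trans ((closure_le _).mpr ?_)
  rintro g ⟨hgE, hg⟩
  refine mem_centralizer_iff.mpr fun x hx => ?_
  have hn : ⁅g, x⁆ ∈ N := h1 (commutator_mem_commutator hgE hx)
  have h3 := coprime_fix hg (x := x) (n := ⁅g, x⁆) (by rw [commutatorElement_def]; group)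
    (mem_centralizer_iff.mp (h2 hn) g hgE) (pow_pow_eq_one hN hn)
  rw [commutatorElement_eq_one_iff_mul_comm] at h3
  exact h3.symm

theorem conj_mem_of_normalizer {U : Subgroup G} {g x : G} (hg : g ∈ normalizer (U : Set G))
    (hx : x ∈ U) : g * x * g⁻¹ ∈ U :=
  (mem_normalizer_iff.mp hg x).mp hx

theorem le_normalizer_inf {H A B : Subgroup G} (hA : H ≤ normalizer (A : Set G))
    (hB : H ≤ normalizer (B : Set G)) : H ≤ normalizer ((A ⊓ B : Subgroup G) : Set G) := by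
  intro h hh
  rw [mem_normalizer_iff]
  exact fun x => and_congr (mem_normalizer_iff.mp (hA hh) x) (mem_normalizer_iff.mp (hB hh) x)

theorem le_normalizer_of_conj [Finite G] {H A : Subgroup G}
    (h : ∀ g ∈ H, ∀ x ∈ A, g * x * g⁻¹ ∈ A) : H ≤ normalizer (A : Set G) :=
  fun g hg => mem_normalizer_fintype fun x hx => h g hg x hx

theorem le_normalizer_centralizer {H A : Subgroup G} (hA : H ≤ normalizer (A : Set G)) :
    H ≤ normalizer ((centralizer (A : Set G) : Subgroup G) : Set G) := by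
  intro h hh
  rw [mem_normalizer_iff]
  intro x
  have hh' := mem_normalizer_iff.mp (hA hh)
  simp only [mem_centralizer_iff, SetLike.mem_coe]
  constructor
  · intro hx a ha
    have h1 := hx (h⁻¹ * a * h) (by rw [hh']; simpa [mul_assoc] using ha)
    calc a * (h * x * h⁻¹) = h * (h⁻¹ * a * h * x) * h⁻¹ := by group
      _ = h * (x * (h⁻¹ * a * h)) * h⁻¹ := by rw [h1]
      _ = h * x * h⁻¹ * a := by group
  · intro hx a ha
    have h1 := hx _ ((hh' a).mp ha)
    have h2 : h * (a * x) * h⁻¹ = h * (x * a) * h⁻¹ := by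
      calc h * (a * x) * h⁻¹ = h * a * h⁻¹ * (h * x * h⁻¹) := by group
        _ = h * x * h⁻¹ * (h * a * h⁻¹) := h1
        _ = h * (x * a) * h⁻¹ := by group
    exact mul_left_cancel (mul_right_cancel h2)

theorem le_normalizer_sup [Finite G] {H A B : Subgroup G} (hA : H ≤ normalizer (A : Set G))
    (hB : H ≤ normalizer (B : Set G)) : H ≤ normalizer ((A ⊔ B : Subgroup G) : Set G) := by
  refine le_normalizer_of_conj fun g hg x hx => ?_
  have hle : A ⊔ B ≤ (A ⊔ B).comap (MulAut.conj g).toMonoidHom :=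
    sup_le (fun a ha => mem_sup_left (conj_mem_of_normalizer (hA hg) ha))
      fun b hb => mem_sup_right (conj_mem_of_normalizer (hB hg) hb)
  exact hle hx

theorem le_normalizer_commutator [Finite G] {H A B : Subgroup G} (hA : H ≤ normalizer (A : Set G))
    (hB : H ≤ normalizer (B : Set G)) : H ≤ normalizer ((⁅A, B⁆ : Subgroup G) : Set G) := by
  refine le_normalizer_of_conj fun g hg x hx => ?_
  have hle : ⁅A, B⁆ ≤ (⁅A, B⁆ : Subgroup G).comap (MulAut.conj g).toMonoidHom :=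
    commutator_le.mpr fun a ha b hb => by
      show (MulAut.conj g).toMonoidHom ⁅a, b⁆ ∈ ⁅A, B⁆
      rw [map_commutatorElement]
      exact commutator_mem_commutator (conj_mem_of_normalizer (hA hg) ha)
        (conj_mem_of_normalizer (hB hg) hb)
  exact hle hx

theorem omegaOneCenter_le (X : Subgroup G) :
    Cfsg.omegaOneCenter p X ≤ X ⊓ centralizer (X : Set G) :=
  (closure_le _).mpr fun _ h => h.1

theorem omegaOneCenter_pow_eq (X : Subgroup G) {x : G} (hx : x ∈ Cfsg.omegaOneCenter p X) :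
    x ^ p = 1 := by
  induction hx using closure_induction with
  | mem y hy => exact hy.2
  | one => exact one_pow p
  | mul a b ha hb iha ihb =>
    have hc : Commute a b := mem_centralizer_iff.mp (omegaOneCenter_le X hb).2 a
      (omegaOneCenter_le X ha).1
    rw [hc.mul_pow, iha, ihb, one_mul]
  | inv a _ iha => rw [inv_pow, iha, inv_one]

theorem mem_omegaOneCenter {X : Subgroup G} {x : G} (hx : x ∈ X) (hc : x ∈ centralizer (X : Set G))
    (hp : x ^ p = 1) : x ∈ Cfsg.omegaOneCenter p X :=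
  subset_closure ⟨⟨hx, hc⟩, hp⟩

theorem le_normalizer_omega [Finite G] {H A : Subgroup G} (hA : H ≤ normalizer (A : Set G)) :
    H ≤ normalizer (Cfsg.omegaOneCenter p A : Set G) := by
  refine le_normalizer_of_conj fun g hg x hx => mem_omegaOneCenter
    (conj_mem_of_normalizer (hA hg) (omegaOneCenter_le A hx).1)
    (conj_mem_of_normalizer (le_normalizer_centralizer hA hg) (omegaOneCenter_le A hx).2) ?_
  rw [conj_pow, omegaOneCenter_pow_eq A hx, mul_one, mul_inv_cancel]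

end General

section Basic

variable [Finite G] {p : ℕ} [Fact p.Prime] [hQn : (Cfsg.pCore p G).Normal] {E : Subgroup G}

theorem normalizer_pCore_top (x : G) : x ∈ normalizer (Cfsg.pCore p G : Set G) := by
  rw [normalizer_eq_top]; exact mem_top x

theorem isPGroup_inf (E : Subgroup G) : IsPGroup p ↥(E ⊓ Cfsg.pCore p G) :=
  (Grp.pCore_isPGroup (p := p) (G := G)).to_le inf_le_right

theorem ww_le (E : Subgroup G) : WW p E ≤ E ⊓ Cfsg.pCore p G :=
  (omegaOneCenter_le _).trans inf_le_left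

theorem ww_central (E : Subgroup G) {x w : G} (hx : x ∈ E ⊓ Cfsg.pCore p G) (hw : w ∈ WW p E) :
    x * w = w * x :=
  mem_centralizer_iff.mp (omegaOneCenter_le _ hw).2 x hx

theorem ww_comm (E : Subgroup G) {v w : G} (hv : v ∈ WW p E) (hw : w ∈ WW p E) : v * w = w * v :=
  ww_central E (ww_le E hv) hw

theorem self_le_normalizer_inf (E : Subgroup G) :
    E ≤ normalizer ((E ⊓ Cfsg.pCore p G : Subgroup G) : Set G) :=
  le_normalizer_inf le_normalizer fun x _ => normalizer_pCore_top x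

theorem normalizer_le_ww {H : Subgroup G} (h : H ≤ normalizer (E : Set G)) :
    H ≤ normalizer (WW p E : Set G) :=
  le_normalizer_omega (le_normalizer_inf h fun x _ => normalizer_pCore_top x)

theorem normalizer_le_wc {H : Subgroup G} (h : H ≤ normalizer (E : Set G)) :
    H ≤ normalizer (WC p E : Set G) :=
  le_normalizer_commutator (normalizer_le_ww h) h

theorem wc_le_ww (E : Subgroup G) : WC p E ≤ WW p E :=
  commutator_le.mpr fun w hw e he => by
    rw [commutatorElement_def, show w * e * w⁻¹ * e⁻¹ = w * (e * w⁻¹ * e⁻¹) by group]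
    exact mul_mem hw (conj_mem_of_normalizer (normalizer_le_ww le_normalizer he) (inv_mem hw))

theorem wc_le (E : Subgroup G) : WC p E ≤ E ⊓ Cfsg.pCore p G := (wc_le_ww E).trans (ww_le E)

theorem centralizer_self_normalizer {H : Subgroup G} (h : H ≤ normalizer (E : Set G)) :
    H ≤ normalizer ((centralizer (E : Set G) : Subgroup G) : Set G) :=
  le_normalizer_centralizer h

theorem mem_of_coprime_sup {Q : Subgroup G} (hQ : IsPGroup p Q) (hQE : Q ≤ normalizer (E : Set G))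
    {g : G} (hg : g ∈ E ⊔ Q) (hgo : (orderOf g).Coprime p) : g ∈ E := by
  haveI : (E.subgroupOf (E ⊔ Q)).Normal :=
    normal_subgroupOf_of_le_normalizer (sup_le le_normalizer hQE)
  rw [← SetLike.mem_coe, Subgroup.coe_mul_of_right_le_normalizer_left _ _ hQE] at hg
  obtain ⟨k, hk, j, hj, rfl⟩ := hg
  let q := QuotientGroup.mk' (E.subgroupOf (E ⊔ Q))
  have hmem : k * j ∈ E ⊔ Q := mul_mem (mem_sup_left hk) (mem_sup_right hj)
  have hqg : q ⟨k * j, hmem⟩ = q ⟨j, mem_sup_right hj⟩ := by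
    rw [show (⟨k * j, hmem⟩ : ↥(E ⊔ Q)) = ⟨k, mem_sup_left hk⟩ * ⟨j, mem_sup_right hj⟩ from rfl,
      map_mul, show q ⟨k, mem_sup_left hk⟩ = 1 from (QuotientGroup.eq_one_iff _).mpr hk, one_mul]
  have h1 : orderOf (q ⟨k * j, hmem⟩) ∣ orderOf (k * j) :=
    (orderOf_map_dvd q _).trans (Subgroup.orderOf_mk _ _).dvd
  obtain ⟨i, hi⟩ := IsPGroup.iff_orderOf.mp hQ ⟨j, hj⟩
  rw [Subgroup.orderOf_mk] at hi
  have h2 : orderOf (q ⟨k * j, hmem⟩) ∣ p ^ i := by
    rw [hqg]
    exact (orderOf_map_dvd q _).trans ((Subgroup.orderOf_mk _ _).trans hi).dvd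
  exact mem_subgroupOf.mp ((QuotientGroup.eq_one_iff _).mp
    (orderOf_eq_one_iff.mp (Nat.eq_one_of_dvd_coprimes (hgo.pow_right i) h1 h2)))

/-- A block inside another block times the radical lies in that block. -/
theorem Facts.le_of_le_sup {F : Subgroup G} (hE : Facts p E) (hF : Facts p F)
    (h : E ≤ F ⊔ Cfsg.pCore p G) : E ≤ F := by
  refine hE.gen.trans ((closure_le _).mpr ?_)
  rintro g ⟨hgE, hg⟩
  exact mem_of_coprime_sup Grp.pCore_isPGroup hF.qnorm (h hgE) hg

/-- Whatever normalises a block modulo the radical normalises it. -/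
theorem Facts.normalizes (hE : Facts p E) {x : G}
    (h : ∀ e ∈ E, x * e * x⁻¹ ∈ E ⊔ Cfsg.pCore p G) : x ∈ normalizer (E : Set G) := by
  refine mem_normalizer_fintype fun e he => ?_
  have hle : E ≤ E.comap (MulAut.conj x).toMonoidHom := by
    refine hE.gen.trans ((closure_le _).mpr ?_)
    rintro g ⟨hgE, hg⟩
    refine mem_of_coprime_sup Grp.pCore_isPGroup hE.qnorm (h g hgE) ?_
    show (orderOf (MulAut.conj x g)).Coprime p
    rwa [MulEquiv.orderOf_eq]
  exact hle he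

/-- The radical centre commutes with a block into its module commutator. -/
theorem Facts.comm_v (hE : Facts p E) :
    ⁅E, Cfsg.omegaOneCenter p (Cfsg.pCore p G)⁆ ≤ WC p E := by
  set V := Cfsg.omegaOneCenter p (Cfsg.pCore p G) with hV
  have hVQ : V ≤ Cfsg.pCore p G := (omegaOneCenter_le _).trans inf_le_left
  have hVn : E ≤ normalizer (V : Set G) :=
    le_normalizer_omega fun x _ => normalizer_pCore_top x
  have hn : E ≤ normalizer (WC p E : Set G) := normalizer_le_wc le_normalizer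
  have hW : ∀ e ∈ E, ∀ v ∈ V, e * v * e⁻¹ * v⁻¹ ∈ WW p E := by
    intro e he v hv
    have hV' : e * v * e⁻¹ * v⁻¹ ∈ V :=
      mul_mem (conj_mem_of_normalizer (hVn he) hv) (inv_mem hv)
    have hE' : e * v * e⁻¹ * v⁻¹ ∈ E := by
      rw [show e * v * e⁻¹ * v⁻¹ = e * (v * e⁻¹ * v⁻¹) by group]
      exact mul_mem he (conj_mem_of_normalizer (hE.qnorm (hVQ hv)) (inv_mem he))
    exact mem_omegaOneCenter ⟨hE', hVQ hV'⟩
      (centralizer_le (fun y (hy : y ∈ E ⊓ Cfsg.pCore p G) => hy.2) (omegaOneCenter_le _ hV').2)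
      (omegaOneCenter_pow_eq _ hV')
  rw [commutator_le]
  intro e he v hv
  revert e
  have key : ∀ g ∈ E, (orderOf g).Coprime p → g * v * g⁻¹ * v⁻¹ ∈ WC p E := by
    intro g hg hgo
    set c := g * v * g⁻¹ * v⁻¹ with hc
    have hcW := hW g hg v hv
    have hpow : ∀ i : ℕ, g ^ i * v * (g ^ i)⁻¹ * v⁻¹ * (c ^ i)⁻¹ ∈ WC p E := by
      intro i
      induction i with
      | zero => simp
      | succ i ih =>
        set d := g ^ i * v * (g ^ i)⁻¹ * v⁻¹ * (c ^ i)⁻¹ with hd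
        have hci : c ^ i ∈ WW p E := pow_mem hcW i
        have h1 : ⁅c ^ i, g⁆ ∈ WC p E := commutator_mem_commutator hci hg
        have h2 : g * d * g⁻¹ ∈ WC p E := conj_mem_of_normalizer (hn hg) ih
        have h3 : g ^ (i + 1) * v * (g ^ (i + 1))⁻¹ * v⁻¹ * (c ^ (i + 1))⁻¹ =
            g * d * g⁻¹ * (g * c ^ i * g⁻¹ * (c ^ i)⁻¹) := by
          rw [hd, pow_succ c i, mul_inv_rev, pow_succ' g i]
          generalize c ^ i = y
          rw [hc]
          group
        rw [h3]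
        refine mul_mem h2 ?_
        have : g * c ^ i * g⁻¹ * (c ^ i)⁻¹ = ⁅c ^ i, g⁆⁻¹ := by
          rw [commutatorElement_def]; group
        rw [this]
        exact inv_mem h1
    have h4 := hpow (orderOf g)
    rw [pow_orderOf_eq_one, one_mul, inv_one, mul_one, mul_inv_cancel, one_mul, inv_mem_iff] at h4
    have h5 : c ^ p = 1 := omegaOneCenter_pow_eq _ hcW
    obtain ⟨m, hm⟩ := exists_pow_eq_self_of_coprime (x := c) (n := orderOf g)
      (hgo.coprime_dvd_right (orderOf_dvd_of_pow_eq_one h5))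
    rw [← hm]
    exact pow_mem h4 m
  intro e he
  have he' := hE.gen he
  suffices h : e ∈ E ∧ e * v * e⁻¹ * v⁻¹ ∈ WC p E by
    rw [commutatorElement_def]; exact h.2
  clear he
  induction he' using closure_induction with
  | mem g hg => exact ⟨hg.1, key g hg.1 hg.2⟩
  | one => exact ⟨one_mem E, by simp⟩
  | mul a b _ _ iha ihb =>
    refine ⟨mul_mem iha.1 ihb.1, ?_⟩
    rw [show a * b * v * (a * b)⁻¹ * v⁻¹ =
      a * (b * v * b⁻¹ * v⁻¹) * a⁻¹ * (a * v * a⁻¹ * v⁻¹) by group]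
    exact mul_mem (conj_mem_of_normalizer (hn iha.1) ihb.2) iha.2
  | inv a _ iha =>
    refine ⟨inv_mem iha.1, ?_⟩
    rw [show a⁻¹ * v * a⁻¹⁻¹ * v⁻¹ = a⁻¹ * (a * v * a⁻¹ * v⁻¹)⁻¹ * a⁻¹⁻¹ by group]
    exact conj_mem_of_normalizer (hn (inv_mem iha.1)) (inv_mem iha.2)

end Basic

end Cfsg.Agent.Invol.BlockPair
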