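import Mathlib
import Cfsg.Agent.Lib.Invol.LargeSubgroup
import Cfsg.Agent.Lib.Grp.CoprimeAbelian
import Cfsg.Agent.Lib.Grp.Components
import Cfsg.Agent.Lib.Grp.Subnormal
import Cfsg.Agent.Lib.Fus.CharTwo

/-!
# Characteristic `p` of local subgroups from centralizers of central elements
-/

namespace Cfsg.Agent.Invol.CpLocal

open Cfsg.Agent

variable {G : Type*} [Group G] [Finite G] {p : ℕ} [hp : Fact p.Prime]

theorem charP_of_gfit {X : Type*} [Group X] [Finite X]
    (h : Cfsg.generalizedFittingSubgroup X = Cfsg.pCore p X) : CharP' p X := by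
  intro x hx
  rw [← h] at hx ⊢
  exact Grp.centralizer_gfitting_le hx

theorem gfit_of_charP {X : Type*} [Group X] [Finite X] (h : CharP' p X) :
    Cfsg.generalizedFittingSubgroup X = Cfsg.pCore p X :=
  Fus.generalizedFittingSubgroup_eq_of_charP h

/-- A subnormal subgroup of a subgroup of characteristic `p`. -/
theorem charP_sub {K X : Subgroup G} (hX : CharP' p X) (hKX : K ≤ X)
    (hsn : (K.subgroupOf X).IsSubnormal) : CharP' p K :=
  charP_of_mulEquiv (Subgroup.subgroupOfEquivOfLe hKX) (charP_of_isSubnormal hX hsn)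

theorem charP_sub_normal {K X : Subgroup G} (hX : CharP' p X) (hKX : K ≤ X)
    (hn : X ≤ Subgroup.normalizer (K : Set G)) : CharP' p K :=
  charP_sub hX hKX ((Subgroup.normal_subgroupOf_iff_le_normalizer hKX).mpr hn).isSubnormal

/-- The normalizer of a `p`-subgroup inside a subgroup of characteristic `p`. -/
theorem normalizer_charP {B N : Subgroup G} (hB : IsPGroup p B) (hBN : B ≤ N)
    (hCN : Subgroup.centralizer (B : Set G) ≤ N) (hN : CharP' p N) :
    CharP' p ↥(Subgroup.normalizer (B : Set G)) := by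
  set X := Subgroup.normalizer (B : Set G)
  set C := Subgroup.centralizer (B : Set G)
  set OX := Cfsg.pCoreOf p X
  set Q := Cfsg.pCoreOf p N
  have hN' : N ⊓ Subgroup.centralizer (Q : Set G) ≤ Q := lg_charP_iff.mp hN
  have hBX : B ≤ OX := lg_le_pCoreOf Subgroup.le_normalizer le_rfl hB
  have hCX : C ≤ X := Subgroup.centralizer_le_normalizer _
  have hXC : X ≤ Subgroup.normalizer (C : Set G) := by
    intro g hg
    refine Subgroup.mem_normalizer_fintype fun c hc => Subgroup.mem_centralizer_iff.mpr fun b hb => ?_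
    have hb' : g⁻¹ * b * g ∈ B := by
      simpa using (Subgroup.mem_normalizer_iff.mp (X.inv_mem hg) b).mp hb
    have := Subgroup.mem_centralizer_iff.mp hc _ hb'
    calc b * (g * c * g⁻¹) = g * ((g⁻¹ * b * g) * c) * g⁻¹ := by group
      _ = g * (c * (g⁻¹ * b * g)) * g⁻¹ := by rw [this]
      _ = g * c * g⁻¹ * b := by group
  have hOC : Cfsg.pCoreOf p C ≤ OX :=
    lg_le_pCoreOf ((lg_pCoreOf_le C).trans hCX)
      (hXC.trans (lg_normalizer_le_normalizer_pCoreOf C)) (lg_isPGroup_pCoreOf C)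
  have hQC : Q ⊓ C ≤ OX := by
    refine le_trans (lg_le_pCoreOf inf_le_right ?_ ((lg_isPGroup_pCoreOf N).to_le inf_le_left)) hOC
    intro c hc
    refine Subgroup.mem_normalizer_fintype fun y hy => ⟨?_, ?_⟩
    · exact (Subgroup.mem_normalizer_iff.mp (lg_le_normalizer_pCoreOf N (hCN hc)) y).mp hy.1
    · exact C.mul_mem (C.mul_mem hc hy.2) (C.inv_mem hc)
  rw [CharP', lg_charP_iff]
  refine lg_le_pCoreOf inf_le_left ?_ ?_
  · intro g hg
    refine Subgroup.mem_normalizer_fintype fun c hc => ⟨X.mul_mem (X.mul_mem hg hc.1) (X.inv_mem hg), ?_⟩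
    refine Subgroup.mem_centralizer_iff.mpr fun b hb => ?_
    have hb' : g⁻¹ * b * g ∈ OX := by
      simpa using (Subgroup.mem_normalizer_iff.mp (lg_le_normalizer_pCoreOf X (X.inv_mem hg)) b).mp hb
    have := Subgroup.mem_centralizer_iff.mp hc.2 _ hb'
    calc b * (g * c * g⁻¹) = g * ((g⁻¹ * b * g) * c) * g⁻¹ := by group
      _ = g * (c * (g⁻¹ * b * g)) * g⁻¹ := by rw [this]
      _ = g * c * g⁻¹ * b := by group
  refine isPGroup_of_coprime_elements fun x hx => ?_
  have hxo : (orderOf (x : G)).Coprime p := by rwa [Subgroup.orderOf_coe]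
  have hxB : (x : G) ∈ C :=
    Subgroup.mem_centralizer_iff.mpr fun b hb => Subgroup.mem_centralizer_iff.mp x.2.2 b (hBX hb)
  have hxN : (x : G) ∈ N := hCN hxB
  have hxQ : (x : G) ∈ Subgroup.centralizer (Q : Set G) := by
    refine Grp.thompson_PQ B (Subgroup.zpowers (x : G)) hB (by rwa [Nat.card_zpowers]) ?_ Q
      (lg_isPGroup_pCoreOf N) (hBN.trans (lg_le_normalizer_pCoreOf N))
      ((Subgroup.zpowers_le.mpr hxN).trans (lg_le_normalizer_pCoreOf N)) ?_ (Subgroup.mem_zpowers _)
    · exact Subgroup.le_centralizer_iff.mp (Subgroup.zpowers_le.mpr hxB)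
    · intro y hy
      rw [Subgroup.mem_centralizer_iff]
      rintro _ ⟨k, rfl⟩
      exact ((show Commute (y : G) (x : G) from
        Subgroup.mem_centralizer_iff.mp x.2.2 y (hQC hy)).zpow_right k).symm
  exact Subtype.ext (eq_one_of_coprime_of_mem (lg_isPGroup_pCoreOf N) (hN' ⟨hxN, hxQ⟩) hxo)

theorem centralizer_charP {B N : Subgroup G} (hB : IsPGroup p B) (hBN : B ≤ N)
    (hCN : Subgroup.centralizer (B : Set G) ≤ N) (hN : CharP' p N) :
    CharP' p ↥(Subgroup.centralizer (B : Set G)) := by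
  refine charP_sub_normal (normalizer_charP hB hBN hCN hN) (Subgroup.centralizer_le_normalizer _) ?_
  intro g hg
  refine Subgroup.mem_normalizer_fintype fun c hc => Subgroup.mem_centralizer_iff.mpr fun b hb => ?_
  have hb' : g⁻¹ * b * g ∈ B := by
    simpa using (Subgroup.mem_normalizer_iff.mp ((Subgroup.normalizer (B : Set G)).inv_mem hg) b).mp hb
  have := Subgroup.mem_centralizer_iff.mp hc _ hb'
  calc b * (g * c * g⁻¹) = g * ((g⁻¹ * b * g) * c) * g⁻¹ := by group
    _ = g * (c * (g⁻¹ * b * g)) * g⁻¹ := by rw [this]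
    _ = g * c * g⁻¹ * b := by group

theorem centralizer_conj_charP {z : G} (g : G)
    (h : CharP' p ↥(Subgroup.centralizer ({z} : Set G))) :
    CharP' p ↥(Subgroup.centralizer ({g * z * g⁻¹} : Set G)) := by
  have e : (Subgroup.centralizer ({z} : Set G)).map (MulAut.conj g).toMonoidHom =
      Subgroup.centralizer ({g * z * g⁻¹} : Set G) := by
    ext y
    rw [wc_mem_map_conj, Subgroup.mem_centralizer_singleton_iff, Subgroup.mem_centralizer_singleton_iff]
    constructor
    · intro h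
      calc y * (g * z * g⁻¹) = g * ((g⁻¹ * y * g) * z) * g⁻¹ := by group
        _ = g * (z * (g⁻¹ * y * g)) * g⁻¹ := by rw [h]
        _ = g * z * g⁻¹ * y := by group
    · intro h
      calc g⁻¹ * y * g * z = g⁻¹ * (y * (g * z * g⁻¹)) * g := by group
        _ = g⁻¹ * (g * z * g⁻¹ * y) * g := by rw [h]
        _ = z * (g⁻¹ * y * g) := by group
  rw [← e]
  exact charP_of_mulEquiv
    (Subgroup.equivMapOfInjective _ (MulAut.conj g).toMonoidHom (MulAut.conj g).injective) h

/-- An element of order `p` of a nontrivial `p`-subgroup centralized by a `p`-group normalizing it. -/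
theorem exists_fixed_order_p {T R : Subgroup G} (hT : IsPGroup p T) (hR : IsPGroup p R) (hR1 : R ≠ ⊥)
    (hTR : T ≤ Subgroup.normalizer (R : Set G)) :
    ∃ z ∈ R ⊓ Subgroup.centralizer (T : Set G), orderOf z = p := by
  obtain ⟨y, hy, hy1⟩ := lg_exists_fixed hT hR hR1 hTR
  obtain ⟨k, hk⟩ := (IsPGroup.iff_orderOf.mp hR) ⟨y, hy.1⟩
  rw [Subgroup.orderOf_mk] at hk
  rcases k with _ | k
  · exact absurd (orderOf_eq_one_iff.mp (by simpa using hk)) hy1
  refine ⟨y ^ p ^ k, Subgroup.pow_mem _ hy _, ?_⟩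
  rw [orderOf_pow_of_dvd (pow_ne_zero _ hp.out.ne_zero) (hk ▸ pow_dvd_pow p k.le_succ), hk,
    Nat.pow_div k.le_succ hp.out.pos, Nat.succ_sub le_rfl, Nat.sub_self, pow_one]

/-- Parabolic characteristic is decided by centralizers of central elements of order `p`. -/
theorem parabolic_iff (S : Sylow p G) :
    Cfsg.IsOfParabolicCharacteristic p G ↔
      ∀ z : G, orderOf z = p → z ∈ (S : Subgroup G) ⊓ Subgroup.centralizer ((S : Subgroup G) : Set G) →
        CharP' p ↥(Subgroup.centralizer ({z} : Set G)) := by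
  constructor
  · intro h z hz hzS
    have hSC : (S : Subgroup G) ≤ Subgroup.centralizer ({z} : Set G) := fun s hs =>
      Subgroup.mem_centralizer_singleton_iff.mpr (Subgroup.mem_centralizer_iff.mp hzS.2 s hs)
    have hCN : Subgroup.centralizer ({z} : Set G) ≤
        Subgroup.normalizer ((Subgroup.zpowers z : Subgroup G) : Set G) := by
      rw [Grp.centralizer_singleton_eq_zpowers]
      exact Subgroup.centralizer_le_normalizer _
    have hp' : IsPGroup p (Subgroup.zpowers z) :=
      IsPGroup.of_card (n := 1) (by rw [Nat.card_zpowers, hz, pow_one])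
    have hne : Subgroup.zpowers z ≠ ⊥ := Subgroup.zpowers_ne_bot.mpr fun e => by
      rw [e, orderOf_one] at hz; exact hp.out.ne_one hz.symm
    refine charP_sub_normal (h _ hp' hne ⟨S, hSC.trans hCN⟩) hCN ?_
    intro g hg
    refine Subgroup.mem_normalizer_fintype fun c hc => Subgroup.mem_centralizer_singleton_iff.mpr ?_
    have hb' : g⁻¹ * z * g ∈ Subgroup.zpowers z := by
      simpa using (Subgroup.mem_normalizer_iff.mp ((Subgroup.normalizer _).inv_mem hg) z).mp
        (Subgroup.mem_zpowers z)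
    obtain ⟨k, hk⟩ := Subgroup.mem_zpowers_iff.mp hb'
    have hcz : Commute c z := Subgroup.mem_centralizer_singleton_iff.mp hc
    have := (hcz.zpow_right k).eq
    rw [hk] at this
    calc g * c * g⁻¹ * z = g * (c * (g⁻¹ * z * g)) * g⁻¹ := by group
      _ = g * ((g⁻¹ * z * g) * c) * g⁻¹ := by rw [this]
      _ = z * (g * c * g⁻¹) := by group
  · intro h R hR hR1 hpar
    obtain ⟨T, hTN⟩ := hpar
    have hRT : R ≤ (T : Subgroup G) :=
      le_sup_left.trans (T.3 (IsPGroup.to_sup_of_normal_left' hR T.isPGroup' hTN) le_sup_right).le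
    obtain ⟨z, hz, hzo⟩ := exists_fixed_order_p T.isPGroup' hR hR1 hTN
    obtain ⟨g, hg⟩ := MulAction.exists_smul_eq G S T
    have hmem : ∀ x ∈ (T : Subgroup G), g⁻¹ * x * g ∈ (S : Subgroup G) := by
      intro x hx
      rw [← hg] at hx
      obtain ⟨y, hy, rfl⟩ := hx
      show g⁻¹ * (g * y * g⁻¹) * g ∈ (S : Subgroup G)
      rw [show g⁻¹ * (g * y * g⁻¹) * g = y by group]
      exact hy
    have hw : g⁻¹ * z * g ∈ Subgroup.centralizer ((S : Subgroup G) : Set G) := by
      rw [Subgroup.mem_centralizer_iff]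
      intro y hy
      have hyT : g * y * g⁻¹ ∈ (T : Subgroup G) := by
        rw [← hg]; exact ⟨y, hy, rfl⟩
      have := Subgroup.mem_centralizer_iff.mp hz.2 _ hyT
      calc y * (g⁻¹ * z * g) = g⁻¹ * ((g * y * g⁻¹) * z) * g := by group
        _ = g⁻¹ * (z * (g * y * g⁻¹)) * g := by rw [this]
        _ = g⁻¹ * z * g * y := by group
    have ho : orderOf (g⁻¹ * z * g) = p := by
      rw [← hzo, show g⁻¹ * z * g = MulAut.conj g⁻¹ z by simp [MulAut.conj_apply]]
      exact (MulAut.conj g⁻¹).orderOf_eq z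
    have hC := centralizer_conj_charP g (h _ ho ⟨hmem _ (hRT hz.1), hw⟩)
    rw [show g * (g⁻¹ * z * g) * g⁻¹ = z by group] at hC
    refine normalizer_charP hR ?_ ?_ hC
    · exact fun x hx => Subgroup.mem_centralizer_singleton_iff.mpr
        (Subgroup.mem_centralizer_iff.mp hz.2 x (hRT hx))
    · exact fun x hx => Subgroup.mem_centralizer_singleton_iff.mpr
        (Subgroup.mem_centralizer_iff.mp hx z hz.1).symm

/-- Local characteristic from centralizers of all elements of order `p`. -/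
theorem local_of_centralizers (hdvd : p ∣ Nat.card G) (S : Sylow p G)
    (h : ∀ z : G, z ∈ (S : Subgroup G) → orderOf z = p →
      CharP' p ↥(Subgroup.centralizer ({z} : Set G))) :
    Cfsg.IsOfLocalCharacteristic p G := by
  refine ⟨hdvd, fun T hT hT1 => ?_⟩
  obtain ⟨z, hz, hzo⟩ := exists_fixed_order_p hT hT hT1 Subgroup.le_normalizer
  obtain ⟨P, hP⟩ := hT.exists_le_sylow
  obtain ⟨g, hg⟩ := MulAction.exists_smul_eq G S P
  have hzP : z ∈ (P : Subgroup G) := hP hz.1
  rw [← hg] at hzP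
  obtain ⟨w, hw, rfl⟩ := hzP
  have hwo : orderOf w = p := by rw [← hzo]; exact ((MulAut.conj g).orderOf_eq w).symm
  refine normalizer_charP hT ?_ ?_ (centralizer_conj_charP g (h w hw hwo))
  · exact fun x hx => Subgroup.mem_centralizer_singleton_iff.mpr
      (Subgroup.mem_centralizer_iff.mp hz.2 x hx)
  · exact fun x hx => Subgroup.mem_centralizer_singleton_iff.mpr
      (Subgroup.mem_centralizer_iff.mp hx _ hz.1).symm

/-- Parabolic characteristic passes to suitable subnormal subgroups. -/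
theorem parabolic_subnormal (hG : Cfsg.IsOfParabolicCharacteristic p G) (S : Sylow p G)
    (G₁ : Subgroup G) (hsn : G₁.IsSubnormal)
    (h : ∀ z : G, orderOf z = p → z ∈ (S : Subgroup G) ⊓ G₁ →
      z ∈ Subgroup.centralizer (((S : Subgroup G) ⊓ G₁ : Subgroup G) : Set G) →
      z ∈ Subgroup.centralizer ((S : Subgroup G) : Set G)) :
    Cfsg.IsOfParabolicCharacteristic p ↥G₁ := by
  have hp' : IsPGroup p ((S : Subgroup G).subgroupOf G₁) := S.isPGroup'.comap_subtype
  have hidx : ¬ p ∣ ((S : Subgroup G).subgroupOf G₁).index := Grp.not_dvd_relIndex_sylow S hsn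
  rw [parabolic_iff (hp'.toSylow hidx)]
  intro z hzo hz
  have hzo' : orderOf (z : G) = p := by rw [Subgroup.orderOf_coe, hzo]
  have hz1 : (z : G) ∈ (S : Subgroup G) ⊓ G₁ := ⟨hz.1, z.2⟩
  have hz2 : (z : G) ∈ Subgroup.centralizer (((S : Subgroup G) ⊓ G₁ : Subgroup G) : Set G) :=
    Subgroup.mem_centralizer_iff.mpr fun y hy =>
      congrArg Subtype.val (Subgroup.mem_centralizer_iff.mp hz.2 ⟨y, hy.2⟩ hy.1)
  have hC := (parabolic_iff S).mp hG z hzo' ⟨hz1.1, h _ hzo' hz1 hz2⟩
  have hK : CharP' p ↥(Subgroup.centralizer ({(z : G)} : Set G) ⊓ G₁ : Subgroup G) := by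
    refine charP_sub hC inf_le_left ?_
    rw [Subgroup.inf_subgroupOf_left]
    exact hsn.subgroupOf
  have e : (Subgroup.centralizer ({z} : Set G₁)).map G₁.subtype =
      Subgroup.centralizer ({(z : G)} : Set G) ⊓ G₁ := by
    ext y
    simp only [Subgroup.mem_map, Subgroup.mem_inf, Subgroup.mem_centralizer_singleton_iff]
    constructor
    · rintro ⟨x, hx, rfl⟩; exact ⟨congrArg Subtype.val hx, x.2⟩
    · rintro ⟨hy, hy1⟩; exact ⟨⟨y, hy1⟩, Subtype.ext hy, rfl⟩
  rw [← e] at hK
  exact charP_of_mulEquiv (Subgroup.equivMapOfInjective _ _ G₁.subtype_injective).symm hK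

theorem omegaOne_le {H : Subgroup G} : Cfsg.omegaOne p H ≤ H :=
  (Subgroup.closure_le _).mpr fun _ hx => hx.1

theorem mem_omegaOne {H : Subgroup G} {z : G} (hz : z ∈ H) (ho : orderOf z = p) :
    z ∈ Cfsg.omegaOne p H :=
  Subgroup.subset_closure ⟨hz, ho ▸ pow_orderOf_eq_one z⟩

theorem orderOf_of_mem_omegaOne_center {S : Subgroup G} {z : G}
    (hz : z ∈ Cfsg.omegaOne p (S ⊓ Subgroup.centralizer (S : Set G))) (hz1 : z ≠ 1) : orderOf z = p := by
  have h : z ∈ S ⊓ Subgroup.centralizer (S : Set G) ∧ z ^ p = 1 := by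
    refine Subgroup.closure_induction (fun x hx => ?_) ⟨Subgroup.one_mem _, one_pow p⟩
      (fun x y _ _ hx hy => ⟨Subgroup.mul_mem _ hx.1 hy.1, ?_⟩)
      (fun x _ hx => ⟨Subgroup.inv_mem _ hx.1, by rw [inv_pow, hx.2, inv_one]⟩) hz
    · exact hx
    · have hc : Commute x y := Subgroup.mem_centralizer_iff.mp hy.1.2 x hx.1.1
      rw [hc.mul_pow, hx.2, hy.2, one_mul]
  exact orderOf_eq_prime h.2 hz1

end Cfsg.Agent.Invol.CpLocal
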