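import Cfsg.Agent.Lib.Invol.CubicStable
import Cfsg.Agent.Lib.Invol.StronglyClosedControl
import Cfsg.Agent.Lib.Fus.FunctorCenter

/-!
For `p ≥ 5`, in a group that is `p`-stable in normalizer form the normalizer of `Z(J(P))` controls
strong fusion.
-/

set_option autoImplicit false
set_option linter.style.haveILetI false
set_option linter.unusedSectionVars false

open scoped commutatorElement

universe u

namespace Cfsg.Agent.Invol

open Subgroup

variable {G : Type u} [Group G] [Finite G] {p : ℕ} [hp : Fact p.Prime]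

/-- Stability in normalizer form passes to subgroups. -/
theorem isNormalizerPStable_subgroup (hst : IsNormalizerPStable p G) (H : Subgroup G) :
    IsNormalizerPStable p H := by
  intro P hP g hg hq
  set P' := P.map H.subtype with hP'
  have hgN : (g : G) ∈ Subgroup.normalizer (P' : Set G) :=
    Subgroup.le_normalizer_map H.subtype ⟨g, hg, rfl⟩
  have hq' : ⁅⁅P', Subgroup.zpowers (g : G)⁆, Subgroup.zpowers (g : G)⁆ = ⊥ := by
    have e : Subgroup.zpowers (g : G) = (Subgroup.zpowers g).map H.subtype :=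
      (MonoidHom.map_zpowers H.subtype g).symm
    rw [e, hP', ← Subgroup.map_commutator, ← Subgroup.map_commutator, hq, Subgroup.map_bot]
  have h2 := hst P' (hP.map _) g hgN hq'
  set N := Subgroup.normalizer (P : Set H) with hN
  set N' := Subgroup.normalizer (P' : Set G) with hN'
  set C := (Subgroup.centralizer (P : Set H)).subgroupOf N with hC
  set C' := (Subgroup.centralizer (P' : Set G)).subgroupOf N' with hC'
  let ι : N →* N' := (H.subtype.comp N.subtype).codRestrict N' fun x =>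
    Subgroup.le_normalizer_map H.subtype ⟨(x : H), x.2, rfl⟩
  let φ : N →* N ⧸ C := QuotientGroup.mk' C
  let ψ : N →* N' ⧸ C' := (QuotientGroup.mk' C').comp ι
  set W := (pCore p (N' ⧸ C')).comap ψ with hW
  haveI : (pCore p (N' ⧸ C')).Normal := Grp.pCore_isNormal
  haveI : W.Normal := Subgroup.Normal.comap inferInstance ψ
  have hker : ψ.ker ≤ φ.ker := by
    intro x hx
    have hx' : ((x : H) : G) ∈ Subgroup.centralizer (P' : Set G) :=
      (QuotientGroup.eq_one_iff (ι x)).1 hx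
    refine (QuotientGroup.eq_one_iff x).2 (Subgroup.mem_centralizer_iff.2 fun r hr => Subtype.ext ?_)
    exact Subgroup.mem_centralizer_iff.1 hx' _ ⟨r, hr, rfl⟩
  have hp' : IsPGroup p (W.map φ) := by
    rintro ⟨_, w, hw, rfl⟩
    obtain ⟨k, hk⟩ := (Grp.pCore_isPGroup (p := p) (G := N' ⧸ C')) ⟨ψ w, hw⟩
    refine ⟨k, Subtype.ext ?_⟩
    rw [SubmonoidClass.coe_pow, OneMemClass.coe_one, ← map_pow, ← MonoidHom.mem_ker]
    exact hker (by rw [MonoidHom.mem_ker, map_pow]; exact congrArg Subtype.val hk)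
  exact Grp.le_pCore (Subgroup.Normal.map inferInstance φ (QuotientGroup.mk'_surjective C)) hp'
    ⟨⟨g, hg⟩, h2, rfl⟩

/-- `N(Z(J(P)))` controls strong fusion in `P`. -/
def ZJControl (p : ℕ) (X : Type u) [Group X] : Prop :=
  ∀ (P : Sylow p X) (A : Set X), A ⊆ (P : Subgroup X) → ∀ g : X,
    (∀ a ∈ A, g * a * g⁻¹ ∈ (P : Subgroup X)) →
      ∃ x ∈ Subgroup.normalizer (centerOmega 0 (P : Subgroup X) : Set X),
        ∀ a ∈ A, x * a * x⁻¹ = g * a * g⁻¹

theorem ZJControl.in_subgroup {H : Subgroup G} (hH : ZJControl p H) {T : Subgroup G}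
    (hT : Grp.IsSylowIn p T H) {A : Set G} (hA : A ⊆ T) {g : G} (hgH : g ∈ H)
    (hg : ∀ a ∈ A, g * a * g⁻¹ ∈ T) :
    ∃ m ∈ H, m ∈ Subgroup.normalizer (centerOmega 0 T : Set G) ∧
      ∀ a ∈ A, m * a * m⁻¹ = g * a * g⁻¹ := by
  obtain ⟨S, hS⟩ := Grp.isSylowIn_iff.mp hT
  have hmem : ∀ x : H, x ∈ (S : Subgroup H) ↔ (x : G) ∈ T := fun x => by
    rw [← hS]
    exact ⟨fun h => ⟨x, h, rfl⟩, fun ⟨y, hy, e⟩ => Subtype.ext e ▸ hy⟩
  obtain ⟨m, hm, he⟩ := hH S (H.subtype ⁻¹' A) (fun x hx => (hmem x).2 (hA hx)) ⟨g, hgH⟩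
    fun x hx => (hmem _).2 (hg _ hx)
  refine ⟨m, m.2, ?_, fun a ha => congrArg Subtype.val (he ⟨a, hT.1 (hA ha)⟩ ha)⟩
  have h1 := Subgroup.le_normalizer_map H.subtype ⟨m, hm, rfl⟩
  rwa [centerOmega_map H.subtype (fun x _ hx => Subtype.ext hx), hS] at h1

theorem commute_of_comm_commute_pow {y d : G} (hy : (orderOf y).Coprime p)
    (hc : Commute y (y * d * y⁻¹ * d⁻¹)) {k : ℕ} (hcp : (y * d * y⁻¹ * d⁻¹) ^ p ^ k = 1) :
    Commute y d := by
  set c := y * d * y⁻¹ * d⁻¹ with hcdef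
  have hpow : ∀ m : ℕ, y ^ m * d * (y ^ m)⁻¹ = c ^ m * d := by
    intro m
    induction m with
    | zero => simp
    | succ m ih =>
      calc y ^ (m + 1) * d * (y ^ (m + 1))⁻¹ = y * (y ^ m * d * (y ^ m)⁻¹) * y⁻¹ := by
            rw [pow_succ']; group
        _ = y * (c ^ m * d) * y⁻¹ := by rw [ih]
        _ = c ^ m * (y * d * y⁻¹) := by
          rw [← mul_assoc y, (hc.pow_right m).eq, mul_assoc (c ^ m) y d, mul_assoc (c ^ m)]
        _ = c ^ m * (c * d) := by rw [show y * d * y⁻¹ = c * d from (inv_mul_cancel_right _ _).symm]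
        _ = c ^ (m + 1) * d := by rw [pow_succ]; exact (mul_assoc _ _ _).symm
  have h1 := hpow (p ^ k)
  rw [hcp, one_mul] at h1
  obtain ⟨j, hj⟩ := exists_pow_eq_self_of_coprime (hy.symm.pow_left k)
  have h2 : Commute (y ^ p ^ k) d := mul_inv_eq_iff_eq_mul.1 h1
  have h3 := h2.pow_left j
  rwa [hj] at h3

/-- Fusion control in the quotient by a normal `p`-subgroup on which `p'`-elements act trivially
lifts to the preimage. -/
theorem control_lift (P : Sylow p G) {Q : Subgroup G} [Q.Normal] (hQP : Q ≤ (P : Subgroup G))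
    (hQc : ∀ r : G, (orderOf r).Coprime p → ∀ q ∈ Q, Commute r q) {N : Subgroup G}
    (hPN : (P : Subgroup G) ≤ N)
    (hN : ∀ (A : Set G), A ⊆ (P : Subgroup G) → ∀ g : G, (∀ a ∈ A, g * a * g⁻¹ ∈ (P : Subgroup G)) →
      ∃ x ∈ N, ∀ a ∈ A, (x * a * x⁻¹)⁻¹ * (g * a * g⁻¹) ∈ Q)
    {A : Set G} (hA : A ⊆ (P : Subgroup G)) {g : G}
    (hg : ∀ a ∈ A, g * a * g⁻¹ ∈ (P : Subgroup G)) :
    ∃ x ∈ N, ∀ a ∈ A, x * a * x⁻¹ = g * a * g⁻¹ := by
  obtain ⟨x, hx, he⟩ := hN A hA g hg
  set f := QuotientGroup.mk' Q with hf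
  have hQp : IsPGroup p Q := P.isPGroup'.to_le hQP
  set K := (Subgroup.centralizer (f '' A)).comap f with hK
  have hKc : ∀ {w : G}, w ∈ K → ∀ a ∈ A, Commute (f w) (f a) := fun hw a ha =>
    ((Subgroup.mem_centralizer_iff.1 hw) _ ⟨a, ha, rfl⟩).symm
  have hcK : x⁻¹ * g ∈ K := by
    refine Subgroup.mem_centralizer_iff.2 ?_
    rintro _ ⟨a, ha, rfl⟩
    have h1 : f (x * a * x⁻¹) = f (g * a * g⁻¹) := QuotientGroup.eq.2 (he a ha)
    simp only [map_mul, map_inv] at h1 ⊢
    calc f a * ((f x)⁻¹ * f g) = (f x)⁻¹ * (f x * f a * (f x)⁻¹) * f g := by group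
      _ = (f x)⁻¹ * f g * f a := by rw [h1]; group
  -- elements of order prime to `p` of `K` centralize `A`
  have hr : ∀ r ∈ K, (orderOf r).Coprime p → ∀ a ∈ A, Commute r a := fun r hrK hrp a ha => by
    have hq : r * a * r⁻¹ * a⁻¹ ∈ Q := by
      rw [← QuotientGroup.eq_one_iff]
      show f (r * a * r⁻¹ * a⁻¹) = 1
      rw [map_mul, map_mul, map_mul, map_inv, map_inv, (hKc hrK a ha).eq, mul_inv_cancel_right,
        mul_inv_cancel]
    obtain ⟨k, hk⟩ := hQp ⟨_, hq⟩
    exact commute_of_comm_commute_pow hrp (hQc r hrp _ hq) (congrArg Subtype.val hk)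
  -- a Sylow subgroup of `K` inside `N`
  obtain ⟨T, hTN⟩ : ∃ T : Sylow p K, ∀ t ∈ (T : Subgroup K), (t : G) ∈ N := by
    obtain ⟨T⟩ : Nonempty (Sylow p K) := inferInstance
    set S := (T : Subgroup K).map K.subtype with hS
    set M := ((Subgroup.closure A).map f ⊔ S.map f).comap f with hM
    have hMp : IsPGroup p M := by
      refine IsPGroup.comap_of_ker_isPGroup ?_ f (by rwa [hf, QuotientGroup.ker_mk'])
      refine IsPGroup.to_sup_of_normal_right'
        ((P.isPGroup'.to_le ((Subgroup.closure_le _).2 hA)).map f) ((T.isPGroup'.map _).map f) ?_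
      refine le_trans ?_ (Subgroup.centralizer_le_normalizer _)
      rw [MonoidHom.map_closure, Subgroup.closure_le]
      rintro _ ⟨a, ha, rfl⟩
      rw [SetLike.mem_coe, Subgroup.mem_centralizer_iff]
      rintro _ ⟨_, ⟨t, -, rfl⟩, rfl⟩
      exact (hKc t.2 a ha).eq
    obtain ⟨S', hS'⟩ := hMp.exists_le_sylow
    obtain ⟨h, hh⟩ := MulAction.exists_smul_eq G S' P
    have hhM : ∀ w ∈ M, h * w * h⁻¹ ∈ (P : Subgroup G) := fun w hw => by
      rw [← hh, Sylow.coe_subgroup_smul, ← Grp.map_conj_eq_smul]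
      exact ⟨w, hS' hw, rfl⟩
    obtain ⟨y, hy, hye⟩ := hN A hA h fun a ha =>
      hhM a (Subgroup.mem_sup_left (Subgroup.mem_map_of_mem f (Subgroup.subset_closure ha)))
    have hd : y⁻¹ * h ∈ K := by
      refine Subgroup.mem_centralizer_iff.2 ?_
      rintro _ ⟨a, ha, rfl⟩
      have h1 : f (y * a * y⁻¹) = f (h * a * h⁻¹) := QuotientGroup.eq.2 (hye a ha)
      simp only [map_mul, map_inv] at h1 ⊢
      calc f a * ((f y)⁻¹ * f h) = (f y)⁻¹ * (f y * f a * (f y)⁻¹) * f h := by group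
        _ = (f y)⁻¹ * f h * f a := by rw [h1]; group
    refine ⟨(⟨_, hd⟩ : K) • T, fun t ht => ?_⟩
    rw [Sylow.coe_subgroup_smul, ← Grp.map_conj_eq_smul] at ht
    obtain ⟨s, hs, rfl⟩ := ht
    show y⁻¹ * h * (s : G) * (y⁻¹ * h)⁻¹ ∈ N
    rw [show y⁻¹ * h * (s : G) * (y⁻¹ * h)⁻¹ = y⁻¹ * (h * (s : G) * h⁻¹) * y by group]
    exact N.mul_mem (N.mul_mem (N.inv_mem hy)
      (hPN (hhM _ (Subgroup.mem_sup_right ⟨_, ⟨s, hs, rfl⟩, rfl⟩)))) hy
  set L := pResidual p K with hL
  haveI : L.Normal := inferInstance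
  have htop : (⊤ : Subgroup K) ≤ (T : Subgroup K) ⊔ L :=
    Fus.le_of_sylow_of_coprime T ⊤ _ le_top (fun t ht _ => Subgroup.mem_sup_left ht)
      fun k _ hk => Subgroup.mem_sup_right (Subgroup.subset_closure hk)
  obtain ⟨t, ht, l, hl, htl⟩ := Subgroup.mem_sup_of_normal_right.1 (htop (Subgroup.mem_top ⟨_, hcK⟩))
  have hlA : ∀ a ∈ A, Commute (l : G) a := fun a ha => by
    have hle : L ≤ (Subgroup.centralizer ({a} : Set G)).comap K.subtype := by
      refine (Subgroup.closure_le _).2 fun r hrp => ?_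
      show (r : G) ∈ Subgroup.centralizer _
      rw [Subgroup.mem_centralizer_singleton_iff]
      exact (hr r r.2 (by rwa [Subgroup.orderOf_coe]) a ha).eq
    exact Subgroup.mem_centralizer_singleton_iff.1 (hle hl)
  refine ⟨x * t, N.mul_mem hx (hTN t ht), fun a ha => ?_⟩
  have htl' : (t : G) * l = x⁻¹ * g := congrArg Subtype.val htl
  calc x * t * a * (x * t)⁻¹ = x * t * ((l : G) * a * (l : G)⁻¹) * (x * t)⁻¹ := by
        rw [(hlA a ha).eq, mul_inv_cancel_right]
    _ = x * ((t : G) * l) * a * (x * ((t : G) * l))⁻¹ := by group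
    _ = g * a * g⁻¹ := by rw [htl']; group

/-- In a stable group, `G` modulo a normal `p`-subgroup on which it acts as a `p`-group is stable. -/
theorem isNormalizerPStable_quotient_of_eq_sup (h5 : 5 ≤ p) (hst : IsNormalizerPStable p G)
    (P : Sylow p G) (Q : Subgroup G) [Q.Normal] (hQP : Q ≤ (P : Subgroup G))
    (hGP : Subgroup.centralizer (Q : Set G) ⊔ (P : Subgroup G) = ⊤) :
    IsNormalizerPStable p (G ⧸ Q) := by
  classical
  let St : Subgroup G → Prop := fun N => ∃ _ : N.Normal, IsNormalizerPStable p (G ⧸ N)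
  obtain ⟨N₀, ⟨hN₀Q, hN₀n, hN₀s⟩, hmax⟩ := Set.exists_max_image {N : Subgroup G | N ≤ Q ∧ St N}
    (fun N => Nat.card N) (Set.toFinite _)
    ⟨⊥, bot_le, inferInstance, isNormalizerPStable_of_mulEquiv QuotientGroup.quotientBot hst⟩
  haveI := hN₀n
  rcases hN₀Q.lt_or_eq with hlt | rfl
  swap
  · exact hN₀s
  exfalso
  set f := QuotientGroup.mk' N₀ with hf
  have hfs : Function.Surjective f := QuotientGroup.mk'_surjective N₀
  set P' : Sylow p (G ⧸ N₀) := P.mapSurjective hfs with hP'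
  set Q' := Q.map f with hQ'
  haveI : Q'.Normal := Subgroup.Normal.map inferInstance f hfs
  have hQ'P : Q' ≤ (P' : Subgroup (G ⧸ N₀)) := Subgroup.map_mono hQP
  have hQ'1 : Q' ≠ ⊥ := by
    rw [hQ', Ne, Subgroup.map_eq_bot_iff, QuotientGroup.ker_mk']
    exact hlt.not_ge
  haveI : Group.IsNilpotent (P' : Subgroup (G ⧸ N₀)) := P'.isPGroup'.isNilpotent
  haveI : (Q'.subgroupOf (P' : Subgroup (G ⧸ N₀))).Normal := inferInstance
  have hne : Q'.subgroupOf (P' : Subgroup (G ⧸ N₀)) ≠ ⊥ := fun h =>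
    hQ'1 (le_bot_iff.1 fun x hx => by
      have h1 : (⟨x, hQ'P hx⟩ : (P' : Subgroup (G ⧸ N₀))) ∈ Q'.subgroupOf _ := hx
      rw [h, Subgroup.mem_bot] at h1
      exact congrArg Subtype.val h1)
  obtain ⟨z, ⟨hzQ, hzc⟩, hz1⟩ :=
    (Subgroup.bot_or_exists_ne_one _).resolve_left (Grp.inf_center_ne_bot _ hne)
  set Z := Q' ⊓ Subgroup.center (G ⧸ N₀) with hZ
  have hzG : (z : G ⧸ N₀) ∈ Z := by
    refine ⟨hzQ, ?_⟩
    have htop : (⊤ : Subgroup (G ⧸ N₀)) ≤ Subgroup.centralizer {(z : G ⧸ N₀)} := by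
      rw [← Subgroup.map_top_of_surjective f hfs, ← hGP, Subgroup.map_sup]
      refine sup_le ?_ fun w hw => Subgroup.mem_centralizer_singleton_iff.2
        (congrArg Subtype.val (Subgroup.mem_center_iff.1 hzc ⟨w, hw⟩))
      rintro _ ⟨c, hc, rfl⟩
      obtain ⟨q, hq, hqz⟩ : (z : G ⧸ N₀) ∈ Q.map f := hzQ
      rw [Subgroup.mem_centralizer_singleton_iff, ← hqz, ← map_mul, ← map_mul,
        Subgroup.mem_centralizer_iff.1 hc q hq]
    exact Subgroup.mem_center_iff.2 fun w =>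
      Subgroup.mem_centralizer_singleton_iff.1 (htop (Subgroup.mem_top w))
  haveI : Z.Normal := inferInstance
  have hs := CubicStable.isNormalizerPStable_quotient_central h5 hN₀s Z inf_le_right
    (P'.isPGroup'.to_le (inf_le_left.trans hQ'P))
  set M := Z.comap f with hM
  haveI : M.Normal := Subgroup.Normal.comap inferInstance f
  have hNM : N₀ ≤ M := fun w hw => by
    show f w ∈ Z
    rw [show f w = 1 from (QuotientGroup.eq_one_iff w).2 hw]
    exact Z.one_mem
  have hMmap : M.map f = Z := Subgroup.map_comap_eq_self_of_surjective hfs Z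
  have hMQ : M ≤ Q := by
    refine le_trans (Subgroup.comap_mono inf_le_left) ?_
    rw [hQ', Subgroup.comap_map_eq, QuotientGroup.ker_mk']
    exact sup_le le_rfl hN₀Q
  have hMs : IsNormalizerPStable p (G ⧸ M) :=
    isNormalizerPStable_of_mulEquiv ((QuotientGroup.quotientQuotientEquivQuotient N₀ M hNM).symm.trans
      (QuotientGroup.quotientMulEquivOfEq hMmap)) hs
  have hlt' : N₀ < M := by
    refine lt_of_le_of_ne hNM fun h => ?_
    refine hz1 (Subtype.ext ?_)
    have h1 : (z : G ⧸ N₀) ∈ M.map f := hMmap ▸ hzG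
    rw [← h] at h1
    obtain ⟨w, hw, hwz⟩ := h1
    rw [← hwz]
    exact (QuotientGroup.eq_one_iff w).2 hw
  exact absurd (hmax M ⟨hMQ, inferInstance, hMs⟩) (not_le.2 (Fus.card_lt_of_lt hlt'))

/-- For `p ≥ 5` stability gives control of strong fusion by `N(Z(J(P)))`. -/
theorem zjControl_of_stable (h5 : 5 ≤ p) :
    ∀ (X : Type u) [Group X] [Finite X], IsNormalizerPStable p X → ZJControl p X := by
  suffices key : ∀ (n : ℕ) (X : Type u) [Group X] [Finite X], Nat.card X = n →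
      IsNormalizerPStable p X → ZJControl p X from fun X _ _ h => key _ X rfl h
  intro n
  induction n using Nat.strong_induction_on with
  | _ n ih =>
  intro X _ _ hn hst P A hA g hg
  have hodd : p ≠ 2 := by omega
  have hsub : ∀ H : Subgroup X, H ≠ ⊤ → ZJControl p H := fun H hH =>
    ih _ (hn ▸ Grp.card_lt_of_ne_top hH) H rfl (isNormalizerPStable_subgroup hst H)
  set W := centerOmega 0 (P : Subgroup X) with hW
  set Q := pCore p X with hQ
  haveI hQn : Q.Normal := Grp.pCore_isNormal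
  have hQP : Q ≤ (P : Subgroup X) := Grp.pCore_le_sylow P
  rcases eq_or_ne (P : Subgroup X) ⊥ with hP0 | hP0
  · refine ⟨g, ?_, fun _ _ => rfl⟩
    have hW0 : W = ⊥ := le_bot_iff.1 (hP0 ▸ centerOmega_le (P : Subgroup X))
    rw [hW0, Subgroup.normalizer_eq_top]
    exact Subgroup.mem_top g
  by_cases hQ1 : Q = ⊥
  · exact control_of_local_steps P (fun T => centerOmega 0 T) (fun T _ => centerOmega_le T)
      (fun T hT hZ h => by
        have hne : T ≠ ⊥ := by
          intro hT0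
          haveI : Nontrivial (P : Subgroup X) := (Subgroup.nontrivial_iff_ne_bot _).2 hP0
          haveI := P.isPGroup'.center_nontrivial
          obtain ⟨z, hz⟩ := exists_ne (1 : Subgroup.center (P : Subgroup X))
          have h1 := hZ ((z : (P : Subgroup X)) : X) (z : (P : Subgroup X)).2 fun s hs =>
            (congrArg Subtype.val (Subgroup.mem_center_iff.1 z.2 ⟨s, hs⟩)).symm
          rw [hT0, Subgroup.mem_bot] at h1
          exact hz (Subtype.ext (Subtype.ext h1))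
        exact centerOmega_ne_bot (Or.inl rfl) (P.isPGroup'.to_le hT) hne h)
      (fun T _ s hs => normalizer_le_centerOmega T hs.2)
      (fun U hU hU1 g hg A hA hgA => by
        have hH : Subgroup.normalizer (U : Set X) ≠ ⊤ := fun h => hU1 (le_bot_iff.1 (hQ1 ▸
          Grp.le_pCore (Subgroup.normalizer_eq_top_iff.1 h) (P.isPGroup'.to_le hU.1)))
        exact (hsub _ hH).in_subgroup hU.2 hA hg hgA) hA hg
  by_cases hself : (P : Subgroup X) ⊓ Subgroup.centralizer (Q : Set X) ≤ Q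
  · have hT : Grp.IsSylowIn p (P : Subgroup X) ⊤ := ⟨le_top, P.isPGroup', fun hd =>
      P.not_dvd_index (by rwa [Subgroup.relIndex_top_right] at hd)⟩
    let S : Sylow p (⊤ : Subgroup X) := (P.isPGroup'.comap_subtype (K := ⊤)).toSylow fun hd =>
      P.not_dvd_index (hd.trans (Subgroup.relIndex_dvd_index_of_le le_top))
    obtain ⟨m, -, hm, he⟩ := local_step_in hodd (Or.inl rfl)
      (centralizer_pCore_quotient_of_selfCentralizing S (Q.subgroupOf ⊤) (fun x hx => hQP hx)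
        fun x hx => hself ⟨hx.1, Subgroup.mem_centralizer_iff.2 fun q hq =>
          congrArg Subtype.val (Subgroup.mem_centralizer_iff.1 hx.2 ⟨q, Subgroup.mem_top q⟩ hq)⟩)
      (fun V _ hV => isPStableOn_quotient hst ⊤ _ Grp.pPrimeCore_coprime V hV) hT le_rfl
      (fun _ _ _ _ h => h) hA (Subgroup.mem_top g) hg
    exact ⟨m, hm, he⟩
  set C := Subgroup.centralizer (Q : Set X) with hC
  haveI hCn : C.Normal := inferInstance
  set R := (P : Subgroup X) ⊓ (C ⊔ Q) with hR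
  haveI : (C ⊔ Q).Normal := inferInstance
  have hPR : (P : Subgroup X) ≤ Subgroup.normalizer (R : Set X) := fun s hs =>
    mem_normalizer_of_forall_mem fun w hw =>
      ⟨(P : Subgroup X).mul_mem ((P : Subgroup X).mul_mem hs hw.1) ((P : Subgroup X).inv_mem hs),
        Subgroup.Normal.conj_mem inferInstance w hw.2 s⟩
  have hRtop : Subgroup.normalizer (R : Set X) ≠ ⊤ := fun h => hself fun w hw =>
    Grp.le_pCore (Subgroup.normalizer_eq_top_iff.1 h) (P.isPGroup'.to_le inf_le_left)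
      ⟨hw.1, Subgroup.mem_sup_left hw.2⟩
  have hdec : ∀ g : X, ∃ m ∈ Subgroup.normalizer (R : Set X), ∃ c ∈ C, g = m * c := by
    intro g
    obtain ⟨-, T, hT⟩ := Fus.isSylowOf_inf_normal P (C ⊔ Q)
    have h1 : Subgroup.normalizer (R : Set X) ⊔ (C ⊔ Q) = ⊤ := by
      have hRT : (T : Subgroup ↥(C ⊔ Q)).map (C ⊔ Q).subtype = R := by
        rw [hT, Subgroup.subgroupOf_map_subtype, inf_eq_left.2 (inf_le_right : R ≤ C ⊔ Q)]
      rw [← hRT]
      exact Sylow.normalizer_sup_eq_top T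
    have h2 : Subgroup.normalizer (R : Set X) ⊔ C = ⊤ := top_le_iff.1 (h1 ▸ sup_le le_sup_left
      (sup_le le_sup_right (((le_inf hQP le_sup_right : Q ≤ R).trans Subgroup.le_normalizer).trans
        le_sup_left)))
    obtain ⟨m, hm, c, hc, e⟩ := Subgroup.mem_sup_of_normal_right.1
      (show g ∈ Subgroup.normalizer (R : Set X) ⊔ C by rw [h2]; exact Subgroup.mem_top g)
    exact ⟨m, hm, c, hc, e.symm⟩
  have hover : ∀ {H : Subgroup X}, (P : Subgroup X) ≤ H → H ≠ ⊤ → ∀ (B : Set X),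
      B ⊆ (P : Subgroup X) → ∀ y ∈ H, (∀ b ∈ B, y * b * y⁻¹ ∈ (P : Subgroup X)) →
      ∃ x ∈ Subgroup.normalizer (W : Set X), ∀ b ∈ B, x * b * x⁻¹ = y * b * y⁻¹ :=
    fun {H} hPH hH B hB y hy hyB => by
      obtain ⟨m, -, hm, e⟩ := (hsub H hH).in_subgroup
        ⟨hPH, P.isPGroup', fun hd => P.not_dvd_index
          (hd.trans (Subgroup.relIndex_dvd_index_of_le hPH))⟩ hB hy hyB
      exact ⟨m, hm, e⟩
  by_cases hG₂ : C ⊔ (P : Subgroup X) = ⊤
  · -- all elements of order prime to `p` centralize `Q`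
    have hQs := isNormalizerPStable_quotient_of_eq_sup h5 hst P Q hQP hG₂
    set f := QuotientGroup.mk' Q with hf
    have hfs : Function.Surjective f := QuotientGroup.mk'_surjective Q
    have hQlt : Nat.card (X ⧸ Q) < n := hn ▸ Grp.card_quotient_lt hQ1
    set P' : Sylow p (X ⧸ Q) := P.mapSurjective hfs with hP'
    set V := (centerOmega 0 (P' : Subgroup (X ⧸ Q))).comap f with hV
    have hVn : Subgroup.normalizer (V : Set X) =
        (Subgroup.normalizer (centerOmega 0 (P' : Subgroup (X ⧸ Q)) : Set (X ⧸ Q))).comap f :=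
      (Subgroup.comap_normalizer_eq_of_surjective _ hfs).symm
    have hPV : (P : Subgroup X) ≤ Subgroup.normalizer (V : Set X) := fun s hs => by
      rw [hVn]
      exact normalizer_le_centerOmega _ (Subgroup.le_normalizer ⟨s, hs, rfl⟩)
    have hVtop : Subgroup.normalizer (V : Set X) ≠ ⊤ := fun h => by
      have hVP : V ≤ (P : Subgroup X) := by
        refine le_trans (Subgroup.comap_mono (centerOmega_le _)) ?_
        show ((P : Subgroup X).map f).comap f ≤ _
        rw [Subgroup.comap_map_eq, QuotientGroup.ker_mk']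
        exact sup_le le_rfl hQP
      have hVQ : V ≤ Q :=
        Grp.le_pCore (Subgroup.normalizer_eq_top_iff.1 h) (P.isPGroup'.to_le hVP)
      have hP'1 : (P' : Subgroup (X ⧸ Q)) ≠ ⊥ := fun h1 => hself fun w hw =>
        (QuotientGroup.eq_one_iff w).1 (Subgroup.mem_bot.1 (h1 ▸ ⟨w, hw.1, rfl⟩))
      refine centerOmega_ne_bot (Or.inl rfl) P'.isPGroup' hP'1 (le_bot_iff.1 fun y hy => ?_)
      obtain ⟨w, rfl⟩ := hfs y
      exact Subgroup.mem_bot.2 ((QuotientGroup.eq_one_iff w).2 (hVQ hy))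
    have hQc : ∀ r : X, (orderOf r).Coprime p → ∀ q ∈ Q, Commute r q := by
      intro r hr q hq
      let π := QuotientGroup.mk' C
      have hXp : IsPGroup p (X ⧸ C) := by
        have h1 : (P : Subgroup X).map π = ⊤ := by
          rw [← Subgroup.map_top_of_surjective π (QuotientGroup.mk'_surjective C), ← hG₂,
            Subgroup.map_sup, (Subgroup.map_eq_bot_iff _).2 (QuotientGroup.ker_mk' C).ge, bot_sup_eq]
        exact (h1 ▸ P.isPGroup'.map π).of_equiv Subgroup.topEquiv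
      obtain ⟨k, hk⟩ := hXp (π r)
      have hk' : r ^ p ^ k ∈ C := (QuotientGroup.eq_one_iff _).1 (by rw [QuotientGroup.mk_pow]; exact hk)
      obtain ⟨j, hj⟩ := exists_pow_eq_self_of_coprime (hr.symm.pow_left k)
      have h2 := (show Commute (r ^ p ^ k) q from
        (Subgroup.mem_centralizer_iff.1 hk' q hq).symm).pow_left j
      rwa [hj] at h2
    obtain ⟨x, hx, hxe⟩ := control_lift P hQP hQc (N := Subgroup.normalizer (V : Set X)) hPV
      (fun B hB y hy => by
        obtain ⟨xb, hxb, he⟩ := ih _ hQlt (X ⧸ Q) rfl hQs P' (f '' B)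
          (by rintro _ ⟨b, hb, rfl⟩; exact ⟨b, hB hb, rfl⟩) (f y)
          (by rintro _ ⟨b, hb, rfl⟩; exact ⟨_, hy b hb, by simp⟩)
        obtain ⟨x, rfl⟩ := hfs xb
        refine ⟨x, by rw [hVn]; exact hxb, fun b hb => QuotientGroup.eq.1 ?_⟩
        show f (x * b * x⁻¹) = f (y * b * y⁻¹)
        rw [map_mul, map_mul, map_mul, map_mul, map_inv, map_inv]
        exact he _ ⟨b, hb, rfl⟩) hA hg
    obtain ⟨m, hm, hme⟩ := hover hPV hVtop A hA x hx fun a ha => by rw [hxe a ha]; exact hg a ha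
    exact ⟨m, hm, fun a ha => (hme a ha).trans (hxe a ha)⟩
  · obtain ⟨m, hm, c, hc, rfl⟩ := hdec g
    set G₂ := C ⊔ (P : Subgroup X) with hG₂d
    set K := G₂ ⊓ Subgroup.normalizer (R : Set X) with hK
    have hPK : (P : Subgroup X) ≤ K := le_inf le_sup_right hPR
    have hcA : (Subgroup.closure A).map (MulAut.conj c).toMonoidHom ≤ K := closure_conj_le fun a ha =>
      ⟨G₂.mul_mem (G₂.mul_mem (Subgroup.mem_sup_left hc) (Subgroup.mem_sup_right (hA ha)))
        (G₂.inv_mem (Subgroup.mem_sup_left hc)), by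
        rw [show c * a * c⁻¹ = m⁻¹ * (m * c * a * (m * c)⁻¹) * m by group]
        exact (Subgroup.normalizer (R : Set X)).mul_mem ((Subgroup.normalizer (R : Set X)).mul_mem
          ((Subgroup.normalizer (R : Set X)).inv_mem hm) (hPR (hg a ha))) hm⟩
    obtain ⟨k, hk, hkA⟩ := exists_conj_into
      (show Grp.IsSylowIn p (P : Subgroup X) K from ⟨hPK, P.isPGroup', fun hd =>
        P.not_dvd_index (hd.trans (Subgroup.relIndex_dvd_index_of_le hPK))⟩) hcA
      ((P.isPGroup'.to_le ((Subgroup.closure_le _).2 hA)).map _)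
    have hkc : ∀ a ∈ A, k * c * a * (k * c)⁻¹ ∈ (P : Subgroup X) := fun a ha => by
      rw [show k * c * a * (k * c)⁻¹ = k * (c * a * c⁻¹) * k⁻¹ by group]
      exact hkA _ ⟨a, Subgroup.subset_closure ha, rfl⟩
    obtain ⟨x₁, hx₁, e₁⟩ := hover (H := G₂) le_sup_right hG₂ A hA (k * c)
      (G₂.mul_mem hk.1 (Subgroup.mem_sup_left hc)) hkc
    obtain ⟨x₂, hx₂, e₂⟩ := hover hPR hRtop ((fun a => k * c * a * (k * c)⁻¹) '' A)
      (by rintro _ ⟨a, ha, rfl⟩; exact hkc a ha) (m * k⁻¹) (mul_mem hm (inv_mem hk.2))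
      (by
        rintro _ ⟨a, ha, rfl⟩
        rw [show m * k⁻¹ * (k * c * a * (k * c)⁻¹) * (m * k⁻¹)⁻¹ = m * c * a * (m * c)⁻¹ by group]
        exact hg a ha)
    refine ⟨x₂ * x₁, mul_mem hx₂ hx₁, fun a ha => ?_⟩
    calc x₂ * x₁ * a * (x₂ * x₁)⁻¹ = x₂ * (x₁ * a * x₁⁻¹) * x₂⁻¹ := by group
      _ = m * k⁻¹ * (k * c * a * (k * c)⁻¹) * (m * k⁻¹)⁻¹ := by rw [e₁ a ha]; exact e₂ _ ⟨a, ha, rfl⟩
      _ = m * c * a * (m * c)⁻¹ := by group

end Cfsg.Agent.Invol
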