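import Cfsg.Prelude
import Cfsg.Agent.Lib.Classical.SLGroup

/-!
# The centralizer of an involution in `PSL(3, F)`, `F` of odd order
-/

set_option autoImplicit false

namespace Cfsg.Agent.Invol.Psl3C

open Matrix

variable {F : Type*} [Field F]

local notation "S3" => Matrix.SpecialLinearGroup (Fin 3) F
local notation "G2" => GL (Fin 2) F

/-- `diag(-1, -1, 1)`. -/
def dInv : S3 := ⟨Matrix.diagonal ![-1, -1, 1], by simp [Matrix.det_diagonal, Fin.prod_univ_three]⟩

/-- The block embedding of `GL(2, F)`. -/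
def blkHom : G2 →* S3 where
  toFun A := ⟨!![(A : Matrix (Fin 2) (Fin 2) F) 0 0, (A : Matrix (Fin 2) (Fin 2) F) 0 1, 0;
      (A : Matrix (Fin 2) (Fin 2) F) 1 0, (A : Matrix (Fin 2) (Fin 2) F) 1 1, 0;
      0, 0, ((A : Matrix (Fin 2) (Fin 2) F).det)⁻¹], by
    have h : (A : Matrix (Fin 2) (Fin 2) F).det ≠ 0 :=
      (Matrix.isUnit_iff_isUnit_det _ |>.mp A.isUnit).ne_zero
    rw [Matrix.det_fin_three]
    simp
    rw [Matrix.det_fin_two] at h ⊢
    linear_combination mul_inv_cancel₀ h⟩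
  map_one' := Subtype.ext (Matrix.ext fun i j => by fin_cases i <;> fin_cases j <;> simp)
  map_mul' A B := Subtype.ext (by
    show _ = (!![(A : Matrix (Fin 2) (Fin 2) F) 0 0, (A : Matrix (Fin 2) (Fin 2) F) 0 1, 0;
      (A : Matrix (Fin 2) (Fin 2) F) 1 0, (A : Matrix (Fin 2) (Fin 2) F) 1 1, 0;
      0, 0, ((A : Matrix (Fin 2) (Fin 2) F).det)⁻¹] : Matrix (Fin 3) (Fin 3) F) *
      !![(B : Matrix (Fin 2) (Fin 2) F) 0 0, (B : Matrix (Fin 2) (Fin 2) F) 0 1, 0;
      (B : Matrix (Fin 2) (Fin 2) F) 1 0, (B : Matrix (Fin 2) (Fin 2) F) 1 1, 0;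
      0, 0, ((B : Matrix (Fin 2) (Fin 2) F).det)⁻¹]
    simp only [Units.val_mul, Matrix.det_mul, _root_.mul_inv_rev]
    ext i j
    fin_cases i <;> fin_cases j <;> simp [Matrix.mul_apply, Fin.sum_univ_two, Fin.sum_univ_three, mul_comm])

theorem blkHom_injective : Function.Injective (blkHom : G2 → S3) := by
  intro A B h
  have e : ∀ i j, (blkHom A : S3).1 i j = (blkHom B : S3).1 i j := fun i j => by rw [h]
  refine Units.ext (Matrix.ext fun i j => ?_)
  fin_cases i <;> fin_cases j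
  · exact e 0 0
  · exact e 0 1
  · exact e 1 0
  · exact e 1 1

theorem coe_blkHom (A : G2) : ((blkHom A : S3) : Matrix (Fin 3) (Fin 3) F) =
    !![(A : Matrix (Fin 2) (Fin 2) F) 0 0, (A : Matrix (Fin 2) (Fin 2) F) 0 1, 0;
      (A : Matrix (Fin 2) (Fin 2) F) 1 0, (A : Matrix (Fin 2) (Fin 2) F) 1 1, 0;
      0, 0, ((A : Matrix (Fin 2) (Fin 2) F).det)⁻¹] := rfl

theorem blk_commute (A : G2) : blkHom A * dInv = dInv * blkHom A := by
  refine Subtype.ext ?_
  show ((blkHom A : S3) : Matrix (Fin 3) (Fin 3) F) * Matrix.diagonal ![-1, -1, 1] =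
    Matrix.diagonal ![-1, -1, 1] * ((blkHom A : S3) : Matrix (Fin 3) (Fin 3) F)
  rw [coe_blkHom]
  ext i j
  rw [Matrix.mul_diagonal, Matrix.diagonal_mul]
  fin_cases i <;> fin_cases j <;> simp

theorem exists_blk_of_commute (h2 : (2 : F) ≠ 0) {g : S3} (hg : g * dInv = dInv * g) :
    ∃ A : G2, blkHom A = g := by
  have e : ∀ i j, (g : Matrix (Fin 3) (Fin 3) F) i j * ![(-1 : F), -1, 1] j =
      ![(-1 : F), -1, 1] i * (g : Matrix (Fin 3) (Fin 3) F) i j := fun i j => by
    have h1 : (g : Matrix (Fin 3) (Fin 3) F) * Matrix.diagonal ![-1, -1, 1] =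
        Matrix.diagonal ![-1, -1, 1] * (g : Matrix (Fin 3) (Fin 3) F) := congrArg Subtype.val hg
    have := congrFun (congrFun h1 i) j
    rwa [Matrix.mul_diagonal, Matrix.diagonal_mul] at this
  have z : ∀ x : F, x = -x → x = 0 := fun x hx =>
    (mul_eq_zero.1 (show 2 * x = 0 by linear_combination hx)).resolve_left h2
  have e02 : (g : Matrix (Fin 3) (Fin 3) F) 0 2 = 0 := z _ (by simpa using e 0 2)
  have e12 : (g : Matrix (Fin 3) (Fin 3) F) 1 2 = 0 := z _ (by simpa using e 1 2)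
  have e20 : (g : Matrix (Fin 3) (Fin 3) F) 2 0 = 0 := z _ (by simpa using (e 2 0).symm)
  have e21 : (g : Matrix (Fin 3) (Fin 3) F) 2 1 = 0 := z _ (by simpa using (e 2 1).symm)
  have hd := g.2
  rw [Matrix.det_fin_three, e02, e12, e20, e21] at hd
  set M : Matrix (Fin 2) (Fin 2) F := !![(g : Matrix (Fin 3) (Fin 3) F) 0 0, (g : Matrix (Fin 3) (Fin 3) F) 0 1;
    (g : Matrix (Fin 3) (Fin 3) F) 1 0, (g : Matrix (Fin 3) (Fin 3) F) 1 1] with hM
  have hdM : M.det * (g : Matrix (Fin 3) (Fin 3) F) 2 2 = 1 := by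
    rw [hM, Matrix.det_fin_two_of]
    linear_combination hd
  refine ⟨GeneralLinearGroup.mkOfDetNeZero M (left_ne_zero_of_mul_eq_one hdM), Subtype.ext ?_⟩
  ext i j
  fin_cases i <;> fin_cases j
  · rfl
  · rfl
  · exact e02.symm
  · rfl
  · rfl
  · exact e12.symm
  · exact e20.symm
  · exact e21.symm
  · exact (eq_inv_of_mul_eq_one_right hdM).symm

theorem exists_eigen_basis (h2 : (2 : F) ≠ 0) (f : (Fin 3 → F) →ₗ[F] (Fin 3 → F)) (hf : ∀ v, f (f v) = v) :
    ∃ (b : Module.Basis (Fin 3) F (Fin 3 → F)) (ε : Fin 3 → F),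
      (∀ i, ε i = 1 ∨ ε i = -1) ∧ ∀ i, f (b i) = ε i • b i := by
  let U : Submodule F (Fin 3 → F) := LinearMap.ker (f - LinearMap.id)
  let W : Submodule F (Fin 3 → F) := LinearMap.ker (f + LinearMap.id)
  have hU : ∀ {v}, v ∈ U → f v = v := fun {v} h => sub_eq_zero.mp (LinearMap.mem_ker.mp h)
  have hW : ∀ {v}, v ∈ W → f v = -v := fun {v} h => eq_neg_of_add_eq_zero_left (LinearMap.mem_ker.mp h)
  have hc : IsCompl U W := by
    refine ⟨Submodule.disjoint_def.mpr fun v hu hw => ?_, codisjoint_iff.mpr (eq_top_iff.mpr fun v _ => ?_)⟩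
    · have h1 : v = -v := (hU hu).symm.trans (hW hw)
      have h3 : (2 : F) • v = 0 := by rw [two_smul]; nth_rewrite 2 [h1]; exact add_neg_cancel v
      exact (smul_eq_zero.mp h3).resolve_left h2
    · have e : v = (2 : F)⁻¹ • (v + f v) + (2 : F)⁻¹ • (v - f v) := by
        rw [← smul_add, show v + f v + (v - f v) = (2 : F) • v by rw [two_smul]; abel, inv_smul_smul₀ h2]
      rw [e]
      refine Submodule.add_mem_sup (Submodule.smul_mem _ _ (LinearMap.mem_ker.mpr ?_))
        (Submodule.smul_mem _ _ (LinearMap.mem_ker.mpr ?_))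
      · simp [map_add, hf, add_comm]
      · simp [map_sub, hf]; abel
  let b₀ := ((Module.finBasis F U).prod (Module.finBasis F W)).map (Submodule.prodEquivOfIsCompl U W hc)
  have hcard : Fintype.card (Fin (Module.finrank F U) ⊕ Fin (Module.finrank F W)) = 3 := by
    rw [← Module.finrank_eq_card_basis b₀, Module.finrank_fin_fun]
  let e := Fintype.equivFinOfCardEq hcard
  refine ⟨b₀.reindex e, fun i => Sum.elim (fun _ => 1) (fun _ => -1) (e.symm i), fun i => ?_, fun i => ?_⟩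
  · beta_reduce
    cases h : e.symm i with
    | inl a => left; rfl
    | inr a => right; rfl
  · rw [Module.Basis.reindex_apply]
    cases h : e.symm i with
    | inl a =>
      have h1 : b₀ (Sum.inl a) = ((Module.finBasis F U a : U) : Fin 3 → F) := by simp [b₀]
      rw [h1, hU (Module.finBasis F U a).2]
      show _ = Sum.elim (fun _ => (1 : F)) (fun _ => -1) (e.symm i) • _
      simp_all
    | inr a =>
      have h1 : b₀ (Sum.inr a) = ((Module.finBasis F W a : W) : Fin 3 → F) := by simp [b₀]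
      rw [h1, hW (Module.finBasis F W a).2]
      show _ = Sum.elim (fun _ => (1 : F)) (fun _ => -1) (e.symm i) • _
      simp_all

theorem exists_conj_dInv (h2 : (2 : F) ≠ 0) {s : S3} (hs : s * s = 1) (hs1 : s ≠ 1) :
    ∃ P : S3, s * P = P * dInv := by
  classical
  have hf : ∀ v, Matrix.toLin' (s : Matrix (Fin 3) (Fin 3) F) (Matrix.toLin' (s : Matrix (Fin 3) (Fin 3) F) v) = v := by
    intro v
    rw [Matrix.toLin'_apply, Matrix.toLin'_apply, Matrix.mulVec_mulVec, ← Matrix.SpecialLinearGroup.coe_mul, hs,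
      Matrix.SpecialLinearGroup.coe_one, Matrix.one_mulVec]
  obtain ⟨b, ε, hε, hb⟩ := exists_eigen_basis h2 _ hf
  set Q : Matrix (Fin 3) (Fin 3) F := Matrix.of fun i j => b j i with hQ
  have hQd : Q.det ≠ 0 := by
    have h := (Pi.basisFun F (Fin 3)).isUnit_det b
    rw [Module.Basis.det_apply] at h
    have e : (Pi.basisFun F (Fin 3)).toMatrix ⇑b = Q := by ext i j; simp [Module.Basis.toMatrix_apply, hQ]
    rw [e] at h
    exact h.ne_zero
  have hsQ : (s : Matrix (Fin 3) (Fin 3) F) * Q = Q * Matrix.diagonal ε := by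
    ext i j
    rw [Matrix.mul_diagonal]
    have := congrFun (hb j) i
    rw [Matrix.toLin'_apply] at this
    simp only [Matrix.mulVec, dotProduct, Pi.smul_apply, smul_eq_mul] at this
    rw [Matrix.mul_apply, hQ]
    simp only [Matrix.of_apply]
    rw [this, mul_comm]
  have hprod : ε 0 * ε 1 * ε 2 = 1 := by
    have h1 := congrArg Matrix.det hsQ
    rw [Matrix.det_mul, Matrix.det_mul, s.2, one_mul, Matrix.det_diagonal, Fin.prod_univ_three] at h1
    exact (mul_eq_left₀ hQd).mp h1.symm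
  obtain ⟨σ, hσ⟩ : ∃ σ : Equiv.Perm (Fin 3), ∀ i, ε (σ i) = ![(-1 : F), -1, 1] i := by
    have hne : (-1 : F) ≠ 1 := fun h => h2 (by linear_combination -h)
    rcases hε 0 with h0 | h0 <;> rcases hε 1 with h1 | h1 <;> rcases hε 2 with h3 | h3 <;>
      rw [h0, h1, h3] at hprod <;> norm_num at hprod
    all_goals try exact absurd hprod hne
    · exfalso
      refine hs1 (Subtype.ext ?_)
      have he : ε = fun _ => 1 := by ext i; fin_cases i <;> assumption
      rw [he, Matrix.diagonal_one, mul_one] at hsQ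
      rw [Matrix.SpecialLinearGroup.coe_one]
      have hu : IsUnit Q.det := isUnit_iff_ne_zero.mpr hQd
      haveI := Matrix.invertibleOfIsUnitDet Q hu
      exact Matrix.mul_left_injective_of_invertible Q (by simpa using hsQ)
    · exact ⟨Equiv.swap 0 2, fun i => by fin_cases i <;> simp [Equiv.swap_apply_def, h0, h1, h3]⟩
    · exact ⟨Equiv.swap 1 2, fun i => by fin_cases i <;> simp [Equiv.swap_apply_def, h0, h1, h3]⟩
    · exact ⟨1, fun i => by fin_cases i <;> simp [h0, h1, h3]⟩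
  set Q' : Matrix (Fin 3) (Fin 3) F := Q.submatrix id σ with hQ'
  have hQ'd : Q'.det ≠ 0 := by
    rw [hQ', Matrix.det_permute']
    exact mul_ne_zero (by exact_mod_cast (Equiv.Perm.sign σ : ℤˣ).isUnit.map (Int.castRingHom F) |>.ne_zero) hQd
  have hsQ' : (s : Matrix (Fin 3) (Fin 3) F) * Q' = Q' * Matrix.diagonal ![-1, -1, 1] := by
    ext i j
    rw [Matrix.mul_diagonal, ← hσ]
    have := congrFun (congrFun hsQ i) (σ j)
    rw [Matrix.mul_diagonal] at this
    exact this
  refine ⟨⟨Q' * Matrix.diagonal ![1, 1, Q'.det⁻¹], by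
    rw [Matrix.det_mul, Matrix.det_diagonal, Fin.prod_univ_three]; simp [hQ'd]⟩, Subtype.ext ?_⟩
  show (s : Matrix (Fin 3) (Fin 3) F) * (Q' * _) = Q' * _ * Matrix.diagonal ![-1, -1, 1]
  rw [← Matrix.mul_assoc, hsQ', Matrix.mul_assoc, Matrix.mul_assoc, Matrix.diagonal_mul_diagonal,
    Matrix.diagonal_mul_diagonal]
  congr 2
  ext i
  ring

end Cfsg.Agent.Invol.Psl3C
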