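import Mathlib
import Cfsg.Agent.Lib.Invol.SL2FpfModule
import Cfsg.Prelude.Def_Transfer

/-!
# Normal 2-subgroups with quotient `SL(2, 2ⁿ)` and a fixed-point-free element of order three
-/

set_option autoImplicit false
set_option linter.unusedSectionVars false
set_option linter.style.haveILetI false

namespace Cfsg.Agent.Invol.SL2Fpf

open Matrix

universe u v

local notation "SL" K => Matrix.SpecialLinearGroup (Fin 2) K

variable {K : Type v} [Field K] [CharP K 2] [Fintype K]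

theorem tr_eq_one_of_cube {g : SL K} (h : g * g * g = 1) (hg : g ≠ 1) : tr g = 1 := by
  have h2 := two_eq_zero' (K := K)
  have hdet := g.2
  rw [Matrix.det_fin_two] at hdet
  unfold tr
  set a := g.1 0 0 with ha
  set b := g.1 0 1 with hb
  set c := g.1 1 0 with hc
  set d := g.1 1 1 with hd
  have hM : (g.1 : Matrix (Fin 2) (Fin 2) K) = !![a, b; c, d] := Matrix.eta_fin_two g.1
  have h' := congrArg (fun M : SL K => (M : Matrix (Fin 2) (Fin 2) K)) h
  simp only [Matrix.SpecialLinearGroup.coe_mul, hM, Matrix.mul_fin_two, Matrix.SpecialLinearGroup.coe_one,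
    Matrix.one_fin_two] at h'
  have e00 := congrFun (congrFun h' 0) 0
  have e01 := congrFun (congrFun h' 0) 1
  have e10 := congrFun (congrFun h' 1) 0
  have e11 := congrFun (congrFun h' 1) 1
  simp at e00 e01 e10 e11
  by_contra ht
  have hne : (a + d) ^ 2 - 1 ≠ 0 := by
    intro h0
    exact ht (CharTwo.sq_inj.mp (show (a + d) ^ 2 = 1 ^ 2 by linear_combination h0))
  have hb0 : b = 0 := (mul_eq_zero.mp (show ((a + d) ^ 2 - 1) * b = 0 by
    linear_combination e01 + b * hdet)).resolve_left hne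
  have hc0 : c = 0 := (mul_eq_zero.mp (show ((a + d) ^ 2 - 1) * c = 0 by
    linear_combination e10 + c * hdet)).resolve_left hne
  have had : a - d = 0 := (mul_eq_zero.mp (show ((a + d) ^ 2 - 1) * (a - d) = 0 by
    linear_combination e00 - e11 + (a - d) * hdet)).resolve_left hne
  rw [hb0, zero_mul, sub_zero] at hdet
  have ha1 : a = 1 := CharTwo.sq_inj.mp (show a ^ 2 = 1 ^ 2 by linear_combination hdet + a * had)
  apply hg
  apply Subtype.ext
  rw [hM, hb0, hc0, ← sub_eq_zero.mp had, ha1]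
  exact Matrix.one_fin_two.symm

/-- The companion matrix of `X² + X + 1`. -/
def comp3 : SL K := m2 0 1 1 1 (by linear_combination -two_eq_zero' (K := K))

theorem conj_comp_aux {g : SL K} (hg : tr g = 1) (hc : g.1 1 0 ≠ 0) : ∃ P : SL K, g = P * comp3 * P⁻¹ := by
  have hdet := g.2
  rw [Matrix.det_fin_two] at hdet
  unfold tr at hg
  set a := g.1 0 0
  set b := g.1 0 1
  set c := g.1 1 0
  set d := g.1 1 1
  obtain ⟨s, hs⟩ := FiniteField.isSquare_of_char_two (ringChar.eq K 2) c⁻¹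
  have hs' : s * (s * c) = 1 := by rw [← mul_assoc, ← hs, inv_mul_cancel₀ hc]
  refine ⟨m2 s (s * a) 0 (s * c) (by rw [mul_zero, sub_zero, hs']), ?_⟩
  rw [eq_mul_inv_iff_mul_eq]
  apply Subtype.ext
  have hM : (g.1 : Matrix (Fin 2) (Fin 2) K) = !![a, b; c, d] := Matrix.eta_fin_two g.1
  have h2 := two_eq_zero' (K := K)
  simp only [Matrix.SpecialLinearGroup.coe_mul, comp3, coe_m2, hM, Matrix.mul_fin_two]
  ext i j
  fin_cases i <;> fin_cases j <;> simp <;>
    first | ring1 | linear_combination (s * c) * hg | linear_combination (s * a) * hg - s * hdet - s * h2 | linear_combination (-s) * hdet + (s * a) * hg + (-s) * h2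

theorem conj_comp {g : SL K} (hg : tr g = 1) : ∃ P : SL K, g = P * comp3 * P⁻¹ := by
  by_cases hc : g.1 1 0 = 0
  swap
  · exact conj_comp_aux hg hc
  have h2 := two_eq_zero' (K := K)
  have key : ∀ h : SL K, h * h = 1 → tr (h * g * h) = 1 → (h * g * h).1 1 0 ≠ 0 →
      ∃ P : SL K, g = P * comp3 * P⁻¹ := by
    intro h hh htr hne
    obtain ⟨P, hP⟩ := conj_comp_aux htr hne
    refine ⟨h * P, ?_⟩
    rw [_root_.mul_inv_rev, show h * P * comp3 * (P⁻¹ * h⁻¹) = h * (P * comp3 * P⁻¹) * h⁻¹ by group, ← hP,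
      inv_eq_of_mul_eq_one_right hh, show h * (h * g * h) * h = h * h * g * (h * h) by group, hh, one_mul, mul_one]
  unfold tr at hg
  by_cases hb : g.1 0 1 = 1
  · refine key (wI (1 : Kˣ)) (wI_sq _) ?_ ?_
    · simp [tr, wI, Matrix.mul_apply, Matrix.vecMul, dotProduct, Fin.sum_univ_two]
      linear_combination hg
    · simp [wI, Matrix.mul_apply, Matrix.vecMul, dotProduct, Fin.sum_univ_two, hb]
  · refine key (lo (1 : K)) (lo_sq _) ?_ ?_
    · simp [tr, lo, Matrix.mul_apply, Matrix.vecMul, dotProduct, Fin.sum_univ_two]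
      linear_combination hg + (g.1 0 1) * h2
    · simp [lo, Matrix.mul_apply, Matrix.vecMul, dotProduct, Fin.sum_univ_two, hc]
      intro h0
      exact hb (by linear_combination h0 - hg - h2)

/-- A biadditive alternating equivariant map vanishing on pairs `(v, g v)`, `tr g = 1`, is zero. -/
theorem biadd_eq_zero {V W : Type*} [AddCommGroup V] [AddCommGroup W] {ρ : (SL K) →* AddMonoid.End V}
    {σ : (SL K) →* AddMonoid.End W} (HV : Hyp ρ) (HW : Hyp σ) (hK : 4 ≤ Fintype.card K) (f : V →+ V →+ W)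
    (heq : ∀ g a b, f (ρ g a) (ρ g b) = σ g (f a b)) (halt : ∀ a, f a a = 0)
    (hg : ∀ g, tr g = 1 → ∀ a, f a (ρ g a) = 0) : ∀ a b, f a b = 0 := by
  have hswap : ∀ a b, f a b = f b a := fun a b => by
    have h := halt (a + b)
    simp only [map_add, AddMonoidHom.add_apply, halt, zero_add, add_zero] at h
    rw [eq_neg_of_add_eq_zero_left h, HW.neg_eq]
  set w := wI (1 : Kˣ)
  have hvw : ∀ a ∈ Z ρ, ∀ c, f a (ρ w (sm ρ c a)) = 0 := by
    intro a ha c
    rcases eq_or_ne c 0 with rfl | hc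
    · rw [sm_zero, map_zero, map_zero]
    have h := hg _ (tr_up_lo (Units.mk0 c hc)⁻¹) a
    have e : ρ (up ((((Units.mk0 c hc)⁻¹ : Kˣ)) : K) * lo ((((Units.mk0 c hc)⁻¹)⁻¹ : Kˣ) : K)) a =
        ρ w (sm ρ c a) := by
      calc _ = ρ (up ((((Units.mk0 c hc)⁻¹ : Kˣ)) : K) * lo ((((Units.mk0 c hc)⁻¹)⁻¹ : Kˣ) : K))
            (ρ (up ((((Units.mk0 c hc)⁻¹ : Kˣ)) : K)) a) := by rw [ha]
        _ = _ := by rw [act_mul, up_lo_up, wI_sm, inv_inv, Units.val_mk0]
    rwa [e] at h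
  have hpol : ∀ a ∈ Z ρ, ∀ b ∈ Z ρ, ∀ c, f a (ρ w (sm ρ c b)) = f b (ρ w (sm ρ c a)) := by
    intro a ha b hb c
    have h := hvw _ (add_mem ha hb) c
    simp only [sm_add_right, map_add, AddMonoidHom.add_apply, hvw a ha, hvw b hb, zero_add, add_zero] at h
    rw [eq_neg_of_add_eq_zero_right h, HW.neg_eq]
  obtain ⟨lam, hl0, hl1⟩ : ∃ lam : K, lam ≠ 0 ∧ lam ≠ 1 := by
    classical
    have hcard : ({0, 1} : Finset K).card < Fintype.card K := lt_of_le_of_lt Finset.card_le_two (by omega)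
    obtain ⟨lam, -, h⟩ := Finset.exists_mem_notMem_of_card_lt_card (t := Finset.univ) hcard
    simp only [Finset.mem_insert, Finset.mem_singleton, not_or] at h
    exact ⟨lam, h⟩
  set L := Units.mk0 lam hl0
  have hzw : ∀ a ∈ Z ρ, ∀ b ∈ Z ρ, f a (ρ w b) = 0 := by
    intro a ha b hb
    set x := f a (ρ w b) with hx
    have hfix : σ (dg L) x = x := by
      have e : ρ (dg L) (ρ w b) = ρ w (sm ρ lam⁻¹ b) := by
        rw [← wI_wI, act_mul, mul_assoc, wI_sq, mul_one, wI_sm, Units.val_inv_eq_inv_val, Units.val_mk0]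
      rw [hx, ← heq, e, ← sm_units, Units.val_mk0, hpol _ (sm_mem ha) _ hb, ← sm_mul, inv_mul_cancel₀ hl0, sm_one]
      have := hpol b hb a ha 1
      rwa [sm_one, sm_one] at this
    obtain ⟨p, hp, q, hq, hpq⟩ := HW.span_eq_top x
    have hdg : σ (dg L) x = sm σ lam p + σ w (sm σ lam⁻¹ q) := by
      rw [hpq, map_add, ← sm_units, Units.val_mk0]
      congr 1
      rw [← wI_wI, act_mul, mul_assoc, wI_sq, mul_one, wI_sm, Units.val_inv_eq_inv_val, Units.val_mk0]
    rw [hdg, hpq, ← sub_eq_zero, show sm σ lam p + σ w (sm σ lam⁻¹ q) - (p + σ w q) =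
      (sm σ lam p - p) + σ w (sm σ lam⁻¹ q - q) by rw [map_sub]; abel] at hfix
    obtain ⟨h1, h2⟩ := HW.split_zero (sub_mem (sm_mem hp) hp) (sub_mem (sm_mem hq) hq) hfix
    have hcancel : ∀ (μ : K) (z : W), z ∈ Z σ → μ ≠ 1 → sm σ μ z - z = 0 → z = 0 := by
      intro μ z hz hμ h
      have h' : sm σ (μ + 1) z = 0 := by
        rw [HW.sm_add_left hz, sm_one, sub_eq_zero.mp h, HW.two]
      have hne : μ + 1 ≠ 0 := fun e => hμ (by linear_combination e - two_eq_zero' (K := K))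
      rw [← sm_one (ρ := σ) z, ← inv_mul_cancel₀ hne, sm_mul, h', sm, dif_neg (inv_ne_zero hne), map_zero]
    rw [hpq, hcancel lam p hp hl1 h1, hcancel lam⁻¹ q hq (fun e => hl1 (inv_eq_one.mp e)) h2, map_zero, add_zero]
  have hzz : ∀ a ∈ Z ρ, ∀ b ∈ Z ρ, f a b = 0 := by
    intro a ha b hb
    have h := heq (up (1 : K)) a (ρ w b)
    rw [hzw a ha b hb, map_zero, ha, HV.up_w hb, sm_one, map_add, hzw a ha b hb, add_zero] at h
    exact h
  intro a b
  obtain ⟨p, hp, q, hq, rfl⟩ := HV.span_eq_top a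
  obtain ⟨r, hr, s, hs, rfl⟩ := HV.span_eq_top b
  simp only [map_add, AddMonoidHom.add_apply]
  rw [hzz p hp r hr, hzw p hp s hs, hswap (ρ w q) r,
    hzw r hr q hq, heq, hzz q hq s hs, map_zero]
  simp

/-- The elements killed by two. -/
def tors (A : Type*) [AddCommGroup A] : AddSubgroup A where
  carrier := {a | a + a = 0}
  zero_mem' := add_zero 0
  add_mem' := fun {a b} (ha : a + a = 0) (hb : b + b = 0) => show a + b + (a + b) = 0 by
    rw [add_add_add_comm, ha, hb, add_zero]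
  neg_mem' := fun {a} (ha : a + a = 0) => show -a + -a = 0 by rw [← neg_add, ha, neg_zero]

/-- The action on the elements killed by two. -/
def torsRep {A : Type*} [AddCommGroup A] (ρ : (SL K) →* AddMonoid.End A) :
    (SL K) →* AddMonoid.End (tors A) where
  toFun g := ((ρ g : A →+ A).comp (tors A).subtype).codRestrict (tors A) fun a => by
    show ρ g (a : A) + ρ g (a : A) = 0
    rw [← map_add, show (a : A) + a = 0 from a.2, map_zero]
  map_one' := AddMonoidHom.ext fun a => Subtype.ext (act_one (a : A))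
  map_mul' := fun g h => AddMonoidHom.ext fun a => Subtype.ext (act_mul g h (a : A)).symm

theorem coe_torsRep {A : Type*} [AddCommGroup A] (ρ : (SL K) →* AddMonoid.End A) (g : SL K) (a : tors A) :
    (torsRep ρ g a : A) = ρ g a := rfl

set_option maxHeartbeats 1600000 in
/-- An abelian module of exponent four with these fixed-point-free elements has exponent two. -/
theorem exp_two {A : Type*} [AddCommGroup A] {ρ : (SL K) →* AddMonoid.End A} (hK : 4 ≤ Fintype.card K)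
    (hf : ∀ g, tr g = 1 → ∀ a, ρ g a = a → a = 0) (h4 : ∀ a : A, (a + a) + (a + a) = 0) :
    ∀ a : A, a + a = 0 := by
  classical
  set σ := torsRep ρ with hσ
  have H : Hyp σ := ⟨fun a => Subtype.ext a.2, fun g hg a ha => Subtype.ext (hf g hg a (congrArg Subtype.val ha))⟩
  have hinv : ∀ g, ∀ a : A, a + a = 0 → ρ g a + ρ g a = 0 := fun g a ha => by rw [← map_add, ha, map_zero]
  have h3 : ∀ g, tr g = 1 → ∀ a, ρ g (ρ g a) + ρ g a + a = 0 := by
    intro g hg a
    refine hf g hg _ ?_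
    rw [map_add, map_add, act_mul g g (ρ g a), act_mul (g * g) g a, cube_eq_one hg, act_one]
    abel
  by_contra hne
  obtain ⟨a₀, ha₀⟩ := not_forall.mp hne
  have hex : ∀ s : Finset K, ∃ a : A, ¬ a + a = 0 ∧ ∀ t ∈ s, (ρ (up t) a - a) + (ρ (up t) a - a) = 0 := by
    intro s
    induction s using Finset.induction with
    | empty => exact ⟨a₀, ha₀, by simp⟩
    | @insert t s _ ih =>
      obtain ⟨a, ha, has⟩ := ih
      by_cases ht : (ρ (up t) a - a) + (ρ (up t) a - a) = 0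
      · exact ⟨a, ha, (Finset.forall_mem_insert _ _ _).mpr ⟨ht, has⟩⟩
      · refine ⟨ρ (up t) a - a, ht, (Finset.forall_mem_insert _ _ _).mpr ⟨?_, fun r hr => ?_⟩⟩
        · rw [map_sub, act_mul, up_sq, act_one]
          calc _ = (a + a) + (a + a) - ((ρ (up t) a + ρ (up t) a) + (ρ (up t) a + ρ (up t) a)) := by abel
            _ = _ := by rw [h4, h4, sub_zero]
        · have h := hinv (up t) _ (has r hr)
          rw [map_sub, act_mul, up_mul, add_comm t, ← up_mul, ← act_mul] at h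
          rw [map_sub]
          calc _ = (ρ (up r) (ρ (up t) a) - ρ (up t) a + (ρ (up r) (ρ (up t) a) - ρ (up t) a)) -
                (ρ (up r) a - a + (ρ (up r) a - a)) := by abel
            _ = _ := by rw [h, has r hr, sub_zero]
  obtain ⟨a, ha, hall⟩ := hex Finset.univ
  set d : K → tors A := fun t => ⟨ρ (up t) a - a, hall t (Finset.mem_univ _)⟩ with hd
  set s2 : tors A := ⟨a + a, h4 a⟩ with hs2
  have hs2Z : s2 ∈ Z σ := fun t => Subtype.ext (by
    show ρ (up t) (a + a) = a + a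
    rw [map_add, ← sub_eq_zero, ← show (ρ (up t) a - a) + (ρ (up t) a - a) = 0 from hall t (Finset.mem_univ _)]
    abel)
  have hdZ : ∀ t, d t ∈ Z σ := fun t => by
    rcases eq_or_ne t 0 with rfl | ht
    · rw [show d 0 = 0 from Subtype.ext (by simp [hd, up_zero, act_one])]
      exact zero_mem _
    obtain ⟨p, hp, q, hq, hpq⟩ := H.span_eq_top (d t)
    have h1 : σ (up t) (d t) = d t := by
      rw [← H.neg_eq (d t)]
      apply Subtype.ext
      show ρ (up t) (-(ρ (up t) a - a)) = -(ρ (up t) a - a)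
      rw [← show -(d t) = d t from H.neg_eq _] at hpq
      rw [map_neg, map_sub, act_mul, up_sq, act_one]
      have h5 : (ρ (up t) a - a) + (ρ (up t) a - a) = 0 := hall t (Finset.mem_univ _)
      calc _ = (ρ (up t) a - a) + (ρ (up t) a - a) - (ρ (up t) a - a) := by abel
        _ = _ := by rw [h5, zero_sub]
    rw [hpq, map_add, hp, H.up_w hq, add_right_inj, add_eq_right] at h1
    have hq0 : q = 0 := by
      rw [← sm_one (ρ := σ) q, ← inv_mul_cancel₀ ht, sm_mul, h1, sm, dif_neg (inv_ne_zero ht), map_zero]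
    rw [hpq, hq0, map_zero, add_zero]
    exact hp
  have hdadd : ∀ x y, d (x + y) = d x + d y := fun x y => by
    apply Subtype.ext
    have h5 : ρ (up x) (ρ (up y) a - a) = ρ (up y) a - a := congrArg Subtype.val (hdZ y x)
    show ρ (up (x + y)) a - a = (ρ (up x) a - a) + (ρ (up y) a - a)
    rw [← up_mul, ← act_mul]
    rw [map_sub] at h5
    rw [eq_add_of_sub_eq h5]
    abel
  set w := wI (1 : Kˣ) with hw
  set e : K → A := fun r => ρ (lo r) a - a with he
  have hG : ∀ c : K, ∀ b : Kˣ, ρ (lo c) (e (b : K)) - e (b : K) =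
      ((σ w (sm σ (b : K) (d (c * ((b⁻¹ : Kˣ) : K) ^ 2)) + sm σ c (d ((b⁻¹ : Kˣ) : K)) + sm σ c s2)) : tors A) := by
    intro c b
    set t : Kˣ := b⁻¹ with ht
    have htb : ((t⁻¹ : Kˣ) : K) = (b : K) := by rw [ht, inv_inv]
    set z := sm σ (b : K) (d (t : K)) with hz
    have hzZ : z ∈ Z σ := sm_mem (hdZ _)
    set at' : A := a + (σ w z : tors A) with hat
    have hfx : ρ (up (t : K)) at' = at' := by
      rw [hat, map_add, ← coe_torsRep, ← hσ, H.up_w hzZ, hz, ← sm_mul, ← htb, ← Units.val_mul, mul_inv_cancel,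
        Units.val_one, sm_one, AddSubgroup.coe_add]
      show ρ (up (t : K)) a + ((ρ (up (t : K)) a - a) + _) = _
      have h5 : (ρ (up (t : K)) a - a) + (ρ (up (t : K)) a - a) = 0 := hall _ (Finset.mem_univ _)
      calc _ = ((ρ (up (t : K)) a - a) + (ρ (up (t : K)) a - a)) +
            (a + ((σ w (sm σ ((t⁻¹ : Kˣ) : K) (d (t : K))) : tors A) : A)) := by abel
        _ = _ := by rw [h5, zero_add]
    set g := up (t : K) * lo ((t⁻¹ : Kˣ) : K) with hg
    have g1 : ρ g at' = ρ (wI t) at' := by rw [← up_lo_up, ← act_mul (up (t : K) * lo _) (up (t : K)), hfx]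
    have g2 : ρ g (ρ (wI t) at') = ρ (up (t : K)) (ρ (wI t) at') := by
      have h : lo ((t⁻¹ : Kˣ) : K) * wI t = wI t * up (t : K) := by
        rw [up_wI]
        congr 2
        have h1 : (t : K) * ((t⁻¹ : Kˣ) : K) = 1 := by rw [← Units.val_mul, mul_inv_cancel, Units.val_one]
        linear_combination (t : K) * h1
      rw [hg, ← act_mul (up (t : K)), act_mul (lo _), h, ← act_mul (wI t), hfx]
    have g3 := h3 g (tr_up_lo t) at'
    rw [g1, g2] at g3
    have hl : ρ (lo ((t⁻¹ : Kˣ) : K)) at' = ρ (up (t : K)) (ρ (wI t) at') := by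
      rw [← g1, act_mul, hg, ← mul_assoc, up_sq, one_mul]
    rw [htb] at hl
    rw [add_assoc, ← hl] at g3
    have hw1 : ρ (lo (b : K)) ((σ w z : tors A) : A) = (σ w z : tors A) := congrArg Subtype.val (wI_fix hzZ (b : K))
    have heb : e (b : K) = -ρ (wI t) at' - (s2 : A) := by
      show ρ (lo (b : K)) a - a = _
      have h6 : ρ (lo (b : K)) a = ρ (lo (b : K)) at' - (σ w z : tors A) := by
        rw [hat, map_add, hw1]; abel
      rw [h6, eq_neg_of_add_eq_zero_left g3]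
      show _ = -ρ (wI t) at' - (a + a)
      have h7 : ((σ w z : tors A) : A) + (σ w z : tors A) = 0 := (σ w z).2
      calc _ = -ρ (wI t) at' - (a + a) - (((σ w z : tors A) : A) + (σ w z : tors A)) := by rw [hat]; abel
        _ = _ := by rw [h7, sub_zero]
    set s := c * (t : K) ^ 2 with hs
    have h8 : ρ (up s) at' - at' = ((d s + sm σ s z : tors A) : A) := by
      rw [hat, map_add, ← coe_torsRep, ← hσ, H.up_w hzZ, AddSubgroup.coe_add, AddSubgroup.coe_add]
      show _ = (ρ (up s) a - a) + _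
      abel
    have h9 : ρ (lo c) (s2 : A) = ((s2 + σ w (sm σ c s2) : tors A) : A) := congrArg Subtype.val (H.lo_z hs2Z c)
    rw [heb, map_sub, map_neg, act_mul, up_wI, ← act_mul, ← hs, h9]
    have h10 : ρ (wI t) (ρ (up s) at') - ρ (wI t) at' =
        ((σ w (sm σ (b : K) (d s + sm σ s z)) : tors A) : A) := by
      rw [← map_sub, h8, ← coe_torsRep, ← hσ, wI_sm, htb]
    have hneg : ∀ x : tors A, -(x : A) = x := fun x => congrArg Subtype.val (H.neg_eq x)
    calc _ = -(ρ (wI t) (ρ (up s) at') - ρ (wI t) at') - ((σ w (sm σ c s2) : tors A) : A) := by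
          rw [AddSubgroup.coe_add]; abel
      _ = ((σ w (sm σ (b : K) (d s + sm σ s z)) : tors A) : A) + ((σ w (sm σ c s2) : tors A) : A) := by
          rw [h10, sub_eq_add_neg, hneg, hneg]
      _ = _ := by
          rw [← AddSubgroup.coe_add, ← map_add, sm_add_right, hz, ← sm_mul, ← sm_mul, hs]
          congr 5
          have h1 : (b : K) * (t : K) = 1 := by rw [ht, ← Units.val_mul, mul_inv_cancel, Units.val_one]
          linear_combination c * ((b : K) * (t : K) + 1) * h1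
  have hsym : ∀ x y : K, ρ (lo x) (e y) - e y = ρ (lo y) (e x) - e x := by
    intro x y
    simp only [he, map_sub, act_mul, lo_mul, add_comm y x]
    abel
  obtain ⟨lam, hl0, hl1⟩ : ∃ lam : K, lam ≠ 0 ∧ lam ≠ 1 := by
    have hcard : ({0, 1} : Finset K).card < Fintype.card K := lt_of_le_of_lt Finset.card_le_two (by omega)
    obtain ⟨lam, -, h⟩ := Finset.exists_mem_notMem_of_card_lt_card (t := Finset.univ) hcard
    simp only [Finset.mem_insert, Finset.mem_singleton, not_or] at h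
    exact ⟨lam, h⟩
  set L : K → tors A := fun r => d (lam * r) + sm σ lam (d r) with hL
  set M : K → tors A := fun r => L r + L (r * lam⁻¹ ^ 2) with hM
  have hMadd : ∀ x y, M (x + y) = M x + M y := fun x y => by
    simp only [hM, hL, mul_add, add_mul, hdadd, sm_add_right]; abel
  have hMc : ∀ r : Kˣ, M (r : K) = sm σ (lam + 1) s2 := by
    intro r
    set l := Units.mk0 lam hl0
    have h := hsym ((r⁻¹ : Kˣ) : K) (((l * r⁻¹ : Kˣ)) : K)
    rw [hG, hG] at h
    have h' := congrArg (sm σ (r : K)) (w_inj (Subtype.coe_injective h))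
    simp only [sm_add_right (r : K), ← sm_mul] at h'
    simp only [_root_.mul_inv_rev, inv_inv, Units.val_mul, Units.val_inv_eq_inv_val, l, Units.val_mk0] at h'
    have hr := r.ne_zero
    rw [show (r : K) * (lam * (r : K)⁻¹) = lam by field_simp,
      show (r : K) * (r : K)⁻¹ = 1 from mul_inv_cancel₀ hr, sm_one, sm_one, sm_one,
      show (r : K)⁻¹ * ((r : K) * lam⁻¹) ^ 2 = (r : K) * lam⁻¹ ^ 2 by field_simp,
      show lam * (r : K)⁻¹ * (r : K) ^ 2 = lam * r by field_simp] at h'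
    simp only [hM, hL]
    rw [H.sm_add_left hs2Z, sm_one, show lam * ((r : K) * lam⁻¹ ^ 2) = (r : K) * lam⁻¹ by field_simp]
    have hneg := H.neg_eq
    rw [← sub_eq_zero] at h' ⊢
    rw [sub_eq_add_neg, hneg] at h' ⊢
    rw [← h']
    abel
  have hc0 : sm σ (lam + 1) s2 = 0 := by
    have hl1' : lam + 1 ≠ 0 := fun h => hl1 (by linear_combination h - two_eq_zero' (K := K))
    have h := hMadd ((Units.mk0 lam hl0 : Kˣ) : K) ((1 : Kˣ) : K)
    rw [hMc, hMc] at h
    have h' : M ((Units.mk0 (lam + 1) hl1' : Kˣ) : K) = sm σ (lam + 1) s2 + sm σ (lam + 1) s2 := by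
      simpa using h
    rw [hMc, H.two] at h'
    exact h'
  have hl1' : lam + 1 ≠ 0 := fun h => hl1 (by linear_combination h - two_eq_zero' (K := K))
  have : s2 = 0 := by
    rw [← sm_one (ρ := σ) s2, ← inv_mul_cancel₀ hl1', sm_mul, hc0, sm, dif_neg (inv_ne_zero hl1'), map_zero]
  exact ha (congrArg Subtype.val this)

/-- Automorphisms as additive endomorphisms. -/
def endHom (A : Type*) [CommGroup A] : MulAut A →* AddMonoid.End (Additive A) where
  toFun f := f.toMonoidHom.toAdditive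
  map_one' := rfl
  map_mul' _ _ := rfl

theorem exists_rep {G A : Type*} [Group G] [CommGroup A] {π : G →* SL K} (hπ : Function.Surjective π)
    (φ : G →* MulAut A) (hker : π.ker ≤ φ.ker) :
    ∃ ρ : (SL K) →* AddMonoid.End (Additive A), ∀ g a, ρ (π g) (Additive.ofMul a) = Additive.ofMul (φ g a) := by
  have hwd : ∀ g g' : G, π g = π g' → φ g = φ g' := fun g g' h => by
    have h1 : φ (g⁻¹ * g') = 1 := hker (by rw [MonoidHom.mem_ker, map_mul, map_inv, h, inv_mul_cancel])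
    rw [map_mul, map_inv, inv_mul_eq_one] at h1
    exact h1
  let s := Function.surjInv hπ
  have hs : ∀ y, π (s y) = y := Function.surjInv_eq hπ
  refine ⟨{ toFun := fun y => endHom A (φ (s y))
            map_one' := ?_
            map_mul' := fun y z => ?_ }, fun g a => ?_⟩
  · rw [hwd (s 1) 1 (by rw [hs, map_one]), map_one, map_one]
  · rw [hwd (s (y * z)) (s y * s z) (by rw [map_mul, hs, hs, hs]), map_mul, map_mul]
  · show endHom A (φ (s (π g))) (Additive.ofMul a) = _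
    rw [hwd (s (π g)) g (hs _)]
    rfl

theorem exists_ext {G : Type u} [Group G] {x : G} {N : Subgroup G} [Finite N] [N.Normal]
    (hN : ∀ a ∈ N, ∀ b ∈ N, a * b = b * a) (hf : ∀ a ∈ N, x * a * x⁻¹ = a → a = 1) {q : G}
    (hq : q⁻¹ * (x * q * x⁻¹) ∈ N) : ∃ a ∈ N, x * (q * a) * x⁻¹ = q * a := by
  have hm : ∀ a ∈ N, x * a * x⁻¹ ∈ N := fun a ha => Subgroup.Normal.conj_mem inferInstance a ha x
  have hinj : Function.Injective (fun a : N => (⟨a * (x * a * x⁻¹)⁻¹, mul_mem a.2 (inv_mem (hm a a.2))⟩ : N)) := by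
    intro a b h
    have h' : (a : G) * (x * a * x⁻¹)⁻¹ = b * (x * b * x⁻¹)⁻¹ := congrArg Subtype.val h
    apply Subtype.ext
    rw [mul_inv_eq_iff_eq_mul] at h'
    have := hf ((b : G)⁻¹ * a) (mul_mem (inv_mem b.2) a.2) ?_
    · exact (inv_mul_eq_one.mp this).symm
    · rw [show x * ((b : G)⁻¹ * a) * x⁻¹ = (x * b * x⁻¹)⁻¹ * (x * a * x⁻¹) by group]
      conv_rhs => rw [h', ← mul_assoc, inv_mul_cancel_left]
  obtain ⟨a, ha⟩ := Finite.surjective_of_injective hinj ⟨_, hq⟩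
  refine ⟨a, a.2, ?_⟩
  have h' : (a : G) * (x * a * x⁻¹)⁻¹ = q⁻¹ * (x * q * x⁻¹) := congrArg Subtype.val ha
  rw [show x * (q * a) * x⁻¹ = q * (q⁻¹ * (x * q * x⁻¹)) * (x * a * x⁻¹) by group, ← h']
  group

theorem commute_conj {G : Type u} [Group G] {x : G} (hx3 : x * x * x = 1) {Q : Subgroup G} [Finite Q] [Q.Normal]
    (hf : ∀ a ∈ Q, x * a * x⁻¹ = a → a = 1) {q : G} (hq : q ∈ Q) : Commute q (x * q * x⁻¹) := by
  have hm : ∀ a ∈ Q, x * a * x⁻¹ ∈ Q := fun a ha => Subgroup.Normal.conj_mem inferInstance a ha x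
  have hinj : Function.Injective (fun a : Q => (⟨(a : G)⁻¹ * (x * a * x⁻¹), mul_mem (inv_mem a.2) (hm a a.2)⟩ : Q)) := by
    intro a b h
    have h' : (a : G)⁻¹ * (x * a * x⁻¹) = (b : G)⁻¹ * (x * b * x⁻¹) := congrArg Subtype.val h
    apply Subtype.ext
    have := hf ((b : G) * (a : G)⁻¹) (mul_mem b.2 (inv_mem a.2)) ?_
    · exact (mul_inv_eq_one.mp this).symm
    · rw [inv_mul_eq_iff_eq_mul] at h'
      rw [show x * ((b : G) * (a : G)⁻¹) * x⁻¹ = (x * b * x⁻¹) * (x * a * x⁻¹)⁻¹ by group, h']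
      group
  have hprod : ∀ a ∈ Q, a * (x * a * x⁻¹) * (x * x * a * (x * x)⁻¹) = 1 := by
    intro a ha
    obtain ⟨r, hr⟩ := Finite.surjective_of_injective hinj ⟨a, ha⟩
    have hr' : (r : G)⁻¹ * (x * r * x⁻¹) = a := congrArg Subtype.val hr
    rw [← hr', show (r : G)⁻¹ * (x * r * x⁻¹) * (x * ((r : G)⁻¹ * (x * r * x⁻¹)) * x⁻¹) *
      (x * x * ((r : G)⁻¹ * (x * r * x⁻¹)) * (x * x)⁻¹) = (r : G)⁻¹ * (x * x * x * r * (x * x * x)⁻¹) by group, hx3]
    group
  have h1 := hprod q hq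
  have h2 := hprod q⁻¹ (inv_mem hq)
  have e1 := eq_inv_of_mul_eq_one_right h1
  rw [show q⁻¹ * (x * q⁻¹ * x⁻¹) * (x * x * q⁻¹ * (x * x)⁻¹) =
    q⁻¹ * (x * q * x⁻¹)⁻¹ * (x * x * q * (x * x)⁻¹)⁻¹ by group, mul_inv_eq_one] at h2
  rw [e1, _root_.mul_inv_rev] at h2
  show q * (x * q * x⁻¹) = (x * q * x⁻¹) * q
  rw [← _root_.inv_inj, ← h2]
  group

set_option maxHeartbeats 1600000 in
theorem elementary_aux : ∀ (n : ℕ) (G : Type u) [Group G] [Finite G], Nat.card G = n →
    ∀ (π : G →* SL K), Function.Surjective π → IsPGroup 2 π.ker → 4 ≤ Fintype.card K →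
      ∀ x : G, x * x * x = 1 → tr (π x) = 1 → (∀ q ∈ π.ker, x * q * x⁻¹ = q → q = 1) →
        Cfsg.IsElementaryAbelian 2 π.ker := by
  intro n
  induction n using Nat.strong_induction_on with
  | _ n ih =>
  intro G _ _ hn π hπ hQ hK x hx3 hxt hfpf
  haveI : Fact (Nat.Prime 2) := ⟨Nat.prime_two⟩
  set Q := π.ker with hQdef
  by_cases hQ1 : Q = ⊥
  · rw [hQ1]
    exact ⟨⟨⟨fun a b => Subsingleton.elim _ _⟩⟩, fun a ha => by rw [Subgroup.mem_bot.mp ha, one_pow]⟩
  let E : Subgroup G :=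
    { carrier := {e | e ∈ Q ∧ e * e = 1 ∧ ∀ r ∈ Q, e * r = r * e}
      one_mem' := ⟨one_mem _, one_mul _, fun r _ => by rw [one_mul, mul_one]⟩
      mul_mem' := fun {a b} ha hb => ⟨mul_mem ha.1 hb.1, by
          rw [show a * b * (a * b) = a * (b * a) * b by group, hb.2.2 a ha.1, show a * (a * b) * b = (a * a) * (b * b) by group,
            ha.2.1, hb.2.1, one_mul],
        fun r hr => by rw [mul_assoc, hb.2.2 r hr, ← mul_assoc, ha.2.2 r hr, mul_assoc]⟩
      inv_mem' := fun {a} ha => by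
        rw [inv_eq_of_mul_eq_one_right ha.2.1]
        exact ha }
  have hEQ : E ≤ Q := fun e he => he.1
  have hEcomm : ∀ a ∈ E, ∀ b ∈ E, a * b = b * a := fun a ha b hb => ha.2.2 b hb.1
  haveI hQn : Q.Normal := π.normal_ker
  haveI hEn : E.Normal := ⟨fun e he g => ⟨hQn.conj_mem e he.1 g, by
      rw [show g * e * g⁻¹ * (g * e * g⁻¹) = g * (e * e) * g⁻¹ by group, he.2.1, mul_one, mul_inv_cancel],
    fun r hr => by
      have h := he.2.2 _ (hQn.conj_mem r hr g⁻¹)
      rw [inv_inv] at h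
      calc g * e * g⁻¹ * r = g * (e * (g⁻¹ * r * g)) * g⁻¹ := by group
        _ = g * ((g⁻¹ * r * g) * e) * g⁻¹ := by rw [h]
        _ = r * (g * e * g⁻¹) := by group⟩⟩
  have hE1 : E ≠ ⊥ := by
    haveI : Nontrivial Q := (Subgroup.nontrivial_iff_ne_bot Q).mpr hQ1
    haveI := hQ.center_nontrivial
    obtain ⟨j, hj⟩ := IsPGroup.iff_card.mp (hQ.to_subgroup (Subgroup.center Q))
    have hj0 : j ≠ 0 := fun e => absurd (Finite.one_lt_card (α := Subgroup.center Q)) (by rw [hj, e, pow_zero]; exact lt_irrefl 1)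
    obtain ⟨z, hz⟩ := exists_prime_orderOf_dvd_card' 2 (hj ▸ dvd_pow_self 2 hj0 : 2 ∣ Nat.card (Subgroup.center Q))
    intro hb
    have hzE : ((z : Q) : G) ∈ E := ⟨(z : Q).2,
      (congrArg (fun t : Subgroup.center Q => ((t : Q) : G)) (pow_two z ▸ hz ▸ pow_orderOf_eq_one z) :),
      fun r hr => congrArg Subtype.val (Subgroup.mem_center_iff.mp z.2 ⟨r, hr⟩).symm⟩
    rw [hb, Subgroup.mem_bot] at hzE
    have hz1 : z = 1 := Subtype.ext (Subtype.ext hzE)
    rw [hz1, orderOf_one] at hz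
    exact absurd hz (by norm_num)
  -- the quotient
  have hlt : Nat.card (G ⧸ E) < n := by
    rw [← hn, Subgroup.card_eq_card_quotient_mul_card_subgroup E]
    exact lt_mul_of_one_lt_right Nat.card_pos ((Subgroup.one_lt_card_iff_ne_bot _).mpr hE1)
  let π' : G ⧸ E →* SL K := QuotientGroup.lift E π hEQ
  have hπ' : Function.Surjective π' := fun y => by
    obtain ⟨g, rfl⟩ := hπ y
    exact ⟨g, rfl⟩
  have hker' : π'.ker = Q.map (QuotientGroup.mk' E) := QuotientGroup.ker_lift E π hEQ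
  have hxE : ∀ q ∈ Q, q⁻¹ * (x * q * x⁻¹) ∈ E → q ∈ E := by
    intro q hq h
    obtain ⟨a, ha, hfix⟩ := exists_ext hEcomm (fun a ha => hfpf a ha.1) h
    have := hfpf _ (mul_mem hq ha.1) hfix
    rw [mul_eq_one_iff_eq_inv.mp this]
    exact inv_mem ha
  have hel := ih _ hlt (G ⧸ E) rfl π' hπ' (hker' ▸ hQ.map _) hK (QuotientGroup.mk x)
    (by rw [← QuotientGroup.mk_mul, ← QuotientGroup.mk_mul, hx3, QuotientGroup.mk_one]) hxt (by
      intro y hy h
      rw [hker'] at hy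
      obtain ⟨q, hq, rfl⟩ := hy
      refine (QuotientGroup.eq_one_iff q).mpr (hxE q hq ?_)
      exact QuotientGroup.eq.mp h.symm)
  have hcommE : ∀ q ∈ Q, ∀ r ∈ Q, q * r * q⁻¹ * r⁻¹ ∈ E := by
    intro q hq r hr
    have h := hel.1.is_comm.comm ⟨_, hker'.ge ⟨q, hq, rfl⟩⟩ ⟨_, hker'.ge ⟨r, hr, rfl⟩⟩
    have h' : ((q : G ⧸ E) * r) = r * q := congrArg Subtype.val h
    rw [← QuotientGroup.eq_one_iff, QuotientGroup.mk_mul, QuotientGroup.mk_mul, QuotientGroup.mk_mul,
      QuotientGroup.mk_inv, QuotientGroup.mk_inv, h']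
    group
  have hsqE : ∀ q ∈ Q, q * q ∈ E := by
    intro q hq
    have h := hel.2 _ (hker'.ge ⟨q, hq, rfl⟩)
    rw [← QuotientGroup.eq_one_iff, ← pow_two, QuotientGroup.mk_pow]
    exact h
  -- elements lifting the trace one elements
  obtain ⟨P₀, hP₀⟩ := conj_comp hxt
  have hlift : ∀ g : SL K, tr g = 1 → ∃ h : G, π (h * x * h⁻¹) = g := by
    intro g hg
    obtain ⟨P, hP⟩ := conj_comp hg
    obtain ⟨h, hh⟩ := hπ (P * P₀⁻¹)
    refine ⟨h, ?_⟩
    rw [map_mul, map_mul, map_inv, hh, hP₀, hP]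
    group
  have hconjQ : ∀ h q : G, q ∈ Q → h⁻¹ * q * h ∈ Q := fun h q hq => by
    have := hQn.conj_mem q hq h⁻¹
    rwa [inv_inv] at this
  have hyfpf : ∀ h : G, ∀ q ∈ Q, (h * x * h⁻¹) * q * (h * x * h⁻¹)⁻¹ = q → q = 1 := by
    intro h q hq he
    have h1 := hfpf (h⁻¹ * q * h) (hconjQ h q hq) (by
      conv_rhs => rw [← he]
      group)
    rw [show q = h * (h⁻¹ * q * h) * h⁻¹ by group, h1, mul_one, mul_inv_cancel]
  -- the central layer as a module
  haveI : IsMulCommutative E := ⟨⟨fun a b => Subtype.ext (hEcomm a a.2 b b.2)⟩⟩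
  letI : CommGroup E := { (inferInstance : Group E) with mul_comm := fun a b => Subtype.ext (hEcomm a a.2 b b.2) }
  obtain ⟨ρE, hρE⟩ := exists_rep hπ (MulAut.conjNormal : G →* MulAut E) (fun g hg => by
    rw [MonoidHom.mem_ker]
    refine MulEquiv.ext fun e => Subtype.ext ?_
    show g * e * g⁻¹ = e
    rw [← e.2.2.2 g hg, mul_inv_cancel_right])
  have HE : Hyp ρE := by
    refine ⟨fun v => Additive.toMul.injective (Subtype.ext (Additive.toMul v).2.2.1), fun g hg v hv => ?_⟩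
    obtain ⟨h, rfl⟩ := hlift g hg
    obtain ⟨e, rfl⟩ := Additive.ofMul.surjective v
    rw [hρE] at hv
    have h' : h * x * h⁻¹ * (e : G) * (h * x * h⁻¹)⁻¹ = e := congrArg Subtype.val (Additive.ofMul.injective hv)
    exact congrArg Additive.ofMul (Subtype.ext (hyfpf h e e.2.1 h'))
  -- the quotient layer as a module
  set Qb := Q.map (QuotientGroup.mk' E) with hQb
  haveI hQbn : Qb.Normal := hQn.map _ (QuotientGroup.mk'_surjective E)
  have hQbel : Cfsg.IsElementaryAbelian 2 Qb := hker' ▸ hel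
  haveI := hQbel.1
  letI : CommGroup Qb := { (inferInstance : Group Qb) with mul_comm := fun a b => hQbel.1.is_comm.comm a b }
  obtain ⟨ρV, hρV⟩ := exists_rep hπ ((MulAut.conjNormal : G ⧸ E →* MulAut Qb).comp (QuotientGroup.mk' E))
    (fun g hg => by
      rw [MonoidHom.mem_ker]
      refine MulEquiv.ext fun e => Subtype.ext ?_
      show (g : G ⧸ E) * e * (g : G ⧸ E)⁻¹ = e
      rw [mul_inv_eq_iff_eq_mul]
      exact congrArg Subtype.val (hQbel.1.is_comm.comm ⟨_, g, hg, rfl⟩ e))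
  have HV : Hyp ρV := by
    refine ⟨fun v => Additive.toMul.injective (Subtype.ext (by
      show ((Additive.toMul v : Qb) : G ⧸ E) * (Additive.toMul v : Qb) = 1
      rw [← pow_two]
      exact hQbel.2 _ (Additive.toMul v).2)), fun g hg v hv => ?_⟩
    obtain ⟨h, rfl⟩ := hlift g hg
    obtain ⟨⟨_, q, hq, rfl⟩, rfl⟩ := Additive.ofMul.surjective v
    rw [hρV] at hv
    have h' : ((h * x * h⁻¹ * q * (h * x * h⁻¹)⁻¹ : G) : G ⧸ E) = (q : G ⧸ E) :=
      congrArg Subtype.val (Additive.ofMul.injective hv)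
    refine congrArg Additive.ofMul (Subtype.ext ((QuotientGroup.eq_one_iff q).mpr ?_))
    have h1 := QuotientGroup.eq.mp h'.symm
    have h2 : h⁻¹ * q * h ∈ E := hxE _ (hconjQ h q hq) (by
      have := hEn.conj_mem _ h1 h⁻¹
      rw [show (h⁻¹ * q * h)⁻¹ * (x * (h⁻¹ * q * h) * x⁻¹) =
        h⁻¹ * (q⁻¹ * (h * x * h⁻¹ * q * (h * x * h⁻¹)⁻¹)) * h⁻¹⁻¹ by group]
      exact this)
    rw [show q = h * (h⁻¹ * q * h) * h⁻¹ by group]
    exact hEn.conj_mem _ h2 h
  -- the commutator pairing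
  have hrep : ∀ v : Additive Qb, ∃ q : G, q ∈ Q ∧ ((Additive.toMul v : Qb) : G ⧸ E) = (q : G ⧸ E) := by
    intro v
    obtain ⟨q, hq, he⟩ := (Additive.toMul v).2
    exact ⟨q, hq, he.symm⟩
  choose rep hrep1 hrep2 using hrep
  let cm : ∀ q r : G, q ∈ Q → r ∈ Q → E := fun q r hq hr => ⟨q * r * q⁻¹ * r⁻¹, hcommE q hq r hr⟩
  have hcong1 : ∀ q q' r : G, q ∈ Q → q' ∈ Q → r ∈ Q → q⁻¹ * q' ∈ E →
      q * r * q⁻¹ * r⁻¹ = q' * r * q'⁻¹ * r⁻¹ := by
    intro q q' r hq _ hr h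
    obtain ⟨e, he, rfl⟩ : ∃ e ∈ E, q' = q * e := ⟨q⁻¹ * q', h, by group⟩
    rw [show q * e * r * (q * e)⁻¹ * r⁻¹ = q * (e * r) * e⁻¹ * q⁻¹ * r⁻¹ by group, he.2.2 r hr]
    group
  have hcong2 : ∀ q r r' : G, q ∈ Q → r ∈ Q → r' ∈ Q → r⁻¹ * r' ∈ E →
      q * r * q⁻¹ * r⁻¹ = q * r' * q⁻¹ * r'⁻¹ := by
    intro q r r' hq hr hr' h
    rw [← _root_.inv_inj, show (q * r * q⁻¹ * r⁻¹)⁻¹ = r * q * r⁻¹ * q⁻¹ by group,
      show (q * r' * q⁻¹ * r'⁻¹)⁻¹ = r' * q * r'⁻¹ * q⁻¹ by group]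
    exact hcong1 r r' q hr hr' hq h
  have hmul1 : ∀ q q' r : G, q ∈ Q → q' ∈ Q → r ∈ Q →
      (q * q') * r * (q * q')⁻¹ * r⁻¹ = (q * r * q⁻¹ * r⁻¹) * (q' * r * q'⁻¹ * r⁻¹) := by
    intro q q' r hq hq' hr
    have hc := (hcommE q' hq' r hr).2.2 q hq
    have hd := (hcommE q' hq' r hr).2.2 _ (hEQ (hcommE q hq r hr))
    calc (q * q') * r * (q * q')⁻¹ * r⁻¹ = q * (q' * r * q'⁻¹ * r⁻¹) * (r * q⁻¹ * r⁻¹) := by group
      _ = (q' * r * q'⁻¹ * r⁻¹) * q * (r * q⁻¹ * r⁻¹) := by rw [hc]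
      _ = (q' * r * q'⁻¹ * r⁻¹) * (q * r * q⁻¹ * r⁻¹) := by group
      _ = _ := hd
  have hmul2 : ∀ q r r' : G, q ∈ Q → r ∈ Q → r' ∈ Q →
      q * (r * r') * q⁻¹ * (r * r')⁻¹ = (q * r * q⁻¹ * r⁻¹) * (q * r' * q⁻¹ * r'⁻¹) := by
    intro q r r' hq hr hr'
    have hc := (hcommE q hq r' hr').2.2 r hr
    calc q * (r * r') * q⁻¹ * (r * r')⁻¹ = (q * r * q⁻¹) * (q * r' * q⁻¹ * r'⁻¹) * r⁻¹ := by group
      _ = (q * r * q⁻¹ * r⁻¹) * (r * (q * r' * q⁻¹ * r'⁻¹)) * r⁻¹ := by group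
      _ = (q * r * q⁻¹ * r⁻¹) * ((q * r' * q⁻¹ * r'⁻¹) * r) * r⁻¹ := by rw [hc]
      _ = _ := by group
  let f : Additive Qb →+ Additive Qb →+ Additive E :=
    AddMonoidHom.mk' (fun v => AddMonoidHom.mk' (fun w => Additive.ofMul (cm _ _ (hrep1 v) (hrep1 w)))
      (fun w w' => congrArg Additive.ofMul (Subtype.ext (by
        show rep v * rep (w + w') * (rep v)⁻¹ * (rep (w + w'))⁻¹ = _
        rw [hcong2 _ _ (rep w * rep w') (hrep1 v) (hrep1 _) (mul_mem (hrep1 w) (hrep1 w')) ?_,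
          hmul2 _ _ _ (hrep1 v) (hrep1 w) (hrep1 w')]
        · rfl
        · rw [← QuotientGroup.eq, QuotientGroup.mk_mul, ← hrep2, ← hrep2, ← hrep2]; rfl))))
      (fun v v' => AddMonoidHom.ext fun w => congrArg Additive.ofMul (Subtype.ext (by
        show rep (v + v') * rep w * (rep (v + v'))⁻¹ * (rep w)⁻¹ = _
        rw [hcong1 _ (rep v * rep v') _ (hrep1 _) (mul_mem (hrep1 v) (hrep1 v')) (hrep1 w) ?_,
          hmul1 _ _ _ (hrep1 v) (hrep1 v') (hrep1 w)]
        · rfl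
        · rw [← QuotientGroup.eq, QuotientGroup.mk_mul, ← hrep2, ← hrep2, ← hrep2]; rfl)))
  have hzero := biadd_eq_zero HV HE hK f (fun g v w => by
      obtain ⟨h, rfl⟩ := hπ g
      show Additive.ofMul (cm _ _ (hrep1 _) (hrep1 _)) = ρE (π h) (Additive.ofMul (cm _ _ (hrep1 v) (hrep1 w)))
      rw [hρE]
      refine congrArg Additive.ofMul (Subtype.ext ?_)
      show _ = h * (rep v * rep w * (rep v)⁻¹ * (rep w)⁻¹) * h⁻¹
      have hcl : ∀ v, (rep (ρV (π h) v))⁻¹ * (h * rep v * h⁻¹) ∈ E := by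
        intro v
        rw [← QuotientGroup.eq, QuotientGroup.mk_mul, QuotientGroup.mk_mul, QuotientGroup.mk_inv, ← hrep2, ← hrep2]
        exact congrArg Subtype.val (congrArg Additive.toMul (hρV h (Additive.toMul v)))
      show rep (ρV (π h) v) * rep (ρV (π h) w) * (rep (ρV (π h) v))⁻¹ * (rep (ρV (π h) w))⁻¹ = _
      rw [hcong1 _ _ _ (hrep1 _) (hQn.conj_mem _ (hrep1 v) h) (hrep1 _) (hcl v),
        hcong2 _ _ _ (hQn.conj_mem _ (hrep1 v) h) (hrep1 _) (hQn.conj_mem _ (hrep1 w) h) (hcl w)]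
      group)
    (fun v => congrArg Additive.ofMul (Subtype.ext (by
      show rep v * rep v * (rep v)⁻¹ * (rep v)⁻¹ = 1
      group)))
    (fun g hg v => by
      obtain ⟨h, rfl⟩ := hlift g hg
      refine congrArg Additive.ofMul (Subtype.ext ?_)
      show rep v * rep (ρV (π (h * x * h⁻¹)) v) * (rep v)⁻¹ * (rep (ρV (π (h * x * h⁻¹)) v))⁻¹ = 1
      have hy3 : (h * x * h⁻¹) * (h * x * h⁻¹) * (h * x * h⁻¹) = 1 := by
        rw [show (h * x * h⁻¹) * (h * x * h⁻¹) * (h * x * h⁻¹) = h * (x * x * x) * h⁻¹ by group, hx3]; group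
      have hcm := commute_conj hy3 (hyfpf h) (hrep1 v)
      rw [hcong2 _ _ _ (hrep1 v) (hrep1 _) (hQn.conj_mem _ (hrep1 v) (h * x * h⁻¹)) ?_, hcm.eq]
      · group
      · rw [← QuotientGroup.eq, QuotientGroup.mk_mul, QuotientGroup.mk_mul, QuotientGroup.mk_inv, ← hrep2, ← hrep2]
        exact congrArg Subtype.val (congrArg Additive.toMul (hρV (h * x * h⁻¹) (Additive.toMul v))))
  have hQab : ∀ q ∈ Q, ∀ r ∈ Q, q * r = r * q := by
    intro q hq r hr
    set v := Additive.ofMul (⟨(q : G ⧸ E), q, hq, rfl⟩ : Qb)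
    set w := Additive.ofMul (⟨(r : G ⧸ E), r, hr, rfl⟩ : Qb)
    have h := congrArg Subtype.val (congrArg Additive.toMul (hzero v w))
    change rep v * rep w * (rep v)⁻¹ * (rep w)⁻¹ = 1 at h
    rw [hcong1 _ q _ (hrep1 v) hq (hrep1 w) (QuotientGroup.eq.mp (hrep2 v).symm),
      hcong2 q _ r hq (hrep1 w) hr (QuotientGroup.eq.mp (hrep2 w).symm)] at h
    rwa [mul_inv_eq_one, mul_inv_eq_iff_eq_mul] at h
  -- the exponent
  letI : CommGroup Q := { (inferInstance : Group Q) with mul_comm := fun a b => Subtype.ext (hQab a a.2 b b.2) }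
  obtain ⟨ρQ, hρQ⟩ := exists_rep hπ (MulAut.conjNormal : G →* MulAut Q) (fun g hg => by
    rw [MonoidHom.mem_ker]
    refine MulEquiv.ext fun e => Subtype.ext ?_
    show g * e * g⁻¹ = e
    rw [hQab g hg e e.2, mul_inv_cancel_right])
  have h2 := exp_two (ρ := ρQ) hK (fun g hg v hv => by
      obtain ⟨h, rfl⟩ := hlift g hg
      obtain ⟨e, rfl⟩ := Additive.ofMul.surjective v
      rw [hρQ] at hv
      have h' : h * x * h⁻¹ * (e : G) * (h * x * h⁻¹)⁻¹ = e := congrArg Subtype.val (Additive.ofMul.injective hv)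
      exact congrArg Additive.ofMul (Subtype.ext (hyfpf h e e.2 h')))
    (fun v => Additive.toMul.injective (Subtype.ext (hsqE _ (Additive.toMul v).2).2.1))
  refine ⟨⟨⟨fun a b => Subtype.ext (hQab a a.2 b b.2)⟩⟩, fun q hq => ?_⟩
  rw [pow_two]
  exact congrArg Subtype.val (congrArg Additive.toMul (h2 (Additive.ofMul (⟨q, hq⟩ : Q))))

end Cfsg.Agent.Invol.SL2Fpf
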