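import Cfsg.Agent.Lib.Fus.SmallExp
import Cfsg.Agent.Lib.Transfer.Frobenius
import Cfsg.Agent.Lib.Invol.CharP

/-!
Elements of order prime to `p` fixing the small elements of a `p`-subgroup centralize it.
-/

namespace Cfsg.Agent.Invol

variable {G : Type*} [Group G] [Finite G] {p : ℕ} [Fact p.Prime]

/-- A `p'`-element normalizing a `p`-subgroup `Q` and fixing its small elements centralizes it. -/
theorem centralizes_of_fix_small {Q : Subgroup G} (hQ : IsPGroup p Q) {g : G}
    (hg : g ∈ Subgroup.normalizer (Q : Set G)) (hc : (orderOf g).Coprime p)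
    (h : ∀ a ∈ Q, (a ^ p = 1 ∨ (p = 2 ∧ a ^ 4 = 1)) → g * a * g⁻¹ = a) :
    g ∈ Subgroup.centralizer (Q : Set G) := by
  set α : MulAut Q := Subgroup.normalizerMonoidHom Q ⟨g, hg⟩ with hα
  have happ : ∀ x : Q, ((α x : Q) : G) = g * x * g⁻¹ := fun x => rfl
  have hαc : (orderOf α).Coprime p := by
    refine Nat.Coprime.coprime_dvd_left ?_ hc
    refine (orderOf_map_dvd _ _).trans ?_
    rw [Subgroup.orderOf_mk]
  have h1 : α = 1 := Fus.eq_one_of_fixed_small hQ α hαc fun x hx => Subtype.ext <| by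
    rw [happ]
    refine h x x.2 ?_
    unfold Fus.smallExp at hx
    split_ifs at hx with h2
    · exact Or.inr ⟨h2, by rw [← SubgroupClass.coe_pow, hx, Subgroup.coe_one]⟩
    · exact Or.inl (by rw [← SubgroupClass.coe_pow, hx, Subgroup.coe_one])
  refine Subgroup.mem_centralizer_iff.mpr fun x hx => ?_
  have h2 := happ ⟨x, hx⟩
  rw [h1] at h2
  exact (mul_inv_eq_iff_eq_mul.mp h2.symm).symm

/-- In a nilpotent group `[W, G] = W` only for `W = 1`. -/
theorem eq_bot_of_le_commutator {P : Type*} [Group P] [hP : Group.IsNilpotent P] {W : Subgroup P}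
    (h : W ≤ ⁅W, (⊤ : Subgroup P)⁆) : W = ⊥ := by
  obtain ⟨n, hn⟩ := Subgroup.nilpotent_iff_lowerCentralSeries.mp hP
  have : ∀ i, W ≤ Subgroup.lowerCentralSeries (⊤ : Subgroup P) i := by
    intro i
    induction i with
    | zero => rw [Subgroup.lowerCentralSeries_zero]; exact le_top
    | succ i ih =>
      rw [Subgroup.lowerCentralSeries_succ]
      exact h.trans (Subgroup.commutator_mono ih le_rfl)
  exact le_bot_iff.mp ((this n).trans hn.le)

end Cfsg.Agent.Invol
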