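import Mathlib
import Cfsg.Agent.Lib.Grp.GaschutzYen

/-!
Coprime operators fixing the small elements of a `p`-group, for every prime `p`.
-/

set_option autoImplicit false
set_option linter.unusedSectionVars false

namespace Cfsg.Agent.Invol

open Subgroup Grp
open scoped commutatorElement Pointwise

universe u

variable {G : Type u} [Group G]

/-- Coprime operators fixing the elements with `u ^ e = 1` of a `p`-group fix everything, when `p`
divides both `e` and `e.choose 2`. -/
theorem le_centralizer_of_small_fixed [Finite G] {p : ℕ} [hp : Fact p.Prime] {e : ℕ}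
    (he : p ∣ e) (he2 : p ∣ e.choose 2)
    (A : Subgroup G) (hA : (Nat.card A).Coprime p) :
    ∀ U : Subgroup G, IsPGroup p U → A ≤ Subgroup.normalizer (U : Set G) →
      (∀ u ∈ U, u ^ e = 1 → ∀ a ∈ A, a * u = u * a) → A ≤ Subgroup.centralizer (U : Set G) := by
  intro U
  induction U using (wellFounded_lt (α := Subgroup G)).induction with
  | _ U ih =>
  intro hU hAU hfix
  obtain ⟨m, hm⟩ := IsPGroup.iff_card.mp hU
  have hcop : (Nat.card A).Coprime (Nat.card U) := by rw [hm]; exact hA.pow_right m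
  have hsolv : Group.IsSolvable A ∨ Group.IsSolvable U :=
    Or.inr (@IsNilpotent.to_isSolvable _ _ hU.isNilpotent)
  have key : ∀ W : Subgroup G, W ≤ U → A ≤ Subgroup.normalizer (W : Set G) → W ≠ U →
      A ≤ Subgroup.centralizer (W : Set G) := fun W hW hAW hne =>
    ih W (lt_of_le_of_ne hW hne) (hU.to_le hW) hAW fun u hu => hfix u (hW hu)
  by_cases hUA : ⁅U, A⁆ = U
  swap
  · have h1 := key _ (commutator_le_left_of_le_normalizer hAU) (right_le_normalizer_commutator A U) hUA
    rw [← Subgroup.commutator_eq_bot_iff_le_centralizer, Subgroup.commutator_comm A,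
      commutator_commutator_eq A U hAU hcop hsolv] at h1
    rw [← Subgroup.commutator_eq_bot_iff_le_centralizer, Subgroup.commutator_comm]
    exact h1
  set Φ := (frattini U).map U.subtype
  have hΦU : Φ ≤ U := Subgroup.map_subtype_le _
  have hAΦ : A ≤ Subgroup.normalizer (Φ : Set G) := fun a ha => by
    rw [mem_normalizer_iff_smul, ← map_conj_eq_smul]
    exact map_char_eq (hAU ha) _
  rcases eq_or_ne U ⊥ with rfl | hne
  · intro a _
    rw [Subgroup.mem_centralizer_iff]
    intro g hg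
    rw [Subgroup.mem_bot.mp hg, one_mul, mul_one]
  have hΦne : Φ ≠ U := by
    intro e
    have : Nontrivial U := (Subgroup.nontrivial_iff_ne_bot U).mpr hne
    obtain ⟨M, hM⟩ := (eq_top_or_exists_le_coatom (⊥ : Subgroup U)).resolve_left bot_ne_top
    refine hM.1.1 (top_le_iff.mp fun u _ => ?_)
    obtain ⟨v, hv, hv'⟩ := (e.ge u.2 : (u : G) ∈ Φ)
    rw [show u = v from Subtype.ext hv'.symm]
    exact frattini_le_coatom hM.1 hv
  have hAΦc := key Φ hΦU hAΦ hΦne
  -- `Φ` is central in `U`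
  have hUΦ : U ≤ Subgroup.normalizer (Φ : Set G) := fun u hu => by
    rw [mem_normalizer_iff_smul, ← map_conj_eq_smul]
    exact map_char_eq (Subgroup.le_normalizer hu) _
  have h1 : ⁅⁅A, Φ⁆, U⁆ = ⊥ := by
    rw [Subgroup.commutator_eq_bot_iff_le_centralizer.mpr hAΦc, Subgroup.commutator_bot_left]
  have hΦUle : ⁅Φ, U⁆ ≤ Φ := commutator_le_left_of_le_normalizer hUΦ
  have h2 : ⁅⁅Φ, U⁆, A⁆ = ⊥ := by
    rw [← le_bot_iff, Subgroup.commutator_comm]
    exact le_trans (Subgroup.commutator_mono le_rfl hΦUle)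
      (Subgroup.commutator_eq_bot_iff_le_centralizer.mpr hAΦc).le
  have hΦc : Φ ≤ Subgroup.centralizer (U : Set G) := by
    have h3 : ⁅⁅U, A⁆, Φ⁆ = ⊥ := Subgroup.commutator_commutator_eq_bot_of_rotate h1 h2
    rw [hUA, Subgroup.commutator_comm, Subgroup.commutator_eq_bot_iff_le_centralizer] at h3
    exact h3
  have hpow : ∀ u ∈ U, u ^ p ∈ Φ := fun u hu =>
    ⟨_, pGroup_pow_mem_frattini hU ⟨u, hu⟩, by simp⟩
  have hcomm : ∀ u ∈ U, ∀ v ∈ U, ⁅u, v⁆ ∈ Φ := fun u hu v hv =>
    ⟨_, pGroup_commutator_le_frattini hU (Subgroup.commutator_mem_commutator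
      (Subgroup.mem_top (⟨u, hu⟩ : U)) (Subgroup.mem_top (⟨v, hv⟩ : U))), by simp [commutatorElement_def]⟩
  have hexp : ∀ u ∈ U, ∀ v ∈ U, ⁅u, v⁆ ^ p = 1 := by
    intro u hu v hv
    set c := ⁅u, v⁆ with hc
    have hcu : ∀ w ∈ U, Commute c w := fun w hw =>
      (Subgroup.mem_centralizer_iff.mp (hΦc (hcomm u hu v hv)) w hw).symm
    have hn : ∀ n : ℕ, u * v ^ n * u⁻¹ = c ^ n * v ^ n := by
      intro n
      rw [← (hcu v hv).mul_pow, ← conj_pow]
      congr 1
      rw [hc, commutatorElement_def]; group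
    have h4 := hn p
    rw [show u * v ^ p * u⁻¹ = v ^ p from mul_inv_eq_iff_eq_mul.mpr
      (Subgroup.mem_centralizer_iff.mp (hΦc (hpow v hv)) u hu)] at h4
    exact mul_eq_right.mp h4.symm
  -- the generators of `[U, A] = U` are fixed
  have hall : U ≤ Subgroup.centralizer (A : Set G) := by
    rw [← hUA, Subgroup.commutator_le]
    intro u hu a ha
    have hy : a * u⁻¹ * a⁻¹ ∈ U := mem_conj_normalizer (hAU ha) (inv_mem hu)
    set y := a * u⁻¹ * a⁻¹ with hydef
    have hord : (u * y) ^ e = 1 := by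
      have hcy : ∀ w ∈ U, Commute ⁅y, u⁆ w := fun w hw =>
        (Subgroup.mem_centralizer_iff.mp (hΦc (hcomm y hy u hu)) w hw).symm
      rw [mul_pow_class_two (c := ⁅y, u⁆) (by rw [commutatorElement_def]; group) (hcy u hu) (hcy y hy)]
      obtain ⟨k, hk⟩ := he2
      obtain ⟨l, hl⟩ := he
      rw [hk, pow_mul, hexp y hy u hu, one_pow, one_mul, hydef, conj_pow, inv_pow]
      have hpe : (u ^ e)⁻¹ ∈ Φ := by
        rw [hl, pow_mul]; exact inv_mem (pow_mem (hpow u hu) l)
      have hfix' : a * (u ^ e)⁻¹ = (u ^ e)⁻¹ * a :=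
        (Subgroup.mem_centralizer_iff.mp (hAΦc ha) _ hpe).symm
      rw [hfix', mul_inv_cancel_right, mul_inv_cancel]
    have e' : ⁅u, a⁆ = u * y := by rw [hydef, commutatorElement_def]; group
    rw [e']
    exact Subgroup.mem_centralizer_iff.mpr fun b hb => hfix _ (mul_mem hu hy) hord b hb
  exact Subgroup.le_centralizer_iff.mp hall

end Cfsg.Agent.Invol
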