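import Mathlib
import Cfsg.Prelude.Def_Transfer
import Cfsg.Agent.Lib.Grp.Basic
import Cfsg.Agent.Lib.Grp.Frattini
import Cfsg.Agent.Lib.Grp.Coprime
import Cfsg.Agent.Lib.Invol.SmallFixed
import Cfsg.Agent.Lib.Invol.SmallFixedExponent

/-!
Subgroups of one fixed order of a `p`-group that are closed in their normalizers: the key lemma
about `p'`-operators.
-/

set_option autoImplicit false
set_option linter.style.haveILetI false
set_option linter.deprecated false

namespace Cfsg.Agent.Invol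

open Subgroup
open scoped Pointwise commutatorElement

universe u

variable {G : Type u} [Group G]

/-- Order `d`, or order `4` when `d = 2`. -/
def FamOrder (d : ℕ) (E : Subgroup G) : Prop := Nat.card E = d ∨ (d = 2 ∧ Nat.card E = 4)

/-- `E` is closed in its normalizer with respect to `G`. -/
def ClosedInNormalizer (E : Subgroup G) : Prop :=
  ∀ g : G, E.map (MulAut.conj g).toMonoidHom ⊓ Subgroup.normalizer (E : Set G) ≤ E

theorem normalizes_of_conj_mem [Finite G] {U : Subgroup G} {g : G} (h : ∀ x ∈ U, g * x * g⁻¹ ∈ U) :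
    g ∈ Subgroup.normalizer (U : Set G) := by
  rw [Grp.mem_normalizer_of_map_eq]
  refine Subgroup.eq_of_le_of_card_ge (by rintro _ ⟨x, hx, rfl⟩; exact h x hx) ?_
  exact (Subgroup.card_map_of_injective (f := (MulAut.conj g).toMonoidHom) (MulAut.conj g).injective).ge

/-- Closed subgroups of a `p`-group are normal in it. -/
theorem ClosedInNormalizer.le_normalizer [Finite G] {p : ℕ} [Fact p.Prime] {P E : Subgroup G}
    (hc : ClosedInNormalizer E) (hP : IsPGroup p P) (hE : E ≤ P) :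
    P ≤ Subgroup.normalizer (E : Set G) := by
  by_contra hne
  set N₁ := P ⊓ Subgroup.normalizer (E : Set G) with hN₁
  haveI := hP.isNilpotent
  have hlt : N₁.subgroupOf P < ⊤ := by
    rw [lt_top_iff_ne_top, Ne, Subgroup.subgroupOf_eq_top, le_inf_iff]
    exact fun h => hne h.2
  obtain ⟨s, hs, hsn⟩ := SetLike.exists_of_lt (Group.normalizerCondition_of_isNilpotent _ hlt)
  have hsN : (s : G) ∈ Subgroup.normalizer (E : Set G) := by
    refine normalizes_of_conj_mem fun x hx => ?_
    have hxN : (⟨x, hE hx⟩ : P) ∈ N₁.subgroupOf P := ⟨hE hx, Subgroup.le_normalizer hx⟩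
    have h1 := (Subgroup.mem_normalizer_iff.1 hs _).1 hxN
    exact hc s ⟨⟨x, hx, rfl⟩, h1.2⟩
  exact hsn ⟨s.2, hsN⟩

/-- Closed subgroups of a `p`-group are strongly closed in it. -/
theorem ClosedInNormalizer.mem_of_conj_mem [Finite G] {p : ℕ} [Fact p.Prime] {P E : Subgroup G}
    (hc : ClosedInNormalizer E) (hP : IsPGroup p P) (hE : E ≤ P) {x h : G} (hx : x ∈ E)
    (hhx : h * x * h⁻¹ ∈ P) : h * x * h⁻¹ ∈ E :=
  hc h ⟨⟨x, hx, rfl⟩, hc.le_normalizer hP hE hhx⟩

/-- A chief step between two normal subgroups of a `p`-group. -/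
theorem exists_central_step [Finite G] {p : ℕ} [hp : Fact p.Prime] {P I E : Subgroup G}
    (hP : IsPGroup p P) (hE : E ≤ P) (hIE : I ≤ E) (hne : I ≠ E)
    (hPI : P ≤ Subgroup.normalizer (I : Set G)) (hPE : P ≤ Subgroup.normalizer (E : Set G)) :
    ∃ z ∈ E, z ∉ I ∧ z ^ p ∈ I ∧ ∀ h ∈ P, h * z * h⁻¹ * z⁻¹ ∈ I := by
  haveI : (I.subgroupOf P).Normal := Subgroup.normal_subgroupOf_of_le_normalizer hPI
  haveI : (E.subgroupOf P).Normal := Subgroup.normal_subgroupOf_of_le_normalizer hPE
  set π := QuotientGroup.mk' (I.subgroupOf P) with hπ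
  haveI hEn : ((E.subgroupOf P).map π).Normal :=
    Subgroup.Normal.map inferInstance π (QuotientGroup.mk'_surjective _)
  haveI : Group.IsNilpotent (P ⧸ I.subgroupOf P) := (hP.to_quotient _).isNilpotent
  have hbot : (E.subgroupOf P).map π ≠ ⊥ := by
    rw [Ne, Subgroup.map_eq_bot_iff, QuotientGroup.ker_mk']
    intro h
    exact hne (le_antisymm hIE fun x hx => h (show (⟨x, hE hx⟩ : P) ∈ E.subgroupOf P from hx))
  set W := (E.subgroupOf P).map π ⊓ Subgroup.center (P ⧸ I.subgroupOf P) with hW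
  have hW1 : W ≠ ⊥ := Grp.inf_center_ne_bot _ hbot
  obtain ⟨m, hm⟩ := IsPGroup.iff_card.1 ((hP.to_quotient (I.subgroupOf P)).to_subgroup W)
  have hdvd : p ∣ Nat.card W := by
    rcases m with _ | m
    · exact absurd (Subgroup.card_eq_one.1 hm) hW1
    · rw [hm]; exact dvd_pow_self p (Nat.succ_ne_zero m)
  obtain ⟨w, hw⟩ := exists_prime_orderOf_dvd_card' (G := W) p hdvd
  obtain ⟨z, hzE, hzw⟩ := w.2.1
  have hone : ∀ y : P, π y = 1 ↔ (y : G) ∈ I := fun y => QuotientGroup.eq_one_iff y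
  refine ⟨z, hzE, fun hz => ?_, ?_, fun h hh => ?_⟩
  · have : w = 1 := Subtype.ext (hzw.symm.trans ((hone z).2 hz))
    rw [this, orderOf_one] at hw
    exact hp.out.ne_one hw.symm
  · have := pow_orderOf_eq_one w
    rw [hw, Subtype.ext_iff, SubmonoidClass.coe_pow, ← hzw, ← map_pow] at this
    exact (hone _).1 this
  · have hcom := Subgroup.mem_center_iff.1 w.2.2 (π ⟨h, hh⟩)
    refine (hone (⟨h, hh⟩ * z * (⟨h, hh⟩ : P)⁻¹ * z⁻¹)).1 ?_
    rw [map_mul, map_mul, map_mul, map_inv, map_inv, hzw, hcom, mul_inv_cancel_right,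
      mul_inv_cancel]

/-- Coprime operators acting trivially on a subgroup of a `p`-group and on its cosets act trivially. -/
theorem fixed_of_trivial_steps [Finite G] {p : ℕ} [hp : Fact p.Prime] {U C : Subgroup G} {g : G}
    (hU : IsPGroup p U) (hCU : C ≤ U) (hg : (orderOf g).Coprime p)
    (hC : g ∈ Subgroup.centralizer (C : Set G)) (h : ∀ u ∈ U, g * u * g⁻¹ * u⁻¹ ∈ C) :
    g ∈ Subgroup.centralizer (U : Set G) := by
  rw [Subgroup.mem_centralizer_iff]
  intro u hu
  set v := g * u * g⁻¹ * u⁻¹ with hv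
  have hvC : v ∈ C := h u hu
  have hcv : g * v * g⁻¹ = v := by
    rw [← Subgroup.mem_centralizer_iff.1 hC v hvC, mul_inv_cancel_right]
  have hn : ∀ n : ℕ, g ^ n * u * (g ^ n)⁻¹ = v ^ n * u := by
    intro n
    induction n with
    | zero => simp
    | succ n ih =>
      calc g ^ (n + 1) * u * (g ^ (n + 1))⁻¹ = g * (g ^ n * u * (g ^ n)⁻¹) * g⁻¹ := by
            rw [pow_succ']; group
        _ = g * (v ^ n * u) * g⁻¹ := by rw [ih]
        _ = (g * v * g⁻¹) ^ n * (g * u * g⁻¹) := by rw [conj_pow]; group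
        _ = v ^ n * (v * u) := by rw [hcv, show v * u = g * u * g⁻¹ by rw [hv, inv_mul_cancel_right]]
        _ = v ^ (n + 1) * u := by rw [pow_succ, mul_assoc (v ^ n) v u]
  have h1 := hn (orderOf g)
  rw [pow_orderOf_eq_one, one_mul, inv_one, mul_one] at h1
  have h2 : v ^ orderOf g = 1 := mul_eq_right.1 h1.symm
  have h3 : v = 1 := by
    obtain ⟨k, hk⟩ := IsPGroup.iff_orderOf.1 hU ⟨v, hCU hvC⟩
    rw [Subgroup.orderOf_mk] at hk
    rw [← orderOf_eq_one_iff]
    exact Nat.eq_one_of_dvd_coprimes (hg.pow_right k) (orderOf_dvd_of_pow_eq_one h2) (hk ▸ dvd_rfl)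
  rw [hv, mul_inv_eq_one, mul_inv_eq_iff_eq_mul] at h3
  exact h3.symm

/-- The key lemma: a `p'`-element moving one of the invariant subgroups of `P` forces all elements
of `P` to have order less than `d`. -/
theorem orderOf_lt_of_moved [Finite G] {p : ℕ} [hp : Fact p.Prime] {P : Subgroup G}
    (hP : IsPGroup p P) {d : ℕ} (hd1 : 1 < d) (hdP : d ∣ Nat.card P)
    (hn : ∀ E : Subgroup G, E ≤ P → FamOrder d E → P ≤ Subgroup.normalizer (E : Set G))
    {g : G} (hg : (orderOf g).Coprime p) (Inv : Subgroup G → Prop)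
    (hle : ∀ U, Inv U → U ≤ P) (hnorm : ∀ U, Inv U → g ∈ Subgroup.normalizer (U : Set G))
    (hinf : ∀ U, Inv U → ∀ E : Subgroup G, E ≤ P → FamOrder d E → Inv (E ⊓ U))
    (hcyc : ∀ U, Inv U → IsCyclic U → g ∈ Subgroup.centralizer (U : Set G))
    (hquot : ∀ U C, Inv U → Inv C → C ≤ U → C.relIndex U = p → ∀ u ∈ U, g * u * g⁻¹ * u⁻¹ ∈ C)
    {U₀ : Subgroup G} (hU₀ : Inv U₀) (hbad : g ∉ Subgroup.centralizer (U₀ : Set G)) :
    ∀ x ∈ P, orderOf x < d := by
  obtain ⟨U, ⟨hU, hUbad⟩, hmin'⟩ := wellFounded_lt.has_min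
    {U : Subgroup G | Inv U ∧ g ∉ Subgroup.centralizer (U : Set G)} ⟨U₀, hU₀, hbad⟩
  have hmin : ∀ V, Inv V → V ≤ U → V ≠ U → g ∈ Subgroup.centralizer (V : Set G) :=
    fun V hV hVU hne => by_contra fun hc => hmin' V ⟨hV, hc⟩ (lt_of_le_of_ne hVU hne)
  have hUP := hle U hU
  have hUp : IsPGroup p U := hP.to_le hUP
  -- a small element of `U` moved by `g`
  obtain ⟨x, hxU, hxe, hxm⟩ : ∃ x ∈ U, x ^ (if p = 2 then 4 else p) = 1 ∧ x * g ≠ g * x := by
    by_contra hcon
    push Not at hcon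
    refine hUbad (le_centralizer_of_small_fixed (p := p) (e := if p = 2 then 4 else p) ?_ ?_ (Subgroup.zpowers g)
      (by rwa [Nat.card_zpowers]) U hUp ((Subgroup.zpowers_le).2 (hnorm U hU))
      (fun u hu hue a ha => ?_) (Subgroup.mem_zpowers g))
    · split_ifs with h2
      · subst h2; norm_num
      · exact dvd_rfl
    · split_ifs with h2
      · subst h2; decide
      · exact hp.out.dvd_choose_self two_ne_zero (by have := hp.out.two_le; omega)
    · obtain ⟨i, rfl⟩ := ha
      exact (Commute.zpow_right (hcon u hu hue) i).symm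
  have hxnot : ∀ V, Inv V → V ≤ U → x ∈ V → V = U := fun V hV hVU hxV =>
    by_contra fun hne => hxm (Subgroup.mem_centralizer_iff.1 (hmin V hV hVU hne) x hxV)
  have hx1 : x ≠ 1 := fun h => hxm (by rw [h, one_mul, mul_one])
  have hxo : orderOf x = p ∨ (p = 2 ∧ orderOf x = 4) := by
    have hdv := orderOf_dvd_of_pow_eq_one hxe
    split_ifs at hdv with h2
    · obtain ⟨i, hi, he⟩ := (Nat.dvd_prime_pow Nat.prime_two).1 (show orderOf x ∣ 2 ^ 2 from hdv)
      interval_cases i
      · exact absurd (orderOf_eq_one_iff.1 (he.trans (pow_zero 2))) hx1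
      · exact Or.inl (he.trans (by rw [h2, pow_one]))
      · exact Or.inr ⟨h2, he⟩
    · exact Or.inl (((Nat.dvd_prime hp.out).1 hdv).resolve_left fun h =>
        hx1 (orderOf_eq_one_iff.1 h))
  have hxP : Subgroup.zpowers x ≤ P := Subgroup.zpowers_le.2 (hUP hxU)
  obtain ⟨m, hm⟩ := IsPGroup.iff_card.1 hP
  obtain ⟨k, -, hk⟩ := (Nat.dvd_prime_pow hp.out).1 (hm ▸ hdP)
  have hdp : d ≠ p := by
    intro hdp
    have hfam : FamOrder d (Subgroup.zpowers x) := by
      rcases hxo with h | ⟨h2, h⟩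
      · exact Or.inl (by rw [Nat.card_zpowers, h, hdp])
      · exact Or.inr ⟨hdp.trans h2, by rw [Nat.card_zpowers, h]⟩
    have h1 := hxnot _ (hinf U hU _ hxP hfam) inf_le_right ⟨Subgroup.mem_zpowers x, hxU⟩
    rw [inf_eq_left.2 (Subgroup.zpowers_le.2 hxU)] at h1
    exact hUbad (hcyc U hU (h1 ▸ inferInstance))
  have hk2 : 2 ≤ k := by
    rcases k with _ | _ | k
    · simp [hk] at hd1
    · exact absurd (hk.trans (pow_one p)) hdp
    · omega
  -- a member of order `d` containing `x`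
  obtain ⟨E₁, hE₁P, hE₁c, hE₁U⟩ : ∃ E₁ : Subgroup G, E₁ ≤ P ∧ Nat.card E₁ = d ∧ U ≤ E₁ := by
    set X := (Subgroup.zpowers x).subgroupOf P with hX
    have hXc : Nat.card X = orderOf x := by
      rw [hX, Nat.card_congr (Subgroup.subgroupOfEquivOfLe hxP).toEquiv, Nat.card_zpowers]
    obtain ⟨j, hj, hjk⟩ : ∃ j, Nat.card X = p ^ j ∧ j ≤ k := by
      rcases hxo with h | ⟨h2, h⟩
      · exact ⟨1, by rw [hXc, h, pow_one], by omega⟩
      · exact ⟨2, by rw [hXc, h, h2]; norm_num, hk2⟩
    obtain ⟨K, hK, hXK⟩ := Sylow.exists_subgroup_card_pow_prime_le p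
      (show p ^ k ∣ Nat.card P from hk ▸ hdP) X hj hjk
    refine ⟨K.map P.subtype, Subgroup.map_subtype_le K, ?_, ?_⟩
    · rw [Subgroup.card_map_of_injective P.subtype_injective, hK, hk]
    · have hfam : FamOrder d (K.map P.subtype) :=
        Or.inl (by rw [Subgroup.card_map_of_injective P.subtype_injective, hK, hk])
      have hxK : x ∈ K.map P.subtype :=
        ⟨⟨x, hUP hxU⟩, hXK (show (⟨x, hUP hxU⟩ : P) ∈ X from Subgroup.mem_zpowers x), rfl⟩
      exact (hxnot _ (hinf U hU _ (Subgroup.map_subtype_le K) hfam) inf_le_right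
        ⟨hxK, hxU⟩).ge.trans inf_le_left
  -- neighbours of a member containing `U` contain `U`
  have hadj : ∀ A E : Subgroup G, A ≤ P → E ≤ P → Nat.card A = d → Nat.card E = d → U ≤ A →
      (∃ M : Subgroup G, M ≤ A ∧ M ≤ E ∧ Nat.card M * p = d) → U ≤ E := by
    intro A E hA hE hAc hEc hUA ⟨M, hMA, hME, hMc⟩
    have hVI : Inv (E ⊓ U) := hinf U hU E hE (Or.inl hEc)
    by_contra hne
    have hVne : E ⊓ U ≠ U := fun h => hne (h ▸ inf_le_left)
    have hMA' : M.relIndex A = p := by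
      have h1 := Grp.card_mul_relIndex hMA
      rw [hAc, ← hMc] at h1
      exact Nat.eq_of_mul_eq_mul_left Nat.card_pos h1
    have hAp : IsPGroup p A := hP.to_le hA
    have hMn : (M.subgroupOf A).Normal := by
      refine Subgroup.normal_of_index_eq_minFac_card ?_
      obtain ⟨a, ha⟩ := IsPGroup.iff_card.1 hAp
      have ha0 : a ≠ 0 := by
        rintro rfl
        rw [hAc, pow_zero] at ha; omega
      rw [← Subgroup.relIndex, hMA', ha, Nat.Prime.pow_minFac hp.out ha0]
    have h2 : (E ⊓ U).relIndex U ∣ p := by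
      have h3 : M.relIndex U ∣ p := by
        rw [← hMA']
        have := Subgroup.relIndex_dvd_of_le_left (H := M.subgroupOf A) (K := (M.subgroupOf A))
          (L := U.subgroupOf A) le_rfl
        rw [← Subgroup.relIndex_subgroupOf hUA]
        exact Subgroup.relIndex_dvd_index_of_normal (M.subgroupOf A) (U.subgroupOf A)
      refine dvd_trans (Subgroup.relIndex_dvd_of_le_left U (?_ : M ⊓ U ≤ E ⊓ U)) ?_
      · exact inf_le_inf_right U hME
      · rwa [Subgroup.inf_relIndex_right]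
    rcases (Nat.dvd_prime hp.out).1 h2 with h | h
    · exact hVne (le_antisymm inf_le_right (Subgroup.relIndex_eq_one.1 h))
    · exact hUbad (fixed_of_trivial_steps hUp inf_le_right hg
        (hmin _ hVI inf_le_right hVne) (hquot U _ hU hVI inf_le_right h))
  -- all members contain `U`
  have hall : ∀ n : ℕ, ∀ A E : Subgroup G, A ≤ P → E ≤ P → Nat.card A = d → Nat.card E = d →
      U ≤ A → d - Nat.card ↥(A ⊓ E) < n → U ≤ E := by
    intro n
    induction n with
    | zero => intro A E _ _ _ _ _ h; exact absurd h (Nat.not_lt_zero _)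
    | succ n ih =>
      intro A E hA hE hAc hEc hUA hn'
      by_cases hEA : A ⊓ E = A
      · rwa [← Subgroup.eq_of_le_of_card_ge (inf_eq_left.1 hEA) (hEc.trans hAc.symm).le]
      set I := A ⊓ E with hI
      have hPA := hn A hA (Or.inl hAc)
      have hPE := hn E hE (Or.inl hEc)
      have hPI : P ≤ Subgroup.normalizer (I : Set G) := fun y hy =>
        normalizes_of_conj_mem fun z hz =>
          ⟨(Subgroup.mem_normalizer_iff.1 (hPA hy) z).1 hz.1,
            (Subgroup.mem_normalizer_iff.1 (hPE hy) z).1 hz.2⟩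
      have hIc : Nat.card I < d := hAc ▸ (lt_of_le_of_ne (Subgroup.card_le_of_le inf_le_left)
        fun h => hEA (Subgroup.eq_of_le_of_card_ge inf_le_left h.ge))
      have hIE : I ≠ E := fun h => absurd hEc (h ▸ hIc.ne)
      obtain ⟨z, hzE, hzI, hzp, hzc⟩ := exists_central_step hP hE inf_le_right hIE hPI hPE
      obtain ⟨i, hi⟩ := IsPGroup.iff_card.1 (hP.to_le (inf_le_left.trans hA) : IsPGroup p I)
      have hik : i ≤ k - 1 := by
        have : p ^ i < p ^ k := hi ▸ hk ▸ hIc
        have := (Nat.pow_lt_pow_iff_right hp.out.one_lt).1 this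
        omega
      obtain ⟨M', hM', hIM'⟩ := Sylow.exists_subgroup_card_pow_prime_le p
        (show p ^ (k - 1) ∣ Nat.card A by rw [hAc, hk]; exact pow_dvd_pow p (Nat.sub_le k 1))
        (I.subgroupOf A)
        (by rw [Nat.card_congr (Subgroup.subgroupOfEquivOfLe inf_le_left).toEquiv, hi]) hik
      set M := M'.map A.subtype with hM
      have hMA : M ≤ A := Subgroup.map_subtype_le M'
      have hIM : I ≤ M := by
        rw [hM, ← Subgroup.map_subgroupOf_eq_of_le (show I ≤ A from inf_le_left)]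
        exact Subgroup.map_mono hIM'
      have hMc : Nat.card M * p = d := by
        rw [hM, Subgroup.card_map_of_injective A.subtype_injective, hM', hk, ← pow_succ]
        congr 1; omega
      have hzM : Subgroup.zpowers z ≤ Subgroup.normalizer (M : Set G) := by
        refine Subgroup.zpowers_le.2 (normalizes_of_conj_mem fun y hy => ?_)
        have h1 := hzc y (hA (hMA hy))
        have e : z * y * z⁻¹ = (y * z * y⁻¹ * z⁻¹)⁻¹ * y := by group
        rw [e]
        exact M.mul_mem (M.inv_mem (hIM h1)) hy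
      have hzMn : z ∉ M := fun h => hzI ⟨hMA h, hzE⟩
      have hzc2 : Nat.card ↥(Subgroup.zpowers z ⊓ M) * p = orderOf z := by
        obtain ⟨l, hl⟩ := IsPGroup.iff_orderOf.1 (hP.to_le hE) ⟨z, hzE⟩
        rw [Subgroup.orderOf_mk] at hl
        obtain ⟨l, rfl⟩ : ∃ l', l = l' + 1 := Nat.exists_eq_succ_of_ne_zero (by
          rintro rfl
          rw [pow_zero, orderOf_eq_one_iff] at hl
          exact hzI (hl ▸ I.one_mem))
        have hzple : Subgroup.zpowers (z ^ p) ≤ Subgroup.zpowers z ⊓ M :=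
          Subgroup.zpowers_le.2 ⟨Subgroup.pow_mem _ (Subgroup.mem_zpowers z) p, hIM hzp⟩
        have hne' : Subgroup.zpowers z ⊓ M ≠ Subgroup.zpowers z :=
          fun h => hzMn (inf_eq_left.1 h (Subgroup.mem_zpowers z))
        have hd' := Subgroup.card_dvd_of_le hzple
        have hd'' : Nat.card ↥(Subgroup.zpowers z ⊓ M) ∣ p ^ (l + 1) := by
          rw [← hl, ← Nat.card_zpowers]; exact Subgroup.card_dvd_of_le inf_le_left
        rw [Nat.card_zpowers, orderOf_pow_of_dvd hp.out.ne_zero (hl ▸ dvd_pow_self p l.succ_ne_zero),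
          hl, pow_succ, Nat.mul_div_cancel _ hp.out.pos] at hd'
        obtain ⟨a, ha, ha'⟩ := (Nat.dvd_prime_pow hp.out).1 hd''
        rw [ha', Nat.pow_dvd_pow_iff_le_right hp.out.one_lt] at hd'
        rcases eq_or_lt_of_le ha with rfl | ha2
        · refine absurd (Subgroup.eq_of_le_of_card_ge inf_le_left ?_) hne'
          rw [Nat.card_zpowers, ha', hl]
        · rw [ha', hl, ← pow_succ]; congr 1; omega
      set E₃ := Subgroup.zpowers z ⊔ M with hE₃
      have hE₃P : E₃ ≤ P := sup_le (Subgroup.zpowers_le.2 (hE hzE)) (hMA.trans hA)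
      have hE₃c : Nat.card E₃ = d := by
        have h1 := Grp.card_sup_mul_card_inf hzM
        rw [Nat.card_zpowers, ← hzc2] at h1
        rw [← hMc]
        refine Nat.eq_of_mul_eq_mul_right (Nat.card_pos (α := ↥(Subgroup.zpowers z ⊓ M))) ?_
        rw [hE₃, h1]; ring
      have hU3 : U ≤ E₃ := hadj A E₃ hA hE₃P hAc hE₃c hUA ⟨M, hMA, le_sup_right, hMc⟩
      refine ih E₃ E hE₃P hE hE₃c hEc hU3 ?_
      have hlt : Nat.card I < Nat.card ↥(E₃ ⊓ E) := by
        refine lt_of_le_of_ne (Subgroup.card_le_of_le (le_inf (hIM.trans le_sup_right) inf_le_right))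
          fun h => hzI ?_
        exact (Subgroup.eq_of_le_of_card_ge (le_inf (hIM.trans le_sup_right) inf_le_right) h.ge).ge
          ⟨le_sup_left (b := M) (Subgroup.mem_zpowers z), hzE⟩
      omega
  intro y hy
  by_contra hlt
  push Not at hlt
  obtain ⟨j, hj⟩ := IsPGroup.iff_orderOf.1 hP ⟨y, hy⟩
  rw [Subgroup.orderOf_mk] at hj
  have hkj : k ≤ j := (Nat.pow_le_pow_iff_right hp.out.one_lt).1 (by rwa [← hk, ← hj])
  set C := Subgroup.zpowers (y ^ p ^ (j - k)) with hC
  have hCc : Nat.card C = d := by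
    rw [hC, Nat.card_zpowers, orderOf_pow_of_dvd (pow_ne_zero _ hp.out.ne_zero)
      (hj ▸ pow_dvd_pow p (Nat.sub_le j k)), hj, hk, Nat.pow_div (Nat.sub_le j k) hp.out.pos]
    congr 1; omega
  have hUC : U ≤ C := hall _ E₁ C hE₁P (Subgroup.zpowers_le.2 (P.pow_mem hy _)) hE₁c hCc hE₁U
    (Nat.lt_succ_self _)
  haveI : IsCyclic C := inferInstance
  exact hUbad (hcyc U hU (Subgroup.isCyclic_of_le hUC))

end Cfsg.Agent.Invol
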