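import Mathlib
import Cfsg.Prelude.Def_Transfer
import Cfsg.Agent.Lib.Invol.WeaklyHSub
import Cfsg.Agent.Lib.Invol.FunctorControl
import Cfsg.Agent.Lib.Transfer.Frobenius
import Cfsg.Agent.Lib.Transfer.Fusion
import Cfsg.Agent.Lib.Transfer.Tate

/-!
Normal `p`-complements from subgroups of one fixed order closed in their normalizers.
-/

set_option autoImplicit false
set_option linter.style.haveILetI false

namespace Cfsg.Agent.Invol

open Subgroup
open scoped Pointwise commutatorElement

universe u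

variable {G : Type u} [Group G]

theorem centralizes_cyclic_of_coprime [Finite G] {U : Subgroup G} [IsCyclic U] {g : G}
    (hg : g ∈ Subgroup.normalizer (U : Set G))
    (hc : (orderOf g).Coprime (Nat.card U).totient) : g ∈ Subgroup.centralizer (U : Set G) := by
  set N := Subgroup.normalizer (U : Set G) with hN
  have hUN : U ≤ N := Subgroup.le_normalizer
  haveI : (U.subgroupOf N).Normal := Subgroup.normal_subgroupOf_of_le_normalizer le_rfl
  haveI : IsCyclic (U.subgroupOf N) :=
    isCyclic_of_surjective (Subgroup.subgroupOfEquivOfLe hUN).symm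
      (Subgroup.subgroupOfEquivOfLe hUN).symm.surjective
  set f : N →* MulAut (U.subgroupOf N) := MulAut.conjNormal with hf
  have h1 : orderOf (f ⟨g, hg⟩) = 1 := by
    refine Nat.eq_one_of_dvd_coprimes hc ((orderOf_map_dvd _ _).trans (by rw [Subgroup.orderOf_mk])) ?_
    have h2 := orderOf_dvd_natCard (f ⟨g, hg⟩)
    rwa [IsCyclic.card_mulAut, Nat.card_congr (Subgroup.subgroupOfEquivOfLe hUN).toEquiv] at h2
  rw [orderOf_eq_one_iff] at h1
  rw [Subgroup.mem_centralizer_iff]
  intro u hu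
  have h3 := congrArg (fun σ : MulAut (U.subgroupOf N) => ((σ ⟨⟨u, hUN hu⟩, hu⟩ : N) : G)) h1
  simp only [hf, MulAut.conjNormal_apply, Subgroup.coe_mul, InvMemClass.coe_inv,
    MulAut.one_apply] at h3
  exact (mul_inv_eq_iff_eq_mul.1 h3).symm

theorem totient_dvd {p : ℕ} (hp : p.Prime) (a : ℕ) : (p ^ a).totient ∣ p ^ a * (p - 1) := by
  rcases a with _ | a
  · simp
  · rw [Nat.totient_prime_pow hp a.succ_pos, Nat.succ_sub_one]
    exact mul_dvd_mul_right (pow_dvd_pow p (Nat.le_succ a)) _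

/-- An element of order prime to `p - 1` normalizing two subgroups of a `p`-group with index `p`
acts trivially on the quotient. -/
theorem trivial_on_step [Finite G] {p : ℕ} [hp : Fact p.Prime] {U C : Subgroup G} {g : G}
    (hU : IsPGroup p U) (hCU : C ≤ U) (hidx : C.relIndex U = p)
    (hgU : g ∈ Subgroup.normalizer (U : Set G)) (hgC : g ∈ Subgroup.normalizer (C : Set G))
    (hg : (orderOf g).Coprime (p - 1)) : ∀ u ∈ U, g * u * g⁻¹ * u⁻¹ ∈ C := by
  set L := Subgroup.normalizer (C : Set G) with hL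
  have hUL : U ≤ L := by
    refine (Subgroup.normal_subgroupOf_iff_le_normalizer hCU).1
      (Subgroup.normal_of_index_eq_minFac_card ?_)
    obtain ⟨a, ha⟩ := IsPGroup.iff_card.1 hU
    have ha0 : a ≠ 0 := by
      rintro rfl
      have := Subgroup.relIndex_dvd_card C U
      rw [hidx, ha, pow_zero, Nat.dvd_one] at this
      exact hp.out.ne_one this
    rw [← Subgroup.relIndex, hidx, ha, Nat.Prime.pow_minFac hp.out ha0]
  haveI : (C.subgroupOf L).Normal := Subgroup.normal_subgroupOf_of_le_normalizer le_rfl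
  set π := QuotientGroup.mk' (C.subgroupOf L) with hπ
  set V := (U.subgroupOf L).map π with hV
  have hVc : Nat.card V = p := by
    rw [hV, ← Subgroup.relIndex_ker, QuotientGroup.ker_mk', Subgroup.relIndex_subgroupOf hUL, hidx]
  haveI : IsCyclic V := isCyclic_of_prime_card hVc
  have hgV : π ⟨g, hgC⟩ ∈ Subgroup.normalizer (V : Set (L ⧸ C.subgroupOf L)) := by
    refine normalizes_of_conj_mem ?_
    rintro _ ⟨⟨u, huL⟩, hu, rfl⟩
    refine ⟨⟨g, hgC⟩ * ⟨u, huL⟩ * (⟨g, hgC⟩ : L)⁻¹, ?_, by simp only [map_mul, map_inv]⟩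
    exact (Subgroup.mem_normalizer_iff.1 hgU u).1 hu
  have hcop : (orderOf (π ⟨g, hgC⟩)).Coprime (Nat.card V).totient := by
    rw [hVc, Nat.totient_prime hp.out]
    exact Nat.Coprime.coprime_dvd_left ((orderOf_map_dvd _ _).trans (by rw [Subgroup.orderOf_mk])) hg
  intro u hu
  have h1 := Subgroup.mem_centralizer_iff.1 (centralizes_cyclic_of_coprime hgV hcop) (π ⟨u, hUL hu⟩)
    ⟨_, hu, rfl⟩
  refine (QuotientGroup.eq_one_iff (N := C.subgroupOf L)
    (⟨g, hgC⟩ * ⟨u, hUL hu⟩ * (⟨g, hgC⟩ : L)⁻¹ * (⟨u, hUL hu⟩ : L)⁻¹)).1 ?_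
  show π _ = 1
  rw [map_mul, map_mul, map_mul, map_inv, map_inv, ← h1, mul_inv_cancel_right, mul_inv_cancel]

theorem coprime_of_smallest [Finite G] {p : ℕ} (hp : p.Prime)
    (hmin : ∀ q : ℕ, q.Prime → q ∣ Nat.card G → p ≤ q) (g : G) : (orderOf g).Coprime (p - 1) := by
  refine Nat.coprime_of_dvd fun q hq hq1 hq2 => ?_
  have h1 := hmin q hq (hq1.trans (orderOf_dvd_natCard g))
  have h2 := Nat.le_of_dvd (by have := hp.two_le; omega) hq2
  have := hp.two_le
  omega

/-- The normal `p`-complement criterion for subgroups of a fixed order. -/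
theorem hasNormalPComplement_of_closed [Finite G] {p : ℕ} [hp : Fact p.Prime]
    (hmin : ∀ q : ℕ, q.Prime → q ∣ Nat.card G → p ≤ q) (P : Sylow p G)
    (h : IsCyclic ↥(P : Subgroup G) ∨ ∃ d : ℕ, 1 < d ∧ d < Nat.card (P : Subgroup G) ∧
      d ∣ Nat.card (P : Subgroup G) ∧
      ∀ E : Subgroup G, E ≤ (P : Subgroup G) → FamOrder d E → ClosedInNormalizer E) :
    Cfsg.HasNormalPComplement p G := by
  have hPp : IsPGroup p (P : Subgroup G) := P.isPGroup'
  have hcyc : ∀ (U : Subgroup G), U ≤ (P : Subgroup G) → IsCyclic U → ∀ g ∈ Subgroup.normalizer (U : Set G),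
      (orderOf g).Coprime p → g ∈ Subgroup.centralizer (U : Set G) := by
    intro U hU hUc g hgn hgp
    obtain ⟨a, ha⟩ := IsPGroup.iff_card.1 (hPp.to_le hU)
    refine centralizes_cyclic_of_coprime hgn (Nat.Coprime.coprime_dvd_right ?_
      ((hgp.pow_right a).mul_right (coprime_of_smallest hp.out hmin g)))
    rw [ha]; exact totient_dvd hp.out a
  by_cases hF : Transfer.FrobeniusCondition p (P : Subgroup G)
  · exact (Transfer.hasNormalPComplement_iff_frobeniusCondition P).2 hF
  simp only [Transfer.FrobeniusCondition, not_forall] at hF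
  obtain ⟨Q, hQ, g, hgn, hgp, hgbad⟩ := hF
  rcases h with hc | ⟨d, hd1, hdlt, hdP, hcl⟩
  · haveI := hc
    exact absurd (hcyc Q hQ (Subgroup.isCyclic_of_le hQ) g hgn hgp) hgbad
  have hn := fun E hE hE' => (hcl E hE hE').le_normalizer hPp hE
  have hord : ∀ x ∈ (P : Subgroup G), orderOf x < d := by
    refine orderOf_lt_of_moved hPp hd1 hdP hn hgp
      (fun U => U ≤ (P : Subgroup G) ∧ g ∈ Subgroup.normalizer (U : Set G))
      (fun U h => h.1) (fun U h => h.2) ?_ (fun U h hc => hcyc U h.1 hc g h.2 hgp) ?_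
      (U₀ := Q) ⟨hQ, hgn⟩ hgbad
    · intro U hU E hE hE'
      refine ⟨inf_le_left.trans hE, normalizes_of_conj_mem fun x hx => ?_⟩
      have h1 := (Subgroup.mem_normalizer_iff.1 hU.2 x).1 hx.2
      exact ⟨(hcl E hE hE').mem_of_conj_mem hPp hE hx.1 (hU.1 h1), h1⟩
    · intro U C hU hC hCU hidx
      exact trivial_on_step (hPp.to_le hU.1) hCU hidx hU.2 hC.2 (coprime_of_smallest hp.out hmin g)
  obtain ⟨m, hm⟩ := IsPGroup.iff_card.1 hPp
  obtain ⟨k, -, hk⟩ := (Nat.dvd_prime_pow hp.out).1 (hm ▸ hdP)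
  -- fusion moves elements only inside `Φ(P)`
  have hfoc : ∀ M₀ : Subgroup (P : Subgroup G), IsCoatom M₀ →
      commutator G ⊓ (P : Subgroup G) ≤ M₀.map (P : Subgroup G).subtype := by
    intro M₀ hM₀
    obtain ⟨hM₀n, hM₀i⟩ := Grp.coatom_index_eq_of_pGroup hPp hM₀
    set M := M₀.map (P : Subgroup G).subtype with hM
    have hMP : M ≤ (P : Subgroup G) := Subgroup.map_subtype_le _
    have hMi : M.relIndex (P : Subgroup G) = p := by
      rw [hM, Subgroup.relIndex, Subgroup.subgroupOf,
        Subgroup.comap_map_eq_self_of_injective (Subgroup.subtype_injective _), hM₀i]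
    have hMc : d ≤ Nat.card M := by
      have h1 := Grp.card_mul_relIndex hMP
      rw [hMi, hm] at h1
      rw [hk, hm] at hdlt
      have hkm := (Nat.pow_lt_pow_iff_right hp.out.one_lt).1 hdlt
      rw [hk]
      obtain ⟨m, rfl⟩ : ∃ m', m = m' + 1 := ⟨m - 1, by omega⟩
      rw [pow_succ] at h1
      rw [Nat.eq_of_mul_eq_mul_right hp.out.pos h1]
      exact Nat.pow_le_pow_right hp.out.pos (by omega)
    have hclosed : ∀ a ∈ M, ∀ n : G, n * a * n⁻¹ ∈ (P : Subgroup G) → n * a * n⁻¹ ∈ M := by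
      intro a ha n hna
      obtain ⟨i, hi⟩ := IsPGroup.iff_card.1 (hPp.to_le ((Subgroup.zpowers_le.2 ha).trans hMP) :
        IsPGroup p (Subgroup.zpowers a))
      obtain ⟨b, hb⟩ := IsPGroup.iff_card.1 (hPp.to_le hMP)
      have hik : i ≤ k := by
        have := hord a (hMP ha)
        rw [← Nat.card_zpowers, hi, hk] at this
        exact ((Nat.pow_lt_pow_iff_right hp.out.one_lt).1 this).le
      have hkb : p ^ k ∣ Nat.card M := by
        rw [hk, hb] at hMc
        rw [hb]
        exact pow_dvd_pow p ((Nat.pow_le_pow_iff_right hp.out.one_lt).1 hMc)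
      obtain ⟨K, hK, hXK⟩ := Sylow.exists_subgroup_card_pow_prime_le p hkb
        ((Subgroup.zpowers a).subgroupOf M)
        (by rw [Nat.card_congr (Subgroup.subgroupOfEquivOfLe (Subgroup.zpowers_le.2 ha)).toEquiv, hi])
        hik
      have hKM : K.map M.subtype ≤ M := Subgroup.map_subtype_le K
      have haK : a ∈ K.map M.subtype :=
        ⟨⟨a, ha⟩, hXK (show (⟨a, ha⟩ : M) ∈ (Subgroup.zpowers a).subgroupOf M from
          Subgroup.mem_zpowers a), rfl⟩
      exact hKM ((hcl _ (hKM.trans hMP)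
        (Or.inl (by rw [Subgroup.card_map_of_injective M.subtype_injective, hK, hk]))).mem_of_conj_mem
          hPp (hKM.trans hMP) haK hna)
    have hMn : (M.subgroupOf (P : Subgroup G)).Normal := by
      rw [hM, Subgroup.subgroupOf, Subgroup.comap_map_eq_self_of_injective (Subgroup.subtype_injective _)]
      exact hM₀n
    refine Transfer.commutator_inf_sylow_le P fun x hx u hux => ?_
    refine alperin_induct P (fun A h => ∀ a ∈ A, a⁻¹ * (h * a * h⁻¹) ∈ M) (fun A a _ => by simp) ?_ ?_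
      (A := {x}) (Set.singleton_subset_iff.2 hx) (by rw [Set.image_singleton, Set.singleton_subset_iff]; exact hux) x rfl
    · intro A y z h1 h2 a ha
      have := M.mul_mem (h1 a ha) (h2 _ ⟨a, ha, rfl⟩)
      convert this using 1
      group
    · intro D hD n hnD A hA a ha
      have haD := hA ha
      have hnaD := (Subgroup.mem_normalizer_iff.1 hnD a).1 haD
      by_cases hDM : D ≤ M
      · exact M.mul_mem (M.inv_mem (hDM haD)) (hDM hnaD)
      have hnC : n ∈ Subgroup.normalizer ((D ⊓ M : Subgroup G) : Set G) :=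
        normalizes_of_conj_mem fun y hy =>
          ⟨(Subgroup.mem_normalizer_iff.1 hnD y).1 hy.1,
            hclosed y hy.2 n (hD.1 ((Subgroup.mem_normalizer_iff.1 hnD y).1 hy.1))⟩
      have hidx : (D ⊓ M).relIndex D = p := by
        have h2 : (D ⊓ M).relIndex D ∣ p := by
          rw [Subgroup.inf_relIndex_left, ← hMi, ← Subgroup.relIndex_subgroupOf hD.1]
          exact Subgroup.relIndex_dvd_index_of_normal (M.subgroupOf (P : Subgroup G))
            (D.subgroupOf (P : Subgroup G))
        refine ((Nat.dvd_prime hp.out).1 h2).resolve_left fun h => hDM ?_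
        rw [Subgroup.relIndex_eq_one] at h
        exact h.trans inf_le_right
      have h3 := trivial_on_step (hPp.to_le hD.1) inf_le_left hidx hnD hnC
        (coprime_of_smallest hp.out hmin n) a haD
      have h4 : a⁻¹ * (n * a * n⁻¹ * a⁻¹) * a ∈ M := by
        have h5 := hMn.conj_mem ⟨_, hMP h3.2⟩ h3.2 (⟨a, hD.1 haD⟩⁻¹ : (P : Subgroup G))
        simpa [Subgroup.mem_subgroupOf] using h5
      convert h4 using 1
      group
  set K := pResidual p G with hK
  have hKP : K ⊓ (P : Subgroup G) ≤ (frattini (P : Subgroup G)).map (P : Subgroup G).subtype := by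
    intro x hx
    have hxc : x ∈ commutator G ⊓ (P : Subgroup G) :=
      ⟨Transfer.sylow_inf_pResidual_le_commutator P ⟨hx.2, hx.1⟩, hx.2⟩
    refine ⟨⟨x, hx.2⟩, ?_, rfl⟩
    show (⟨x, hx.2⟩ : (P : Subgroup G)) ∈ frattini _
    rw [frattini, Order.radical, Subgroup.mem_iInf]
    intro M₀
    rw [Subgroup.mem_iInf]
    intro hM₀
    obtain ⟨y, hy, hyx⟩ := hfoc M₀ hM₀ hxc
    rwa [show (⟨x, hx.2⟩ : (P : Subgroup G)) = y from Subtype.ext hyx.symm]
  haveI : K.Normal := Transfer.instNormalPResidual p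
  have hKn := Transfer.hasNormalPComplement_of_inf_le_frattini P K hKP
  rw [Transfer.hasNormalPComplement_iff_exists] at hKn ⊢
  obtain ⟨N, hNn, hNd, j, hj⟩ := hKn
  haveI := hNn
  have hNe : N = pResidual p K := Transfer.eq_pResidual hNd hj
  haveI : N.Characteristic := hNe ▸ Transfer.pResidual_characteristic p K
  obtain ⟨i, hi⟩ := Transfer.exists_pResidual_index (G := G) p
  refine ⟨N.map K.subtype, inferInstance, ?_, j + i, ?_⟩
  · rwa [Subgroup.card_map_of_injective K.subtype_injective]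
  · rw [Subgroup.index_map_subtype, hj, hi, pow_add]

end Cfsg.Agent.Invol
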