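import Mathlib
import Cfsg.Agent.Lib.Invol.KInfCritical
import Cfsg.Agent.Lib.Invol.WeakClosure

/-!
# The lower K-infinity subgroup and weak closure
-/

set_option autoImplicit false
set_option linter.style.haveILetI false

open scoped commutatorElement

namespace Cfsg.Agent.Invol

universe u

variable {G : Type u} [Group G] [Finite G] {p : ℕ} [hp : Fact p.Prime]

/-- The functor `P ↦ K_∞(P)` contains the centre. -/
theorem center_le_kInfFunctor (P : Subgroup G) :
    P ⊓ Subgroup.centralizer (P : Set G) ≤ Cfsg.inducedFunctor Cfsg.kInfLower P := by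
  intro z hz
  refine ⟨⟨z, hz.1⟩, KInf.center_le_kInf.1 (Subgroup.mem_center_iff.mpr fun w => Subtype.ext ?_), rfl⟩
  exact Subgroup.mem_centralizer_iff.mp hz.2 w w.2

/-- Where the lower K-infinity subgroup is not normal some element outside `O_p` acts quadratically on
`Z(O_p)`. -/
theorem exists_quadratic_on_center {H T : Subgroup G} (hT : Grp.IsSylowIn p T H)
    (hn : ¬ H ≤ Subgroup.normalizer (Cfsg.inducedFunctor Cfsg.kInfLower T : Set G))
    (S : Sylow p H) (hS : (S : Subgroup H) = T.subgroupOf H) :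
    ∃ g ∈ (S : Subgroup H), g ∉ Cfsg.pCore p H ∧
      ⁅⁅Cfsg.pCore p H ⊓ Subgroup.centralizer (Cfsg.pCore p H : Set H), Subgroup.zpowers g⁆,
        Subgroup.zpowers g⁆ = ⊥ := by
  have hmap : (S : Subgroup H).map H.subtype = T := by
    rw [hS]; exact Subgroup.map_subgroupOf_eq_of_le hT.1
  have hnn : ¬ (Cfsg.inducedFunctor Cfsg.kInfLower (S : Subgroup H)).Normal := by
    intro hN
    refine hn ?_
    have h1 := inducedFunctor_map (KInf.isCharPFunctor_kInfLower p) S.isPGroup' H.subtype
      (fun x _ hx => H.subtype_injective (hx.trans (map_one _).symm))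
    rw [hmap] at h1
    have h2 := Subgroup.le_normalizer_map (H := Cfsg.inducedFunctor Cfsg.kInfLower (S : Subgroup H)) H.subtype
    rw [Subgroup.normalizer_eq_top_iff.mpr hN, ← MonoidHom.range_eq_map, Subgroup.range_subtype] at h2
    rw [h1]; exact h2
  haveI hTn : (Cfsg.pCore p H).Normal := Grp.pCore_isNormal
  obtain ⟨A, hAn, hAT, hTA, hA2, hC⟩ := exists_critical_normal (Grp.pCore_isPGroup (p := p) (G := H))
  haveI := hAn
  obtain ⟨g, hgS, hgT, hg, -⟩ := KInf.exists_cubic_element S A hAT hA2 hTA hC (Or.inl hnn)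
  refine ⟨g, hgS, hgT, le_bot_iff.mp (le_trans
    (Subgroup.commutator_mono (Subgroup.commutator_mono ?_ le_rfl) le_rfl) hg.2.le)⟩
  have h1 : Cfsg.pCore p H ⊓ Subgroup.centralizer ((Cfsg.pCore p H : Subgroup H) : Set H) ≤
      Subgroup.centralizer (A : Set H) := inf_le_right.trans (Subgroup.centralizer_le hAT)
  exact le_inf ((le_inf inf_le_left h1).trans hC) h1

theorem controlsWeakClosureOfElementsIn_kInfLower (hp2 : p ≠ 2) (H : Subgroup G) :
    Cfsg.ControlsWeakClosureOfElementsIn p (Cfsg.inducedFunctor (G := G) Cfsg.kInfLower) H := by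
  refine controlsWeakClosureOfElementsIn_of_nilp _ (isConjugacyFunctor_induced (KInf.isCharPFunctor_kInfLower p))
    (fun P _ => center_le_kInfFunctor P) (fun K T hT hn S hS => ?_) H
  obtain ⟨g, hgS, hgT, hg⟩ := exists_quadratic_on_center hT hn S hS
  refine ⟨g, hgS, hgT, fun U V hUV hU => ?_⟩
  haveI := hUV.2.2.1
  have h2 : Cfsg.iterCommutator U (Subgroup.zpowers g) 2 ≤ V :=
    ((iterCommutator_mono hU le_rfl 2).trans hg.le).trans bot_le
  have hp3 : 3 ≤ p := Nat.lt_of_le_of_ne hp.out.two_le (Ne.symm hp2)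
  rw [show p - 1 = 2 + (p - 3) by omega]
  clear hp3
  induction (p - 3) with
  | zero => exact h2
  | succ d ih => exact (Subgroup.commutator_mono ih le_rfl).trans (Subgroup.commutator_le_left V _)

end Cfsg.Agent.Invol
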