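import Mathlib

/-!
The centralizer of a double transposition in the alternating group of degree six.
-/

set_option autoImplicit false

namespace Cfsg.Agent.Invol.A6Cent

open Equiv

/-- the double transposition -/
def c₀ : Perm (Fin 6) := swap 0 1 * swap 2 3

/-- the element of order four -/
def ρ : Perm (Fin 6) := swap 0 3 * swap 0 1 * swap 0 2 * swap 4 5

/-- the reflection -/
def σ₀ : Perm (Fin 6) := swap 0 1 * swap 4 5

/-- the dihedral group inside the symmetric group -/
def φ : DihedralGroup 4 → Perm (Fin 6)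
  | .r i => ρ ^ i.val
  | .sr i => σ₀ * ρ ^ i.val

theorem φ_mul : ∀ a b : DihedralGroup 4, φ (a * b) = φ a * φ b := by decide

theorem φ_inj : ∀ a b : DihedralGroup 4, φ a = φ b → a = b := by decide

theorem φ_props : ∀ a : DihedralGroup 4, Perm.sign (φ a) = 1 ∧ φ a * c₀ = c₀ * φ a := by decide

/-- a map commuting with `c₀` -/
def cand (a b c : Fin 6) : Fin 6 → Fin 6 := ![a, c₀ a, b, c₀ b, c, if c = 4 then 5 else 4]

theorem cand_cases : ∀ a b c : Fin 6, c₀ c = c → (∀ i j, cand a b c i = cand a b c j → i = j) →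
    ∃ d : DihedralGroup 4, (∀ x, cand a b c x = φ d x) ∨ (∀ x, cand a b c x = φ d (swap 4 5 x)) := by
  decide

theorem exists_of_comm {g : Perm (Fin 6)} (hg : g * c₀ = c₀ * g) (hs : Perm.sign g = 1) :
    ∃ d, φ d = g := by
  have h : ∀ x, g (c₀ x) = c₀ (g x) := fun x => congrArg (fun p : Perm (Fin 6) => p x) hg
  have h4 : c₀ (g 4) = g 4 := by rw [← h]; rfl
  have h5 : c₀ (g 5) = g 5 := by rw [← h]; rfl
  have key : ∀ u v : Fin 6, c₀ u = u → c₀ v = v → v ≠ u → v = if u = 4 then 5 else 4 := by decide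
  have hf : ∀ x, g x = cand (g 0) (g 2) (g 4) x := by
    intro x
    fin_cases x
    · rfl
    · exact h 0
    · rfl
    · exact h 2
    · rfl
    · exact key _ _ h4 h5 (fun e => absurd (g.injective e) (by decide))
  obtain ⟨d, hd | hd⟩ := cand_cases (g 0) (g 2) (g 4) h4 (fun i j e => g.injective (by rwa [hf i, hf j]))
  · exact ⟨d, Equiv.ext fun x => ((hf x).trans (hd x)).symm⟩
  · exfalso
    have he : g = φ d * swap 4 5 := Equiv.ext fun x => (hf x).trans (hd x)
    rw [he, map_mul, (φ_props d).1, one_mul, Perm.sign_swap (by decide)] at hs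
    exact absurd hs (by decide)

theorem centralizer_equiv (a : alternatingGroup (Fin 6)) (ha : orderOf a = 2)
    (hs : (a : Perm (Fin 6)).support.card = 4) :
    Nonempty (Subgroup.centralizer ({a} : Set (alternatingGroup (Fin 6))) ≃* DihedralGroup 4) := by
  have hct : ∀ p : Perm (Fin 6), orderOf p = 2 → p.support.card = 4 → p.cycleType = Multiset.replicate 2 2 := by
    intro p hp hpc
    obtain ⟨n, hn⟩ := Perm.cycleType_prime_order (by rw [hp]; exact Nat.prime_two)
    rw [hp] at hn
    have := p.sum_cycleType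
    rw [hn, Multiset.sum_replicate, smul_eq_mul, hpc] at this
    rw [hn, show n + 1 = 2 by omega]
  have hc : IsConj (a : Perm (Fin 6)) c₀ := by
    rw [Perm.isConj_iff_cycleType_eq, hct _ (by rw [Subgroup.orderOf_coe, ha]) hs,
      hct c₀ (orderOf_eq_prime (by decide) (by decide)) (by decide)]
  obtain ⟨σ, hσ⟩ := isConj_iff.1 hc
  set θ : MulAut (alternatingGroup (Fin 6)) := MulAut.conjNormal σ with hθ
  have hθv : ∀ x, (θ x : Perm (Fin 6)) = σ * x * σ⁻¹ := fun x => MulAut.conjNormal_apply σ x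
  have hmem : ∀ d, (θ⁻¹ ⟨φ d, (φ_props d).1⟩ : alternatingGroup (Fin 6)) ∈
      Subgroup.centralizer ({a} : Set (alternatingGroup (Fin 6))) := by
    intro d
    rw [Subgroup.mem_centralizer_singleton_iff]
    apply θ.injective
    rw [map_mul, map_mul, MulAut.apply_inv_self]
    apply Subtype.ext
    show φ d * (θ a : Perm (Fin 6)) = (θ a : Perm (Fin 6)) * φ d
    rw [hθv, hσ]
    exact (φ_props d).2
  let f : DihedralGroup 4 →* Subgroup.centralizer ({a} : Set (alternatingGroup (Fin 6))) :=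
    MonoidHom.mk' (fun d => ⟨θ⁻¹ ⟨φ d, (φ_props d).1⟩, hmem d⟩) (fun x y => by
      apply Subtype.ext
      show θ⁻¹ _ = θ⁻¹ _ * θ⁻¹ _
      rw [← map_mul]
      exact congrArg _ (Subtype.ext (φ_mul x y)))
  refine ⟨(MulEquiv.ofBijective f ⟨fun x y h => ?_, fun c => ?_⟩).symm⟩
  · exact φ_inj x y (congrArg Subtype.val (θ⁻¹.injective (congrArg Subtype.val h)))
  · have h1 := congrArg (fun z => (θ z : Perm (Fin 6))) (Subgroup.mem_centralizer_singleton_iff.1 c.2)
    simp only [map_mul, Subgroup.coe_mul, hθv a, hσ] at h1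
    obtain ⟨d, hd⟩ := exists_of_comm h1 (θ c.1).2
    refine ⟨d, Subtype.ext (θ.injective ?_)⟩
    show θ (θ⁻¹ _) = θ c.1
    rw [MulAut.apply_inv_self]
    exact Subtype.ext hd

end Cfsg.Agent.Invol.A6Cent
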