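import Mathlib
import Cfsg.Agent.S0144
import Cfsg.Agent.Lib.Grp.Cores
import Cfsg.Agent.Lib.Grp.DisconnectedGraph
import Cfsg.Prelude.Def_CaseTheorems

/-!
# Groups whose `p'`-subgroups are abelian of exponent dividing `p - 1`: reduction and first facts
-/

set_option autoImplicit false

namespace Cfsg.Agent.Invol.AbP

open Subgroup

universe u

/-- All `p'`-subgroups are abelian of exponent dividing `p - 1`. -/
def Good (p : ℕ) (G : Type*) [Group G] : Prop :=
  ∀ H : Subgroup G, (Nat.card ↥H).Coprime p → IsMulCommutative ↥H ∧ ∀ x ∈ H, x ^ (p - 1) = 1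

/-- A minimal counterexample. -/
structure Min (p : ℕ) (G : Type*) [Group G] : Prop where
  five : 5 ≤ p
  simple : IsSimpleGroup G
  nab : ¬ IsMulCommutative G
  sol : ∀ H : Subgroup G, H ≠ ⊤ → Group.IsSolvable ↥H
  good : Good p G

section Good

variable {p : ℕ} {G : Type u} [Group G]

theorem Good.comm (h : Good p G) {H : Subgroup G} (hH : (Nat.card ↥H).Coprime p) {a b : G}
    (ha : a ∈ H) (hb : b ∈ H) : a * b = b * a :=
  congrArg Subtype.val ((h H hH).1.is_comm.comm ⟨a, ha⟩ ⟨b, hb⟩)

theorem Good.le_centralizer (h : Good p G) {H K L : Subgroup G} (hH : (Nat.card ↥H).Coprime p)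
    (hK : K ≤ H) (hL : L ≤ H) : K ≤ centralizer (L : Set G) :=
  fun _ ha => mem_centralizer_iff.mpr fun _ hb => h.comm hH (hL hb) (hK ha)

theorem Good.sub (h : Good p G) (H : Subgroup G) : Good p ↥H := by
  intro K hK
  have hc : (Nat.card ↥(K.map H.subtype)).Coprime p := by
    rwa [Subgroup.card_map_of_injective H.subtype_injective]
  refine ⟨⟨⟨fun a b => Subtype.ext (Subtype.ext ?_)⟩⟩, fun x hx => Subtype.ext ?_⟩
  · exact h.comm hc (mem_map_of_mem H.subtype a.2) (mem_map_of_mem H.subtype b.2)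
  · simpa using (h _ hc).2 _ (mem_map_of_mem H.subtype hx)

/-- Quotients by a normal subgroup of prime power order inherit the hypothesis. -/
theorem Good.quot [Finite G] [hp : Fact p.Prime] (h : Good p G) (N : Subgroup G) [N.Normal] {q : ℕ}
    (hq : q.Prime) (hN : IsPGroup q ↥N) : Good p (G ⧸ N) := by
  intro H hH
  have := Fact.mk hq
  obtain ⟨m, hm⟩ := IsPGroup.iff_card.mp hN
  set π := QuotientGroup.mk' N with hπ
  obtain ⟨K, hKc, hKH⟩ : ∃ K : Subgroup G, (Nat.card ↥K).Coprime p ∧ H ≤ K.map π := by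
    set L := H.comap π with hL
    have hNL : N ≤ L := fun x hx => by
      rw [hL, mem_comap, show π x = 1 from (QuotientGroup.eq_one_iff x).mpr hx]; exact one_mem _
    have hLH : L.map π = H := map_comap_eq_self_of_surjective (QuotientGroup.mk'_surjective N) H
    have hidx : N.relIndex L = Nat.card ↥H := by
      rw [← hLH, ← relIndex_ker (f := π) (K := L), hπ, QuotientGroup.ker_mk']
    by_cases hqp : q = p
    · subst hqp
      have hcop : (Nat.card ↥(N.subgroupOf L)).Coprime (N.subgroupOf L).index := by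
        rw [← relIndex, hidx, Nat.card_congr (subgroupOfEquivOfLe hNL).toEquiv, hm]
        exact Nat.Coprime.pow_left _ hH.symm
      obtain ⟨C, hC⟩ := exists_right_complement'_of_coprime hcop
      refine ⟨C.map L.subtype, ?_, ?_⟩
      · rw [card_map_of_injective L.subtype_injective, ← hC.symm.index_eq_card, ← relIndex, hidx]
        exact hH
      · rw [← hLH]
        rintro _ ⟨l, hl, rfl⟩
        obtain ⟨⟨n, c⟩, hnc⟩ := hC.2 ⟨l, hl⟩
        refine ⟨(c : ↥L), mem_map_of_mem L.subtype c.2, ?_⟩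
        have e : ((n : ↥L) : G) * ((c : ↥L) : G) = l := congrArg Subtype.val hnc
        rw [← e, map_mul, show π ((n : ↥L) : G) = 1 from (QuotientGroup.eq_one_iff _).mpr n.2, one_mul]
    · refine ⟨L, ?_, hLH.ge⟩
      rw [← Nat.card_congr (subgroupOfEquivOfLe hNL).toEquiv] at hm
      rw [← (N.subgroupOf L).card_mul_index, ← relIndex, hidx, hm]
      exact Nat.Coprime.mul_left (((Nat.coprime_primes hq hp.out).mpr hqp).pow_left _) hH
  refine ⟨⟨⟨fun a b => Subtype.ext ?_⟩⟩, fun x hx => ?_⟩
  · obtain ⟨a', ha', ea⟩ := hKH a.2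
    obtain ⟨b', hb', eb⟩ := hKH b.2
    show (a : G ⧸ N) * b = b * a
    rw [← ea, ← eb, ← map_mul, ← map_mul, h.comm hKc ha' hb']
  · obtain ⟨x', hx', rfl⟩ := hKH hx
    rw [← map_pow, (h K hKc).2 x' hx', map_one]

theorem Good.dvd_sub_one [Finite G] [hp : Fact p.Prime] (h : Good p G) {q : ℕ} (hq : q.Prime)
    (hd : q ∣ Nat.card G) (hne : q ≠ p) : q ∣ p - 1 := by
  have := Fact.mk hq
  obtain ⟨x, hx⟩ := exists_prime_orderOf_dvd_card' q hd
  have h1 := (h (zpowers x) (by rw [Nat.card_zpowers, hx]; exact (Nat.coprime_primes hq hp.out).mpr hne)).2 x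
    (mem_zpowers x)
  exact hx ▸ orderOf_dvd_of_pow_eq_one h1

theorem Good.lt [Finite G] [hp : Fact p.Prime] (h : Good p G) {q : ℕ} (hq : q.Prime)
    (hd : q ∣ Nat.card G) (hne : q ≠ p) : q < p := by
  have h1 := Nat.le_of_dvd (by have := hp.out.two_le; omega) (h.dvd_sub_one hq hd hne)
  have := hp.out.two_le
  omega

theorem isSolvable_two_three [Finite G] (h : Good p G) [hp : Fact p.Prime] (hp3 : p ≤ 3) :
    Group.IsSolvable G := by
  have key : ∀ q : ℕ, q.Prime → q ∣ Nat.card G → q = 2 ∨ q = 3 := by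
    intro q hq hd
    by_cases hne : q = p
    · subst hne; have := hq.two_le; omega
    · have := h.lt hq hd hne
      have := hq.two_le
      omega
  have hN : Nat.card G = 2 ^ (Nat.card G).factorization 2 * 3 ^ (Nat.card G).factorization 3 := by
    refine Nat.eq_of_factorization_eq Nat.card_pos.ne' (by positivity) fun r => ?_
    rw [Nat.factorization_mul (by positivity) (by positivity), Nat.Prime.factorization_pow Nat.prime_two,
      Nat.Prime.factorization_pow Nat.prime_three, Finsupp.add_apply, Finsupp.single_apply, Finsupp.single_apply]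
    by_cases hr : r ∈ (Nat.card G).primeFactors
    · rcases key r (Nat.prime_of_mem_primeFactors hr) (Nat.dvd_of_mem_primeFactors hr) with rfl | rfl <;> simp
    · rw [← Nat.support_factorization, Finsupp.notMem_support_iff] at hr
      rw [hr]
      split_ifs with h2 h3 h3 <;> simp_all
  exact Cfsg.Agent.S0144.result 2 3 _ _ Nat.prime_two Nat.prime_three hN

end Good

/-- The reduction to a simple minimal counterexample. -/
theorem isSolvable_of_good {p : ℕ} [hp : Fact p.Prime]
    (hmin : ∀ (G : Type u) [Group G] [Finite G], Min p G → False) :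
    ∀ (n : ℕ) (G : Type u) [Group G] [Finite G], Nat.card G = n → Good p G → Group.IsSolvable G := by
  intro n
  induction n using Nat.strong_induction_on with
  | _ n ih =>
  intro G _ _ hn hG
  have hsub : ∀ H : Subgroup G, H ≠ ⊤ → Group.IsSolvable ↥H := by
    intro H hH
    refine ih _ ?_ ↥H rfl (hG.sub H)
    rw [← hn]
    exact lt_of_le_of_ne (card_le_card_group H) fun e => hH (eq_top_of_card_eq H e)
  rcases subsingleton_or_nontrivial G with hs | hs
  · exact Group.isSolvable_of_comm fun a b => Subsingleton.elim _ _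
  by_cases hsimp : IsSimpleGroup G
  · by_cases hab : IsMulCommutative G
    · exact Group.isSolvable_of_comm fun a b => hab.is_comm.comm a b
    by_cases hp3 : p ≤ 3
    · exact isSolvable_two_three hG hp3
    refine (hmin G ⟨?_, hsimp, hab, hsub, hG⟩).elim
    rcases eq_or_ne p 4 with rfl | h4
    · exact absurd hp.out (by norm_num)
    · omega
  · obtain ⟨N, hN, hN1, hN2⟩ : ∃ N : Subgroup G, N.Normal ∧ N ≠ ⊥ ∧ N ≠ ⊤ := by
      by_contra hc
      push Not at hc
      exact hsimp ⟨fun H hH => or_iff_not_imp_left.mpr fun h1 => hc H hH h1⟩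
    have := hsub N hN2
    have : Nontrivial ↥N := (Subgroup.nontrivial_iff_ne_bot N).mpr hN1
    obtain ⟨q, Q, hq, hQn, hQq, hQ1⟩ := Cfsg.Agent.Grp.Graph.exists_normal_pGroup (G := ↥N)
    have := Fact.mk hq
    set W := Cfsg.pCore q ↥N with hW
    have hWn : W.Normal := Cfsg.Agent.Grp.pCore_isNormal
    have hQW : Q ≤ W := le_sSup ⟨hQn, hQq⟩
    have hWc : W.Characteristic := by
      rw [Subgroup.characteristic_iff_map_le]
      intro φ
      refine le_sSup ⟨hWn.map φ.toMonoidHom φ.surjective, ?_⟩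
      exact (Cfsg.Agent.Grp.pCore_isPGroup (p := q)).map _
    set V := W.map N.subtype with hV
    have hVn : V.Normal := by
      rw [hV]; exact ConjAct.normal_of_characteristic_of_normal
    have hVq : IsPGroup q ↥V := (Cfsg.Agent.Grp.pCore_isPGroup (p := q)).map _
    have hV1 : V ≠ ⊥ := fun e => hQ1 (le_bot_iff.mp (hQW.trans
      ((W.map_eq_bot_iff_of_injective N.subtype_injective).mp e).le))
    have hlt : Nat.card (G ⧸ V) < n := hn ▸ Cfsg.Agent.Grp.card_quotient_lt hV1
    have := ih _ hlt (G ⧸ V) rfl (hG.quot V hq hVq)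
    have : Group.IsSolvable ↥V := by
      have := hVq.isNilpotent
      infer_instance
    exact Group.isSolvable_of_ker_le_range V.subtype (QuotientGroup.mk' V)
      (le_of_eq ((QuotientGroup.ker_mk' V).trans V.range_subtype.symm))

/-- A `p`-element normalizing a small elementary `q`-group with `q + 1 < p` centralizes it. -/
theorem centralizes_small {G : Type*} [Group G] [Finite G] {p q : ℕ} [hp : Fact p.Prime] [hq : Fact q.Prime]
    (hqp : q + 1 < p) {P V : Subgroup G} (hP : IsPGroup p ↥P) (hPV : P ≤ normalizer (V : Set G))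
    (hVq : IsPGroup q ↥V) (hV : Nat.card ↥V ≤ q ^ 2) : P ≤ centralizer (V : Set G) := by
  letI : MulAction ↥P ↥V :=
    { smul := fun g v => ⟨g * v * (g : G)⁻¹, (mem_normalizer_iff.mp (hPV g.2) v).mp v.2⟩
      one_smul := fun v => Subtype.ext (by show (1 : G) * v * 1⁻¹ = v; group)
      mul_smul := fun g g' v => Subtype.ext (by
        show (g * g' : G) * v * (g * g' : G)⁻¹ = g * (g' * v * (g' : G)⁻¹) * (g : G)⁻¹; group) }
  have hmod := hP.card_modEq_card_fixedPoints ↥V
  set C := V ⊓ centralizer (P : Set G) with hC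
  have hfix : Nat.card (MulAction.fixedPoints ↥P ↥V) = Nat.card ↥C := by
    refine Nat.card_congr
      { toFun := fun v => ⟨v.1.1, v.1.2, mem_centralizer_iff.mpr fun g hg => ?_⟩
        invFun := fun c => ⟨⟨c.1, c.2.1⟩, fun g => Subtype.ext ?_⟩
        left_inv := fun _ => rfl
        right_inv := fun _ => rfl }
    · have h1 := congrArg Subtype.val (v.2 ⟨g, hg⟩)
      exact mul_inv_eq_iff_eq_mul.mp h1
    · show (g : G) * c * (g : G)⁻¹ = c
      rw [mem_centralizer_iff.mp c.2.2 g g.2, mul_inv_cancel_right]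
  rw [hfix] at hmod
  have hCV : C = V := by
    refine eq_of_le_of_card_ge inf_le_left ?_
    obtain ⟨i, hi⟩ := IsPGroup.iff_card.mp hVq
    obtain ⟨j, hj, hjC⟩ := (Nat.dvd_prime_pow hq.out).mp (hi ▸ card_dvd_of_le (inf_le_left (b := centralizer (P : Set G))))
    have hi2 : i ≤ 2 := (Nat.pow_le_pow_iff_right hq.out.one_lt).mp (hi ▸ hV)
    rw [hi, hjC]
    refine Nat.pow_le_pow_right hq.out.pos ?_
    by_contra hlt
    rw [hi, hjC, Nat.ModEq.comm, Nat.modEq_iff_dvd' (Nat.pow_le_pow_right hq.out.pos hj)] at hmod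
    rw [show i = j + (i - j) by omega, pow_add, ← Nat.mul_sub_one] at hmod
    rcases (Nat.Prime.dvd_mul hp.out).mp hmod with h1 | h1
    · have := (Nat.prime_dvd_prime_iff_eq hp.out hq.out).mp (hp.out.dvd_of_dvd_pow h1); omega
    · have hd : i - j = 1 ∨ i - j = 2 := by omega
      rcases hd with hd | hd <;> rw [hd] at h1
      · have := Nat.le_of_dvd (by have := hq.out.two_le; simp only [pow_one]; omega) h1
        simp only [pow_one] at this; omega
      · rw [show q ^ 2 - 1 = (q + 1) * (q - 1) by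
          have := Nat.sq_sub_sq q 1; simpa using this] at h1
        rcases (Nat.Prime.dvd_mul hp.out).mp h1 with h2 | h2 <;>
          have := Nat.le_of_dvd (by have := hq.out.two_le; omega) h2 <;> omega
  intro g hg
  refine mem_centralizer_iff.mpr fun v hv => ?_
  have h1 : v ∈ C := hCV.symm ▸ hv
  exact (mem_centralizer_iff.mp h1.2 g hg).symm

namespace Min

variable {p : ℕ} [hp : Fact p.Prime] {G : Type u} [Group G] [Finite G]

theorem normal_eq (h : Min p G) {N : Subgroup G} (hN : N.Normal) : N = ⊥ ∨ N = ⊤ :=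
  h.simple.eq_bot_or_eq_top_of_normal N hN

theorem perfect (h : Min p G) : commutator G = ⊤ := by
  rcases h.normal_eq (inferInstance : (commutator G).Normal) with e | e
  · refine absurd ⟨⟨fun a b => ?_⟩⟩ h.nab
    have := commutator_mem_commutator (mem_top a) (mem_top b)
    rw [← commutator_def, e, mem_bot, commutatorElement_eq_one_iff_mul_comm] at this
    exact this
  · exact e

theorem hom_trivial (h : Min p G) {A : Type*} [CommGroup A] (f : G →* A) (g : G) : f g = 1 := by
  have h1 := Abelianization.commutator_subset_ker f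
  exact MonoidHom.mem_ker.mp (h1 (h.perfect ▸ mem_top g))

theorem not_top_of_solvable (h : Min p G) {H : Subgroup G} (hH : Group.IsSolvable ↥H) : H ≠ ⊤ := by
  rintro rfl
  have : Group.IsSolvable G := Group.isSolvable_of_surjective (f := (topEquiv (G := G)).toMonoidHom) topEquiv.surjective
  have := h.simple
  exact h.nab ⟨⟨fun a b => IsSimpleGroup.comm_iff_isSolvable.mpr ‹Group.IsSolvable G› a b⟩⟩

theorem normalizer_ne_top (h : Min p G) {H : Subgroup G} (h1 : H ≠ ⊥) (h2 : H ≠ ⊤) :
    normalizer (H : Set G) ≠ ⊤ := fun e => by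
  rcases h.normal_eq (normalizer_eq_top_iff.mp e) with e' | e'
  · exact h1 e'
  · exact h2 e'

theorem pgroup_ne_top (h : Min p G) {q : ℕ} [Fact q.Prime] {H : Subgroup G} (hH : IsPGroup q ↥H) : H ≠ ⊤ := by
  refine h.not_top_of_solvable ?_
  have := hH.isNilpotent
  infer_instance

theorem centralizer_ne_top (h : Min p G) {x : G} (hx : x ≠ 1) : centralizer ({x} : Set G) ≠ ⊤ := by
  intro e
  have h1 : x ∈ center G := Subgroup.mem_center_iff.mpr fun g =>
    mem_centralizer_singleton_iff.mp (e.symm ▸ mem_top g)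
  rcases h.normal_eq (inferInstance : (center G).Normal) with e' | e'
  · exact hx (mem_bot.mp (e' ▸ h1))
  · exact h.nab ⟨⟨fun a b => (Subgroup.mem_center_iff.mp (e'.symm ▸ mem_top b) a)⟩⟩

variable {q : ℕ} [hq : Fact q.Prime]

theorem coprime_q (hne : q ≠ p) {R : Subgroup G} (hR : IsPGroup q ↥R) : (Nat.card ↥R).Coprime p := by
  obtain ⟨m, hm⟩ := IsPGroup.iff_card.mp hR
  rw [hm]
  exact ((Nat.coprime_primes hq.out hp.out).mpr hne).pow_left _

theorem sylow_comm (h : Min p G) (hne : q ≠ p) (R : Sylow q G) : IsMulCommutative ↥(R : Subgroup G) :=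
  (h.good _ (coprime_q hne R.isPGroup')).1

/-- Transfer: the normalizer of an abelian Sylow subgroup fixes only the identity in it. -/
theorem eq_one_of_fixed (h : Min p G) (R : Sylow q G) [IsMulCommutative ↥(R : Subgroup G)] {a : G}
    (ha : a ∈ (R : Subgroup G))
    (hfix : normalizer ((R : Subgroup G) : Set G) ≤ centralizer ({a} : Set G)) : a = 1 := by
  let φ : ↥(R : Subgroup G) →* Abelianization ↥(R : Subgroup G) := Abelianization.of
  have key : ∀ (k : ℕ) (g₀ : G), g₀⁻¹ * a ^ k * g₀ ∈ (R : Subgroup G) → g₀⁻¹ * a ^ k * g₀ = a ^ k := by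
    intro k g₀ hk
    obtain ⟨n, hn, e⟩ := R.conj_eq_normalizer_conj_of_mem (a ^ k) g₀ (pow_mem ha k) hk
    rw [e]
    have h1 : a * n = n * a := (mem_centralizer_singleton_iff.mp (hfix hn)).symm
    have h2 : Commute (a ^ k) n := (show Commute a n from h1).pow_left k
    rw [mul_assoc, h2.eq, inv_mul_cancel_left]
  have h1 := MonoidHom.transfer_eq_pow φ a key
  rw [h.hom_trivial] at h1
  have h2 : a ^ (R : Subgroup G).index = 1 := by
    letI : CommGroup ↥(R : Subgroup G) := { (inferInstance : Group ↥(R : Subgroup G)) with mul_comm := mul_comm' }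
    have h3 := congrArg (Abelianization.lift (MonoidHom.id ↥(R : Subgroup G))) h1
    rw [map_one, Abelianization.lift_apply_of] at h3
    exact congrArg Subtype.val h3.symm
  have hco : (orderOf a).Coprime (R : Subgroup G).index := by
    obtain ⟨m, hm⟩ := IsPGroup.iff_orderOf.mp R.isPGroup' ⟨a, ha⟩
    rw [Subgroup.orderOf_mk] at hm
    rw [hm]
    exact (hq.out.coprime_iff_not_dvd.mpr R.not_dvd_index).pow_left _
  exact orderOf_eq_one_iff.mp (Nat.Coprime.eq_one_of_dvd hco (orderOf_dvd_of_pow_eq_one h2))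

/-- An element of the normalizer of an abelian Sylow subgroup centralizing an element makes it central. -/
theorem no_fixed (h : Min p G) (hd : q ∣ Nat.card G) (hne : q ≠ p) (R : Sylow q G) {a : G}
    (ha : a ∈ (R : Subgroup G)) (ha1 : a ≠ 1)
    (hfix : normalizer ((R : Subgroup G) : Set G) ≤ centralizer ({a} : Set G)) : False :=
  have := h.sylow_comm hne R
  ha1 (h.eq_one_of_fixed R ha hfix)

theorem sylow_ne_bot (hd : q ∣ Nat.card G) (R : Sylow q G) : (R : Subgroup G) ≠ ⊥ :=
  R.ne_bot_of_dvd_card hd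

/-- Some `p`-element acts nontrivially on an abelian Sylow subgroup. -/
theorem exists_acting (h : Min p G) (hd : q ∣ Nat.card G) (hne : q ≠ p) (R : Sylow q G) :
    ∃ g ∈ normalizer ((R : Subgroup G) : Set G), (∃ k, orderOf g = p ^ k) ∧
      g ∉ centralizer ((R : Subgroup G) : Set G) := by
  by_contra hc
  push Not at hc
  obtain ⟨a, ha, ha1⟩ := (bot_or_exists_ne_one _).resolve_left (sylow_ne_bot hd R)
  refine h.no_fixed hd hne R ha ha1 fun n hn => ?_
  rw [mem_centralizer_singleton_iff]
  set P := (orderOf n).factorization p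
  set a' := orderOf n / p ^ P
  have hn1 : p ^ P * a' = orderOf n := Nat.ordProj_mul_ordCompl_eq_self (orderOf n) p
  have hcop : Nat.Coprime (p ^ P) a' := (Nat.coprime_ordCompl hp.out (orderOf_pos n).ne').pow_left _
  have hu : n ^ a' ∈ centralizer ((R : Subgroup G) : Set G) := by
    refine hc _ (pow_mem hn a') ⟨P, ?_⟩
    rw [orderOf_pow, ← hn1, Nat.gcd_eq_right ⟨p ^ P, mul_comm _ _⟩, Nat.mul_div_cancel]
    exact Nat.pos_of_ne_zero fun e => (orderOf_pos n).ne' (by rw [← hn1, e, mul_zero])
  have hv : n ^ (p ^ P) ∈ centralizer ((R : Subgroup G) : Set G) := by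
    set H := zpowers (n ^ (p ^ P)) ⊔ (R : Subgroup G) with hH
    have hHc : (Nat.card ↥H).Coprime p := by
      have hle : zpowers (n ^ (p ^ P)) ≤ normalizer ((R : Subgroup G) : Set G) :=
        zpowers_le.mpr (pow_mem hn _)
      refine Cfsg.Agent.Grp.card_sup_coprime_to hle ?_ (coprime_q hne R.isPGroup')
      rw [Nat.card_zpowers, orderOf_pow, ← hn1, Nat.gcd_eq_right ⟨a', rfl⟩, Nat.mul_div_cancel_left _ (pow_pos hp.out.pos _)]
      exact (Nat.coprime_ordCompl hp.out (orderOf_pos n).ne').symm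
    exact h.good.le_centralizer hHc le_sup_left le_sup_right (mem_zpowers _)
  obtain ⟨c, d, hcd⟩ : ∃ c d : ℤ, (p ^ P : ℕ) * c + (a' : ℤ) * d = 1 := by
    refine ⟨Nat.gcdA (p ^ P) a', Nat.gcdB (p ^ P) a', ?_⟩
    rw [← Nat.gcd_eq_gcd_ab, hcop.gcd_eq_one, Nat.cast_one]
  have e : n = (n ^ (p ^ P)) ^ c * (n ^ a') ^ d := by
    rw [← zpow_natCast n (p ^ P), ← zpow_natCast n a', ← zpow_mul, ← zpow_mul, ← zpow_add, hcd, zpow_one]
  have hmem : n ∈ centralizer ((R : Subgroup G) : Set G) :=
    e ▸ mul_mem (zpow_mem hv c) (zpow_mem hu d)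
  exact (mem_centralizer_iff.mp hmem a ha).symm

/-- Sylow subgroups for primes other than `p` have rank at least three. -/
theorem not_rank_two (h : Min p G) (hd : q ∣ Nat.card G) (hne : q ≠ p) (R : Sylow q G) :
    ¬ Cfsg.PRankLE q 2 ↥(R : Subgroup G) := by
  intro hr
  obtain ⟨g, hg, ⟨k, hk⟩, hgc⟩ := h.exists_acting hd hne R
  have hRc := h.sylow_comm hne R
  let Ω : Subgroup G :=
    { carrier := {a | a ∈ (R : Subgroup G) ∧ a ^ q = 1}
      one_mem' := ⟨one_mem _, one_pow _⟩
      mul_mem' := fun {a b} ha hb => ⟨mul_mem ha.1 hb.1, by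
        rw [(show Commute a b from congrArg Subtype.val (hRc.is_comm.comm ⟨a, ha.1⟩ ⟨b, hb.1⟩)).mul_pow,
          ha.2, hb.2, one_mul]⟩
      inv_mem' := fun {a} ha => ⟨inv_mem ha.1, by rw [inv_pow, ha.2, inv_one]⟩ }
  have hΩR : Ω ≤ (R : Subgroup G) := fun a ha => ha.1
  have hΩ2 : Nat.card ↥Ω ≤ q ^ 2 := by
    rw [← Nat.card_congr (subgroupOfEquivOfLe hΩR).toEquiv]
    exact hr (Ω.subgroupOf (R : Subgroup G))
      ⟨⟨fun a b => Subtype.ext (hRc.is_comm.comm a.1 b.1)⟩⟩
      (fun a ha => Subtype.ext (by simpa using (mem_subgroupOf.mp ha).2))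
  have hgN : ∀ a, a ∈ Ω → g * a * g⁻¹ ∈ Ω := fun a ha =>
    ⟨(mem_normalizer_iff.mp hg a).mp ha.1, by rw [conj_pow, ha.2, mul_one, mul_inv_cancel]⟩
  have hqp : q + 1 < p := by
    have h1 := h.good.lt hq.out hd hne
    have h5 := h.five
    rcases hq.out.eq_two_or_odd with rfl | hodd
    · omega
    · rcases hp.out.eq_two_or_odd with h2 | h2 <;> omega
  have hgΩ : zpowers g ≤ normalizer (Ω : Set G) := by
    rw [zpowers_le]
    refine mem_normalizer_fintype fun a ha => ?_
    exact hgN a ha
  have hpg : IsPGroup p ↥(zpowers g) := IsPGroup.of_card (by rw [Nat.card_zpowers, hk])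
  have hc := centralizes_small hqp hpg hgΩ (R.isPGroup'.to_le hΩR) hΩ2 (mem_zpowers g)
  -- a coprime automorphism of an abelian group fixing its elements of prime order is trivial
  apply hgc
  have key : ∀ m : ℕ, ∀ r ∈ (R : Subgroup G), r ^ q ^ m = 1 → g * r * g⁻¹ = r := by
    intro m
    induction m with
    | zero => intro r _ hr1; rw [pow_zero, pow_one] at hr1; subst hr1; group
    | succ m ihm =>
      intro r hrR hr1
      have h1 : g * r ^ q * g⁻¹ = r ^ q := ihm _ (pow_mem hrR q) (by rw [← pow_mul, ← pow_succ']; exact hr1)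
      set e := g * r * g⁻¹ * r⁻¹ with he
      have hgr : g * r * g⁻¹ ∈ (R : Subgroup G) := (mem_normalizer_iff.mp hg r).mp hrR
      have heΩ : e ∈ Ω := by
        refine ⟨mul_mem hgr (inv_mem hrR), ?_⟩
        rw [(show Commute (g * r * g⁻¹) r⁻¹ from
          congrArg Subtype.val (hRc.is_comm.comm ⟨_, hgr⟩ ⟨_, inv_mem hrR⟩)).mul_pow, conj_pow, h1, inv_pow,
          mul_inv_cancel]
      have hge : g * e * g⁻¹ = e := by
        rw [← mem_centralizer_iff.mp hc e heΩ, mul_inv_cancel_right]
      have hstep : ∀ i : ℕ, g ^ i * r * (g ^ i)⁻¹ = e ^ i * r := by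
        intro i
        induction i with
        | zero => simp
        | succ i ihi =>
          calc g ^ (i + 1) * r * (g ^ (i + 1))⁻¹ = g * (g ^ i * r * (g ^ i)⁻¹) * g⁻¹ := by
                rw [pow_succ']; group
            _ = (g * e * g⁻¹) ^ i * (g * r * g⁻¹) := by rw [ihi, conj_pow]; group
            _ = e ^ i * (e * r) := by rw [hge, he]; group
            _ = e ^ (i + 1) * r := by rw [pow_succ]; group
      have h2 : e ^ orderOf g = 1 := by
        have := hstep (orderOf g)
        rw [pow_orderOf_eq_one, one_mul, inv_one, mul_one] at this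
        exact mul_eq_right.mp this.symm
      have he1 : e = 1 := by
        refine orderOf_eq_one_iff.mp (Nat.Coprime.eq_one_of_dvd ?_ (orderOf_dvd_of_pow_eq_one h2))
        rw [hk]
        exact Nat.Coprime.coprime_dvd_left (orderOf_dvd_of_pow_eq_one heΩ.2)
          (((Nat.coprime_primes hq.out hp.out).mpr hne).pow_right k)
      exact mul_inv_eq_one.mp he1
  refine mem_centralizer_iff.mpr fun r hr => ?_
  obtain ⟨m, hm⟩ := IsPGroup.iff_orderOf.mp R.isPGroup' ⟨r, hr⟩
  rw [Subgroup.orderOf_mk] at hm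
  have := key m r hr (by rw [← hm, pow_orderOf_eq_one])
  exact (mul_inv_eq_iff_eq_mul.mp this).symm

end Min

end Cfsg.Agent.Invol.AbP
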