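import Mathlib
import Cfsg.Prelude.Def_Transfer
import Cfsg.Prelude.Def_CaseTheorems
import Cfsg.Agent.Lib.Transfer.Burnside

/-!
# Transfer and controlled fusion
-/

namespace Cfsg.Agent.Invol

open scoped commutatorElement

variable {G : Type*} [Group G] [Finite G]

/-- The transfer is a power when conjugates of the powers of `g` have the values of those powers. -/
theorem transfer_eq_index_pow {H : Subgroup G} {A : Type*} [CommGroup A] (φ : H →* A) (g : H)
    (key : ∀ (k : ℕ) (t : H), IsConj ((g : G) ^ k) (t : G) → φ t = φ g ^ k) :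
    MonoidHom.transfer φ (g : G) = φ g ^ H.index := by
  classical
  have := Fintype.ofFinite (G ⧸ H)
  rw [MonoidHom.transfer_eq_prod_quotient_orbitRel_zpowers_quot]
  have hterm : ∀ q : Quotient (MulAction.orbitRel (Subgroup.zpowers (g : G)) (G ⧸ H)),
      φ ⟨_, QuotientGroup.out_conj_pow_minimalPeriod_mem H (g : G) q.out⟩ =
        φ g ^ Function.minimalPeriod ((g : G) • ·) q.out := fun q =>
    key _ _ (isConj_iff.mpr ⟨q.out.out⁻¹, by simp⟩)
  rw [Finset.prod_congr rfl fun q _ => hterm q, Finset.prod_pow_eq_pow_sum,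
    ← Subgroup.index_eq_sum_minimalPeriod]

theorem notMem_commutator_of_control {p : ℕ} [Fact p.Prime] (H K : Subgroup G)
    (hKn : (K.subgroupOf H).Normal) (hab : ∀ x ∈ H, ∀ y ∈ H, x * y * x⁻¹ * y⁻¹ ∈ K)
    (hidx : Nat.Coprime p H.index) {g : G} (hgH : g ∈ H) (hgK : g ∉ K)
    (hgp : ∃ k : ℕ, orderOf g = p ^ k)
    (hctrl : ∀ (m : ℤ) (a : G), a * g ^ m * a⁻¹ ∈ H → (a * g ^ m * a⁻¹) * (g ^ m)⁻¹ ∈ K) :
    g ∉ commutator G := by
  let _ : CommGroup (↥H ⧸ K.subgroupOf H) :=
    { (inferInstance : Group (↥H ⧸ K.subgroupOf H)) with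
      mul_comm := by
        intro a b
        obtain ⟨a, rfl⟩ := QuotientGroup.mk_surjective a
        obtain ⟨b, rfl⟩ := QuotientGroup.mk_surjective b
        rw [← QuotientGroup.mk_mul, ← QuotientGroup.mk_mul, QuotientGroup.eq, Subgroup.mem_subgroupOf]
        simpa [mul_assoc] using hab (b : G)⁻¹ (inv_mem b.2) (a : G)⁻¹ (inv_mem a.2) }
  set φ := QuotientGroup.mk' (K.subgroupOf H) with hφ
  intro hg
  have h1 : MonoidHom.transfer φ g = 1 := Abelianization.commutator_subset_ker _ hg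
  rw [transfer_eq_index_pow φ ⟨g, hgH⟩ ?_] at h1
  · obtain ⟨k, hk⟩ := hgp
    have h2 : φ ⟨g, hgH⟩ ^ p ^ k = 1 := by
      have h0 : (⟨g, hgH⟩ : H) ^ p ^ k = 1 :=
        Subtype.ext (by rw [SubgroupClass.coe_pow, ← hk, pow_orderOf_eq_one, OneMemClass.coe_one])
      rw [← map_pow, h0, map_one]
    have h3 : φ ⟨g, hgH⟩ ^ Nat.gcd (p ^ k) H.index = 1 := pow_gcd_eq_one.mpr ⟨h2, h1⟩
    rw [(hidx.pow_left k).gcd_eq_one, pow_one, hφ, QuotientGroup.mk'_apply, QuotientGroup.eq_one_iff,
      Subgroup.mem_subgroupOf] at h3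
    exact hgK h3
  · intro k t hkt
    obtain ⟨a, ha⟩ := isConj_iff.mp hkt
    have h0 := hctrl k a (by rw [zpow_natCast, ha]; exact t.2)
    rw [zpow_natCast, ha] at h0
    rw [← map_pow, hφ, QuotientGroup.mk'_apply, QuotientGroup.mk'_apply, QuotientGroup.eq,
      Subgroup.mem_subgroupOf]
    have h4 := hKn.conj_mem (⟨_, mul_mem t.2 (inv_mem (pow_mem hgH k))⟩⁻¹ : H)
      (Subgroup.inv_mem _ (Subgroup.mem_subgroupOf.mpr h0)) t⁻¹
    simpa [Subgroup.mem_subgroupOf, mul_assoc] using h4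

theorem pResidual_inf_of_control {p : ℕ} [Fact p.Prime] (H : Subgroup G) (hidx : Nat.Coprime p H.index)
    (hfus : ∀ g ∈ H, (∃ k : ℕ, orderOf g = p ^ k) → ∀ a : G, a * g * a⁻¹ ∈ H →
      ∃ h ∈ H, h * g * h⁻¹ = a * g * a⁻¹) :
    (Cfsg.pResidual p G ⊔ commutator G) ⊓ H =
      (Cfsg.pResidual p ↥H ⊔ commutator ↥H).map H.subtype := by
  set K := Cfsg.pResidual p ↥H ⊔ commutator ↥H with hK
  refine le_antisymm ?_ ?_
  · have hKn : K.Normal := ⟨fun c hc a => by
      have h := mul_mem (Subgroup.mem_sup_right (Subgroup.commutator_mem_commutator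
        (Subgroup.mem_top a) (Subgroup.mem_top c)) : ⁅a, c⁆ ∈ K) hc
      simpa [commutatorElement_def, mul_assoc] using h⟩
    let _ : CommGroup (↥H ⧸ K) :=
      { (inferInstance : Group (↥H ⧸ K)) with
        mul_comm := by
          intro a b
          obtain ⟨a, rfl⟩ := QuotientGroup.mk_surjective a
          obtain ⟨b, rfl⟩ := QuotientGroup.mk_surjective b
          rw [← QuotientGroup.mk_mul, ← QuotientGroup.mk_mul, QuotientGroup.eq]
          refine Subgroup.mem_sup_right ?_
          rw [show (a * b)⁻¹ * (b * a) = ⁅b⁻¹, a⁻¹⁆ by rw [commutatorElement_def]; group]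
          exact Subgroup.commutator_mem_commutator (Subgroup.mem_top _) (Subgroup.mem_top _) }
    have hpA : ∀ a : ↥H ⧸ K, ∃ k : ℕ, a ^ p ^ k = 1 := by
      intro a
      obtain ⟨a, rfl⟩ := QuotientGroup.mk_surjective a
      obtain ⟨k, m, hm, hkm⟩ := Nat.exists_eq_pow_mul_and_not_dvd (orderOf_pos a).ne' p
        (Fact.out : p.Prime).ne_one
      refine ⟨k, ?_⟩
      rw [← QuotientGroup.mk_pow, QuotientGroup.eq_one_iff]
      refine Subgroup.mem_sup_left (Subgroup.subset_closure ?_)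
      show Nat.Coprime _ p
      refine Nat.Coprime.coprime_dvd_left (orderOf_dvd_of_pow_eq_one (n := m) ?_)
        ((Fact.out : p.Prime).coprime_iff_not_dvd.mpr hm).symm
      rw [← pow_mul, ← hkm, pow_orderOf_eq_one]
    set φ := QuotientGroup.mk' K with hφ
    set V := MonoidHom.transfer φ with hV
    have hker : Cfsg.pResidual p G ⊔ commutator G ≤ V.ker := by
      refine sup_le ((Subgroup.closure_le _).mpr fun x hx => ?_) (Abelianization.commutator_subset_ker _)
      show V x = 1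
      obtain ⟨k, hk⟩ := hpA (V x)
      have h1 : V x ^ orderOf x = 1 := by rw [← map_pow, pow_orderOf_eq_one, map_one]
      have h2 := pow_gcd_eq_one.mpr ⟨hk, h1⟩
      rwa [((Nat.Coprime.symm hx).pow_left k).gcd_eq_one, pow_one] at h2
    rintro g ⟨hg, hgH⟩
    obtain ⟨k, m, hm, hkm⟩ := Nat.exists_eq_pow_mul_and_not_dvd (orderOf_pos g).ne' p
      (Fact.out : p.Prime).ne_one
    set u : H := ⟨g, hgH⟩ ^ m with hu
    have hup : orderOf (u : G) ∣ p ^ k := orderOf_dvd_of_pow_eq_one (by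
      rw [hu, SubgroupClass.coe_pow, ← pow_mul, mul_comm, ← hkm, pow_orderOf_eq_one])
    have h1 : V (u : G) = φ u ^ H.index := by
      refine transfer_eq_index_pow φ u fun j t hjt => ?_
      obtain ⟨a, ha⟩ := isConj_iff.mp hjt
      obtain ⟨i, -, hi⟩ := (Nat.dvd_prime_pow Fact.out).mp (hup.trans dvd_rfl |> fun h =>
        (orderOf_pow_dvd j).trans h)
      obtain ⟨h, hh, hh'⟩ := hfus _ (pow_mem u.2 j) ⟨i, hi⟩ a (ha ▸ t.2)
      have ht : t = ⟨h, hh⟩ * u ^ j * ⟨h, hh⟩⁻¹ := Subtype.ext (by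
        simp only [Subgroup.coe_mul, Subgroup.coe_inv, SubgroupClass.coe_pow]
        rw [hh', ha])
      rw [ht, map_mul, map_mul, map_inv, map_pow, mul_right_comm, mul_inv_cancel, one_mul]
    have h2 : V (u : G) = 1 := hker (pow_mem hg m)
    rw [h2] at h1
    have h3 : φ u ^ p ^ k = 1 := by
      have h0 : u ^ p ^ k = 1 := Subtype.ext (by
        rw [SubgroupClass.coe_pow, OneMemClass.coe_one]; exact orderOf_dvd_iff_pow_eq_one.mp hup)
      rw [← map_pow, h0, map_one]
    have h4 := pow_gcd_eq_one.mpr ⟨h3, h1.symm⟩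
    rw [(hidx.pow_left k).gcd_eq_one, pow_one, hu, map_pow] at h4
    obtain ⟨l, hl⟩ := hpA (φ ⟨g, hgH⟩)
    have h5 := pow_gcd_eq_one.mpr ⟨hl, h4⟩
    rw [(((Fact.out : p.Prime).coprime_iff_not_dvd.mpr hm).pow_left l).gcd_eq_one, pow_one, hφ,
      QuotientGroup.mk'_apply, QuotientGroup.eq_one_iff] at h5
    exact ⟨_, h5, rfl⟩
  · refine le_inf ?_ (Subgroup.map_subtype_le _)
    rw [hK, Subgroup.map_sup]
    refine sup_le_sup ?_ ?_
    · rw [Cfsg.pResidual, MonoidHom.map_closure]
      refine Subgroup.closure_mono ?_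
      rintro _ ⟨x, hx, rfl⟩
      show Nat.Coprime _ p
      rw [Subgroup.subtype_apply, Subgroup.orderOf_coe]
      exact hx
    · rw [commutator_def, Subgroup.map_commutator]
      exact Subgroup.commutator_mono le_top le_top

theorem exists_conj_mem_hyperplane (hG : ∀ H : Subgroup G, H.index ≠ 2) (S : Sylow 2 G)
    (hS : IsMulCommutative (S : Subgroup G)) (r : ℕ) (hr1 : 1 ≤ r)
    (hSr : Cfsg.PRankLE 2 r (S : Subgroup G) ∧ ¬ Cfsg.PRankLE 2 (r - 1) (S : Subgroup G))
    (R : Subgroup G) (hRS : R ≤ S)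
    (hRr : Cfsg.PRankLE 2 (r - 1) R ∧ (r = 1 ∨ ¬ Cfsg.PRankLE 2 (r - 2) R))
    (t : G) (ht : orderOf t = 2) (htS : t ∈ S) :
    ∃ n ∈ Subgroup.normalizer ((S : Subgroup G) : Set G), n * t * n⁻¹ ∈ R := by
  classical
  have : Fact (Nat.Prime 2) := ⟨Nat.prime_two⟩
  let _ : CommGroup ↥(S : Subgroup G) :=
    { (inferInstance : Group ↥(S : Subgroup G)) with mul_comm := hS.is_comm.comm }
  -- elements of exponent two
  let V : Subgroup ↥(S : Subgroup G) := (powMonoidHom 2).ker
  have hmV : ∀ a : ↥(S : Subgroup G), a ∈ V ↔ a ^ 2 = 1 := fun a => Iff.rfl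
  have hVel : ∀ a ∈ V, a ^ 2 = 1 := fun a ha => ha
  obtain ⟨v, hv⟩ := (IsPGroup.iff_card (p := 2) (G := V)).mp (S.isPGroup'.to_subgroup V)
  have hVr : Nat.card V = 2 ^ r := by
    have h1 : Nat.card V ≤ 2 ^ r := hSr.1 V ⟨⟨fun a b => mul_comm a b⟩⟩ hVel
    have h2 : 2 ^ (r - 1) < Nat.card V := by
      by_contra h2
      exact hSr.2 fun A _ hA => (Subgroup.card_le_of_le (K := V) fun a ha => hA a ha).trans (not_lt.mp h2)
    rw [hv] at h1 h2 ⊢
    have h3 := Nat.le_of_dvd (by positivity) (pow_dvd_pow 2 (le_refl v))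
    have e1 := (Nat.pow_le_pow_iff_right (le_refl 2)).mp h1
    have e2 := (Nat.pow_lt_pow_iff_right (le_refl 2)).mp h2
    rw [show v = r by omega]
  set W := R.subgroupOf (S : Subgroup G) ⊓ V with hW
  obtain ⟨w, hw⟩ := (IsPGroup.iff_card (p := 2) (G := W)).mp (S.isPGroup'.to_subgroup W)
  have hWr : Nat.card W = 2 ^ (r - 1) := by
    have hmapR : W.map (S : Subgroup G).subtype ≤ R := by
      rintro _ ⟨a, ha, rfl⟩
      exact ha.1
    have h1 : Nat.card W ≤ 2 ^ (r - 1) := by
      have h0 := hRr.1 ((W.map (S : Subgroup G).subtype).subgroupOf R) ⟨⟨fun a b => Subtype.ext (Subtype.ext ?_)⟩⟩ ?_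
      · rwa [Nat.card_congr (Subgroup.subgroupOfEquivOfLe hmapR).toEquiv,
          Subgroup.card_map_of_injective (Subgroup.subtype_injective _)] at h0
      · have h := congrArg Subtype.val (mul_comm (⟨((a : R) : G), hRS (a : R).2⟩ : ↥(S : Subgroup G))
          ⟨((b : R) : G), hRS (b : R).2⟩)
        exact h
      · rintro a ⟨c, hc, hca⟩
        refine Subtype.ext ?_
        show (a : G) ^ 2 = 1
        rw [show (a : G) = (c : G) from hca.symm, ← SubgroupClass.coe_pow, hVel c hc.2]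
        rfl
    rcases Nat.lt_or_ge r 2 with hr | hr
    · have : 0 < Nat.card W := Nat.card_pos
      have : r - 1 = 0 := by omega
      rw [this, pow_zero] at h1 ⊢
      omega
    · have h2 : 2 ^ (r - 2) < Nat.card W := by
        by_contra h2
        refine (hRr.2.resolve_left (by omega)) fun A hA hA2 => ?_
        have hle : A.map R.subtype ≤ (S : Subgroup G) := (Subgroup.map_subtype_le _).trans hRS
        have h3 : (A.map R.subtype).subgroupOf (S : Subgroup G) ≤ W := by
          rintro a ⟨c, hc, hca⟩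
          refine ⟨?_, (hmV a).mpr (Subtype.ext ?_)⟩
          · show (a : G) ∈ R
            rw [show (a : G) = (c : G) from hca.symm]
            exact c.2
          · rw [SubgroupClass.coe_pow, show (a : G) = (c : G) from hca.symm, ← SubgroupClass.coe_pow, hA2 c hc]
            rfl
        have h4 := Subgroup.card_le_of_le h3
        rw [Nat.card_congr (Subgroup.subgroupOfEquivOfLe hle).toEquiv,
          Subgroup.card_map_of_injective (Subgroup.subtype_injective _)] at h4
        exact h4.trans (not_lt.mp h2)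
      rw [hw] at h1 h2 ⊢
      have e1 := (Nat.pow_le_pow_iff_right (le_refl 2)).mp h1
      have e2 := (Nat.pow_lt_pow_iff_right (le_refl 2)).mp h2
      rw [show w = r - 1 by omega]
  have hidx : (W.subgroupOf V).index = 2 := by
    have h1 := (W.subgroupOf V).card_mul_index
    rw [Nat.card_congr (Subgroup.subgroupOfEquivOfLe (inf_le_right : W ≤ V)).toEquiv, hWr, hVr,
      show 2 ^ r = 2 ^ (r - 1) * 2 by rw [← pow_succ]; congr 1; omega] at h1
    exact Nat.eq_of_mul_eq_mul_left (by positivity) h1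
  by_contra hcon
  push Not at hcon
  set N := Subgroup.normalizer ((S : Subgroup G) : Set G) with hN
  have := Fintype.ofFinite N
  let cj : N → ↥(S : Subgroup G) := fun n =>
    ⟨(n : G) * t * (n : G)⁻¹, (Subgroup.mem_normalizer_iff.mp n.2 t).mp htS⟩
  have hcjV : ∀ n, cj n ∈ V := fun n => (hmV _).mpr (Subtype.ext (by
    show ((n : G) * t * (n : G)⁻¹) ^ 2 = ((1 : ↥(S : Subgroup G)) : G)
    rw [conj_pow, orderOf_dvd_iff_pow_eq_one.mp ht.dvd]; simp))
  let O : Finset ↥(S : Subgroup G) := Finset.univ.image cj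
  -- the orbit has odd size
  have hOdd : Odd O.card := by
    set T := N ⊓ Subgroup.centralizer ({t} : Set G) with hT
    have hST : (S : Subgroup G) ≤ T := le_inf Subgroup.le_normalizer fun s hs => by
      rw [Subgroup.mem_centralizer_singleton_iff]
      exact congrArg Subtype.val (mul_comm (⟨s, hs⟩ : ↥(S : Subgroup G)) ⟨t, htS⟩)
    have hcard : O.card = T.relIndex N := by
      rw [Subgroup.relIndex, Subgroup.index_eq_card, ← Nat.card_eq_finsetCard]
      have heq : ∀ m n : N, cj m = cj n ↔ m⁻¹ * n ∈ T.subgroupOf N := by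
        intro m n
        rw [Subgroup.mem_subgroupOf, Subtype.ext_iff, hT, Subgroup.mem_inf,
          Subgroup.mem_centralizer_singleton_iff, Subgroup.coe_mul, Subgroup.coe_inv]
        constructor
        · intro h
          refine ⟨mul_mem (inv_mem m.2) n.2, ?_⟩
          calc (m : G)⁻¹ * n * t = (m : G)⁻¹ * ((n : G) * t * (n : G)⁻¹) * n := by group
            _ = (m : G)⁻¹ * ((m : G) * t * (m : G)⁻¹) * n := by rw [show (m : G) * t * (m : G)⁻¹ = (n : G) * t * (n : G)⁻¹ from h]
            _ = t * ((m : G)⁻¹ * n) := by group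
        · intro h
          show (m : G) * t * (m : G)⁻¹ = (n : G) * t * (n : G)⁻¹
          calc (m : G) * t * (m : G)⁻¹ = m * (t * ((m : G)⁻¹ * n)) * (n : G)⁻¹ := by group
            _ = m * ((m : G)⁻¹ * n * t) * (n : G)⁻¹ := by rw [h.2]
            _ = n * t * (n : G)⁻¹ := by group
      refine (Nat.card_eq_of_bijective (fun q : ↥N ⧸ T.subgroupOf N => (⟨q.liftOn' cj fun m n h =>
        (heq m n).mpr (QuotientGroup.leftRel_apply.mp h), ?_⟩ : O)) ⟨?_, ?_⟩).symm
      · obtain ⟨m, rfl⟩ := QuotientGroup.mk_surjective q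
        exact Finset.mem_image_of_mem _ (Finset.mem_univ m)
      · intro p q h
        obtain ⟨m, rfl⟩ := QuotientGroup.mk_surjective p
        obtain ⟨n, rfl⟩ := QuotientGroup.mk_surjective q
        exact QuotientGroup.eq.mpr ((heq m n).mp (congrArg Subtype.val h))
      · rintro ⟨a, ha⟩
        obtain ⟨m, -, rfl⟩ := Finset.mem_image.mp ha
        exact ⟨QuotientGroup.mk m, rfl⟩
    rw [hcard]
    refine Nat.not_even_iff_odd.mp fun he => S.not_dvd_index ?_
    exact (even_iff_two_dvd.mp he).trans ((Subgroup.relIndex_dvd_of_le_left N hST).trans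
      (Subgroup.relIndex_dvd_index_of_le Subgroup.le_normalizer))
  have hprod : ∀ s : Finset ↥(S : Subgroup G), (∀ a ∈ s, a ∈ V ∧ a ∉ W) →
      (∏ a ∈ s, a) ∈ V ∧ ((∏ a ∈ s, a) ∈ W ↔ Even s.card) := by
    intro s
    induction s using Finset.induction with
    | empty => simp
    | insert a s has ih =>
      intro h
      obtain ⟨h1, h2⟩ := ih fun b hb => h b (Finset.mem_insert_of_mem hb)
      obtain ⟨ha, haW⟩ := h a (Finset.mem_insert_self a s)
      rw [Finset.prod_insert has, Finset.card_insert_of_notMem has]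
      refine ⟨mul_mem ha h1, ?_⟩
      have h3 := Subgroup.mul_mem_iff_of_index_two hidx (a := ⟨a, ha⟩) (b := ⟨_, h1⟩)
      simp only [Subgroup.mem_subgroupOf, Subgroup.coe_mul] at h3
      rw [h3, h2, Nat.even_add_one]
      simp [haW]
  obtain ⟨hPV, hPW⟩ := hprod O fun a ha => by
    obtain ⟨m, -, rfl⟩ := Finset.mem_image.mp ha
    exact ⟨hcjV m, fun hw => hcon m m.2 hw.1⟩
  set P := ∏ a ∈ O, a with hP
  have hP1 : P ≠ 1 := fun h => Nat.not_even_iff_odd.mpr hOdd (hPW.mp (h ▸ one_mem W))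
  -- the product is fixed by the normalizer
  have hfix : ∀ n ∈ N, n * (P : G) * n⁻¹ = P := by
    intro n hn
    let c : ↥(S : Subgroup G) →* ↥(S : Subgroup G) :=
      { toFun := fun a => ⟨n * (a : G) * n⁻¹, (Subgroup.mem_normalizer_iff.mp hn a).mp a.2⟩
        map_one' := Subtype.ext (by simp)
        map_mul' := fun a b => Subtype.ext (by simp only [Subgroup.coe_mul]; group) }
    have hinj : Function.Injective c := fun a b h => by
      have h' : n * (a : G) * n⁻¹ = n * (b : G) * n⁻¹ := congrArg Subtype.val h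
      exact Subtype.ext (mul_left_cancel (mul_right_cancel h'))
    have himg : O.image c = O := by
      refine Finset.eq_of_subset_of_card_le ?_ (Finset.card_image_of_injective _ hinj).ge
      intro a ha
      obtain ⟨b, hb, rfl⟩ := Finset.mem_image.mp ha
      obtain ⟨m, -, rfl⟩ := Finset.mem_image.mp hb
      exact Finset.mem_image.mpr ⟨⟨n, hn⟩ * m, Finset.mem_univ _, Subtype.ext (by
        show n * (m : G) * t * (n * (m : G))⁻¹ = n * ((m : G) * t * (m : G)⁻¹) * n⁻¹
        group)⟩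
    have : c P = P := by
      conv_rhs => rw [hP, ← himg, Finset.prod_image fun a _ b _ h => hinj h]
      rw [hP, map_prod]
    exact congrArg Subtype.val this
  have hV1 : MonoidHom.transfer (MonoidHom.id ↥(S : Subgroup G)) (P : G) = P ^ (S : Subgroup G).index := by
    refine transfer_eq_index_pow _ P fun k u hu => ?_
    obtain ⟨a, ha⟩ := isConj_iff.mp hu
    obtain ⟨n, hn, hn'⟩ := Transfer.exists_normalizer_conj_of_abelian S hS (pow_mem P.2 k) (ha ▸ u.2)
    refine Subtype.ext ?_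
    rw [MonoidHom.id_apply, MonoidHom.id_apply, SubgroupClass.coe_pow, ← ha, ← hn', ← conj_pow, hfix n hn]
  set f := MonoidHom.transfer (MonoidHom.id ↥(S : Subgroup G)) with hf
  have hne : f.range ≠ ⊥ := by
    intro h
    have h1 : f (P : G) ∈ f.range := ⟨_, rfl⟩
    rw [h, Subgroup.mem_bot, hV1] at h1
    have hP2 : P ^ 2 = 1 := hVel P hPV
    have h2 := pow_gcd_eq_one.mpr ⟨hP2, h1⟩
    rw [(Nat.prime_two.coprime_iff_not_dvd.mpr S.not_dvd_index).gcd_eq_one, pow_one] at h2
    exact hP1 h2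
  obtain ⟨j, hj⟩ := (IsPGroup.iff_card (p := 2) (G := f.range)).mp (S.isPGroup'.to_subgroup _)
  have hj1 : 1 ≤ j := by
    by_contra h
    exact hne (Subgroup.eq_bot_of_card_eq _ (by rw [hj, show j = 0 by omega, pow_zero]))
  have hker : f.ker.index = 2 ^ j := by rw [Subgroup.index_ker, hj]
  obtain ⟨M, hM⟩ := Sylow.exists_subgroup_card_pow_prime 2 (n := j - 1)
    (show 2 ^ (j - 1) ∣ Nat.card (G ⧸ f.ker) by
      rw [← Subgroup.index_eq_card, hker]; exact pow_dvd_pow 2 (Nat.sub_le j 1))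
  refine hG (M.comap (QuotientGroup.mk' f.ker)) ?_
  rw [Subgroup.index_comap_of_surjective M (QuotientGroup.mk'_surjective _)]
  have h := M.card_mul_index
  rw [hM, ← Subgroup.index_eq_card f.ker, hker, show 2 ^ j = 2 ^ (j - 1) * 2 by
    rw [← pow_succ]; congr 1; omega] at h
  exact Nat.eq_of_mul_eq_mul_left (by positivity) h

end Cfsg.Agent.Invol
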