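import Cfsg.Agent.S0058
import Cfsg.Agent.S1242
import Cfsg.Agent.Lib.Grp.Basic
import Cfsg.Agent.Lib.Classical.DicksonKlein
import Cfsg.Agent.Lib.Invol.ZJFunctor

/-!
# General facts used for the even case: a small Frobenius-type count, four-groups, transfer
-/

set_option autoImplicit false
set_option linter.style.haveILetI false

namespace Cfsg.Agent.Invol.AbP

open Subgroup
open scoped commutatorElement

universe u

/-- A group acting with trivial two point stabilisers in which involutions swap all pairs, fix nothing and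
do not commute has two points and order two. -/
theorem frob {X F : Type*} [Group X] [Finite X] [MulAction X F] [Finite F] (hF : 2 ≤ Nat.card F)
    (h2 : ∀ (x : X) (a b : F), a ≠ b → x • a = a → x • b = b → x = 1)
    (hswap : ∀ a b : F, a ≠ b → ∃ x : X, orderOf x = 2 ∧ x • a = b)
    (hfree : ∀ x : X, orderOf x = 2 → ∀ a : F, x • a ≠ a)
    (hcomm : ∀ x y : X, orderOf x = 2 → orderOf y = 2 → Commute x y → x = y) :
    Nat.card F = 2 ∧ Nat.card X = 2 := by
  classical
  have := Fintype.ofFinite X
  have := Fintype.ofFinite F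
  have hsq : ∀ x : X, orderOf x = 2 → x * x = 1 := fun x hx => by
    rw [← pow_two, ← hx]; exact pow_orderOf_eq_one x
  have hne : Nonempty F := by
    by_contra hc
    rw [not_nonempty_iff] at hc
    simp at hF
  obtain ⟨a₀⟩ := hne
  set Inv := (Finset.univ : Finset X).filter fun x => orderOf x = 2 with hInv
  -- involutions are counted by the pairs they swap
  have hk : Inv.card = Fintype.card F - 1 := by
    rw [show Fintype.card F - 1 = ((Finset.univ : Finset F).erase a₀).card by
      rw [Finset.card_erase_of_mem (Finset.mem_univ _), Finset.card_univ]]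
    refine Finset.card_bij (fun x _ => x • a₀) (fun x hx => ?_) (fun x hx y hy e => ?_) (fun b hb => ?_)
    · simp only [hInv, Finset.mem_filter] at hx
      exact Finset.mem_erase.mpr ⟨hfree x hx.2 a₀, Finset.mem_univ _⟩
    · simp only [hInv, Finset.mem_filter] at hx hy
      set b := x • a₀ with hb
      have hxb : x • b = a₀ := by rw [hb, smul_smul, hsq x hx.2, one_smul]
      have hyb : y • b = a₀ := by rw [e, smul_smul, hsq y hy.2, one_smul]
      have h1 : x * y = 1 := h2 (x * y) a₀ b (hfree x hx.2 a₀).symm (by rw [mul_smul, ← e, hxb])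
        (by rw [mul_smul, hyb, hb])
      calc x = x * (y * y) := by rw [hsq y hy.2, mul_one]
        _ = y := by rw [← mul_assoc, h1, one_mul]
    · obtain ⟨x, hx, hxa⟩ := hswap a₀ b (Finset.ne_of_mem_erase hb).symm
      exact ⟨x, by simp [hInv, hx], hxa⟩
  -- transitivity and the common order of the point stabilisers
  have : MulAction.IsPretransitive X F := ⟨fun a b => by
    by_cases e : a = b
    · exact ⟨1, by rw [one_smul, e]⟩
    · obtain ⟨x, -, hx⟩ := hswap a b e; exact ⟨x, hx⟩⟩
  set h := Nat.card (MulAction.stabilizer X a₀) with hh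
  have hstab : ∀ a : F, Nat.card (MulAction.stabilizer X a) = h := by
    intro a
    obtain ⟨g, rfl⟩ := MulAction.exists_smul_eq X a₀ a
    rw [MulAction.stabilizer_smul_eq_stabilizer_map_conj, Subgroup.card_map_of_injective (MulAut.conj g).injective]
  have hcard : Nat.card X = Fintype.card F * h := by
    have := MulAction.index_stabilizer_of_transitive X a₀
    rw [← Subgroup.index_mul_card (MulAction.stabilizer X a₀), this, Nat.card_eq_fintype_card, hh]
  have hfix : ((Finset.univ : Finset X).filter fun x => x ≠ 1 ∧ ∃ a : F, x • a = a).card =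
      Fintype.card F * (h - 1) := by
    rw [show ((Finset.univ : Finset X).filter fun x => x ≠ 1 ∧ ∃ a : F, x • a = a) =
        (Finset.univ : Finset F).biUnion fun a => (Finset.univ : Finset X).filter fun x => x ≠ 1 ∧ x • a = a by
      ext x; simp only [Finset.mem_filter, Finset.mem_univ, true_and, Finset.mem_biUnion]; aesop]
    rw [Finset.card_biUnion, Finset.sum_const_nat (m := h - 1), Finset.card_univ]
    · intro a _
      rw [← hstab a, Nat.card_eq_fintype_card,
        show (Fintype.card ↥(MulAction.stabilizer X a)) =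
          ((Finset.univ : Finset X).filter fun x => x • a = a).card by
            rw [Fintype.card_subtype]; simp [MulAction.mem_stabilizer_iff],
        show ((Finset.univ : Finset X).filter fun x => x ≠ 1 ∧ x • a = a) =
          ((Finset.univ : Finset X).filter fun x => x • a = a).erase 1 by
            ext x; simp [Finset.mem_erase],
        Finset.card_erase_of_mem (by simp)]
    · intro a _ b _ hab
      rw [Function.onFun, Finset.disjoint_left]
      intro x hxa hxb
      simp only [Finset.mem_filter, Finset.mem_univ, true_and] at hxa hxb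
      exact hxa.1 (h2 x a b hab hxa.2 hxb.2)
  set Fpf := (Finset.univ : Finset X).filter fun x => ∀ a : F, x • a ≠ a with hFpf
  have hpos : 1 ≤ h := Nat.card_pos
  have hsplit : Fpf.card + 1 + Fintype.card F * (h - 1) = Nat.card X := by
    rw [← hfix, Nat.card_eq_fintype_card, ← Finset.card_univ,
      ← Finset.card_filter_add_card_filter_not (s := (Finset.univ : Finset X))
        (fun x => ∀ a : F, x • a ≠ a), add_assoc]
    congr 1
    rw [show ((Finset.univ : Finset X).filter fun x => ¬ ∀ a : F, x • a ≠ a) =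
        insert 1 ((Finset.univ : Finset X).filter fun x => x ≠ 1 ∧ ∃ a : F, x • a = a) by
      ext x
      simp only [Finset.mem_filter, Finset.mem_univ, true_and, Finset.mem_insert, not_forall, not_not]
      by_cases hx : x = 1
      · simp only [hx, one_smul, exists_const, true_or, iff_true]
        exact ⟨a₀, trivial⟩
      · simp [hx], Finset.card_insert_of_notMem (by simp), add_comm]
  have hFI : Fpf = Inv := by
    refine (Finset.eq_of_subset_of_card_le ?_ ?_).symm
    · intro x hx
      simp only [hInv, hFpf, Finset.mem_filter, Finset.mem_univ, true_and] at hx ⊢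
      exact hfree x hx
    · rw [hk]
      have e1 : Fintype.card F * h = Fintype.card F * (h - 1) + Fintype.card F := by
        rw [← Nat.mul_succ, Nat.succ_eq_add_one, Nat.sub_add_cancel hpos]
      rw [hcard, e1] at hsplit
      omega
  rw [Nat.card_eq_fintype_card] at hF ⊢
  obtain ⟨j, hj⟩ : ∃ j : X, orderOf j = 2 := by
    obtain ⟨j, hj⟩ := Finset.card_pos.mp (show 0 < Inv.card by omega)
    exact ⟨j, by simpa [hInv] using hj⟩
  have hCj : ∀ c : X, Commute c j → c = 1 ∨ c = j := by
    intro c hc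
    by_cases hcfix : ∃ a : F, c • a = a
    · obtain ⟨a, ha⟩ := hcfix
      left
      exact h2 c a (j • a) (hfree j hj a).symm ha (by rw [smul_smul, hc.eq, mul_smul, ha])
    · push Not at hcfix
      right
      have : c ∈ Inv := hFI ▸ (by simp [hFpf, hcfix] : c ∈ Fpf)
      simp only [hInv, Finset.mem_filter] at this
      exact hcomm c j this.2 hj hc
  -- a class of involutions has at least half the order of the group
  have hX2 : Fintype.card X ≤ 2 * Inv.card := by
    rw [← Finset.card_univ]
    refine Finset.card_le_mul_card_image_of_maps_to (f := fun x : X => x * j * x⁻¹) (fun x _ => ?_) 2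
      (fun b _ => ?_)
    · simp only [hInv, Finset.mem_filter, Finset.mem_univ, true_and]
      rw [← hj]
      exact orderOf_injective (MulAut.conj x).toMonoidHom (MulAut.conj x).injective j
    · by_cases hb : ∃ x : X, x * j * x⁻¹ = b
      · obtain ⟨x, hx⟩ := hb
        refine (Finset.card_le_card (t := {x, x * j}) fun y hy => ?_).trans Finset.card_le_two
        simp only [Finset.mem_filter, Finset.mem_univ, true_and] at hy
        have : Commute (x⁻¹ * y) j := by
          show x⁻¹ * y * j = j * (x⁻¹ * y)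
          calc x⁻¹ * y * j = x⁻¹ * (y * j * y⁻¹) * y := by group
            _ = x⁻¹ * (x * j * x⁻¹) * y := by rw [hy, hx]
            _ = j * (x⁻¹ * y) := by group
        rcases hCj _ this with e | e
        · simp [(inv_mul_eq_one.mp e).symm]
        · simp [← e]
      · push Not at hb
        simp [hb]
  rw [← Nat.card_eq_fintype_card (α := X), hcard, hk] at hX2
  have h1 : h = 1 := by
    by_contra hne1
    have hodd : h % 2 = 1 := by
      rcases Nat.even_or_odd h with he | ho
      · exfalso
        obtain ⟨z, hz⟩ := exists_prime_orderOf_dvd_card' (G := MulAction.stabilizer X a₀) 2 (even_iff_two_dvd.mp he)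
        exact hfree z.1 (by rw [Subgroup.orderOf_coe, hz]) a₀ z.2
      · exact Nat.odd_iff.mp ho
    have h3 : 3 ≤ h := by omega
    have := Nat.mul_le_mul_left (Fintype.card F) h3
    omega
  have hall : ∀ x : X, x * x = 1 := by
    intro x
    by_cases hx : x = 1
    · simp [hx]
    by_cases hxf : ∃ a : F, x • a = a
    · exfalso
      rw [h1, Nat.sub_self, mul_zero, Finset.card_eq_zero] at hfix
      exact Finset.eq_empty_iff_forall_notMem.mp hfix x (by simp [hx, hxf])
    · push Not at hxf
      have : x ∈ Inv := hFI ▸ (by simp [hFpf, hxf] : x ∈ Fpf)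
      simp only [hInv, Finset.mem_filter] at this
      exact hsq x this.2
  have hcomm' : ∀ c : X, Commute c j := fun c => by
    show c * j = j * c
    have h3 := hall (c * j)
    calc c * j = c * (c * j * (c * j)) * j := by rw [h3, mul_one]
      _ = (c * c) * (j * c) * (j * j) := by group
      _ = j * c := by rw [hall c, hsq j hj, one_mul, mul_one]
  have hle : Fintype.card X ≤ 2 := by
    rw [← Finset.card_univ]
    refine (Finset.card_le_card (t := {1, j}) fun c _ => ?_).trans Finset.card_le_two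
    rcases hCj c (hcomm' c) with e | e <;> simp [e]
  have hge : 2 ≤ Fintype.card X := by
    have := orderOf_le_card_univ (x := j)
    omega
  rw [h1, mul_one, Nat.card_eq_fintype_card] at hcard
  rw [Nat.card_eq_fintype_card]
  omega

/-- Fixed points of a normalising `p`-group. -/
theorem fixed_modEq {G : Type*} [Group G] [Finite G] {p : ℕ} [hp : Fact p.Prime] {P V : Subgroup G}
    (hP : IsPGroup p ↥P) (hPV : P ≤ normalizer (V : Set G)) :
    Nat.card ↥V ≡ Nat.card ↥(V ⊓ centralizer (P : Set G)) [MOD p] := by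
  letI : MulAction ↥P ↥V :=
    { smul := fun g v => ⟨g * v * (g : G)⁻¹, (mem_normalizer_iff.mp (hPV g.2) v).mp v.2⟩
      one_smul := fun v => Subtype.ext (by show (1 : G) * v * 1⁻¹ = v; group)
      mul_smul := fun g g' v => Subtype.ext (by
        show (g * g' : G) * v * (g * g' : G)⁻¹ = g * (g' * v * (g' : G)⁻¹) * (g : G)⁻¹; group) }
  have hmod := hP.card_modEq_card_fixedPoints ↥V
  have hfix : Nat.card (MulAction.fixedPoints ↥P ↥V) = Nat.card ↥(V ⊓ centralizer (P : Set G)) := by
    refine Nat.card_congr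
      { toFun := fun v => ⟨v.1.1, v.1.2, mem_centralizer_iff.mpr fun g hg => ?_⟩
        invFun := fun c => ⟨⟨c.1, c.2.1⟩, fun g => Subtype.ext ?_⟩
        left_inv := fun _ => rfl
        right_inv := fun _ => rfl }
    · have h1 := congrArg Subtype.val (v.2 ⟨g, hg⟩)
      exact mul_inv_eq_iff_eq_mul.mp h1
    · show (g : G) * c * (g : G)⁻¹ = c
      rw [mem_centralizer_iff.mp c.2.2 g g.2, mul_inv_cancel_right]
  rwa [hfix] at hmod

/-- No four-group acts on a small abelian `p`-group without centralising or inverting it. -/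
theorem four_false {G : Type u} [Group G] [Finite G] {p : ℕ} [hp : Fact p.Prime] (hp2 : p ≠ 2)
    {P V : Subgroup G} (hP : IsPGroup p ↥P) (hab : ∀ a ∈ P, ∀ b ∈ P, a * b = b * a)
    (hsmall : Nat.card ↥P ≤ p ^ 2) (hVP : V ≤ normalizer (P : Set G))
    (hVc : ∀ a ∈ V, ∀ b ∈ V, a * b = b * a) (hV2 : ∀ a ∈ V, a * a = 1) (hV4 : Nat.card ↥V = 4)
    (hfix : ∀ v ∈ V, v ≠ 1 → ∃ a ∈ P, v * a * v⁻¹ ≠ a)
    (hinv : Nat.card ↥P = p ^ 2 → ∀ v ∈ V, v ≠ 1 → ∃ a ∈ P, v * a * v⁻¹ ≠ a⁻¹) : False := by
  have : IsMulCommutative ↥V := ⟨⟨fun a b => Subtype.ext (hVc _ a.2 _ b.2)⟩⟩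
  have hcyc : ¬ IsCyclic ↥V := by
    intro hc
    obtain ⟨g, hg⟩ := hc.exists_ofOrder_eq_natCard
    have : orderOf g ≤ 2 := orderOf_le_of_pow_eq_one two_pos (Subtype.ext (by
      rw [coe_pow, pow_two, coe_one]; exact hV2 _ g.2))
    omega
  have hcop : (Nat.card ↥V).Coprime (Nat.card ↥P) := by
    obtain ⟨m, hm⟩ := IsPGroup.iff_card.mp hP
    rw [hV4, hm, show 4 = 2 ^ 2 from rfl]
    exact Nat.Coprime.pow _ _ ((Nat.coprime_primes Nat.prime_two hp.out).mpr (Ne.symm hp2))
  have hgen := S0058.result V P hcyc hVP hcop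
  have hlt : ∀ v ∈ V, v ≠ 1 → ¬ P ≤ P ⊓ centralizer ({v} : Set G) := by
    intro v hv hv1 hle
    obtain ⟨a, ha, hne⟩ := hfix v hv hv1
    exact hne (by rw [← mem_centralizer_singleton_iff.mp (hle ha).2, mul_inv_cancel_right])
  obtain ⟨i, hi, hi1, hCi⟩ : ∃ i ∈ V, i ≠ 1 ∧ P ⊓ centralizer ({i} : Set G) ≠ ⊥ := by
    by_contra hc
    push Not at hc
    have hbot : P = ⊥ := by
      rw [← hgen, eq_bot_iff]
      exact iSup₂_le fun v hv => (hc v hv.1 hv.2).le
    have : Nontrivial ↥V := by
      rw [← Finite.one_lt_card_iff_nontrivial, hV4]; norm_num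
    obtain ⟨v, hv, hv1⟩ := (nontrivial_iff_exists_ne_one V).mp this
    exact hlt v hv hv1 (hbot ▸ bot_le)
  obtain ⟨k, hk, hk1, hCk⟩ : ∃ k ∈ V, k ≠ 1 ∧
      ¬ P ⊓ centralizer ({k} : Set G) ≤ P ⊓ centralizer ({i} : Set G) := by
    by_contra hc
    push Not at hc
    exact hlt i hi hi1 ((le_of_eq hgen.symm).trans (iSup₂_le fun v hv => hc v hv.1 hv.2))
  set A := P ⊓ centralizer ({i} : Set G) with hA
  set B := P ⊓ centralizer ({k} : Set G) with hB
  obtain ⟨m, hm⟩ := IsPGroup.iff_card.mp hP
  have hm2 : m ≤ 2 := (Nat.pow_le_pow_iff_right hp.out.one_lt).mp (hm ▸ hsmall)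
  have hsub : ∀ S : Subgroup G, S ≤ P → S ≠ ⊥ → ¬ P ≤ S → Nat.card ↥S = p ∧ Nat.card ↥P = p ^ 2 := by
    intro S hS hS1 hS2
    obtain ⟨l, hl, hlS⟩ := (Nat.dvd_prime_pow hp.out).mp (hm ▸ card_dvd_of_le hS)
    have hl0 : l ≠ 0 := fun e => hS1 (card_eq_one.mp (by rw [hlS, e, pow_zero]))
    have hlm : l ≠ m := fun e => hS2 (eq_of_le_of_card_ge hS (by rw [hm, hlS, e])).ge
    rw [hlS, hm, show l = 1 by omega, show m = 2 by omega, pow_one]
    exact ⟨rfl, rfl⟩
  obtain ⟨hAp, hPp⟩ := hsub A inf_le_left hCi (hlt i hi hi1)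
  obtain ⟨hBp, -⟩ := hsub B inf_le_left (fun e => hCk (e ▸ bot_le)) (hlt k hk hk1)
  have hAB : A ⊓ B = ⊥ := by
    rcases (Nat.dvd_prime hp.out).mp (hBp ▸ card_dvd_of_le (inf_le_right (a := A) (b := B))) with e | e
    · exact card_eq_one.mp e
    · exact absurd ((eq_of_le_of_card_ge inf_le_right (by rw [e, hBp]) : A ⊓ B = B) ▸ inf_le_left) hCk
  have hsup : A ⊔ B = P := by
    refine eq_of_le_of_card_ge (sup_le inf_le_left inf_le_left) ?_
    have := Cfsg.Agent.Grp.card_sup_mul_card_inf (H := A) (N := B) (fun a ha => by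
      refine le_trans ?_ (centralizer_le_normalizer _) ha
      exact fun x hx => mem_centralizer_iff.mpr fun y hy => hab y hy.1 x hx.1)
    rw [hAB, card_bot, mul_one, hAp, hBp] at this
    rw [this, hPp, pow_two]
  -- each of the two lines is inverted by the other involution
  have key : ∀ i ∈ V, ∀ k ∈ V, (P ⊓ centralizer ({i} : Set G)) ⊓ (P ⊓ centralizer ({k} : Set G)) = ⊥ →
      ∀ x ∈ P ⊓ centralizer ({i} : Set G), k * x * k⁻¹ = x⁻¹ := by
    intro i hi k hk hik x hx
    have hkx : k * x * k⁻¹ ∈ P := (mem_normalizer_iff.mp (hVP hk) x).mp hx.1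
    have hix : i * x = x * i := (mem_centralizer_singleton_iff.mp hx.2).symm
    have hik' : i * k = k * i := hVc i hi k hk
    have hy : x * (k * x * k⁻¹) ∈ (P ⊓ centralizer ({i} : Set G)) ⊓ (P ⊓ centralizer ({k} : Set G)) := by
      refine ⟨⟨mul_mem hx.1 hkx, ?_⟩, mul_mem hx.1 hkx, ?_⟩
      · refine mem_centralizer_singleton_iff.mpr (Eq.symm ?_)
        have e1 : Commute i (k * x * k⁻¹) := by
          have a1 : Commute i k := hik'
          exact (a1.mul_right hix).mul_right a1.inv_right
        exact (Commute.mul_right (show Commute i x from hix) e1).eq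
      · refine mem_centralizer_singleton_iff.mpr ?_
        have hkinv : k⁻¹ = k := inv_eq_of_mul_eq_one_right (hV2 k hk)
        calc x * (k * x * k⁻¹) * k = (x * k) * x := by group
          _ = k * ((k * x * k⁻¹) * x) := by
            rw [hkinv]
            calc x * k * x = (k * k) * (x * k * x) := by rw [hV2 k hk, one_mul]
              _ = k * (k * x * k * x) := by group
          _ = k * (x * (k * x * k⁻¹)) := by rw [hab _ hkx _ hx.1]
    rw [hik, mem_bot] at hy
    exact (inv_eq_of_mul_eq_one_right hy).symm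
  have hinvP : ∀ a ∈ P, (i * k) * a * (i * k)⁻¹ = a⁻¹ := by
    let S : Subgroup G :=
      { carrier := {x | x ∈ P ∧ i * k * x * (i * k)⁻¹ = x⁻¹}
        one_mem' := ⟨one_mem _, by simp⟩
        mul_mem' := fun {x y} hx hy => ⟨mul_mem hx.1 hy.1, by
          rw [mul_inv_rev x y, ← hab _ (inv_mem hx.1) _ (inv_mem hy.1), ← hx.2, ← hy.2]
          group⟩
        inv_mem' := fun {x} hx => ⟨inv_mem hx.1, by rw [← conj_inv, hx.2]⟩ }
    have hAS : A ≤ S := fun x hx => ⟨hx.1, by
      calc i * k * x * (i * k)⁻¹ = i * (k * x * k⁻¹) * i⁻¹ := by group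
        _ = (i * x * i⁻¹)⁻¹ := by rw [key i hi k hk hAB x hx]; group
        _ = x⁻¹ := by rw [← mem_centralizer_singleton_iff.mp hx.2, mul_inv_cancel_right]⟩
    have hBS : B ≤ S := fun x hx => ⟨hx.1, by
      calc i * k * x * (i * k)⁻¹ = i * (k * x * k⁻¹) * i⁻¹ := by group
        _ = i * x * i⁻¹ := by rw [← mem_centralizer_singleton_iff.mp hx.2, mul_inv_cancel_right]
        _ = x⁻¹ := key k hk i hi (by rw [inf_comm]; exact hAB) x hx⟩
    intro a ha
    exact ((hsup ▸ sup_le hAS hBS : P ≤ S) ha).2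
  have hik1 : i * k ≠ 1 := fun e => hCk (by
    rw [hA, hB, show k = i from mul_left_cancel (e.trans (hV2 i hi).symm)])
  obtain ⟨a, ha, hne⟩ := hinv hPp (i * k) (mul_mem hi hk) hik1
  exact hne (hinvP a ha)

/-- `PSL(2, K)`, `K` finite of odd characteristic, has no elementary abelian subgroup of order eight. -/
theorem psl_two_elem_le_four {K : Type*} [Field K] [Fintype K] (hchar : ringChar K ≠ 2)
    (T : Subgroup (Matrix.ProjectiveSpecialLinearGroup (Fin 2) K)) (hc : ∀ a ∈ T, ∀ b ∈ T, a * b = b * a)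
    (h2 : ∀ a ∈ T, a * a = 1) : Nat.card ↥T ≤ 4 := by
  classical
  by_contra hlt
  push Not at hlt
  have hodd : Odd (Fintype.card K) := by
    rw [Nat.odd_iff]
    exact FiniteField.odd_card_of_char_ne_two hchar
  have hex : ∀ s : Finset ↥T, s.card ≤ 4 → ∃ a : ↥T, a ∉ s := by
    intro s hs
    by_contra hcc
    push Not at hcc
    have := Fintype.ofFinite ↥T
    have := Finset.card_le_card (s := (Finset.univ : Finset ↥T)) (t := s) fun z _ => hcc z
    rw [Finset.card_univ, ← Nat.card_eq_fintype_card] at this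
    omega
  obtain ⟨a, ha⟩ := hex {1} (by simp)
  obtain ⟨b, hb⟩ := hex {1, a} (Finset.card_le_two.trans (by norm_num))
  simp only [Finset.mem_insert, Finset.mem_singleton, not_or] at ha hb
  set V : Subgroup (Matrix.ProjectiveSpecialLinearGroup (Fin 2) K) :=
    Subgroup.closure {(a : Matrix.ProjectiveSpecialLinearGroup (Fin 2) K), (b : Matrix.ProjectiveSpecialLinearGroup (Fin 2) K)} with hV
  have hVT : V ≤ T := (closure_le T).mpr (by rintro z (rfl | rfl); exacts [a.2, b.2])
  have hVs : (V : Set (Matrix.ProjectiveSpecialLinearGroup (Fin 2) K)) =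
      {1, (a : Matrix.ProjectiveSpecialLinearGroup (Fin 2) K), (b : Matrix.ProjectiveSpecialLinearGroup (Fin 2) K), (a : Matrix.ProjectiveSpecialLinearGroup (Fin 2) K) * b} := by
    apply Set.Subset.antisymm
    · let W : Subgroup (Matrix.ProjectiveSpecialLinearGroup (Fin 2) K) :=
        { carrier := {1, (a : Matrix.ProjectiveSpecialLinearGroup (Fin 2) K), (b : Matrix.ProjectiveSpecialLinearGroup (Fin 2) K), (a : Matrix.ProjectiveSpecialLinearGroup (Fin 2) K) * b}
          one_mem' := Or.inl rfl
          mul_mem' := by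
            have a2 := h2 _ a.2
            have b2 := h2 _ b.2
            have ba := hc _ b.2 _ a.2
            have aab : (a : Matrix.ProjectiveSpecialLinearGroup (Fin 2) K) * (a * b) = b := by
              rw [← mul_assoc, a2, one_mul]
            have aba : (a : Matrix.ProjectiveSpecialLinearGroup (Fin 2) K) * b * a = b := by
              rw [mul_assoc, ba, aab]
            have bab : (b : Matrix.ProjectiveSpecialLinearGroup (Fin 2) K) * (a * b) = a := by
              rw [← mul_assoc, ba, mul_assoc, b2, mul_one]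
            have abb : (a : Matrix.ProjectiveSpecialLinearGroup (Fin 2) K) * b * b = a := by
              rw [mul_assoc, b2, mul_one]
            have abab : (a : Matrix.ProjectiveSpecialLinearGroup (Fin 2) K) * b * (a * b) = 1 := by
              rw [mul_assoc, bab, a2]
            rintro g k (rfl | rfl | rfl | rfl) (rfl | rfl | rfl | rfl) <;>
              simp [a2, b2, ba, aab, aba, bab, abb, abab]
          inv_mem' := by
            intro g hg
            have hgT : g ∈ T := by
              rcases hg with rfl | rfl | rfl | rfl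
              exacts [one_mem _, a.2, b.2, mul_mem a.2 b.2]
            rwa [inv_eq_of_mul_eq_one_right (h2 g hgT)] }
      exact (closure_le W).mpr (by rintro z (rfl | rfl); exacts [Or.inr (Or.inl rfl), Or.inr (Or.inr (Or.inl rfl))])
    · have hA : (a : Matrix.ProjectiveSpecialLinearGroup (Fin 2) K) ∈ V := subset_closure (Or.inl rfl)
      have hB : (b : Matrix.ProjectiveSpecialLinearGroup (Fin 2) K) ∈ V := subset_closure (Or.inr rfl)
      rintro z (rfl | rfl | rfl | rfl)
      exacts [one_mem _, hA, hB, mul_mem hA hB]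
  have ha1 : (a : Matrix.ProjectiveSpecialLinearGroup (Fin 2) K) ≠ 1 := fun e => ha (Subtype.ext e)
  have hb1 : (b : Matrix.ProjectiveSpecialLinearGroup (Fin 2) K) ≠ 1 := fun e => hb.1 (Subtype.ext e)
  have hab : (a : Matrix.ProjectiveSpecialLinearGroup (Fin 2) K) ≠ b := fun e => hb.2 (Subtype.ext e.symm)
  have hab1 : (a : Matrix.ProjectiveSpecialLinearGroup (Fin 2) K) * b ≠ 1 := fun e =>
    hab (mul_left_cancel (e.trans (h2 _ a.2).symm)).symm
  have hV4 : Nat.card ↥V = 4 := by
    rw [show Nat.card ↥V = Set.ncard (V : Set (Matrix.ProjectiveSpecialLinearGroup (Fin 2) K)) from rfl, hVs,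
      Set.ncard_eq_toFinset_card']
    simp [ha1.symm, hb1.symm, hab, hab1.symm, ha1, hb1]
  have hK : IsKleinFour ↥V := by
    refine ⟨hV4, ?_⟩
    have hsq : ∀ g : ↥V, g ^ 2 = 1 := fun g => Subtype.ext (by
      rw [coe_pow, pow_two, coe_one]; exact h2 _ (hVT g.2))
    refine Nat.dvd_antisymm (Monoid.exponent_dvd_of_forall_pow_eq_one hsq) ?_
    exact (dvd_of_eq (orderOf_eq_prime (hsq ⟨a, subset_closure (Or.inl rfl)⟩)
      fun e => ha1 (congrArg Subtype.val e)).symm).trans (Monoid.order_dvd_exponent _)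
  obtain ⟨x, y, hq, hqV⟩ := Dickson.exists_quat_of_isKleinFour hodd hK
  have hTV : T ≤ V := fun g hg => hqV ▸ Dickson.Quat.centralizer (Dickson.two_ne_zero_of_odd_card hodd) hq
    (hc g hg _ (hVT (hqV ▸ Or.inr (Or.inl rfl))))
    (hc g hg _ (hVT (hqV ▸ Or.inr (Or.inr (Or.inl rfl)))))
  have := card_le_of_le hTV
  omega

/-- Transfer: a subgroup controlling `Z(J(P))` in a perfect group has no normal subgroup of index `p`. -/
theorem transfer_false {G : Type u} [Group G] [Finite G] {p : ℕ} [hp : Fact p.Prime] (hp2 : p ≠ 2)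
    (hperf : commutator G = ⊤) (hfree : ¬ Cfsg.Involves ↥(Cfsg.qd p) G) (P : Sylow p G) {M : Subgroup G}
    (hPM : (P : Subgroup G) ≤ M)
    (hN : normalizer (Cfsg.centerThompsonAOf (P : Subgroup G) : Set G) ≤ M) (L : Subgroup ↥M) [L.Normal]
    (hL : L.index = p) : False := by
  have hidx : Nat.Coprime p M.index :=
    hp.out.coprime_iff_not_dvd.mpr fun hd => P.not_dvd_index (hd.trans (Subgroup.index_dvd_of_le hPM))
  have hfus : ∀ g ∈ M, (∃ k : ℕ, orderOf g = p ^ k) → ∀ a : G, a * g * a⁻¹ ∈ M →
      ∃ h ∈ M, h * g * h⁻¹ = a * g * a⁻¹ := by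
    intro g hg ⟨k, hk⟩ a ha
    let PM : Sylow p ↥M := P.subtype hPM
    have conjInto : ∀ x ∈ M, orderOf x = p ^ k → ∃ m ∈ M, m * x * m⁻¹ ∈ (P : Subgroup G) := by
      intro x hx hxk
      have hxp : IsPGroup p ↥(zpowers (⟨x, hx⟩ : ↥M)) :=
        IsPGroup.of_card (n := k) (by rw [Nat.card_zpowers, Subgroup.orderOf_mk, hxk])
      obtain ⟨Q, hQ⟩ := hxp.exists_le_sylow
      obtain ⟨m, hm⟩ := MulAction.exists_smul_eq ↥M Q PM
      refine ⟨m, m.2, ?_⟩
      have h1 : m * ⟨x, hx⟩ * m⁻¹ ∈ (PM : Subgroup ↥M) := by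
        rw [← hm]
        exact ⟨⟨x, hx⟩, hQ (mem_zpowers _), rfl⟩
      exact h1
    obtain ⟨m, hm, hmP⟩ := conjInto g hg hk
    obtain ⟨n, hn, hnP⟩ := conjInto (a * g * a⁻¹) ha
      (by rw [← hk]; exact orderOf_injective (MulAut.conj a).toMonoidHom (MulAut.conj a).injective g)
    obtain ⟨x, hx, hxe⟩ := Invol.zj_control_of_free hp2 Invol.isZJFunctor_centerThompsonA hfree P
      (D := (P : Subgroup G)) ⟨le_rfl, fun _ _ _ h => h⟩ (A := {m * g * m⁻¹})
      (Set.singleton_subset_iff.mpr hmP) (g := n * a * m⁻¹) (by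
        rintro b rfl
        convert hnP using 1
        group)
    refine ⟨n⁻¹ * x * m, mul_mem (mul_mem (inv_mem hn) (hN hx)) hm, ?_⟩
    calc n⁻¹ * x * m * g * (n⁻¹ * x * m)⁻¹ = n⁻¹ * (x * (m * g * m⁻¹) * x⁻¹) * n := by group
      _ = n⁻¹ * (n * a * m⁻¹ * (m * g * m⁻¹) * (n * a * m⁻¹)⁻¹) * n := by rw [hxe _ rfl]
      _ = a * g * a⁻¹ := by group
  have h1 := S1242.result M hidx hfus
  rw [hperf, sup_top_eq, top_inf_eq] at h1
  have hle : Cfsg.pResidual p ↥M ⊔ commutator ↥M ≤ L := by
    have hc : Nat.card (↥M ⧸ L) = p := hL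
    refine sup_le ((closure_le L).mpr fun g hg => ?_) ?_
    · refine (QuotientGroup.eq_one_iff g).mp (orderOf_eq_one_iff.mp (Nat.eq_one_of_dvd_coprimes hg
        (orderOf_map_dvd (QuotientGroup.mk' L) g) ?_))
      exact (_root_.orderOf_dvd_natCard _).trans (hc ▸ dvd_rfl)
    · have : IsCyclic (↥M ⧸ L) := isCyclic_of_prime_card hc
      rw [_root_.commutator_def, commutator_le]
      intro a _ b _
      rw [← QuotientGroup.eq_one_iff (N := L), show (QuotientGroup.mk ⁅a, b⁆ : ↥M ⧸ L) = ⁅(QuotientGroup.mk a : ↥M ⧸ L), QuotientGroup.mk b⁆ from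
        map_commutatorElement (QuotientGroup.mk' L) a b,
        commutatorElement_eq_one_iff_mul_comm]
      exact IsMulCommutative.is_comm.comm (a : ↥M ⧸ L) b
  have h2 : M ≤ L.map M.subtype := h1.le.trans (map_mono hle)
  have h3 : L = ⊤ := by
    rw [eq_top_iff]
    intro x _
    obtain ⟨y, hy, e⟩ := h2 x.2
    rwa [← Subtype.ext (show (y : G) = x from e)]
  rw [h3, index_top] at hL
  exact hp.out.ne_one hL.symm

end Cfsg.Agent.Invol.AbP
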