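import Cfsg.Agent.Lib.Invol.AbPSetup
import Cfsg.Agent.Lib.Invol.AbPGeneric
import Cfsg.Agent.Lib.Invol.ZJLocalNormal
import Cfsg.Agent.Lib.Transfer.PStableFree

/-!
# Even order: `O_{p'}(M)` has even order
-/

set_option autoImplicit false
set_option linter.style.haveILetI false
set_option maxHeartbeats 400000

namespace Cfsg.Agent.Invol.AbP

open Subgroup
open scoped Pointwise
open Cfsg.Agent Cfsg.Agent.Transfer

universe u

variable {p : ℕ} [hp : Fact p.Prime] {G : Type u} [Group G] [Finite G]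

/-- A Sylow `p`-subgroup of `M` whose normalizer lies in `M` is one of `G`. -/
theorem sylow_of_normalizer_le {M : Subgroup G} (P₀ : Sylow p ↥M)
    (hN : normalizer (((P₀ : Subgroup ↥M).map M.subtype : Subgroup G) : Set G) ≤ M) :
    ∃ P : Sylow p G, (P : Subgroup G) = (P₀ : Subgroup ↥M).map M.subtype := by
  set S := (P₀ : Subgroup ↥M).map M.subtype with hS
  have hSp : IsPGroup p ↥S := P₀.isPGroup'.map _
  obtain ⟨P, hSP⟩ := hSp.exists_le_sylow
  refine ⟨P, ?_⟩
  rcases eq_or_lt_of_le hSP with e | hlt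
  · exact e.symm
  exfalso
  have h1 := Grp.lt_inf_normalizer P.isPGroup'.isNilpotent hlt
  exact h1.ne ((Grp.isSylowIn_iff.mpr ⟨P₀, rfl⟩ : Grp.IsSylowIn p S M).eq_of_le h1.le (inf_le_right.trans hN)
    (P.isPGroup'.to_le inf_le_left))

namespace Cfg

variable {T : Sylow 2 G} {M : Subgroup G} (c : Cfg p T M)
include c

theorem qd_free : ¬ Cfsg.Involves ↥(Cfsg.qd p) G :=
  Transfer.qdFree_of_sylow_two_comm (Ne.symm c.min.p_ne_two) fun S => comm_two c.min S

theorem dvd_card_M : p ∣ Nat.card ↥M :=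
  ((dvd_of_eq c.automizer.1.symm).trans (relIndex_dvd_card _ _)).trans (card_dvd_of_le c.norm_le)

theorem le_cent : centralizer ((T : Subgroup G) : Set G) ≤ M := (centralizer_le_normalizer _).trans c.norm_le

theorem T_le_cent : (T : Subgroup G) ≤ centralizer ((T : Subgroup G) : Set G) := fun t ht =>
  mem_centralizer_iff.mpr fun _ hs => c.T_comm hs ht

/-- `M` has a normal subgroup of index `p`. -/
theorem exists_index_p : ∃ L : Subgroup ↥M, L.Normal ∧ L.index = p := by
  set N := normalizer ((T : Subgroup G) : Set G) with hN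
  set C := centralizer ((T : Subgroup G) : Set G) with hC
  set O := Loc.O' 2 M with hO
  have hCN : C ≤ N := centralizer_le_normalizer _
  have hNO : N ≤ normalizer (O : Set G) := c.norm_le.trans (Loc.le_normalizer_core' M)
  have hdecomp : M ≤ O ⊔ N :=
    (frattini_two c.min T c.coatom.1 c.T_le).trans (sup_le_sup_left inf_le_right _)
  set L := C ⊔ O with hL
  have hLM : L ≤ M := sup_le c.le_cent (Loc.O'_le 2 M)
  have hNC : N ≤ normalizer (C : Set G) := by
    intro m hm
    refine mem_normalizer_fintype fun x hx => mem_centralizer_iff.mpr fun t ht => ?_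
    have h1 : m⁻¹ * t * m ∈ (T : Subgroup G) := (mem_normalizer_iff''.mp hm t).mp ht
    have h2 := mem_centralizer_iff.mp hx _ h1
    calc t * (m * x * m⁻¹) = m * ((m⁻¹ * t * m) * x) * m⁻¹ := by group
      _ = m * (x * (m⁻¹ * t * m)) * m⁻¹ := by rw [h2]
      _ = m * x * m⁻¹ * t := by group
  have hNL : N ≤ normalizer (L : Set G) := by
    intro n hn
    refine mem_normalizer_fintype fun x hx => ?_
    suffices L.map (MulAut.conj n).toMonoidHom ≤ L from this ⟨x, hx, rfl⟩
    rw [hL, Subgroup.map_sup]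
    refine sup_le ?_ ?_
    · rintro _ ⟨y, hy, rfl⟩
      exact (le_sup_left : C ≤ C ⊔ O) ((mem_normalizer_iff.mp (hNC hn) y).mp hy)
    · rintro _ ⟨y, hy, rfl⟩
      exact (le_sup_right : O ≤ C ⊔ O) ((mem_normalizer_iff.mp (hNO hn) y).mp hy)
  have hMN : M ≤ normalizer (L : Set G) :=
    hdecomp.trans (sup_le ((le_sup_right : O ≤ C ⊔ O).trans le_normalizer) hNL)
  refine ⟨L.subgroupOf M, normal_subgroupOf_of_le_normalizer hMN, ?_⟩
  have hinf : N ⊓ L = C := by
    refine le_antisymm ?_ (le_inf hCN le_sup_left)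
    rintro x ⟨hxN, hxL⟩
    change x ∈ ((C ⊔ O : Subgroup G) : Set G) at hxL
    rw [coe_mul_of_left_le_normalizer_right C O (hCN.trans hNO)] at hxL
    obtain ⟨a, ha, o, ho, rfl⟩ := hxL
    have hoN : o ∈ N := by simpa using mul_mem (inv_mem (hCN ha)) hxN
    refine mul_mem ha (mem_centralizer_iff.mpr fun t ht => ?_)
    have hcom : o * t * o⁻¹ * t⁻¹ ∈ (T : Subgroup G) ⊓ O := by
      refine ⟨(T : Subgroup G).mul_mem ((mem_normalizer_iff.mp hoN t).mp ht) ((T : Subgroup G).inv_mem ht), ?_⟩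
      rw [show o * t * o⁻¹ * t⁻¹ = o * (t * o⁻¹ * t⁻¹) by group]
      exact mul_mem ho ((mem_normalizer_iff.mp (hNO (le_normalizer ht)) o⁻¹).mp (inv_mem ho))
    rw [Grp.inf_eq_bot_of_coprime (two_coprime T (O'_odd M)), mem_bot] at hcom
    exact (mul_inv_eq_iff_eq_mul.mp (mul_inv_eq_one.mp hcom)).symm
  have hsup : N ⊔ L = M := le_antisymm (sup_le c.norm_le hLM)
    (hdecomp.trans (sup_le ((le_sup_right : O ≤ C ⊔ O).trans le_sup_right) le_sup_left))
  have e1 := Grp.card_sup_mul_card_inf hNL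
  rw [hsup, hinf] at e1
  have e2 := Grp.card_mul_relIndex hLM
  have e3 : Nat.card ↥C * p = Nat.card ↥N := c.automizer.1 ▸ Grp.card_mul_relIndex hCN
  show L.relIndex M = p
  refine Nat.eq_of_mul_eq_mul_left (Nat.mul_pos (Nat.card_pos (α := ↥L)) (Nat.card_pos (α := ↥C))) ?_
  calc Nat.card ↥L * Nat.card ↥C * L.relIndex M = Nat.card ↥L * L.relIndex M * Nat.card ↥C := by ring
    _ = Nat.card ↥L * Nat.card ↥C * p := by rw [e2, e1, ← e3]; ring

/-- The conclusion when the Thompson subgroup is controlled by `M`. -/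
theorem false_of_zj (P₀ : Sylow p ↥M)
    (hN : normalizer (Cfsg.centerThompsonAOf ((P₀ : Subgroup ↥M).map M.subtype) : Set G) ≤ M) : False := by
  obtain ⟨P, hP⟩ := sylow_of_normalizer_le P₀
    (((Invol.isZJFunctor_centerThompsonA (p := p)).normalizer_le _).trans hN)
  obtain ⟨L, hLn, hL⟩ := c.exists_index_p
  exact transfer_false (Ne.symm c.min.p_ne_two) c.min.perfect c.qd_free P (M := M)
    (hP ▸ map_subtype_le _) (hP ▸ hN) L hL

/-- `O_{p'}(M)` has even order. -/
theorem core_even : Even (Nat.card ↥(Cfsg.pPrimeCore p ↥M)) := by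
  by_contra hodd
  rw [Nat.not_even_iff_odd] at hodd
  have hp2 : p ≠ 2 := Ne.symm c.min.p_ne_two
  set E := Cfsg.pPrimeCore p ↥M with hE
  have hEn : E.Normal := Grp.pPrimeCore_isNormal
  have := c.min.sol M c.coatom.1
  have hsolQ : Group.IsSolvable (↥M ⧸ E) := Group.isSolvable_of_surjective (QuotientGroup.mk'_surjective E)
  have hc := S0017.result (G := ↥M ⧸ E) p Grp.pPrimeCore_quotient_eq_bot
  have hfreeQ : ¬ Cfsg.Involves ↥(Cfsg.qd p) (↥M ⧸ E) := fun hi => c.qd_free
    ((Invol.isSectionOf_of_involves hi).trans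
      ((Invol.IsSectionOf.of_surjective _ (QuotientGroup.mk'_surjective E)).trans
        (Invol.IsSectionOf.of_subgroup M))).involves
  obtain ⟨P₀⟩ : Nonempty (Sylow p ↥M) := inferInstance
  set W := fun (H : Type u) [Group H] (R : Subgroup H) => Cfsg.centerThompsonAOf R with hW
  have hWf : Invol.IsZJFunctor p W := Invol.isZJFunctor_centerThompsonA
  obtain ⟨-, hfac⟩ := Invol.zj_factorization hp2 hWf hc
    (fun V _ hV => Grp.Quad.isPStableOn_of_free hp2 hfreeQ V hV) P₀
  set Nz := normalizer (W ↥M P₀ : Set ↥M) with hNz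
  have hidx : Odd Nz.index := by
    have h1 := Grp.card_sup_mul_card_inf (H := Nz) (N := E) (by rw [normalizer_eq_top]; exact le_top)
    rw [sup_comm, hfac, Subgroup.card_top, ← Nz.card_mul_index, mul_assoc] at h1
    exact (hodd.of_dvd_nat ⟨_, (Nat.eq_of_mul_eq_mul_left Nat.card_pos h1).symm⟩)
  obtain ⟨R⟩ : Nonempty (Sylow 2 ↥Nz) := inferInstance
  have hRp : IsPGroup 2 ↥((R : Subgroup ↥Nz).map Nz.subtype) := R.isPGroup'.map _
  have hRidx : ¬ 2 ∣ ((R : Subgroup ↥Nz).map Nz.subtype).index := by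
    rw [index_map_subtype]
    exact fun hd => (Nat.prime_two.dvd_mul.mp hd).elim R.not_dvd_index hidx.not_two_dvd_nat
  obtain ⟨m, hm⟩ := MulAction.exists_smul_eq ↥M (T.subtype c.T_le) (hRp.toSylow hRidx)
  have hmT : ∀ t ∈ (T : Subgroup G), ∀ (ht : t ∈ M), m * ⟨t, ht⟩ * m⁻¹ ∈ Nz := by
    intro t ht htM
    have : m * ⟨t, htM⟩ * m⁻¹ ∈ ((hRp.toSylow hRidx : Sylow 2 ↥M) : Subgroup ↥M) := by
      rw [← hm]; exact ⟨⟨t, htM⟩, ht, rfl⟩
    exact map_subtype_le (R : Subgroup ↥Nz) this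
  set PG := (P₀ : Subgroup ↥M).map M.subtype with hPG
  have hmap : (W ↥M P₀).map M.subtype = Cfsg.centerThompsonAOf PG :=
    hWf.map M.subtype _ fun x _ e => Subtype.ext e
  have hPG1 : PG ≠ ⊥ := fun e => P₀.ne_bot_of_dvd_card c.dvd_card_M
    (((P₀ : Subgroup ↥M).map_eq_bot_iff_of_injective M.subtype_injective).mp e)
  have hPGp : IsPGroup p ↥PG := P₀.isPGroup'.map _
  set NZ := normalizer (Cfsg.centerThompsonAOf PG : Set G) with hNZ
  have hNZ1 : NZ ≠ ⊤ := c.min.normalizer_ne_top (hWf.ne_bot hPGp hPG1)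
    (c.min.pgroup_ne_top (hPGp.to_le (hWf.le PG)))
  refine c.false_of_zj P₀ ?_
  -- a conjugate by an element of `M` contains `T`
  set H := NZ.map (MulAut.conj (m : G)⁻¹).toMonoidHom with hH
  have hH1 : H ≠ ⊤ := fun e => hNZ1 (eq_top_of_card_eq _ (by
    rw [← card_map_of_injective (f := (MulAut.conj (m : G)⁻¹).toMonoidHom) (MulAut.conj _).injective, ← hH, e,
      Subgroup.card_top]))
  have hTH : (T : Subgroup G) ≤ H := by
    intro t ht
    refine ⟨(m : G) * t * (m : G)⁻¹, ?_, ?_⟩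
    · have h1 := le_normalizer_map M.subtype (mem_map_of_mem M.subtype (hmT t ht (c.T_le ht)))
      rw [hmap] at h1
      exact h1
    · show (m : G)⁻¹ * ((m : G) * t * (m : G)⁻¹) * (m : G)⁻¹⁻¹ = t
      group
  intro x hx
  have h1 : (m : G)⁻¹ * x * (m : G)⁻¹⁻¹ ∈ M := c.le_M hH1 hTH ⟨x, hx, rfl⟩
  have := mul_mem (mul_mem m.2 h1) (inv_mem m.2)
  simpa [mul_assoc] using this

/-- So `M = N(T)`. -/
theorem M_eq : M = normalizer ((T : Subgroup G) : Set G) := by
  classical
  refine le_antisymm ?_ c.norm_le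
  set E := (Cfsg.pPrimeCore p ↥M).map M.subtype with hE
  have hEn : M ≤ normalizer (E : Set G) := by
    have := Grp.pPrimeCore_isNormal (p := p) (G := ↥M)
    exact Loc.map_normal_le_normalizer _
  have hEc : (Nat.card ↥E).Coprime p := by
    rw [hE, card_map_of_injective M.subtype_injective]
    exact Grp.pPrimeCore_coprime
  have hTE := T_centralizes c.min T hEc (c.T_le.trans hEn)
  obtain ⟨e, he⟩ := exists_prime_orderOf_dvd_card' (G := ↥E) 2 (by
    rw [hE, card_map_of_injective M.subtype_injective]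
    exact even_iff_two_dvd.mp c.core_even)
  have he2 : orderOf (e : G) = 2 := by rw [Subgroup.orderOf_coe, he]
  have heM : (e : G) ∈ M := map_subtype_le _ e.2
  obtain ⟨m, hm, hmT⟩ := involution_to_T c.T_le heM (isPGroup_of_order_two he2)
  have hs : m * e * m⁻¹ ∈ E := (mem_normalizer_iff.mp (hEn hm) e).mp e.2
  have hs2 : orderOf (m * e * m⁻¹) = 2 := by
    rw [← he2]; exact orderOf_injective (MulAut.conj m).toMonoidHom (MulAut.conj m).injective _
  have hTleE : (T : Subgroup G) ≤ E := by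
    intro t ht
    by_cases ht1 : t = 1
    · exact ht1 ▸ one_mem _
    obtain ⟨y, hy, rfl⟩ := c.conj_in_normalizer hmT ht hs2 (c.orderOf_two ht ht1)
    exact (mem_normalizer_iff.mp (hEn (c.norm_le hy)) _).mp hs
  intro x hx
  refine mem_normalizer_fintype fun t ht => ?_
  have hxt : x * t * x⁻¹ ∈ E := (mem_normalizer_iff.mp (hEn hx) t).mp (hTleE ht)
  have hp2 : IsPGroup 2 ↥(zpowers (x * t * x⁻¹)) := by
    refine IsPGroup.of_card (n := if t = 1 then 0 else 1) ?_
    rw [Nat.card_zpowers]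
    split_ifs with h1
    · simp [h1]
    · rw [pow_one, ← c.orderOf_two ht h1]
      exact orderOf_injective (MulAut.conj x).toMonoidHom (MulAut.conj x).injective t
  have hn : zpowers (x * t * x⁻¹) ≤ normalizer ((T : Subgroup G) : Set G) := by
    refine (zpowers_le.mpr ?_).trans (centralizer_le_normalizer _)
    exact mem_centralizer_iff.mpr fun s hs => (mem_centralizer_iff.mp (hTE hs) _ hxt).symm
  have := T.is_maximal' (hp2.to_sup_of_normal_right' T.isPGroup' hn) le_sup_right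
  exact this.le ((le_sup_left : zpowers (x * t * x⁻¹) ≤ zpowers (x * t * x⁻¹) ⊔ (T : Subgroup G)) (mem_zpowers _))

end Cfg

end Cfsg.Agent.Invol.AbP
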