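import Cfsg.Agent.Lib.Invol.FunctorLocalGlobal
import Cfsg.Agent.Lib.Invol.ZJFunctor
import Cfsg.Agent.Lib.Invol.Section
import Cfsg.Agent.Lib.Invol.QdFusion
import Cfsg.Agent.Lib.Fus.QdBasic
import Cfsg.Agent.Lib.Fus.ShiftMeasure

/-!
Control by `N(Z(J(S)))` when no local subgroup above the centre involves `SL(2, p)`.
-/

set_option autoImplicit false

open scoped Pointwise

namespace Cfsg.Agent.Invol.ZJLocalSection

open Subgroup
open Cfsg.Agent.Invol.CentralControl
open Cfsg.Agent.Invol.StrongAlperin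

universe u

variable {G : Type u} [Group G] [Finite G] {p : ℕ} [hp : Fact p.Prime]

omit hp in
/-- The centre lies in the centre of the Thompson subgroup. -/
theorem center_le_centerThompsonA (R : Subgroup G) :
    R ⊓ centralizer (R : Set G) ≤ centerThompsonAOf R := by
  rintro z ⟨hzR, hzc⟩
  obtain ⟨A, hA, -⟩ := Fus.Shift.exists_maxAb R
  have hz : z ∈ A := hA.mem_of_commute hzR fun a ha => mem_centralizer_iff.mp hzc a (hA.1 ha)
  exact ⟨hA.le_thompsonA hz, mem_centralizer_iff.mpr fun j hj =>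
    mem_centralizer_iff.mp hzc j (Fus.thompsonA_le R hj)⟩

theorem isConjugacyFunctor_centerThompsonA :
    Cfsg.IsConjugacyFunctor p (fun R : Subgroup G => centerThompsonAOf R) := by
  have hW := isZJFunctor_centerThompsonA.{u} (p := p)
  exact fun R hR => ⟨hW.le R, hW.ne_bot hR, fun g =>
    (hW.map (MulAut.conj g).toMonoidHom R fun x _ h => (MulAut.conj g).injective (h.trans (map_one _).symm)).symm⟩

omit [Finite G] hp in
/-- An involved group in a subgroup, written inside the ambient group. -/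
theorem exists_section {X : Type*} [Group X] {N : Subgroup G} (h : IsSectionOf X N) :
    ∃ (H K : Subgroup G) (hK : (K.subgroupOf H).Normal), H ≤ N ∧
      Nonempty ((H ⧸ K.subgroupOf H) ≃* X) := by
  obtain ⟨L, f, hf⟩ := h
  let φ : ↥(L.map N.subtype) →* X := f.comp (L.equivMapOfInjective N.subtype N.subtype_injective).symm.toMonoidHom
  have hφ : Function.Surjective φ := hf.comp (MulEquiv.surjective _)
  have e : (φ.ker.map (L.map N.subtype).subtype).subgroupOf (L.map N.subtype) = φ.ker :=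
    comap_map_eq_self_of_injective (subtype_injective _) _
  have hn : ((φ.ker.map (L.map N.subtype).subtype).subgroupOf (L.map N.subtype)).Normal := e.symm ▸ inferInstance
  exact ⟨_, _, hn, map_subtype_le L,
    ⟨(QuotientGroup.quotientMulEquivOfEq e).trans (QuotientGroup.quotientKerEquivOfSurjective φ hφ)⟩⟩

theorem zj_control (hp2 : p ≠ 2) (S : Sylow p G)
    (hfree : ∀ U : Subgroup G, (S : Subgroup G) ⊓ centralizer ((S : Subgroup G) : Set G) ≤ U →
      U ≤ (S : Subgroup G) → ¬ IsSectionOf (Matrix.SpecialLinearGroup (Fin 2) (ZMod p))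
        ↥(normalizer (U : Set G)))
    {X : Set G} {a : G} (hX : X ⊆ (S : Set G)) (ha : rc a X ⊆ (S : Set G)) :
    Matched S (fun R : Subgroup G => centerThompsonAOf R) X a := by
  refine strong_fusion_functor isConjugacyFunctor_centerThompsonA
    (fun R _ => center_le_centerThompsonA R) ?_ hX ha
  intro H hH A g hg hA hgA
  obtain ⟨N, hN⟩ : ∃ N, N = normalizer (H : Set G) := ⟨_, rfl⟩
  rw [← hN] at hg hA hgA ⊢
  obtain ⟨T, hT⟩ : ∃ T, T = (S : Subgroup G) ⊓ N := ⟨_, rfl⟩
  rw [← hT] at hA hgA ⊢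
  have hqd : ¬ Involves ↥(qd p) ↥N := fun h => hfree H hH.center_le hH.le
    (hN ▸ (IsSectionOf.of_surjective (Fus.qdBlock p) Fus.qdBlock_surjective).trans (isSectionOf_of_involves h))
  obtain ⟨V, hV⟩ := Grp.isSylowIn_iff.mp (hT ▸ hN ▸ hH.sylow : Grp.IsSylowIn p T N)
  have hAN : ∀ x ∈ A, x ∈ N := fun x hx => (hT.le (hA hx) : x ∈ (S : Subgroup G) ⊓ N).2
  have hW := isZJFunctor_centerThompsonA.{u} (p := p)
  have hmemV : ∀ y : ↥N, (y : G) ∈ T → y ∈ (V : Subgroup ↥N) := fun y hy => by
    rw [← hV] at hy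
    exact (mem_map_iff_mem N.subtype_injective).mp hy
  obtain ⟨x, hx, he⟩ := zj_control_of_free hp2 hW hqd V (D := (V : Subgroup ↥N))
    ⟨le_rfl, fun _ _ _ h => h⟩ (A := {y : ↥N | (y : G) ∈ A}) (fun y hy => hmemV y (hA hy))
    (g := ⟨g, hg⟩⁻¹) (fun y hy => hmemV _ (hgA ⟨(y : G), hy, by simp⟩))
  refine ⟨(x : G)⁻¹, inv_mem ?_, fun w hw => ?_⟩
  · have hm := hW.map N.subtype (V : Subgroup ↥N) fun y _ h => N.subtype_injective (h.trans (map_one _).symm)
    rw [hV] at hm
    have h := le_normalizer_map N.subtype (mem_map_of_mem N.subtype hx)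
    rw [hm] at h
    exact h
  · have := congrArg Subtype.val (he ⟨w, hAN w hw⟩ hw)
    simpa using this

end Cfsg.Agent.Invol.ZJLocalSection
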