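import Cfsg.Agent.Lib.Invol.AbPPoint
import Cfsg.Agent.Lib.Invol.ZJLocalSection
import Cfsg.Agent.Lib.Fus.ShiftMeasure

/-!
# Even order: a Sylow `p`-subgroup of `M = N(T)` has order `p` and exactly two fixed points
-/

set_option autoImplicit false
set_option linter.style.haveILetI false
set_option maxHeartbeats 400000

namespace Cfsg.Agent.Invol.AbP

open Subgroup
open scoped Pointwise
open Cfsg.Agent Cfsg.Agent.Transfer

universe u

variable {p : ℕ} [hp : Fact p.Prime] {G : Type u} [Group G] [Finite G]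

theorem centerThompsonAOf_of_comm {R : Subgroup G} (h : ∀ a ∈ R, ∀ b ∈ R, a * b = b * a) :
    Cfsg.centerThompsonAOf R = R := by
  refine le_antisymm (inf_le_left.trans (Fus.thompsonA_le R)) ?_
  refine le_trans (le_inf le_rfl ?_) (Invol.ZJLocalSection.center_le_centerThompsonA R)
  exact fun x hx => mem_centralizer_iff.mpr fun y hy => h y hy x hx

namespace Cfg

variable {T : Sylow 2 G} {M : Subgroup G} (c : Cfg p T M) (P₀ : Sylow p ↥M)
include c

theorem PG_small : Nat.card ↥((P₀ : Subgroup ↥M).map M.subtype) ≤ p ^ 2 := by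
  by_contra hbig
  push Not at hbig
  set PG := (P₀ : Subgroup ↥M).map M.subtype with hPG
  set C := centralizer ((T : Subgroup G) : Set G) with hC
  have hPM : PG ≤ M := map_subtype_le _
  have hPp : IsPGroup p ↥PG := P₀.isPGroup'.map _
  set B := PG ⊓ C with hB
  have hBidx : C.relIndex PG ≤ p := c.idx_C ▸ relIndex_le_of_le_right hPM (by rw [c.idx_C]; exact hp.out.ne_zero)
  have hB1 : p ∣ Nat.card ↥B := by
    obtain ⟨n, hn⟩ := IsPGroup.iff_card.mp (hPp.to_le (inf_le_left (b := C)))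
    rcases Nat.eq_zero_or_pos n with rfl | hn0
    · exfalso
      have := Grp.relIndex_mul_card_inf PG C
      rw [hn, pow_zero, one_mul] at this
      have h2 : p ≤ p ^ 2 := Nat.le_self_pow two_ne_zero p
      omega
    · exact hn ▸ dvd_pow_self p hn0.ne'
  have hPB : PG ≤ normalizer (B : Set G) := by
    intro x hx
    refine mem_normalizer_fintype fun b hb => ?_
    exact ⟨PG.mul_mem (PG.mul_mem hx hb.1) (PG.inv_mem hx), (mem_normalizer_iff.mp (c.C_normal (hPM hx)) b).mp hb.2⟩
  have hmod := fixed_modEq hPp hPB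
  have hdvd : p ∣ Nat.card ↥(B ⊓ centralizer (PG : Set G)) :=
    Nat.modEq_zero_iff_dvd.mp (hmod.symm.trans (Nat.modEq_zero_iff_dvd.mpr hB1))
  have hnt : Nontrivial ↥(B ⊓ centralizer (PG : Set G)) := by
    rw [← Finite.one_lt_card_iff_nontrivial]
    exact lt_of_lt_of_le hp.out.one_lt (Nat.le_of_dvd Nat.card_pos hdvd)
  obtain ⟨z, ⟨hzB, hzC⟩, hz1⟩ := (nontrivial_iff_exists_ne_one _).mp hnt
  have hzZJ : z ∈ Cfsg.centerThompsonAOf PG := Invol.ZJLocalSection.center_le_centerThompsonA PG ⟨hzB.1, hzC⟩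
  have hCz : centralizer ({z} : Set G) ≤ M := c.C_cent_le hzB.2 hz1
  refine c.false_of_zj P₀ ?_
  intro g hg
  by_contra hgM
  have hz' : g * z * g⁻¹ ∈ Cfsg.centerThompsonAOf PG := (mem_normalizer_iff.mp hg z).mp hzZJ
  have hne : ((1 : G) : G ⧸ M) ≠ ((g : G) : G ⧸ M) := fun e => hgM (by
    simpa using (QuotientGroup.eq).mp e)
  obtain ⟨-, -, hD⟩ := c.pair_facts hne
  set D := MulAction.stabilizer G ((1 : G) : G ⧸ M) ⊓ MulAction.stabilizer G ((g : G) : G ⧸ M) with hDdef
  -- every maximal abelian subgroup of `PG` lies in `D`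
  have hin : ∀ A : Subgroup G, Fus.IsMaxAb PG A → A ≤ D := by
    intro A hA a ha
    refine ⟨by rw [MulAction.stabilizer_quotient]; exact hPM (hA.1 ha), mem_stab_smul g |>.mpr (hCz ?_)⟩
    refine mem_centralizer_singleton_iff.mpr ?_
    have h1 := hA.2.1 a ha _ (Fus.centerThompsonA_le_maxAb hA hz')
    calc g⁻¹ * a * g * z = g⁻¹ * (a * (g * z * g⁻¹)) * g := by group
      _ = g⁻¹ * ((g * z * g⁻¹) * a) * g := by rw [h1]
      _ = z * (g⁻¹ * a * g) := by group
  obtain ⟨A, hA, -⟩ := Fus.Shift.exists_maxAb PG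
  have hA2 : Nat.card ↥A ≤ p ^ 2 := (card_le_of_le (hin A hA)).trans hD
  have hPD : PG ≤ D := by
    intro x hx
    by_cases hxz : x ∈ zpowers z
    · exact (zpowers_le.mpr (hin A hA (Fus.centerThompsonA_le_maxAb hA hzZJ))) hxz
    set B' := zpowers z ⊔ zpowers x with hB'
    have hzx : Commute z x := (mem_centralizer_iff.mp hzC x hx).symm
    have hB'P : B' ≤ PG := sup_le (zpowers_le.mpr hzB.1) (zpowers_le.mpr hx)
    have hB'c : ∀ a ∈ B', ∀ b ∈ B', a * b = b * a := by
      have hcl : B' = Subgroup.closure {z, x} := by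
        rw [hB', zpowers_eq_closure, zpowers_eq_closure, ← Subgroup.closure_union, Set.singleton_union]
      intro a ha b hb
      rw [hcl] at ha hb
      have := Subgroup.isMulCommutative_closure (k := ({z, x} : Set G)) (by
        rintro u (rfl | rfl) v (rfl | rfl)
        exacts [rfl, hzx.eq, hzx.eq.symm, rfl])
      exact congrArg Subtype.val (this.is_comm.comm ⟨a, ha⟩ ⟨b, hb⟩)
    have hlt : zpowers z < B' := lt_of_le_of_ne le_sup_left fun e => hxz
      (e.ge ((le_sup_right : zpowers x ≤ zpowers z ⊔ zpowers x) (mem_zpowers x)))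
    obtain ⟨n, hn⟩ := IsPGroup.iff_card.mp (hPp.to_le hB'P)
    obtain ⟨m, hmn, hm⟩ := (Nat.dvd_prime_pow hp.out).mp (hn ▸ card_dvd_of_le hlt.le)
    have hm0 : m ≠ 0 := fun e => by
      rw [e, pow_zero, Nat.card_zpowers, orderOf_eq_one_iff] at hm
      exact hz1 hm
    have hnm : m ≠ n := fun e => hlt.ne (eq_of_le_of_card_ge hlt.le (by rw [hn, hm, e]))
    have hB'2 : p ^ 2 ≤ Nat.card ↥B' := hn ▸ Nat.pow_le_pow_right hp.out.pos (by omega)
    have hmax : Fus.IsMaxAb PG B' :=
      ⟨hB'P, hB'c, fun E hE hEc => (hA.2.2 E hE hEc).trans (hA2.trans hB'2)⟩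
    exact hin B' hmax ((le_sup_right : zpowers x ≤ B') (mem_zpowers x))
  have := (card_le_of_le hPD).trans hD
  omega

omit c in
theorem pgroup_card_le {γ : G ⧸ M} {Q : Subgroup G} (hQ : IsPGroup p ↥Q)
    (hQγ : Q ≤ MulAction.stabilizer G γ) : Nat.card ↥Q ≤ Nat.card ↥((P₀ : Subgroup ↥M).map M.subtype) := by
  obtain ⟨g, rfl⟩ := QuotientGroup.mk_surjective γ
  set Q' := Q.map (MulAut.conj g⁻¹).toMonoidHom with hQ'
  have hQ'M : Q' ≤ M := by
    rintro _ ⟨x, hx, rfl⟩
    have := (mem_stab_smul g).mp (hQγ hx)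
    simpa using this
  obtain ⟨R, hR⟩ := ((hQ.map (MulAut.conj g⁻¹).toMonoidHom).comap_subtype :
    IsPGroup p ↥(Q'.subgroupOf M)).exists_le_sylow
  rw [card_map_of_injective M.subtype_injective,
    show Nat.card ↥(P₀ : Subgroup ↥M) = Nat.card ↥(R : Subgroup ↥M) from
      Nat.card_congr (Sylow.equiv P₀ R).toEquiv,
    show Nat.card ↥Q = Nat.card ↥(Q'.subgroupOf M) from ((Nat.card_congr (subgroupOfEquivOfLe hQ'M).toEquiv).trans
      (card_map_of_injective (MulAut.conj g⁻¹).injective)).symm]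
  exact card_le_of_le hR

/-- The structure of the normalizer of a Sylow `p`-subgroup of `M`. -/
theorem sylow_structure :
    Nat.card ↥((P₀ : Subgroup ↥M).map M.subtype) = p ∧
    ¬ p ∣ Nat.card ↥(centralizer ((T : Subgroup G) : Set G)) ∧
    ∃ δ₀ : G ⧸ M, δ₀ ≠ ((1 : G) : G ⧸ M) ∧
      (∀ x ∈ (P₀ : Subgroup ↥M).map M.subtype, x • δ₀ = δ₀) ∧
      ∀ γ : G ⧸ M, (∀ x ∈ (P₀ : Subgroup ↥M).map M.subtype, x • γ = γ) →
        γ = ((1 : G) : G ⧸ M) ∨ γ = δ₀ := by
  classical
  have hp2 : p ≠ 2 := Ne.symm c.min.p_ne_two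
  set PG := (P₀ : Subgroup ↥M).map M.subtype with hPG
  set C := centralizer ((T : Subgroup G) : Set G) with hC
  set b : G ⧸ M := ((1 : G) : G ⧸ M) with hb
  have hPM : PG ≤ M := map_subtype_le _
  have hPp : IsPGroup p ↥PG := P₀.isPGroup'.map _
  have hsmall := c.PG_small P₀
  obtain ⟨n, hn⟩ := IsPGroup.iff_card.mp hPp
  have hn2 : n ≤ 2 := (Nat.pow_le_pow_iff_right hp.out.one_lt).mp (hn ▸ hsmall)
  have hab : ∀ x ∈ PG, ∀ y ∈ PG, x * y = y * x := by
    have hPG' : IsMulCommutative ↥PG := by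
      rcases (by omega : n = 0 ∨ n = 1 ∨ n = 2) with h | h | h <;> rw [h] at hn
      · rw [pow_zero] at hn
        have := (Nat.card_eq_one_iff_unique.mp hn).1
        exact ⟨⟨fun _ _ => Subsingleton.elim _ _⟩⟩
      · have := isCyclic_of_prime_card (hn.trans (pow_one p))
        infer_instance
      · exact IsPGroup.isMulCommutative_of_card_eq_prime_sq hn
    exact fun x hx y hy => congrArg Subtype.val (hPG'.is_comm.comm ⟨x, hx⟩ ⟨y, hy⟩)
  obtain ⟨g₀, hg₀, hg₀M⟩ : ∃ g ∈ normalizer (PG : Set G), g ∉ M := by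
    by_contra hc
    push Not at hc
    exact c.false_of_zj P₀ (by rw [centerThompsonAOf_of_comm hab]; exact hc)
  set N := normalizer (PG : Set G) with hN
  have hfixb : ∀ x ∈ PG, x • b = b := fun x hx => by
    rw [← MulAction.mem_stabilizer_iff, hb, MulAction.stabilizer_quotient]; exact hPM hx
  have hinvar : ∀ n ∈ N, ∀ γ : G ⧸ M, (∀ x ∈ PG, x • γ = γ) → ∀ x ∈ PG, x • (n • γ) = n • γ := by
    intro n hn γ hγ x hx
    have h1 := hγ _ ((mem_normalizer_iff''.mp hn x).mp hx)
    calc x • n • γ = n • (n⁻¹ * x * n) • γ := by rw [smul_smul, smul_smul]; group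
      _ = n • γ := by rw [h1]
  -- the pair stabilisers
  have hpair : ∀ γ δ : G ⧸ M, γ ≠ δ → (∀ x ∈ PG, x • γ = γ) → (∀ x ∈ PG, x • δ = δ) →
      MulAction.stabilizer G γ ⊓ MulAction.stabilizer G δ = PG := fun γ δ hne hγ hδ =>
    (eq_of_le_of_card_ge (le_inf (fun x hx => MulAction.mem_stabilizer_iff.mpr (hγ x hx))
      (fun x hx => MulAction.mem_stabilizer_iff.mpr (hδ x hx)))
      (pgroup_card_le P₀ (c.pair_facts hne).1 inf_le_left)).symm
  let F := {γ : G ⧸ M // ∀ x ∈ PG, x • γ = γ}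
  have hF : 2 ≤ Nat.card F := by
    rw [Nat.succ_le_iff, Finite.one_lt_card_iff_nontrivial]
    refine ⟨⟨b, hfixb⟩, ⟨g₀ • b, hinvar g₀ hg₀ b hfixb⟩, fun e => hg₀M ?_⟩
    have e1 : g₀ • b = b := (congrArg Subtype.val e).symm
    rwa [← MulAction.mem_stabilizer_iff, hb, MulAction.stabilizer_quotient] at e1
  letI : MulAction ↥N F :=
    { smul := fun n γ => ⟨(n : G) • γ.1, hinvar n n.2 γ.1 γ.2⟩
      one_smul := fun γ => Subtype.ext (one_smul G γ.1)
      mul_smul := fun n m γ => Subtype.ext (mul_smul (n : G) (m : G) γ.1) }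
  set φ := MulAction.toPermHom ↥N F with hφ
  have : Nontrivial F := Finite.one_lt_card_iff_nontrivial.mp hF
  have hker : ∀ m : ↥N, φ m = 1 ↔ (m : G) ∈ PG := by
    intro m
    constructor
    · intro hm
      obtain ⟨γ, δ, hne⟩ := exists_pair_ne F
      rw [← hpair γ.1 δ.1 (fun e => hne (Subtype.ext e)) γ.2 δ.2]
      exact ⟨congrArg Subtype.val (Equiv.Perm.ext_iff.mp hm γ), congrArg Subtype.val (Equiv.Perm.ext_iff.mp hm δ)⟩
    · intro hm
      exact Equiv.Perm.ext fun γ => Subtype.ext (γ.2 _ hm)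
  -- the part of `PG` in a point centraliser is proper
  have hproper : ∀ γ : G ⧸ M, (∀ x ∈ PG, x • γ = γ) → ¬ PG ≤ pointCent M γ := by
    intro γ hγ hle
    obtain ⟨g, rfl⟩ := QuotientGroup.mk_surjective γ
    set Q' := PG.map (MulAut.conj g⁻¹).toMonoidHom with hQ'
    have hQC : Q' ≤ C := by
      rintro _ ⟨x, hx, rfl⟩
      have h1 := hle hx
      rw [← smul_base g, pointCent_smul, c.pointCent_base] at h1
      simpa [hC] using h1
    have hQM : Q' ≤ M := hQC.trans c.le_cent
    have hcard : Nat.card ↥Q' = Nat.card ↥PG := card_map_of_injective (MulAut.conj g⁻¹).injective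
    have h1 : Q'.relIndex M * Nat.card ↥Q' = Nat.card ↥M := by rw [mul_comm]; exact Grp.card_mul_relIndex hQM
    have h2 : PG.relIndex M * Nat.card ↥PG = Nat.card ↥M := by rw [mul_comm]; exact Grp.card_mul_relIndex hPM
    rw [hcard, ← h2] at h1
    have h3 := Nat.eq_of_mul_eq_mul_right Nat.card_pos h1
    have h4 : p ∣ Q'.relIndex M := c.idx_C ▸ relIndex_dvd_of_le_left M hQC
    exact (Grp.isSylowIn_iff.mpr ⟨P₀, rfl⟩ : Grp.IsSylowIn p PG M).2.2 (h3 ▸ h4)
  have hnocent : ∀ i ∈ N, orderOf i = 2 → ∃ a ∈ PG, i * a * i⁻¹ ≠ a := by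
    intro i hi hi2
    by_contra hc
    push Not at hc
    obtain ⟨g, hg⟩ := Invol.exists_fixed c.stronglyEmbedded hi2
    have hfix : i • ((g : G) : G ⧸ M) = ((g : G) : G ⧸ M) :=
      MulAction.mem_stabilizer_iff.mp ((mem_stab_smul g).mpr hg)
    have hle : PG ≤ pointCent M ((g : G) : G ⧸ M) := by
      intro a ha
      rw [← c.cent_involution hi2 hfix, mem_centralizer_singleton_iff]
      exact (mul_inv_eq_iff_eq_mul.mp (hc a ha)).symm
    exact hproper _ (fun x hx => MulAction.mem_stabilizer_iff.mp (c.pointCent_le _ (hle hx))) hle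
  have hodd : Odd (Nat.card ↥PG) := by rw [hn]; exact (hp.out.odd_of_ne_two hp2).pow
  have hnofix : ∀ i ∈ N, orderOf i = 2 → ∀ γ : G ⧸ M, (∀ x ∈ PG, x • γ = γ) → i • γ ≠ γ := by
    intro i hi hi2 γ hγ hiγ
    obtain ⟨a, ha, hne⟩ := hnocent i hi hi2
    apply hne
    set i' := a * i * a⁻¹ with hi'
    have hi'2 : orderOf i' = 2 := by
      rw [← hi2]; exact orderOf_injective (MulAut.conj a).toMonoidHom (MulAut.conj a).injective i
    have hi'γ : i' • γ = γ := by
      rw [hi', mul_smul, mul_smul, show a⁻¹ • γ = γ from hγ _ (inv_mem ha), hiγ, hγ a ha]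
    have hcomm : i' * i = i * i' := by
      have h1 : i' ∈ centralizer ({i} : Set G) := by
        rw [c.cent_involution hi2 hiγ]
        refine mem_centralizer_iff.mpr fun t ht => ?_
        obtain ⟨g, rfl⟩ := QuotientGroup.mk_surjective γ
        have key : ∀ s : G, orderOf s = 2 → s • ((g : G) : G ⧸ M) = ((g : G) : G ⧸ M) →
            g⁻¹ * s * g ∈ (T : Subgroup G) := fun s hs hsγ =>
          c.inv_in_T ((mem_stab_smul g).mp hsγ) (isPGroup_of_order_two (by
            rw [← hs]; simpa using orderOf_injective (MulAut.conj g⁻¹).toMonoidHom (MulAut.conj g⁻¹).injective s))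
        have h2 := c.T_comm (key t ht.1 ht.2) (key i' hi'2 hi'γ)
        calc t * i' = g * (g⁻¹ * t * g * (g⁻¹ * i' * g)) * g⁻¹ := by group
          _ = g * (g⁻¹ * i' * g * (g⁻¹ * t * g)) * g⁻¹ := by rw [h2]
          _ = i' * t := by group
      exact mem_centralizer_singleton_iff.mp h1
    have hii : i * i = 1 := by rw [← pow_two, ← hi2]; exact pow_orderOf_eq_one i
    have hi'i : i' * i' = 1 := by rw [← pow_two, ← hi'2]; exact pow_orderOf_eq_one i'
    have hmem : i * i' ∈ PG := by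
      rw [hi', show i * (a * i * a⁻¹) = (i * a * i) * a⁻¹ by group]
      refine mul_mem ?_ (inv_mem ha)
      have h1 := (mem_normalizer_iff.mp hi a).mp ha
      rwa [inv_eq_of_mul_eq_one_right hii] at h1
    have h2 : (i * i') ^ 2 = 1 := by
      rw [pow_two]
      calc i * i' * (i * i') = i * (i' * i) * i' := by group
        _ = (i * i) * (i' * i') := by rw [hcomm]; group
        _ = 1 := by rw [hii, hi'i, mul_one]
    have h3 : i * i' = 1 := orderOf_eq_one_iff.mp (Nat.eq_one_of_dvd_coprimes (Nat.coprime_two_right.mpr hodd)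
      (Subgroup.orderOf_dvd_natCard _ hmem) (orderOf_dvd_of_pow_eq_one h2))
    have e : i' = i := mul_left_cancel (h3.trans hii.symm)
    rw [hi'] at e
    have e2 : a * i = i * a := mul_inv_eq_iff_eq_mul.mp e
    rw [← e2, mul_inv_cancel_right]
  have hlift : ∀ x : ↥φ.range, orderOf x = 2 → ∃ i : ↥N, orderOf (i : G) = 2 ∧ φ i = x.1 := by
    rintro ⟨x, m, rfl⟩ hx
    rw [← Subgroup.orderOf_coe] at hx
    change orderOf (φ m) = 2 at hx
    have hm2 : ((m : G) * m) ∈ PG := by
      refine (hker (m * m)).mp ?_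
      rw [map_mul, ← pow_two, ← hx, pow_orderOf_eq_one]
    have hφ2 : φ m * φ m = 1 := by rw [← pow_two, ← hx]; exact pow_orderOf_eq_one _
    obtain ⟨k, hk⟩ := hodd
    refine ⟨m ^ (2 * k + 1), ?_, ?_⟩
    · refine orderOf_eq_prime ?_ fun e => ?_
      · rw [coe_pow, ← pow_mul, show (2 * k + 1) * 2 = 2 * (2 * k + 1) by ring, pow_mul, pow_two, ← hk]
        exact orderOf_dvd_iff_pow_eq_one.mp (Subgroup.orderOf_dvd_natCard _ hm2)
      · have h1 : m ^ (2 * k + 1) = 1 := Subtype.ext e
        have h2 := congrArg φ h1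
        rw [map_pow, map_one, pow_succ, pow_mul, pow_two, hφ2, one_pow, one_mul] at h2
        rw [h2, orderOf_one] at hx
        omega
    · rw [map_pow, pow_succ, pow_mul, pow_two, hφ2, one_pow, one_mul]
  have hinv : Nat.card ↥PG = p ^ 2 → ∀ i ∈ N, orderOf i = 2 → ∃ a ∈ PG, i * a * i⁻¹ ≠ a⁻¹ := by
    intro hP2 i hi hi2
    by_contra hc
    push Not at hc
    set B := PG ⊓ pointCent M b with hB
    have hBne : B ≠ ⊥ := by
      intro e
      have h1 := Grp.relIndex_mul_card_inf PG (pointCent M b)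
      rw [← hB, e, card_bot, one_mul, hP2] at h1
      have h2 : (pointCent M b).relIndex PG ≤ p := by
        rw [hb, c.pointCent_base, ← c.idx_C]
        exact relIndex_le_of_le_right hPM (by rw [c.idx_C]; exact hp.out.ne_zero)
      have : p * 2 ≤ p ^ 2 := by rw [pow_two]; exact Nat.mul_le_mul_left p hp.out.two_le
      have := hp.out.two_le
      omega
    obtain ⟨a, ⟨haP, haC⟩, ha1⟩ := (bot_or_exists_ne_one B).resolve_left hBne
    have h1 : a⁻¹ ∈ pointCent M (i • b) := by
      rw [pointCent_smul, ← hc a haP, show i⁻¹ * (i * a * i⁻¹) * i = a by group]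
      exact haC
    exact ha1 (c.pointCent_disjoint (hnofix i hi hi2 b hfixb).symm haC (by simpa using inv_mem h1))
  obtain ⟨hF2, hX2⟩ := frob (X := ↥φ.range) (F := F) hF
    (by
      rintro ⟨x, m, rfl⟩ γ δ hne hγ hδ
      refine Subtype.ext ((hker m).mpr ?_)
      rw [← hpair γ.1 δ.1 (fun e => hne (Subtype.ext e)) γ.2 δ.2]
      exact ⟨congrArg Subtype.val hγ, congrArg Subtype.val hδ⟩)
    (by
      intro γ δ hne
      obtain ⟨i, hi2, hiγ, hiδ⟩ := c.exists_swap_pair (fun e => hne (Subtype.ext e) : γ.1 ≠ δ.1)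
      have hD := hpair γ.1 δ.1 (fun e => hne (Subtype.ext e)) γ.2 δ.2
      have hiN : i ∈ N := by
        refine mem_normalizer_fintype fun a ha => ?_
        have hinv' : i⁻¹ = i := inv_eq_of_mul_eq_one_right (by rw [← pow_two, ← hi2]; exact pow_orderOf_eq_one i)
        rw [SetLike.mem_coe, ← hD]
        refine ⟨?_, ?_⟩ <;> show (i * a * i⁻¹) • _ = _
        · rw [hinv', mul_smul, mul_smul, hiγ, δ.2 a ha, hiδ]
        · rw [hinv', mul_smul, mul_smul, hiδ, γ.2 a ha, hiγ]
      refine ⟨⟨φ ⟨i, hiN⟩, _, rfl⟩, ?_, Subtype.ext hiγ⟩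
      rw [← Subgroup.orderOf_coe]
      show orderOf (φ ⟨i, hiN⟩) = 2
      refine orderOf_eq_prime ?_ ?_
      · rw [← map_pow, show (⟨i, hiN⟩ : ↥N) ^ 2 = 1 from Subtype.ext (by
          rw [coe_pow, ← hi2]; exact pow_orderOf_eq_one i), map_one]
      · intro e
        have h1 := congrArg Subtype.val (Equiv.Perm.ext_iff.mp e γ)
        exact hne (Subtype.ext (h1.symm.trans hiγ)))
    (by
      intro x hx γ hfix
      obtain ⟨i, hi2, hix⟩ := hlift x hx
      refine hnofix i i.2 hi2 γ.1 γ.2 ?_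
      have : φ i γ = γ := by rw [hix]; exact hfix
      exact congrArg Subtype.val this)
    (by
      intro x y hx hy hxy
      by_contra hne
      have hxx : x * x = 1 := by rw [← pow_two, ← hx]; exact pow_orderOf_eq_one x
      have hyy : y * y = 1 := by rw [← pow_two, ← hy]; exact pow_orderOf_eq_one y
      obtain ⟨i, hi2, hix⟩ := hlift x hx
      obtain ⟨j, hj2, hjy⟩ := hlift y hy
      -- the preimage of the four-group
      let W : Subgroup (Equiv.Perm F) :=
        { carrier := {g | g = 1 ∨ g = x.1 ∨ g = y.1 ∨ g = x.1 * y.1}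
          one_mem' := Or.inl rfl
          mul_mem' := by
            have a2 : x.1 * x.1 = 1 := congrArg Subtype.val hxx
            have b2 : y.1 * y.1 = 1 := congrArg Subtype.val hyy
            have ba : y.1 * x.1 = x.1 * y.1 := congrArg Subtype.val hxy.eq.symm
            have aab : x.1 * (x.1 * y.1) = y.1 := by rw [← mul_assoc, a2, one_mul]
            have aba : x.1 * y.1 * x.1 = y.1 := by rw [mul_assoc, ba, aab]
            have bab : y.1 * (x.1 * y.1) = x.1 := by rw [← mul_assoc, ba, mul_assoc, b2, mul_one]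
            have abb : x.1 * y.1 * y.1 = x.1 := by rw [mul_assoc, b2, mul_one]
            have abab : x.1 * y.1 * (x.1 * y.1) = 1 := by rw [mul_assoc, bab, a2]
            rintro g k (rfl | rfl | rfl | rfl) (rfl | rfl | rfl | rfl) <;>
              simp [a2, b2, ba, aab, aba, bab, abb, abab]
          inv_mem' := by
            have a2 := inv_eq_of_mul_eq_one_right (congrArg Subtype.val hxx : x.1 * x.1 = 1)
            have b2 := inv_eq_of_mul_eq_one_right (congrArg Subtype.val hyy : y.1 * y.1 = 1)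
            rintro g (rfl | rfl | rfl | rfl)
            · simp
            · simp [a2]
            · simp [b2]
            · refine Or.inr (Or.inr (Or.inr ?_))
              rw [mul_inv_rev, a2, b2]
              exact congrArg Subtype.val hxy.eq.symm }
      have hWsq : ∀ g ∈ W, g * g = 1 := by
        rintro g (rfl | rfl | rfl | rfl)
        · exact one_mul 1
        · exact congrArg Subtype.val hxx
        · exact congrArg Subtype.val hyy
        · have h1 : (x * y) * (x * y) = 1 := by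
            rw [mul_assoc, ← mul_assoc y x y, ← hxy.eq, mul_assoc x y y, hyy, mul_one, hxx]
          exact congrArg Subtype.val h1
      have hx1 : x.1 ≠ 1 := fun e => by
        rw [← Subgroup.orderOf_coe, e, orderOf_one] at hx; omega
      have hy1 : y.1 ≠ 1 := fun e => by
        rw [← Subgroup.orderOf_coe, e, orderOf_one] at hy; omega
      have hxy' : x.1 ≠ y.1 := fun e => hne (Subtype.ext e)
      have hxy1 : x.1 * y.1 ≠ 1 := fun e => hxy' (mul_left_cancel
        ((e.trans (congrArg Subtype.val hxx).symm) : x.1 * y.1 = x.1 * x.1)).symm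
      have hW4 : Nat.card ↥W = 4 := by
        rw [show Nat.card ↥W = Set.ncard (W : Set (Equiv.Perm F)) from rfl,
          show (W : Set (Equiv.Perm F)) = ↑({1, x.1, y.1, x.1 * y.1} : Finset (Equiv.Perm F)) by
            ext g; simp [W], Set.ncard_coe_finset]
        rw [Finset.card_insert_of_notMem, Finset.card_insert_of_notMem, Finset.card_insert_of_notMem,
          Finset.card_singleton]
        · simp; exact fun e => hx1 (congrArg Subtype.val e)
        · simp [hxy']; exact fun e => hy1 (congrArg Subtype.val e)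
        · simp [hx1.symm, hy1.symm, hxy1.symm]
      set H := W.comap φ with hH
      have hkerle : φ.ker ≤ H := fun m hm => by
        rw [hH, mem_comap, MonoidHom.mem_ker.mp hm]; exact one_mem _
      have hkcard : Nat.card φ.ker = Nat.card ↥PG := by
        rw [show φ.ker = PG.subgroupOf N from Subgroup.ext fun m => hker m]
        exact Nat.card_congr (subgroupOfEquivOfLe (le_normalizer)).toEquiv
      have hHcard : Nat.card ↥H = 4 * Nat.card ↥PG := by
        rw [← hW4, ← hkcard, ← Grp.card_mul_relIndex hkerle, relIndex_ker, hH,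
          map_comap_eq_self (by
            rintro g (rfl | rfl | rfl | rfl)
            exacts [one_mem _, x.2, y.2, mul_mem x.2 y.2]), mul_comm]
      obtain ⟨S⟩ : Nonempty (Sylow 2 ↥H) := inferInstance
      have hS4 : Nat.card ↥(S : Subgroup ↥H) = 4 := by
        rw [S.card_eq_multiplicity, hHcard, Nat.factorization_mul four_ne_zero Nat.card_pos.ne', Finsupp.add_apply,
          Nat.factorization_eq_zero_of_not_dvd hodd.not_two_dvd_nat, add_zero,
          show (4 : ℕ) = 2 ^ 2 from rfl, Nat.Prime.factorization_pow Nat.prime_two, Finsupp.single_eq_same]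
      set V := ((S : Subgroup ↥H).map H.subtype).map N.subtype with hV
      have hVN : V ≤ N := map_subtype_le _
      have hV4 : Nat.card ↥V = 4 := by
        rw [card_map_of_injective N.subtype_injective, card_map_of_injective H.subtype_injective, hS4]
      have hVφ : ∀ v ∈ V, ∃ m : ↥N, (m : G) = v ∧ φ m ∈ W := by
        rintro _ ⟨m, ⟨m', -, rfl⟩, rfl⟩
        exact ⟨m', rfl, m'.2⟩
      have hVP : ∀ v ∈ V, v ∈ PG → v = 1 := by
        intro v hv hvP
        refine orderOf_eq_one_iff.mp (Nat.eq_one_of_dvd_coprimes (a := 2 ^ 2) ?_ ?_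
          (Subgroup.orderOf_dvd_natCard _ hvP))
        · exact (Nat.coprime_two_left.mpr hodd).pow_left 2
        · exact (Subgroup.orderOf_dvd_natCard _ hv).trans (dvd_of_eq hV4)
      have hV2 : ∀ v ∈ V, v * v = 1 := by
        intro v hv
        obtain ⟨m, rfl, hm⟩ := hVφ v hv
        exact hVP _ (mul_mem hv hv) ((hker (m * m)).mp (by rw [map_mul]; exact hWsq _ hm))
      refine four_false hp2 hPp hab hsmall hVN (fun a ha b' hb' => ?_) hV2 hV4 (fun v hv hv1 => ?_)
        (fun hP2 v hv hv1 => ?_)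
      · have ha2 := hV2 a ha; have hb2 := hV2 b' hb'
        have hab2 := hV2 _ (mul_mem ha hb')
        calc a * b' = a * (a * b' * (a * b')) * b' := by rw [hab2, mul_one]
          _ = (a * a) * (b' * a) * (b' * b') := by group
          _ = b' * a := by rw [ha2, hb2, one_mul, mul_one]
      · exact hnocent v (hVN hv) (orderOf_eq_prime (by rw [pow_two]; exact hV2 v hv) hv1)
      · exact hinv hP2 v (hVN hv) (orderOf_eq_prime (by rw [pow_two]; exact hV2 v hv) hv1))
  -- the normalizer has order twice that of `PG`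
  have hNcard : Nat.card ↥N = 2 * Nat.card ↥PG := by
    rw [← φ.ker.card_mul_index, index_ker, hX2, mul_comm,
      show φ.ker = PG.subgroupOf N from Subgroup.ext fun m => hker m,
      Nat.card_congr (subgroupOfEquivOfLe (le_normalizer : PG ≤ N)).toEquiv]
  obtain ⟨P, hP⟩ : ∃ P : Sylow p G, (P : Subgroup G) = PG := by
    obtain ⟨P, hPle⟩ := hPp.exists_le_sylow
    refine ⟨P, ?_⟩
    rcases eq_or_lt_of_le hPle with e | hlt
    · exact e.symm
    exfalso
    have h1 := Grp.lt_inf_normalizer P.isPGroup'.isNilpotent hlt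
    obtain ⟨k, hk⟩ := IsPGroup.iff_card.mp (P.isPGroup'.to_le (inf_le_left (b := normalizer (PG : Set G))))
    have h2 : p ^ k ∣ 2 * Nat.card ↥PG := hk ▸ hNcard ▸ card_dvd_of_le inf_le_right
    have h3 : p ^ k ∣ Nat.card ↥PG :=
      (((Nat.coprime_primes hp.out Nat.prime_two).mpr hp2).pow_left k).dvd_of_dvd_mul_left h2
    exact h1.ne (eq_of_le_of_card_ge h1.le (hk ▸ Nat.le_of_dvd Nat.card_pos h3))
  have hPG1 : PG ≠ ⊥ := fun e => P₀.ne_bot_of_dvd_card c.dvd_card_M
    (((P₀ : Subgroup ↥M).map_eq_bot_iff_of_injective M.subtype_injective).mp e)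
  have hb' : ∀ γ : F, γ.1 = b ∨ γ.1 = g₀ • b := by
    have hg0 : g₀ • b ≠ b := fun e => hg₀M (by
      rwa [← MulAction.mem_stabilizer_iff, hb, MulAction.stabilizer_quotient] at e)
    intro γ
    by_contra hc
    push Not at hc
    have := Fintype.ofFinite F
    have hthree : ({⟨b, hfixb⟩, ⟨g₀ • b, hinvar g₀ hg₀ b hfixb⟩, γ} : Finset F).card = 3 := by
      rw [Finset.card_eq_three]
      exact ⟨_, _, _, fun e => hg0 (congrArg Subtype.val e).symm, fun e => hc.1 (congrArg Subtype.val e).symm,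
        fun e => hc.2 (congrArg Subtype.val e).symm, rfl⟩
    have := Finset.card_le_univ ({⟨b, hfixb⟩, ⟨g₀ • b, hinvar g₀ hg₀ b hfixb⟩, γ} : Finset F)
    rw [Nat.card_eq_fintype_card] at hF2
    omega
  have hn1 : n = 1 := by
    by_contra hne
    have hn0 : n ≠ 0 := fun e => hPG1 (card_eq_one.mp (by rw [hn, e, pow_zero]))
    have hP2 : Nat.card ↥PG = p ^ 2 := by rw [hn, show n = 2 by omega]
    obtain ⟨m, hm2⟩ : ∃ m : ↥N, φ m ≠ 1 := by
      by_contra hc
      push Not at hc
      rw [show φ.range = ⊥ from MonoidHom.range_eq_bot_iff.mpr (MonoidHom.ext hc), card_bot] at hX2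
      omega
    have hfix1 : ∃ i : ↥N, orderOf (i : G) = 2 := by
      obtain ⟨i, hi, -⟩ := hlift ⟨φ m, m, rfl⟩ (by
        rcases (Nat.dvd_prime Nat.prime_two).mp
          ((_root_.orderOf_dvd_natCard (⟨φ m, m, rfl⟩ : ↥φ.range)).trans (dvd_of_eq hX2)) with e | e
        · exact absurd (congrArg Subtype.val (orderOf_eq_one_iff.mp e)) hm2
        · exact e)
      exact ⟨i, hi⟩
    obtain ⟨⟨i, hiN⟩, hi2⟩ := hfix1
    change orderOf i = 2 at hi2
    set B := PG ⊓ pointCent M b with hB
    have hBne : B ≠ ⊥ := by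
      intro e
      have h1 := Grp.relIndex_mul_card_inf PG (pointCent M b)
      rw [← hB, e, card_bot, one_mul, hP2] at h1
      have h2 : (pointCent M b).relIndex PG ≤ p := by
        rw [hb, c.pointCent_base, ← c.idx_C]
        exact relIndex_le_of_le_right hPM (by rw [c.idx_C]; exact hp.out.ne_zero)
      have : p * 2 ≤ p ^ 2 := by rw [pow_two]; exact Nat.mul_le_mul_left p hp.out.two_le
      have := hp.out.two_le
      omega
    obtain ⟨a, ⟨haP, haC⟩, ha1⟩ := (bot_or_exists_ne_one B).resolve_left hBne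
    have hii : i * i = 1 := by rw [← pow_two, ← hi2]; exact pow_orderOf_eq_one i
    have hiinv : i⁻¹ = i := inv_eq_of_mul_eq_one_right hii
    have hia : i * a * i⁻¹ ∈ PG := (mem_normalizer_iff.mp hiN a).mp haP
    set w := a * (i * a * i⁻¹) with hw
    have hwP : w ∈ PG := mul_mem haP hia
    have : IsMulCommutative ↥(P : Subgroup G) := ⟨⟨fun u v => Subtype.ext
      (hab u (hP ▸ u.2) v (hP ▸ v.2))⟩⟩
    have hCw : normalizer ((P : Subgroup G) : Set G) ≤ centralizer ({w} : Set G) := by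
      rw [hP]
      have hle : PG ⊔ zpowers i ≤ N := sup_le le_normalizer (zpowers_le.mpr hiN)
      have heq : PG ⊔ zpowers i = N := by
        refine eq_of_le_of_card_ge hle ?_
        rw [sup_comm]
        rw [Grp.card_sup_coprime (zpowers_le.mpr hiN) (by
          rw [Nat.card_zpowers, hi2]; exact Nat.coprime_two_left.mpr hodd), Nat.card_zpowers, hi2, hNcard]
      rw [← hN, ← heq]
      refine sup_le (fun x hx => mem_centralizer_singleton_iff.mpr (hab x hx w hwP)) (zpowers_le.mpr ?_)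
      refine mem_centralizer_singleton_iff.mpr ?_
      rw [hw, hiinv]
      calc i * (a * (i * a * i)) = (i * a * i) * a * i := by group
        _ = a * (i * a * i) * i := by rw [hab (i * a * i) (by rwa [hiinv] at hia) a haP]
    have hw1 := c.min.eq_one_of_fixed P (hP ▸ hwP) hCw
    have h1 : a⁻¹ ∈ pointCent M (i • b) := by
      rw [pointCent_smul, inv_eq_of_mul_eq_one_right hw1, show i⁻¹ * (i * a * i⁻¹) * i = a by group]
      exact haC
    exact ha1 (c.pointCent_disjoint (hnofix i hiN hi2 b hfixb).symm haC (by simpa using inv_mem h1))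
  refine ⟨by rw [hn, hn1, pow_one], ?_, g₀ • b, fun e => hg₀M (by
    rwa [← MulAction.mem_stabilizer_iff, MulAction.stabilizer_quotient] at e), hinvar g₀ hg₀ b hfixb,
    fun γ hγ => hb' ⟨γ, hγ⟩⟩
  intro hd
  obtain ⟨e, he⟩ := exists_prime_orderOf_dvd_card' (G := ↥C) p hd
  have heM : (e : G) ∈ M := c.le_cent e.2
  have hep : IsPGroup p ↥(zpowers (⟨e, heM⟩ : ↥M)) := IsPGroup.of_card (n := 1) (by
    rw [Nat.card_zpowers, Subgroup.orderOf_mk, Subgroup.orderOf_coe, he, pow_one])
  obtain ⟨R, hR⟩ := hep.exists_le_sylow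
  obtain ⟨m, hm⟩ := MulAction.exists_smul_eq ↥M R P₀
  have hx : (m : G) * e * (m : G)⁻¹ ∈ PG ⊓ C := by
    refine ⟨?_, (mem_normalizer_iff.mp (c.C_normal m.2) e).mp e.2⟩
    refine ⟨m * ⟨e, heM⟩ * m⁻¹, ?_, rfl⟩
    show m * ⟨e, heM⟩ * m⁻¹ ∈ (P₀ : Subgroup ↥M)
    rw [← hm]
    exact ⟨⟨e, heM⟩, hR (mem_zpowers _), rfl⟩
  have hxo : orderOf ((m : G) * e * (m : G)⁻¹) = p := by
    rw [← he, ← Subgroup.orderOf_coe e]
    exact orderOf_injective (MulAut.conj (m : G)).toMonoidHom (MulAut.conj (m : G)).injective _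
  refine hproper b hfixb ?_
  rw [hb, c.pointCent_base]
  have h2 : p ≤ Nat.card ↥(PG ⊓ C) := hxo ▸ Nat.le_of_dvd Nat.card_pos (Subgroup.orderOf_dvd_natCard _ hx)
  exact (eq_of_le_of_card_ge inf_le_left (by rw [hn, hn1, pow_one]; exact h2) : PG ⊓ C = PG).ge.trans inf_le_right

end Cfg

end Cfsg.Agent.Invol.AbP
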