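import Cfsg.Agent.Lib.Invol.AbPBasic
import Cfsg.Agent.S1350
import Cfsg.Agent.S1375
import Cfsg.Agent.S1377
import Cfsg.Agent.S1378
import Cfsg.Agent.S1379
import Cfsg.Agent.S1402
import Cfsg.Agent.S1430

/-!
# No minimal counterexample of odd order
-/

set_option autoImplicit false
set_option linter.style.haveILetI false

namespace Cfsg.Agent.Invol.AbP.Odd

open Subgroup
open scoped Pointwise
open Cfsg.Agent Cfsg.Agent.Transfer

universe u

theorem le_of_relIndex_primes {G : Type*} [Group G] [Finite G] {D M : Subgroup G}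
    (h : ∀ r : ℕ, r.Prime → ¬ r ∣ D.relIndex M) : M ≤ D := by
  rw [← relIndex_eq_one]
  by_contra hne
  obtain ⟨r, hr, hd⟩ := Nat.exists_prime_and_dvd hne
  exact h r hr hd

theorem mem_zpowers_of_cyclic {G : Type*} [Group G] [Finite G] (A : Subgroup G) [IsCyclic ↥A] {a b : G}
    (ha : a ∈ A) (hb : b ∈ A) (hab : orderOf b = orderOf a) : b ∈ zpowers a := by
  classical
  have := Fintype.ofFinite ↥A
  set n := orderOf a with hn
  set a' : ↥A := ⟨a, ha⟩ with ha'
  have hle := IsCyclic.card_pow_eq_one_le (α := ↥A) (n := n) (orderOf_pos a)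
  have hsub : (Finset.range n).image (a' ^ ·) = Finset.univ.filter fun x : ↥A => x ^ n = 1 := by
    refine Finset.eq_of_subset_of_card_le (fun x hx => ?_) (hle.trans (le_of_eq ?_))
    · obtain ⟨i, -, rfl⟩ := Finset.mem_image.mp hx
      simp only [Finset.mem_filter, Finset.mem_univ, true_and]
      refine Subtype.ext ?_
      push_cast [ha']
      rw [← pow_mul, mul_comm, pow_mul, hn, pow_orderOf_eq_one, one_pow]
    · rw [Finset.card_image_of_injOn, Finset.card_range]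
      rw [Finset.coe_range, show n = orderOf a' from (Subgroup.orderOf_mk a ha).symm]
      exact pow_injOn_Iio_orderOf
  have hbm : (⟨b, hb⟩ : ↥A) ∈ (Finset.range n).image (a' ^ ·) := by
    rw [hsub]
    simp only [Finset.mem_filter, Finset.mem_univ, true_and]
    exact Subtype.ext (by rw [coe_pow, coe_one, ← hab]; exact pow_orderOf_eq_one b)
  obtain ⟨i, -, hi⟩ := Finset.mem_image.mp hbm
  exact ⟨(i : ℤ), by simpa [ha'] using congrArg Subtype.val hi⟩

variable {p : ℕ} [hp : Fact p.Prime] {G : Type u} [Group G] [Finite G]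

section

variable (h : Min p G) (hodd : Odd (Nat.card G))
include h hodd

theorem minSimple : Cfsg.IsMinSimpleOddOrder G := ⟨hodd, h.simple, h.nab, h.sol⟩

omit hodd in
theorem dvd_p : p ∣ Nat.card G := by
  by_contra hc
  have hco : (Nat.card ↥(⊤ : Subgroup G)).Coprime p := by
    rw [Subgroup.card_top]; exact (hp.out.coprime_iff_not_dvd.mpr hc).symm
  exact h.nab ⟨⟨fun a b => h.good.comm hco (mem_top a) (mem_top b)⟩⟩

/-- The facts about a prime divisor other than `p`. -/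
theorem q_facts {q : ℕ} (hq : q.Prime) (hd : q ∣ Nat.card G) (hne : q ≠ p) : q + 2 ≤ p ∧ q % 2 = 1 := by
  have h1 := h.good.lt hq hd hne
  have h2 := Nat.odd_iff.mp (hodd.of_dvd_nat hd)
  have h3 := h.five
  rcases hp.out.eq_two_or_odd with h4 | h4
  · omega
  · exact ⟨by omega, h2⟩

theorem unique {q : ℕ} [hq : Fact q.Prime] (hd : q ∣ Nat.card G) (hne : q ≠ p) (R : Sylow q G) :
    Cfsg.InUniqueMaximal (R : Subgroup G) := by
  refine S1402.result (minSimple h hodd) q R R ⟨le_rfl, le_normalizer, ?_⟩ (h.not_rank_two hd hne R)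
  refine inf_eq_left.mpr fun a ha => mem_centralizer_iff.mpr fun b hb => ?_
  exact congrArg Subtype.val ((h.sylow_comm hne R).is_comm.comm ⟨b, hb⟩ ⟨a, ha⟩)

theorem eq_of_sylow_le {q : ℕ} [hq : Fact q.Prime] (hd : q ∣ Nat.card G) (hne : q ≠ p) {R : Sylow q G}
    {M L : Subgroup G} (hM : IsCoatom M) (hL : IsCoatom L) (hRM : (R : Subgroup G) ≤ M)
    (hRL : (R : Subgroup G) ≤ L) : L = M := by
  obtain ⟨N, -, hN⟩ := unique h hodd hd hne R
  exact (hN L ⟨hL, hRL⟩).trans (hN M ⟨hM, hRM⟩).symm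

theorem le_of_sylow_le {q : ℕ} [hq : Fact q.Prime] (hd : q ∣ Nat.card G) (hne : q ≠ p) {R : Sylow q G}
    {M H : Subgroup G} (hM : IsCoatom M) (hRM : (R : Subgroup G) ≤ M) (hH : H ≠ ⊤)
    (hRH : (R : Subgroup G) ≤ H) : H ≤ M := by
  obtain ⟨L, hL, hHL⟩ := Loc.exists_coatom (minSimple h hodd) hH
  exact (eq_of_sylow_le h hodd hd hne hM hL hRM (hRH.trans hHL)) ▸ hHL

theorem centralizer_le_of {q : ℕ} [hq : Fact q.Prime] (hd : q ∣ Nat.card G) (hne : q ≠ p) {R : Sylow q G}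
    {M : Subgroup G} (hM : IsCoatom M) (hRM : (R : Subgroup G) ≤ M) {x : G} (hx : x ≠ 1)
    (hRx : ∀ r ∈ (R : Subgroup G), r * x = x * r) : centralizer ({x} : Set G) ≤ M :=
  le_of_sylow_le h hodd hd hne hM hRM (h.centralizer_ne_top hx)
    fun r hr => mem_centralizer_singleton_iff.mpr (hRx r hr)

theorem normalizer_le_of {q : ℕ} [hq : Fact q.Prime] (hd : q ∣ Nat.card G) (hne : q ≠ p) {R : Sylow q G}
    {M : Subgroup G} (hM : IsCoatom M) (hRM : (R : Subgroup G) ≤ M) :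
    normalizer ((R : Subgroup G) : Set G) ≤ M :=
  le_of_sylow_le h hodd hd hne hM hRM
    (h.normalizer_ne_top (R.ne_bot_of_dvd_card hd) (h.pgroup_ne_top R.isPGroup')) le_normalizer

theorem mem_sigma {q : ℕ} [hq : Fact q.Prime] (hd : q ∣ Nat.card G) (hne : q ≠ p) {R : Sylow q G}
    {M : Subgroup G} (hM : IsCoatom M) (hRM : (R : Subgroup G) ≤ M) : q ∈ Cfsg.sigma M := by
  refine ⟨hq.out, (R.dvd_card_of_dvd_card hd).trans (card_dvd_of_le hRM), R.subtype hRM, ?_⟩
  rw [show ((R.subtype hRM : Sylow q M) : Subgroup M).map M.subtype = (R : Subgroup G) by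
    rw [Sylow.coe_subtype, Subgroup.map_subgroupOf_eq_of_le hRM]]
  exact normalizer_le_of h hodd hd hne hM hRM

theorem le_core {M Y : Subgroup G} (hM : IsCoatom M) {r : ℕ} [hr : Fact r.Prime] (hσ : r ∈ Cfsg.sigma M)
    (hY : Y ≤ M) (hYr : IsPGroup r ↥Y) : Y ≤ Cfsg.sigmaCore M := by
  obtain ⟨⟨hle, -, hidx⟩, -⟩ := S1350.result (minSimple h hodd) M hM
  have hn : ((Cfsg.sigmaCore M).subgroupOf M).Normal :=
    normal_subgroupOf_of_le_normalizer (TransHyp.le_normalizer_piCoreOf M)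
  have hco : (Nat.card ↥(Y.subgroupOf M)).Coprime ((Cfsg.sigmaCore M).subgroupOf M).index := by
    obtain ⟨k, hk⟩ := IsPGroup.iff_card.mp hYr
    rw [Nat.card_congr (subgroupOfEquivOfLe hY).toEquiv, hk]
    exact Nat.Coprime.pow_left _ (hr.out.coprime_iff_not_dvd.mpr (hidx r hr.out hσ))
  exact fun y hy => (Grp.le_of_coprime_index hco) (show (⟨y, hY hy⟩ : M) ∈ Y.subgroupOf M from hy)

theorem mem_core {M : Subgroup G} (hM : IsCoatom M) {r : ℕ} [hr : Fact r.Prime] (hσ : r ∈ Cfsg.sigma M)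
    {x : G} (hx : x ∈ M) (hxr : IsPGroup r ↥(zpowers x)) : x ∈ Cfsg.sigmaCore M :=
  le_core h hodd hM hσ (zpowers_le.mpr hx) hxr (mem_zpowers x)

theorem sigma_of_dvd_core {M : Subgroup G} (hM : IsCoatom M) {r : ℕ} (hr : r.Prime)
    (hd : r ∣ Nat.card ↥(Cfsg.sigmaCore M)) : r ∈ Cfsg.sigma M :=
  (S1350.result (minSimple h hodd) M hM).1.2.1 r hr hd

/-- A maximal subgroup with `p` outside `σ`: the core is abelian and commutes with all `p'`-elements. -/
theorem commute_core {M : Subgroup G} (hM : IsCoatom M) (hpσ : p ∉ Cfsg.sigma M) {x y : G} (hx : x ∈ M)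
    (hxp : (orderOf x).Coprime p) (hy : y ∈ Cfsg.sigmaCore M) : x * y = y * x := by
  have hc : (Nat.card ↥(Cfsg.sigmaCore M)).Coprime p :=
    (hp.out.coprime_iff_not_dvd.mpr fun hd => hpσ (sigma_of_dvd_core h hodd hM hp.out hd)).symm
  have hn : zpowers x ≤ normalizer (Cfsg.sigmaCore M : Set G) :=
    (zpowers_le.mpr hx).trans (TransHyp.le_normalizer_piCoreOf M)
  exact h.good.comm (Grp.card_sup_coprime_to hn (by rwa [Nat.card_zpowers]) hc)
    ((le_sup_left : zpowers x ≤ zpowers x ⊔ Cfsg.sigmaCore M) (mem_zpowers x))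
    ((le_sup_right : Cfsg.sigmaCore M ≤ zpowers x ⊔ Cfsg.sigmaCore M) hy)

omit hodd in
theorem core_sylow_le {q : ℕ} [hq : Fact q.Prime] {M : Subgroup G} {R : Sylow q G} {y : G}
    (hco : (Nat.card ↥(Cfsg.sigmaCore M)).Coprime p) (hR : (R : Subgroup G) ≤ Cfsg.sigmaCore M)
    (hy : y ∈ Cfsg.sigmaCore M) (hyq : IsPGroup q ↥(zpowers y)) : y ∈ (R : Subgroup G) := by
  have hn : zpowers y ≤ normalizer ((R : Subgroup G) : Set G) := by
    refine (h.good.le_centralizer hco (zpowers_le.mpr hy) hR).trans ?_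
    exact Subgroup.centralizer_le_normalizer _
  have := R.is_maximal' (hyq.to_sup_of_normal_right' R.isPGroup' hn) le_sup_right
  exact this.le ((le_sup_left : zpowers y ≤ zpowers y ⊔ (R : Subgroup G)) (mem_zpowers y))

/-- Every prime other than `p` of a maximal subgroup with `p ∉ σ` lies in `σ`. -/
theorem sigma_all {M : Subgroup G} (hM : IsCoatom M) (hpσ : p ∉ Cfsg.sigma M) {r : ℕ} [hr : Fact r.Prime]
    (hrp : r ≠ p) (hd : r ∣ Nat.card ↥M) : r ∈ Cfsg.sigma M := by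
  have hG := minSimple h hodd
  obtain ⟨q, hq, hqd⟩ := Nat.exists_prime_and_dvd (n := Nat.card ↥(Cfsg.sigmaCore M))
    (fun e => Loc.sigmaCore_ne_bot hG hM (Subgroup.card_eq_one.mp e))
  have := Fact.mk hq
  have hqσ := sigma_of_dvd_core h hodd hM hq hqd
  have hqp : q ≠ p := fun e => hpσ (e ▸ hqσ)
  have hqG : q ∣ Nat.card G := hqd.trans (card_subgroup_dvd_card _)
  obtain ⟨S, hS⟩ := Grp.exists_isSylowIn q M
  have hidx := (Loc.sigma_sylow hG hM hqσ hS).2
  let R : Sylow q G := hS.2.1.toSylow hidx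
  have hRS : (R : Subgroup G) = S := rfl
  have hRM : (R : Subgroup G) ≤ M := hRS ▸ hS.1
  have hRC : (R : Subgroup G) ≤ Cfsg.sigmaCore M := le_core h hodd hM hqσ hRM R.isPGroup'
  obtain ⟨x, hx⟩ := exists_prime_orderOf_dvd_card' (G := M) r hd
  have hx' : orderOf (x : G) = r := by rw [Subgroup.orderOf_coe, hx]
  have hx1 : (x : G) ≠ 1 := fun e => hr.out.ne_one (by rw [← hx', e, orderOf_one])
  have hC : centralizer ({(x : G)} : Set G) ≤ M :=
    centralizer_le_of h hodd hqG hqp hM hRM hx1 fun s hs => (commute_core h hodd hM hpσ x.2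
      (by rw [hx']; exact (Nat.coprime_primes hr.out hp.out).mpr hrp) (hRC hs)).symm
  have hxp : IsPGroup r ↥(zpowers (x : G)) := IsPGroup.of_card (n := 1) (by rw [Nat.card_zpowers, hx', pow_one])
  obtain ⟨R2, hR2⟩ := hxp.exists_le_sylow
  refine mem_sigma h hodd (hd.trans (card_subgroup_dvd_card _)) hrp hM (R := R2) fun s hs => hC ?_
  exact mem_centralizer_singleton_iff.mpr
    (congrArg Subtype.val ((h.sylow_comm hrp R2).is_comm.comm ⟨s, hs⟩ ⟨x, hR2 (mem_zpowers _)⟩))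

theorem kappa_eq_p {M : Subgroup G} (hM : IsCoatom M) (hpσ : p ∉ Cfsg.sigma M) {r : ℕ}
    (hr : r ∈ Cfsg.kappa M) : r = p := by
  by_contra hne
  have := Fact.mk hr.1
  exact hr.2.2.1 (sigma_all h hodd hM hpσ hne hr.2.1)

omit h hodd in
theorem exists_power_of_prime {x : G} {r : ℕ} (hd : r ∣ orderOf x) : ∃ k : ℕ, orderOf (x ^ k) = r := by
  refine ⟨orderOf x / r, ?_⟩
  rw [orderOf_pow, Nat.gcd_eq_right (Nat.div_dvd_of_dvd hd), Nat.div_div_self hd (orderOf_pos x).ne']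

theorem kappa_empty_of_notMem {M : Subgroup G} (hM : IsCoatom M) (hpσ : p ∉ Cfsg.sigma M) :
    Cfsg.kappa M = ∅ := by
  have hG := minSimple h hodd
  rw [Set.eq_empty_iff_forall_notMem]
  intro r hr
  obtain rfl := kappa_eq_p h hodd hM hpσ hr
  obtain ⟨-, hpM, -, hcl⟩ := hr
  obtain ⟨P, -⟩ : ∃ P : Sylow r M, True := ⟨Classical.arbitrary _, trivial⟩
  obtain ⟨-, x, hxP, hx1, y, hy, hy1, hxy⟩ := hcl P
  set K : Subgroup G := (P : Subgroup M).map M.subtype with hK
  have hKM : K ≤ M := map_subtype_le _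
  have hKp : IsPGroup r ↥K := P.isPGroup'.map _
  have hKS : Grp.IsSylowIn r K M := Grp.isSylowIn_iff.mpr ⟨P, rfl⟩
  have hK1 : K ≠ ⊥ := fun e => hx1 (Subtype.ext (mem_bot.mp (e ▸ mem_map_of_mem M.subtype hxP)))
  have hκ : Cfsg.IsPiHallOf (Cfsg.kappa M) K M := by
    refine ⟨hKM, fun s hs hd => ?_, fun s hs hsκ => ?_⟩
    · obtain ⟨k, hk⟩ := IsPGroup.iff_card.mp hKp
      obtain rfl := (Nat.prime_dvd_prime_iff_eq hs hp.out).mp (hs.dvd_of_dvd_pow (hk ▸ hd))
      exact ⟨hp.out, hpM, hpσ, hcl⟩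
    · obtain rfl := kappa_eq_p h hodd hM hpσ hsκ
      exact hKS.2.2
  have hfix := (S1430.result hG M hM K hκ hK1).1 x (mem_map_of_mem M.subtype hxP)
    (fun e => hx1 (Subtype.ext e))
  have hyK : y ∈ centralizer (K : Set G) :=
    (hfix.le ⟨hy, mem_centralizer_singleton_iff.mpr hxy.symm⟩).2
  obtain ⟨q, hq, hqd⟩ := Nat.exists_prime_and_dvd (n := orderOf y) (fun e => hy1 (orderOf_eq_one_iff.mp e))
  have := Fact.mk hq
  obtain ⟨k, hk⟩ := exists_power_of_prime hqd
  set z := y ^ k with hz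
  have hzc : z ∈ Cfsg.sigmaCore M := pow_mem hy k
  have hqσ : q ∈ Cfsg.sigma M :=
    sigma_of_dvd_core h hodd hM hq (hk ▸ Subgroup.orderOf_dvd_natCard _ hzc)
  have hqp : q ≠ r := fun e => hpσ (e ▸ hqσ)
  have hqG : q ∣ Nat.card G := hk ▸ orderOf_dvd_natCard z
  have hz1 : z ≠ 1 := fun e => hq.ne_one (by rw [← hk, e, orderOf_one])
  obtain ⟨S, hS⟩ := Grp.exists_isSylowIn q M
  obtain ⟨hNS, hidx⟩ := Loc.sigma_sylow hG hM hqσ hS
  let R : Sylow q G := hS.2.1.toSylow hidx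
  have hRC : (R : Subgroup G) ≤ Cfsg.sigmaCore M := le_core h hodd hM hqσ hS.1 R.isPGroup'
  have hco : (Nat.card ↥(Cfsg.sigmaCore M)).Coprime r :=
    (hp.out.coprime_iff_not_dvd.mpr fun hd => hpσ (sigma_of_dvd_core h hodd hM hp.out hd)).symm
  have hzR : z ∈ (R : Subgroup G) :=
    core_sylow_le h hco hRC hzc (IsPGroup.of_card (n := 1) (by rw [Nat.card_zpowers, hk, pow_one]))
  refine h.no_fixed hqG hqp R hzR hz1 ?_
  have hMC : M ≤ M ⊓ centralizer ({z} : Set G) := by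
    refine le_of_relIndex_primes fun s hs hd => ?_
    have := Fact.mk hs
    by_cases hsp : s = r
    · subst hsp
      refine hKS.2.2 (hd.trans (relIndex_dvd_of_le_left M fun a ha => ⟨hKM ha, ?_⟩))
      exact mem_centralizer_singleton_iff.mpr (((show Commute a y from
        (mem_centralizer_iff.mp hyK a ha)).pow_right k).eq)
    · obtain ⟨T, hT⟩ := Grp.exists_isSylowIn s M
      refine hT.2.2 (hd.trans (relIndex_dvd_of_le_left M fun a ha => ⟨hT.1 ha, ?_⟩))
      refine mem_centralizer_singleton_iff.mpr (commute_core h hodd hM hpσ (hT.1 ha) ?_ hzc)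
      obtain ⟨j, hj⟩ := IsPGroup.iff_orderOf.mp hT.2.1 ⟨a, ha⟩
      rw [Subgroup.orderOf_mk] at hj
      rw [hj]
      exact ((Nat.coprime_primes hs hp.out).mpr hsp).pow_left _
  exact fun n hn => (hMC (hNS hn)).2

theorem kappa_empty_of_mem {M : Subgroup G} (hM : IsCoatom M) (hpσ : p ∈ Cfsg.sigma M) :
    Cfsg.kappa M = ∅ := by
  have hG := minSimple h hodd
  rw [Set.eq_empty_iff_forall_notMem]
  rintro q ⟨hq, hqM, hqσ, hcl⟩
  have := Fact.mk hq
  have hqp : q ≠ p := fun e => hqσ (e ▸ hpσ)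
  have hqG : q ∣ Nat.card G := hqM.trans (card_subgroup_dvd_card _)
  obtain ⟨P, -⟩ : ∃ P : Sylow q M, True := ⟨Classical.arbitrary _, trivial⟩
  obtain ⟨-, x, hxP, hx1, y₀, hy₀, hy₀1, hxy⟩ := hcl P
  -- an element of order q of M commuting with an element of the core
  obtain ⟨j, hj⟩ := IsPGroup.iff_orderOf.mp P.isPGroup' ⟨x, hxP⟩
  rw [Subgroup.orderOf_mk, ← Subgroup.orderOf_coe] at hj
  have hj0 : j ≠ 0 := fun e => hx1 (Subtype.ext (orderOf_eq_one_iff.mp (by rw [hj, e, pow_zero])))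
  obtain ⟨i, hi⟩ := exists_power_of_prime (x := (x : G)) (r := q) (by rw [hj]; exact dvd_pow_self q hj0)
  set k := (x : G) ^ i with hk
  have hk1 : k ≠ 1 := fun e => hq.ne_one (by rw [← hi, e, orderOf_one])
  have hkM : k ∈ M := pow_mem x.2 i
  have hky : Commute k y₀ := (show Commute (x : G) y₀ from hxy).pow_left i
  have hkq : IsPGroup q ↥(zpowers k) := IsPGroup.of_card (n := 1) (by rw [Nat.card_zpowers, hi, pow_one])
  obtain ⟨R, hkR⟩ := hkq.exists_le_sylow
  have hkR' : k ∈ (R : Subgroup G) := hkR (mem_zpowers k)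
  obtain ⟨N, ⟨hN, hRN⟩, -⟩ := unique h hodd hqG hqp R
  have hCk : centralizer ({k} : Set G) ≤ N := centralizer_le_of h hodd hqG hqp hN hRN hk1 fun s hs =>
    congrArg Subtype.val ((h.sylow_comm hqp R).is_comm.comm ⟨s, hs⟩ ⟨k, hkR'⟩)
  have hqN : q ∈ Cfsg.sigma N := mem_sigma h hodd hqG hqp hN hRN
  have hpN : p ∉ Cfsg.sigma N := by
    intro hc
    obtain ⟨g, rfl⟩ := Loc.sigma_conj_of_common hG hM hN hpσ hc
    exact hqσ ((Loc.sigma_smul_iff hG hM g).mp hqN)
  have hdisj : ∀ r : ℕ, r ∈ Cfsg.sigma M → r ∈ Cfsg.sigma N → False := by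
    intro r h1 h2
    have := Fact.mk h1.1
    obtain ⟨g, rfl⟩ := Loc.sigma_conj_of_common hG hM hN h1 h2
    exact hqσ ((Loc.sigma_smul_iff hG hM g).mp hqN)
  have hy₀N : y₀ ∈ N := hCk (mem_centralizer_singleton_iff.mpr hky.symm)
  have hy₀p : p ∣ orderOf y₀ := by
    obtain ⟨r, hr, hrd⟩ := Nat.exists_prime_and_dvd (n := orderOf y₀)
      (fun e => hy₀1 (orderOf_eq_one_iff.mp e))
    rcases eq_or_ne r p with rfl | hrp
    · exact hrd
    have := Fact.mk hr
    exfalso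
    refine hdisj r (sigma_of_dvd_core h hodd hM hr (hrd.trans (Subgroup.orderOf_dvd_natCard _ hy₀)))
      (sigma_all h hodd hN hpN hrp (hrd.trans (Subgroup.orderOf_dvd_natCard _ hy₀N)))
  obtain ⟨m, hm⟩ := exists_power_of_prime hy₀p
  set y := y₀ ^ m with hydef
  have hy : y ∈ Cfsg.sigmaCore M := pow_mem hy₀ m
  have hy1 : y ≠ 1 := fun e => hp.out.ne_one (by rw [← hm, e, orderOf_one])
  have hyN : y ∈ N := pow_mem hy₀N m
  have hky' : Commute k y := hky.pow_right m
  have hyM : y ∈ M := TransHyp.piCoreOf_le M hy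
  have hyp : IsPGroup p ↥(zpowers y) := IsPGroup.of_card (n := 1) (by rw [Nat.card_zpowers, hm, pow_one])
  have hCy : centralizer ({y} : Set G) ≤ M := by
    by_contra hnot
    obtain ⟨L, ⟨hL, hCL⟩, -, -, -, hcomp1, hcomp2, -⟩ := S1375.result hG M hM y hy hy1 hnot
    have hyL : y ∈ L := hCL (mem_centralizer_singleton_iff.mpr rfl)
    have hpL : p ∉ Cfsg.sigma L := fun hc =>
      hy1 (mem_bot.mp (hcomp2.2.2.1.le ⟨⟨hyM, hyL⟩, mem_core h hodd hL hc hyL hyp⟩))
    have hkC : k ∈ centralizer ({y} : Set G) := mem_centralizer_singleton_iff.mpr hky'.eq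
    have hqL : q ∈ Cfsg.sigma L :=
      sigma_all h hodd hL hpL hqp (hi ▸ Subgroup.orderOf_dvd_natCard _ (hCL hkC))
    exact hk1 (mem_bot.mp (hcomp1.2.2.1.le
      ⟨⟨hkM, hkC⟩, mem_core h hodd hL hqL (hCL hkC) hkq, hkC⟩))
  -- the part of `R` centralizing `y` is cyclic
  set A := (R : Subgroup G) ⊓ centralizer ({y} : Set G) with hA
  have hAcyc : IsCyclic ↥A := by
    have hAM : A ≤ M := inf_le_right.trans hCy
    obtain ⟨Q, hQ⟩ := ((R.isPGroup'.to_le inf_le_left).comap_subtype : IsPGroup q ↥(A.subgroupOf M)).exists_le_sylow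
    have := (hcl Q).1
    exact isCyclic_of_injective ((Subgroup.inclusion hQ).comp (subgroupOfEquivOfLe hAM).symm.toMonoidHom)
      ((Subgroup.inclusion_injective hQ).comp (subgroupOfEquivOfLe hAM).symm.injective)
  -- `R` is normal in `N`
  have hcoN : (Nat.card ↥(Cfsg.sigmaCore N)).Coprime p :=
    (hp.out.coprime_iff_not_dvd.mpr fun hd => hpN (sigma_of_dvd_core h hodd hN hp.out hd)).symm
  have hRC : (R : Subgroup G) ≤ Cfsg.sigmaCore N := le_core h hodd hN hqN hRN R.isPGroup'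
  have hNR : N ≤ normalizer ((R : Subgroup G) : Set G) := by
    intro n hn
    refine mem_normalizer_fintype fun a ha => ?_
    obtain ⟨e, he⟩ := IsPGroup.iff_orderOf.mp R.isPGroup' ⟨a, ha⟩
    rw [Subgroup.orderOf_mk] at he
    refine core_sylow_le h hcoN hRC
      ((mem_normalizer_iff.mp (TransHyp.le_normalizer_piCoreOf N hn) a).mp (hRC ha))
      (IsPGroup.of_card (n := e) ?_)
    rw [Nat.card_zpowers, ← he]
    exact orderOf_injective (MulAut.conj n).toMonoidHom (MulAut.conj n).injective a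
  obtain ⟨P', hyP'⟩ := ((hyp.to_le le_rfl).comap_subtype : IsPGroup p ↥((zpowers y).subgroupOf N)).exists_le_sylow
  set PG : Subgroup G := (P' : Subgroup N).map N.subtype with hPG
  have hPN : PG ≤ N := map_subtype_le _
  have hyPG : y ∈ PG := ⟨⟨y, hyN⟩, hyP' (mem_zpowers y), rfl⟩
  have hPp : IsPGroup p ↥PG := P'.isPGroup'.map _
  have hfix : PG ≤ centralizer ({k} : Set G) := by
    set H := PG ⊓ centralizer ({k} : Set G) with hH
    by_contra hnot
    have hlt : H < PG := lt_of_le_of_ne inf_le_left fun e => hnot (e ▸ inf_le_right)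
    obtain ⟨n, ⟨hnP, hnH⟩, hnot'⟩ := SetLike.exists_of_lt (Loc.exists_grow hPp hlt)
    apply hnot'
    have hkA : n * k * n⁻¹ ∈ A := by
      refine ⟨(mem_normalizer_iff.mp (hNR (hPN hnP)) k).mp hkR', mem_centralizer_singleton_iff.mpr ?_⟩
      have h1 : n⁻¹ * y * n ∈ H := (mem_normalizer_iff''.mp hnH y).mp
        ⟨hyPG, mem_centralizer_singleton_iff.mpr hky'.eq.symm⟩
      have h2 := mem_centralizer_singleton_iff.mp h1.2
      calc n * k * n⁻¹ * y = n * (k * (n⁻¹ * y * n)) * n⁻¹ := by group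
        _ = n * ((n⁻¹ * y * n) * k) * n⁻¹ := by rw [h2]
        _ = y * (n * k * n⁻¹) := by group
    have hkA' : k ∈ A := ⟨hkR', mem_centralizer_singleton_iff.mpr hky'.eq⟩
    have hzp : n * k * n⁻¹ ∈ zpowers k := mem_zpowers_of_cyclic A hkA' hkA
      (orderOf_injective (MulAut.conj n).toMonoidHom (MulAut.conj n).injective k)
    have hnk : zpowers n ≤ normalizer (zpowers k : Set G) := by
      rw [zpowers_le]
      refine mem_normalizer_fintype fun a ha => ?_
      obtain ⟨t, rfl⟩ := mem_zpowers_iff.mp ha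
      show n * k ^ t * n⁻¹ ∈ zpowers k
      rw [← conj_zpow]
      exact zpow_mem hzp t
    refine ⟨hnP, mem_centralizer_singleton_iff.mpr ?_⟩
    have := centralizes_small (by have := q_facts h hodd hq hqG hqp; omega : q + 1 < p)
      (hPp.to_le (zpowers_le.mpr hnP)) hnk hkq
      (by rw [Nat.card_zpowers, hi]; exact Nat.le_self_pow two_ne_zero q) (mem_zpowers n)
    exact (mem_centralizer_iff.mp this k (mem_zpowers k)).symm
  refine h.no_fixed hqG hqp R hkR' hk1 ?_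
  have hNC : N ≤ N ⊓ centralizer ({k} : Set G) := by
    refine le_of_relIndex_primes fun s hs hd => ?_
    have := Fact.mk hs
    by_cases hsp : s = p
    · subst hsp
      refine (Grp.isSylowIn_iff.mpr ⟨P', rfl⟩ : Grp.IsSylowIn s PG N).2.2
        (hd.trans (relIndex_dvd_of_le_left N fun a ha => ⟨hPN ha, hfix ha⟩))
    · obtain ⟨T, hT⟩ := Grp.exists_isSylowIn s N
      refine hT.2.2 (hd.trans (relIndex_dvd_of_le_left N fun a ha => ⟨hT.1 ha, ?_⟩))
      refine mem_centralizer_singleton_iff.mpr (commute_core h hodd hN hpN (hT.1 ha) ?_ (hRC hkR'))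
      obtain ⟨e, he⟩ := IsPGroup.iff_orderOf.mp hT.2.1 ⟨a, ha⟩
      rw [Subgroup.orderOf_mk] at he
      rw [he]
      exact ((Nat.coprime_primes hs hp.out).mpr hsp).pow_left _
  exact fun n hn => (hNC (normalizer_le_of h hodd hqG hqp hN hRN hn)).2

end

/-- The tilde set of a conjugate. -/
theorem tilde_smul (hG : Cfsg.IsMinSimpleOddOrder G) {M : Subgroup G} (hM : IsCoatom M) (c : G) :
    Cfsg.tildeOf (MulAut.conj c • M) ((Cfsg.sigmaCore (MulAut.conj c • M) : Set G) \ {1}) =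
      Cfsg.tildeOf M ((Cfsg.sigmaCore M : Set G) \ {1}) := by
  ext g
  rw [Loc.mem_tilde_iff hG (Loc.isCoatom_conj hG hM c), Loc.mem_tilde_iff hG hM]
  constructor
  · rintro ⟨x, a, r, ha, ha1, hr, e⟩
    rw [← Loc.smul_sigmaCore hG hM c, Grp.conj_smul_conj_smul] at ha
    rw [Grp.conj_smul_conj_smul] at hr
    exact ⟨x * c, a, r, ha, ha1, hr, e⟩
  · rintro ⟨x, a, r, ha, ha1, hr, e⟩
    refine ⟨x * c⁻¹, a, r, ?_, ha1, ?_, e⟩
    · rw [← Loc.smul_sigmaCore hG hM c, Grp.conj_smul_conj_smul, inv_mul_cancel_right]; exact ha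
    · rw [Grp.conj_smul_conj_smul, inv_mul_cancel_right]; exact hr

/-- There is no minimal counterexample of odd order. -/
theorem false_of_odd (h : Min p G) (hodd : Odd (Nat.card G)) : False := by
  classical
  have hG := minSimple h hodd
  have hκ : ∀ M : Subgroup G, IsCoatom M → Cfsg.kappa M = ∅ := fun M hM =>
    if hpσ : p ∈ Cfsg.sigma M then kappa_empty_of_mem h hodd hM hpσ else kappa_empty_of_notMem h hodd hM hpσ
  have hsel : ∀ r : ℕ, ∃ M : Subgroup G, r.Prime → r ∣ Nat.card G → IsCoatom M ∧ r ∈ Cfsg.sigma M := by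
    intro r
    by_cases hr : r.Prime ∧ r ∣ Nat.card G
    · obtain ⟨M, hM⟩ := (S1378.result hG).1 r hr.1 hr.2
      exact ⟨M, fun _ _ => hM⟩
    · exact ⟨⊤, fun h1 h2 => absurd ⟨h1, h2⟩ hr⟩
  choose sel hsel using hsel
  let T : Subgroup G → Set G := fun M => Cfsg.tildeOf M ((Cfsg.sigmaCore M : Set G) \ {1})
  obtain ⟨hMp, hpMp⟩ := hsel p hp.out (dvd_p h)
  let Q : Finset ℕ := ((Nat.card G).primeFactors.erase p).filter fun q => p ∉ Cfsg.sigma (sel q)
  have hQ : ∀ q ∈ Q, q.Prime ∧ q ∣ Nat.card G ∧ q ≠ p ∧ p ∉ Cfsg.sigma (sel q) := by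
    intro q hq
    simp only [Q, Finset.mem_filter, Finset.mem_erase, Nat.mem_primeFactors] at hq
    exact ⟨hq.1.2.1, hq.1.2.2.1, hq.1.1, hq.2⟩
  -- the cover
  have hcover : ({1}ᶜ : Set G) ⊆ T (sel p) ∪ ⋃ q ∈ Q, T (sel q) := by
    intro g hg
    obtain ⟨M, hM, hgM⟩ := (S1379.result hG).2.1 hκ g hg
    by_cases hpσ : p ∈ Cfsg.sigma M
    · obtain ⟨c, rfl⟩ := Loc.sigma_conj_of_common hG hMp hM hpMp hpσ
      left
      rw [tilde_smul hG hMp c] at hgM
      exact hgM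
    · right
      obtain ⟨q, hq, hqd⟩ := Nat.exists_prime_and_dvd (n := Nat.card ↥(Cfsg.sigmaCore M))
        (fun e => Loc.sigmaCore_ne_bot hG hM (Subgroup.card_eq_one.mp e))
      have := Fact.mk hq
      have hqσ := sigma_of_dvd_core h hodd hM hq hqd
      have hqG : q ∣ Nat.card G := hqd.trans (card_subgroup_dvd_card _)
      obtain ⟨hMq, hqMq⟩ := hsel q hq hqG
      obtain ⟨c, rfl⟩ := Loc.sigma_conj_of_common hG hMq hM hqMq hqσ
      rw [Loc.sigma_smul_iff hG hMq c] at hpσ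
      rw [tilde_smul hG hMq c] at hgM
      refine Set.mem_biUnion (x := q) ?_ hgM
      simp only [Q, Finset.mem_coe, Finset.mem_filter, Finset.mem_erase, Nat.mem_primeFactors]
      exact ⟨⟨fun e => hpσ (e ▸ hqMq), hq, hqG, Nat.card_pos.ne'⟩, hpσ⟩
  have hbound : ∀ (M : Subgroup G), IsCoatom M → ∀ d : ℕ, d ≤ (Cfsg.sigmaCore M).relIndex M →
      d * (T M).ncard ≤ Nat.card G := by
    intro M hM d hd
    rw [show (T M).ncard = _ from S1377.result hG M hM]
    calc d * ((Nat.card ↥(Cfsg.sigmaCore M) - 1) * M.index)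
        ≤ (Cfsg.sigmaCore M).relIndex M * (Nat.card ↥(Cfsg.sigmaCore M) * M.index) :=
          Nat.mul_le_mul hd (Nat.mul_le_mul_right _ (Nat.sub_le _ _))
      _ = Nat.card G := by
          rw [← mul_assoc, mul_comm ((Cfsg.sigmaCore M).relIndex M),
            Grp.card_mul_relIndex (Loc.sigmaCore_lt hG hM).le, Subgroup.card_mul_index]
  have hMp3 : 3 ≤ (Cfsg.sigmaCore (sel p)).relIndex (sel p) := by
    have h1 : (Cfsg.sigmaCore (sel p)).relIndex (sel p) ≠ 1 := fun e =>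
      (Loc.sigmaCore_lt hG hMp).not_ge (relIndex_eq_one.mp e)
    have h2 : (Cfsg.sigmaCore (sel p)).relIndex (sel p) ∣ Nat.card G :=
      ((relIndex_dvd_card _ _).trans (card_subgroup_dvd_card _))
    have h3 := Nat.odd_iff.mp (hodd.of_dvd_nat h2)
    omega
  have hn : p * 3 ≤ Nat.card G := by
    have h1 : p ∣ Nat.card ↥(Cfsg.sigmaCore (sel p)) := by
      have h0 : p ∣ Nat.card ↥(sel p) := hpMp.2.1
      rw [← Grp.card_mul_relIndex (Loc.sigmaCore_lt hG hMp).le] at h0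
      rcases hp.out.dvd_mul.mp h0 with h1 | h1
      · exact h1
      · exact absurd h1 ((S1350.result hG (sel p) hMp).1.2.2 p hp.out hpMp)
    calc p * 3 ≤ Nat.card ↥(Cfsg.sigmaCore (sel p)) * (Cfsg.sigmaCore (sel p)).relIndex (sel p) :=
          Nat.mul_le_mul (Nat.le_of_dvd Nat.card_pos h1) hMp3
      _ = Nat.card ↥(sel p) := Grp.card_mul_relIndex (Loc.sigmaCore_lt hG hMp).le
      _ ≤ Nat.card G := card_le_card_group _
  have hq' : ∀ q ∈ Q, p * (T (sel q)).ncard ≤ Nat.card G := by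
    intro q hq
    obtain ⟨hq', hqG, hqp, hpσ⟩ := hQ q hq
    have := Fact.mk hq'
    obtain ⟨hMq, hqMq⟩ := hsel q hq' hqG
    refine hbound _ hMq _ (Nat.le_of_dvd (Nat.pos_of_ne_zero fun e0 => Nat.card_pos.ne' (Nat.eq_zero_of_zero_dvd (e0 ▸ relIndex_dvd_card (Cfsg.sigmaCore (sel q)) (sel q)))) ?_)
    obtain ⟨S, hS⟩ := Grp.exists_isSylowIn q (sel q)
    obtain ⟨hNS, hidx⟩ := Loc.sigma_sylow hG hMq hqMq hS
    let R : Sylow q G := hS.2.1.toSylow hidx
    obtain ⟨g, hg, ⟨e, he⟩, hgc⟩ := h.exists_acting hqG hqp R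
    have he0 : e ≠ 0 := fun e0 => hgc (by
      rw [orderOf_eq_one_iff.mp (he.trans (by rw [e0, pow_zero]))]; exact one_mem _)
    have h0 : p ∣ Nat.card ↥(sel q) :=
      (dvd_pow_self p he0).trans (he ▸ Subgroup.orderOf_dvd_natCard _ (hNS hg))
    rw [← Grp.card_mul_relIndex (Loc.sigmaCore_lt hG hMq).le] at h0
    rcases hp.out.dvd_mul.mp h0 with h1 | h1
    · exact absurd (sigma_of_dvd_core h hodd hMq hp.out h1) hpσ
    · exact h1
  have hcard : 2 * Q.card ≤ p - 1 := by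
    have hodd' : ∀ q ∈ Q, q + 2 ≤ p ∧ q % 2 = 1 := fun q hq =>
      q_facts h hodd (hQ q hq).1 (hQ q hq).2.1 (hQ q hq).2.2.1
    have h2 : ∀ q ∈ Q, 2 ≤ q := fun q hq => (hQ q hq).1.two_le
    have : Q.card ≤ (Finset.Icc 1 ((p - 1) / 2)).card := by
      refine Finset.card_le_card_of_injOn (fun q => q / 2) (fun q hq => ?_) (fun a ha b hb e => ?_)
      · have := hodd' q hq; have := h2 q hq
        simp only [Finset.coe_Icc, Set.mem_Icc]; omega
      · have := hodd' a ha; have := hodd' b hb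
        simp only at e; omega
    simp only [Nat.card_Icc] at this
    omega
  have hsum : Nat.card G - 1 ≤ (T (sel p)).ncard + ∑ q ∈ Q, (T (sel q)).ncard := by
    have h1 : ({1}ᶜ : Set G).ncard = Nat.card G - 1 := by rw [Set.ncard_compl, Set.ncard_singleton]
    rw [← h1]
    exact (Set.ncard_le_ncard hcover).trans ((Set.ncard_union_le _ _).trans
      (Nat.add_le_add_left (Finset.set_ncard_biUnion_le Q _) _))
  have h3 := hbound _ hMp 3 hMp3
  have h4 : p * ∑ q ∈ Q, (T (sel q)).ncard ≤ Q.card * Nat.card G := by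
    rw [Finset.mul_sum]
    exact (Finset.sum_le_card_nsmul Q _ _ hq').trans (by rw [smul_eq_mul])
  have h5 := h.five
  generalize Nat.card G = n at *
  generalize (T (sel p)).ncard = a at *
  generalize ∑ q ∈ Q, (T (sel q)).ncard = b at *
  generalize Q.card = c at *
  have e1 : 6 * p * (n - 1) ≤ 6 * p * (a + b) := Nat.mul_le_mul_left _ hsum
  have e2 : 6 * p * a ≤ 2 * p * n := by nlinarith
  have e3 : 6 * p * b ≤ 3 * (p - 1) * n := by nlinarith
  have e4 : 6 * p * (n - 1) = 6 * p * n - 6 * p := by rw [Nat.mul_sub, mul_one]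
  have e5 : 3 * (p - 1) * n = 3 * p * n - 3 * n := by rw [Nat.mul_sub, mul_one, Nat.sub_mul]
  have e6 : 6 * p * (a + b) = 6 * p * a + 6 * p * b := mul_add _ _ _
  have e7 : 6 * p * n = 3 * (p * n) + 2 * (p * n) + (p * n) := by ring
  have e8 : 3 * p * n = 3 * (p * n) := by ring
  have e9 : 2 * p * n = 2 * (p * n) := by ring
  have e10 : 5 * n ≤ p * n := Nat.mul_le_mul_right n h5
  have e11 : p * (p * 3) ≤ p * n := Nat.mul_le_mul_left p hn
  have e12 : 5 * (p * 3) ≤ p * (p * 3) := Nat.mul_le_mul_right _ h5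
  omega

end Cfsg.Agent.Invol.AbP.Odd
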