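import Cfsg.Agent.Lib.Invol.AbPCaseB
import Cfsg.Agent.Lib.Invol.AbPOdd
import Cfsg.Agent.S0731

/-!
# No minimal counterexample: the Zassenhaus end game
-/

set_option autoImplicit false
set_option linter.style.haveILetI false
set_option maxHeartbeats 400000

namespace Cfsg.Agent.Invol.AbP

open Subgroup
open scoped Pointwise
open Cfsg.Agent Cfsg.Agent.Transfer

universe u

variable {p : ℕ} [hp : Fact p.Prime] {G : Type u} [Group G] [Finite G]

/-- No elementary abelian group of order above four embeds in `G ≅ PSL(2, K)`. -/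
theorem not_psl {T : Subgroup G} (hc : ∀ a ∈ T, ∀ b ∈ T, a * b = b * a) (h2 : ∀ a ∈ T, a * a = 1)
    (h4 : 4 < Nat.card ↥T) {K : Type} [Field K] [Fintype K] (hchar : ringChar K ≠ 2)
    (e : G ≃* Matrix.ProjectiveSpecialLinearGroup (Fin 2) K) : False := by
  have h1 := psl_two_elem_le_four hchar (T.map e.toMonoidHom) (by
    rintro _ ⟨a, ha, rfl⟩ _ ⟨b, hb, rfl⟩
    rw [← map_mul, hc a ha b hb, map_mul]) (by
    rintro _ ⟨a, ha, rfl⟩
    rw [← map_mul, h2 a ha, map_one])
  rw [card_map_of_injective (f := e.toMonoidHom) e.injective] at h1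
  omega

namespace Cfg

variable {T : Sylow 2 G} {M : Subgroup G} (c : Cfg p T M)
include c

/-- There is no minimal counterexample of even order. -/
theorem false : False := by
  classical
  obtain ⟨P₀⟩ : Nonempty (Sylow p ↥M) := inferInstance
  obtain ⟨hPp, hpC, δ₀, hδb, hδfix, hFix⟩ := c.sylow_structure P₀
  set PG := (P₀ : Subgroup ↥M).map M.subtype with hPG
  set C := centralizer ((T : Subgroup G) : Set G) with hC
  set b : G ⧸ M := ((1 : G) : G ⧸ M) with hb
  have hstabb : MulAction.stabilizer G b = M := MulAction.stabilizer_quotient M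
  have hPM : PG ≤ M := map_subtype_le _
  have hPb : ∀ x ∈ PG, x • b = b := fun x hx => MulAction.mem_stabilizer_iff.mp (hstabb.symm ▸ hPM hx)
  have hD : MulAction.stabilizer G b ⊓ MulAction.stabilizer G δ₀ = PG := by
    refine (eq_of_le_of_card_ge (le_inf (fun x hx => MulAction.mem_stabilizer_iff.mpr (hPb x hx))
      (fun x hx => MulAction.mem_stabilizer_iff.mpr (hδfix x hx))) ?_).symm
    exact pgroup_card_le P₀ (c.pair_facts hδb.symm).1 inf_le_left
  -- transitivity on the other points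
  have htrans : ∀ δ : G ⧸ M, δ ≠ b → ∃ m ∈ M, m • δ₀ = δ := by
    intro δ hδ
    set D := MulAction.stabilizer G b ⊓ MulAction.stabilizer G δ with hDdef
    obtain ⟨hDp, hDge, -⟩ := c.pair_facts (Ne.symm hδ)
    have hDM : D ≤ M := hstabb ▸ inf_le_left
    have hDpM : IsPGroup p ↥(D.subgroupOf M) := hDp.comap_subtype
    obtain ⟨R, hR⟩ := hDpM.exists_le_sylow
    obtain ⟨m, hm⟩ := MulAction.exists_smul_eq ↥M R P₀
    have hsub : D.map (MulAut.conj (m : G)).toMonoidHom ≤ PG := by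
      rintro _ ⟨x, hx, rfl⟩
      refine ⟨m * ⟨x, hDM hx⟩ * m⁻¹, ?_, rfl⟩
      show m * ⟨x, hDM hx⟩ * m⁻¹ ∈ (P₀ : Subgroup ↥M)
      rw [← hm]
      exact ⟨⟨x, hDM hx⟩, hR hx, rfl⟩
    have heq := eq_of_le_of_card_ge hsub (by
      rw [card_map_of_injective (f := (MulAut.conj (m : G)).toMonoidHom) (MulAut.conj (m : G)).injective, hPp]; exact hDge)
    have hfix : ∀ x ∈ PG, x • ((m : G) • δ) = (m : G) • δ := by
      intro x hx
      rw [← heq] at hx
      obtain ⟨y, hy, rfl⟩ := hx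
      show ((m : G) * y * (m : G)⁻¹) • (m : G) • δ = (m : G) • δ
      rw [smul_smul, inv_mul_cancel_right, mul_smul, MulAction.mem_stabilizer_iff.mp hy.2]
    have hmb : (m : G) • b = b := MulAction.mem_stabilizer_iff.mp (hstabb.symm ▸ m.2)
    rcases hFix _ hfix with e | e
    · exact absurd (smul_left_cancel (m : G) (e.trans hmb.symm)) hδ
    · exact ⟨(m : G)⁻¹, inv_mem m.2, by rw [← e, inv_smul_smul]⟩
  have hpair : ∀ {a a' : G ⧸ M}, a ≠ a' → ∃ g : G, g • b = a ∧ g • δ₀ = a' := by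
    intro a a' hne
    obtain ⟨g, rfl⟩ := QuotientGroup.mk_surjective a
    obtain ⟨m, hm, e⟩ := htrans (g⁻¹ • a') (fun e => hne (by
      rw [← smul_base g, ← hb, ← e, smul_inv_smul]))
    refine ⟨g * m, ?_, by rw [mul_smul, e, smul_inv_smul]⟩
    rw [mul_smul, (MulAction.mem_stabilizer_iff.mp (hstabb.ge hm) : m • b = b), hb, smul_base]
  -- three points
  have hthree : ∀ g : G, ∀ a a' a'' : G ⧸ M, a ≠ a' → a' ≠ a'' → a ≠ a'' →
      g • a = a → g • a' = a' → g • a'' = a'' → g = 1 := by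
    intro g a a' a'' h1 h2 h3 ha ha' ha''
    obtain ⟨k, hk, hk'⟩ := hpair h1
    by_contra hg
    have hg' : k⁻¹ * g * k ∈ PG := by
      rw [← hD]
      refine ⟨MulAction.mem_stabilizer_iff.mpr ?_, MulAction.mem_stabilizer_iff.mpr ?_⟩
      · rw [mul_smul, mul_smul, hk, ha, ← hk, inv_smul_smul]
      · rw [mul_smul, mul_smul, hk', ha', ← hk', inv_smul_smul]
    have hg1 : k⁻¹ * g * k ≠ 1 := fun e => hg (by
      have : g = k * (k⁻¹ * g * k) * k⁻¹ := by group
      rw [this, e]; group)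
    have hgen : zpowers (k⁻¹ * g * k) = PG := by
      refine eq_of_le_of_card_ge (zpowers_le.mpr hg') ?_
      rw [hPp, Nat.card_zpowers]
      refine Nat.le_of_dvd (orderOf_pos _) (dvd_of_eq ?_)
      rcases (Nat.dvd_prime hp.out).mp (hPp ▸ Subgroup.orderOf_dvd_natCard _ hg') with e | e
      · exact absurd (orderOf_eq_one_iff.mp e) hg1
      · exact e.symm
    have hfix : ∀ x ∈ PG, x • (k⁻¹ • a'') = k⁻¹ • a'' := by
      intro x hx
      rw [← hgen] at hx
      obtain ⟨n, rfl⟩ := mem_zpowers_iff.mp hx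
      rw [← MulAction.mem_stabilizer_iff]
      refine zpow_mem ?_ n
      rw [MulAction.mem_stabilizer_iff, mul_smul, mul_smul, smul_inv_smul, ha'']
    rcases hFix _ hfix with e | e
    · exact h3 (by rw [← hk, ← e, smul_inv_smul])
    · exact h2 (by rw [← hk', ← e, smul_inv_smul])
  -- faithfulness
  have hfaith : FaithfulSMul G (G ⧸ M) := by
    refine ⟨fun {g h} hgh => ?_⟩
    have h1 : g⁻¹ * h ∈ (MulAction.toPermHom G (G ⧸ M)).ker := by
      rw [MonoidHom.mem_ker]
      ext x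
      show (g⁻¹ * h) • x = x
      rw [mul_smul, ← hgh x, inv_smul_smul]
    rcases c.min.normal_eq (MonoidHom.normal_ker (MulAction.toPermHom G (G ⧸ M))) with e | e
    · rw [e, mem_bot, inv_mul_eq_one] at h1; exact h1
    · exfalso
      refine c.coatom.1 (eq_top_iff.mpr fun x _ => ?_)
      rw [← hstabb, MulAction.mem_stabilizer_iff]
      have hx : x ∈ (MulAction.toPermHom G (G ⧸ M)).ker := e.symm ▸ mem_top x
      exact Equiv.Perm.ext_iff.mp hx b
  have hMb : M ≠ ⊥ := fun e => by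
    have := c.dvd_card_M
    rw [e, card_bot, Nat.dvd_one] at this
    exact hp.out.ne_one this
  have hZ : Cfsg.IsZassenhausGroup G (G ⧸ M) := by
    refine ⟨hfaith, ?_, fun g a a' a'' h1 h2 h3 => hthree g a a' a'' h1 h2 h3, ?_, ?_⟩
    · rw [MulAction.is_two_pretransitive_iff]
      intro a a' d d' h1 h2
      obtain ⟨k, hk, hk'⟩ := hpair h1
      obtain ⟨l, hl, hl'⟩ := hpair h2
      exact ⟨l * k⁻¹, by rw [mul_smul, ← hk, inv_smul_smul, hl], by rw [mul_smul, ← hk', inv_smul_smul, hl']⟩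
    · have : Nontrivial ↥PG := by rw [← Finite.one_lt_card_iff_nontrivial, hPp]; exact hp.out.one_lt
      obtain ⟨x, hx, hx1⟩ := (nontrivial_iff_exists_ne_one PG).mp this
      exact ⟨x, hx1, b, δ₀, hδb.symm, hPb x hx, hδfix x hx⟩
    · intro N hN htr
      rcases c.min.normal_eq hN with e | e
      · exfalso
        obtain ⟨n, hn⟩ := htr.exists_smul_eq b δ₀
        have : (n : G) = 1 := mem_bot.mp (e ▸ n.2)
        exact hδb (by rw [← hn]; show (n : G) • b = b; rw [this, one_smul])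
      · refine ⟨b, fun hbot => hMb (eq_bot_iff.mpr fun m hm => mem_bot.mpr ?_)⟩
        have hmb : m • b = b := MulAction.mem_stabilizer_iff.mp (hstabb.ge hm)
        have h1 : (⟨m, e.symm ▸ mem_top m⟩ : ↥N) ∈ MulAction.stabilizer ↥N b :=
          MulAction.mem_stabilizer_iff.mpr hmb
        exact congrArg Subtype.val (mem_bot.mp (hbot.le h1))
  have hCM : C ≤ M := c.le_cent
  have hCcomm : IsMulCommutative ↥C := (c.min.good C ((hp.out.coprime_iff_not_dvd.mpr hpC).symm)).1
  have hCP : C ⊓ PG = ⊥ :=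
    Grp.inf_eq_bot_of_coprime (by rw [hPp]; exact (hp.out.coprime_iff_not_dvd.mpr hpC).symm)
  have hMcard : Nat.card ↥M = Nat.card ↥C * p := by
    have h1 := Grp.card_mul_relIndex hCM
    rw [c.idx_C] at h1
    exact h1.symm
  have hMprod : (M : Set G) = (C : Set G) * (PG : Set G) := Grp.le_card_mul hCM hPM (by
    rw [hCP, card_bot, mul_one, hPp, hMcard])
  have hCfix : ∀ u ∈ C, u • δ₀ = δ₀ → u = 1 := fun u hu e => mem_bot.mp (hCP ▸
    ⟨hu, hD ▸ ⟨MulAction.mem_stabilizer_iff.mpr (MulAction.mem_stabilizer_iff.mp (hstabb.symm ▸ hCM hu)),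
      MulAction.mem_stabilizer_iff.mpr e⟩⟩)
  have hCreg : ∀ y : G ⧸ M, y ≠ b → ∃ u ∈ C, u • δ₀ = y := by
    intro y hy
    obtain ⟨m, hm, e⟩ := htrans y hy
    have hm' : m ∈ (C : Set G) * (PG : Set G) := hMprod ▸ hm
    obtain ⟨u, hu, x, hx, rfl⟩ := hm'
    exact ⟨u, hu, by rw [← e, mul_smul, hδfix x hx]⟩
  have hFle : C ≤ MulAction.stabilizer G b := hstabb.symm ▸ hCM
  have hFn : (C.subgroupOf (MulAction.stabilizer G b)).Normal :=
    normal_subgroupOf_of_le_normalizer (hstabb.symm ▸ c.C_normal)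
  have hreg : ∀ y z : G ⧸ M, y ≠ b → z ≠ b → ∃! u : ↥C, (u : G) • y = z := by
    intro y z hy hz
    obtain ⟨u, hu, rfl⟩ := hCreg y hy
    obtain ⟨v, hv, rfl⟩ := hCreg z hz
    refine ⟨⟨v * u⁻¹, mul_mem hv (inv_mem hu)⟩, by show (v * u⁻¹) • u • δ₀ = v • δ₀; rw [mul_smul, inv_smul_smul],
      fun w hw => Subtype.ext ?_⟩
    have h1 := hCfix (v⁻¹ * (w : G) * u) (mul_mem (mul_mem (inv_mem hv) w.2) hu) (by
      rw [mul_smul, mul_smul, hw, inv_smul_smul])
    calc (w : G) = v * (v⁻¹ * w * u) * u⁻¹ := by group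
      _ = v * u⁻¹ := by rw [h1, mul_one]
  have hT4 : 4 < Nat.card ↥(T : Subgroup G) := by rw [c.elementary.2]; have := c.min.five; omega
  rcases S0731.result hZ b C hFle hFn hCcomm hreg with ⟨h3, -⟩ | ⟨K, _, _, hchar, ⟨e⟩⟩
  swap
  · exact not_psl (fun a ha a' ha' => c.T_comm ha ha') c.elementary.1 hT4 hchar e
  -- `G` is sharply triply transitive of degree `p + 2`
  have hcardΩ : Nat.card (G ⧸ M) = Nat.card ↥C + 1 := by
    have h1 : Nat.card ↥C = ({b}ᶜ : Set (G ⧸ M)).ncard := by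
      rw [← Nat.card_coe_set_eq]
      refine Nat.card_congr (Equiv.ofBijective (fun u : ↥C => (⟨(u : G) • δ₀, fun e => hδb ?_⟩ :
        ({b}ᶜ : Set (G ⧸ M)))) ⟨?_, ?_⟩)
      · have h' : (u : G) • b = b := MulAction.mem_stabilizer_iff.mp (hFle u.2)
        exact smul_left_cancel (u : G) ((Set.mem_singleton_iff.mp e).trans h'.symm)
      · intro u v e
        have e' : (u : G) • δ₀ = (v : G) • δ₀ := congrArg Subtype.val e
        exact Subtype.ext (inv_mul_eq_one.mp (hCfix _ (mul_mem (inv_mem v.2) u.2) (by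
          rw [mul_smul, e', inv_smul_smul]))).symm
      · rintro ⟨y, hy⟩
        obtain ⟨u, hu, e⟩ := hCreg y hy
        exact ⟨⟨u, hu⟩, Subtype.ext e⟩
    rw [Set.ncard_compl, Set.ncard_singleton] at h1
    have := Nat.card_pos (α := G ⧸ M)
    omega
  have hTC : (T : Subgroup G) ≤ C := c.T_le_cent
  have hn2 : ({b, δ₀}ᶜ : Set (G ⧸ M)).ncard = p := by
    have h4 := card_le_of_le hTC
    rw [c.elementary.2] at h4
    have := c.min.five
    rw [Set.ncard_compl, Set.ncard_pair hδb.symm]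
    obtain ⟨δ₁, h1, h2⟩ : ∃ δ₁ : G ⧸ M, δ₁ ≠ b ∧ δ₁ ≠ δ₀ := by
      by_contra hc
      push Not at hc
      have := Set.ncard_le_ncard (s := ({b}ᶜ : Set (G ⧸ M))) (t := {δ₀}) fun y hy => hc y hy
      have h5 := Set.ncard_add_ncard_compl ({b} : Set (G ⧸ M))
      simp only [Set.ncard_singleton] at this h5
      omega
    have hbij : ({b, δ₀}ᶜ : Set (G ⧸ M)).ncard = p := by
      rw [← hPp, ← Nat.card_coe_set_eq]
      refine (Nat.card_congr (Equiv.ofBijective (fun x : ↥PG => (⟨(x : G) • δ₁, ?_⟩ :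
        ({b, δ₀}ᶜ : Set (G ⧸ M)))) ⟨?_, ?_⟩)).symm
      · rintro (e | e)
        · exact h1 (smul_left_cancel (x : G) (e.trans (hPb _ x.2).symm))
        · exact h2 (smul_left_cancel (x : G) (e.trans (hδfix _ x.2).symm))
      · intro x y e
        have e' : (x : G) • δ₁ = (y : G) • δ₁ := congrArg Subtype.val e
        have := hthree ((y : G)⁻¹ * x) b δ₀ δ₁ hδb.symm h2.symm h1.symm
          (hPb _ (mul_mem (inv_mem y.2) x.2)) (hδfix _ (mul_mem (inv_mem y.2) x.2))
          (by rw [mul_smul, e', inv_smul_smul])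
        exact Subtype.ext (inv_mul_eq_one.mp this).symm
      · rintro ⟨y, hy⟩
        simp only [Set.mem_compl_iff, Set.mem_insert_iff, Set.mem_singleton_iff, not_or] at hy
        let s : Fin 3 ↪ G ⧸ M := ⟨![b, δ₀, δ₁], by
          intro i j; fin_cases i <;> fin_cases j <;> simp [hδb, hδb.symm, h1, h1.symm, h2, h2.symm]⟩
        let t : Fin 3 ↪ G ⧸ M := ⟨![b, δ₀, y], by
          intro i j; fin_cases i <;> fin_cases j <;>
            simp [hδb, hδb.symm, hy.1, Ne.symm hy.1, hy.2, Ne.symm hy.2]⟩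
        obtain ⟨g, hg⟩ := h3.exists_smul_eq s t
        have e0 : g • b = b := congrArg (fun f : Fin 3 ↪ G ⧸ M => f 0) hg
        have e1 : g • δ₀ = δ₀ := congrArg (fun f : Fin 3 ↪ G ⧸ M => f 1) hg
        have e2 : g • δ₁ = y := congrArg (fun f : Fin 3 ↪ G ⧸ M => f 2) hg
        exact ⟨⟨g, hD ▸ ⟨MulAction.mem_stabilizer_iff.mpr e0, MulAction.mem_stabilizer_iff.mpr e1⟩⟩, Subtype.ext e2⟩
    rwa [Set.ncard_compl, Set.ncard_pair hδb.symm] at hbij
  have hΩ : Nat.card (G ⧸ M) = p + 2 := by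
    rw [Set.ncard_compl, Set.ncard_pair hδb.symm] at hn2
    have := c.min.five
    omega
  have hGcard : Nat.card G = (p + 2) * ((p + 1) * p) := by
    rw [← M.index_mul_card, hMcard, show M.index = p + 2 from hΩ, show Nat.card ↥C = p + 1 by omega]
  -- a prime divisor of `p + 2`
  obtain ⟨r, hr, hrd⟩ := Nat.exists_prime_and_dvd (n := p + 2) (by omega)
  have := Fact.mk hr
  have hp2 : p % 2 = 1 := (hp.out.eq_two_or_odd).resolve_left (Ne.symm c.min.p_ne_two)
  have hr2 : r ≠ 2 := fun e => by rw [e] at hrd; omega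
  have hrp : r ≠ p := fun e => by
    rw [e] at hrd
    have := Nat.le_of_dvd two_pos ((Nat.dvd_add_right dvd_rfl).mp hrd)
    have := c.min.five
    omega
  have hr1 : ¬ r ∣ p + 1 := fun hd => hr.not_dvd_one (by simpa using Nat.dvd_sub hrd hd)
  have hrG : r ∣ Nat.card G := hGcard ▸ hrd.mul_right _
  obtain ⟨R⟩ : Nonempty (Sylow r G) := inferInstance
  obtain ⟨g, hg, ⟨k, hk⟩, hgc⟩ := c.min.exists_acting hrG hrp R
  obtain ⟨i, hi⟩ := IsPGroup.iff_card.mp R.isPGroup'
  have hRdvd : r ^ i ∣ p + 2 := by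
    have h1 : r ^ i ∣ (p + 2) * ((p + 1) * p) := hGcard ▸ hi ▸ card_subgroup_dvd_card _
    refine Nat.Coprime.dvd_of_dvd_mul_right (Nat.Coprime.pow_left _ (Nat.Coprime.mul_right ?_ ?_)) h1
    · exact hr.coprime_iff_not_dvd.mpr hr1
    · exact (Nat.coprime_primes hr hp.out).mpr hrp
  have hPg : IsPGroup p ↥(zpowers g) := IsPGroup.of_card (by rw [Nat.card_zpowers, hk])
  have hmod := fixed_modEq hPg (zpowers_le.mpr hg : zpowers g ≤ normalizer ((R : Subgroup G) : Set G))
  set F := (R : Subgroup G) ⊓ centralizer (zpowers g : Set G) with hF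
  obtain ⟨j, hji, hj⟩ := (Nat.dvd_prime_pow hr).mp (hi ▸ card_dvd_of_le (inf_le_left : F ≤ (R : Subgroup G)))
  have hlt : j < i := by
    refine lt_of_le_of_ne hji fun e => hgc ?_
    have hFR : F = (R : Subgroup G) := eq_of_le_of_card_ge inf_le_left (by rw [hi, hj, e])
    refine mem_centralizer_iff.mpr fun x hx => ?_
    exact (mem_centralizer_iff.mp (hFR.ge hx).2 g (mem_zpowers g)).symm
  rw [hi, hj, Nat.ModEq.comm, Nat.modEq_iff_dvd' (Nat.pow_le_pow_right hr.pos hji)] at hmod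
  rw [show i = j + (i - j) by omega, pow_add, ← Nat.mul_sub_one] at hmod
  rcases hp.out.dvd_mul.mp hmod with h1 | h1
  · exact hrp ((Nat.prime_dvd_prime_iff_eq hp.out hr).mp (hp.out.dvd_of_dvd_pow h1)).symm
  have hpos : 1 ≤ r ^ (i - j) := Nat.one_le_pow _ _ hr.pos
  have hle : r ^ (i - j) ≤ p + 2 :=
    (Nat.pow_le_pow_right hr.pos (Nat.sub_le i j)).trans (Nat.le_of_dvd (by omega) hRdvd)
  have hne1 : r ^ (i - j) ≠ 1 := (Nat.one_lt_pow (by omega) hr.one_lt).ne'
  obtain ⟨t, ht⟩ := h1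
  have hodd : r ^ (i - j) % 2 = 1 := by
    simp [Nat.pow_mod, (hr.eq_two_or_odd).resolve_left hr2]
  have ht1 : t = 1 := by
    rcases Nat.lt_or_ge t 2 with h | h
    · rcases Nat.lt_or_ge t 1 with h0 | h0
      · rw [show t = 0 by omega, mul_zero] at ht; omega
      · omega
    · have := Nat.mul_le_mul_left p h
      have := c.min.five
      omega
  rw [ht1, mul_one] at ht
  omega

end Cfg

/-- A group whose `p'`-subgroups are abelian of exponent dividing `p - 1` is solvable. -/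
theorem isSolvable (G : Type u) [Group G] [Finite G] (h : Good p G) : Group.IsSolvable G := by
  refine isSolvable_of_good (fun H _ _ hmin => ?_) (Nat.card G) G rfl h
  rcases Nat.even_or_odd (Nat.card H) with hev | hodd
  · obtain ⟨T, M, c⟩ := Cfg.exists_cfg hmin (even_iff_two_dvd.mp hev)
    exact c.false
  · exact Odd.false_of_odd hmin hodd

end Cfsg.Agent.Invol.AbP
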