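import Cfsg.Agent.Lib.Invol.AbPBasic
import Cfsg.Agent.Lib.Invol.StronglyEmbedded
import Cfsg.Agent.Lib.Invol.StronglyEmbeddedCount
import Cfsg.Agent.Lib.Transfer.Local.Plane
import Cfsg.Agent.Lib.Fus.TransitivityOdd
import Cfsg.Agent.Lib.Grp.Frattini
import Cfsg.Agent.Lib.Grp.CoprimeFactor
import Cfsg.Agent.S0017
import Cfsg.Agent.S0018
import Cfsg.Agent.S0058
import Cfsg.Agent.S1480

/-!
# Even order: the unique maximal subgroup over a Sylow 2-subgroup
-/

set_option autoImplicit false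
set_option linter.style.haveILetI false
set_option maxHeartbeats 400000

namespace Cfsg.Agent.Invol.AbP

open Subgroup
open scoped Pointwise
open Cfsg.Agent Cfsg.Agent.Transfer

universe u

theorem le_of_relIndex_no_prime {G : Type*} [Group G] [Finite G] {D M : Subgroup G}
    (h : ∀ r : ℕ, r.Prime → ¬ r ∣ D.relIndex M) : M ≤ D := by
  rw [← relIndex_eq_one]
  by_contra hne
  obtain ⟨r, hr, hd⟩ := Nat.exists_prime_and_dvd hne
  exact h r hr hd

/-- In a solvable group with an abelian Sylow 2-subgroup `T`, odd `T`-invariant subgroups lie in `O(H)`. -/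
theorem odd_le_core {H : Type*} [Group H] [Finite H] [Group.IsSolvable H] (T : Sylow 2 H)
    (hT : IsMulCommutative ↥(T : Subgroup H)) {X : Subgroup H} (hX : Odd (Nat.card ↥X))
    (hTX : (T : Subgroup H) ≤ normalizer (X : Set H)) : X ≤ Cfsg.pPrimeCore 2 H := by
  set O := Cfsg.pPrimeCore 2 H with hO
  have hOn : O.Normal := Grp.pPrimeCore_isNormal
  have hM := S0018.result 2 T hT
  set π := QuotientGroup.mk' O with hπ
  have hπs : Function.Surjective π := QuotientGroup.mk'_surjective O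
  set TQ := (T : Subgroup H).map π with hTQ
  have hTQp : IsPGroup 2 ↥TQ := T.isPGroup'.map π
  have hTQn : TQ.Normal := by
    have h1 : ((T : Subgroup H) ⊔ O).map π = TQ := by
      rw [Subgroup.map_sup, hπ, QuotientGroup.map_mk'_self, sup_bot_eq]
    rw [← h1]
    exact hM.map π hπs
  have hcore : Cfsg.pCore 2 (H ⧸ O) = TQ := by
    refine le_antisymm ?_ (Grp.le_pCore hTQn hTQp)
    exact Grp.pCore_le_sylow (T.mapSurjective hπs)
  have hsol : Group.IsSolvable (H ⧸ O) := Group.isSolvable_of_surjective hπs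
  have hC := S0017.result (G := H ⧸ O) 2 Grp.pPrimeCore_quotient_eq_bot
  rw [hcore] at hC
  set XQ := X.map π with hXQ
  have hXo : (Nat.card ↥XQ).Coprime 2 :=
    Nat.Coprime.coprime_dvd_left (Subgroup.card_map_dvd (f := π) X) (Nat.coprime_two_right.mpr hX)
  have hbot : XQ ⊓ TQ = ⊥ := by
    obtain ⟨n, hn⟩ := IsPGroup.iff_card.mp hTQp
    refine Grp.inf_eq_bot_of_coprime ?_
    rw [hn]
    exact hXo.pow_right n
  have hcomm : XQ ≤ centralizer (TQ : Set (H ⧸ O)) := by
    rintro _ ⟨x, hx, rfl⟩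
    refine mem_centralizer_iff.mpr ?_
    rintro _ ⟨t, ht, rfl⟩
    have hmem : π x * π t * (π x)⁻¹ * (π t)⁻¹ ∈ XQ ⊓ TQ := by
      have htQ : π t ∈ TQ := mem_map_of_mem π ht
      refine ⟨?_, TQ.mul_mem (hTQn.conj_mem _ htQ _) (TQ.inv_mem htQ)⟩
      have h1 : t * x⁻¹ * t⁻¹ ∈ X := (mem_normalizer_iff.mp (hTX ht) x⁻¹).mp (inv_mem hx)
      rw [show π x * π t * (π x)⁻¹ * (π t)⁻¹ = π (x * (t * x⁻¹ * t⁻¹)) by
        simp only [map_mul, map_inv]; group]
      exact mem_map_of_mem π (mul_mem hx h1)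
    rw [hbot, mem_bot] at hmem
    exact (mul_inv_eq_iff_eq_mul.mp (mul_inv_eq_one.mp hmem)).symm
  intro x hx
  refine (QuotientGroup.eq_one_iff x).mp (mem_bot.mp (hbot.le ⟨mem_map_of_mem π hx, ?_⟩))
  exact hC (hcomm (mem_map_of_mem π hx))

variable {p : ℕ} [hp : Fact p.Prime] {G : Type u} [Group G] [Finite G]

theorem Min.p_ne_two (h : Min p G) : (2 : ℕ) ≠ p := by have := h.five; omega

section

variable (h : Min p G) (T : Sylow 2 G)
include h

theorem comm_two : IsMulCommutative ↥(T : Subgroup G) := h.sylow_comm h.p_ne_two T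

theorem T_le_centralizer {a : G} (ha : a ∈ (T : Subgroup G)) :
    (T : Subgroup G) ≤ centralizer ({a} : Set G) := fun t ht =>
  mem_centralizer_singleton_iff.mpr (congrArg Subtype.val ((comm_two h T).is_comm.comm ⟨t, ht⟩ ⟨a, ha⟩))

theorem comm_subtype {H : Subgroup G} (hTH : (T : Subgroup G) ≤ H) :
    IsMulCommutative ↥((T.subtype hTH : Sylow 2 ↥H) : Subgroup ↥H) := by
  refine ⟨⟨?_⟩⟩
  rintro ⟨⟨a, haH⟩, ha⟩ ⟨⟨b, hbH⟩, hb⟩
  have e : a * b = b * a := congrArg Subtype.val ((comm_two h T).is_comm.comm ⟨a, ha⟩ ⟨b, hb⟩)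
  exact Subtype.ext (Subtype.ext e)

theorem frattini_two {H : Subgroup G} (hH : H ≠ ⊤) (hTH : (T : Subgroup G) ≤ H) :
    H ≤ Loc.O' 2 H ⊔ (H ⊓ normalizer ((T : Subgroup G) : Set G)) := by
  have := h.sol H hH
  let TH : Sylow 2 ↥H := T.subtype hTH
  have hc : IsMulCommutative ↥(TH : Subgroup ↥H) := comm_subtype h T hTH
  have hM := S0018.result 2 TH hc
  set M₀ := (TH : Subgroup ↥H) ⊔ Cfsg.pPrimeCore 2 ↥H with hM₀
  have hle : (TH : Subgroup ↥H) ≤ M₀ := le_sup_left
  have hfr := Sylow.normalizer_sup_eq_top (TH.subtype hle)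
  rw [Sylow.coe_subtype, map_subgroupOf_eq_of_le hle] at hfr
  intro x hx
  have h1 : (⟨x, hx⟩ : ↥H) ∈ normalizer ((TH : Subgroup ↥H) : Set ↥H) ⊔ M₀ := hfr.symm ▸ mem_top _
  have hmap : (TH : Subgroup ↥H).map H.subtype = (T : Subgroup G) := by
    rw [Sylow.coe_subtype, map_subgroupOf_eq_of_le hTH]
  have h2 : (normalizer ((TH : Subgroup ↥H) : Set ↥H) ⊔ M₀).map H.subtype ≤
      Loc.O' 2 H ⊔ (H ⊓ normalizer ((T : Subgroup G) : Set G)) := by
    rw [Subgroup.map_sup, hM₀, Subgroup.map_sup, hmap, ← Loc.O'_eq]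
    refine sup_le (le_sup_of_le_right ?_) (sup_le (le_sup_of_le_right (le_inf hTH le_normalizer)) le_sup_left)
    refine le_inf (map_subtype_le _) ?_
    have := le_normalizer_map (H := (TH : Subgroup ↥H)) H.subtype
    rwa [hmap] at this
  exact h2 (mem_map_of_mem H.subtype h1)

theorem le_O_two {H X : Subgroup G} (hH : H ≠ ⊤) (hTH : (T : Subgroup G) ≤ H) (hXH : X ≤ H)
    (hX : Odd (Nat.card ↥X)) (hTX : (T : Subgroup G) ≤ normalizer (X : Set G)) : X ≤ Loc.O' 2 H := by
  have := h.sol H hH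
  have hc := comm_subtype h T hTH
  have hle := odd_le_core (T.subtype hTH) hc (X := X.subgroupOf H)
    (by rwa [Nat.card_congr (subgroupOfEquivOfLe hXH).toEquiv]) (fun t ht => by
      refine mem_normalizer_iff.mpr fun y => ?_
      simp only [mem_subgroupOf, Subgroup.coe_mul, InvMemClass.coe_inv]
      exact mem_normalizer_iff.mp (hTX ht) y)
  have h2 := map_mono (f := H.subtype) hle
  rwa [map_subgroupOf_eq_of_le hXH, ← Loc.O'_eq] at h2

omit h in
theorem O'_odd (H : Subgroup G) : Odd (Nat.card ↥(Loc.O' 2 H)) :=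
  Nat.coprime_two_right.mp (Loc.O'_coprime H)

omit h in
theorem two_coprime {X : Subgroup G} (hX : Odd (Nat.card ↥X)) :
    (Nat.card ↥(T : Subgroup G)).Coprime (Nat.card ↥X) := by
  obtain ⟨n, hn⟩ := IsPGroup.iff_card.mp T.isPGroup'
  rw [hn]
  exact (Nat.coprime_two_left.mpr hX).pow_left n

theorem T_centralizes {X : Subgroup G} (hX : (Nat.card ↥X).Coprime p)
    (hTX : (T : Subgroup G) ≤ normalizer (X : Set G)) : (T : Subgroup G) ≤ centralizer (X : Set G) :=
  h.good.le_centralizer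
    (Grp.card_sup_coprime_to hTX (Min.coprime_q h.p_ne_two T.isPGroup') hX) le_sup_left le_sup_right

theorem not_cyclic_two (hev : 2 ∣ Nat.card G) : ¬ IsCyclic ↥(T : Subgroup G) := by
  intro hc
  refine h.not_rank_two hev h.p_ne_two T fun A _ hA => ?_
  obtain ⟨g, hg⟩ := (inferInstance : IsCyclic ↥A).exists_ofOrder_eq_natCard
  rw [← hg]
  exact (orderOf_le_of_pow_eq_one two_pos (Subtype.ext (by rw [coe_pow, coe_one]; exact hA g g.2))).trans
    (by norm_num)

theorem centralizer_two_ne_top (hev : 2 ∣ Nat.card G) : centralizer ((T : Subgroup G) : Set G) ≠ ⊤ := by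
  obtain ⟨a, ha, ha1⟩ := (bot_or_exists_ne_one _).resolve_left (T.ne_bot_of_dvd_card hev)
  exact fun e => h.centralizer_ne_top ha1 (top_le_iff.mp (e.ge.trans (centralizer_le (Set.singleton_subset_iff.mpr ha))))

theorem normalizer_two_ne_top (hev : 2 ∣ Nat.card G) : normalizer ((T : Subgroup G) : Set G) ≠ ⊤ :=
  h.normalizer_ne_top (T.ne_bot_of_dvd_card hev) (h.pgroup_ne_top T.isPGroup')

/-- The core of a centraliser, and of `C(T)`. -/
theorem K_le_theta (hev : 2 ∣ Nat.card G) {a : G} (ha : a ∈ (T : Subgroup G)) (ha1 : a ≠ 1) :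
    Loc.O' 2 (centralizer ((T : Subgroup G) : Set G)) ≤ Loc.O' 2 (centralizer ({a} : Set G)) :=
  le_O_two h T (h.centralizer_ne_top ha1) (T_le_centralizer h T ha)
    ((Loc.O'_le 2 _).trans (centralizer_le (Set.singleton_subset_iff.mpr ha))) (O'_odd _)
    ((show (T : Subgroup G) ≤ centralizer ((T : Subgroup G) : Set G) from fun t ht =>
      mem_centralizer_iff.mpr fun s hs => (mem_centralizer_singleton_iff.mp (T_le_centralizer h T hs ht)).symm).trans
      (Loc.le_normalizer_core' _))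

theorem theta_conj {n a : G} (hn : n ∈ normalizer ((T : Subgroup G) : Set G)) (ha : a ∈ (T : Subgroup G))
    (ha1 : a ≠ 1) {x : G} (hx : x ∈ Loc.O' 2 (centralizer ({a} : Set G))) :
    n * x * n⁻¹ ∈ Loc.O' 2 (centralizer ({n * a * n⁻¹} : Set G)) := by
  have hna : n * a * n⁻¹ ∈ (T : Subgroup G) := (mem_normalizer_iff.mp hn a).mp ha
  have hna1 : n * a * n⁻¹ ≠ 1 := fun e => ha1 (conj_eq_one_iff.mp e)
  refine le_O_two h T (h.centralizer_ne_top hna1) (T_le_centralizer h T hna)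
    (X := (Loc.O' 2 (centralizer ({a} : Set G))).map (MulAut.conj n).toMonoidHom) ?_ ?_ ?_ ⟨x, hx, rfl⟩
  · rintro _ ⟨y, hy, rfl⟩
    refine mem_centralizer_singleton_iff.mpr ?_
    have := mem_centralizer_singleton_iff.mp (Loc.O'_le 2 _ hy)
    show n * y * n⁻¹ * (n * a * n⁻¹) = n * a * n⁻¹ * (n * y * n⁻¹)
    calc n * y * n⁻¹ * (n * a * n⁻¹) = n * (y * a) * n⁻¹ := by group
      _ = n * (a * y) * n⁻¹ := by rw [this]
      _ = _ := by group
  · rw [card_map_of_injective (MulAut.conj n).injective]; exact O'_odd _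
  · intro t ht
    have hTN : (T : Subgroup G) ≤ normalizer (Loc.O' 2 (centralizer ({a} : Set G)) : Set G) :=
      (T_le_centralizer h T ha).trans (Loc.le_normalizer_core' _)
    refine le_normalizer_map _ ⟨n⁻¹ * t * n, hTN ((mem_normalizer_iff''.mp hn t).mp ht), ?_⟩
    show n * (n⁻¹ * t * n) * n⁻¹ = t
    group

/-- With `U` a maximal `T`-invariant `p`-subgroup and `K = O(C(T))`: `θ(a) = K (U ∩ θ(a))`. -/
theorem theta_eq (hev : 2 ∣ Nat.card G) {U : Subgroup G}
    (hU : U ∈ Cfsg.maxInvSubgroups ⊤ (T : Subgroup G) {p}) {a : G} (ha : a ∈ (T : Subgroup G)) (ha1 : a ≠ 1) :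
    (Loc.O' 2 (centralizer ({a} : Set G)) : Set G) =
      (Loc.O' 2 (centralizer ((T : Subgroup G) : Set G)) : Set G) *
        ((U ⊓ centralizer ({a} : Set G) : Subgroup G) : Set G) := by
  set θ := Loc.O' 2 (centralizer ({a} : Set G)) with hθ
  set K := Loc.O' 2 (centralizer ((T : Subgroup G) : Set G)) with hK
  set A := U ⊓ centralizer ({a} : Set G) with hA
  have hTC := T_le_centralizer h T ha
  have hTθ : (T : Subgroup G) ≤ normalizer (θ : Set G) := hTC.trans (Loc.le_normalizer_core' _)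
  have hKθ : K ≤ θ := K_le_theta h T hev ha ha1
  have hUp : IsPGroup p ↥U := Loc.isPGroup_of_primes fun r hr hd => hU.1.2.1 r hr hd
  have hAθ : A ≤ θ := by
    refine le_O_two h T (h.centralizer_ne_top ha1) hTC inf_le_right ?_ fun t ht =>
      mem_normalizer_iff.mpr fun y => ?_
    · obtain ⟨n, hn⟩ := IsPGroup.iff_card.mp (hUp.to_le (inf_le_left (b := centralizer ({a} : Set G))))
      rw [hA, hn]
      exact (hp.out.odd_of_ne_two (Ne.symm h.p_ne_two)).pow
    · simp only [hA, Subgroup.mem_inf]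
      rw [← mem_normalizer_iff.mp (hU.1.2.2 ht) y, ← mem_normalizer_iff.mp (le_normalizer (hTC ht)) y]
  refine Grp.le_card_mul hKθ hAθ (Nat.le_of_dvd (Nat.mul_pos Nat.card_pos Nat.card_pos) ?_)
  rw [← Nat.gcd_mul_lcm (Nat.card ↥K) (Nat.card ↥A), mul_comm]
  refine mul_dvd_mul (Nat.dvd_gcd (card_dvd_of_le inf_le_left) (card_dvd_of_le inf_le_right)) ?_
  rw [Nat.dvd_iff_prime_pow_dvd_dvd]
  intro r k hr hk
  have := Fact.mk hr
  have hsol : Group.IsSolvable ↥(T : Subgroup G) := by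
    have := T.isPGroup'.isNilpotent
    infer_instance
  obtain ⟨X, hX, hTX⟩ := Grp.exists_invariant_sylow (T : Subgroup G) θ hTθ (two_coprime T (O'_odd _))
    (Or.inl hsol) r
  have hkX : r ^ k ∣ Nat.card ↥X := by
    rw [← Grp.card_mul_relIndex hX.1] at hk
    exact Nat.Coprime.dvd_of_dvd_mul_right ((hr.coprime_iff_not_dvd.mpr hX.2.2).pow_left k) hk
  by_cases hrp : r = p
  · subst hrp
    refine dvd_trans (hkX.trans ?_) (Nat.dvd_lcm_right _ _)
    obtain ⟨U', hU', hXU'⟩ := Loc.exists_maxInv (A := (T : Subgroup G)) hX.2.1 hTX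
    have hloc : ∀ S : Subgroup G, IsPGroup 2 ↥S → S ≠ ⊥ →
        Cfsg.IsPConstrained 2 ↥(normalizer (S : Set G)) := fun S hS hS1 =>
      Fus.TransOdd.isPConstrained_of_solvable (h.sol _ (h.normalizer_ne_top hS1 (h.pgroup_ne_top hS)))
    have hclass : (2 : ℕ) = 2 → ∀ S : Sylow 2 G, Group.IsNilpotent (S : Subgroup G) ∧
        Group.nilpotencyClass (S : Subgroup G) ≤ 2 := fun _ S => by
      have := comm_two h S
      letI : CommGroup ↥(S : Subgroup G) := { (inferInstance : Group ↥(S : Subgroup G)) with mul_comm := mul_comm' }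
      exact ⟨CommGroup.isNilpotent, (CommGroup.nilpotencyClass_le_one).trans one_le_two⟩
    have hfull : ∀ x ∈ centralizer ((T : Subgroup G) : Set G), IsPGroup 2 ↥(zpowers x) →
        x ∈ (T : Subgroup G) := by
      intro x hx hx2
      have := T.is_maximal' (hx2.to_sup_of_normal_right' T.isPGroup'
        ((zpowers_le.mpr hx).trans (centralizer_le_normalizer _))) le_sup_right
      exact this.le ((le_sup_left : zpowers x ≤ zpowers x ⊔ (T : Subgroup G)) (mem_zpowers x))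
    obtain ⟨k, hk, rfl⟩ := S1480.result 2 hloc hclass (T : Subgroup G) T.isPGroup' (comm_two h T)
      (h.not_rank_two hev h.p_ne_two T) hfull r (Ne.symm h.p_ne_two) U hU U' hU'
    have hkK : k ∈ K := by
      refine TransHyp.le_piCoreOf (TransHyp.piCoreOf_le _) (TransHyp.le_normalizer_piCoreOf _)
        (fun q hq hd => ?_) hk
      intro e
      subst e
      exact (TransHyp.piCoreOf_primes (π := Cfsg.primesNotDvd 2) hq hd).2 dvd_rfl
    have hsub : X.map (MulAut.conj k⁻¹).toMonoidHom ≤ A := by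
      rintro _ ⟨x, hx, rfl⟩
      refine ⟨?_, Loc.O'_le 2 _ (mul_mem (mul_mem (inv_mem (hKθ hkK)) (hX.1 hx)) (inv_mem (inv_mem (hKθ hkK))))⟩
      obtain ⟨u, hu, e⟩ := hXU' hx
      have e' : k * u * k⁻¹ = x := e
      show k⁻¹ * x * k⁻¹⁻¹ ∈ U
      rw [← e', show k⁻¹ * (k * u * k⁻¹) * k⁻¹⁻¹ = u by group]
      exact hu
    have := card_dvd_of_le hsub
    rwa [card_map_of_injective (MulAut.conj k⁻¹).injective] at this
  · refine dvd_trans (hkX.trans (card_dvd_of_le ?_)) (Nat.dvd_lcm_left _ _)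
    have hXc := T_centralizes h T (Min.coprime_q hrp hX.2.1) hTX
    have hTT : (T : Subgroup G) ≤ centralizer ((T : Subgroup G) : Set G) := fun t ht =>
      mem_centralizer_iff.mpr fun s hs => (mem_centralizer_singleton_iff.mp (T_le_centralizer h T hs ht)).symm
    refine le_O_two h T (centralizer_two_ne_top h T hev) hTT ?_ ?_ hTX
    · exact fun x hx => mem_centralizer_iff.mpr fun t ht => (mem_centralizer_iff.mp (hXc ht) x hx).symm
    · exact (O'_odd _).of_dvd_nat (card_dvd_of_le hX.1)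

/-- A maximal subgroup containing `N(T)` and all centralisers of elements of `T`. -/
theorem exists_top_max (hev : 2 ∣ Nat.card G) :
    ∃ M : Subgroup G, IsCoatom M ∧ normalizer ((T : Subgroup G) : Set G) ≤ M ∧
      ∀ a ∈ (T : Subgroup G), a ≠ 1 → centralizer ({a} : Set G) ≤ M := by
  set K := Loc.O' 2 (centralizer ((T : Subgroup G) : Set G)) with hK
  obtain ⟨U, hU, -⟩ := Loc.exists_maxInv (q := p) (A := (T : Subgroup G)) (R := ⊥) IsPGroup.of_bot
    (by rw [normalizer_eq_top]; exact le_top)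
  have hUp : IsPGroup p ↥U := Loc.isPGroup_of_primes fun r hr hd => hU.1.2.1 r hr hd
  have hUodd : Odd (Nat.card ↥U) := by
    obtain ⟨n, hn⟩ := IsPGroup.iff_card.mp hUp
    rw [hn]; exact (hp.out.odd_of_ne_two (Ne.symm h.p_ne_two)).pow
  have := comm_two h T
  have hgen : (⨆ a ∈ {a : G | a ∈ (T : Subgroup G) ∧ a ≠ 1}, U ⊓ centralizer {a}) = U :=
    S0058.result (T : Subgroup G) U (not_cyclic_two h T hev) hU.1.2.2 (two_coprime T hUodd)
  set W := K ⊔ U with hW
  have hθW : ∀ a ∈ (T : Subgroup G), a ≠ 1 → Loc.O' 2 (centralizer ({a} : Set G)) ≤ W := by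
    intro a ha ha1 x hx
    have : x ∈ (K : Set G) * ((U ⊓ centralizer ({a} : Set G) : Subgroup G) : Set G) :=
      theta_eq h T hev hU ha ha1 ▸ hx
    obtain ⟨k, hk, u, hu, rfl⟩ := this
    exact mul_mem ((le_sup_left : K ≤ W) hk) ((le_sup_right : U ≤ W) hu.1)
  have hclosed : ∀ w ∈ W, ∃ k ∈ K, ∃ u ∈ U, w = k * u := by
    let S : Subgroup G :=
      { carrier := {g | ∀ k ∈ K, ∀ u ∈ U, (∃ k' ∈ K, ∃ u' ∈ U, g * (k * u) = k' * u') ∧
          ∃ k' ∈ K, ∃ u' ∈ U, g⁻¹ * (k * u) = k' * u'}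
        one_mem' := fun k hk u hu => ⟨⟨k, hk, u, hu, one_mul _⟩, ⟨k, hk, u, hu, by rw [inv_one, one_mul]⟩⟩
        mul_mem' := fun {g g'} hg hg' k hk u hu => by
          refine ⟨?_, ?_⟩
          · obtain ⟨k1, hk1, u1, hu1, e1⟩ := (hg' k hk u hu).1
            obtain ⟨k2, hk2, u2, hu2, e2⟩ := (hg k1 hk1 u1 hu1).1
            exact ⟨k2, hk2, u2, hu2, by rw [mul_assoc, e1, e2]⟩
          · obtain ⟨k1, hk1, u1, hu1, e1⟩ := (hg k hk u hu).2
            obtain ⟨k2, hk2, u2, hu2, e2⟩ := (hg' k1 hk1 u1 hu1).2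
            exact ⟨k2, hk2, u2, hu2, by rw [mul_inv_rev, mul_assoc, e1, e2]⟩
        inv_mem' := fun {g} hg k hk u hu => ⟨(hg k hk u hu).2, by rw [inv_inv]; exact (hg k hk u hu).1⟩ }
    have hKS : K ≤ S := fun g hg k hk u hu =>
      ⟨⟨g * k, mul_mem hg hk, u, hu, (mul_assoc _ _ _).symm⟩,
        ⟨g⁻¹ * k, mul_mem (inv_mem hg) hk, u, hu, (mul_assoc _ _ _).symm⟩⟩
    have hUS : U ≤ S := by
      refine hgen.symm.trans_le (iSup₂_le fun a ha g hg => ?_)
      have aux : ∀ g ∈ U ⊓ centralizer ({a} : Set G), ∀ k ∈ K, ∀ u ∈ U,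
          ∃ k' ∈ K, ∃ u' ∈ U, g * (k * u) = k' * u' := by
        intro g hg k hk u hu
        have hgθ : g ∈ Loc.O' 2 (centralizer ({a} : Set G)) := by
          have : g ∈ (K : Set G) * ((U ⊓ centralizer ({a} : Set G) : Subgroup G) : Set G) :=
            ⟨1, one_mem _, g, hg, one_mul g⟩
          exact (Set.ext_iff.mp (theta_eq h T hev hU ha.1 ha.2) _).mpr this
        have : g * k ∈ (K : Set G) * ((U ⊓ centralizer ({a} : Set G) : Subgroup G) : Set G) :=
          theta_eq h T hev hU ha.1 ha.2 ▸ mul_mem hgθ (K_le_theta h T hev ha.1 ha.2 hk)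
        obtain ⟨k', hk', u', hu', e⟩ := this
        exact ⟨k', hk', u' * u, mul_mem hu'.1 hu, by
          rw [← mul_assoc, ← (show k' * u' = g * k from e), mul_assoc]⟩
      exact fun k hk u hu => ⟨aux g hg k hk u hu, aux g⁻¹ (inv_mem hg) k hk u hu⟩
    intro w hw
    obtain ⟨k', hk', u', hu', e⟩ := ((sup_le hKS hUS : W ≤ S) hw 1 (one_mem K) 1 (one_mem U)).1
    exact ⟨k', hk', u', hu', by rw [one_mul, mul_one] at e; exact e⟩
  have hWodd : W ≠ ⊤ := by
    intro e
    have h1 := Grp.card_mul_eq_of_subset (K := W) (X := K) (Y := U) le_sup_left le_sup_right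
      (fun w hw => by obtain ⟨k, hk, u, hu, rfl⟩ := hclosed w hw; exact ⟨k, hk, u, hu, rfl⟩)
    have h2 : Odd (Nat.card ↥K * Nat.card ↥U) := (O'_odd _).mul hUodd
    rw [← h1, e, Subgroup.card_top, Nat.odd_mul] at h2
    exact (Nat.not_even_iff_odd.mpr h2.1) (even_iff_two_dvd.mpr hev)
  have hNW : normalizer ((T : Subgroup G) : Set G) ≤ normalizer (W : Set G) := by
    intro n hn
    refine mem_normalizer_fintype fun x hx => ?_
    suffices W.map (MulAut.conj n).toMonoidHom ≤ W from this ⟨x, hx, rfl⟩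
    rw [hW, Subgroup.map_sup]
    have hKn : normalizer ((T : Subgroup G) : Set G) ≤ normalizer (K : Set G) := by
      refine le_trans ?_ (TransHyp.normalizer_le_piCoreOf _)
      intro m hm
      refine mem_normalizer_fintype fun c hc => mem_centralizer_iff.mpr fun t ht => ?_
      have h1 : m⁻¹ * t * m ∈ (T : Subgroup G) := (mem_normalizer_iff''.mp hm t).mp ht
      have h2 := mem_centralizer_iff.mp hc _ h1
      calc t * (m * c * m⁻¹) = m * ((m⁻¹ * t * m) * c) * m⁻¹ := by group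
        _ = m * (c * (m⁻¹ * t * m)) * m⁻¹ := by rw [h2]
        _ = m * c * m⁻¹ * t := by group
    refine sup_le ?_ ?_
    · rintro _ ⟨k, hk, rfl⟩
      exact (le_sup_left : K ≤ K ⊔ U) ((mem_normalizer_iff.mp (hKn hn) k).mp hk)
    · rw [← hgen]
      simp only [Subgroup.map_iSup]
      refine iSup₂_le fun a ha => ?_
      rintro _ ⟨u, hu, rfl⟩
      rw [hgen]
      have hna : n * a * n⁻¹ ∈ (T : Subgroup G) := (mem_normalizer_iff.mp hn a).mp ha.1
      refine hθW _ hna (fun e => ha.2 (conj_eq_one_iff.mp e)) (theta_conj h T hn ha.1 ha.2 ?_)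
      have : u ∈ (K : Set G) * ((U ⊓ centralizer ({a} : Set G) : Subgroup G) : Set G) :=
        ⟨1, one_mem _, u, hu, one_mul u⟩
      exact (Set.ext_iff.mp (theta_eq h T hev hU ha.1 ha.2) _).mpr this
  obtain ⟨M, hM, hNM, hWM⟩ : ∃ M : Subgroup G, IsCoatom M ∧ normalizer ((T : Subgroup G) : Set G) ≤ M ∧ W ≤ M := by
    by_cases hW1 : W = ⊥
    · obtain ⟨M, hM, hle⟩ := (eq_top_or_exists_le_coatom _).resolve_left (normalizer_two_ne_top h T hev)
      exact ⟨M, hM, hle, hW1 ▸ bot_le⟩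
    · obtain ⟨M, hM, hle⟩ := (eq_top_or_exists_le_coatom _).resolve_left (h.normalizer_ne_top hW1 hWodd)
      exact ⟨M, hM, hNW.trans hle, le_normalizer.trans hle⟩
  refine ⟨M, hM, hNM, fun a ha ha1 => ?_⟩
  refine (frattini_two h T (h.centralizer_ne_top ha1) (T_le_centralizer h T ha)).trans
    (sup_le ((hθW a ha ha1).trans hWM) (inf_le_right.trans hNM))

end

end Cfsg.Agent.Invol.AbP
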