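import Cfsg.Agent.Lib.Invol.AbPCaseA

/-!
# Even order: the points `G/M` with `M = N(T)`
-/

set_option autoImplicit false
set_option linter.style.haveILetI false
set_option maxHeartbeats 400000

namespace Cfsg.Agent.Invol.AbP

open Subgroup
open scoped Pointwise
open Cfsg.Agent Cfsg.Agent.Transfer

universe u

variable {p : ℕ} [hp : Fact p.Prime] {G : Type u} [Group G] [Finite G]

/-- The centraliser of the involutions fixing a point. -/
def pointCent (M : Subgroup G) (γ : G ⧸ M) : Subgroup G :=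
  centralizer {i : G | orderOf i = 2 ∧ i • γ = γ}

theorem pointCent_smul (M : Subgroup G) (g : G) (γ : G ⧸ M) {x : G} :
    x ∈ pointCent M (g • γ) ↔ g⁻¹ * x * g ∈ pointCent M γ := by
  constructor
  · intro hx
    refine mem_centralizer_iff.mpr fun i hi => ?_
    have h1 := mem_centralizer_iff.mp hx (g * i * g⁻¹)
      ⟨by rw [← hi.1]; exact orderOf_injective (MulAut.conj g).toMonoidHom (MulAut.conj g).injective i,
        by rw [← mul_smul, show g * i * g⁻¹ * g = g * i by group, mul_smul, hi.2]⟩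
    calc i * (g⁻¹ * x * g) = g⁻¹ * (g * i * g⁻¹ * x) * g := by group
      _ = g⁻¹ * (x * (g * i * g⁻¹)) * g := by rw [h1]
      _ = g⁻¹ * x * g * i := by group
  · intro hx
    refine mem_centralizer_iff.mpr fun i hi => ?_
    have h1 := mem_centralizer_iff.mp hx (g⁻¹ * i * g)
      ⟨by rw [← hi.1]; simpa using orderOf_injective (MulAut.conj g⁻¹).toMonoidHom (MulAut.conj g⁻¹).injective i,
        by rw [mul_smul, mul_smul, hi.2, inv_smul_smul]⟩
    calc i * x = g * (g⁻¹ * i * g * (g⁻¹ * x * g)) * g⁻¹ := by group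
      _ = g * (g⁻¹ * x * g * (g⁻¹ * i * g)) * g⁻¹ := by rw [h1]
      _ = x * i := by group

theorem mem_stab_smul {M : Subgroup G} (g : G) {x : G} :
    x ∈ MulAction.stabilizer G ((g : G) : G ⧸ M) ↔ g⁻¹ * x * g ∈ M := by
  rw [MulAction.mem_stabilizer_iff, MulAction.Quotient.smul_mk, QuotientGroup.eq]
  constructor
  · intro h
    have := inv_mem h
    simpa [mul_assoc] using this
  · intro h
    have := inv_mem h
    simpa [mul_assoc] using this

theorem smul_base {M : Subgroup G} (g : G) : g • ((1 : G) : G ⧸ M) = ((g : G) : G ⧸ M) := by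
  rw [MulAction.Quotient.smul_mk, smul_eq_mul, mul_one]

namespace Cfg

variable {T : Sylow 2 G} {M : Subgroup G} (c : Cfg p T M)
include c

theorem inv_in_T {t : G} (ht : t ∈ M) (ht2 : IsPGroup 2 ↥(zpowers t)) : t ∈ (T : Subgroup G) := by
  rw [c.M_eq] at ht
  have := T.is_maximal' (ht2.to_sup_of_normal_right' T.isPGroup' (zpowers_le.mpr ht)) le_sup_right
  exact this.le ((le_sup_left : zpowers t ≤ zpowers t ⊔ (T : Subgroup G)) (mem_zpowers t))

theorem cent_eq {u : G} (hu : u ∈ (T : Subgroup G)) (hu1 : u ≠ 1) :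
    centralizer ({u} : Set G) = centralizer ((T : Subgroup G) : Set G) := by
  rw [← c.automizer.2 u hu hu1, inf_eq_right.mpr]
  exact c.M_eq ▸ c.cent_le u hu hu1

theorem pointCent_base : pointCent M ((1 : G) : G ⧸ M) = centralizer ((T : Subgroup G) : Set G) := by
  refine le_antisymm (fun x hx => mem_centralizer_iff.mpr fun t ht => ?_) (centralizer_le fun i hi => ?_)
  · by_cases ht1 : t = 1
    · simp [ht1]
    refine mem_centralizer_iff.mp hx t ⟨c.orderOf_two ht ht1, ?_⟩
    rw [← MulAction.mem_stabilizer_iff, MulAction.stabilizer_quotient]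
    exact c.T_le ht
  · have h1 : i ∈ M := by rw [← MulAction.stabilizer_quotient M]; exact hi.2
    exact c.inv_in_T h1 (isPGroup_of_order_two hi.1)

theorem C_normal : M ≤ normalizer (centralizer ((T : Subgroup G) : Set G) : Set G) := by
  intro m hm
  rw [c.M_eq] at hm
  refine mem_normalizer_fintype fun x hx => mem_centralizer_iff.mpr fun t ht => ?_
  have h1 : m⁻¹ * t * m ∈ (T : Subgroup G) := (mem_normalizer_iff''.mp hm t).mp ht
  have h2 := mem_centralizer_iff.mp hx _ h1
  calc t * (m * x * m⁻¹) = m * ((m⁻¹ * t * m) * x) * m⁻¹ := by group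
    _ = m * (x * (m⁻¹ * t * m)) * m⁻¹ := by rw [h2]
    _ = m * x * m⁻¹ * t := by group

theorem idx_C : (centralizer ((T : Subgroup G) : Set G)).relIndex M = p := by
  rw [c.M_eq]; exact c.automizer.1

theorem commutator_mem_C {a b : G} (ha : a ∈ M) (hb : b ∈ M) :
    a * b * a⁻¹ * b⁻¹ ∈ centralizer ((T : Subgroup G) : Set G) := by
  set L := (centralizer ((T : Subgroup G) : Set G)).subgroupOf M with hL
  have : L.Normal := normal_subgroupOf_of_le_normalizer c.C_normal
  have : IsCyclic (↥M ⧸ L) := isCyclic_of_prime_card (p := p) c.idx_C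
  have h1 : QuotientGroup.mk' L (⟨a, ha⟩ * ⟨b, hb⟩ * ⟨a, ha⟩⁻¹ * ⟨b, hb⟩⁻¹) = 1 := by
    rw [map_mul, map_mul, map_mul, map_inv, map_inv,
      IsMulCommutative.is_comm.comm (QuotientGroup.mk' L ⟨a, ha⟩) (QuotientGroup.mk' L ⟨b, hb⟩)]
    group
  set w : ↥M := ⟨a, ha⟩ * ⟨b, hb⟩ * ⟨a, ha⟩⁻¹ * ⟨b, hb⟩⁻¹ with hw
  have h2 : w ∈ (QuotientGroup.mk' L).ker := h1
  rw [QuotientGroup.ker_mk', hL, mem_subgroupOf] at h2
  exact h2

theorem mem_C_of_coprime {x : G} (hx : x ∈ M) (hxp : (orderOf x).Coprime p) :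
    x ∈ centralizer ((T : Subgroup G) : Set G) := by
  set L := (centralizer ((T : Subgroup G) : Set G)).subgroupOf M with hL
  have : L.Normal := normal_subgroupOf_of_le_normalizer c.C_normal
  refine (QuotientGroup.eq_one_iff (⟨x, hx⟩ : ↥M)).mp (orderOf_eq_one_iff.mp (Nat.eq_one_of_dvd_coprimes hxp
    ((orderOf_map_dvd (QuotientGroup.mk' L) ⟨x, hx⟩).trans (by rw [Subgroup.orderOf_mk])) ?_))
  have e : Nat.card (↥M ⧸ L) = p := c.idx_C
  exact (_root_.orderOf_dvd_natCard _).trans (dvd_of_eq e)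

theorem C_cent_le {x : G} (hx : x ∈ centralizer ((T : Subgroup G) : Set G)) (hx1 : x ≠ 1) :
    centralizer ({x} : Set G) ≤ M :=
  c.le_M (c.min.centralizer_ne_top hx1) fun t ht =>
    mem_centralizer_singleton_iff.mpr (mem_centralizer_iff.mp hx t ht)

theorem C_inf_conj {g : G} (hg : g ∉ M) {x : G} (hx : x ∈ centralizer ((T : Subgroup G) : Set G))
    (hx' : g⁻¹ * x * g ∈ centralizer ((T : Subgroup G) : Set G)) : x = 1 := by
  by_contra hx1
  apply hg
  rw [c.M_eq]
  refine mem_normalizer_fintype fun t ht => ?_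
  have h1 : g * t * g⁻¹ ∈ centralizer ({x} : Set G) := by
    refine mem_centralizer_singleton_iff.mpr ?_
    have h2 := mem_centralizer_iff.mp hx' t ht
    calc g * t * g⁻¹ * x = g * (t * (g⁻¹ * x * g)) * g⁻¹ := by group
      _ = g * (g⁻¹ * x * g * t) * g⁻¹ := by rw [h2]
      _ = x * (g * t * g⁻¹) := by group
  by_cases ht1 : t = 1
  · simp [ht1]
  refine c.inv_in_T (c.C_cent_le hx hx1 h1) (isPGroup_of_order_two ?_)
  rw [← c.orderOf_two ht ht1]
  exact orderOf_injective (MulAut.conj g).toMonoidHom (MulAut.conj g).injective t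

/-! ### The point language -/

theorem pointCent_le (γ : G ⧸ M) : pointCent M γ ≤ MulAction.stabilizer G γ := by
  obtain ⟨g, rfl⟩ := QuotientGroup.mk_surjective γ
  intro x hx
  rw [← smul_base g, pointCent_smul, c.pointCent_base] at hx
  rw [mem_stab_smul]
  exact c.le_cent hx

theorem point_commutator {γ : G ⧸ M} {a b : G} (ha : a • γ = γ) (hb : b • γ = γ) :
    a * b * a⁻¹ * b⁻¹ ∈ pointCent M γ := by
  obtain ⟨g, rfl⟩ := QuotientGroup.mk_surjective γ
  rw [← MulAction.mem_stabilizer_iff, mem_stab_smul] at ha hb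
  rw [← smul_base g, pointCent_smul, c.pointCent_base]
  have := c.commutator_mem_C ha hb
  convert this using 1
  group

theorem pointCent_disjoint {γ δ : G ⧸ M} (hne : γ ≠ δ) {x : G} (hx : x ∈ pointCent M γ)
    (hx' : x ∈ pointCent M δ) : x = 1 := by
  obtain ⟨g, rfl⟩ := QuotientGroup.mk_surjective γ
  obtain ⟨h, rfl⟩ := QuotientGroup.mk_surjective δ
  rw [← smul_base g, pointCent_smul, c.pointCent_base] at hx
  rw [← smul_base h, pointCent_smul, c.pointCent_base] at hx'
  have hk : g⁻¹ * h ∉ M := fun hm => hne ((QuotientGroup.eq).mpr hm)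
  have := c.C_inf_conj hk hx (by
    rw [show (g⁻¹ * h)⁻¹ * (g⁻¹ * x * g) * (g⁻¹ * h) = h⁻¹ * x * h by group]; exact hx')
  have e : g * (g⁻¹ * x * g) * g⁻¹ = 1 := by rw [this]; group
  rw [← e]; group

theorem cent_involution {γ : G ⧸ M} {i : G} (hi : orderOf i = 2) (hiγ : i • γ = γ) :
    centralizer ({i} : Set G) = pointCent M γ := by
  refine le_antisymm (fun x hx => ?_) (centralizer_le (Set.singleton_subset_iff.mpr ⟨hi, hiγ⟩))
  obtain ⟨g, rfl⟩ := QuotientGroup.mk_surjective γ
  rw [← MulAction.mem_stabilizer_iff, mem_stab_smul] at hiγ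
  have hi' : orderOf (g⁻¹ * i * g) = 2 := by
    rw [← hi]; simpa using orderOf_injective (MulAut.conj g⁻¹).toMonoidHom (MulAut.conj g⁻¹).injective i
  have h1 : g⁻¹ * i * g ≠ 1 := fun e => by rw [e, orderOf_one] at hi'; omega
  rw [← smul_base g, pointCent_smul, c.pointCent_base,
    ← c.cent_eq (c.inv_in_T hiγ (isPGroup_of_order_two hi')) h1]
  refine mem_centralizer_singleton_iff.mpr ?_
  have := mem_centralizer_singleton_iff.mp hx
  calc g⁻¹ * x * g * (g⁻¹ * i * g) = g⁻¹ * (x * i) * g := by group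
    _ = g⁻¹ * (i * x) * g := by rw [this]
    _ = g⁻¹ * i * g * (g⁻¹ * x * g) := by group

theorem card_involutions : Nat.card {t : G // orderOf t = 2 ∧ t ∈ M} = p := by
  have e : Nat.card {t : G // orderOf t = 2 ∧ t ∈ M} = ((T : Subgroup G) : Set G).ncard - 1 := by
    rw [← Set.ncard_diff_singleton_of_mem (one_mem (T : Subgroup G))]
    rw [show ((T : Subgroup G) : Set G) \ {1} = {t : G | orderOf t = 2 ∧ t ∈ M} from ?_]
    · exact Nat.card_coe_set_eq _
    · ext t
      constructor
      · rintro ⟨ht, ht1⟩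
        exact ⟨c.orderOf_two ht ht1, c.T_le ht⟩
      · rintro ⟨ht2, htM⟩
        exact ⟨c.inv_in_T htM (isPGroup_of_order_two ht2), fun e => by
          rw [Set.mem_singleton_iff] at e; rw [e, orderOf_one] at ht2; omega⟩
  rw [e, show ((T : Subgroup G) : Set G).ncard = Nat.card ↥(T : Subgroup G) from rfl, c.elementary.2,
    Nat.add_sub_cancel]

theorem exists_swap_pair {γ δ : G ⧸ M} (hne : γ ≠ δ) : ∃ i : G, orderOf i = 2 ∧ i • γ = δ ∧ i • δ = γ := by
  have h1 := Invol.card_swap_eq c.stronglyEmbedded γ δ hne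
  rw [c.card_involutions] at h1
  have : Nonempty {i : G // orderOf i = 2 ∧ i • γ = δ} := by
    by_contra hc
    rw [not_nonempty_iff] at hc
    rw [Nat.card_eq_zero.mpr (Or.inl hc)] at h1
    exact hp.out.ne_zero h1.symm
  obtain ⟨⟨i, hi, hiγ⟩⟩ := this
  refine ⟨i, hi, hiγ, ?_⟩
  rw [← hiγ, smul_smul, ← pow_two, ← hi, pow_orderOf_eq_one, one_smul]

/-- The stabiliser of two points is a `p`-group of order at least `p` and at most `p^2`. -/
theorem pair_facts {γ δ : G ⧸ M} (hne : γ ≠ δ) :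
    IsPGroup p ↥(MulAction.stabilizer G γ ⊓ MulAction.stabilizer G δ) ∧
      p ≤ Nat.card ↥(MulAction.stabilizer G γ ⊓ MulAction.stabilizer G δ) ∧
      Nat.card ↥(MulAction.stabilizer G γ ⊓ MulAction.stabilizer G δ) ≤ p ^ 2 := by
  set D := MulAction.stabilizer G γ ⊓ MulAction.stabilizer G δ with hD
  refine ⟨?_, ?_, ?_⟩
  · rw [IsPGroup.iff_orderOf]
    rintro ⟨x, hx⟩
    rw [Subgroup.orderOf_mk]
    refine ⟨_, Nat.eq_prime_pow_of_unique_prime_dvd (p := p) (orderOf_pos x).ne' fun {r} hr hd => ?_⟩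
    by_contra hrp
    set y := x ^ (orderOf x / r) with hy
    have hyr : orderOf y = r := by
      rw [hy, orderOf_pow, Nat.gcd_eq_right (Nat.div_dvd_of_dvd hd), Nat.div_div_self hd (orderOf_pos x).ne']
    have hyD : y ∈ D := pow_mem hx _
    have key : ∀ ε : G ⧸ M, y ∈ MulAction.stabilizer G ε → y ∈ pointCent M ε := by
      intro ε hε
      obtain ⟨g, rfl⟩ := QuotientGroup.mk_surjective ε
      rw [mem_stab_smul] at hε
      rw [← smul_base g, pointCent_smul, c.pointCent_base]
      refine c.mem_C_of_coprime hε ?_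
      rw [show g⁻¹ * y * g = (MulAut.conj g⁻¹) y by simp,
        show orderOf ((MulAut.conj g⁻¹) y) = orderOf y from
          orderOf_injective (MulAut.conj g⁻¹).toMonoidHom (MulAut.conj g⁻¹).injective y, hyr]
      exact (Nat.coprime_primes hr hp.out).mpr hrp
    have := c.pointCent_disjoint hne (key γ hyD.1) (key δ hyD.2)
    rw [this, orderOf_one] at hyr
    exact hr.ne_one hyr.symm
  · -- two involutions swapping the points differ by an element of the stabiliser
    have h1 := Invol.card_swap_eq c.stronglyEmbedded γ δ hne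
    rw [c.card_involutions] at h1
    obtain ⟨i₀, hi₀, hiγ, hiδ⟩ := c.exists_swap_pair hne
    rw [← h1]
    refine Nat.card_le_card_of_injective
      (fun i : {i : G // orderOf i = 2 ∧ i • γ = δ} => (⟨i₀ * i.1, ?_⟩ : ↥D)) ?_
    · have hiδ' : i.1 • δ = γ := by
        calc i.1 • δ = i.1 • (i.1 • γ) := congrArg (i.1 • ·) i.2.2.symm
          _ = γ := by rw [smul_smul, ← pow_two, show i.1 ^ 2 = 1 from by
            have := pow_orderOf_eq_one i.1
            rwa [i.2.1] at this, one_smul]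
      refine ⟨MulAction.mem_stabilizer_iff.mpr ?_, MulAction.mem_stabilizer_iff.mpr ?_⟩
      · rw [mul_smul, i.2.2, hiδ]
      · rw [mul_smul, hiδ', hiγ]
    · intro i j e
      exact Subtype.ext (mul_left_cancel (congrArg Subtype.val e))
  · set C1 := pointCent M γ with hC1
    set C2 := pointCent M δ with hC2
    have hidx : ∀ ε : G ⧸ M, (pointCent M ε).relIndex (MulAction.stabilizer G ε) = p := by
      intro ε
      obtain ⟨g, rfl⟩ := QuotientGroup.mk_surjective ε
      have e1 : pointCent M ((g : G) : G ⧸ M) =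
          (centralizer ((T : Subgroup G) : Set G)).map (MulAut.conj g).toMonoidHom := by
        ext x
        rw [← smul_base g, pointCent_smul, c.pointCent_base, Subgroup.mem_map_equiv]
        simp [mul_assoc]
      have e2 : MulAction.stabilizer G ((g : G) : G ⧸ M) = M.map (MulAut.conj g).toMonoidHom := by
        ext x
        rw [mem_stab_smul, Subgroup.mem_map_equiv]
        simp [mul_assoc]
      rw [e1, e2, relIndex_map_map_of_injective _ _ (MulAut.conj g).injective, c.idx_C]
    have hbot : (D ⊓ C1) ⊓ C2 = ⊥ := eq_bot_iff.mpr fun x hx =>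
      mem_bot.mpr (c.pointCent_disjoint hne hx.1.2 hx.2)
    have e1 : Nat.card ↥(D ⊓ C1) * C1.relIndex D = Nat.card ↥D := Grp.relIndex_mul_card_inf D C1
    have e2 : Nat.card ↥((D ⊓ C1) ⊓ C2) * C2.relIndex (D ⊓ C1) = Nat.card ↥(D ⊓ C1) :=
      Grp.relIndex_mul_card_inf _ C2
    rw [hbot, card_bot, one_mul] at e2
    rw [← e1, ← e2, pow_two]
    refine Nat.mul_le_mul ?_ ?_
    · rw [← hidx δ]
      exact relIndex_le_of_le_right ((inf_le_left (b := C1)).trans inf_le_right) (by rw [hidx]; exact hp.out.ne_zero)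
    · rw [← hidx γ]
      exact relIndex_le_of_le_right inf_le_left (by rw [hidx]; exact hp.out.ne_zero)

end Cfg

end Cfsg.Agent.Invol.AbP
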