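import Cfsg.Agent.Lib.Invol.AbPLocal
import Cfsg.Agent.Lib.Transfer.Local.Sigma

/-!
# Even order: strong embedding and the shape of a Sylow 2-subgroup
-/

set_option autoImplicit false
set_option linter.style.haveILetI false
set_option maxHeartbeats 400000

namespace Cfsg.Agent.Invol.AbP

open Subgroup
open scoped Pointwise
open Cfsg.Agent Cfsg.Agent.Transfer

universe u

variable {p : ℕ} [hp : Fact p.Prime] {G : Type u} [Group G] [Finite G]

/-- The data of the even case. -/
structure Cfg (p : ℕ) (T : Sylow 2 G) (M : Subgroup G) : Prop where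
  min : Min p G
  even : 2 ∣ Nat.card G
  coatom : IsCoatom M
  norm_le : normalizer ((T : Subgroup G) : Set G) ≤ M
  cent_le : ∀ a ∈ (T : Subgroup G), a ≠ 1 → centralizer ({a} : Set G) ≤ M

theorem Cfg.exists_cfg (h : Min p G) (hev : 2 ∣ Nat.card G) :
    ∃ (T : Sylow 2 G) (M : Subgroup G), Cfg p T M := by
  obtain ⟨T⟩ : Nonempty (Sylow 2 G) := inferInstance
  obtain ⟨M, h1, h2, h3⟩ := exists_top_max h T hev
  exact ⟨T, M, h, hev, h1, h2, h3⟩

namespace Cfg

variable {T : Sylow 2 G} {M : Subgroup G} (c : Cfg p T M)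
include c

theorem T_le : (T : Subgroup G) ≤ M := le_normalizer.trans c.norm_le

theorem T_comm {a b : G} (ha : a ∈ (T : Subgroup G)) (hb : b ∈ (T : Subgroup G)) : a * b = b * a :=
  congrArg Subtype.val ((comm_two c.min T).is_comm.comm ⟨a, ha⟩ ⟨b, hb⟩)

/-- `M` contains every proper subgroup containing `T`. -/
theorem le_M {H : Subgroup G} (hH : H ≠ ⊤) (hTH : (T : Subgroup G) ≤ H) : H ≤ M := by
  refine (frattini_two c.min T hH hTH).trans (sup_le ?_ (inf_le_right.trans c.norm_le))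
  have := comm_two c.min T
  rw [← S0058.result (T : Subgroup G) (Loc.O' 2 H) (not_cyclic_two c.min T c.even)
    (hTH.trans (Loc.le_normalizer_core' H)) (two_coprime T (O'_odd H))]
  exact iSup₂_le fun a ha => inf_le_right.trans (c.cent_le a ha.1 ha.2)

omit c in
theorem involution_to_T {T : Sylow 2 G} {M : Subgroup G} (hTM : (T : Subgroup G) ≤ M) {t : G} (ht : t ∈ M)
    (h2 : IsPGroup 2 ↥(zpowers t)) : ∃ m ∈ M, m * t * m⁻¹ ∈ (T : Subgroup G) := by
  let TM : Sylow 2 ↥M := T.subtype hTM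
  have htp : IsPGroup 2 ↥(zpowers (⟨t, ht⟩ : ↥M)) := by
    obtain ⟨k, hk⟩ := IsPGroup.iff_card.mp h2
    exact IsPGroup.of_card (n := k) (by rw [Nat.card_zpowers, Subgroup.orderOf_mk, ← Nat.card_zpowers, hk])
  obtain ⟨Q, hQ⟩ := htp.exists_le_sylow
  obtain ⟨m, hm⟩ := MulAction.exists_smul_eq ↥M Q TM
  refine ⟨m, m.2, ?_⟩
  have h1 : m * ⟨t, ht⟩ * m⁻¹ ∈ (TM : Subgroup ↥M) := by
    rw [← hm]
    exact ⟨⟨t, ht⟩, hQ (mem_zpowers _), rfl⟩
  exact h1

omit c in
theorem isPGroup_of_order_two {t : G} (h : orderOf t = 2) : IsPGroup 2 ↥(zpowers t) :=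
  IsPGroup.of_card (n := 1) (by rw [Nat.card_zpowers, h, pow_one])

theorem stronglyEmbedded : Cfsg.IsStronglyEmbedded M := by
  have hTM := c.T_le
  have hev : Even (Nat.card ↥M) := even_iff_two_dvd.mpr
    ((T.dvd_card_of_dvd_card c.even).trans (card_dvd_of_le hTM))
  rw [Invol.isStronglyEmbedded_iff c.coatom.1 hev]
  intro t ht ht2 g hg
  obtain ⟨m, hm, hmT⟩ := involution_to_T hTM ht (isPGroup_of_order_two ht2)
  have hg2 : orderOf (g⁻¹ * t * g) = 2 := by
    rw [← ht2]; simpa using orderOf_injective (MulAut.conj g⁻¹).toMonoidHom (MulAut.conj g⁻¹).injective t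
  obtain ⟨n, hn, hnT⟩ := involution_to_T hTM hg (isPGroup_of_order_two hg2)
  set x := m * g * n⁻¹ with hx
  have hxs : x⁻¹ * (m * t * m⁻¹) * x = n * (g⁻¹ * t * g) * n⁻¹ := by rw [hx]; group
  have := comm_two c.min T
  obtain ⟨y, hy, e⟩ := T.conj_eq_normalizer_conj_of_mem (m * t * m⁻¹) x hmT (hxs ▸ hnT)
  have hs1 : m * t * m⁻¹ ≠ 1 := fun e1 => by
    rw [conj_eq_one_iff] at e1; rw [e1, orderOf_one] at ht2; omega
  have hxy : x * y⁻¹ ∈ centralizer ({m * t * m⁻¹} : Set G) := by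
    refine mem_centralizer_singleton_iff.mpr ?_
    calc x * y⁻¹ * (m * t * m⁻¹) = x * (y⁻¹ * (m * t * m⁻¹) * y) * y⁻¹ := by group
      _ = x * (x⁻¹ * (m * t * m⁻¹) * x) * y⁻¹ := by rw [e]
      _ = m * t * m⁻¹ * (x * y⁻¹) := by group
  have hxM : x ∈ M := by
    have := mul_mem (c.cent_le _ hmT hs1 hxy) (c.norm_le hy)
    rwa [inv_mul_cancel_right] at this
  have := mul_mem (mul_mem (inv_mem hm) hxM) hn
  rw [hx] at this
  simpa [mul_assoc] using this

theorem conj_in_normalizer {s r : G} (hs : s ∈ (T : Subgroup G)) (hr : r ∈ (T : Subgroup G))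
    (hs2 : orderOf s = 2) (hr2 : orderOf r = 2) :
    ∃ y ∈ normalizer ((T : Subgroup G) : Set G), y * s * y⁻¹ = r := by
  obtain ⟨g, hg⟩ := isConj_iff.mp (Invol.isConj_involutions c.stronglyEmbedded hs2 hr2)
  have := comm_two c.min T
  obtain ⟨y, hy, e⟩ := T.conj_eq_normalizer_conj_of_mem s g⁻¹ hs (by rw [inv_inv, hg]; exact hr)
  refine ⟨y⁻¹, inv_mem hy, ?_⟩
  rw [inv_inv, ← e, inv_inv, hg]

/-- Elements of the normaliser of `T` of order prime to `p` centralise it. -/
theorem centralizer_index_pow : ∃ b : ℕ,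
    (centralizer ((T : Subgroup G) : Set G)).relIndex (normalizer ((T : Subgroup G) : Set G)) = p ^ b := by
  refine ⟨_, Nat.eq_prime_pow_of_unique_prime_dvd (p := p) ?_ fun {r} hr hd => ?_⟩
  · exact fun e => Nat.card_pos.ne' (Nat.eq_zero_of_zero_dvd (e ▸ relIndex_dvd_card
      (centralizer ((T : Subgroup G) : Set G)) (normalizer ((T : Subgroup G) : Set G))))
  by_contra hrp
  have := Fact.mk hr
  obtain ⟨R, hR⟩ := Grp.exists_isSylowIn r (normalizer ((T : Subgroup G) : Set G))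
  refine hR.2.2 (hd.trans (relIndex_dvd_of_le_left _ ?_))
  intro x hx
  have hco : (Nat.card ↥(zpowers x)).Coprime p := by
    obtain ⟨k, hk⟩ := IsPGroup.iff_orderOf.mp hR.2.1 ⟨x, hx⟩
    rw [Subgroup.orderOf_mk] at hk
    rw [Nat.card_zpowers, hk]
    exact ((Nat.coprime_primes hr hp.out).mpr hrp).pow_left k
  have hxN : zpowers x ≤ normalizer ((T : Subgroup G) : Set G) := zpowers_le.mpr (hR.1 hx)
  exact c.min.good.le_centralizer
    (Grp.card_sup_coprime_to hxN hco (Min.coprime_q c.min.p_ne_two T.isPGroup'))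
    le_sup_left le_sup_right (mem_zpowers x)

omit c hp in
theorem pow_mersenne {p b m : ℕ} (hp5 : 5 ≤ p) (hodd : p % 2 = 1) (hm : 2 ≤ m) (h : p ^ b + 1 = 2 ^ m) :
    b = 1 := by
  have h4 : 4 ∣ p ^ b + 1 := h ▸ pow_dvd_pow 2 hm
  rcases Nat.even_or_odd b with ⟨c, rfl⟩ | ⟨c, rfl⟩
  · exfalso
    have hsq : p ^ (c + c) % 4 = 1 := by
      rw [← two_mul, pow_mul, Nat.pow_mod]
      have : p ^ 2 % 4 = 1 := by
        rw [Nat.pow_mod]
        have h1 : p % 4 = 1 ∨ p % 4 = 3 := by omega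
        rcases h1 with h1 | h1 <;> rw [h1]
      rw [this, one_pow]
      rfl
    omega
  · obtain ⟨t, ht⟩ : ∃ t, p ^ (2 * c) = 1 + (p + 1) * (2 * t) := by
      clear h h4
      induction c with
      | zero => exact ⟨0, by simp⟩
      | succ c ih =>
        obtain ⟨t, ht⟩ := ih
        obtain ⟨u, hu⟩ : ∃ u, p ^ 2 = 1 + (p + 1) * (2 * u) := by
          refine ⟨(p - 1) / 2, ?_⟩
          rw [show 2 * ((p - 1) / 2) = p - 1 by omega, pow_two]
          obtain ⟨k, rfl⟩ : ∃ k, p = k + 1 := ⟨p - 1, by omega⟩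
          simp only [Nat.add_sub_cancel]
          ring
        refine ⟨t + u + (p + 1) * (2 * t) * u, ?_⟩
        rw [show 2 * (c + 1) = 2 * c + 2 by ring, pow_add, ht, hu]
        ring
    have he : p ^ (2 * c + 1) + 1 = (p + 1) * (1 + p * (2 * t)) := by
      rw [pow_succ, ht]; ring
    obtain ⟨j, hj, hje⟩ := (Nat.dvd_prime_pow Nat.prime_two).mp
      (show 1 + p * (2 * t) ∣ 2 ^ m from h ▸ he ▸ dvd_mul_left _ _)
    have hj0 : j = 0 := by
      by_contra hne
      have h2 : 2 ∣ 1 + p * (2 * t) := hje ▸ dvd_pow_self 2 hne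
      have h3 : 2 ∣ p * (2 * t) := (Dvd.intro t rfl).mul_left p
      omega
    rw [hje, hj0, pow_zero, mul_one] at he
    have h5 : p ^ (2 * c + 1) = p ^ 1 := by rw [pow_one]; omega
    exact Nat.pow_right_injective (by omega : 2 ≤ p) h5

/-- `T` is elementary of order `p + 1`. -/
theorem elementary : (∀ a ∈ (T : Subgroup G), a * a = 1) ∧ Nat.card ↥(T : Subgroup G) = p + 1 := by
  classical
  set N := normalizer ((T : Subgroup G) : Set G) with hN
  let Ω : Subgroup G :=
    { carrier := {a | a ∈ (T : Subgroup G) ∧ a * a = 1}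
      one_mem' := ⟨one_mem _, one_mul 1⟩
      mul_mem' := fun {a b} ha hb => ⟨mul_mem ha.1 hb.1, by
        have e := c.T_comm ha.1 hb.1
        calc a * b * (a * b) = a * (b * a) * b := by group
          _ = (a * a) * (b * b) := by rw [← e]; group
          _ = 1 := by rw [ha.2, hb.2, mul_one]⟩
      inv_mem' := fun {a} ha => ⟨inv_mem ha.1, by rw [← mul_inv_rev, ha.2, inv_one]⟩ }
  have hΩT : Ω ≤ (T : Subgroup G) := fun a ha => ha.1
  obtain ⟨m, hm⟩ := IsPGroup.iff_card.mp (T.isPGroup'.to_le hΩT)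
  have hm3 : 3 ≤ m := by
    by_contra hlt
    refine c.min.not_rank_two c.even c.min.p_ne_two T fun A _ hA => ?_
    have hle : A.map (T : Subgroup G).subtype ≤ Ω := by
      rintro _ ⟨a, ha, rfl⟩
      exact ⟨a.2, by rw [← pow_two]; exact congrArg Subtype.val (hA a ha)⟩
    rw [← card_map_of_injective (T : Subgroup G).subtype_injective]
    exact (card_le_of_le hle).trans (hm ▸ Nat.pow_le_pow_right two_pos (by omega))
  have hord : ∀ a ∈ Ω, a ≠ 1 → orderOf a = 2 := fun a ha ha1 =>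
    orderOf_eq_prime (by rw [pow_two]; exact ha.2) ha1
  have : Nontrivial ↥Ω := by
    rw [← Finite.one_lt_card_iff_nontrivial, hm]
    exact Nat.one_lt_pow (by omega) one_lt_two
  obtain ⟨a, ha, ha1⟩ := (nontrivial_iff_exists_ne_one Ω).mp this
  letI : MulAction ↥N G :=
    { smul := fun n x => (n : G) * x * (n : G)⁻¹
      one_smul := fun x => by show (1 : G) * x * 1⁻¹ = x; group
      mul_smul := fun n n' x => by
        show (n * n' : G) * x * (n * n' : G)⁻¹ = n * (n' * x * (n' : G)⁻¹) * (n : G)⁻¹; group }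
  have horb : MulAction.orbit ↥N a = (Ω : Set G) \ {1} := by
    ext x
    constructor
    · rintro ⟨n, rfl⟩
      refine ⟨⟨(mem_normalizer_iff.mp n.2 a).mp ha.1, ?_⟩, fun e => ha1 (conj_eq_one_iff.mp e)⟩
      show (n : G) * a * (n : G)⁻¹ * ((n : G) * a * (n : G)⁻¹) = 1
      calc (n : G) * a * (n : G)⁻¹ * ((n : G) * a * (n : G)⁻¹) = n * (a * a) * (n : G)⁻¹ := by group
        _ = 1 := by rw [ha.2]; group
    · rintro ⟨hx, hx1⟩
      obtain ⟨y, hy, e⟩ := c.conj_in_normalizer ha.1 hx.1 (hord a ha ha1) (hord x hx hx1)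
      exact ⟨⟨y, hy⟩, e⟩
  have hcard : Nat.card (MulAction.orbit ↥N a) = 2 ^ m - 1 := by
    rw [Nat.card_coe_set_eq, horb, Set.ncard_diff_singleton_of_mem (one_mem Ω)]
    rw [show (Ω : Set G).ncard = Nat.card ↥Ω from rfl, hm]
  have hidx : (MulAction.stabilizer ↥N a).index = 2 ^ m - 1 := by
    rw [MulAction.index_stabilizer, ← Nat.card_coe_set_eq, hcard]
  obtain ⟨b, hb⟩ := c.centralizer_index_pow
  have hdvd : (MulAction.stabilizer ↥N a).index ∣ p ^ b := by
    rw [← hb]
    refine index_dvd_of_le fun n hn => ?_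
    show (n : G) * a * (n : G)⁻¹ = a
    have e : a * (n : G) = (n : G) * a := mem_centralizer_iff.mp hn a ha.1
    rw [← e, mul_inv_cancel_right]
  obtain ⟨i, -, hi⟩ := (Nat.dvd_prime_pow hp.out).mp (hidx ▸ hdvd)
  have h8 : 8 ∣ 2 ^ m := pow_dvd_pow 2 hm3
  have hpi : p ^ i + 1 = 2 ^ m := by have := Nat.one_le_two_pow (n := m); omega
  obtain rfl := pow_mersenne c.min.five ((hp.out.eq_two_or_odd).resolve_left (Ne.symm c.min.p_ne_two))
    (by omega) hpi
  rw [pow_one] at hpi
  have hel : ∀ x ∈ (T : Subgroup G), x * x = 1 := by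
    intro x hx
    obtain ⟨k, hk⟩ := IsPGroup.iff_orderOf.mp T.isPGroup' ⟨x, hx⟩
    rw [Subgroup.orderOf_mk] at hk
    have h1 : x ^ (p - 1) = 1 := (c.min.good _ (Min.coprime_q c.min.p_ne_two T.isPGroup')).2 x hx
    have h2 := orderOf_dvd_of_pow_eq_one h1
    rw [hk] at h2
    have hk1 : k ≤ 1 := by
      by_contra hk2
      have h4 : 4 ∣ p - 1 := (pow_dvd_pow 2 (show 2 ≤ k by omega)).trans h2
      have := c.min.five
      omega
    rw [← pow_two]
    exact orderOf_dvd_iff_pow_eq_one.mp (hk ▸ (by simpa using pow_dvd_pow 2 hk1))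
  refine ⟨hel, ?_⟩
  rw [show (T : Subgroup G) = Ω from le_antisymm (fun x hx => ⟨hx, hel x hx⟩) hΩT, hm, hpi]

theorem orderOf_two {a : G} (ha : a ∈ (T : Subgroup G)) (ha1 : a ≠ 1) : orderOf a = 2 :=
  orderOf_eq_prime (by rw [pow_two]; exact c.elementary.1 a ha) ha1

/-- `N(T)/C(T)` has order `p` and acts regularly on the involutions of `T`. -/
theorem automizer : (centralizer ((T : Subgroup G) : Set G)).relIndex (normalizer ((T : Subgroup G) : Set G)) = p ∧
    ∀ a ∈ (T : Subgroup G), a ≠ 1 → normalizer ((T : Subgroup G) : Set G) ⊓ centralizer ({a} : Set G) =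
      centralizer ((T : Subgroup G) : Set G) := by
  classical
  set N := normalizer ((T : Subgroup G) : Set G) with hN
  set C := centralizer ((T : Subgroup G) : Set G) with hC
  letI : MulAction ↥N {x : G // x ∈ (T : Subgroup G) ∧ x ≠ 1} :=
    { smul := fun n x => ⟨(n : G) * x * (n : G)⁻¹, (mem_normalizer_iff.mp n.2 x).mp x.2.1,
        fun e => x.2.2 (conj_eq_one_iff.mp e)⟩
      one_smul := fun x => Subtype.ext (by show (1 : G) * x * 1⁻¹ = x; group)
      mul_smul := fun n n' x => Subtype.ext (by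
        show (n * n' : G) * x * (n * n' : G)⁻¹ = n * (n' * x * (n' : G)⁻¹) * (n : G)⁻¹; group) }
  set φ := MulAction.toPermHom ↥N {x : G // x ∈ (T : Subgroup G) ∧ x ≠ 1} with hφ
  have hker : φ.ker = C.subgroupOf N := by
    ext n
    rw [MonoidHom.mem_ker, mem_subgroupOf, hC, mem_centralizer_iff]
    constructor
    · intro hn t ht
      by_cases ht1 : t = 1
      · simp [ht1]
      have := congrArg Subtype.val (Equiv.Perm.ext_iff.mp hn ⟨t, ht, ht1⟩)
      exact (mul_inv_eq_iff_eq_mul.mp this).symm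
    · intro hn
      ext x
      show (n : G) * x * (n : G)⁻¹ = x
      rw [← hn x x.2.1, mul_inv_cancel_right]
  have hpts : Nat.card {x : G // x ∈ (T : Subgroup G) ∧ x ≠ 1} = p := by
    have e : Nat.card {x : G // x ∈ (T : Subgroup G) ∧ x ≠ 1} = ((T : Subgroup G) : Set G).ncard - 1 := by
      rw [← Set.ncard_diff_singleton_of_mem (one_mem (T : Subgroup G))]
      exact Nat.card_coe_set_eq {x : G | x ∈ (T : Subgroup G) ∧ x ≠ 1}
    rw [e, show ((T : Subgroup G) : Set G).ncard = Nat.card ↥(T : Subgroup G) from rfl, c.elementary.2,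
      Nat.add_sub_cancel]
  obtain ⟨b, hb⟩ := c.centralizer_index_pow
  have hb' : Nat.card φ.range = p ^ b := by rw [← index_ker, hker, ← hb]; rfl
  have : MulAction.IsPretransitive ↥N {x : G // x ∈ (T : Subgroup G) ∧ x ≠ 1} := ⟨fun x y => by
    obtain ⟨z, hz, e⟩ := c.conj_in_normalizer x.2.1 y.2.1 (c.orderOf_two x.2.1 x.2.2) (c.orderOf_two y.2.1 y.2.2)
    exact ⟨⟨z, hz⟩, Subtype.ext e⟩⟩
  have hstab : ∀ x : {x : G // x ∈ (T : Subgroup G) ∧ x ≠ 1},
      (MulAction.stabilizer ↥N x).index = p := fun x => by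
    rw [MulAction.index_stabilizer_of_transitive, hpts]
  have hle : ∀ x : {x : G // x ∈ (T : Subgroup G) ∧ x ≠ 1}, C.subgroupOf N ≤ MulAction.stabilizer ↥N x :=
    fun x => hker ▸ fun n hn => by
      rw [MonoidHom.mem_ker] at hn
      exact Equiv.Perm.ext_iff.mp hn x
  have : Nontrivial ↥(T : Subgroup G) := by
    rw [← Finite.one_lt_card_iff_nontrivial, c.elementary.2]; have := c.min.five; omega
  obtain ⟨a₀, ha₀, ha₀1⟩ := (nontrivial_iff_exists_ne_one (T : Subgroup G)).mp this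
  have hCN : (C.subgroupOf N).index = p := by
    have hb0 : b ≠ 0 := by
      intro e
      have h1 := index_dvd_of_le (hle ⟨a₀, ha₀, ha₀1⟩)
      rw [hstab, show (C.subgroupOf N).index = p ^ b from hb, e, pow_zero, Nat.dvd_one] at h1
      exact hp.out.ne_one h1
    have hb1 : b ≤ 1 := by
      by_contra hlt
      have h1 : p ^ b ∣ p.factorial := by
        rw [← hb', ← hpts, ← Nat.card_perm]
        exact card_subgroup_dvd_card _
      have h2 : p * p ∣ p.factorial := by
        rw [← pow_two]; exact (pow_dvd_pow p (show 2 ≤ b by omega)).trans h1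
      have h5 := c.min.five
      rw [show p = (p - 1) + 1 by omega, Nat.factorial_succ] at h2
      rw [show (p - 1) + 1 = p by omega] at h2
      have := (hp.out.dvd_factorial).mp (Nat.dvd_of_mul_dvd_mul_left (by omega) h2)
      omega
    rw [show (C.subgroupOf N).index = p ^ b from hb, show b = 1 by omega, pow_one]
  refine ⟨hCN, fun a ha ha1 => ?_⟩
  have heq : MulAction.stabilizer ↥N (⟨a, ha, ha1⟩ : {x : G // x ∈ (T : Subgroup G) ∧ x ≠ 1}) =
      C.subgroupOf N := by
    refine (eq_of_le_of_card_ge (hle _) ?_).symm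
    have e1 := (MulAction.stabilizer ↥N (⟨a, ha, ha1⟩ : {x : G // x ∈ (T : Subgroup G) ∧ x ≠ 1})).card_mul_index
    have e2 := (C.subgroupOf N).card_mul_index
    rw [hstab] at e1
    rw [hCN] at e2
    exact le_of_eq (Nat.eq_of_mul_eq_mul_right hp.out.pos (e1.trans e2.symm))
  apply le_antisymm
  · rintro n ⟨hn, hna⟩
    have : (⟨n, hn⟩ : ↥N) ∈ C.subgroupOf N := by
      rw [← heq, MulAction.mem_stabilizer_iff]
      refine Subtype.ext ?_
      show n * a * n⁻¹ = a
      rw [mem_centralizer_singleton_iff.mp hna, mul_inv_cancel_right]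
    exact this
  · exact le_inf (centralizer_le_normalizer _) (centralizer_le (Set.singleton_subset_iff.mpr ha))

end Cfg

end Cfsg.Agent.Invol.AbP
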