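import Mathlib
import Cfsg.Prelude.Def_ClassificationK
import Cfsg.Prelude.Def_Local
import Cfsg.Agent.Lib.Invol.Critical
import Cfsg.Agent.Lib.Grp.CoprimeAbelian
import Cfsg.Agent.Lib.Grp.Signalizer
import Cfsg.Agent.Lib.Grp.OmegaFixed
import Cfsg.Agent.Lib.Grp.Components
import Cfsg.Agent.Lib.Fus.CaminaPairBasic

/-!
# Two-groups normalised by an elementary abelian group of largest 2-local rank
-/

set_option autoImplicit false
set_option linter.style.haveILetI false
set_option linter.unusedSectionVars false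

open scoped commutatorElement

namespace Cfsg.Agent.Invol.SympRank

open Subgroup

universe u

variable {G : Type u} [Group G] [Finite G] {p : ℕ} [hp : Fact p.Prime]

/-- Adjoining a commuting element of order `p`. -/
theorem exists_extend {X : Subgroup G} (hX : Cfsg.IsElementaryAbelian p X) {x : G}
    (hxX : ∀ a ∈ X, a * x = x * a) (hx : x ^ p = 1) (hnot : x ∉ X) :
    ∃ E : Subgroup G, Cfsg.IsElementaryAbelian p E ∧ X ≤ E ∧ x ∈ E ∧ p * Nat.card X ≤ Nat.card E ∧
      ∀ K : Subgroup G, X ≤ K → x ∈ K → E ≤ K := by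
  have hXc : ∀ a ∈ X, ∀ b ∈ X, a * b = b * a := Grp.elemAb_comm hX
  have hcomm : ∀ a ∈ insert x (X : Set G), ∀ b ∈ insert x (X : Set G), a * b = b * a := by
    rintro a (rfl | ha) b (rfl | hb)
    · rfl
    · exact (hxX b hb).symm
    · exact hxX a ha
    · exact hXc a ha b hb
  obtain ⟨E, hE⟩ : ∃ E, E = closure (insert x (X : Set G)) := ⟨_, rfl⟩
  have hEc : IsMulCommutative E := hE ▸ Subgroup.isMulCommutative_closure hcomm
  have hXE : X ≤ E := fun a ha => hE ▸ subset_closure (Set.mem_insert_of_mem _ ha)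
  have hxE : x ∈ E := hE ▸ subset_closure (Set.mem_insert _ _)
  have hEexp : ∀ a ∈ E, a ^ p = 1 := by
    intro a ha
    rw [hE] at ha
    induction ha using closure_induction with
    | mem y hy => rcases hy with rfl | hy; exacts [hx, hX.2 y hy]
    | one => exact one_pow p
    | mul y z hy hz ihy ihz =>
      have hc : Commute y z := congrArg Subtype.val
        (hEc.is_comm.comm (⟨y, hE ▸ hy⟩ : E) ⟨z, hE ▸ hz⟩)
      rw [hc.mul_pow, ihy, ihz, one_mul]
    | inv y _ ihy => rw [inv_pow, ihy, inv_one]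
  refine ⟨E, ⟨hEc, hEexp⟩, hXE, hxE, ?_, fun K h1 h2 => hE ▸ (closure_le K).mpr
    (Set.insert_subset_iff.mpr ⟨h2, h1⟩)⟩
  have h := Grp.card_mul_relIndex hXE
  have hne : X.relIndex E ≠ 1 := fun e => hnot (relIndex_eq_one.mp e hxE)
  obtain ⟨k, hk⟩ := (Grp.elemAb_isPGroup ⟨hEc, hEexp⟩).index (X.subgroupOf E)
  change X.relIndex E = p ^ k at hk
  rw [← h, mul_comm p]
  refine Nat.mul_le_mul_left _ ?_
  rw [hk]
  refine Nat.le_self_pow ?_ p
  rintro rfl
  exact hne (by simpa using hk)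

/-- The bound on the rank of 2-local subgroups applied to the centraliser of an involution. -/
theorem rank_bound {n : ℕ} (hmax : Cfsg.TwoLocalPRankLE p n G) {h : G} (hh : h * h = 1) (hh1 : h ≠ 1)
    {E : Subgroup G} (hE : Cfsg.IsElementaryAbelian p E) (hEh : E ≤ centralizer ({h} : Set G)) :
    Nat.card E ≤ p ^ n := by
  obtain ⟨H, hH⟩ : ∃ H, H = normalizer ((zpowers h : Subgroup G) : Set G) := ⟨_, rfl⟩
  have hT : IsPGroup 2 (zpowers h) := by
    refine IsPGroup.iff_card.mpr ⟨1, ?_⟩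
    rw [Nat.card_zpowers, pow_one]
    exact orderOf_eq_prime (by rw [pow_two, hh]) hh1
  have hEH : E ≤ H := by
    refine hEh.trans ?_
    rw [hH, Grp.centralizer_singleton_eq_zpowers]
    exact centralizer_le_normalizer _
  have h1 := hmax H ⟨zpowers h, hT, zpowers_ne_bot.mpr hh1, hH⟩ (E.subgroupOf H)
    ⟨⟨fun a b => Subtype.ext (Subtype.ext (Grp.elemAb_comm hE _ a.2 _ b.2))⟩⟩
    (fun a ha => Subtype.ext (by simpa using hE.2 _ ha))
  rwa [Nat.card_congr (subgroupOfEquivOfLe hEH).toEquiv] at h1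

/-- A subgroup of exponent `p` and class at most two detecting automorphisms of order prime to `p`. -/
theorem exists_detect (hp2 : p ≠ 2) (R : Subgroup G) (hR : IsPGroup p R) :
    ∃ D : Subgroup G, D ≤ R ∧ normalizer (R : Set G) ≤ normalizer (D : Set G) ∧ (∀ x ∈ D, x ^ p = 1) ∧
      (∀ x ∈ D, ∀ y ∈ D, ∀ z ∈ D, z * ⁅x, y⁆ = ⁅x, y⁆ * z) ∧
      ∀ g ∈ normalizer (R : Set G), (orderOf g).Coprime p → (∀ x ∈ D, g * x = x * g) →
        ∀ x ∈ R, g * x = x * g := by
  obtain ⟨H, hHc, hH1, -, hH3⟩ := Invol.exists_critical hR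
  haveI := hHc
  have hz : ∀ x ∈ H, ∀ y ∈ H, ∀ z ∈ H, z * ⁅x, y⁆ = ⁅x, y⁆ * z := fun x hx y _ z hz' =>
    mem_centralizer_iff.mp (hH1 (commutator_mem_commutator hx (mem_top y))).2 z hz'
  have hmul : ∀ x y : ↥R, x ∈ H → y ∈ H → x ^ p = 1 → y ^ p = 1 → (x * y) ^ p = 1 := by
    intro x y hx hy hxp hyp
    obtain ⟨z, hzd⟩ : ∃ z, z = y * x * y⁻¹ * x⁻¹ := ⟨_, rfl⟩
    have hzu : Commute z x := by
      have := hz y hy x hx x hx; rw [commutatorElement_def, ← hzd] at this; exact this.symm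
    have hzv : Commute z y := by
      have := hz y hy x hx y hy; rw [commutatorElement_def, ← hzd] at this; exact this.symm
    have hzp : z ^ p = 1 := by
      have h2 : (y * x * y⁻¹) ^ p = 1 := by rw [conj_pow, hxp, mul_one, mul_inv_cancel]
      have hc : Commute (y * x * y⁻¹) x⁻¹ := by
        have e : y * x * y⁻¹ = z * x := by rw [hzd]; group
        rw [e]
        exact ((hzu.mul_left (Commute.refl x))).inv_right
      rw [hzd, hc.mul_pow, h2, inv_pow, hxp, inv_one, one_mul]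
    rw [Grp.OmegaFix.mul_pow_central x y z hzd hzu hzv p, hxp, hyp, one_mul, one_mul]
    obtain ⟨c, hc⟩ : p ∣ p.choose 2 :=
      hp.out.dvd_choose_self (by norm_num) (lt_of_le_of_ne hp.out.two_le (Ne.symm hp2))
    rw [hc, pow_mul, hzp, one_pow]
  let D0 : Subgroup ↥R :=
    { carrier := {x | x ∈ H ∧ x ^ p = 1}
      mul_mem' := fun {x y} hx hy => ⟨mul_mem hx.1 hy.1, hmul x y hx.1 hy.1 hx.2 hy.2⟩
      one_mem' := ⟨one_mem _, one_pow p⟩
      inv_mem' := fun {x} hx => ⟨inv_mem hx.1, by rw [inv_pow, hx.2, inv_one]⟩ }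
  have hconj : ∀ g ∈ normalizer (R : Set G), ∀ x : ↥R, x ∈ H →
      ∃ y : ↥R, y ∈ H ∧ (y : G) = g * x * g⁻¹ := by
    intro g hg x hx
    let φ : MulAut ↥R := R.normalizerMonoidHom ⟨g, hg⟩
    exact ⟨φ x, by
      rw [← Subgroup.Characteristic.fixed (H := H) inferInstance φ] at hx; exact hx, rfl⟩
  refine ⟨D0.map R.subtype, map_subtype_le _, ?_, ?_, ?_, ?_⟩
  · intro g hg
    refine mem_normalizer_fintype ?_
    rintro _ ⟨x, hx, rfl⟩
    obtain ⟨y, hy, e⟩ := hconj g hg x hx.1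
    refine ⟨y, ⟨hy, ?_⟩, e⟩
    refine Subtype.ext ?_
    have : (x : G) ^ p = 1 := by simpa using congrArg Subtype.val hx.2
    rw [SubmonoidClass.coe_pow, e, conj_pow, this, mul_one, mul_inv_cancel]; rfl
  · rintro _ ⟨x, hx, rfl⟩
    simpa using congrArg Subtype.val hx.2
  · rintro _ ⟨x, hx, rfl⟩ _ ⟨y, hy, rfl⟩ _ ⟨z, hz', rfl⟩
    have h1 := congrArg R.subtype (hz x hx.1 y hy.1 z hz'.1)
    simp only [map_mul, map_commutatorElement] at h1
    exact h1
  · intro g hg hord hfix x hx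
    let φ : MulAut ↥R := R.normalizerMonoidHom ⟨g, hg⟩
    have hφord : (orderOf φ).Coprime p := by
      refine hord.coprime_dvd_left ?_
      rw [← Subgroup.orderOf_mk g hg]
      exact orderOf_map_dvd R.normalizerMonoidHom ⟨g, hg⟩
    have hφH : φ = 1 := by
      refine Invol.aut_eq_one_of_fixed hR hH3 hφord ?_
      have hHinv : H.map φ.toMonoidHom = H := Subgroup.characteristic_iff_map_eq.mp hHc φ
      let ψ : ↥H ≃* ↥H := (φ.subgroupMap H).trans (MulEquiv.subgroupCongr hHinv)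
      have hψ : ∀ z : ↥H, ((ψ z : ↥H) : ↥R) = φ z := fun z => rfl
      have hit : ∀ (i : ℕ) (z : ↥H), (((⇑ψ)^[i] z : ↥H) : ↥R) = (φ ^ i) z := by
        intro i
        induction i with
        | zero => intro z; rfl
        | succ i ih => intro z; rw [Function.iterate_succ_apply', hψ, ih, pow_succ', MulAut.mul_apply]
      have h2 := Grp.OmegaFix.aut_eq_one hp2 _ ↥H rfl (hR.to_subgroup H) ψ (orderOf φ) hφord
        (fun z => Subtype.ext (by rw [hit, pow_orderOf_eq_one]; rfl))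
        (fun z hz0 => by
          refine Subtype.ext (Subtype.ext ?_)
          rw [hψ]
          show g * ((z : ↥R) : G) * g⁻¹ = ((z : ↥R) : G)
          have hzD : ((z : ↥R) : G) ∈ D0.map R.subtype :=
            ⟨z, ⟨z.2, by simpa using congrArg Subtype.val hz0⟩, rfl⟩
          rw [hfix _ hzD, mul_inv_cancel_right])
      intro z hz0
      exact (hψ ⟨z, hz0⟩).symm.trans (congrArg Subtype.val (h2 ⟨z, hz0⟩))
    have h3 : g * x * g⁻¹ = x := congrArg (fun a : MulAut ↥R => ((a ⟨x, hx⟩ : ↥R) : G)) hφH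
    exact mul_inv_eq_iff_eq_mul.mp h3

omit [Finite G] hp in
/-- Involutions commute with what they commute with. -/
theorem conj_involution {w x : G} (hw : w * w = 1) : w * (x⁻¹ * (w * x * w)) * w = (x⁻¹ * (w * x * w))⁻¹ := by
  have h : w⁻¹ = w := inv_eq_of_mul_eq_one_right hw
  simp only [mul_inv_rev, h, inv_inv, mul_assoc]
  rw [hw, mul_one]

/-- The set-up for a hyperplane: an element inverted outside it and centralised inside. -/
theorem exists_inverted (hp2 : p ≠ 2) {W H D : Subgroup G} (hW : Cfsg.IsElementaryAbelian 2 W) (hH : H ≤ W)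
    (hi : H.relIndex W = 2) (hWD : W ≤ normalizer (D : Set G)) (hDexp : ∀ x ∈ D, x ^ p = 1)
    (hbad : ¬ D ⊓ centralizer (H : Set G) ≤ centralizer (W : Set G)) :
    ∃ y ∈ D, y ^ p = 1 ∧ y ≠ 1 ∧ y⁻¹ ≠ y ∧ (∀ h ∈ H, h * y = y * h) ∧
      ∀ w ∈ W, w ∉ H → w * y * w = y⁻¹ := by
  obtain ⟨x, hx, hxW⟩ := SetLike.not_le_iff_exists.mp hbad
  rw [mem_centralizer_iff] at hxW
  push Not at hxW
  obtain ⟨w, hw, hne⟩ := hxW
  have hsq : ∀ a ∈ W, a * a = 1 := fun a ha => by simpa [pow_two] using hW.2 a ha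
  have hc := Grp.elemAb_comm hW
  have hxc : ∀ h ∈ H, h * x = x * h := fun h hh => mem_centralizer_iff.mp hx.2 h hh
  have hwH : w ∉ H := fun h => hne (hxc w h)
  have hwi : w⁻¹ = w := inv_eq_of_mul_eq_one_right (hsq w hw)
  obtain ⟨y, hy⟩ : ∃ y, y = x⁻¹ * (w * x * w) := ⟨_, rfl⟩
  have hyD : y ∈ D := by
    rw [hy]
    refine mul_mem (inv_mem hx.1) ?_
    have := (mem_normalizer_iff.mp (hWD hw) x).mp hx.1
    rwa [hwi] at this
  have hy1 : y ≠ 1 := by
    intro e
    rw [hy, inv_mul_eq_one] at e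
    apply hne
    calc w * x = w * x * (w * w) := by rw [hsq w hw, mul_one]
      _ = (w * x * w) * w := by group
      _ = x * w := by rw [← e]
  have hyH : ∀ h ∈ H, h * y = y * h := by
    intro h hh
    have h1 : Commute h x := hxc h hh
    have h2 : Commute h w := hc h (hH hh) w hw
    rw [hy]
    exact (h1.inv_right.mul_right ((h2.mul_right h1).mul_right h2)).eq
  refine ⟨y, hyD, hDexp y hyD, hy1, fun e => hy1 ?_, hyH, fun u hu huH => ?_⟩
  · have h2 : y ^ 2 = 1 := by rw [pow_two]; nth_rewrite 1 [← e]; exact inv_mul_cancel y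
    have h3 : orderOf y ∣ p.gcd 2 := Nat.dvd_gcd (orderOf_dvd_of_pow_eq_one (hDexp y hyD))
      (orderOf_dvd_of_pow_eq_one h2)
    rw [Nat.Coprime.gcd_eq_one ((Nat.coprime_primes hp.out Nat.prime_two).mpr hp2), Nat.dvd_one,
      orderOf_eq_one_iff] at h3
    exact h3
  · have hwy : w * y * w = y⁻¹ := by rw [hy]; exact conj_involution (hsq w hw)
    have huw : u * w ∈ H := by
      have hn : (H.subgroupOf W).index = 2 := hi
      exact ((mul_mem_iff_of_index_two hn (a := ⟨u, hu⟩) (b := ⟨w, hw⟩)).mpr (iff_of_false huH hwH) : _)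
    have hk := hyH _ huw
    calc u * y * u = u * w * (w * y * w) * (w * u) := by
          rw [show u * w * (w * y * w) * (w * u) = u * (w * w) * y * (w * w) * u by group, hsq w hw, mul_one, mul_one]
      _ = y⁻¹ := by
          rw [hwy, (show Commute (u * w) y from hk).inv_right.eq, mul_assoc, mul_assoc u, ← mul_assoc w,
            hsq w hw, one_mul, hsq u hu, mul_one]

/-- A 2-group centralised by `B` cannot contain a four group acting faithfully. -/
theorem no_four_centralized (hp2 : p ≠ 2) {n : ℕ} (hmax : Cfsg.TwoLocalPRankLE p n G) {B : Subgroup G}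
    (hB : Cfsg.IsElementaryAbelian p B) (hBn : Nat.card B = p ^ n) {W R : Subgroup G}
    (hW : Cfsg.IsElementaryAbelian 2 W) (hW4 : 4 ≤ Nat.card W) (hWB : W ≤ centralizer (B : Set G))
    (hR : IsPGroup p R) (hWR : W ≤ normalizer (R : Set G)) (hBR : B ≤ normalizer (R : Set G))
    (hfaith : ∀ w ∈ W, (∀ x ∈ R, w * x = x * w) → w = 1) : False := by
  obtain ⟨Q, hQ⟩ : ∃ Q, Q = R ⊓ centralizer (B : Set G) := ⟨_, rfl⟩
  have hWQ : W ≤ normalizer (Q : Set G) := hQ ▸ Grp.le_normalizer_inf' hWR (hWB.trans le_normalizer)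
  obtain ⟨D, hDQ, hDn, hDexp, -, hdet⟩ := exists_detect hp2 Q (hR.to_le (hQ ▸ inf_le_left))
  have hW2 : IsPGroup 2 W := Grp.elemAb_isPGroup (p := 2) hW
  have hW1 : W ≠ ⊥ := fun e => by rw [e, card_bot] at hW4; omega
  have hWp : (Nat.card W).Coprime p := by
    obtain ⟨k, hk⟩ := IsPGroup.iff_card.mp hW2
    rw [hk]; exact ((Nat.coprime_primes Nat.prime_two hp.out).mpr (Ne.symm hp2)).pow_left _
  have hDp : ¬ 2 ∣ Nat.card D := by
    obtain ⟨k, hk⟩ := IsPGroup.iff_card.mp ((hR.to_le (hDQ.trans (hQ ▸ inf_le_left))))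
    rw [hk]; intro h
    exact hp2 ((Nat.prime_dvd_prime_iff_eq Nat.prime_two hp.out).mp (Nat.prime_two.dvd_of_dvd_pow h)).symm
  by_cases hall : ∀ H : Subgroup G, H ≤ W → H.relIndex W = 2 → D ⊓ centralizer (H : Set G) ≤ centralizer (W : Set G)
  · have hD : D ≤ centralizer (W : Set G) :=
      Grp.le_of_hyperplanes (p := 2) hW hW1 D hDp (hWQ.trans hDn) hall
    have hWD : ∀ w ∈ W, ∀ x ∈ Q, w * x = x * w := fun w hw => hdet w (hWQ hw)
      (hWp.coprime_dvd_left (Subgroup.orderOf_mk w hw ▸ orderOf_dvd_natCard (⟨w, hw⟩ : ↥W))) fun x hx => mem_centralizer_iff.mp (hD hx) w hw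
    have hPQ := Grp.thompson_PQ (p := p) B W (Grp.elemAb_isPGroup hB) hWp (le_centralizer_iff.mp hWB) R hR hBR hWR
      (fun x hx => mem_centralizer_iff.mpr fun w hw => hWD w hw x (hQ ▸ hx))
    refine hW1 (eq_bot_iff.mpr fun w hw => mem_bot.mpr (hfaith w hw fun x hx => ?_))
    exact (mem_centralizer_iff.mp (hPQ hw) x hx).symm
  push Not at hall
  obtain ⟨H, hH, hi, hbad⟩ := hall
  obtain ⟨y, hyD, hyp, -, hyi, hyH, hyo⟩ := exists_inverted hp2 hW hH hi (hWQ.trans hDn) hDexp hbad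
  obtain ⟨w, hw, hwH⟩ : ∃ w ∈ W, w ∉ H := SetLike.not_le_iff_exists.mp fun hle => by
    rw [relIndex_eq_one.mpr hle] at hi; exact absurd hi (by norm_num)
  have hHne : H ≠ ⊥ := Grp.ne_bot_of_relIndex (p := 2) (by simpa using hW4) hi
  obtain ⟨h, hhH, hh1⟩ := (bot_or_exists_ne_one H).resolve_left hHne
  have hyB : y ∉ B := fun h' => hyi (by
    rw [← hyo w hw hwH, mul_assoc, show y * w = w * y from mem_centralizer_iff.mp (hWB hw) y h', ← mul_assoc,
      show w * w = 1 by simpa [pow_two] using hW.2 w hw, one_mul])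
  obtain ⟨E, hE, -, -, hcard, hmin⟩ := exists_extend hB
    (fun a ha => mem_centralizer_iff.mp ((hQ ▸ hDQ hyD : y ∈ R ⊓ centralizer (B : Set G)).2) a ha) hyp hyB
  have hEh : E ≤ centralizer ({h} : Set G) := hmin _
    (fun a ha => mem_centralizer_singleton_iff.mpr (mem_centralizer_iff.mp (hWB (hH hhH)) a ha))
    (mem_centralizer_singleton_iff.mpr (hyH h hhH).symm)
  have h1 := hcard.trans (rank_bound hmax (by simpa [pow_two] using hW.2 h (hH hhH)) hh1 hE hEh)
  rw [hBn] at h1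
  have h2 : 0 < p ^ n := pow_pos hp.out.pos n
  nlinarith [hp.out.two_le]

omit [Finite G] hp in
theorem orderOf_dvd_two {w : G} (h : w * w = 1) : orderOf w ∣ 2 := orderOf_dvd_of_pow_eq_one (by rw [pow_two, h])

/-- An elementary group of order at least eight cannot be moved by an element normalising it. -/
theorem no_eight_moved (hp2 : p ≠ 2) {n : ℕ} (hn : 1 ≤ n) (hmax : Cfsg.TwoLocalPRankLE p n G) {A : Subgroup G}
    (hA : Cfsg.IsElementaryAbelian p A) (hAn : Nat.card A = p ^ (n - 1)) {W R : Subgroup G}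
    (hW : Cfsg.IsElementaryAbelian 2 W) (hW8 : 8 ≤ Nat.card W) (hWA : W ≤ centralizer (A : Set G))
    (hR : IsPGroup p R) (hRA : R ≤ centralizer (A : Set G)) (hWR : W ≤ normalizer (R : Set G))
    (hfaith : ∀ w ∈ W, (∀ x ∈ R, w * x = x * w) → w = 1)
    {b : G} (hbR : b ∈ normalizer (R : Set G)) (hbW : b ∈ normalizer (W : Set G))
    (hb : ¬ ∀ w ∈ W, b * w = w * b) : False := by
  obtain ⟨D, hDR, hDn, hDexp, hDc, hdet⟩ := exists_detect hp2 R hR
  have hsq : ∀ a ∈ W, a * a = 1 := fun a ha => by simpa [pow_two] using hW.2 a ha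
  have hcW := Grp.elemAb_comm hW
  have hWD : W ≤ normalizer (D : Set G) := hWR.trans hDn
  have hbD : b ∈ normalizer (D : Set G) := hDn hbR
  have hW1 : W ≠ ⊥ := fun e => by rw [e, card_bot] at hW8; omega
  have hDp : ¬ 2 ∣ Nat.card D := by
    obtain ⟨k, hk⟩ := IsPGroup.iff_card.mp (hR.to_le hDR)
    rw [hk]; intro h
    exact hp2 ((Nat.prime_dvd_prime_iff_eq Nat.prime_two hp.out).mp (Nat.prime_two.dvd_of_dvd_pow h)).symm
  push Not at hb
  obtain ⟨w0, hw0, hbw0⟩ := hb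
  obtain ⟨c, hc⟩ : ∃ c, c = b * w0 * b⁻¹ * w0 := ⟨_, rfl⟩
  have hbw : b * w0 * b⁻¹ ∈ W := (mem_normalizer_iff.mp hbW w0).mp hw0
  have hcW' : c ∈ W := hc ▸ mul_mem hbw hw0
  have hc1 : c ≠ 1 := by
    intro e
    apply hbw0
    rw [hc] at e
    have e' : b * w0 * b⁻¹ = w0 := by
      rw [eq_inv_of_mul_eq_one_left e, inv_eq_of_mul_eq_one_right (hsq w0 hw0)]
    exact mul_inv_eq_iff_eq_mul.mp e'
  by_cases hall : ∀ H : Subgroup G, H ≤ W → H.relIndex W = 2 → ¬ D ⊓ centralizer (H : Set G) ≤ centralizer (W : Set G) →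
      H.map (MulAut.conj b).toMonoidHom = H
  · have hD : D ≤ centralizer ({c} : Set G) := by
      refine Grp.le_of_hyperplanes (p := 2) hW hW1 D hDp hWD fun H hH hi x hx => ?_
      rw [mem_centralizer_singleton_iff]
      by_cases hbad : D ⊓ centralizer (H : Set G) ≤ centralizer (W : Set G)
      · exact (mem_centralizer_iff.mp (hbad hx) c hcW').symm
      have hinv := hall H hH hi hbad
      have hcH : c ∈ H := by
        have hn2 : (H.subgroupOf W).index = 2 := hi
        refine ((mul_mem_iff_of_index_two hn2 (a := ⟨b * w0 * b⁻¹, hbw⟩) (b := ⟨w0, hw0⟩)).mpr ?_ : _) |> (hc ▸ ·)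
        show b * w0 * b⁻¹ ∈ H ↔ w0 ∈ H
        constructor
        · intro h
          rw [← hinv] at h
          obtain ⟨v, hv, e⟩ := h
          exact (MulAut.conj b).injective e ▸ hv
        · intro h
          rw [← hinv]; exact ⟨w0, h, rfl⟩
      exact (mem_centralizer_iff.mp hx.2 c hcH).symm
    refine hc1 (hfaith c hcW' (hdet c (hWR hcW') ?_ fun x hx => ?_))
    · exact ((Nat.coprime_primes Nat.prime_two hp.out).mpr (Ne.symm hp2)).coprime_dvd_left
        (orderOf_dvd_two (hsq c hcW'))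
    · exact (mem_centralizer_singleton_iff.mp (hD hx)).symm
  push Not at hall
  obtain ⟨H, hH, hi, hbad, hne⟩ := hall
  obtain ⟨y, hyD, hyp, -, hyi, hyH, hyo⟩ := exists_inverted hp2 hW hH hi hWD hDexp hbad
  obtain ⟨H', hH'⟩ : ∃ H', H' = H.map (MulAut.conj b).toMonoidHom := ⟨_, rfl⟩
  have hH'W : H' ≤ W := by
    rw [hH']; rintro _ ⟨v, hv, rfl⟩; exact (mem_normalizer_iff.mp hbW v).mp (hH hv)
  have hcardH' : Nat.card H' = Nat.card H := hH' ▸ card_map_of_injective (MulAut.conj b).injective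
  obtain ⟨y', hy'⟩ : ∃ y', y' = b * y * b⁻¹ := ⟨_, rfl⟩
  have hy'D : y' ∈ D := hy' ▸ (mem_normalizer_iff.mp hbD y).mp hyD
  have hy'1 : y' ≠ 1 := by
    rw [hy', ne_eq, conj_eq_one_iff]; intro e; exact hyi (by rw [e, inv_one])
  have hy'H : ∀ h ∈ H', h * y' = y' * h := by
    rw [hH']; rintro _ ⟨v, hv, rfl⟩
    show b * v * b⁻¹ * y' = y' * (b * v * b⁻¹)
    rw [hy']
    calc b * v * b⁻¹ * (b * y * b⁻¹) = b * (v * y) * b⁻¹ := by group
      _ = b * (y * v) * b⁻¹ := by rw [hyH v hv]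
      _ = b * y * b⁻¹ * (b * v * b⁻¹) := by group
  have hy'o : ∀ w ∈ W, w ∉ H' → w * y' * w = y'⁻¹ := by
    intro w hw hwH
    have hv : b⁻¹ * w * b ∈ W := (mem_normalizer_iff''.mp hbW w).mp hw
    have hvH : b⁻¹ * w * b ∉ H := fun h => hwH (hH' ▸ ⟨_, h, by simp [mul_assoc]⟩)
    have h := hyo _ hv hvH
    rw [hy']
    calc w * (b * y * b⁻¹) * w = b * (b⁻¹ * w * b * y * (b⁻¹ * w * b)) * b⁻¹ := by group
      _ = (b * y * b⁻¹)⁻¹ := by rw [h]; group
  obtain ⟨w2, hw2, hw2'⟩ : ∃ w ∈ H, w ∉ H' := SetLike.not_le_iff_exists.mp fun hle =>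
    hne (hH'.symm.trans (eq_of_le_of_card_ge hle hcardH'.le).symm)
  have hw2W : w2 ∈ W := hH hw2
  have hw2y : Commute w2 y := hyH w2 hw2
  have hw2y' := hy'o w2 hw2W hw2'
  have hinf : H ⊓ H' ≠ ⊥ := by
    intro e
    have h1 := Grp.card_mul_relIndex (inf_le_left.trans hH : H ⊓ H' ≤ W)
    have h2 := relIndex_inf_le (H := H) (K := H') (L := W)
    have h3 : H'.relIndex W = 2 := by
      have a := Grp.card_mul_relIndex hH
      have b' := Grp.card_mul_relIndex hH'W
      rw [hcardH', ← a, hi] at b'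
      exact Nat.eq_of_mul_eq_mul_left Nat.card_pos b'
    rw [hi, h3] at h2
    rw [e, card_bot, one_mul] at h1
    rw [e, h1] at h2
    omega
  obtain ⟨h, hh, hh1⟩ := (bot_or_exists_ne_one _).resolve_left hinf
  have hhy : Commute h y := hyH h hh.1
  have hhy' : Commute h y' := hy'H h hh.2
  obtain ⟨z, hz⟩ : ∃ z, z = ⁅y, y'⁆ := ⟨_, rfl⟩
  have hzD : z ∈ D := hz ▸ (by rw [commutatorElement_def]; exact mul_mem (mul_mem (mul_mem hyD hy'D) (inv_mem hyD)) (inv_mem hy'D))
  have hw2i : w2⁻¹ = w2 := inv_eq_of_mul_eq_one_right (hsq w2 hw2W)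
  have hw2z : w2 * z * w2 = z⁻¹ := by
    have hzy' : Commute y' z := hz ▸ hDc y hyD y' hy'D y' hy'D
    have e1 : w2 * z * w2 = ⁅y, y'⁻¹⁆ := by
      have := map_commutatorElement (MulAut.conj w2).toMonoidHom y y'
      simp only [MulEquiv.coe_toMonoidHom, MulAut.conj_apply, hw2i] at this
      have e2 : w2 * y * w2 = y := by rw [hw2y.eq, mul_assoc, hsq w2 hw2W, mul_one]
      rw [hw2y', e2, ← hz] at this
      exact this
    rw [e1]
    calc ⁅y, y'⁻¹⁆ = y'⁻¹ * z⁻¹ * y' := by rw [hz, commutatorElement_def, commutatorElement_def]; group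
      _ = z⁻¹ := by rw [mul_assoc, ← hzy'.inv_right.eq, inv_mul_cancel_left]
  obtain ⟨y2, hy2D, hy21, hy2y, hy2h, hy2w⟩ : ∃ y2 ∈ D, y2 ≠ 1 ∧ Commute y y2 ∧ Commute h y2 ∧
      w2 * y2 * w2 = y2⁻¹ := by
    by_cases e : z = 1
    · exact ⟨y', hy'D, hy'1, commutatorElement_eq_one_iff_mul_comm.mp (hz ▸ e), hhy', hw2y'⟩
    · refine ⟨z, hzD, e, hz ▸ hDc y hyD y' hy'D y hyD, ?_, hw2z⟩
      rw [hz, commutatorElement_def]
      exact ((hhy.mul_right hhy').mul_right hhy.inv_right).mul_right hhy'.inv_right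
  have hA2 : ∀ w ∈ W, ∀ a ∈ A, Commute w a := fun w hw a ha =>
    (mem_centralizer_iff.mp (hWA hw) a ha).symm
  obtain ⟨w, hw, hwH⟩ : ∃ w ∈ W, w ∉ H := SetLike.not_le_iff_exists.mp fun hle => by
    rw [relIndex_eq_one.mpr hle] at hi; exact absurd hi (by norm_num)
  have hyA : y ∉ A := fun h' => hyi (by
    rw [← hyo w hw hwH, (hA2 w hw y h').eq, mul_assoc, hsq w hw, mul_one])
  obtain ⟨X, hX, hAX, hyX, hcard1, hminX⟩ := exists_extend hA
    (fun a ha => mem_centralizer_iff.mp (hRA (hDR hyD)) a ha) hyp hyA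
  have hXw2 : X ≤ centralizer ({w2} : Set G) := hminX _
    (fun a ha => mem_centralizer_singleton_iff.mpr (hA2 w2 hw2W a ha).symm.eq)
    (mem_centralizer_singleton_iff.mpr hw2y.symm.eq)
  have hy2X : y2 ∉ X := by
    intro h'
    have h2 : y2⁻¹ = y2 := by
      rw [← hy2w, ← mem_centralizer_singleton_iff.mp (hXw2 h'), mul_assoc, hsq w2 hw2W, mul_one]
    have h3 : y2 ^ 2 = 1 := by rw [pow_two]; nth_rewrite 1 [← h2]; exact inv_mul_cancel y2
    have h4 : orderOf y2 ∣ p.gcd 2 := Nat.dvd_gcd (orderOf_dvd_of_pow_eq_one (hDexp y2 hy2D))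
      (orderOf_dvd_of_pow_eq_one h3)
    rw [Nat.Coprime.gcd_eq_one ((Nat.coprime_primes hp.out Nat.prime_two).mpr hp2), Nat.dvd_one,
      orderOf_eq_one_iff] at h4
    exact hy21 h4
  have hXy2 : X ≤ centralizer ({y2} : Set G) := hminX _
    (fun a ha => mem_centralizer_singleton_iff.mpr (mem_centralizer_iff.mp (hRA (hDR hy2D)) a ha))
    (mem_centralizer_singleton_iff.mpr hy2y.eq)
  obtain ⟨E, hE, hXE, -, hcard2, hminE⟩ := exists_extend hX
    (fun a ha => mem_centralizer_singleton_iff.mp (hXy2 ha)) (hDexp y2 hy2D) hy2X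
  have hXh : X ≤ centralizer ({h} : Set G) := hminX _
    (fun a ha => mem_centralizer_singleton_iff.mpr (hA2 h (hH hh.1) a ha).symm.eq)
    (mem_centralizer_singleton_iff.mpr hhy.symm.eq)
  have hEh : E ≤ centralizer ({h} : Set G) := hminE _ hXh (mem_centralizer_singleton_iff.mpr hy2h.symm.eq)
  have h5 : p * p ^ n ≤ p ^ n := by
    refine le_trans ?_ (hcard2.trans (rank_bound hmax (hsq h (hH hh.1)) hh1 hE hEh))
    refine Nat.mul_le_mul_left _ (le_trans (le_of_eq ?_) hcard1)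
    rw [hAn, ← pow_succ', Nat.sub_add_cancel hn]
  have h2 : 0 < p ^ n := pow_pos hp.out.pos n
  nlinarith [hp.out.two_le]

/-- An element of odd prime order fixing a non-trivial element of a four group centralises it. -/
theorem fix_four (hp2 : p ≠ 2) {W : Subgroup G} (hW4 : Nat.card W = 4) {b : G} (hb : b ^ p = 1)
    (hbW : b ∈ normalizer (W : Set G)) {u : G} (hu : u ∈ W) (hu1 : u ≠ 1) (hub : b * u = u * b) :
    ∀ w ∈ W, b * w = w * b := by
  classical
  let σ : Equiv.Perm ↥W := MulEquiv.toEquiv (W.normalizerMonoidHom ⟨b, hbW⟩)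
  have hσ : ∀ w : ↥W, ((σ w : ↥W) : G) = b * w * b⁻¹ := fun w => rfl
  have hit : ∀ (i : ℕ) (w : ↥W), (((σ ^ i) w : ↥W) : G) = b ^ i * w * (b ^ i)⁻¹ := by
    intro i
    induction i with
    | zero => intro w; simp
    | succ i ih => intro w; rw [pow_succ', Equiv.Perm.mul_apply, hσ, ih, pow_succ']; group
  have hσp : σ ^ p = 1 := by
    refine Equiv.ext fun w => Subtype.ext ?_
    rw [hit, hb]; simp
  have hfix : (σ ⟨u, hu⟩ = ⟨u, hu⟩) ∧ σ 1 = 1 :=
    ⟨Subtype.ext (by rw [hσ]; exact mul_inv_eq_iff_eq_mul.mpr hub), Subtype.ext (by rw [hσ]; simp)⟩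
  haveI := Fintype.ofFinite ↥W
  have hsupp : σ.support.card ≤ 2 := by
    have hsub : σ.support ⊆ (Finset.univ.erase 1).erase ⟨u, hu⟩ := fun w hw => by
      rw [Equiv.Perm.mem_support] at hw
      simp only [Finset.mem_erase, Finset.mem_univ, and_true]
      exact ⟨fun e => hw (e ▸ hfix.1), fun e => hw (e ▸ hfix.2)⟩
    refine (Finset.card_le_card hsub).trans ?_
    rw [Finset.card_erase_of_mem (by simp [Subtype.ext_iff, hu1]), Finset.card_erase_of_mem (Finset.mem_univ _),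
      Finset.card_univ, ← Nat.card_eq_fintype_card, hW4]
  have hσ1 : σ = 1 := by
    rcases Nat.lt_or_ge σ.support.card 2 with h | h
    · rcases Nat.lt_or_ge σ.support.card 1 with h0 | h0
      · exact Equiv.Perm.card_support_eq_zero.mp (by omega)
      · exact absurd (le_antisymm (by omega) h0) (Equiv.Perm.card_support_ne_one σ)
    · have h2 : σ.IsSwap := Equiv.Perm.card_support_eq_two.mp (le_antisymm hsupp h)
      obtain ⟨x, y, hxy, e⟩ := h2
      exfalso
      have ho : orderOf σ = 2 := by rw [e]; exact Equiv.Perm.IsSwap.orderOf ⟨x, y, hxy, rfl⟩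
      have h3 := orderOf_dvd_of_pow_eq_one hσp
      rw [ho] at h3
      exact hp2 ((Nat.prime_dvd_prime_iff_eq Nat.prime_two hp.out).mp h3).symm
  intro w hw
  have h4 : b * w * b⁻¹ = w := by rw [← hσ ⟨w, hw⟩, hσ1]; rfl
  exact mul_inv_eq_iff_eq_mul.mp h4

/-- An element of prime order at least five normalising a four group centralises it. -/
theorem five_four (hp2 : p ≠ 2) (hp3 : p ≠ 3) {W : Subgroup G} (hW4 : Nat.card W = 4) {b : G} (hb : b ^ p = 1)
    (hbW : b ∈ normalizer (W : Set G)) : ∀ w ∈ W, b * w = w * b := by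
  classical
  let ψ : ↥(normalizer (W : Set G)) →* Equiv.Perm ↥W :=
    (MulAction.toPermHom (MulAut ↥W) ↥W).comp W.normalizerMonoidHom
  haveI := Fintype.ofFinite ↥W
  have h1 : orderOf (ψ ⟨b, hbW⟩) ∣ p := orderOf_dvd_of_pow_eq_one (by
    rw [← map_pow, show (⟨b, hbW⟩ : ↥(normalizer (W : Set G))) ^ p = 1 from Subtype.ext (by simpa using hb), map_one])
  have h2 : orderOf (ψ ⟨b, hbW⟩) ∣ 24 := by
    refine orderOf_dvd_card.trans ?_
    rw [Fintype.card_perm, ← Nat.card_eq_fintype_card, hW4]; rfl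
  have h3 : orderOf (ψ ⟨b, hbW⟩) = 1 := by
    rcases hp.out.eq_one_or_self_of_dvd _ h1 with h | h
    · exact h
    · exfalso
      rw [h] at h2
      have h24 : (24 : ℕ) = 2 ^ 3 * 3 := by norm_num
      rw [h24] at h2
      rcases hp.out.dvd_mul.mp h2 with h' | h'
      · exact hp2 ((Nat.prime_dvd_prime_iff_eq hp.out Nat.prime_two).mp (hp.out.dvd_of_dvd_pow h'))
      · exact hp3 ((Nat.prime_dvd_prime_iff_eq hp.out Nat.prime_three).mp h')
  intro w hw
  have h4 : b * w * b⁻¹ = w := by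
    have h5 := congrArg (fun σ : Equiv.Perm ↥W => ((σ ⟨w, hw⟩ : ↥W) : G)) (orderOf_eq_one_iff.mp h3)
    exact h5
  exact mul_inv_eq_iff_eq_mul.mp h4

/-- The image of the generalized Fitting subgroup of a centraliser. -/
theorem exists_fstar (hp2 : p ≠ 2) (A : Subgroup G)
    (h : IsPGroup p ↥(Cfsg.generalizedFittingSubgroup ↥(centralizer (A : Set G)))) :
    ∃ R : Subgroup G, IsPGroup p R ∧ R ≤ centralizer (A : Set G) ∧
      centralizer (A : Set G) ≤ normalizer (R : Set G) ∧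
      ∀ w ∈ centralizer (A : Set G), w * w = 1 → (∀ x ∈ R, w * x = x * w) → w = 1 := by
  obtain ⟨C, hC⟩ : ∃ C, C = centralizer (A : Set G) := ⟨_, rfl⟩
  rw [← hC] at h ⊢
  set F := Cfsg.generalizedFittingSubgroup ↥C with hF
  haveI : F.Normal := by
    rw [hF, Cfsg.generalizedFittingSubgroup]
    haveI := Grp.fittingSubgroup_isNormal (G := ↥C)
    infer_instance
  refine ⟨F.map C.subtype, h.map _, map_subtype_le _, fun c hc => mem_normalizer_fintype ?_, fun w hw hw2 hcent => ?_⟩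
  · rintro _ ⟨x, hx, rfl⟩
    exact ⟨⟨c, hc⟩ * x * ⟨c, hc⟩⁻¹, (inferInstance : F.Normal).conj_mem x hx _, rfl⟩
  · have hwF : (⟨w, hw⟩ : ↥C) ∈ F := Grp.centralizer_gfitting_le (mem_centralizer_iff.mpr fun x hx =>
      Subtype.ext (hcent _ ⟨x, hx, rfl⟩).symm)
    obtain ⟨k, hk⟩ := h ⟨⟨w, hw⟩, hwF⟩
    have h1 : w ^ p ^ k = 1 := by simpa using congrArg (fun a : ↥F => ((a : ↥C) : G)) hk
    have h2 : orderOf w ∣ (p ^ k).gcd 2 := Nat.dvd_gcd (orderOf_dvd_of_pow_eq_one h1) (orderOf_dvd_two hw2)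
    rw [Nat.Coprime.gcd_eq_one (((Nat.coprime_primes hp.out Nat.prime_two).mpr hp2).pow_left k), Nat.dvd_one,
      orderOf_eq_one_iff] at h2
    exact h2

/-- Every characteristic abelian subgroup is cyclic. -/
theorem symplectic (hp2 : p ≠ 2) {n : ℕ} (hn : 2 ≤ n) (B : Subgroup G) (hB : Cfsg.IsElementaryAbelian p B)
    (hBn : Nat.card ↥B = p ^ n) (hmax : Cfsg.TwoLocalPRankLE p n G)
    (T : Subgroup G) (hT : IsPGroup 2 ↥T) (hBT : B ≤ normalizer (T : Set G))
    (hhyp : ∀ A : Subgroup G, A ≤ B → Nat.card ↥A = p ^ (n - 1) →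
      IsPGroup p ↥(Cfsg.generalizedFittingSubgroup ↥(centralizer (A : Set G))))
    (h3 : p = 3 → T ⊓ centralizer (B : Set G) ≠ ⊥) : Cfsg.IsOfSymplecticType ↥T := by
  refine ⟨hT, fun Z hZc hZa => ?_⟩
  haveI := hZc
  by_contra hncyc
  -- the elements of order dividing two
  have hZcomm : ∀ a ∈ Z, ∀ b ∈ Z, a * b = b * a := fun a ha b hb =>
    congrArg Subtype.val (hZa.is_comm.comm (⟨a, ha⟩ : Z) ⟨b, hb⟩)
  let V : Subgroup G :=
    { carrier := {x | x ∈ Z.map T.subtype ∧ x * x = 1}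
      mul_mem' := by
        rintro _ _ ⟨⟨a, ha, rfl⟩, ha2⟩ ⟨⟨b, hb, rfl⟩, hb2⟩
        refine ⟨⟨a * b, mul_mem ha hb, rfl⟩, ?_⟩
        have hc : Commute (T.subtype a) (T.subtype b) := congrArg T.subtype (hZcomm a ha b hb)
        rw [mul_assoc, ← mul_assoc (T.subtype b), ← hc.eq, mul_assoc (T.subtype a) (T.subtype b), hb2, mul_one, ha2]
      one_mem' := ⟨one_mem _, one_mul 1⟩
      inv_mem' := fun {x} hx => ⟨inv_mem hx.1, by rw [← mul_inv_rev, hx.2, inv_one]⟩ }
  have hVT : V ≤ T := fun x hx => map_subtype_le _ hx.1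
  have hVel : Cfsg.IsElementaryAbelian 2 V := ⟨⟨⟨by
      rintro ⟨_, ⟨a, ha, rfl⟩, _⟩ ⟨_, ⟨b, hb, rfl⟩, _⟩
      exact Subtype.ext (congrArg T.subtype (hZcomm a ha b hb))⟩⟩, fun a ha => by rw [pow_two]; exact ha.2⟩
  have hV4 : 4 ≤ Nat.card V := by
    by_contra hlt
    apply hncyc
    letI : CommGroup Z := { (inferInstance : Group Z) with mul_comm := fun a b => Subtype.ext (hZcomm a a.2 b b.2) }
    refine Fus.isCyclic_of_unique_order_prime (q := 2) (hT.to_subgroup Z) fun a b ha hb ha1 => ?_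
    have hmem : ∀ c : Z, c ^ 2 = 1 → ((c : ↥T) : G) ∈ V := fun c hc =>
      ⟨⟨c, c.2, rfl⟩, by rw [← pow_two]; simpa using congrArg (fun z : Z => ((z : ↥T) : G)) hc⟩
    have hle : zpowers ((a : ↥T) : G) ≤ V := zpowers_le.mpr (hmem a ha)
    have hord : orderOf ((a : ↥T) : G) = 2 := by
      rw [Subgroup.orderOf_coe, Subgroup.orderOf_coe]; exact orderOf_eq_prime ha ha1
    have h2 : Nat.card (zpowers ((a : ↥T) : G)) = 2 := by rw [Nat.card_zpowers, hord]
    have hVp : ∃ k, Nat.card V = 2 ^ k := IsPGroup.iff_card.mp (hT.to_le hVT)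
    obtain ⟨k, hk⟩ := hVp
    have hk1 : k ≤ 1 := by
      by_contra hk2; push Not at hk2
      exact hlt (hk ▸ le_trans (by norm_num) (Nat.pow_le_pow_right (by norm_num : 0 < 2) hk2))
    have hVc : Nat.card V ≤ Nat.card (zpowers ((a : ↥T) : G)) := by
      rw [h2, hk]; exact le_trans (Nat.pow_le_pow_right (by norm_num) hk1) (by norm_num)
    have hb' : ((b : ↥T) : G) ∈ zpowers ((a : ↥T) : G) := (eq_of_le_of_card_ge hle hVc).symm ▸ hmem b hb
    obtain ⟨i, hi⟩ := hb'
    exact ⟨i, Subtype.ext (Subtype.ext (by simpa using hi))⟩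
  have hVn : normalizer (T : Set G) ≤ normalizer (V : Set G) := by
    intro g hg
    refine mem_normalizer_fintype ?_
    rintro _ ⟨⟨a, ha, rfl⟩, ha2⟩
    let φ : MulAut ↥T := T.normalizerMonoidHom ⟨g, hg⟩
    refine ⟨⟨φ a, by rw [← Subgroup.Characteristic.fixed (H := Z) inferInstance φ] at ha; exact ha, rfl⟩, ?_⟩
    calc g * T.subtype a * g⁻¹ * (g * T.subtype a * g⁻¹) = g * (T.subtype a * T.subtype a) * g⁻¹ := by group
      _ = 1 := by rw [ha2]; group
  have hBV : B ≤ normalizer (V : Set G) := hBT.trans hVn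
  have hB1 : B ≠ ⊥ := Grp.ne_bot_of_card (n := n) (by omega) (hBn.ge)
  have hBc : B ≤ centralizer (B : Set G) := fun a ha => mem_centralizer_iff.mpr fun b hb =>
    Grp.elemAb_comm hB b hb a ha
  have hAcard : ∀ A : Subgroup G, A ≤ B → A.relIndex B = p → Nat.card A = p ^ (n - 1) := by
    intro A hA hi
    have h := Grp.card_mul_relIndex hA
    rw [hi, hBn, show n = n - 1 + 1 from (Nat.sub_add_cancel (by omega)).symm, pow_succ] at h
    exact Nat.eq_of_mul_eq_mul_right hp.out.pos h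
  have hVp : ¬ p ∣ Nat.card V := by
    obtain ⟨k, hk⟩ := IsPGroup.iff_card.mp (hT.to_le hVT)
    rw [hk]; intro h
    exact hp2 ((Nat.prime_dvd_prime_iff_eq hp.out Nat.prime_two).mp (hp.out.dvd_of_dvd_pow h))
  have hsqV : ∀ w ∈ V, w * w = 1 := fun w hw => hw.2
  by_cases hall : ∀ A : Subgroup G, A ≤ B → A.relIndex B = p → V ⊓ centralizer (A : Set G) ≤ centralizer (B : Set G)
  · have hVB : V ≤ centralizer (B : Set G) := Grp.le_of_hyperplanes hB hB1 V hVp hBV hall
    obtain ⟨A, hA, hAc⟩ : ∃ A : Subgroup G, A ≤ B ∧ Nat.card A = p ^ (n - 1) := by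
      obtain ⟨A, hA⟩ := Sylow.exists_subgroup_card_pow_prime p (G := ↥B) (n := n - 1)
        (hBn ▸ pow_dvd_pow p (Nat.sub_le n 1))
      exact ⟨A.map B.subtype, map_subtype_le _, by rw [card_map_of_injective B.subtype_injective, hA]⟩
    obtain ⟨R, hR, -, hCR, hfaith⟩ := exists_fstar hp2 A (hhyp A hA hAc)
    have hCA : centralizer (B : Set G) ≤ centralizer (A : Set G) := centralizer_le hA
    exact no_four_centralized hp2 hmax hB hBn hVel hV4 hVB hR ((hVB.trans hCA).trans hCR)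
      ((hBc.trans hCA).trans hCR) fun w hw h => hfaith w (hCA (hVB hw)) (hsqV w hw) h
  push Not at hall
  obtain ⟨A, hA, hi, hnB⟩ := hall
  obtain ⟨R, hR, hRA, hCR, hfaith⟩ := exists_fstar hp2 A (hhyp A hA (hAcard A hA hi))
  have hCA : centralizer (B : Set G) ≤ centralizer (A : Set G) := centralizer_le hA
  obtain ⟨W0, hW0⟩ : ∃ W0, W0 = V ⊓ centralizer (A : Set G) := ⟨_, rfl⟩
  have hW0el : Cfsg.IsElementaryAbelian 2 W0 := Grp.elemAb_mono hVel (hW0 ▸ inf_le_left)
  obtain ⟨x, hx, hxB⟩ := SetLike.not_le_iff_exists.mp hnB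
  rw [← hW0] at hx
  rw [mem_centralizer_iff] at hxB
  push Not at hxB
  obtain ⟨b, hbB, hbx⟩ := hxB
  have hBW0 : B ≤ normalizer (W0 : Set G) := hW0 ▸ Grp.le_normalizer_inf' hBV ((hBc.trans hCA).trans le_normalizer)
  have hbW0 := hBW0 hbB
  have hbp : b ^ p = 1 := hB.2 b hbB
  have hbR : b ∈ normalizer (R : Set G) := hCR (hCA (hBc hbB))
  have hW0A : W0 ≤ centralizer (A : Set G) := hW0 ▸ inf_le_right
  have hsq0 : ∀ w ∈ W0, w * w = 1 := fun w hw => hsqV w (hW0 ▸ hw : w ∈ V ⊓ centralizer (A : Set G)).1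
  have hnot : ¬ ∀ w ∈ W0, b * w = w * b := fun h => hbx (h x hx)
  obtain ⟨k, hk⟩ := IsPGroup.iff_card.mp (Grp.elemAb_isPGroup (p := 2) hW0el)
  have hx1 : x ≠ 1 := fun e => hbx (by rw [e, mul_one, one_mul])
  rcases Nat.lt_or_ge k 3 with hk3 | hk3
  swap
  · exact no_eight_moved hp2 (by omega) hmax (Grp.elemAb_mono hB hA) (hAcard A hA hi) hW0el
      (hk ▸ le_trans (by norm_num) (Nat.pow_le_pow_right (by norm_num : 0 < 2) hk3)) hW0A hR hRA (hW0A.trans hCR)
      (fun w hw h => hfaith w (hW0A hw) (hsq0 w hw) h) hbR hbW0 hnot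
  have hk2 : k = 2 := by
    rcases Nat.lt_or_ge k 2 with hk2 | hk2
    · exfalso
      have h2 : Nat.card W0 ≤ 2 := hk ▸ le_trans (Nat.pow_le_pow_right (by norm_num) (Nat.lt_succ_iff.mp hk2)) (by norm_num)
      have hle : zpowers x ≤ W0 := zpowers_le.mpr hx
      have e := eq_of_le_of_card_ge hle (by
        rw [Nat.card_zpowers, orderOf_eq_prime (by rw [pow_two, hsq0 x hx]) hx1]; exact h2)
      have h3 : b * x * b⁻¹ ∈ zpowers x := e.symm ▸ (mem_normalizer_iff.mp hbW0 x).mp hx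
      obtain ⟨i, hi'⟩ := h3
      have h4 : x ^ i = x ∨ x ^ i = 1 := by
        rcases Int.even_or_odd i with ⟨j, rfl⟩ | ⟨j, rfl⟩
        · right; rw [← two_mul, zpow_mul, zpow_two, hsq0 x hx, one_zpow]
        · left; rw [zpow_add_one, zpow_mul, zpow_two, hsq0 x hx, one_zpow, one_mul]
      simp only at hi'
      rcases h4 with h4 | h4
      · exact hbx (mul_inv_eq_iff_eq_mul.mp (hi'.symm.trans h4))
      · exact hx1 (conj_eq_one_iff.mp (hi'.symm.trans h4))
    · omega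
  have hW04 : Nat.card W0 = 4 := by rw [hk, hk2]; norm_num
  have hp3 : p = 3 := by
    by_contra hp3
    exact hnot (five_four hp2 hp3 hW04 hbp hbW0)
  obtain ⟨t, ht, ht2, ht1⟩ : ∃ t ∈ T ⊓ centralizer (B : Set G), t * t = 1 ∧ t ≠ 1 := by
    obtain ⟨k', hk'⟩ := IsPGroup.iff_card.mp (hT.to_le (inf_le_left : T ⊓ centralizer (B : Set G) ≤ T))
    have hdvd : 2 ∣ Nat.card ↥(T ⊓ centralizer (B : Set G)) := by
      rw [hk']
      refine dvd_pow_self 2 ?_
      rintro rfl
      exact h3 hp3 (eq_bot_of_card_eq _ (by simpa using hk'))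
    obtain ⟨t, ht⟩ := exists_prime_orderOf_dvd_card' 2 hdvd
    refine ⟨t, t.2, ?_, fun e => ?_⟩
    · have := pow_orderOf_eq_one t; rw [ht, pow_two] at this; simpa using congrArg Subtype.val this
    · rw [show t = 1 from Subtype.ext e, orderOf_one] at ht; omega
  have htA : t ∈ centralizer (A : Set G) := hCA ht.2
  have htb : Commute b t := mem_centralizer_iff.mp ht.2 b hbB
  have htW0 : t ∈ normalizer (W0 : Set G) :=
    hW0 ▸ Grp.le_normalizer_inf' (A := T ⊓ centralizer (A : Set G)) ((inf_le_left.trans le_normalizer).trans hVn)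
      (inf_le_right.trans le_normalizer) ⟨ht.1, htA⟩
  have hti : t⁻¹ = t := inv_eq_of_mul_eq_one_right ht2
  have hnofix : ∀ u ∈ W0, b * u = u * b → u = 1 := fun u hu hub => by_contra fun hu1 =>
    hnot (fix_four hp2 hW04 hbp hbW0 hu hu1 hub)
  have htx : ∀ w ∈ W0, t * w = w * t := by
    -- some non-trivial element is fixed, and so are its conjugates by `b`
    obtain ⟨u, hu, hu1, hut⟩ : ∃ u ∈ W0, u ≠ 1 ∧ t * u = u * t := by
      by_cases e : t * x = x * t
      · exact ⟨x, hx, hx1, e⟩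
      have hx' : t * x * t ∈ W0 := by
        have := (mem_normalizer_iff.mp htW0 x).mp hx; rwa [hti] at this
      refine ⟨x * (t * x * t), mul_mem hx hx', fun h => e ?_, ?_⟩
      · have h' : t * x * t = x := by
          rw [eq_inv_of_mul_eq_one_right h, inv_eq_of_mul_eq_one_right (hsq0 x hx)]
        calc t * x = t * x * (t * t) := by rw [ht2, mul_one]
          _ = t * x * t * t := by group
          _ = x * t := by rw [h']
      · have hc : Commute x (t * x * t) := Grp.elemAb_comm hW0el x hx _ hx'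
        calc t * (x * (t * x * t)) = t * x * (t * x * t) := by group
          _ = (t * x * t) * x * t * (t * t) := by rw [ht2, mul_one]; simp only [mul_assoc]
          _ = x * (t * x * t) * t := by rw [ht2, mul_one, hc.eq]
    intro w hw
    obtain ⟨F, hF⟩ : ∃ F, F = W0 ⊓ centralizer ({t} : Set G) := ⟨_, rfl⟩
    have huF : u ∈ F := hF ▸ ⟨hu, mem_centralizer_singleton_iff.mpr hut.symm⟩
    have hbuF : b * u * b⁻¹ ∈ F := by
      refine hF ▸ ⟨(mem_normalizer_iff.mp hbW0 u).mp hu, mem_centralizer_singleton_iff.mpr ?_⟩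
      exact (((htb.symm.mul_right hut).mul_right htb.symm.inv_right).eq).symm
    have hFW : F ≤ W0 := hF ▸ inf_le_left
    have hF4 : W0 ≤ F := by
      refine (eq_of_le_of_card_ge hFW ?_).ge
      rw [hW04]
      by_contra hlt
      obtain ⟨j, hj⟩ := IsPGroup.iff_card.mp ((Grp.elemAb_isPGroup (p := 2) hW0el).to_le hFW)
      have hj1 : j ≤ 1 := by
        by_contra hj2; push Not at hj2
        exact hlt (hj ▸ le_trans (by norm_num) (Nat.pow_le_pow_right (by norm_num : 0 < 2) hj2))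
      have e := eq_of_le_of_card_ge (zpowers_le.mpr huF) (by
        rw [Nat.card_zpowers, orderOf_eq_prime (by rw [pow_two, hsq0 u hu]) hu1, hj]
        exact le_trans (Nat.pow_le_pow_right (by norm_num) hj1) (by norm_num))
      obtain ⟨i, hi'⟩ : b * u * b⁻¹ ∈ zpowers u := e.symm ▸ hbuF
      simp only at hi'
      rcases Int.even_or_odd i with ⟨j', rfl⟩ | ⟨j', rfl⟩
      · rw [← two_mul, zpow_mul, zpow_two, hsq0 u hu, one_zpow] at hi'
        exact hu1 (conj_eq_one_iff.mp hi'.symm)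
      · rw [zpow_add_one, zpow_mul, zpow_two, hsq0 u hu, one_zpow, one_mul] at hi'
        exact hu1 (hnofix u hu (mul_inv_eq_iff_eq_mul.mp hi'.symm))
    exact (mem_centralizer_singleton_iff.mp (hF ▸ hF4 hw : w ∈ W0 ⊓ centralizer ({t} : Set G)).2).symm
  have htW0' : t ∉ W0 := fun h => ht1 (hnofix t h htb.eq)
  obtain ⟨W, hW, hW0W, htW, hcardW, hminW⟩ := exists_extend (p := 2) hW0el
    (fun a ha => (htx a ha).symm) (by rw [pow_two, ht2]) htW0'
  have hWA : W ≤ centralizer (A : Set G) := hminW _ hW0A htA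
  have hbW : b ∈ normalizer (W : Set G) := by
    have hle : W ≤ W.comap (MulAut.conj b).toMonoidHom := hminW _
      (fun w hw => hW0W ((mem_normalizer_iff.mp hbW0 w).mp hw))
      (show b * t * b⁻¹ ∈ W by rw [htb.eq, mul_inv_cancel_right]; exact htW)
    exact mem_normalizer_fintype fun w hw => hle hw
  refine no_eight_moved hp2 (by omega) hmax (Grp.elemAb_mono hB hA) (hAcard A hA hi) hW
    (le_trans (by rw [hW04]) hcardW) hWA hR hRA (hWA.trans hCR)
    (fun w hw h => hfaith w (hWA hw) (by simpa [pow_two] using hW.2 w hw) h) hbR hbW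
    (fun h => hnot fun w hw => h w (hW0W hw))

end Cfsg.Agent.Invol.SympRank
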