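import Mathlib
import Cfsg.Agent.Lib.Invol.SympRank
import Cfsg.Agent.Lib.Invol.CharPLocal
import Cfsg.Agent.Lib.Grp.Coprime

/-!
# Groups which are at once of characteristic two type and of local characteristic `p`

The Klinger–Mason bound: the 2-local `p`-rank is at most two.
-/

set_option autoImplicit false
set_option linter.style.haveILetI false
set_option linter.unusedSectionVars false

open scoped commutatorElement

namespace Cfsg.Agent.Invol.KlingerMason

open Subgroup Cfsg.Agent.Invol.SympRank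

universe u

variable {G : Type u} [Group G] [Finite G] {p : ℕ} [hp : Fact p.Prime]

/-- A `p`-subgroup of `C(K)` detecting elements of order prime to `p`. -/
structure Det (p : ℕ) (K D : Subgroup G) : Prop where
  le : D ≤ centralizer (K : Set G)
  norm : centralizer (K : Set G) ≤ normalizer (D : Set G)
  pgrp : IsPGroup p D
  exp : ∀ x ∈ D, x ^ p = 1
  cls : ∀ x ∈ D, ∀ y ∈ D, ∀ z ∈ D, z * ⁅x, y⁆ = ⁅x, y⁆ * z
  faith : ∀ g ∈ centralizer (K : Set G), (orderOf g).Coprime p → (∀ x ∈ D, g * x = x * g) → g = 1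

/-- The largest normal 2-subgroup of the centraliser of an involution. -/
structure Two (j : G) (U : Subgroup G) : Prop where
  sq : j * j = 1
  ne : j ≠ 1
  two : IsPGroup 2 U
  le : U ≤ centralizer ({j} : Set G)
  norm : centralizer ({j} : Set G) ≤ normalizer (U : Set G)
  mem : j ∈ U
  self : centralizer ({j} : Set G) ⊓ centralizer (U : Set G) ≤ U

omit [Finite G] hp in
theorem mem_cz {j x : G} : x ∈ centralizer ({j} : Set G) ↔ Commute j x :=
  mem_centralizer_singleton_iff.trans ⟨fun h => h.symm, fun h => h.symm⟩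

omit [Finite G] in
theorem coprime_two (hp2 : p ≠ 2) {k : ℕ} : Nat.Coprime (2 ^ k) p :=
  ((Nat.coprime_primes Nat.prime_two hp.out).mpr (Ne.symm hp2)).pow_left k

omit [Finite G] in
theorem eq_one_two_p (hp2 : p ≠ 2) {z : G} {k : ℕ} (h2 : z ^ 2 ^ k = 1) (hz : z ^ p = 1) : z = 1 := by
  have h := pow_gcd_eq_one.mpr ⟨h2, hz⟩
  rwa [(coprime_two hp2 (k := k)).gcd_eq_one, pow_one] at h

omit [Finite G] in
theorem coprime_sq (hp2 : p ≠ 2) {g : G} (h : g * g = 1) : (orderOf g).Coprime p :=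
  (coprime_two hp2 (k := 1)).coprime_dvd_left (by simpa using orderOf_dvd_two h)

omit [Finite G] hp in
theorem conj_eq {j d : G} (hj : j * j = 1) : j * d * j⁻¹ = j * d * j := by
  rw [inv_eq_of_mul_eq_one_right hj]

omit [Finite G] hp in
theorem commute_iff_conj {j d : G} (hj : j * j = 1) : Commute j d ↔ j * d * j = d := by
  constructor
  · intro h; rw [h.eq, mul_assoc, hj, mul_one]
  · intro h
    change j * d = d * j
    conv_rhs => rw [← h, mul_assoc, hj, mul_one]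

omit [Finite G] hp in
theorem mul_sq {a b : G} (ha : a * a = 1) (hb : b * b = 1) (hab : Commute a b) : (a * b) * (a * b) = 1 := by
  rw [← pow_two, hab.mul_pow, pow_two, pow_two, ha, hb, one_mul]

omit [Finite G] in
/-- An element both centralised and inverted by an involution is trivial. -/
theorem eq_one_of_inv (hp2 : p ≠ 2) {y : G} (hy : y ^ p = 1) (h : y⁻¹ = y) : y = 1 :=
  eq_one_two_p hp2 (k := 1) (by rw [pow_one, pow_two]; nth_rewrite 1 [← h]; exact inv_mul_cancel y) hy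

omit [Finite G] in
theorem not_mem_of_inverts (hp2 : p ≠ 2) {f y : G} (hf : f * f = 1) {E : Subgroup G}
    (hE : ∀ e ∈ E, Commute f e) (hfy : f * y * f = y⁻¹) (hy : y ^ p = 1) (hy1 : y ≠ 1) : y ∉ E :=
  fun h => hy1 (eq_one_of_inv hp2 hy (hfy.symm.trans ((commute_iff_conj hf).mp (hE y h))))

/-- A 2-element of `O₂(C(j))` centralises what `j` centralises. -/
theorem Two.comm (hp2 : p ≠ 2) {j : G} {U K D : Subgroup G} (hU : Two j U) (hD : Det p K D) {f d : G}
    (hf : f ∈ U) (hfK : f ∈ centralizer (K : Set G)) (hd : d ∈ D) (hjd : Commute j d) : Commute f d := by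
  have h1 : f * d * f⁻¹ * d⁻¹ ∈ D :=
    mul_mem ((mem_normalizer_iff.mp (hD.norm hfK) d).mp hd) (inv_mem hd)
  have h2 : f * d * f⁻¹ * d⁻¹ ∈ U := by
    rw [mul_assoc f d, mul_assoc]
    exact mul_mem hf ((mem_normalizer_iff.mp (hU.norm (mem_cz.mpr hjd)) f⁻¹).mp (inv_mem hf))
  obtain ⟨k, hk⟩ := hU.two ⟨_, h2⟩
  have h3 : f * d * f⁻¹ * d⁻¹ = 1 := eq_one_two_p hp2 (k := k)
    (by simpa using congrArg (fun a : ↥U => (a : G)) hk) (hD.exp _ h1)
  exact mul_inv_eq_iff_eq_mul.mp (mul_inv_eq_one.mp h3)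

/-- Two elements inverted by `i` and separated by `f` commute. -/
theorem comm_signs (hp2 : p ≠ 2) {K D : Subgroup G} (hD : Det p K D) {i f x y : G}
    (hi : i * i = 1) (hf : f * f = 1) (hx : x ∈ D) (hy : y ∈ D) (hix : i * x * i = x⁻¹)
    (hiy : i * y * i = y⁻¹) (hfx : Commute f x) (hfy : f * y * f = y⁻¹)
    (hif : ∀ d ∈ D, Commute i d → Commute f d) : Commute x y := by
  obtain ⟨z, hz⟩ : ∃ z, z = ⁅x, y⁆ := ⟨_, rfl⟩
  have hzD : z ∈ D := by
    rw [hz, commutatorElement_def]; exact mul_mem (mul_mem (mul_mem hx hy) (inv_mem hx)) (inv_mem hy)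
  have hzc : ∀ w ∈ D, Commute w z := fun w hw => by rw [hz]; exact hD.cls x hx y hy w hw
  have hsplit : ∀ {g : G}, g * g = 1 → g * z * g = ⁅g * x * g, g * y * g⁆ := fun {g} hg => by
    have hg' : g⁻¹ = g := inv_eq_of_mul_eq_one_right hg
    rw [hz, commutatorElement_def, commutatorElement_def]
    calc g * (x * y * x⁻¹ * y⁻¹) * g = g * (x * y * x⁻¹ * y⁻¹) * g⁻¹ := by rw [hg']
      _ = (g * x * g⁻¹) * (g * y * g⁻¹) * (g * x * g⁻¹)⁻¹ * (g * y * g⁻¹)⁻¹ := by group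
      _ = _ := by rw [hg']
  have hiz : i * z * i = z := by
    rw [hsplit hi, hix, hiy]
    calc ⁅x⁻¹, y⁻¹⁆ = (y * x)⁻¹ * ⁅x, y⁆ * (y * x) := by simp only [commutatorElement_def]; group
      _ = z := by rw [← hz, mul_assoc, ← (hzc _ (mul_mem hy hx)).eq, inv_mul_cancel_left]
  have hfz : f * z * f = z⁻¹ := by
    rw [hsplit hf, (commute_iff_conj hf).mp hfx, hfy]
    calc ⁅x, y⁻¹⁆ = y⁻¹ * ⁅x, y⁆⁻¹ * y := by simp only [commutatorElement_def]; group
      _ = z⁻¹ := by rw [← hz, mul_assoc, ← ((hzc y hy).inv_right).eq, inv_mul_cancel_left]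
  have hz1 : z = 1 := eq_one_of_inv hp2 (hD.exp z hzD)
    (hfz.symm.trans ((commute_iff_conj hf).mp (hif z hzD ((commute_iff_conj hi).mpr hiz))))
  exact commutatorElement_eq_one_iff_commute.mp (hz ▸ hz1)

/-- The four group generated by two commuting involutions. -/
theorem exists_fourgroup {a b : G} (ha : a * a = 1) (hb : b * b = 1) (hab : Commute a b) (ha1 : a ≠ 1)
    (hb1 : b ≠ 1) (hne : a ≠ b) :
    ∃ W : Subgroup G, Cfsg.IsElementaryAbelian 2 W ∧ a ∈ W ∧ b ∈ W ∧ 4 ≤ Nat.card W ∧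
      (∀ w ∈ W, w = 1 ∨ w = a ∨ w = b ∨ w = a * b) ∧ ∀ K : Subgroup G, a ∈ K → b ∈ K → W ≤ K := by
  let W : Subgroup G :=
    { carrier := {w | w = 1 ∨ w = a ∨ w = b ∨ w = a * b}
      one_mem' := Or.inl rfl
      inv_mem' := by
        rintro w (rfl | rfl | rfl | rfl)
        · exact Or.inl inv_one
        · exact Or.inr (Or.inl (inv_eq_of_mul_eq_one_right ha))
        · exact Or.inr (Or.inr (Or.inl (inv_eq_of_mul_eq_one_right hb)))
        · exact Or.inr (Or.inr (Or.inr (inv_eq_of_mul_eq_one_right (mul_sq ha hb hab))))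
      mul_mem' := by
        have h1 : a * (a * b) = b := by rw [← mul_assoc, ha, one_mul]
        have h2 : b * (a * b) = a := by rw [hab.eq, ← mul_assoc, hb, one_mul]
        have h3 : a * b * a = b := by rw [hab.eq, mul_assoc, ha, mul_one]
        have h4 : a * b * b = a := by rw [mul_assoc, hb, mul_one]
        rintro u v (rfl | rfl | rfl | rfl) (rfl | rfl | rfl | rfl) <;>
          simp [ha, hb, hab.symm.eq, h1, h2, h3, h4, mul_sq ha hb hab] }
  have hsq : ∀ w ∈ W, w * w = 1 := by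
    rintro w (rfl | rfl | rfl | rfl)
    exacts [one_mul 1, ha, hb, mul_sq ha hb hab]
  refine ⟨W, ⟨⟨⟨fun u v => Subtype.ext ?_⟩⟩, fun w hw => by rw [pow_two]; exact hsq w hw⟩,
    Or.inr (Or.inl rfl), Or.inr (Or.inr (Or.inl rfl)), ?_, fun w hw => hw, ?_⟩
  · have h := hsq _ (u * v).2
    simp only [coe_mul] at h ⊢
    rw [mul_eq_one_iff_eq_inv] at h
    rw [h, mul_inv_rev, inv_eq_of_mul_eq_one_right (hsq _ v.2), inv_eq_of_mul_eq_one_right (hsq _ u.2)]
  · classical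
    have hab1 : a * b ≠ 1 := fun h => hne ((mul_eq_one_iff_eq_inv.mp h).trans (inv_eq_of_mul_eq_one_right hb))
    have hsub : (({1, a, b, a * b} : Finset G) : Set G) ⊆ (W : Set G) := by
      intro w hw
      have h' : w = 1 ∨ w = a ∨ w = b ∨ w = a * b := by simpa using hw
      exact h'
    have h := Set.ncard_le_ncard hsub (Set.toFinite _)
    rw [Set.ncard_coe_finset, ← Nat.card_coe_set_eq] at h
    refine le_trans (le_of_eq ?_) h
    rw [Finset.card_insert_of_notMem (by simp [ha1.symm, hb1.symm, hab1.symm]),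
      Finset.card_insert_of_notMem (by simp [hne, hb1]),
      Finset.card_insert_of_notMem (by simp [ha1]), Finset.card_singleton]
  · rintro K haK hbK w (rfl | rfl | rfl | rfl)
    exacts [one_mem K, haK, hbK, mul_mem haK hbK]

/-- Generation of a `p`-group by the centralisers of the involutions of a four group. -/
theorem gen_four (hp2 : p ≠ 2) {Y T : Subgroup G} (hY : IsPGroup p Y) {a b : G} (ha : a * a = 1)
    (hb : b * b = 1) (hab : Commute a b) (haY : a ∈ normalizer (Y : Set G)) (hbY : b ∈ normalizer (Y : Set G))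
    (ha1 : a ≠ 1) (hb1 : b ≠ 1) (hne : a ≠ b) (h1 : ∀ d ∈ Y, Commute a d → d ∈ T)
    (h2 : ∀ d ∈ Y, Commute b d → d ∈ T) (h3 : ∀ d ∈ Y, Commute (a * b) d → d ∈ T) : Y ≤ T := by
  obtain ⟨W, hW, -, -, hW4, hWmem, hWmin⟩ := exists_fourgroup ha hb hab ha1 hb1 hne
  have hW1 : W ≠ ⊥ := fun e => by rw [e, card_bot] at hW4; omega
  have hYodd : ¬ 2 ∣ Nat.card Y := by
    obtain ⟨k, hk⟩ := IsPGroup.iff_card.mp hY
    rw [hk]; intro h
    exact hp2 ((Nat.prime_dvd_prime_iff_eq Nat.prime_two hp.out).mp (Nat.prime_two.dvd_of_dvd_pow h)).symm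
  refine Grp.le_of_hyperplanes (p := 2) hW hW1 Y hYodd (hWmin _ haY hbY) fun E hE hi d hd => ?_
  have hE1 : E ≠ ⊥ := Grp.ne_bot_of_relIndex (p := 2) (by simpa using hW4) hi
  obtain ⟨e, he, he1⟩ := (bot_or_exists_ne_one E).resolve_left hE1
  have hc : Commute e d := mem_centralizer_iff.mp hd.2 e he
  rcases hWmem e (hE he) with rfl | rfl | rfl | rfl
  exacts [absurd rfl he1, h1 d hd.1 hc, h2 d hd.1 hc, h3 d hd.1 hc]

omit [Finite G] hp in
theorem normalizer_inf_cz {Y : Subgroup G} {g u : G} (hg : g ∈ normalizer (Y : Set G)) (hgu : Commute u g) :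
    g ∈ normalizer ((Y ⊓ centralizer ({u} : Set G) : Subgroup G) : Set G) :=
  Grp.le_normalizer_inf' (Subgroup.zpowers_le.mpr hg)
    ((Subgroup.zpowers_le.mpr (mem_cz.mpr hgu)).trans le_normalizer) (mem_zpowers g)

/-- One of `g`, `j * g` has a fixed-point subgroup moved by `j`. -/
theorem split (hp2 : p ≠ 2) {Y : Subgroup G} (hY : IsPGroup p Y) {j g : G} (hj : j * j = 1)
    (hg : g * g = 1) (hjg : Commute j g) (hjY : j ∈ normalizer (Y : Set G)) (hgY : g ∈ normalizer (Y : Set G))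
    (hmov : ∃ d ∈ Y, ¬ Commute j d) :
    ∃ u, (u = g ∨ u = j * g) ∧ ∃ d ∈ Y, Commute u d ∧ ¬ Commute j d := by
  obtain ⟨d, hd, hjd⟩ := hmov
  by_cases hg1 : g = 1
  · exact ⟨g, Or.inl rfl, d, hd, hg1 ▸ Commute.one_left d, hjd⟩
  by_cases hgj : j = g
  · exact ⟨j * g, Or.inr rfl, d, hd, by rw [← hgj, hj]; exact Commute.one_left d, hjd⟩
  have hj1 : j ≠ 1 := fun h => hjd (h ▸ Commute.one_left d)
  by_contra hno
  push Not at hno
  exact hjd (mem_cz.mp (gen_four hp2 (T := centralizer ({j} : Set G)) hY hj hg hjg hjY hgY hj1 hg1 hgj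
    (fun e _ h => mem_cz.mpr h) (fun e he h => mem_cz.mpr (hno g (Or.inl rfl) e he h))
    (fun e he h => mem_cz.mpr (hno (j * g) (Or.inr rfl) e he h)) hd))

/-- The fixed points of a non-trivial element of `O₂(C(j))` are moved by `j`. -/
theorem forced (hp2 : p ≠ 2) {j f : G} {U K D : Subgroup G} (hU : Two j U) (hD : Det p K D)
    (hjK : j ∈ centralizer (K : Set G)) (hfK : f ∈ centralizer (K : Set G)) (hfU : f ∈ U) (hf : f * f = 1)
    (hf1 : f ≠ 1) (hfj : f ≠ j) : ∃ d ∈ D, Commute f d ∧ ¬ Commute j d := by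
  by_contra hno
  push Not at hno
  have hjf : Commute j f := mem_cz.mp (hU.le hfU)
  have h : D ≤ centralizer ({j * f} : Set G) := by
    refine gen_four hp2 hD.pgrp hU.sq hf hjf (hD.norm hjK) (hD.norm hfK) hU.ne hf1 (Ne.symm hfj) ?_ ?_ ?_
    · exact fun d hd hc => mem_cz.mpr (hc.mul_left (hU.comm hp2 hD hfU hfK hd hc))
    · exact fun d hd hc => mem_cz.mpr ((hno d hd hc).mul_left hc)
    · exact fun d hd hc => mem_cz.mpr hc
  have h1 := hD.faith (j * f) (mul_mem hjK hfK) (coprime_sq hp2 (mul_sq hU.sq hf hjf))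
    fun x hx => (mem_cz.mp (h hx)).eq
  exact hfj ((inv_eq_of_mul_eq_one_right h1).symm.trans (inv_eq_of_mul_eq_one_right hU.sq))

omit [Finite G] hp in
/-- The element inverted by `j` attached to a moved element. -/
theorem inv_elem {j d : G} (hj : j * j = 1) (hjd : ¬ Commute j d) {Y : Subgroup G} (hd : d ∈ Y)
    (hjY : j ∈ normalizer (Y : Set G)) :
    d⁻¹ * (j * d * j) ∈ Y ∧ j * (d⁻¹ * (j * d * j)) * j = (d⁻¹ * (j * d * j))⁻¹ ∧ d⁻¹ * (j * d * j) ≠ 1 := by
  refine ⟨mul_mem (inv_mem hd) ?_, conj_involution hj, fun h => hjd ((commute_iff_conj hj).mpr ?_)⟩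
  · rw [← conj_eq hj]; exact (mem_normalizer_iff.mp hjY d).mp hd
  · exact (inv_mul_eq_one.mp h).symm

omit [Finite G] hp in
theorem conj_mul {g h x : G} (hgh : Commute g h) : g * h * x * (g * h) = g * (h * x * h) * g := by
  conv_lhs => arg 2; rw [hgh.eq]
  simp only [mul_assoc]

omit [Finite G] hp in
theorem conj_inv {g x : G} (hg : g * g = 1) : g * x⁻¹ * g = (g * x * g)⁻¹ := by
  rw [mul_inv_rev, mul_inv_rev, inv_eq_of_mul_eq_one_right hg, mul_assoc]

omit [Finite G] hp in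
theorem conj_trans {g m x y n : G} (hn : n = g * m * g⁻¹) (h : m * x * m = y) :
    n * (g * x * g⁻¹) * n = g * y * g⁻¹ := by
  rw [hn, ← h]; group

/-- The subgroup `D` exists. -/
theorem exists_det (hp2 : p ≠ 2) (hloc : Cfsg.IsOfLocalCharacteristic p G) {K : Subgroup G}
    (hK : Cfsg.IsElementaryAbelian p K) (hK1 : K ≠ ⊥) : ∃ D, Det p K D := by
  have hKp := Grp.elemAb_isPGroup hK
  obtain ⟨P, hP⟩ : ∃ P, P = Cfsg.pCoreOf p (centralizer (K : Set G)) := ⟨_, rfl⟩
  have hC := lg_charP_iff.mp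
    (CpLocal.centralizer_charP hKp le_normalizer (centralizer_le_normalizer _) (hloc.2 K hKp hK1))
  rw [← hP] at hC
  have hPp : IsPGroup p P := hP ▸ lg_isPGroup_pCoreOf _
  have hPle : P ≤ centralizer (K : Set G) := hP ▸ lg_pCoreOf_le _
  have hCP : centralizer (K : Set G) ≤ normalizer (P : Set G) := hP ▸ lg_le_normalizer_pCoreOf _
  obtain ⟨D, hDP, hDn, hexp, hcls, hdet⟩ := exists_detect hp2 P hPp
  refine ⟨D, hDP.trans hPle, hCP.trans hDn, hPp.to_le hDP, hexp, hcls, fun g hg hco hfix => ?_⟩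
  refine eq_one_of_coprime_of_mem hPp (hC ⟨hg, mem_centralizer_iff.mpr fun x hx => ?_⟩) hco
  exact (hdet g (hCP hg) hco hfix x hx).symm

/-- A four group centralising `K` extends the rank in the centraliser of an involution. -/
theorem extend_four (hp2 : p ≠ 2) (hloc : Cfsg.IsOfLocalCharacteristic p G) {K : Subgroup G}
    (hK : Cfsg.IsElementaryAbelian p K) (hK1 : K ≠ ⊥) {a b : G} (ha : a * a = 1) (hb : b * b = 1)
    (hab : Commute a b) (ha1 : a ≠ 1) (hb1 : b ≠ 1) (hne : a ≠ b) (haK : a ∈ centralizer (K : Set G))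
    (hbK : b ∈ centralizer (K : Set G)) :
    ∃ (u : G) (E : Subgroup G), u * u = 1 ∧ u ≠ 1 ∧ Cfsg.IsElementaryAbelian p E ∧
      E ≤ centralizer ({u} : Set G) ∧ p * Nat.card K ≤ Nat.card E := by
  obtain ⟨D, hD⟩ := exists_det hp2 hloc hK hK1
  have hmov : ∃ d ∈ D, ¬ Commute a d := by
    by_contra hno
    push Not at hno
    exact ha1 (hD.faith a haK (coprime_sq hp2 ha) fun x hx => (hno x hx).eq)
  obtain ⟨u, hu, d, hd, hud, had⟩ := split hp2 hD.pgrp ha hb hab (hD.norm haK) (hD.norm hbK) hmov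
  have hu2 : u * u = 1 ∧ u ≠ 1 ∧ u ∈ centralizer (K : Set G) ∧ Commute u a := by
    rcases hu with rfl | rfl
    · exact ⟨hb, hb1, hbK, hab.symm⟩
    · refine ⟨mul_sq ha hb hab, fun h => hne ?_, mul_mem haK hbK, (Commute.refl a).mul_left hab.symm⟩
      exact (inv_eq_of_mul_eq_one_right ha).symm.trans (inv_eq_of_mul_eq_one_right h)
  obtain ⟨x, hx⟩ : ∃ x, x = d⁻¹ * (a * d * a) := ⟨_, rfl⟩
  obtain ⟨hxD, hxi, hx1⟩ := inv_elem ha had (Y := D ⊓ centralizer ({u} : Set G)) ⟨hd, mem_cz.mpr hud⟩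
    (normalizer_inf_cz (hD.norm haK) hu2.2.2.2)
  rw [← hx] at hxD hxi hx1
  have hxK : x ∉ K := not_mem_of_inverts hp2 ha
    (fun e he => (mem_centralizer_iff.mp haK e he).symm) hxi (hD.exp x hxD.1) hx1
  obtain ⟨E, hE, -, -, hcard, hmin⟩ := exists_extend hK
    (fun e he => mem_centralizer_iff.mp (hD.le hxD.1) e he) (hD.exp x hxD.1) hxK
  refine ⟨u, E, hu2.1, hu2.2.1, hE, hmin _ (fun e he => mem_cz.mpr ?_) hxD.2, hcard⟩
  exact (mem_centralizer_iff.mp hu2.2.2.1 e he).symm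

/-- Some involution centralises an elementary group of largest rank. -/
theorem exists_centralised (hp2 : p ≠ 2) (hloc : Cfsg.IsOfLocalCharacteristic p G) {r : ℕ} (hr : 2 ≤ r)
    (hmax : Cfsg.TwoLocalPRankLE p r G) {A : Subgroup G} (hA : Cfsg.IsElementaryAbelian p A)
    (hAr : Nat.card A = p ^ r) {T : Subgroup G} (hT : IsPGroup 2 T) (hT1 : T ≠ ⊥)
    (hAT : A ≤ normalizer (T : Set G)) :
    ∃ (i : G) (E : Subgroup G), i * i = 1 ∧ i ≠ 1 ∧ Cfsg.IsElementaryAbelian p E ∧ Nat.card E = p ^ r ∧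
      E ≤ centralizer ({i} : Set G) := by
  let V : Subgroup G :=
    { carrier := {x | x ∈ T ∧ x * x = 1 ∧ ∀ y ∈ T, Commute x y}
      one_mem' := ⟨one_mem _, one_mul 1, fun y _ => Commute.one_left y⟩
      mul_mem' := fun {x y} hx hy => ⟨mul_mem hx.1 hy.1, mul_sq hx.2.1 hy.2.1 (hx.2.2 y hy.1),
        fun z hz => (hx.2.2 z hz).mul_left (hy.2.2 z hz)⟩
      inv_mem' := fun {x} hx => ⟨inv_mem hx.1, by rw [← mul_inv_rev, hx.2.1, inv_one],
        fun z hz => (hx.2.2 z hz).inv_left⟩ }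
  obtain ⟨v0, hv0, hv01⟩ : ∃ v ∈ V, v ≠ 1 := by
    haveI : Nontrivial T := (nontrivial_iff_ne_bot T).mpr hT1
    haveI := hT.center_nontrivial
    obtain ⟨k, hk, hk'⟩ := (hT.to_subgroup (center ↥T)).nontrivial_iff_card.mp inferInstance
    obtain ⟨c, hc⟩ := exists_prime_orderOf_dvd_card' 2 (G := ↥(center ↥T)) (hk' ▸ dvd_pow_self 2 hk.ne')
    refine ⟨((c : ↥T) : G), ⟨(c : ↥T).2, ?_, fun y hy => ?_⟩, ?_⟩
    · have h := pow_orderOf_eq_one c
      rw [hc, pow_two] at h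
      simpa using congrArg (fun z : ↥(center ↥T) => ((z : ↥T) : G)) h
    · exact (congrArg T.subtype (mem_center_iff.mp c.2 ⟨y, hy⟩)).symm
    · intro h
      rw [show c = 1 from Subtype.ext (Subtype.ext h), orderOf_one] at hc
      omega
  by_cases hfix : ∃ v ∈ V, v ≠ 1 ∧ A ≤ centralizer ({v} : Set G)
  · obtain ⟨v, hv, hv1, hAv⟩ := hfix
    exact ⟨v, A, hv.2.1, hv1, hA, hAr, hAv⟩
  push Not at hfix
  have hA1 : A ≠ ⊥ := Grp.ne_bot_of_card (n := r) (by omega) hAr.ge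
  have hAV : A ≤ normalizer (V : Set G) := fun g hg => mem_normalizer_fintype fun x hx => by
    have hgT := mem_normalizer_iff.mp (hAT hg)
    refine ⟨(hgT x).mp hx.1, ?_, fun y hy => ?_⟩
    · rw [show g * x * g⁻¹ * (g * x * g⁻¹) = g * (x * x) * g⁻¹ by group, hx.2.1]; group
    · have hy' : g⁻¹ * y * g ∈ T := by
        simpa using (mem_normalizer_iff.mp (inv_mem (hAT hg)) y).mp hy
      have h := (hx.2.2 _ hy').eq
      calc g * x * g⁻¹ * y = g * (x * (g⁻¹ * y * g)) * g⁻¹ := by group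
        _ = g * ((g⁻¹ * y * g) * x) * g⁻¹ := by rw [h]
        _ = y * (g * x * g⁻¹) := by group
  have hV2 : IsPGroup 2 V := hT.to_le fun x hx => hx.1
  have hVodd : ¬ p ∣ Nat.card V := by
    obtain ⟨k, hk⟩ := IsPGroup.iff_card.mp hV2
    rw [hk]; intro h
    exact hp2 ((Nat.prime_dvd_prime_iff_eq hp.out Nat.prime_two).mp (hp.out.dvd_of_dvd_pow h))
  obtain ⟨B, hB, hi, v, hv, hv1⟩ : ∃ B ≤ A, B.relIndex A = p ∧ ∃ v ∈ V ⊓ centralizer (B : Set G), v ≠ 1 := by
    by_contra hno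
    push Not at hno
    exact hv01 (mem_bot.mp (Grp.le_of_hyperplanes hA hA1 V hVodd hAV
      (fun B hB hi x hx => mem_bot.mpr (hno B hB hi x hx)) hv0))
  obtain ⟨a, ha, hav⟩ : ∃ a ∈ A, ¬ Commute v a := by
    obtain ⟨a, ha, hav⟩ := SetLike.not_le_iff_exists.mp (hfix v hv.1 hv1)
    exact ⟨a, ha, fun h => hav (mem_cz.mpr h)⟩
  have haB : a ∈ centralizer (B : Set G) :=
    mem_centralizer_iff.mpr fun b hb => Grp.elemAb_comm hA b (hB hb) a ha
  have hw : a * v * a⁻¹ ∈ V := (mem_normalizer_iff.mp (hAV ha) v).mp hv.1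
  have hBcard : p * Nat.card B = p ^ r := by
    rw [← hAr, ← Grp.card_mul_relIndex hB, hi, mul_comm]
  have hB1 : B ≠ ⊥ := fun e => by
    rw [e, card_bot, mul_one] at hBcard
    have := Nat.pow_right_injective hp.out.two_le ((pow_one p).trans hBcard)
    omega
  obtain ⟨u, E, hu, hu1, hE, hEu, hcard⟩ := extend_four hp2 hloc (Grp.elemAb_mono hA hB) hB1 hv.1.2.1
    hw.2.1 (hv.1.2.2 _ hw.1) hv1 (fun h => hv1 (conj_eq_one_iff.mp h))
    (fun h => hav (by change v * a = a * v; nth_rewrite 1 [h]; group)) hv.2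
    (mul_mem (mul_mem haB hv.2) (inv_mem haB))
  exact ⟨u, E, hu, hu1, hE, le_antisymm (rank_bound hmax hu hu1 hE hEu) (hBcard ▸ hcard), hEu⟩

/-- The data attached to an involution. -/
theorem exists_two (hG2 : Cfsg.IsCharacteristicTwoType G) {j : G} (hj : j * j = 1) (hj1 : j ≠ 1) :
    ∃ U, Two j U := by
  have hord : orderOf j = 2 := orderOf_eq_prime (by rw [pow_two, hj]) hj1
  have hN : normalizer ((zpowers j : Subgroup G) : Set G) = centralizer ({j} : Set G) := by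
    refine le_antisymm (fun g hg => mem_cz.mpr ?_) ?_
    · obtain ⟨k, hk⟩ : g * j * g⁻¹ ∈ zpowers j := (mem_normalizer_iff.mp hg j).mp (mem_zpowers j)
      simp only at hk
      rcases Int.even_or_odd k with ⟨m, rfl⟩ | ⟨m, rfl⟩
      · rw [← two_mul, zpow_mul, zpow_two, hj, one_zpow] at hk
        exact absurd (conj_eq_one_iff.mp hk.symm) hj1
      · rw [zpow_add_one, zpow_mul, zpow_two, hj, one_zpow, one_mul] at hk
        exact (mul_inv_eq_iff_eq_mul.mp hk.symm).symm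
    · rw [Grp.centralizer_singleton_eq_zpowers]; exact centralizer_le_normalizer _
  have hT : IsPGroup 2 (zpowers j) := IsPGroup.iff_card.mpr ⟨1, by rw [Nat.card_zpowers, hord, pow_one]⟩
  have hch := hG2.2 (zpowers j) hT (zpowers_ne_bot.mpr hj1)
  rw [hN] at hch
  refine ⟨Cfsg.pCoreOf 2 (centralizer ({j} : Set G)), hj, hj1, lg_isPGroup_pCoreOf _, lg_pCoreOf_le _,
    lg_le_normalizer_pCoreOf _, ?_, lg_charP_iff.mp hch⟩
  exact lg_le_pCoreOf (zpowers_le.mpr (mem_cz.mpr (Commute.refl j))) (hN ▸ le_rfl) hT (mem_zpowers j)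

/-- Too large an elementary group in the centraliser of an involution. -/
theorem too_big {r m : ℕ} (hmax : Cfsg.TwoLocalPRankLE p r G) {E : Subgroup G}
    (hE : Cfsg.IsElementaryAbelian p E) {h : G} (hh : h * h = 1) (hh1 : h ≠ 1)
    (hEh : E ≤ centralizer ({h} : Set G)) (hrm : r < m) (hcard : p ^ m ≤ Nat.card E) : False :=
  absurd (hcard.trans (rank_bound hmax hh hh1 hE hEh))
    (not_le.mpr (Nat.pow_lt_pow_right hp.out.one_lt hrm))

/-- The centraliser of `A` contains one involution only. -/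
theorem only_involution (hp2 : p ≠ 2) (hloc : Cfsg.IsOfLocalCharacteristic p G) {r : ℕ} (hr : r ≠ 0)
    (hmax : Cfsg.TwoLocalPRankLE p r G) {A : Subgroup G} (hA : Cfsg.IsElementaryAbelian p A)
    (hAr : Nat.card A = p ^ r) {j x : G} (hj : j * j = 1) (hj1 : j ≠ 1) (hjA : A ≤ centralizer ({j} : Set G))
    (hx : x * x = 1) (hxA : x ∈ centralizer (A : Set G)) (hjx : Commute j x) : x = 1 ∨ x = j := by
  by_contra hne
  push Not at hne
  obtain ⟨u, E, hu, hu1, hE, hEu, hcard⟩ := extend_four hp2 hloc hA (Grp.ne_bot_of_card hr hAr.ge)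
    hj hx hjx hj1 hne.1 (Ne.symm hne.2) (mem_centralizer_iff.mpr fun a ha => ((mem_cz.mp (hjA ha)).eq).symm) hxA
  rw [hAr] at hcard
  exact too_big (m := r + 1) hmax hE hu hu1 hEu (by omega) (by rwa [pow_succ, mul_comm])

/-- No elementary group of order eight in `O₂(C(j))` centralises a hyperplane. -/
theorem no_eight (hp2 : p ≠ 2) {r : ℕ} (hr : 1 ≤ r) (hmax : Cfsg.TwoLocalPRankLE p r G) {j : G}
    {U K D F : Subgroup G} (hU : Two j U) (hK : Cfsg.IsElementaryAbelian p K)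
    (hKr : Nat.card K = p ^ (r - 1)) (hD : Det p K D) (hF : Cfsg.IsElementaryAbelian 2 F) (hFU : F ≤ U)
    (hFK : F ≤ centralizer (K : Set G)) (hjF : j ∈ F) (hF8 : 8 ≤ Nat.card F) : False := by
  classical
  have hc : ∀ a ∈ F, ∀ b ∈ F, Commute a b := Grp.elemAb_comm hF
  have hsq : ∀ a ∈ F, a * a = 1 := fun a ha => by simpa [pow_two] using hF.2 a ha
  have hex : ∀ s : Finset G, s.card < 8 → ∃ a ∈ F, a ∉ s := fun s hs => by
    by_contra hno
    push Not at hno
    have h := Set.ncard_le_ncard (show (F : Set G) ⊆ (s : Set G) from fun a ha => hno a ha) s.finite_toSet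
    rw [← Nat.card_coe_set_eq, Set.ncard_coe_finset] at h
    exact absurd (hF8.trans h) (by omega)
  obtain ⟨f, hf, hfne⟩ := hex {1, j} (by
    exact lt_of_le_of_lt Finset.card_le_two (by omega))
  obtain ⟨g, hg, hgne⟩ := hex {1, j, f, j * f} (by
    exact lt_of_le_of_lt Finset.card_le_four (by omega))
  simp only [Finset.mem_insert, Finset.mem_singleton, not_or] at hfne hgne
  have hjK := hFK hjF
  have hjn := hD.norm hjK
  -- the first element
  have hmov := forced hp2 hU hD hjK (hFK hf) (hFU hf) (hsq f hf) hfne.1 hfne.2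
  obtain ⟨u, hu, d, hd, hud, hjd⟩ := split hp2 (hD.pgrp.to_le inf_le_left) hU.sq (hsq g hg) (hc j hjF g hg)
    (normalizer_inf_cz hjn (hc f hf j hjF)) (normalizer_inf_cz (hD.norm (hFK hg)) (hc f hf g hg))
    (Y := D ⊓ centralizer ({f} : Set G))
    (let ⟨d, hd, h1, h2⟩ := hmov; ⟨d, ⟨hd, mem_cz.mpr h1⟩, h2⟩)
  have hu' : u ∈ F ∧ u ≠ 1 ∧ u ≠ f := by
    rcases hu with rfl | rfl
    · exact ⟨hg, hgne.1, hgne.2.2.1⟩
    · refine ⟨mul_mem hjF hg, fun h => hgne.2.1 ?_, fun h => hgne.2.2.2 ?_⟩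
      · exact (inv_eq_of_mul_eq_one_right h).symm.trans (inv_eq_of_mul_eq_one_right hU.sq)
      · rw [← h, ← mul_assoc, hU.sq, one_mul]
  obtain ⟨x, hx⟩ : ∃ x, x = d⁻¹ * (j * d * j) := ⟨_, rfl⟩
  obtain ⟨⟨⟨hxD, hxf⟩, hxu⟩, hxj, hx1⟩ := inv_elem hU.sq hjd
    (Y := D ⊓ centralizer ({f} : Set G) ⊓ centralizer ({u} : Set G)) ⟨hd, mem_cz.mpr hud⟩
    (normalizer_inf_cz (normalizer_inf_cz hjn (hc f hf j hjF)) (hc u hu'.1 j hjF))
  rw [← hx] at hxD hxf hxu hxj hx1
  -- the second element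
  obtain ⟨v, hv⟩ : ∃ v, v = j * f := ⟨_, rfl⟩
  have hvF : v ∈ F := hv ▸ mul_mem hjF hf
  have hmov' := forced hp2 hU hD hjK (hFK hvF) (hFU hvF) (hsq v hvF)
    (fun h => hfne.2 ((inv_eq_of_mul_eq_one_right (hv ▸ h)).symm.trans (inv_eq_of_mul_eq_one_right hU.sq)))
    (fun h => hfne.1 (by rwa [hv, mul_eq_left] at h))
  obtain ⟨w, hw, d', hd', hwd, hjd'⟩ := split hp2 (hD.pgrp.to_le inf_le_left) hU.sq (hsq u hu'.1) (hc j hjF u hu'.1)
    (normalizer_inf_cz hjn (hc v hvF j hjF)) (normalizer_inf_cz (hD.norm (hFK hu'.1)) (hc v hvF u hu'.1))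
    (Y := D ⊓ centralizer ({v} : Set G))
    (let ⟨d, hd, h1, h2⟩ := hmov'; ⟨d, ⟨hd, mem_cz.mpr h1⟩, h2⟩)
  have hwF : w ∈ F := by rcases hw with rfl | rfl; exacts [hu'.1, mul_mem hjF hu'.1]
  obtain ⟨y, hy⟩ : ∃ y, y = d'⁻¹ * (j * d' * j) := ⟨_, rfl⟩
  obtain ⟨⟨⟨hyD, hyv⟩, hyw⟩, hyj, hy1⟩ := inv_elem hU.sq hjd'
    (Y := D ⊓ centralizer ({v} : Set G) ⊓ centralizer ({w} : Set G)) ⟨hd', mem_cz.mpr hwd⟩
    (normalizer_inf_cz (normalizer_inf_cz hjn (hc v hvF j hjF)) (hc w hwF j hjF))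
  rw [← hy] at hyD hyv hyw hyj hy1
  have hfy : f * y * f = y⁻¹ := by
    rw [show f = j * v by rw [hv, ← mul_assoc, hU.sq, one_mul], conj_mul (hc j hjF v hvF),
      (commute_iff_conj (hsq v hvF)).mp (mem_cz.mp hyv), hyj]
  have hxy : Commute x y := comm_signs hp2 hD hU.sq (hsq f hf) hxD hyD hxj hyj (mem_cz.mp hxf) hfy
    fun e he h => hU.comm hp2 hD (hFU hf) (hFK hf) he h
  obtain ⟨h, hhF, hh1, hhx, hhy⟩ : ∃ h ∈ F, h ≠ 1 ∧ Commute h x ∧ Commute h y := by
    rcases hw with rfl | rfl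
    · exact ⟨w, hu'.1, hu'.2.1, mem_cz.mp hxu, mem_cz.mp hyw⟩
    · refine ⟨f * u, mul_mem hf hu'.1, fun h => hu'.2.2 ?_, (mem_cz.mp hxf).mul_left (mem_cz.mp hxu), ?_⟩
      · exact (inv_eq_of_mul_eq_one_right h).symm.trans (inv_eq_of_mul_eq_one_right (hsq f hf))
      · rw [commute_iff_conj (hsq _ (mul_mem hf hu'.1)), conj_mul (hc f hf u hu'.1),
          show u = j * (j * u) by rw [← mul_assoc, hU.sq, one_mul], conj_mul (hc j hjF _ hwF),
          (commute_iff_conj (hsq _ hwF)).mp (mem_cz.mp hyw), hyj, conj_inv (hsq f hf), hfy, inv_inv]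
  have hxK : x ∉ K := not_mem_of_inverts hp2 hU.sq
    (fun e he => (mem_centralizer_iff.mp hjK e he).symm) hxj (hD.exp x hxD) hx1
  obtain ⟨E1, hE1, -, -, hcard1, hmin1⟩ := exists_extend hK
    (fun e he => mem_centralizer_iff.mp (hD.le hxD) e he) (hD.exp x hxD) hxK
  have hfE1 : E1 ≤ centralizer ({f} : Set G) :=
    hmin1 _ (fun e he => mem_cz.mpr (mem_centralizer_iff.mp (hFK hf) e he).symm) hxf
  have hyE1 : y ∉ E1 := not_mem_of_inverts hp2 (hsq f hf) (fun e he => mem_cz.mp (hfE1 he)) hfy (hD.exp y hyD) hy1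
  have hE1y : E1 ≤ centralizer ({y} : Set G) :=
    hmin1 _ (fun e he => mem_cz.mpr (mem_centralizer_iff.mp (hD.le hyD) e he).symm) (mem_cz.mpr hxy.symm)
  obtain ⟨E2, hE2, -, -, hcard2, hmin2⟩ := exists_extend hE1
    (fun e he => ((mem_cz.mp (hE1y he)).eq).symm) (hD.exp y hyD) hyE1
  refine too_big (m := r + 1) hmax hE2 (hsq h hhF) hh1
    (hmin2 _ (hmin1 _ (fun e he => mem_cz.mpr (mem_centralizer_iff.mp (hFK hhF) e he).symm) (mem_cz.mpr hhx))
      (mem_cz.mpr hhy)) (by omega) ?_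
  calc p ^ (r + 1) = p * (p * p ^ (r - 1)) := by rw [← pow_succ', ← pow_succ', show r - 1 + 1 = r by omega]
    _ ≤ p * Nat.card E1 := Nat.mul_le_mul_left _ (hKr ▸ hcard1)
    _ ≤ _ := hcard2

/-- Two pairs exchanged by `t` give three independent commuting elements in the centraliser of an involution. -/
theorem no_exchange (hp2 : p ≠ 2) {r : ℕ} (hr : 2 ≤ r) (hmax : Cfsg.TwoLocalPRankLE p r G) {j : G}
    {U K D : Subgroup G} (hU : Two j U) (hK : Cfsg.IsElementaryAbelian p K)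
    (hKr : Nat.card K = p ^ (r - 2)) (hD : Det p K D) {a b a' b' t : G}
    (ha : a ∈ U ⊓ centralizer (K : Set G)) (hb : b ∈ U ⊓ centralizer (K : Set G))
    (ha' : a' ∈ U ⊓ centralizer (K : Set G)) (hb' : b' ∈ U ⊓ centralizer (K : Set G))
    (htK : t ∈ centralizer (K : Set G)) (ht : t * t = 1) (hjt : Commute j t)
    (haa : a * a = j) (hbb : b * b = j) (hta : t * a * t = a') (htb : t * b * t = b')
    (c1 : Commute a a') (c2 : Commute a b') (c3 : Commute b a') (c4 : Commute b b')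
    (hab : a * b * a⁻¹ = b * j) : False := by
  have hjU : ∀ z ∈ U, Commute j z := fun z hz => mem_cz.mp (hU.le hz)
  have hjK : j ∈ centralizer (K : Set G) := haa ▸ mul_mem ha.2 ha.2
  have hjb : b * j ≠ b := fun h => hU.ne (by rwa [mul_eq_left] at h)
  have hbe : b * a * b⁻¹ = a * j := by
    have h : a * b = b * j * a := mul_inv_eq_iff_eq_mul.mp hab
    rw [mul_inv_eq_iff_eq_mul, mul_assoc a j b, (hjU b hb.1).eq, ← mul_assoc, h,
      mul_assoc b j a, (hjU a ha.1).eq, mul_assoc b, mul_assoc, hU.sq, mul_one]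
  have haa' : a' * a' = j := by
    rw [← hta, show t * a * t * (t * a * t) = t * a * (t * t) * a * t by group, ht, mul_one, mul_assoc t a a, haa,
      hjt.symm.eq, mul_assoc, ht, mul_one]
  have hbb' : b' * b' = j := by
    rw [← htb, show t * b * t * (t * b * t) = t * b * (t * t) * b * t by group, ht, mul_one, mul_assoc t b b, hbb,
      hjt.symm.eq, mul_assoc, ht, mul_one]
  have hta' : t * a' * t = a := by rw [← hta, show t * (t * a * t) * t = (t * t) * a * (t * t) by group, ht, one_mul, mul_one]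
  have htb' : t * b' * t = b := by rw [← htb, show t * (t * b * t) * t = (t * t) * b * (t * t) by group, ht, one_mul, mul_one]
  have hab' : a' * b' * a'⁻¹ = b' * j := by
    have ht' : t⁻¹ = t := inv_eq_of_mul_eq_one_right ht
    calc a' * b' * a'⁻¹ = (t * a * t⁻¹) * (t * b * t⁻¹) * (t * a * t⁻¹)⁻¹ := by rw [ht', hta, htb]
      _ = t * (a * b * a⁻¹) * t⁻¹ := by group
      _ = t * b * t⁻¹ * (t * j * t⁻¹) := by rw [hab]; group
      _ = b' * j := by rw [ht', htb, (commute_iff_conj ht).mp hjt.symm]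
  have hne : a ≠ a' := fun h => hjb (by
    rw [← hab]; nth_rewrite 1 [h]; rw [h, (c3.symm).eq, mul_inv_cancel_right])
  have ht1 : t ≠ 1 := fun h => hne (by rw [← hta, h, one_mul, mul_one])
  have htj : t ≠ j := fun h => hne (by rw [← hta, h]; exact ((commute_iff_conj hU.sq).mp (hjU a ha.1)).symm)
  obtain ⟨f1, hf1⟩ : ∃ f, f = a * a' := ⟨_, rfl⟩
  obtain ⟨f2, hf2⟩ : ∃ f, f = b * b' := ⟨_, rfl⟩
  have hf1U : f1 ∈ U := hf1 ▸ mul_mem ha.1 ha'.1
  have hf2U : f2 ∈ U := hf2 ▸ mul_mem hb.1 hb'.1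
  have hf1K : f1 ∈ centralizer (K : Set G) := hf1 ▸ mul_mem ha.2 ha'.2
  have hf2K : f2 ∈ centralizer (K : Set G) := hf2 ▸ mul_mem hb.2 hb'.2
  have hf1s : f1 * f1 = 1 := by
    rw [hf1, ← pow_two, c1.mul_pow, pow_two, pow_two, haa, haa', hU.sq]
  have hf2s : f2 * f2 = 1 := by
    rw [hf2, ← pow_two, c4.mul_pow, pow_two, pow_two, hbb, hbb', hU.sq]
  have haf1 : Commute a f1 := hf1 ▸ (Commute.refl a).mul_right c1
  have hbf2 : Commute b f2 := hf2 ▸ (Commute.refl b).mul_right c4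
  have haf2 : a * f2 * a⁻¹ = f2 * j := by
    rw [hf2, show a * (b * b') * a⁻¹ = (a * b * a⁻¹) * (a * b' * a⁻¹) by group, hab, c2.eq, mul_inv_cancel_right,
      mul_assoc b, (hjU b' hb'.1).eq, mul_assoc]
  have hbf1 : b * f1 * b⁻¹ = f1 * j := by
    rw [hf1, show b * (a * a') * b⁻¹ = (b * a * b⁻¹) * (b * a' * b⁻¹) by group, hbe, c3.eq, mul_inv_cancel_right,
      mul_assoc a, (hjU a' ha'.1).eq, mul_assoc]
  have hf12 : Commute f1 f2 := by
    have h1 : f1 * f2 * f1⁻¹ = f2 := by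
      rw [show f1 * f2 * f1⁻¹ = a * (a' * b * a'⁻¹) * (a' * b' * a'⁻¹) * a⁻¹ by rw [hf1, hf2]; group,
        (c3.symm).eq, mul_inv_cancel_right, hab',
        show a * b * (b' * j) * a⁻¹ = (a * (b * b') * a⁻¹) * (a * j * a⁻¹) by group, ← hf2, haf2,
        (hjU a ha.1).symm.eq, mul_inv_cancel_right, mul_assoc, hU.sq, mul_one]
    exact mul_inv_eq_iff_eq_mul.mp h1
  have htf1 : Commute t f1 := (commute_iff_conj ht).mpr (by
    rw [hf1, show t * (a * a') * t = t * a * (t * t) * a' * t by rw [ht]; group,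
      show t * a * (t * t) * a' * t = (t * a * t) * (t * a' * t) by group, hta, hta', c1.eq])
  have htf2 : Commute t f2 := (commute_iff_conj ht).mpr (by
    rw [hf2, show t * (b * b') * t = t * b * (t * t) * b' * t by rw [ht]; group,
      show t * b * (t * t) * b' * t = (t * b * t) * (t * b' * t) by group, htb, htb', c4.eq])
  have hat : a * t * a⁻¹ = f1 * j * t := by
    have h1 : a'⁻¹ = a' * j := inv_eq_of_mul_eq_one_right (by rw [← mul_assoc, haa', hU.sq])
    rw [hf1, mul_assoc a a' j, ← h1, ← hta, mul_inv_rev, mul_inv_rev, inv_eq_of_mul_eq_one_right ht,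
      show a * (t * (a⁻¹ * t)) * t = a * t * a⁻¹ * (t * t) by group, ht, mul_one]
  have hbt : b * t * b⁻¹ = f2 * j * t := by
    have h1 : b'⁻¹ = b' * j := inv_eq_of_mul_eq_one_right (by rw [← mul_assoc, hbb', hU.sq])
    rw [hf2, mul_assoc b b' j, ← h1, ← htb, mul_inv_rev, mul_inv_rev, inv_eq_of_mul_eq_one_right ht,
      show b * (t * (b⁻¹ * t)) * t = b * t * b⁻¹ * (t * t) by group, ht, mul_one]
  have hjf1 : Commute j f1 := hjU f1 hf1U
  have hjf2 : Commute j f2 := hjU f2 hf2U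
  have hf11 : f1 ≠ 1 ∧ f1 ≠ j := by
    refine ⟨fun h => hjb ?_, fun h => hjb ?_⟩
    · have e : a' = a⁻¹ := (inv_eq_of_mul_eq_one_right (hf1 ▸ h)).symm
      have c : Commute b a := by simpa [e] using c3
      rw [← hab, c.symm.eq, mul_inv_cancel_right]
    · have e : a' = a := by
        have : a * a' = a * a := by rw [← hf1, h, haa]
        exact mul_left_cancel this
      rw [← hab, (e ▸ c3 : Commute b a).symm.eq, mul_inv_cancel_right]
  -- an element centralised by `f1`, `f2` and moved by `j`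
  have hjn := hD.norm hjK
  obtain ⟨d, hd, hdf1, hjd⟩ := forced hp2 hU hD hjK hf1K hf1U hf1s hf11.1 hf11.2
  obtain ⟨u, hu, d1, hd1, hud1, hjd1⟩ := split hp2 (hD.pgrp.to_le inf_le_left) hU.sq hf2s hjf2
    (normalizer_inf_cz hjn hjf1.symm) (normalizer_inf_cz (hD.norm hf2K) hf12)
    (Y := D ⊓ centralizer ({f1} : Set G)) ⟨d, ⟨hd, mem_cz.mpr hdf1⟩, hjd⟩
  obtain ⟨d2, hd2, hjd2⟩ : ∃ d2 ∈ D ⊓ centralizer ({f1} : Set G) ⊓ centralizer ({f2} : Set G), ¬ Commute j d2 := by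
    rcases hu with rfl | rfl
    · exact ⟨d1, ⟨hd1, mem_cz.mpr hud1⟩, hjd1⟩
    · have hja : Commute j a := hjU a ha.1
      refine ⟨a * d1 * a⁻¹, ⟨⟨(mem_normalizer_iff.mp (hD.norm ha.2) d1).mp hd1.1, mem_cz.mpr ?_⟩,
        mem_cz.mpr ?_⟩, fun h => hjd1 ?_⟩
      · exact (haf1.symm.mul_right (mem_cz.mp hd1.2)).mul_right haf1.symm.inv_right
      · have e : f2 = a * (j * f2) * a⁻¹ := by
          rw [show a * (j * f2) * a⁻¹ = (a * j * a⁻¹) * (a * f2 * a⁻¹) by group, hja.symm.eq,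
            mul_inv_cancel_right, haf2, hjf2.symm.eq, ← mul_assoc, hU.sq, one_mul]
        refine (commute_iff_conj hf2s).mpr (conj_trans e ((commute_iff_conj ?_).mp hud1))
        exact mul_sq hU.sq hf2s hjf2
      · have h' : Commute j (a⁻¹ * (a * d1 * a⁻¹) * a) := ((hja.inv_right).mul_right h).mul_right hja
        simpa [mul_assoc] using h'
  obtain ⟨v, hv, d3, hd3, hvd3, hjd3⟩ := split hp2
    ((hD.pgrp.to_le inf_le_left).to_le inf_le_left) hU.sq ht hjt
    (normalizer_inf_cz (normalizer_inf_cz hjn hjf1.symm) hjf2.symm)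
    (normalizer_inf_cz (normalizer_inf_cz (hD.norm htK) htf1.symm) htf2.symm)
    (Y := D ⊓ centralizer ({f1} : Set G) ⊓ centralizer ({f2} : Set G)) ⟨d2, hd2, hjd2⟩
  obtain ⟨w, hw⟩ : ∃ w, w = j * v := ⟨_, rfl⟩
  have hvt : Commute j v ∧ v * v = 1 := by
    rcases hv with rfl | rfl
    exacts [⟨hjt, ht⟩, ⟨(Commute.refl j).mul_right hjt, mul_sq hU.sq ht hjt⟩]
  have hwt : w = t ∨ w = j * t := by
    rcases hv with rfl | rfl
    · exact Or.inr hw
    · left; rw [hw, ← mul_assoc, hU.sq, one_mul]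
  have hwK : w ∈ centralizer (K : Set G) := by rcases hwt with rfl | rfl; exacts [htK, mul_mem hjK htK]
  have hws : w * w = 1 := hw ▸ mul_sq hU.sq hvt.2 hvt.1
  have hw1 : w ≠ 1 := by
    rcases hwt with rfl | rfl
    · exact ht1
    · exact fun h => htj ((inv_eq_of_mul_eq_one_right h).symm.trans (inv_eq_of_mul_eq_one_right hU.sq))
  have hjw : Commute j w := hw ▸ (Commute.refl j).mul_right hvt.1
  have hwf1 : Commute w f1 := by rcases hwt with rfl | rfl; exacts [htf1, hjf1.mul_left htf1]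
  have hwf2 : Commute w f2 := by rcases hwt with rfl | rfl; exacts [htf2, hjf2.mul_left htf2]
  -- the effect of `a` and `b`
  have hja : a * j * a⁻¹ = j := by rw [(hjU a ha.1).symm.eq, mul_inv_cancel_right]
  have hjb' : b * j * b⁻¹ = j := by rw [(hjU b hb.1).symm.eq, mul_inv_cancel_right]
  have haw : w = a * (f1 * j * w) * a⁻¹ := by
    have key : a * w * a⁻¹ = f1 * j * w := by
      rcases hwt with rfl | rfl
      · exact hat
      · rw [show a * (j * t) * a⁻¹ = (a * j * a⁻¹) * (a * t * a⁻¹) by group, hja, hat,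
          ← mul_assoc, ← mul_assoc, hjf1.eq]
        simp only [mul_assoc]
    rw [show a * (f1 * j * w) * a⁻¹ = (a * f1 * a⁻¹) * (a * j * a⁻¹) * (a * w * a⁻¹) by group, haf1.eq,
      mul_inv_cancel_right, hja, key, ← mul_assoc, mul_sq hf1s hU.sq hjf1.symm, one_mul]
  have hbw : w = b * (f2 * j * w) * b⁻¹ := by
    have key : b * w * b⁻¹ = f2 * j * w := by
      rcases hwt with rfl | rfl
      · exact hbt
      · rw [show b * (j * t) * b⁻¹ = (b * j * b⁻¹) * (b * t * b⁻¹) by group, hjb', hbt,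
          ← mul_assoc, ← mul_assoc, hjf2.eq]
        simp only [mul_assoc]
    rw [show b * (f2 * j * w) * b⁻¹ = (b * f2 * b⁻¹) * (b * j * b⁻¹) * (b * w * b⁻¹) by group, hbf2.eq,
      mul_inv_cancel_right, hjb', key, ← mul_assoc, mul_sq hf2s hU.sq hjf2.symm, one_mul]
  have haf2' : f2 = a * (f2 * j) * a⁻¹ := by
    rw [show a * (f2 * j) * a⁻¹ = (a * f2 * a⁻¹) * (a * j * a⁻¹) by group, haf2, hja, mul_assoc, hU.sq, mul_one]
  have hbf1' : f1 = b * (f1 * j) * b⁻¹ := by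
    rw [show b * (f1 * j) * b⁻¹ = (b * f1 * b⁻¹) * (b * j * b⁻¹) by group, hbf1, hjb', mul_assoc, hU.sq, mul_one]
  have hj' : ∀ g : G, g * j * g⁻¹ = j → ∀ z z' : G, j * z * j = z' → j * (g * z * g⁻¹) * j = g * z' * g⁻¹ :=
    fun g hg z z' h => conj_trans hg.symm h
  -- the first element
  obtain ⟨x, hx⟩ : ∃ x, x = d3⁻¹ * (j * d3 * j) := ⟨_, rfl⟩
  obtain ⟨⟨⟨⟨hxD, hxf1⟩, hxf2⟩, hxv⟩, hxj, hx1⟩ := inv_elem hU.sq hjd3
    (Y := D ⊓ centralizer ({f1} : Set G) ⊓ centralizer ({f2} : Set G) ⊓ centralizer ({v} : Set G))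
    ⟨hd3, mem_cz.mpr hvd3⟩
    (normalizer_inf_cz (normalizer_inf_cz (normalizer_inf_cz hjn hjf1.symm) hjf2.symm) hvt.1.symm)
  rw [← hx] at hxD hxf1 hxf2 hxv hxj hx1
  have x1 : f1 * x * f1 = x := (commute_iff_conj hf1s).mp (mem_cz.mp hxf1)
  have x2 : f2 * x * f2 = x := (commute_iff_conj hf2s).mp (mem_cz.mp hxf2)
  have xw : w * x * w = x⁻¹ := by
    rw [hw, conj_mul hvt.1, (commute_iff_conj hvt.2).mp (mem_cz.mp hxv), hxj]
  -- its three images
  obtain ⟨y1, hy1⟩ : ∃ y, y = a * x * a⁻¹ := ⟨_, rfl⟩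
  obtain ⟨y2, hy2⟩ : ∃ y, y = b * x * b⁻¹ := ⟨_, rfl⟩
  obtain ⟨y3, hy3⟩ : ∃ y, y = a * y2 * a⁻¹ := ⟨_, rfl⟩
  have hy1D : y1 ∈ D := hy1 ▸ (mem_normalizer_iff.mp (hD.norm ha.2) x).mp hxD
  have hy2D : y2 ∈ D := hy2 ▸ (mem_normalizer_iff.mp (hD.norm hb.2) x).mp hxD
  have hy3D : y3 ∈ D := hy3 ▸ (mem_normalizer_iff.mp (hD.norm ha.2) y2).mp hy2D
  have y1ne : y1 ≠ 1 := fun h => hx1 (conj_eq_one_iff.mp (hy1 ▸ h))
  have y2ne : y2 ≠ 1 := fun h => hx1 (conj_eq_one_iff.mp (hy2 ▸ h))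
  have y3ne : y3 ≠ 1 := fun h => y2ne (conj_eq_one_iff.mp (hy3 ▸ h))
  have y1j : j * y1 * j = y1⁻¹ := by rw [hy1, hj' a hja x _ hxj, _root_.conj_inv]
  have y2j : j * y2 * j = y2⁻¹ := by rw [hy2, hj' b hjb' x _ hxj, _root_.conj_inv]
  have y3j : j * y3 * j = y3⁻¹ := by rw [hy3, hj' a hja y2 _ y2j, _root_.conj_inv]
  have y11 : f1 * y1 * f1 = y1 := by
    rw [hy1, conj_trans (g := a) (by rw [haf1.eq, mul_inv_cancel_right]) x1]
  have y12 : f2 * y1 * f2 = y1⁻¹ := by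
    rw [hy1, conj_trans haf2' (by rw [conj_mul hjf2.symm, hxj, conj_inv hf2s, x2] : _ = x⁻¹), _root_.conj_inv]
  have y1w : w * y1 * w = y1 := by
    rw [hy1, conj_trans haw (by
      rw [conj_mul ((hwf1.symm).mul_left hjw), xw, conj_mul hjf1.symm, conj_inv hU.sq, hxj, inv_inv, x1] : _ = x)]
  have y21 : f1 * y2 * f1 = y2⁻¹ := by
    rw [hy2, conj_trans hbf1' (by rw [conj_mul hjf1.symm, hxj, conj_inv hf1s, x1] : _ = x⁻¹), _root_.conj_inv]
  have y22 : f2 * y2 * f2 = y2 := by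
    rw [hy2, conj_trans (g := b) (by rw [hbf2.eq, mul_inv_cancel_right]) x2]
  have y2w : w * y2 * w = y2 := by
    rw [hy2, conj_trans hbw (by
      rw [conj_mul ((hwf2.symm).mul_left hjw), xw, conj_mul hjf2.symm, conj_inv hU.sq, hxj, inv_inv, x2] : _ = x)]
  have y31 : f1 * y3 * f1 = y3⁻¹ := by
    rw [hy3, conj_trans (g := a) (by rw [haf1.eq, mul_inv_cancel_right]) y21, _root_.conj_inv]
  have y32 : f2 * y3 * f2 = y3⁻¹ := by
    rw [hy3, conj_trans haf2' (by rw [conj_mul hjf2.symm, y2j, conj_inv hf2s, y22] : _ = y2⁻¹), _root_.conj_inv]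
  have y3w : w * y3 * w = y3 := by
    rw [hy3, conj_trans haw (by
      rw [conj_mul ((hwf1.symm).mul_left hjw), y2w, conj_mul hjf1.symm, y2j, conj_inv hf1s, y21, inv_inv] : _ = y2)]
  have hi1 : ∀ e ∈ D, Commute j e → Commute f1 e := fun e he h => hU.comm hp2 hD hf1U hf1K he h
  have hi2 : ∀ e ∈ D, Commute j e → Commute f2 e := fun e he h => hU.comm hp2 hD hf2U hf2K he h
  have c12 : Commute y1 y2 :=
    comm_signs hp2 hD hU.sq hf1s hy1D hy2D y1j y2j ((commute_iff_conj hf1s).mpr y11) y21 hi1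
  have c13 : Commute y1 y3 :=
    comm_signs hp2 hD hU.sq hf1s hy1D hy3D y1j y3j ((commute_iff_conj hf1s).mpr y11) y31 hi1
  have c23 : Commute y2 y3 :=
    comm_signs hp2 hD hU.sq hf2s hy2D hy3D y2j y3j ((commute_iff_conj hf2s).mpr y22) y32 hi2
  -- the group they generate with `K`
  have hKy : ∀ y ∈ D, ∀ e ∈ K, e * y = y * e := fun y hy e he => mem_centralizer_iff.mp (hD.le hy) e he
  have hfixK : ∀ g ∈ centralizer (K : Set G), K ≤ centralizer ({g} : Set G) :=
    fun g hg e he => mem_cz.mpr (mem_centralizer_iff.mp hg e he).symm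
  have hy1K : y1 ∉ K := not_mem_of_inverts hp2 hU.sq
    (fun e he => mem_cz.mp (hfixK j hjK he)) y1j (hD.exp _ hy1D) y1ne
  obtain ⟨E1, hE1, -, -, hcard1, hmin1⟩ := exists_extend hK (hKy y1 hy1D) (hD.exp _ hy1D) hy1K
  have hfE1 : E1 ≤ centralizer ({f1} : Set G) :=
    hmin1 _ (hfixK f1 hf1K) (mem_cz.mpr ((commute_iff_conj hf1s).mpr y11))
  have hy2E1 : y2 ∉ E1 := not_mem_of_inverts hp2 hf1s (fun e he => mem_cz.mp (hfE1 he)) y21 (hD.exp _ hy2D) y2ne
  have hE1y2 : E1 ≤ centralizer ({y2} : Set G) :=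
    hmin1 _ (fun e he => mem_cz.mpr (hKy y2 hy2D e he).symm) (mem_cz.mpr c12.symm)
  obtain ⟨E2, hE2, -, -, hcard2, hmin2⟩ := exists_extend hE1
    (fun e he => ((mem_cz.mp (hE1y2 he)).eq).symm) (hD.exp _ hy2D) hy2E1
  obtain ⟨g, hg⟩ : ∃ g, g = j * (f1 * f2) := ⟨_, rfl⟩
  have hgs : g * g = 1 := hg ▸ mul_sq hU.sq (mul_sq hf1s hf2s hf12) (hjf1.mul_right hjf2)
  have hgconj : ∀ z : G, g * z * g = j * (f1 * (f2 * z * f2) * f1) * j := fun z => by
    rw [hg, conj_mul (hjf1.mul_right hjf2), conj_mul hf12]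
  have hgy1 : Commute g y1 := (commute_iff_conj hgs).mpr (by
    rw [hgconj, y12, conj_inv hf1s, y11, conj_inv hU.sq, y1j, inv_inv])
  have hgy2 : Commute g y2 := (commute_iff_conj hgs).mpr (by
    rw [hgconj, y22, y21, conj_inv hU.sq, y2j, inv_inv])
  have hgy3 : g * y3 * g = y3⁻¹ := by rw [hgconj, y32, conj_inv hf1s, y31, inv_inv, y3j]
  have hgK : g ∈ centralizer (K : Set G) := hg ▸ mul_mem hjK (mul_mem hf1K hf2K)
  have hgE2 : E2 ≤ centralizer ({g} : Set G) :=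
    hmin2 _ (hmin1 _ (hfixK g hgK) (mem_cz.mpr hgy1)) (mem_cz.mpr hgy2)
  have hy3E2 : y3 ∉ E2 := not_mem_of_inverts hp2 hgs (fun e he => mem_cz.mp (hgE2 he)) hgy3 (hD.exp _ hy3D) y3ne
  have hE2y3 : E2 ≤ centralizer ({y3} : Set G) :=
    hmin2 _ (hmin1 _ (fun e he => mem_cz.mpr (hKy y3 hy3D e he).symm) (mem_cz.mpr c13.symm)) (mem_cz.mpr c23.symm)
  obtain ⟨E3, hE3, -, -, hcard3, hmin3⟩ := exists_extend hE2
    (fun e he => ((mem_cz.mp (hE2y3 he)).eq).symm) (hD.exp _ hy3D) hy3E2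
  refine too_big (m := r + 1) hmax hE3 hws hw1 (hmin3 _ (hmin2 _ (hmin1 _ (hfixK w hwK)
    (mem_cz.mpr ((commute_iff_conj hws).mpr y1w))) (mem_cz.mpr ((commute_iff_conj hws).mpr y2w)))
    (mem_cz.mpr ((commute_iff_conj hws).mpr y3w))) (by omega) ?_
  calc p ^ (r + 1) = p * (p * (p * p ^ (r - 2))) := by
        rw [← pow_succ', ← pow_succ', ← pow_succ', show r - 2 + 1 + 1 + 1 = r + 1 by omega]
    _ ≤ p * (p * Nat.card E1) := Nat.mul_le_mul_left _ (Nat.mul_le_mul_left _ (hKr ▸ hcard1))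
    _ ≤ p * Nat.card E2 := Nat.mul_le_mul_left _ hcard2
    _ ≤ _ := hcard3

omit hp in
theorem mem_normalizer_closure {S : Set G} {g : G} (h : ∀ s ∈ S, g * s * g⁻¹ ∈ S) :
    g ∈ normalizer ((closure S : Subgroup G) : Set G) := by
  refine mem_normalizer_fintype fun y hy => ?_
  have : closure S ≤ (closure S).comap (MulAut.conj g).toMonoidHom :=
    (closure_le _).mpr fun s hs => subset_closure (h s hs)
  exact this hy

omit [Finite G] hp in
theorem mem_normalizer_commutator {H K : Subgroup G} {g : G} (hH : g ∈ normalizer (H : Set G))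
    (hK : g ∈ normalizer (K : Set G)) : g ∈ normalizer ((⁅H, K⁆ : Subgroup G) : Set G) := by
  rw [← wc_map_conj_eq_iff] at hH hK ⊢
  rw [map_commutator, hH, hK]

omit [Finite G] hp in
theorem comm_pow {x y c : G} (h : x * y = c * (y * x)) (hcx : Commute c x) (n : ℕ) :
    x ^ n * y = c ^ n * (y * x ^ n) := by
  induction n with
  | zero => simp
  | succ n ih =>
    rw [pow_succ' x, mul_assoc, ih, ← mul_assoc x, ((hcx.symm).pow_right n).eq, mul_assoc, ← mul_assoc x y,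
      h, pow_succ c n, mul_assoc (c ^ n)]
    simp only [mul_assoc]

omit [Finite G] hp in
/-- If `x` commutes with `a` and moves `z` by a central element fixed by `a`, it centralises `⁅z, a⁆`. -/
theorem comm_aux {x z a c : G} (h : x * z * x⁻¹ = c * z) (hxa : Commute x a) (hca : Commute c a)
    (hcz : Commute c z) : Commute x ⁅z, a⁆ := by
  have h1 : x * ⁅z, a⁆ * x⁻¹ = ⁅z, a⁆ := by
    calc x * ⁅z, a⁆ * x⁻¹ = (x * z * x⁻¹) * (x * a * x⁻¹) * (x * z * x⁻¹)⁻¹ * (x * a * x⁻¹)⁻¹ := by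
          simp only [commutatorElement_def]; group
      _ = c * z * a * (z⁻¹ * c⁻¹) * a⁻¹ := by rw [h, hxa.eq, mul_inv_cancel_right, mul_inv_rev]
      _ = (c * (z * a * z⁻¹)) * c⁻¹ * a⁻¹ := by simp only [mul_assoc]
      _ = (z * a * z⁻¹) * c * c⁻¹ * a⁻¹ := by rw [((hcz.mul_right hca).mul_right hcz.inv_right).eq]
      _ = ⁅z, a⁆ := by rw [mul_inv_cancel_right, commutatorElement_def]
  exact mul_inv_eq_iff_eq_mul.mp h1

/-- What is known about an involution centralising an elementary group of largest rank. -/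
structure Ctx (p r : ℕ) (j : G) (A U : Subgroup G) : Prop where
  odd : p ≠ 2
  loc : Cfsg.IsOfLocalCharacteristic p G
  three : 3 ≤ r
  max : Cfsg.TwoLocalPRankLE p r G
  two : Two j U
  elem : Cfsg.IsElementaryAbelian p A
  card : Nat.card A = p ^ r
  le : A ≤ centralizer ({j} : Set G)

theorem Ctx.fixU {r : ℕ} {j : G} {A U : Subgroup G} (C : Ctx p r j A U) : A ≤ normalizer (U : Set G) :=
  C.le.trans C.two.norm

/-- An abelian subgroup of `O₂(C(j))` invariant under `A` is centralised by `A`. -/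
theorem Ctx.abelian_fixed {r : ℕ} {j : G} {A U : Subgroup G} (C : Ctx p r j A U) {Z : Subgroup G}
    (hZU : Z ≤ U) (hZc : ∀ x ∈ Z, ∀ y ∈ Z, Commute x y) (hAZ : A ≤ normalizer (Z : Set G)) :
    ∀ a ∈ A, ∀ z ∈ Z, Commute a z := by
  classical
  have hjU : ∀ z ∈ U, Commute j z := fun z hz => mem_cz.mp (C.two.le hz)
  have hp3 := C.three
  let V : Subgroup G :=
    { carrier := {v | v * v = 1 ∧ v ∈ U ∧ ∀ z ∈ insert j (Z : Set G), Commute v z ∧ (v ∈ Z ∨ v * j ∈ Z)}
      one_mem' := ⟨one_mul 1, one_mem U, fun z _ => ⟨Commute.one_left z, Or.inl (one_mem Z)⟩⟩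
      mul_mem' := by
        intro u v hu hv
        have huj : Commute j u := (hu.2.2 j (Set.mem_insert _ _)).1.symm
        have hvj : Commute j v := (hv.2.2 j (Set.mem_insert _ _)).1.symm
        have hu' := (hu.2.2 j (Set.mem_insert _ _)).2
        have hv' := (hv.2.2 j (Set.mem_insert _ _)).2
        have huv : Commute u v := by
          rcases hv' with h | h
          · exact (hu.2.2 v (Set.mem_insert_of_mem _ h)).1
          · have := ((hu.2.2 _ (Set.mem_insert_of_mem _ h)).1).mul_right huj.symm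
            rwa [mul_assoc, C.two.sq, mul_one] at this
        refine ⟨mul_sq hu.1 hv.1 huv, mul_mem hu.2.1 hv.2.1, fun z hz => ⟨(hu.2.2 z hz).1.mul_left (hv.2.2 z hz).1, ?_⟩⟩
        rcases hu' with h1 | h1 <;> rcases hv' with h2 | h2
        · exact Or.inl (mul_mem h1 h2)
        · exact Or.inr (by rw [mul_assoc]; exact mul_mem h1 h2)
        · exact Or.inr (by rw [mul_assoc, ← hvj.eq, ← mul_assoc]; exact mul_mem h1 h2)
        · left
          have h := mul_mem h1 h2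
          rwa [mul_assoc u j, ← mul_assoc j v j, hvj.eq, mul_assoc v j j, C.two.sq, mul_one] at h
      inv_mem' := fun {v} hv => by rwa [inv_eq_of_mul_eq_one_right hv.1] }
  have hVel : Cfsg.IsElementaryAbelian 2 V := by
    refine ⟨⟨⟨fun u v => Subtype.ext ?_⟩⟩, fun v hv => by rw [pow_two]; exact hv.1⟩
    have h := (u * v).2.1
    simp only [coe_mul] at h ⊢
    rw [mul_eq_one_iff_eq_inv] at h
    rw [h, mul_inv_rev, inv_eq_of_mul_eq_one_right v.2.1, inv_eq_of_mul_eq_one_right u.2.1]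
  have hVU : V ≤ U := fun v hv => hv.2.1
  have hjV : j ∈ V := ⟨C.two.sq, C.two.mem, fun z hz => ⟨by
    rcases hz with rfl | hz
    exacts [Commute.refl _, hjU z (hZU hz)], Or.inr (by rw [C.two.sq]; exact one_mem Z)⟩⟩
  have hAV : A ≤ normalizer (V : Set G) := fun a ha => mem_normalizer_fintype fun v hv => by
    have haj : a * j * a⁻¹ = j := by rw [← (mem_cz.mp (C.le ha)).eq, mul_inv_cancel_right]
    refine ⟨?_, (mem_normalizer_iff.mp (C.fixU ha) v).mp hv.2.1, fun z hz => ⟨?_, ?_⟩⟩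
    · rw [show a * v * a⁻¹ * (a * v * a⁻¹) = a * (v * v) * a⁻¹ by group, hv.1]; group
    · have hz' : a⁻¹ * z * a ∈ insert j (Z : Set G) := by
        rcases hz with rfl | hz
        · refine Or.inl ?_
          rw [mul_assoc, (mem_cz.mp (C.le ha)).eq, inv_mul_cancel_left]
        · refine Or.inr ?_
          simpa using (mem_normalizer_iff.mp (inv_mem (hAZ ha)) z).mp hz
      have h := (hv.2.2 _ hz').1
      calc a * v * a⁻¹ * z = a * (v * (a⁻¹ * z * a)) * a⁻¹ := by group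
        _ = a * ((a⁻¹ * z * a) * v) * a⁻¹ := by rw [h.eq]
        _ = z * (a * v * a⁻¹) := by group
    · rcases (hv.2.2 j (Set.mem_insert _ _)).2 with h | h
      · exact Or.inl ((mem_normalizer_iff.mp (hAZ ha) v).mp h)
      · refine Or.inr ?_
        rw [show a * v * a⁻¹ * j = a * v * a⁻¹ * (a * j * a⁻¹) by rw [haj],
          show a * v * a⁻¹ * (a * j * a⁻¹) = a * (v * j) * a⁻¹ by group]
        exact (mem_normalizer_iff.mp (hAZ ha) _).mp h
  have hV2 : IsPGroup 2 V := C.two.two.to_le hVU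
  have hVodd : ¬ p ∣ Nat.card V := by
    obtain ⟨k, hk⟩ := IsPGroup.iff_card.mp hV2
    rw [hk]; intro h
    exact C.odd ((Nat.prime_dvd_prime_iff_eq hp.out Nat.prime_two).mp (hp.out.dvd_of_dvd_pow h))
  have hA1 : A ≠ ⊥ := Grp.ne_bot_of_card (n := r) (by omega) C.card.ge
  have hVA : V ≤ centralizer (A : Set G) := by
    refine Grp.le_of_hyperplanes C.elem hA1 V hVodd hAV fun B hB hi w hw => ?_
    refine mem_centralizer_iff.mpr fun a ha => ?_
    obtain ⟨F, hF⟩ : ∃ F, F = V ⊓ centralizer (B : Set G) := ⟨_, rfl⟩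
    have hjF : j ∈ F := hF ▸ ⟨hjV, mem_centralizer_iff.mpr fun b hb => ((mem_cz.mp (C.le (hB hb))).eq).symm⟩
    have hwF : w ∈ F := hF ▸ hw
    have hFel : Cfsg.IsElementaryAbelian 2 F := Grp.elemAb_mono hVel (hF ▸ inf_le_left)
    have hcardB : Nat.card B = p ^ (r - 1) := by
      have h := Grp.card_mul_relIndex hB
      rw [hi, C.card, show r = r - 1 + 1 by omega, pow_succ] at h
      exact Nat.eq_of_mul_eq_mul_right hp.out.pos h
    have haB : a ∈ centralizer (B : Set G) :=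
      mem_centralizer_iff.mpr fun b hb => Grp.elemAb_comm C.elem b (hB hb) a ha
    have hwaF : a * w * a⁻¹ ∈ F := by
      rw [hF] at hwF ⊢
      exact ⟨(mem_normalizer_iff.mp (hAV ha) w).mp hwF.1, (centralizer (B : Set G)).mul_mem ((centralizer (B : Set G)).mul_mem haB hwF.2) ((centralizer (B : Set G)).inv_mem haB)⟩
    by_contra hne
    have hw1 : w ≠ 1 := fun h => hne (by rw [h, mul_one, one_mul])
    have hwj : w ≠ j := fun h => hne (by rw [h]; exact (mem_cz.mp (C.le ha)).symm.eq)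
    have hwjF : w * j ∈ F := mul_mem hwF hjF
    have hwa1 : a * w * a⁻¹ ≠ 1 := fun h => hw1 (conj_eq_one_iff.mp h)
    have hwaj : a * w * a⁻¹ ≠ j := fun h => hwj (by
      have e : w = a⁻¹ * (a * w * a⁻¹) * a := by group
      rw [e, h, mul_assoc, (mem_cz.mp (C.le ha)).eq, inv_mul_cancel_left])
    have hwaw : a * w * a⁻¹ ≠ w := fun h => hne (mul_inv_eq_iff_eq_mul.mp h)
    have hwawj : a * w * a⁻¹ ≠ w * j := by
      intro h
      refine hne ?_
      -- the square of `a` fixes `w`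
      have h2 : a ^ 2 * w * (a ^ 2)⁻¹ = w := by
        rw [pow_two, show a * a * w * (a * a)⁻¹ = a * (a * w * a⁻¹) * a⁻¹ by group, h,
          show a * (w * j) * a⁻¹ = (a * w * a⁻¹) * (a * j * a⁻¹) by group, h,
          ← (mem_cz.mp (C.le ha)).eq, mul_inv_cancel_right, mul_assoc, C.two.sq, mul_one]
      obtain ⟨m, hm⟩ := hp.out.eq_two_or_odd'.resolve_left C.odd
      have h3 : a = (a ^ 2) ^ (m + 1) := by
        rw [← pow_mul, show 2 * (m + 1) = p + 1 by omega, pow_succ, C.elem.2 a ha, one_mul]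
      rw [h3]
      exact ((show Commute (a ^ 2) w from mul_inv_eq_iff_eq_mul.mp h2).pow_left _).eq
    have h5 : 5 ≤ Nat.card F := by
      have hsub : (({1, j, w, w * j, a * w * a⁻¹} : Finset G) : Set G) ⊆ (F : Set G) := by
        intro v hv
        have hv' : v = 1 ∨ v = j ∨ v = w ∨ v = w * j ∨ v = a * w * a⁻¹ := by simpa using hv
        rcases hv' with rfl | rfl | rfl | rfl | rfl
        exacts [one_mem F, hjF, hwF, hwjF, hwaF]
      have h := Set.ncard_le_ncard hsub (Set.toFinite _)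
      rw [Set.ncard_coe_finset, ← Nat.card_coe_set_eq] at h
      refine le_trans (le_of_eq ?_) h
      have hwj1 : w * j ≠ 1 := fun h => hwj ((mul_eq_one_iff_eq_inv.mp h).trans (inv_eq_of_mul_eq_one_right C.two.sq))
      rw [Finset.card_insert_of_notMem (by simp [C.two.ne.symm, hw1.symm, hwj1.symm, hwa1.symm]),
        Finset.card_insert_of_notMem (by simp [hwj.symm, hw1, hwaj.symm]),
        Finset.card_insert_of_notMem (by simp [C.two.ne, hwaw.symm]),
        Finset.card_insert_of_notMem (by simp [hwawj.symm]), Finset.card_singleton]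
    obtain ⟨k, hk⟩ := IsPGroup.iff_card.mp (hV2.to_le (hF ▸ inf_le_left : F ≤ V))
    have h8 : 8 ≤ Nat.card F := by
      rcases Nat.lt_or_ge k 3 with hk3 | hk3
      · exfalso
        have : 2 ^ k ≤ 2 ^ 2 := Nat.pow_le_pow_right (by norm_num) (by omega)
        omega
      · rw [hk]; exact le_trans (by norm_num) (Nat.pow_le_pow_right (by norm_num : 0 < 2) hk3)
    obtain ⟨D, hD⟩ := exists_det C.odd C.loc (Grp.elemAb_mono C.elem hB)
      (Grp.ne_bot_of_card (n := r - 1) (by omega) hcardB.ge)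
    exact no_eight C.odd (by omega) C.max C.two (Grp.elemAb_mono C.elem hB) hcardB hD hFel
      ((hF ▸ inf_le_left : F ≤ V).trans hVU) (hF ▸ inf_le_right) hjF h8
  have hVj : ∀ v ∈ V, v = 1 ∨ v = j := fun v hv =>
    only_involution C.odd C.loc (by omega) C.max C.elem C.card C.two.sq C.two.ne C.le hv.1 (hVA hv)
      (hjU v hv.2.1)
  -- lift to the whole of `Z`
  intro a ha
  suffices hall : ∀ k : ℕ, ∀ z ∈ Z, z ^ 2 ^ k = 1 → Commute a z by
    intro z hz
    obtain ⟨k, hk⟩ := (C.two.two.to_le hZU) ⟨z, hz⟩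
    exact hall k z hz (by simpa using congrArg (fun w : ↥Z => (w : G)) hk)
  intro k
  induction k with
  | zero => intro z _ h; rw [pow_zero, pow_one] at h; rw [h]; exact Commute.one_right a
  | succ k ih =>
    intro z hz hk
    have hz2 : Commute a (z * z) := ih _ (mul_mem hz hz) (by rw [← pow_two, ← pow_mul, ← pow_succ']; exact hk)
    obtain ⟨d, hd⟩ : ∃ d, d = a * z * a⁻¹ * z⁻¹ := ⟨_, rfl⟩
    have haz : a * z * a⁻¹ ∈ Z := (mem_normalizer_iff.mp (hAZ ha) z).mp hz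
    have hdZ : d ∈ Z := hd ▸ mul_mem haz (inv_mem hz)
    have hd2 : d * d = 1 := by
      rw [hd, ← pow_two, (hZc _ haz _ (inv_mem hz)).mul_pow, pow_two, pow_two,
        show a * z * a⁻¹ * (a * z * a⁻¹) = a * (z * z) * a⁻¹ by group, hz2.eq, mul_inv_cancel_right, ← mul_inv_rev,
        mul_inv_cancel]
    have hdV : d ∈ V := ⟨hd2, hZU hdZ, fun y hy => ⟨by
      rcases hy with rfl | hy
      exacts [(hjU d (hZU hdZ)).symm, hZc d hdZ y hy], Or.inl hdZ⟩⟩
    have hda : Commute a d := by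
      rcases hVj d hdV with h | h <;> rw [h]
      exacts [Commute.one_right a, (mem_cz.mp (C.le ha)).symm]
    refine commute_of_stabilises (p := 2) (k := 1) ?_ (by rw [pow_one, pow_two]; exact hd2) hda (by rw [hd]; group)
    exact ((Nat.coprime_primes hp.out Nat.prime_two).mpr C.odd).coprime_dvd_left
      (orderOf_dvd_of_pow_eq_one (C.elem.2 a ha))

/-- The structure of `⁅O₂(C(j)), A⁆`. -/
structure Nice (j : G) (A U W : Subgroup G) : Prop where
  le : W ≤ U
  norm : ∀ g : G, g ∈ normalizer (U : Set G) → g ∈ normalizer (A : Set G) → g ∈ normalizer (W : Set G)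
  comm : ∀ x ∈ W, ∀ y ∈ W, x * y * x⁻¹ * y⁻¹ = 1 ∨ x * y * x⁻¹ * y⁻¹ = j
  sq : ∀ x ∈ W, x * x = 1 ∨ x * x = j
  fixed_central : ∀ x ∈ W, (∀ a ∈ A, Commute a x) → ∀ y ∈ W, Commute x y
  central_fixed : ∀ x ∈ W, (∀ y ∈ W, Commute x y) → ∀ a ∈ A, Commute a x
  faith : ∀ a ∈ A, (∀ x ∈ W, Commute a x) → a = 1

theorem exists_nice {r : ℕ} {j : G} {A U : Subgroup G} (C : Ctx p r j A U) : ∃ W, Nice j A U W := by
  obtain ⟨W, hW⟩ : ∃ W, W = ⁅U, A⁆ := ⟨_, rfl⟩
  have hWU : W ≤ U := hW ▸ Grp.commutator_le_left_of_le_normalizer C.fixU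
  have hW2 : IsPGroup 2 W := C.two.two.to_le hWU
  have hAn : A ≤ normalizer (W : Set G) := hW ▸ Grp.right_le_normalizer_commutator A U
  have hUn : U ≤ normalizer (W : Set G) := hW ▸ Grp.left_le_normalizer_commutator A U
  have hp3 := C.three
  have hcop : ∀ {B V : Subgroup G}, B ≤ A → V ≤ U → (Nat.card B).Coprime (Nat.card V) := by
    intro B V hB hV
    obtain ⟨m, hm⟩ := IsPGroup.iff_card.mp (C.two.two.to_le hV)
    obtain ⟨n, hn⟩ := IsPGroup.iff_card.mp (Grp.elemAb_isPGroup (Grp.elemAb_mono C.elem hB))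
    rw [hm, hn]; exact ((coprime_two C.odd (k := m)).symm).pow_left n
  have hsolvA : ∀ {B : Subgroup G}, B ≤ A → Group.IsSolvable B := fun {B} hB => by
    letI : CommGroup B := { (inferInstance : Group B) with
      mul_comm := fun x y => Subtype.ext (Grp.elemAb_comm C.elem _ (hB x.2) _ (hB y.2)) }
    infer_instance
  have hWA : ⁅W, A⁆ = W := by
    rw [hW]; exact Grp.commutator_commutator_eq A U C.fixU (hcop le_rfl le_rfl) (Or.inl (hsolvA le_rfl))
  have hjU : ∀ z ∈ U, Commute j z := fun z hz => mem_cz.mp (C.two.le hz)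
  have hjA : j ∈ centralizer (A : Set G) := mem_centralizer_iff.mpr fun a ha => ((mem_cz.mp (C.le ha)).eq).symm
  -- normal subgroups of `W` centralised by `A` are central
  have hchar : ∀ Y : Subgroup G, Y ≤ W → W ≤ normalizer (Y : Set G) → (∀ a ∈ A, ∀ y ∈ Y, Commute a y) →
      ∀ x ∈ W, ∀ y ∈ Y, Commute x y := by
    intro Y hY hWY hAY
    have hYA : ⁅Y, A⁆ = ⊥ := commutator_eq_bot_iff_le_centralizer.mpr fun y hy =>
      mem_centralizer_iff.mpr fun a ha => (hAY a ha y hy).eq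
    have h : ⁅⁅W, A⁆, Y⁆ = ⊥ := by
      refine commutator_commutator_eq_bot_of_rotate ?_ (le_bot_iff.mp ?_)
      · rw [commutator_comm A Y, hYA, commutator_bot_left]
      · rw [← hYA]; exact commutator_mono (Grp.commutator_le_left_of_le_normalizer hWY) le_rfl
    rw [hWA, commutator_eq_bot_iff_le_centralizer] at h
    exact fun x hx y hy => (mem_centralizer_iff.mp (h hx) y hy).symm
  let Z : Subgroup G :=
    { carrier := {x | x ∈ W ∧ ∀ y ∈ W, Commute x y}
      one_mem' := ⟨one_mem W, fun y _ => Commute.one_left y⟩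
      mul_mem' := fun hx hy => ⟨mul_mem hx.1 hy.1, fun z hz => (hx.2 z hz).mul_left (hy.2 z hz)⟩
      inv_mem' := fun hx => ⟨inv_mem hx.1, fun z hz => (hx.2 z hz).inv_left⟩ }
  have hAZn : A ≤ normalizer (Z : Set G) := fun a ha => mem_normalizer_fintype fun x hx => by
    refine ⟨(mem_normalizer_iff.mp (hAn ha) x).mp hx.1, fun y hy => ?_⟩
    have hy' : a⁻¹ * y * a ∈ W := by simpa using (mem_normalizer_iff.mp (inv_mem (hAn ha)) y).mp hy
    calc a * x * a⁻¹ * y = a * (x * (a⁻¹ * y * a)) * a⁻¹ := by group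
      _ = a * ((a⁻¹ * y * a) * x) * a⁻¹ := by rw [(hx.2 _ hy').eq]
      _ = y * (a * x * a⁻¹) := by group
  have hAZ : ∀ a ∈ A, ∀ z ∈ Z, Commute a z :=
    C.abelian_fixed (fun z hz => hWU hz.1) (fun x hx y hy => hx.2 y hy.1) hAZn
  -- class two
  have hcls : ⁅W, W⁆ ≤ Z := by
    classical
    have hbot : ∃ n, W.lowerCentralSeries n ≤ Z := by
      haveI := hW2.isNilpotent
      obtain ⟨n, hn⟩ := (Subgroup.isNilpotent_iff_lowerCentralSeries W).mp inferInstance
      exact ⟨n, hn ▸ bot_le⟩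
    have hnorm : ∀ n g, g ∈ normalizer (W : Set G) → g ∈ normalizer (W.lowerCentralSeries n : Set G) := by
      intro n
      induction n with
      | zero => exact fun g hg => hg
      | succ n ih =>
        intro g hg
        rw [Subgroup.lowerCentralSeries_succ]
        exact mem_normalizer_commutator (ih g hg) hg
    have hle : ∀ n, W.lowerCentralSeries n ≤ W := fun n => by
      induction n with
      | zero => exact le_rfl
      | succ n ih =>
        rw [Subgroup.lowerCentralSeries_succ]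
        exact (commutator_mono ih le_rfl).trans (commutator_le_self W)
    rcases Nat.lt_or_ge (Nat.find hbot) 2 with hk | hk
    · refine (commutator_le.mpr fun x hx y hy => ?_)
      have hspec := Nat.find_spec hbot
      rcases Nat.lt_or_ge (Nat.find hbot) 1 with h0 | h1
      · rw [show Nat.find hbot = 0 by omega, Subgroup.lowerCentralSeries_zero] at hspec
        exact hspec ((commutator_le_self W) (commutator_mem_commutator hx hy))
      · rw [show Nat.find hbot = 0 + 1 by omega, Subgroup.lowerCentralSeries_succ, Subgroup.lowerCentralSeries_zero] at hspec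
        exact hspec (commutator_mem_commutator hx hy)
    exfalso
    obtain ⟨n, hn⟩ : ∃ n, Nat.find hbot = n + 2 := ⟨Nat.find hbot - 2, by omega⟩
    have hspec := Nat.find_spec hbot
    rw [hn, Subgroup.lowerCentralSeries_succ] at hspec
    obtain ⟨M, hM⟩ : ∃ M, M = W.lowerCentralSeries (n + 1) := ⟨_, rfl⟩
    rw [← hM] at hspec
    have hMW : M ≤ ⁅W, W⁆ := by
      rw [hM, Subgroup.lowerCentralSeries_succ]; exact commutator_mono (hle n) le_rfl
    have hZW : ∀ S : Subgroup G, S ≤ Z → ⁅S, W⁆ = ⊥ := fun S hS =>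
      commutator_eq_bot_iff_le_centralizer.mpr fun z hz =>
        mem_centralizer_iff.mpr fun y hy => ((hS hz).2 y hy).symm.eq
    have h1 : ⁅⁅M, W⁆, W⁆ = ⊥ := hZW _ hspec
    have h2 : ⁅⁅W, W⁆, M⁆ = ⊥ := commutator_commutator_eq_bot_of_rotate (by rw [commutator_comm W M]; exact h1) h1
    have hMc : ∀ x ∈ M, ∀ y ∈ M, Commute x y := fun x hx y hy =>
      (mem_centralizer_iff.mp (commutator_eq_bot_iff_le_centralizer.mp h2 (hMW hx)) y hy).symm
    have hMW' : M ≤ W := hMW.trans (commutator_le_self W)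
    have hWM : ∀ g, g ∈ normalizer (W : Set G) → g ∈ normalizer (M : Set G) := fun g hg => hM ▸ hnorm (n + 1) g hg
    have hMZ : M ≤ Z := fun x hx => ⟨hMW' hx, fun y hy => (hchar M hMW' (fun g hg => hWM g (le_normalizer hg))
      (C.abelian_fixed (hMW'.trans hWU) hMc fun a ha => hWM a (hAn ha)) y hy x hx).symm⟩
    exact Nat.find_min hbot (show n + 1 < Nat.find hbot by omega) (hM ▸ hMZ)
  have hcom : ∀ x ∈ W, ∀ y ∈ W, x * y * x⁻¹ * y⁻¹ ∈ Z := fun x hx y hy =>
    hcls (commutatorElement_def x y ▸ commutator_mem_commutator hx hy)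
  have hZA : ∀ c ∈ Z, c * c = 1 → c = 1 ∨ c = j := fun c hc hc2 =>
    only_involution C.odd C.loc (by omega) C.max C.elem C.card C.two.sq C.two.ne C.le hc2
      (mem_centralizer_iff.mpr fun a ha => (hAZ a ha c hc).eq) (hjU c (hWU hc.1))
  -- commutators are involutions
  have hcsq : ∀ x ∈ W, ∀ y ∈ W, (x * y * x⁻¹ * y⁻¹) * (x * y * x⁻¹ * y⁻¹) = 1 := by
    classical
    have hbd : ∃ k : ℕ, ∀ x ∈ W, ∀ y ∈ W, (x * y * x⁻¹ * y⁻¹) ^ 2 ^ k = 1 := by
      obtain ⟨k, hk⟩ := IsPGroup.iff_card.mp hW2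
      refine ⟨k, fun x hx y hy => ?_⟩
      have h : (⟨_, mul_mem (mul_mem (mul_mem hx hy) (inv_mem hx)) (inv_mem hy)⟩ : ↥W) ^ Nat.card W = 1 :=
        pow_card_eq_one'
      rw [hk] at h
      simpa using congrArg (fun w : ↥W => (w : G)) h
    rcases Nat.lt_or_ge (Nat.find hbd) 2 with hk | hk
    · intro x hx y hy
      have h := Nat.find_spec hbd x hx y hy
      rcases Nat.lt_or_ge (Nat.find hbd) 1 with h0 | h1
      · rw [show Nat.find hbd = 0 by omega, pow_zero, pow_one] at h; rw [h, one_mul]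
      · rwa [show Nat.find hbd = 1 by omega, pow_one, pow_two] at h
    exfalso
    obtain ⟨n, hn⟩ : ∃ n, Nat.find hbd = n + 2 := ⟨Nat.find hbd - 2, by omega⟩
    have hspec := Nat.find_spec hbd
    rw [hn] at hspec
    obtain ⟨m, hm⟩ : ∃ m, m = 2 ^ (n + 1) := ⟨_, rfl⟩
    have key : ∀ x ∈ W, ∀ y ∈ W, ∀ i : ℕ, x ^ i * y = (x * y * x⁻¹ * y⁻¹) ^ i * (y * x ^ i) := fun x hx y hy i =>
      comm_pow (by group) ((hcom x hx y hy).2 x hx) i
    obtain ⟨S, hS⟩ : ∃ S, S = closure {z | ∃ x ∈ W, z = x ^ m} := ⟨_, rfl⟩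
    have hSW : S ≤ W := hS ▸ (closure_le _).mpr (by rintro _ ⟨x, hx, rfl⟩; exact pow_mem hx m)
    have hgen : ∀ u ∈ {z | ∃ x ∈ W, z = x ^ m}, ∀ v ∈ {z | ∃ x ∈ W, z = x ^ m}, u * v = v * u := by
      rintro _ ⟨x, hx, rfl⟩ _ ⟨y, hy, rfl⟩
      obtain ⟨c, hc⟩ : ∃ c, c = x * y * x⁻¹ * y⁻¹ := ⟨_, rfl⟩
      have hcZ : c ∈ Z := hc ▸ hcom x hx y hy
      have h1 : y * x ^ m = c⁻¹ ^ m * (x ^ m * y) := by
        rw [key x hx y hy m, ← hc, ← mul_assoc, inv_pow, inv_mul_cancel, one_mul]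
      have h2 := comm_pow h1 (((hcZ.2 y hy).inv_left).pow_left m) m
      have h3 : (c⁻¹ ^ m) ^ m = 1 := by
        rw [← pow_mul, inv_pow, inv_eq_one]
        have hs := hspec x hx y hy
        rw [← hc] at hs
        have e : m * m = 2 ^ (n + 2) * 2 ^ n := by
          rw [hm, ← pow_add, ← pow_add]; congr 1; omega
        rw [e, pow_mul, hs, one_pow]
      rw [h3, one_mul] at h2
      exact h2.symm
    have hSc : ∀ x ∈ S, ∀ y ∈ S, Commute x y := fun x hx y hy => by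
      haveI : IsMulCommutative ↥S := hS ▸ Subgroup.isMulCommutative_closure hgen
      exact congrArg Subtype.val (mul_comm' (⟨x, hx⟩ : S) ⟨y, hy⟩)
    have hSn : ∀ g, g ∈ normalizer (W : Set G) → g ∈ normalizer (S : Set G) := fun g hg => by
      rw [hS]
      refine mem_normalizer_closure ?_
      rintro _ ⟨x, hx, rfl⟩
      exact ⟨g * x * g⁻¹, (mem_normalizer_iff.mp hg x).mp hx, (conj_pow).symm⟩
    refine Nat.find_min hbd (show n + 1 < Nat.find hbd by omega) fun x hx y hy => ?_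
    have hcen : Commute y (x ^ m) := hchar S hSW (fun g hg => hSn g (le_normalizer hg))
      (C.abelian_fixed (hSW.trans hWU) hSc fun a ha => hSn a (hAn ha)) y hy _ (hS ▸ subset_closure ⟨x, hx, rfl⟩)
    have h := key x hx y hy m
    rw [hcen.symm.eq] at h
    rw [← hm]
    exact (mul_eq_right.mp h.symm : _)
  have hcomm : ∀ x ∈ W, ∀ y ∈ W, x * y * x⁻¹ * y⁻¹ = 1 ∨ x * y * x⁻¹ * y⁻¹ = j := fun x hx y hy =>
    hZA _ (hcom x hx y hy) (hcsq x hx y hy)
  have hsqc : ∀ x ∈ W, x * x ∈ Z := fun x hx => ⟨mul_mem hx hx, fun y hy => by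
    have h := comm_pow (x := x) (y := y) (c := x * y * x⁻¹ * y⁻¹) (by group) ((hcom x hx y hy).2 x hx) 2
    rw [pow_two, pow_two, hcsq x hx y hy, one_mul] at h
    exact h⟩
  let S : Subgroup G :=
    { carrier := {x | x ∈ W ∧ (x * x = 1 ∨ x * x = j)}
      one_mem' := ⟨one_mem W, Or.inl (one_mul 1)⟩
      mul_mem' := fun {x y} hx hy => ⟨mul_mem hx.1 hy.1, by
        have e : x * y * (x * y) = x * (y * x * y⁻¹ * x⁻¹) * x * (y * y) := by group
        rw [e, ((hcom y hy.1 x hx.1).2 x hx.1).symm.eq, mul_assoc (y * x * y⁻¹ * x⁻¹) x x]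
        rcases hcomm y hy.1 x hx.1 with h | h <;> rcases hx.2 with h' | h' <;> rcases hy.2 with h'' | h'' <;>
          simp [h, h', h'', C.two.sq]⟩
      inv_mem' := fun {x} hx => ⟨inv_mem hx.1, by
        rw [← mul_inv_rev]
        rcases hx.2 with h | h <;> rw [h]
        · exact Or.inl inv_one
        · exact Or.inr (inv_eq_of_mul_eq_one_right C.two.sq)⟩ }
  have hWS : W ≤ S := by
    conv_lhs => rw [← hWA]
    refine commutator_le.mpr fun w hw a ha => ?_
    have hv : a * w⁻¹ * a⁻¹ ∈ W := (mem_normalizer_iff.mp (hAn ha) _).mp (inv_mem hw)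
    have e : ⁅w, a⁆ = w * (a * w⁻¹ * a⁻¹) := by simp only [commutatorElement_def]; group
    rw [e]
    refine ⟨mul_mem hw hv, ?_⟩
    obtain ⟨v, hvd⟩ : ∃ v, v = a * w⁻¹ * a⁻¹ := ⟨_, rfl⟩
    rw [← hvd] at hv ⊢
    have hv2 : v * v = (w * w)⁻¹ := by
      rw [hvd, show a * w⁻¹ * a⁻¹ * (a * w⁻¹ * a⁻¹) = a * (w * w)⁻¹ * a⁻¹ by group,
        ((hAZ a ha _ (hsqc w hw)).inv_right).eq, mul_inv_cancel_right]
    have e2 : w * v * (w * v) = w * (v * w * v⁻¹ * w⁻¹) * w * (v * v) := by group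
    rw [e2, hv2, ((hcom v hv w hw).2 w hw).symm.eq, mul_assoc (v * w * v⁻¹ * w⁻¹) w w, mul_inv_cancel_right]
    exact hcomm v hv w hw
  refine ⟨W, hWU, fun g hgU hgA => hW ▸ mem_normalizer_commutator hgU hgA, hcomm, fun x hx => (hWS hx).2, ?_,
    fun x hx hxc a ha => hAZ a ha x ⟨hx, hxc⟩, ?_⟩
  · intro x hx hxA
    have hle : ⁅W, A⁆ ≤ centralizer ({x} : Set G) := commutator_le.mpr fun z hz a ha => mem_cz.mpr (by
      have hc := hcom x hx z hz
      exact comm_aux (c := x * z * x⁻¹ * z⁻¹) (by group) (hxA a ha).symm (hAZ a ha _ hc).symm (hc.2 z hz))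
    rw [hWA] at hle
    exact fun y hy => mem_cz.mp (hle hy)
  · intro a ha hfix
    obtain ⟨B, hB⟩ : ∃ B, B = zpowers a := ⟨_, rfl⟩
    have hBA : B ≤ A := hB ▸ zpowers_le.mpr ha
    have h1 : ⁅⁅U, B⁆, B⁆ = ⊥ := by
      refine le_bot_iff.mp ((commutator_mono (commutator_mono le_rfl hBA) le_rfl).trans ?_)
      rw [← hW, le_bot_iff, commutator_eq_bot_iff_le_centralizer, hB, ← Grp.centralizer_singleton_eq_zpowers]
      exact fun x hx => mem_cz.mpr (hfix x hx)
    rw [Grp.commutator_commutator_eq B U (hBA.trans C.fixU) (hcop hBA le_rfl) (Or.inl (hsolvA hBA)),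
      commutator_eq_bot_iff_le_centralizer, hB, ← Grp.centralizer_singleton_eq_zpowers] at h1
    have haU : a ∈ U := C.two.self ⟨C.le ha, mem_centralizer_iff.mpr fun u hu => ((mem_cz.mp (h1 hu)).eq).symm⟩
    obtain ⟨k, hk⟩ := C.two.two ⟨a, haU⟩
    exact eq_one_two_p C.odd (k := k) (by simpa using congrArg (fun w : ↥U => (w : G)) hk) (C.elem.2 a ha)

/-- Hyperplanes of `A` not centralising their fixed points in `W`. -/
def Kern (p : ℕ) (A W B : Subgroup G) : Prop :=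
  B ≤ A ∧ B.relIndex A = p ∧ ¬ W ⊓ centralizer (B : Set G) ≤ centralizer (A : Set G)

/-- A hyperplane and an outside element generate. -/
theorem sup_eq {A B : Subgroup G} (hB : B ≤ A) (hi : B.relIndex A = p) {a : G} (ha : a ∈ A) (haB : a ∉ B) :
    B ⊔ zpowers a = A := by
  refine le_antisymm (sup_le hB (zpowers_le.mpr ha)) ?_
  have h := relIndex_mul_relIndex B (B ⊔ zpowers a) A le_sup_left (sup_le hB (zpowers_le.mpr ha))
  rw [hi] at h
  have h1 : B.relIndex (B ⊔ zpowers a) ≠ 1 := fun e =>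
    haB (relIndex_eq_one.mp e (mem_sup_right (mem_zpowers a)))
  rcases hp.out.eq_one_or_self_of_dvd _ ⟨_, h.symm⟩ with h2 | h2
  · exact absurd h2 h1
  · rw [h2, Nat.mul_eq_left hp.out.ne_zero] at h
    exact relIndex_eq_one.mp h

theorem Nice.kernel_comm {r : ℕ} {j : G} {A U W : Subgroup G} (C : Ctx p r j A U) (N : Nice j A U W)
    {B B' : Subgroup G} (hB : B ≤ A) (hi : B.relIndex A = p) (hB' : B' ≤ A) (hi' : B'.relIndex A = p)
    (hne : B ≠ B') {x y : G} (hx : x ∈ W ⊓ centralizer (B : Set G)) (hy : y ∈ W ⊓ centralizer (B' : Set G)) :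
    Commute x y := by
  obtain ⟨a, haB', haB⟩ : ∃ a ∈ B', a ∉ B := SetLike.not_le_iff_exists.mp fun hle => by
    refine hne (eq_of_le_of_card_ge hle ?_).symm
    have h1 := Grp.card_mul_relIndex hB
    have h2 := Grp.card_mul_relIndex hB'
    rw [hi] at h1; rw [hi', ← h1] at h2
    exact (Nat.eq_of_mul_eq_mul_right hp.out.pos h2).ge
  have hsup := sup_eq hB hi (hB' haB') haB
  obtain ⟨X, hX⟩ : ∃ X, X = W ⊓ centralizer (B : Set G) := ⟨_, rfl⟩
  have hAX : A ≤ normalizer (X : Set G) := hX ▸ Grp.le_normalizer_inf'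
    (fun g hg => N.norm g (C.fixU hg) (le_normalizer hg))
    (le_trans (show A ≤ centralizer (B : Set G) from fun g hg => mem_centralizer_iff.mpr fun b hb =>
      Grp.elemAb_comm C.elem b (hB hb) g hg) le_normalizer)
  have hZA : zpowers a ≤ A := zpowers_le.mpr (hB' haB')
  have hcop : (Nat.card (zpowers a)).Coprime (Nat.card X) := by
    obtain ⟨m, hm⟩ := IsPGroup.iff_card.mp (C.two.two.to_le ((hX ▸ inf_le_left : X ≤ W).trans N.le))
    rw [hm]
    refine ((coprime_two C.odd (k := m)).symm).coprime_dvd_left ?_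
    rw [Nat.card_zpowers]
    exact orderOf_dvd_of_pow_eq_one (C.elem.2 a (hB' haB'))
  have hsolv : Group.IsSolvable (zpowers a) := inferInstance
  have hdec := Grp.commutator_sup_fixed (zpowers a) X (hZA.trans hAX) hcop (Or.inl hsolv)
  have hle : X ≤ centralizer ({y} : Set G) := by
    conv_lhs => rw [← hdec]
    refine sup_le (commutator_le.mpr fun z hz b hb => mem_cz.mpr ?_) fun z hz => mem_cz.mpr ?_
    · have hzW : z ∈ W := (hX ▸ inf_le_left : X ≤ W) hz
      have hbB' : b ∈ B' := (zpowers_le.mpr haB') hb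
      have hbc : ∀ c : G, (c = 1 ∨ c = j) → Commute c b ∧ Commute c z := by
        rintro c (rfl | rfl)
        · exact ⟨Commute.one_left b, Commute.one_left z⟩
        · exact ⟨mem_cz.mp (C.le (hB' hbB')), mem_cz.mp (C.two.le (N.le hzW))⟩
      have h := hbc _ (N.comm y hy.1 z hzW)
      exact comm_aux (c := y * z * y⁻¹ * z⁻¹) (by group)
        ((show Commute b y from mem_centralizer_iff.mp hy.2 b hbB').symm) h.1 h.2
    · rw [hX] at hz
      refine (N.fixed_central z hz.1.1 (fun g hg => ?_) y hy.1).symm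
      have : B ⊔ zpowers a ≤ centralizer ({z} : Set G) := sup_le
        (fun b hb => mem_cz.mpr (mem_centralizer_iff.mp hz.1.2 b hb).symm)
        (fun b hb => mem_cz.mpr (mem_centralizer_iff.mp hz.2 b hb).symm)
      rw [hsup] at this
      exact (mem_cz.mp (this hg)).symm
  exact (mem_cz.mp (hle (hX ▸ hx))).symm

/-- A hyperplane in `Kern` carries a quaternion pair. -/
theorem Nice.pair {r : ℕ} {j : G} {A U W : Subgroup G} (C : Ctx p r j A U) (N : Nice j A U W)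
    {B : Subgroup G} (hk : Kern p A W B) :
    ∃ a ∈ W ⊓ centralizer (B : Set G), ∃ b ∈ W ⊓ centralizer (B : Set G),
      a * a = j ∧ b * b = j ∧ a * b * a⁻¹ = b * j := by
  obtain ⟨hB, hi, hbad⟩ := hk
  have hp3 := C.three
  obtain ⟨X, hX⟩ : ∃ X, X = W ⊓ centralizer (B : Set G) := ⟨_, rfl⟩
  have hXW : X ≤ W := hX ▸ inf_le_left
  have hWodd : ¬ p ∣ Nat.card W := by
    obtain ⟨k, hk⟩ := IsPGroup.iff_card.mp (C.two.two.to_le N.le)
    rw [hk]; intro h
    exact C.odd ((Nat.prime_dvd_prime_iff_eq hp.out Nat.prime_two).mp (hp.out.dvd_of_dvd_pow h))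
  have hAW : A ≤ normalizer (W : Set G) := fun g hg => N.norm g (C.fixU hg) (le_normalizer hg)
  have hA1 : A ≠ ⊥ := Grp.ne_bot_of_card (n := r) (by omega) C.card.ge
  -- elements commuting with the whole of their layer are central
  have hcen : ∀ x ∈ X, (∀ y ∈ X, Commute x y) → ∀ y ∈ W, Commute x y := fun x hx hc y hy => by
    refine mem_cz.mp (Grp.le_of_hyperplanes C.elem hA1 W hWodd hAW (fun E hE hiE z hz => mem_cz.mpr ?_) hy)
    by_cases hEB : E = B
    · exact hc z (hX ▸ hEB ▸ hz)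
    · exact N.kernel_comm C hB hi hE hiE (Ne.symm hEB) (hX ▸ hx) hz
  obtain ⟨x0, hx0, hx0A⟩ := SetLike.not_le_iff_exists.mp hbad
  obtain ⟨y0, hy0, hxy⟩ : ∃ y ∈ X, ¬ Commute x0 y := by
    by_contra hno
    push Not at hno
    exact hx0A (mem_centralizer_iff.mpr fun a ha =>
      (N.central_fixed x0 hx0.1 (hcen x0 (hX ▸ hx0) hno) a ha).eq)
  rw [← hX] at hx0 ⊢
  have hcj : ∀ {u v : G}, u ∈ X → v ∈ X → ¬ Commute u v → u * v * u⁻¹ * v⁻¹ = j := fun hu hv h =>
    (N.comm _ (hXW hu) _ (hXW hv)).resolve_left fun e =>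
      h (mul_inv_eq_iff_eq_mul.mp (mul_inv_eq_one.mp e))
  by_contra hno
  push Not at hno
  have hNc : ∀ u ∈ {u | u ∈ X ∧ u * u = j}, ∀ v ∈ {u | u ∈ X ∧ u * u = j}, u * v = v * u := by
    rintro u ⟨hu, hu2⟩ v ⟨hv, hv2⟩
    by_contra hne
    refine hno u hu v hv hu2 hv2 ?_
    have e := hcj hu hv hne
    rw [mul_inv_eq_iff_eq_mul] at e
    rw [e, (mem_cz.mp (C.two.le (N.le (hXW hv)))).eq]
  obtain ⟨M, hM⟩ : ∃ M, M = closure {u | u ∈ X ∧ u * u = j} := ⟨_, rfl⟩
  have hMX : M ≤ X := hM ▸ (closure_le _).mpr fun u hu => hu.1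
  have hAX : A ≤ normalizer (X : Set G) := hX ▸ Grp.le_normalizer_inf' hAW
    (le_trans (show A ≤ centralizer (B : Set G) from fun g hg => mem_centralizer_iff.mpr fun b hb =>
      Grp.elemAb_comm C.elem b (hB hb) g hg) le_normalizer)
  have hMA : ∀ a ∈ A, ∀ u ∈ M, Commute a u := by
    refine C.abelian_fixed ((hMX.trans hXW).trans N.le) (fun u hu v hv => ?_) fun a ha => ?_
    · haveI : IsMulCommutative ↥M := hM ▸ Subgroup.isMulCommutative_closure hNc
      exact congrArg Subtype.val (mul_comm' (⟨u, hu⟩ : M) ⟨v, hv⟩)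
    · rw [hM]
      refine mem_normalizer_closure ?_
      rintro u ⟨hu, hu2⟩
      refine ⟨(mem_normalizer_iff.mp (hAX ha) u).mp hu, ?_⟩
      rw [show a * u * a⁻¹ * (a * u * a⁻¹) = a * (u * u) * a⁻¹ by group, hu2, ← (mem_cz.mp (C.le ha)).eq,
        mul_inv_cancel_right]
  obtain ⟨u, v, hu, hv, huj, huv⟩ : ∃ u v, u ∈ X ∧ v ∈ X ∧ u * u = j ∧ ¬ Commute u v := by
    rcases N.sq x0 (hXW hx0) with h1 | h1
    · rcases N.sq y0 (hXW hy0) with h2 | h2
      · refine ⟨x0 * y0, y0, mul_mem hx0 hy0, hy0, ?_, fun h => hxy ?_⟩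
        · have e := hcj hx0 hy0 hxy
          rw [inv_eq_of_mul_eq_one_right h1, inv_eq_of_mul_eq_one_right h2, mul_assoc] at e
          exact e
        · have := h.mul_left (Commute.refl y0).inv_left
          rwa [mul_inv_cancel_right] at this
      · exact ⟨y0, x0, hy0, hx0, h2, fun h => hxy h.symm⟩
    · exact ⟨x0, y0, hx0, hy0, h1, hxy⟩
  exact huv (N.fixed_central u (hXW hu) (fun a ha => hMA a ha u (hM ▸ subset_closure ⟨hu, huj⟩)) v (hXW hv))

theorem Nice.exists_kern {r : ℕ} {j : G} {A U W : Subgroup G} (C : Ctx p r j A U) (N : Nice j A U W)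
    {a : G} (ha : a ∈ A) (ha1 : a ≠ 1) : ∃ B, Kern p A W B ∧ a ∉ B := by
  by_contra hno
  push Not at hno
  have hWodd : ¬ p ∣ Nat.card W := by
    obtain ⟨k, hk⟩ := IsPGroup.iff_card.mp (C.two.two.to_le N.le)
    rw [hk]; intro h
    exact C.odd ((Nat.prime_dvd_prime_iff_eq hp.out Nat.prime_two).mp (hp.out.dvd_of_dvd_pow h))
  have hA1 : A ≠ ⊥ := fun h => ha1 (mem_bot.mp (h ▸ ha))
  refine ha1 (N.faith a ha fun x hx => mem_cz.mp (Grp.le_of_hyperplanes C.elem hA1 W hWodd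
    (fun g hg => N.norm g (C.fixU hg) (le_normalizer hg)) (fun E hE hi z hz => ?_) hx))
  by_cases haE : a ∈ E
  · exact mem_cz.mpr (mem_centralizer_iff.mp hz.2 a haE)
  · by_cases hb : W ⊓ centralizer (E : Set G) ≤ centralizer (A : Set G)
    · exact mem_cz.mpr (mem_centralizer_iff.mp (hb hz) a ha)
    · exact absurd (hno E ⟨hE, hi, hb⟩) haE

theorem card_inf_hyperplanes {r : ℕ} (hr : 2 ≤ r) {A B1 B2 : Subgroup G} (hA : Cfsg.IsElementaryAbelian p A)
    (hAr : Nat.card A = p ^ r) (h1 : B1 ≤ A) (i1 : B1.relIndex A = p) (h2 : B2 ≤ A) (i2 : B2.relIndex A = p)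
    (hne : B1 ≠ B2) : Nat.card ↥(B1 ⊓ B2) = p ^ (r - 2) := by
  have hc : ∀ {B : Subgroup G}, B ≤ A → B.relIndex A = p → Nat.card B = p ^ (r - 1) := by
    intro B hB hi
    have h := Grp.card_mul_relIndex hB
    rw [hi, hAr, show r = r - 1 + 1 by omega, pow_succ] at h
    exact Nat.eq_of_mul_eq_mul_right hp.out.pos h
  obtain ⟨a, ha2, ha1⟩ : ∃ a ∈ B2, a ∉ B1 := SetLike.not_le_iff_exists.mp fun hle =>
    hne (eq_of_le_of_card_ge hle (by rw [hc h1 i1, hc h2 i2])).symm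
  have hsup : B1 ⊔ B2 = A := le_antisymm (sup_le h1 h2)
    ((sup_eq h1 i1 (h2 ha2) ha1).ge.trans (sup_le_sup_left (zpowers_le.mpr ha2) _))
  have hn : B1 ≤ normalizer (B2 : Set G) := le_trans (show B1 ≤ centralizer (B2 : Set G) from fun x hx =>
    mem_centralizer_iff.mpr fun y hy => Grp.elemAb_comm hA y (h2 hy) x (h1 hx)) (centralizer_le_normalizer _)
  have h := Grp.card_sup_mul_card_inf hn
  rw [hsup, hAr, hc h1 i1, hc h2 i2, ← pow_add, show r - 1 + (r - 1) = r + (r - 2) by omega, pow_add] at h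
  exact Nat.eq_of_mul_eq_mul_left (pow_pos hp.out.pos r) h

/-- The contradiction. -/
theorem false_of_ctx (hG2 : Cfsg.IsCharacteristicTwoType G) {r : ℕ} {i : G} {A U : Subgroup G}
    (C : Ctx p r i A U) : False := by
  have hp2 := C.odd
  have hp3 := C.three
  obtain ⟨W, N⟩ := exists_nice C
  obtain ⟨a0, ha0, ha01⟩ := (bot_or_exists_ne_one A).resolve_left
    (Grp.ne_bot_of_card (n := r) (by omega) C.card.ge)
  obtain ⟨B1, k1, -⟩ := N.exists_kern C ha0 ha01
  have hB1card : Nat.card B1 * p = p ^ r := by rw [← C.card, ← Grp.card_mul_relIndex k1.1, k1.2.1]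
  obtain ⟨b, hb, hb1⟩ := (bot_or_exists_ne_one B1).resolve_left (fun e => by
    rw [e, card_bot, one_mul] at hB1card
    have := Nat.pow_right_injective hp.out.two_le ((pow_one p).trans hB1card)
    omega)
  obtain ⟨B2, k2, hb2⟩ := N.exists_kern C (k1.1 hb) hb1
  have hne : B1 ≠ B2 := fun e => hb2 (e ▸ hb)
  obtain ⟨a1, ha1, b1, hbm1, ha1s, hb1s, hab1⟩ := N.pair C k1
  obtain ⟨a2, ha2, b2, hbm2, ha2s, hb2s, hab2⟩ := N.pair C k2
  have hc : ∀ {u v : G}, u ∈ W ⊓ centralizer (B1 : Set G) → v ∈ W ⊓ centralizer (B2 : Set G) → Commute u v :=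
    fun hu hv => N.kernel_comm C k1.1 k1.2.1 k2.1 k2.2.1 hne hu hv
  obtain ⟨K, hK⟩ : ∃ K, K = B1 ⊓ B2 := ⟨_, rfl⟩
  have hKel : Cfsg.IsElementaryAbelian p K := Grp.elemAb_mono C.elem (hK ▸ inf_le_left.trans k1.1)
  have hKr : Nat.card K = p ^ (r - 2) :=
    hK ▸ card_inf_hyperplanes (by omega) C.elem C.card k1.1 k1.2.1 k2.1 k2.2.1 hne
  obtain ⟨D, hD⟩ := exists_det hp2 C.loc hKel (Grp.ne_bot_of_card (n := r - 2) (by omega) hKr.ge)
  have hin1 : ∀ u ∈ W ⊓ centralizer (B1 : Set G), u ∈ U ∧ u ∈ centralizer (K : Set G) := fun u hu =>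
    ⟨N.le hu.1, centralizer_le (hK ▸ inf_le_left : K ≤ B1) hu.2⟩
  have hin2 : ∀ u ∈ W ⊓ centralizer (B2 : Set G), u ∈ U ∧ u ∈ centralizer (K : Set G) := fun u hu =>
    ⟨N.le hu.1, centralizer_le (hK ▸ inf_le_right : K ≤ B2) hu.2⟩
  have hiU : ∀ z ∈ U, Commute i z := fun z hz => mem_cz.mp (C.two.le hz)
  have hisq := C.two.sq
  obtain ⟨j, hj⟩ : ∃ j, j = a1 * a2 := ⟨_, rfl⟩
  obtain ⟨k, hk⟩ : ∃ k, k = b1 * b2 := ⟨_, rfl⟩
  have hjU : j ∈ U := hj ▸ mul_mem (hin1 _ ha1).1 (hin2 _ ha2).1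
  have hkU : k ∈ U := hk ▸ mul_mem (hin1 _ hbm1).1 (hin2 _ hbm2).1
  have hjK : j ∈ centralizer (K : Set G) := hj ▸ mul_mem (hin1 _ ha1).2 (hin2 _ ha2).2
  have hkK : k ∈ centralizer (K : Set G) := hk ▸ mul_mem (hin1 _ hbm1).2 (hin2 _ hbm2).2
  have hiK : i ∈ centralizer (K : Set G) := ha1s ▸ mul_mem (hin1 _ ha1).2 (hin1 _ ha1).2
  have hjs : j * j = 1 := by rw [hj, ← pow_two, (hc ha1 ha2).mul_pow, pow_two, pow_two, ha1s, ha2s, hisq]
  have hks : k * k = 1 := by rw [hk, ← pow_two, (hc hbm1 hbm2).mul_pow, pow_two, pow_two, hb1s, hb2s, hisq]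
  have ha1j : Commute a1 j := hj ▸ (Commute.refl a1).mul_right (hc ha1 ha2)
  have hi1 : Commute i a1 := hiU a1 (hin1 _ ha1).1
  have ha1k : a1 * k * a1⁻¹ = k * i := by
    rw [hk, show a1 * (b1 * b2) * a1⁻¹ = (a1 * b1 * a1⁻¹) * (a1 * b2 * a1⁻¹) by group, hab1, (hc ha1 hbm2).eq,
      mul_inv_cancel_right, mul_assoc b1, (hiU b2 (hin2 _ hbm2).1).eq, mul_assoc]
  have hjk : Commute j k := by
    have ha2k : a2 * k * a2⁻¹ = k * i := by
      rw [hk, show a2 * (b1 * b2) * a2⁻¹ = (a2 * b1 * a2⁻¹) * (a2 * b2 * a2⁻¹) by group,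
        (hc hbm1 ha2).symm.eq, mul_inv_cancel_right, hab2, mul_assoc]
    refine mul_inv_eq_iff_eq_mul.mp ?_
    rw [hj, show a1 * a2 * k * (a1 * a2)⁻¹ = a1 * (a2 * k * a2⁻¹) * a1⁻¹ by group, ha2k,
      show a1 * (k * i) * a1⁻¹ = (a1 * k * a1⁻¹) * (a1 * i * a1⁻¹) by group, ha1k, hi1.symm.eq,
      mul_inv_cancel_right, mul_assoc, hisq, mul_one]
  have hbj : b1 * i ≠ b1 := fun h => C.two.ne (by rwa [mul_eq_left] at h)
  have hj1 : j ≠ 1 := by
    intro h
    apply hbj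
    rw [hj] at h
    have e : a1 = a2⁻¹ := eq_inv_of_mul_eq_one_left h
    rw [← hab1, e, ← (hc hbm1 ha2).inv_right.eq, mul_inv_cancel_right]
  have hji : j ≠ i := by
    intro h
    apply hbj
    have e : a2 = a1 := mul_left_cancel (hj.symm.trans (h.trans ha1s.symm))
    rw [← hab1, ← e, ← (hc hbm1 ha2).eq, mul_inv_cancel_right]
  have hij : Commute i j := hiU j hjU
  have hik : Commute i k := hiU k hkU
  -- the two elements
  have hmov := forced hp2 C.two hD hiK hjK hjU hjs hj1 hji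
  have hin := hD.norm hiK
  obtain ⟨u, hu, d, hd, hud, hid⟩ := split hp2 (hD.pgrp.to_le inf_le_left) hisq hks hik
    (normalizer_inf_cz hin hij.symm) (normalizer_inf_cz (hD.norm hkK) hjk)
    (Y := D ⊓ centralizer ({j} : Set G))
    (let ⟨d, hd, h1, h2⟩ := hmov; ⟨d, ⟨hd, mem_cz.mpr h1⟩, h2⟩)
  have huU : u ∈ U := by rcases hu with rfl | rfl; exacts [hkU, mul_mem C.two.mem hkU]
  have huK : u ∈ centralizer (K : Set G) := by rcases hu with rfl | rfl; exacts [hkK, mul_mem hiK hkK]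
  have hus : u * u = 1 := by rcases hu with rfl | rfl; exacts [hks, mul_sq hisq hks hik]
  have hiu : Commute i u := hiU u huU
  have hju : Commute j u := by rcases hu with rfl | rfl; exacts [hjk, hij.symm.mul_right hjk]
  have ha1u : u = a1 * (u * i) * a1⁻¹ := by
    have e : a1 * i * a1⁻¹ = i := by rw [hi1.symm.eq, mul_inv_cancel_right]
    rw [show a1 * (u * i) * a1⁻¹ = (a1 * u * a1⁻¹) * (a1 * i * a1⁻¹) by group, e]
    rcases hu with rfl | rfl
    · rw [ha1k, mul_assoc, hisq, mul_one]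
    · rw [show a1 * (i * k) * a1⁻¹ = (a1 * i * a1⁻¹) * (a1 * k * a1⁻¹) by group, e, ha1k, mul_assoc, mul_assoc k,
        hisq, mul_one]
  obtain ⟨x, hx⟩ : ∃ x, x = d⁻¹ * (i * d * i) := ⟨_, rfl⟩
  obtain ⟨⟨⟨hxD, hxj⟩, hxu⟩, hxi, hx1⟩ := inv_elem hisq hid
    (Y := D ⊓ centralizer ({j} : Set G) ⊓ centralizer ({u} : Set G)) ⟨hd, mem_cz.mpr hud⟩
    (normalizer_inf_cz (normalizer_inf_cz hin hij.symm) hiu.symm)
  rw [← hx] at hxD hxj hxu hxi hx1
  have xu : u * x * u = x := (commute_iff_conj hus).mp (mem_cz.mp hxu)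
  obtain ⟨y, hy⟩ : ∃ y, y = a1 * x * a1⁻¹ := ⟨_, rfl⟩
  have hyD : y ∈ D := hy ▸ (mem_normalizer_iff.mp (hD.norm (hin1 _ ha1).2) x).mp hxD
  have hy1 : y ≠ 1 := fun h => hx1 (conj_eq_one_iff.mp (hy ▸ h))
  have hyj : Commute j y := hy ▸ (ha1j.symm.mul_right (mem_cz.mp hxj)).mul_right ha1j.symm.inv_right
  have hyi : i * y * i = y⁻¹ := by
    rw [hy, conj_trans (g := a1) (by rw [hi1.symm.eq, mul_inv_cancel_right]) hxi, _root_.conj_inv]
  have hyu : u * y * u = y⁻¹ := by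
    rw [hy, conj_trans ha1u (by rw [conj_mul hiu.symm, hxi, conj_inv hus, xu] : _ = x⁻¹), _root_.conj_inv]
  have hxy : Commute x y := comm_signs hp2 hD hisq hus hxD hyD hxi hyi (mem_cz.mp hxu) hyu
    fun e he h => C.two.comm hp2 hD huU huK he h
  have hfixK : ∀ g ∈ centralizer (K : Set G), K ≤ centralizer ({g} : Set G) :=
    fun g hg e he => mem_cz.mpr (mem_centralizer_iff.mp hg e he).symm
  have hxK : x ∉ K := not_mem_of_inverts hp2 hisq (fun e he => mem_cz.mp (hfixK i hiK he)) hxi (hD.exp x hxD) hx1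
  obtain ⟨E1, hE1, hKE1, hxE1, hcard1, hmin1⟩ := exists_extend hKel
    (fun e he => mem_centralizer_iff.mp (hD.le hxD) e he) (hD.exp x hxD) hxK
  have hyE1 : y ∉ E1 := not_mem_of_inverts hp2 hus
    (fun e he => mem_cz.mp (hmin1 (centralizer ({u} : Set G)) (hfixK u huK) hxu he)) hyu (hD.exp y hyD) hy1
  have hE1y : E1 ≤ centralizer ({y} : Set G) :=
    hmin1 _ (fun e he => mem_cz.mpr (mem_centralizer_iff.mp (hD.le hyD) e he).symm) (mem_cz.mpr hxy.symm)
  obtain ⟨A', hA', hE1A, hyA, hcard2, hmin2⟩ := exists_extend hE1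
    (fun e he => ((mem_cz.mp (hE1y he)).eq).symm) (hD.exp y hyD) hyE1
  have hxA : x ∈ A' := hE1A hxE1
  have hKA : K ≤ A' := hKE1.trans hE1A
  have hA'j : A' ≤ centralizer ({j} : Set G) :=
    hmin2 _ (hmin1 _ (hfixK j hjK) hxj) (mem_cz.mpr hyj)
  have hA'r : Nat.card A' = p ^ r := by
    refine le_antisymm (rank_bound C.max hjs hj1 hA' hA'j) ?_
    calc p ^ r = p * (p * p ^ (r - 2)) := by rw [← pow_succ', ← pow_succ', show r - 2 + 1 + 1 = r by omega]
      _ ≤ p * Nat.card E1 := Nat.mul_le_mul_left _ (hKr ▸ hcard1)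
      _ ≤ _ := hcard2
  obtain ⟨U', hU'⟩ := exists_two hG2 hjs hj1
  have C' : Ctx p r j A' U' := ⟨hp2, C.loc, C.three, C.max, hU', hA', hA'r, hA'j⟩
  obtain ⟨W', N'⟩ := exists_nice C'
  -- the element `t`
  obtain ⟨t, ht⟩ : ∃ t, t = i * u := ⟨_, rfl⟩
  have hts : t * t = 1 := ht ▸ mul_sq hisq hus hiu
  have htK : t ∈ centralizer (K : Set G) := ht ▸ mul_mem hiK huK
  have hjt : Commute j t := ht ▸ hij.symm.mul_right hju
  have htx : t * x * t = x⁻¹ := by rw [ht, conj_mul hiu, xu, hxi]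
  have hty : Commute t y := (commute_iff_conj hts).mpr (by
    rw [ht, conj_mul hiu, hyu, conj_inv hisq, hyi, inv_inv])
  have ht' : t⁻¹ = t := inv_eq_of_mul_eq_one_right hts
  have htA : t ∈ normalizer (A' : Set G) := by
    refine mem_normalizer_fintype fun e he => hmin2 (A'.comap (MulAut.conj t).toMonoidHom)
      (hmin1 _ (fun c hc => ?_) ?_) ?_ he
    · show t * c * t⁻¹ ∈ A'
      rw [← (mem_cz.mp (hfixK t htK hc)).symm.eq, mul_inv_cancel_right]; exact hKA hc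
    · show t * x * t⁻¹ ∈ A'
      rw [ht', htx]; exact inv_mem hxA
    · show t * y * t⁻¹ ∈ A'
      rw [hty.eq, mul_inv_cancel_right]; exact hyA
  have hA'c : ∀ a ∈ A', ∀ c ∈ A', Commute a c := Grp.elemAb_comm hA'
  let S : Subgroup G :=
    { carrier := {e | e ∈ A' ∧ t * e * t * e⁻¹ ∈ zpowers x}
      one_mem' := ⟨one_mem A', by rw [mul_one, hts, inv_one, one_mul]; exact one_mem _⟩
      mul_mem' := fun {e c} he hc => ⟨mul_mem he.1 hc.1, by
        have hce : t * c * t ∈ A' := by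
          have := (mem_normalizer_iff.mp htA c).mp hc.1; rwa [ht'] at this
        have key : t * (e * c) * t * (e * c)⁻¹ = (t * e * t * e⁻¹) * (t * c * t * c⁻¹) := by
          calc t * (e * c) * t * (e * c)⁻¹ = (t * e * t) * ((t⁻¹ * c * t) * c⁻¹) * e⁻¹ := by group
            _ = (t * e * t) * (((t * c * t) * c⁻¹) * e⁻¹) := by rw [ht', mul_assoc]
            _ = (t * e * t) * (e⁻¹ * ((t * c * t) * c⁻¹)) := by
              rw [((hA'c _ (mul_mem hce (inv_mem hc.1)) _ (inv_mem he.1))).eq]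
            _ = _ := by simp only [mul_assoc]
        rw [key]; exact mul_mem he.2 hc.2⟩
      inv_mem' := fun {e} he => ⟨inv_mem he.1, by
        have hte : t * e * t ∈ A' := by
          have := (mem_normalizer_iff.mp htA e).mp he.1; rwa [ht'] at this
        have key : t * e⁻¹ * t * e⁻¹⁻¹ = (t * e * t * e⁻¹)⁻¹ := by
          rw [mul_inv_rev, inv_inv, conj_inv hts]
          exact (hA'c _ (inv_mem hte) _ he.1)
        rw [key]; exact inv_mem he.2⟩ }
  have hA'S : ∀ e ∈ A', t * e * t * e⁻¹ ∈ zpowers x := fun e he => ((hmin2 S (hmin1 S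
    (fun c hc => ⟨hKA hc, by rw [(commute_iff_conj hts).mp (mem_cz.mp (hfixK t htK hc)), mul_inv_cancel]; exact one_mem _⟩)
    ⟨hxA, by rw [htx]; exact mul_mem (inv_mem (mem_zpowers x)) (inv_mem (mem_zpowers x))⟩)
    ⟨hyA, by rw [(commute_iff_conj hts).mp hty, mul_inv_cancel]; exact one_mem _⟩) he).2
  -- a hyperplane moved by `t`
  obtain ⟨B, kB, hxB⟩ := N'.exists_kern C' hxA hx1
  have hKB : ¬ K ≤ B := by
    intro hle
    refine kB.2.2 fun z hz => ?_
    have hzK : z ∈ centralizer (K : Set G) := centralizer_le hle hz.2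
    have hz1 : ∀ e ∈ D, Commute j e → Commute z e := fun e he h => hU'.comm hp2 hD (N'.le hz.1) hzK he h
    have : A' ≤ centralizer ({z} : Set G) := hmin2 _ (hmin1 _ (hfixK z hzK)
      (mem_cz.mpr (hz1 x hxD (mem_cz.mp hxj)))) (mem_cz.mpr (hz1 y hyD hyj))
    exact mem_centralizer_iff.mpr fun a ha => ((mem_cz.mp (this ha)).eq).symm
  obtain ⟨k0, hk0, hk0B⟩ := SetLike.not_le_iff_exists.mp hKB
  have hfixB : ∀ e ∈ B, t * e * t ∈ B → Commute t e := fun e he hte => by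
    have h1 : t * e * t * e⁻¹ ∈ B ⊓ zpowers x := ⟨B.mul_mem hte (B.inv_mem he), hA'S e (kB.1 he)⟩
    rw [Grp.elemAb_zpowers_inf hA' hxA hxB, mem_bot] at h1
    exact (commute_iff_conj hts).mpr (mul_inv_eq_one.mp h1)
  obtain ⟨B', hB'⟩ : ∃ B', B' = B.map (MulAut.conj t).toMonoidHom := ⟨_, rfl⟩
  have hmemB' : ∀ e, e ∈ B' ↔ t * e * t ∈ B := fun e => by rw [hB', wc_mem_map_conj, ht']
  have hB'A : B' ≤ A' := fun e he => by
    have h := (mem_normalizer_iff.mp htA _).mp (kB.1 ((hmemB' e).mp he))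
    rwa [ht', show t * (t * e * t) * t = (t * t) * e * (t * t) by group, hts, one_mul, mul_one] at h
  have hB'i : B'.relIndex A' = p := by
    have h1 := Grp.card_mul_relIndex kB.1
    have h2 := Grp.card_mul_relIndex hB'A
    have hcB : Nat.card B' = Nat.card B := by
      rw [hB']; exact card_map_of_injective (MulAut.conj t).injective
    rw [hcB, ← h1, kB.2.1] at h2
    exact Nat.eq_of_mul_eq_mul_left Nat.card_pos h2
  have hBB' : B ≠ B' := by
    intro e
    have hcB : ∀ c ∈ B, Commute t c := fun c hc => hfixB c hc ((hmemB' c).mp (e ▸ hc))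
    have hall : A' ≤ centralizer ({t} : Set G) := (sup_eq kB.1 kB.2.1 (hKA hk0) hk0B).ge.trans
      (sup_le (fun c hc => mem_cz.mpr (hcB c hc))
        (zpowers_le.mpr (hfixK t htK hk0)))
    refine hx1 (eq_one_of_inv hp2 (hD.exp x hxD) ?_)
    rw [← htx]; exact (commute_iff_conj hts).mp (mem_cz.mp (hall hxA))
  obtain ⟨K', hK'⟩ : ∃ K', K' = B ⊓ B' := ⟨_, rfl⟩
  have hK'el : Cfsg.IsElementaryAbelian p K' := Grp.elemAb_mono hA' (hK' ▸ inf_le_left.trans kB.1)
  have hK'r : Nat.card K' = p ^ (r - 2) :=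
    hK' ▸ card_inf_hyperplanes (by omega) hA' hA'r kB.1 kB.2.1 hB'A hB'i hBB'
  obtain ⟨D', hD'⟩ := exists_det hp2 C.loc hK'el (Grp.ne_bot_of_card (n := r - 2) (by omega) hK'r.ge)
  have htK' : t ∈ centralizer (K' : Set G) := mem_centralizer_iff.mpr fun e he => by
    rw [hK'] at he
    exact ((hfixB e he.1 ((hmemB' e).mp he.2)).eq).symm
  have htW : t ∈ normalizer (W' : Set G) := N'.norm t (hU'.norm (mem_cz.mpr hjt)) htA
  obtain ⟨a, ha, c, hcm, has, hcs, hac⟩ := N'.pair C' kB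
  have himg : ∀ z ∈ W' ⊓ centralizer (B : Set G), t * z * t ∈ W' ⊓ centralizer (B' : Set G) := fun z hz => by
    refine ⟨?_, mem_centralizer_iff.mpr fun e he => ?_⟩
    · have := (mem_normalizer_iff.mp htW z).mp hz.1; rwa [ht'] at this
    · have h := mem_centralizer_iff.mp hz.2 _ ((hmemB' e).mp he)
      calc e * (t * z * t) = t * ((t⁻¹ * e * t) * z) * t := by group
        _ = t * (z * (t * e * t)) * t := by rw [ht', h]
        _ = t * z * (t * e * (t * t)) := by group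
        _ = t * z * t * e := by rw [hts, mul_one]; group
  have hout : ∀ z ∈ W' ⊓ centralizer (B : Set G), z ∈ U' ⊓ centralizer (K' : Set G) := fun z hz =>
    ⟨N'.le hz.1, centralizer_le (hK' ▸ inf_le_left : K' ≤ B) hz.2⟩
  have hout' : ∀ z ∈ W' ⊓ centralizer (B' : Set G), z ∈ U' ⊓ centralizer (K' : Set G) := fun z hz =>
    ⟨N'.le hz.1, centralizer_le (hK' ▸ inf_le_right : K' ≤ B') hz.2⟩
  have hcc : ∀ {u v : G}, u ∈ W' ⊓ centralizer (B : Set G) → v ∈ W' ⊓ centralizer (B' : Set G) → Commute u v :=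
    fun hu hv => N'.kernel_comm C' kB.1 kB.2.1 hB'A hB'i hBB' hu hv
  exact no_exchange hp2 (by omega) C.max hU' hK'el hK'r hD' (hout a ha) (hout c hcm) (hout' _ (himg a ha))
    (hout' _ (himg c hcm)) htK' hts hjt has hcs rfl rfl (hcc ha (himg a ha)) (hcc ha (himg c hcm))
    (hcc hcm (himg a ha)) (hcc hcm (himg c hcm)) hac

/-- The Klinger–Mason bound. -/
theorem twoLocal_rank_le_two (hp2 : p ≠ 2) (hloc : Cfsg.IsOfLocalCharacteristic p G)
    (hG2 : Cfsg.IsCharacteristicTwoType G) : Cfsg.TwoLocalPRankLE p 2 G := by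
  classical
  by_contra hno
  have hex : ∃ n, Cfsg.TwoLocalPRankLE p n G := ⟨Nat.card G, fun H _ X _ _ =>
    ((card_le_card_group X).trans (card_le_card_group H)).trans (Nat.lt_pow_self hp.out.one_lt).le⟩
  have hr3 : 3 ≤ Nat.find hex := by
    by_contra hlt
    exact hno fun H hH X hX hXp => (Nat.find_spec hex H hH X hX hXp).trans
      (Nat.pow_le_pow_right hp.out.pos (by omega))
  obtain ⟨r, hr⟩ : ∃ r, Nat.find hex = r := ⟨_, rfl⟩
  have hmax : Cfsg.TwoLocalPRankLE p r G := hr ▸ Nat.find_spec hex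
  have hnot : ¬ Cfsg.TwoLocalPRankLE p (r - 1) G := Nat.find_min hex (by omega)
  simp only [Cfsg.TwoLocalPRankLE, Cfsg.PRankLE] at hnot
  push Not at hnot
  obtain ⟨H, hH, X, hX, hXp, hcard⟩ := hnot
  obtain ⟨A, hA⟩ : ∃ A, A = X.map H.subtype := ⟨_, rfl⟩
  have hAel : Cfsg.IsElementaryAbelian p A := by
    subst hA
    refine ⟨⟨⟨?_⟩⟩, ?_⟩
    · rintro ⟨_, u, hu, rfl⟩ ⟨_, v, hv, rfl⟩
      exact Subtype.ext (congrArg H.subtype (congrArg Subtype.val (hX.is_comm.comm (⟨u, hu⟩ : X) ⟨v, hv⟩)))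
    · rintro _ ⟨u, hu, rfl⟩
      rw [← map_pow, hXp u hu, map_one]
  have hAcard : Nat.card A = Nat.card X := by rw [hA, card_map_of_injective H.subtype_injective]
  have hAr : Nat.card A = p ^ r := by
    obtain ⟨m, hm⟩ := IsPGroup.iff_card.mp (Grp.elemAb_isPGroup hAel)
    have h1 : p ^ (r - 1) < p ^ m := hm ▸ hAcard ▸ hcard
    have h2 : p ^ m ≤ p ^ r := hm ▸ hAcard ▸ hmax H hH X hX hXp
    have h3 := (Nat.pow_lt_pow_iff_right hp.out.one_lt).mp h1
    have h4 := (Nat.pow_le_pow_iff_right hp.out.one_lt).mp h2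
    rw [hm]; congr 1; omega
  obtain ⟨T, hT, hT1, hHT⟩ := hH
  obtain ⟨i, E, hi, hi1, hE, hEr, hEi⟩ := exists_centralised hp2 hloc (r := r) (by omega) hmax hAel hAr hT hT1
    (by rw [hA]; exact (map_subtype_le X).trans hHT.le)
  obtain ⟨U, hU⟩ := exists_two hG2 hi hi1
  exact false_of_ctx hG2 ⟨hp2, hloc, by omega, hmax, hU, hE, hEr, hEi⟩

end Cfsg.Agent.Invol.KlingerMason
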