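import Cfsg.Agent.Lib.Invol.BenderPushing
import Cfsg.Agent.Lib.Invol.CharPLocal
import Cfsg.Agent.Lib.Invol.LargeSubgroup
import Cfsg.Agent.Lib.Transfer.Cores

/-!
Bender's uniqueness theorem for a pair of maximal subgroups.
-/

set_option autoImplicit false
set_option linter.style.haveILetI false

open scoped commutatorElement

namespace Cfsg.Agent.Invol.BenderUnique

open Subgroup BenderPush

universe u

variable {G : Type u} [Group G] [Finite G]

/-- `M` is maximal among the normalizers of its nontrivial normal subgroups. -/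
def IsOwn (M : Subgroup G) : Prop :=
  ∀ Z : Subgroup G, Z ≠ ⊥ → Z ≤ M → M ≤ normalizer (Z : Set G) → normalizer (Z : Set G) = M

theorem isOwn_of_coatom [IsSimpleGroup G] {A : Subgroup G} (hA : IsCoatom A) : IsOwn A := by
  intro Z hZ hZA hle
  rcases hA.le_iff.mp hle with h | h
  · exfalso
    haveI : Z.Normal := Subgroup.normalizer_eq_top_iff.mp h
    rcases ‹IsSimpleGroup G›.eq_bot_or_eq_top_of_normal Z inferInstance with e | e
    · exact hZ e
    · exact hA.1 (top_le_iff.mp (e ▸ hZA))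
  · exact h

/-- The self-centralising subgroup attached to the relation `M ⇝ N`. -/
theorem exists_self_centralising {M N : Subgroup G} (h : Cfsg.leadsTo M N) :
    ∃ S : Subgroup G, S ≤ gf M ∧ (S.subgroupOf (gf M)).IsSubnormal ∧
      gf M ⊓ centralizer (S : Set G) ≤ S ∧ S ≤ N ∧ Cfsg.fittingSubgroup ↥M ≠ ⊥ := by
  obtain ⟨Q, hQ1, hQF, hQN⟩ := h
  refine ⟨gf M ⊓ normalizer (Q : Set G), inf_le_left, ?_, ?_, hQN, fun e => hQ1 ?_⟩
  · have hlayn : M ≤ normalizer (lay M : Set G) := by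
      haveI : (Cfsg.layer ↥M).Normal := inferInstance
      exact le_normalizer_map M _
    have hgfM : gf M ≤ M := Subgroup.map_subtype_le _
    set L := (lay M).subgroupOf (gf M) with hL
    haveI hLn : L.Normal := ⟨fun l hl g => by
      rw [hL, mem_subgroupOf] at hl ⊢
      simp only [Subgroup.coe_mul, Subgroup.coe_inv]
      exact (mem_normalizer_iff.mp (hlayn (hgfM g.2)) _).mp hl⟩
    set S := (gf M ⊓ normalizer (Q : Set G)).subgroupOf (gf M) with hS
    have hLS : L ≤ S := by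
      intro l hl
      rw [hS, mem_subgroupOf]
      refine mem_inf.mpr ⟨l.2, centralizer_le_normalizer _ ?_⟩
      obtain ⟨e, he, hel⟩ := (show (l : G) ∈ lay M from hl)
      refine mem_centralizer_iff.mpr fun q hq => ?_
      obtain ⟨f, hf, rfl⟩ := hQF hq
      rw [← hel]
      exact congrArg Subtype.val (mem_centralizer_iff.mp (Grp.layer_le_centralizer_fitting he) f hf)
    haveI : Group.IsNilpotent ↥(Cfsg.fittingSubgroup ↥M) := Grp.fittingSubgroup_isNilpotent
    haveI : Group.IsNilpotent (↥(gf M) ⧸ L) := by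
      have hFg : (Cfsg.fittingSubgroup ↥M).map M.subtype ≤ gf M := Subgroup.map_mono le_sup_right
      let f : ↥(Cfsg.fittingSubgroup ↥M) →* ↥(gf M) ⧸ L :=
        (QuotientGroup.mk' L).comp ((M.subtype.comp (Cfsg.fittingSubgroup ↥M).subtype).codRestrict (gf M)
          fun x => hFg ⟨_, x.2, rfl⟩)
      refine Group.nilpotent_of_surjective f fun y => ?_
      obtain ⟨⟨z, x, hx, rfl⟩, rfl⟩ := QuotientGroup.mk'_surjective L y
      haveI := Grp.fittingSubgroup_isNormal (G := ↥M)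
      obtain ⟨e, he, g, hg, rfl⟩ := mem_sup_of_normal_right.mp
        (show x ∈ Cfsg.layer ↥M ⊔ Cfsg.fittingSubgroup ↥M from hx)
      refine ⟨⟨g, hg⟩, ?_⟩
      show ((⟨(g : G), _⟩ : ↥(gf M)) : ↥(gf M) ⧸ L) = _
      symm
      rw [QuotientGroup.mk'_apply, QuotientGroup.eq]
      refine (show (_ : G) ∈ lay M from ?_)
      show ((e * g : ↥M) : G)⁻¹ * (g : G) ∈ lay M
      rw [Subgroup.coe_mul, show ((e : G) * g)⁻¹ * g = (g : G)⁻¹ * (e : G)⁻¹ * g by group]
      exact (mem_normalizer_iff''.mp (hlayn g.2) _).mp (inv_mem ⟨e, he, rfl⟩)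
    have h1 := (Grp.isSubnormal_of_nilpotent (S.map (QuotientGroup.mk' L))).comap (QuotientGroup.mk' L)
    rwa [comap_map_eq, QuotientGroup.ker_mk', sup_eq_left.mpr hLS] at h1
  · have hQS : Q ≤ gf M ⊓ normalizer (Q : Set G) :=
      le_inf (hQF.trans (Subgroup.map_mono le_sup_right)) le_normalizer
    exact le_inf inf_le_left ((inf_le_right.trans (centralizer_le hQS)).trans (centralizer_le_normalizer _))
  · rw [e, Subgroup.map_bot] at hQF
    exact le_bot_iff.mp hQF

/-- The prime divisors of `|F(M)|` are the primes with nontrivial core. -/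
theorem core_ne_bot_iff (M : Subgroup G) {p : ℕ} (hp : p.Prime) :
    Cfsg.pCoreOf p M ≠ ⊥ ↔ p ∣ Nat.card (Cfsg.fittingSubgroup ↥M) := by
  haveI := Fact.mk hp
  constructor
  · intro h
    haveI : Nontrivial ↥(Cfsg.pCoreOf p M) := (nontrivial_iff_ne_bot _).mpr h
    obtain ⟨j, hj⟩ := IsPGroup.iff_card.mp (lg_isPGroup_pCoreOf (p := p) M)
    have hj0 : j ≠ 0 := fun e => absurd (Finite.one_lt_card (α := ↥(Cfsg.pCoreOf p M))) (by rw [hj, e, pow_zero]; exact lt_irrefl 1)
    refine (hj ▸ dvd_pow_self p hj0 : p ∣ Nat.card ↥(Cfsg.pCoreOf p M)).trans ?_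
    rw [← Subgroup.card_map_of_injective M.subtype_injective (K := Cfsg.fittingSubgroup ↥M)]
    exact Subgroup.card_dvd_of_le (core_le_fitting M hp)
  · intro h e
    obtain ⟨x, hx⟩ := exists_prime_orderOf_dvd_card' (G := ↥(Cfsg.fittingSubgroup ↥M)) p h
    have := mem_core M (x := ((x : ↥M) : G)) ⟨x, x.2, rfl⟩ (l := p) (k := 1) hp
      (by rw [Subgroup.orderOf_coe, Subgroup.orderOf_coe, pow_one]; exact hx)
    rw [e, mem_bot] at this
    rw [show x = 1 from Subtype.ext (Subtype.ext this), orderOf_one] at hx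
    exact hp.ne_one hx.symm

theorem core_normalizer {M : Subgroup G} (hM : IsOwn M) {p : ℕ} (h : Cfsg.pCoreOf p M ≠ ⊥) :
    normalizer (Cfsg.pCoreOf p M : Set G) = M :=
  hM _ h (lg_pCoreOf_le M) (lg_le_normalizer_pCoreOf M)

theorem lay_perfect (M : Subgroup G) : (⁅lay M, lay M⁆ : Subgroup G) = lay M := by
  rw [lay, ← Subgroup.map_commutator, Grp.layer_perfect]

theorem lay_le_res (M : Subgroup G) {p : ℕ} [Fact p.Prime] : lay M ≤ WCProduct.res p (gf M) := by
  haveI : (Cfsg.pResidual p ↥(lay M)).Normal := Subgroup.normal_of_characteristic _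
  have hperf : lay M ≤ WCProduct.res p (lay M) := by
    have htop : Cfsg.pResidual p ↥(lay M) = ⊤ := by
      by_contra hne
      haveI : Nontrivial (↥(lay M) ⧸ Cfsg.pResidual p ↥(lay M)) := by
        rw [← not_subsingleton_iff_nontrivial, QuotientGroup.subsingleton_iff]; exact hne
      have hq : IsPGroup p (↥(lay M) ⧸ Cfsg.pResidual p ↥(lay M)) := isPGroup_quotient_pResidual
      haveI := hq.isNilpotent
      haveI : Group.IsPerfect ↥(lay M) := ⟨Subgroup.map_injective (lay M).subtype_injective (by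
        rw [Subgroup.map_subtype_commutator, lay_perfect, ← MonoidHom.range_eq_map, Subgroup.range_subtype])⟩
      haveI : Group.IsPerfect (↥(lay M) ⧸ Cfsg.pResidual p ↥(lay M)) :=
        Group.IsPerfect.ofSurjective (QuotientGroup.mk'_surjective _)
      haveI : Group.IsSolvable (↥(lay M) ⧸ Cfsg.pResidual p ↥(lay M)) := inferInstance
      exact Group.IsPerfect.not_isSolvable (↥(lay M) ⧸ Cfsg.pResidual p ↥(lay M)) inferInstance
    intro x hx
    exact ⟨⟨x, hx⟩, htop ▸ mem_top _, rfl⟩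
  refine hperf.trans ?_
  rw [WCProduct.res_eq_closure, WCProduct.res_eq_closure]
  exact closure_mono fun x hx => ⟨Subgroup.map_mono le_sup_left hx.1, hx.2⟩

/-- What follows from `M ⇝ N`. -/
structure Leads (M N : Subgroup G) : Prop where
  own : IsOwn M
  disjoint : ∀ q : ℕ, q.Prime → Cfsg.pCoreOf q M = ⊥ → Cfsg.pCoreOf q N ⊓ M = ⊥
  commute_core : ∀ p l : ℕ, p.Prime → l.Prime → l ≠ p → Cfsg.pCoreOf p M ≠ ⊥ →
    Cfsg.pCoreOf p N ≤ centralizer (Cfsg.pCoreOf l M : Set G)
  commute_lay : ∀ p : ℕ, p.Prime → Cfsg.pCoreOf p M ≠ ⊥ → Cfsg.pCoreOf p N ≤ centralizer (lay M : Set G)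
  lay_le : lay M ≤ N
  zcore_le : ∀ l : ℕ, l.Prime → Cfsg.pCoreOf l M ⊓ centralizer (Cfsg.pCoreOf l M : Set G) ≤ N

theorem Leads.of {M N : Subgroup G} (hM : IsOwn M) (h : Cfsg.leadsTo M N) : Leads M N := by
  obtain ⟨S, hSF, hSsn, hSC, hSN, -⟩ := exists_self_centralising h
  have hcomm := fun p (hp : Nat.Prime p) (hne : Cfsg.pCoreOf p M ≠ ⊥) =>
    core_commutes M S hSF hSsn hSC N hSN hM hp ((core_ne_bot_iff M hp).mp hne)
  refine ⟨hM, fun q hq hq0 => core_inf_eq_bot M S hSF hSsn hSC N hSN hq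
      fun hd => (core_ne_bot_iff M hq).mpr hd hq0,
    fun p l hp hl hne h0 => (hcomm p hp h0).trans (centralizer_le ?_),
    fun p hp h0 => ?_, (BenderPush.lay_le M S hSF hSsn hSC).trans hSN,
    fun l hl => (center_core_le M S hSF hSsn hSC hl).trans hSN⟩
  · intro x hx
    show x ∈ WCProduct.res p (gf M)
    rw [WCProduct.res_eq_closure]
    refine subset_closure ⟨core_le_gf M hl hx, ?_⟩
    haveI := Fact.mk hl
    obtain ⟨k, hk⟩ := IsPGroup.iff_orderOf.mp (lg_isPGroup_pCoreOf (p := l) M) ⟨x, hx⟩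
    rw [Subgroup.orderOf_mk] at hk
    rw [hk]
    exact Nat.Coprime.pow_left k ((Nat.coprime_primes hl hp).mpr hne)
  · haveI := Fact.mk hp
    exact (hcomm p hp h0).trans (centralizer_le (lay_le_res M))

/-- `F*(M)` is not a group of prime power order. -/
def Mixed (M : Subgroup G) : Prop :=
  lay M ≠ ⊥ ∨ ∃ p l : ℕ, p.Prime ∧ l.Prime ∧ p ≠ l ∧ Cfsg.pCoreOf p M ≠ ⊥ ∧ Cfsg.pCoreOf l M ≠ ⊥

theorem lay_normalizer {M : Subgroup G} (hM : IsOwn M) (h : lay M ≠ ⊥) : normalizer (lay M : Set G) = M := by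
  haveI : (Cfsg.layer ↥M).Normal := inferInstance
  exact hM _ h (Subgroup.map_subtype_le _) (le_normalizer_map M _)

variable {M N : Subgroup G}

theorem Leads.core_le (h : Leads M N) (hmix : Mixed M) {p : ℕ} (hp : p.Prime) (hne : Cfsg.pCoreOf p M ≠ ⊥) :
    Cfsg.pCoreOf p N ≤ M := by
  rcases hmix with he | ⟨a, b, ha, hb, hab, ha0, hb0⟩
  · exact (h.commute_lay p hp hne).trans ((centralizer_le_normalizer _).trans (lay_normalizer h.own he).le)
  · obtain ⟨l, hl, hlp, hl0⟩ : ∃ l : ℕ, l.Prime ∧ l ≠ p ∧ Cfsg.pCoreOf l M ≠ ⊥ := by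
      by_cases hap : a = p
      · exact ⟨b, hb, hap ▸ hab.symm, hb0⟩
      · exact ⟨a, ha, hap, ha0⟩
    exact (h.commute_core p l hp hl hlp hne).trans ((centralizer_le_normalizer _).trans (core_normalizer h.own hl0).le)

theorem zcore_ne_bot {M : Subgroup G} {l : ℕ} [Fact l.Prime] (h : Cfsg.pCoreOf l M ≠ ⊥) :
    Cfsg.pCoreOf l M ⊓ centralizer (Cfsg.pCoreOf l M : Set G) ≠ ⊥ := by
  intro e
  haveI : Nontrivial ↥(Cfsg.pCoreOf l M) := (nontrivial_iff_ne_bot _).mpr h
  have hnt := (lg_isPGroup_pCoreOf (p := l) M).center_nontrivial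
  obtain ⟨z, hz⟩ := exists_ne (1 : ↥(center ↥(Cfsg.pCoreOf l M)))
  apply hz
  have hz' : ((z : ↥(Cfsg.pCoreOf l M)) : G) ∈ Cfsg.pCoreOf l M ⊓ centralizer (Cfsg.pCoreOf l M : Set G) :=
    mem_inf.mpr ⟨z.1.2, mem_centralizer_iff.mpr fun w hw => congrArg Subtype.val (mem_center_iff.mp z.2 ⟨w, hw⟩)⟩
  rw [e, mem_bot] at hz'
  exact Subtype.ext (Subtype.ext hz')

/-- Primes of `F(N)` are primes of `F(M)` when `N ⇝ M` and `M ⇝ N`. -/
theorem core_ne_bot (h : Leads M N) (h' : Leads N M) {q : ℕ} (hq : q.Prime) (hne : Cfsg.pCoreOf q N ≠ ⊥) :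
    Cfsg.pCoreOf q M ≠ ⊥ := by
  intro e
  haveI := Fact.mk hq
  exact zcore_ne_bot hne (le_bot_iff.mp ((h.disjoint q hq e) ▸ le_inf inf_le_left (h'.zcore_le q hq)))

theorem centralizer_gf_le (A : Subgroup G) {K : Subgroup G} (hKA : K ≤ A) (h : gf A ≤ centralizer (K : Set G)) :
    K ≤ gf A := fun x hx =>
  ⟨⟨x, hKA hx⟩, Grp.centralizer_gfitting_le (mem_centralizer_iff.mpr fun f hf => Subtype.ext
    (mem_centralizer_iff.mp (h ⟨f, hf, rfl⟩) x hx).symm), rfl⟩

/-- If one side is mixed, so is the other. -/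
theorem mixed_of (hM : Leads M N) (hN : Leads N M) (hmix : Mixed M) : Mixed N := by
  by_contra hnot
  simp only [Mixed, not_or, not_exists, not_and, not_not] at hnot
  obtain ⟨hlayN, hone⟩ := hnot
  have key : ∀ K : Subgroup G, K ≤ N →
      (∀ q : ℕ, q.Prime → Cfsg.pCoreOf q N ≠ ⊥ → K ≤ centralizer (Cfsg.pCoreOf q N : Set G)) → K ≤ gf N := by
    intro K hK hc
    refine centralizer_gf_le N hK (le_centralizer_gf N (by rw [hlayN]; exact bot_le) fun q hq => ?_)
    rcases eq_or_ne (Cfsg.pCoreOf q N) ⊥ with e | e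
    · rw [e]; exact bot_le
    · exact le_centralizer_iff.mp (hc q hq e)
  have hgfN : gf N ≤ (Cfsg.fittingSubgroup ↥N).map N.subtype := by
    rw [gf, Cfsg.generalizedFittingSubgroup, Subgroup.map_sup, show (Cfsg.layer ↥N).map N.subtype = ⊥ from hlayN,
      bot_sup_eq]
  rcases hmix with he | ⟨a, b, ha, hb, hab, ha0, hb0⟩
  · have h1 : lay M ≤ gf N := key _ hM.lay_le fun q hq hq0 =>
      le_centralizer_iff.mp (hM.commute_lay q hq (core_ne_bot hM hN hq hq0))
    haveI : Group.IsNilpotent ↥(Cfsg.fittingSubgroup ↥N) := Grp.fittingSubgroup_isNilpotent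
    haveI : Group.IsNilpotent ↥((Cfsg.fittingSubgroup ↥N).map N.subtype) :=
      Group.nilpotent_of_mulEquiv (Subgroup.equivMapOfInjective _ _ N.subtype_injective)
    haveI : Group.IsNilpotent ↥(lay M) := Group.nilpotent_of_mulEquiv
      (Subgroup.subgroupOfEquivOfLe (h1.trans hgfN))
    haveI : Group.IsSolvable ↥(lay M) := inferInstance
    haveI : Nontrivial ↥(lay M) := (nontrivial_iff_ne_bot _).mpr he
    haveI : Group.IsPerfect ↥(lay M) := ⟨Subgroup.map_injective (lay M).subtype_injective (by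
      rw [Subgroup.map_subtype_commutator, lay_perfect, ← MonoidHom.range_eq_map, Subgroup.range_subtype])⟩
    exact Group.IsPerfect.not_isSolvable ↥(lay M) inferInstance
  · -- a prime of `M` that is not a prime of `N`
    obtain ⟨l, hl, hl0, hlN⟩ : ∃ l : ℕ, l.Prime ∧ Cfsg.pCoreOf l M ≠ ⊥ ∧ Cfsg.pCoreOf l N = ⊥ := by
      by_cases ha' : Cfsg.pCoreOf a N = ⊥
      · exact ⟨a, ha, ha0, ha'⟩
      · exact ⟨b, hb, hb0, hone a b ha hb hab ha'⟩
    haveI := Fact.mk hl
    have h1 := key _ (hM.zcore_le l hl) fun q hq hq0 => inf_le_left.trans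
      (le_centralizer_iff.mp (hM.commute_core q l hq hl (fun e => hq0 (e ▸ hlN)) (core_ne_bot hM hN hq hq0)))
    apply zcore_ne_bot hl0
    rw [eq_bot_iff]
    intro x hx
    obtain ⟨k, hk⟩ := IsPGroup.iff_orderOf.mp ((lg_isPGroup_pCoreOf (p := l) M).to_le inf_le_left) ⟨x, hx⟩
    rw [Subgroup.orderOf_mk] at hk
    have h2 := mem_core N (hgfN (h1 hx)) hl hk
    rwa [hlN] at h2

/-- The layer of `N` lies in that of `M`. -/
theorem lay_le_lay (hM : Leads M N) (hN : Leads N M) (hgf : gf M ≤ N) : lay N ≤ lay M := by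
  have hLM : lay N ≤ M := hN.lay_le
  have hnorm : gf M ≤ normalizer (lay N : Set G) := by
    haveI : (Cfsg.layer ↥N).Normal := inferInstance
    exact hgf.trans (le_normalizer_map N _)
  set D := lay N ⊓ gf M with hD
  have hle : lay N ≤ gf M := by
    rw [lay, Cfsg.layer, Subgroup.map_le_iff_le_comap]
    refine sSup_le fun K hK => ?_
    rw [← Subgroup.map_le_iff_le_comap]
    have hKlay : K.map N.subtype ≤ lay N := Subgroup.map_mono (Grp.IsComponent.le_layer hK)
    have hDsn : (D.subgroupOf N).IsSubnormal := by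
      haveI : (Cfsg.layer ↥N).Normal := inferInstance
      refine Subgroup.IsSubnormal.trans (K := Cfsg.layer ↥N) (fun x hx => ?_) ?_ (Subgroup.Normal.isSubnormal inferInstance)
      · obtain ⟨y, hy, e⟩ := (show (x : G) ∈ lay N from hx.1)
        rw [← show y = x from Subtype.ext e]; exact hy
      · refine Subgroup.Normal.isSubnormal ⟨fun d hd l => ?_⟩
        have hl : ((l : ↥N) : G) ∈ lay N := ⟨l, l.2, rfl⟩
        refine mem_inf.mpr ⟨?_, ?_⟩
        · exact mul_mem (mul_mem hl hd.1) (inv_mem hl)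
        · exact (mem_normalizer_iff.mp (gf_normal M (hLM hl)) _).mp hd.2
    rcases Grp.component_le_or_commute hK hDsn with h | h
    · rintro _ ⟨x, hx, rfl⟩; exact (h hx).2
    · have h1 : D ≤ centralizer (K.map N.subtype : Set G) := fun d hd => mem_centralizer_iff.mpr fun k hk => by
        obtain ⟨k, hk, rfl⟩ := hk
        have hdN : d ∈ N := (Subgroup.map_subtype_le _ : lay N ≤ N) hd.1
        exact (congrArg Subtype.val (mem_centralizer_iff.mp
          (commutator_eq_bot_iff_le_centralizer.mp h hk) ⟨d, hdN⟩ hd)).symm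
      have hKg : ⁅K.map N.subtype, gf M⁆ ≤ D := commutator_le.mpr fun k hk g hg => by
        rw [commutatorElement_def]
        refine mem_inf.mpr ⟨?_, ?_⟩
        · rw [show k * g * k⁻¹ * g⁻¹ = k * (g * k⁻¹ * g⁻¹) by group]
          exact mul_mem (hKlay hk) ((mem_normalizer_iff.mp (hnorm hg) _).mp (inv_mem (hKlay hk)))
        · exact mul_mem ((mem_normalizer_iff.mp (gf_normal M (hLM (hKlay hk))) _).mp hg) (inv_mem hg)
      have hperf : ⁅K.map N.subtype, K.map N.subtype⁆ = K.map N.subtype := by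
        rw [← Subgroup.map_commutator, Grp.IsComponent.perfect hK]
      have hz : ⁅⁅K.map N.subtype, gf M⁆, K.map N.subtype⁆ = ⊥ :=
        commutator_eq_bot_iff_le_centralizer.mpr (hKg.trans h1)
      have h3 := Subgroup.commutator_commutator_eq_bot_of_rotate hz (by rw [commutator_comm (gf M)]; exact hz)
      rw [hperf] at h3
      exact centralizer_gf_le M (hKlay.trans hLM) (le_centralizer_iff.mp (commutator_eq_bot_iff_le_centralizer.mp h3))
  intro x hx
  by_contra hxl
  haveI : (Cfsg.layer ↥M).Normal := inferInstance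
  haveI : Group.IsNilpotent ↥(Cfsg.fittingSubgroup ↥M) := Grp.fittingSubgroup_isNilpotent
  let π : ↥M →* ↥M ⧸ Cfsg.layer ↥M := QuotientGroup.mk' _
  have hmap : (Cfsg.generalizedFittingSubgroup ↥M).map π = (Cfsg.fittingSubgroup ↥M).map π := by
    rw [Cfsg.generalizedFittingSubgroup, Subgroup.map_sup, sup_eq_right]
    rw [(Subgroup.map_eq_bot_iff _).mpr (by rw [QuotientGroup.ker_mk'])]
    exact bot_le
  haveI : Group.IsNilpotent ↥((Cfsg.fittingSubgroup ↥M).map π) :=
    Group.nilpotent_of_surjective (π.subgroupMap _) (π.subgroupMap_surjective _)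
  set X := ((lay N).subgroupOf M).map π with hX
  have hXle : X ≤ (Cfsg.fittingSubgroup ↥M).map π := by
    rw [← hmap]
    refine Subgroup.map_mono fun y hy => ?_
    obtain ⟨z, hz, e⟩ := hle hy
    rwa [← show z = y from Subtype.ext e]
  haveI : Group.IsNilpotent ↥X := Group.nilpotent_of_mulEquiv (Subgroup.subgroupOfEquivOfLe hXle)
  haveI : Group.IsSolvable ↥X := inferInstance
  haveI : Group.IsPerfect ↥(lay N) := ⟨Subgroup.map_injective (lay N).subtype_injective (by
    rw [Subgroup.map_subtype_commutator, lay_perfect, ← MonoidHom.range_eq_map, Subgroup.range_subtype])⟩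
  haveI : Group.IsPerfect ↥((lay N).subgroupOf M) :=
    Group.IsPerfect.ofSurjective (f := (Subgroup.subgroupOfEquivOfLe hLM).symm.toMonoidHom) (MulEquiv.surjective _)
  haveI : Group.IsPerfect ↥X := Group.IsPerfect.ofSurjective (π.subgroupMap_surjective _)
  haveI : Nontrivial ↥X := by
    refine (nontrivial_iff_ne_bot _).mpr fun e => hxl ?_
    have h1 : π ⟨x, hLM hx⟩ ∈ X := ⟨_, hx, rfl⟩
    rw [e, mem_bot, QuotientGroup.mk'_apply, QuotientGroup.eq_one_iff] at h1
    exact ⟨_, h1, rfl⟩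
  exact Group.IsPerfect.not_isSolvable ↥X inferInstance

/-- The cores of `N` lie in those of `M` when both layers are trivial. -/
theorem core_le_core (hM : Leads M N) (hN : Leads N M) (hlay : lay M = ⊥)
    (hFM : ∀ l : ℕ, l.Prime → Cfsg.pCoreOf l M ≤ N) (hFN : ∀ l : ℕ, l.Prime → Cfsg.pCoreOf l N ≤ M)
    {p r : ℕ} (hp : p.Prime) (hr : r.Prime) (hrp : r ≠ p) (hp0 : Cfsg.pCoreOf p M ≠ ⊥)
    (hr0 : Cfsg.pCoreOf r M ≠ ⊥) (hr0' : Cfsg.pCoreOf r N ≠ ⊥) :
    Cfsg.pCoreOf p N ≤ Cfsg.pCoreOf p M := by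
  haveI := Fact.mk hp
  haveI := Fact.mk hr
  set C : Set G := {h | h ∈ M ∧ (∃ k, orderOf h = p ^ k) ∧
    ∀ l : ℕ, l.Prime → l ≠ p → ∀ u ∈ Cfsg.pCoreOf l M, h * u = u * h} with hC
  have hcen : ∀ h ∈ C, ∀ w ∈ Cfsg.pCoreOf r N, h * w * h⁻¹ = w := by
    rintro h ⟨hhM, ⟨k, hk⟩, hhu⟩ w hw
    have hwM : w ∈ M := hFN r hr hw
    set z := h * w * h⁻¹ * w⁻¹ with hz
    have hzM : z ∈ M := M.mul_mem (M.mul_mem (M.mul_mem hhM hwM) (M.inv_mem hhM)) (M.inv_mem hwM)
    have hzF : z ∈ (Cfsg.fittingSubgroup ↥M).map M.subtype := by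
      have h1 : zpowers z ≤ gf M := by
        refine centralizer_gf_le M (zpowers_le.mpr hzM) (le_centralizer_gf M (by rw [hlay]; exact bot_le) fun l hl => ?_)
        haveI := Fact.mk hl
        rw [le_centralizer_iff, zpowers_le]
        refine mem_centralizer_iff.mpr fun u hu => ?_
        have hn : ∀ g ∈ M, ∀ u ∈ Cfsg.pCoreOf l M, g⁻¹ * u * g ∈ Cfsg.pCoreOf l M := fun g hg u hu =>
          (mem_normalizer_iff''.mp (lg_le_normalizer_pCoreOf M hg) u).mp hu
        have hn' : ∀ g ∈ M, ∀ u ∈ Cfsg.pCoreOf l M, g * u * g⁻¹ ∈ Cfsg.pCoreOf l M := fun g hg u hu =>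
          (mem_normalizer_iff.mp (lg_le_normalizer_pCoreOf M hg) u).mp hu
        rcases eq_or_ne l p with rfl | hlp
        · -- `w` and its conjugate centralise the core for `p`
          have hwc : ∀ u ∈ Cfsg.pCoreOf l M, w * u = u * w := fun u hu =>
            (mem_centralizer_iff.mp (hM.commute_core r l hr hl hrp.symm hr0 hw) u hu).symm
          have h2 : h * w * h⁻¹ * u = u * (h * w * h⁻¹) := by
            calc h * w * h⁻¹ * u = h * (w * (h⁻¹ * u * h)) * h⁻¹ := by group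
              _ = h * ((h⁻¹ * u * h) * w) * h⁻¹ := by rw [hwc _ (hn h hhM u hu)]
              _ = u * (h * w * h⁻¹) := by group
          have h3 : w⁻¹ * u = u * w⁻¹ :=
            ((show Commute w u from hwc u hu).inv_left).eq
          calc u * z = (u * (h * w * h⁻¹)) * w⁻¹ := by rw [hz]; group
            _ = h * w * h⁻¹ * (u * w⁻¹) := by rw [← h2]; group
            _ = z * u := by rw [← h3, hz]; group
        · have hu1 := hhu l hl hlp _ (hn' w⁻¹ (inv_mem hwM) u hu)
          rw [inv_inv] at hu1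
          have hu2 := hhu l hl hlp u hu
          symm
          calc z * u = h * w * h⁻¹ * (w⁻¹ * u * w) * w⁻¹ := by rw [hz]; group
            _ = h * w * (h⁻¹ * (w⁻¹ * u * w)) * w⁻¹ := by group
            _ = h * w * ((w⁻¹ * u * w) * h⁻¹) * w⁻¹ := by
              rw [((show Commute h (w⁻¹ * u * w) from hu1).inv_left).eq]
            _ = (h * u) * w * h⁻¹ * w⁻¹ := by group
            _ = u * z := by rw [hu2, hz]; group
      have h1' : z ∈ (Cfsg.generalizedFittingSubgroup ↥M).map M.subtype := h1 (mem_zpowers z)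
      rwa [Cfsg.generalizedFittingSubgroup, Subgroup.map_sup, show (Cfsg.layer ↥M).map M.subtype = ⊥ from hlay,
        bot_sup_eq] at h1'
    -- powers of `z` for primes other than `r` commute with `w`
    have hoth : ∀ y ∈ zpowers z, ∀ l j : ℕ, l.Prime → orderOf y = l ^ j → l ≠ r → y * w = w * y :=
      fun y hy l j hl ho hlr => mem_centralizer_iff.mp (hM.commute_core r l hr hl hlr hr0 hw) y
        (mem_core M ((zpowers_le.mpr hzF) hy) hl ho)
    have hn0 : orderOf z ≠ 0 := (orderOf_pos z).ne'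
    obtain ⟨a, m, hm, hzo⟩ := Nat.exists_eq_pow_mul_and_not_dvd hn0 r hr.ne_one
    have hm0 : m ≠ 0 := fun e => hn0 (by rw [hzo, e, mul_zero])
    set z₁ := z ^ m with hz₁
    set z₂ := z ^ r ^ a with hz₂
    have ho1 : orderOf z₁ = r ^ a := by
      rw [hz₁, orderOf_pow' _ hm0, hzo, Nat.gcd_eq_right (Dvd.intro_left _ rfl),
        Nat.mul_div_cancel _ (Nat.pos_of_ne_zero hm0)]
    have ho2 : orderOf z₂ = m := by
      rw [hz₂, orderOf_pow' _ (pow_ne_zero a hr.ne_zero), hzo, Nat.gcd_eq_right (dvd_mul_right _ m),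
        Nat.mul_div_cancel_left _ (pow_pos hr.pos a)]
    have hz1 : z₁ ∈ Cfsg.pCoreOf r M := mem_core M (pow_mem hzF m) hr ho1
    have hc2 : z₂ ∈ centralizer ({w} : Set G) := by
      refine mem_of_primePow fun y hy l j hl ho => ?_
      rcases eq_or_ne j 0 with rfl | hj
      · rw [pow_zero, orderOf_eq_one_iff] at ho; rw [ho]; exact one_mem _
      refine mem_centralizer_singleton_iff.mpr (hoth y ((zpowers_le.mpr (pow_mem (mem_zpowers z) _)) hy) l j hl ho fun e => hm ?_)
      rw [← ho2, ← e]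
      exact (dvd_pow_self l hj).trans (ho ▸ orderOf_dvd_of_mem_zpowers hy)
    obtain ⟨u, v, huv⟩ := Int.isCoprime_iff_gcd_eq_one.mpr
      (show Int.gcd (m : ℤ) ((r ^ a : ℕ) : ℤ) = 1 by
        rw [Int.gcd_natCast_natCast]
        exact (Nat.Coprime.pow_right a ((hr.coprime_iff_not_dvd.mpr hm).symm)))
    have hsplit : z = z₁ ^ u * z₂ ^ v := by
      rw [hz₁, hz₂, ← zpow_natCast z m, ← zpow_natCast z (r ^ a), ← zpow_mul, ← zpow_mul, ← zpow_add,
        mul_comm (m : ℤ), mul_comm ((r ^ a : ℕ) : ℤ), huv, zpow_one]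
    set x₁ := z₁ ^ u * w with hx₁
    -- `x₁` is an `r`-element
    obtain ⟨s, hs⟩ : ∃ s, x₁ ^ r ^ s = 1 := by
      have hW : IsPGroup r (zpowers w) := by
        obtain ⟨j, hj⟩ := IsPGroup.iff_orderOf.mp (lg_isPGroup_pCoreOf (p := r) N) ⟨w, hw⟩
        rw [Subgroup.orderOf_mk] at hj
        exact IsPGroup.of_card (by rw [Nat.card_zpowers, hj])
      have hRW : IsPGroup r ↥(Cfsg.pCoreOf r M ⊔ zpowers w) :=
        IsPGroup.to_sup_of_normal_left' (lg_isPGroup_pCoreOf (p := r) M) hW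
          (zpowers_le.mpr (lg_le_normalizer_pCoreOf M hwM))
      obtain ⟨s, hs⟩ := hRW ⟨x₁, mul_mem (mem_sup_left (zpow_mem hz1 u)) (mem_sup_right (mem_zpowers w))⟩
      exact ⟨s, congrArg Subtype.val hs⟩
    have hcw : Commute z₂ w := mem_centralizer_singleton_iff.mp hc2
    have hcz : Commute z₂ z₁ := (Commute.refl z).pow_pow _ _
    have hconj : h * w * h⁻¹ = z₂ ^ v * x₁ := by
      have : h * w * h⁻¹ = z * w := by rw [hz]; group
      rw [this, hsplit, hx₁, ← mul_assoc, ((hcz.zpow_zpow v u)).eq]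
    have hcx : Commute (z₂ ^ v) x₁ := (hcz.zpow_zpow v u).mul_right (hcw.zpow_left v)
    obtain ⟨t, ht⟩ := (lg_isPGroup_pCoreOf (p := r) N) ⟨w, hw⟩
    have ht' : w ^ r ^ t = 1 := congrArg Subtype.val ht
    have hzero : z₂ ^ v = 1 := by
      have h1 : (z₂ ^ v * x₁) ^ (r ^ (s + t)) = 1 := by
        rw [← hconj, conj_pow, pow_add, mul_comm, pow_mul, ht', one_pow, mul_one, mul_inv_cancel]
      rw [hcx.mul_pow, show x₁ ^ r ^ (s + t) = 1 by rw [pow_add, pow_mul, hs, one_pow], mul_one] at h1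
      have h2 : (z₂ ^ v) ^ m = 1 := by
        rw [← zpow_natCast, ← zpow_mul, mul_comm, zpow_mul, zpow_natCast, ← ho2, pow_orderOf_eq_one, one_zpow]
      have hco : Nat.Coprime (r ^ (s + t)) m := Nat.Coprime.pow_left _ (hr.coprime_iff_not_dvd.mpr hm)
      rw [← pow_one (z₂ ^ v), ← hco.gcd_eq_one]
      exact (pow_gcd_eq_one).mpr ⟨h1, h2⟩
    have hzR : z ∈ Cfsg.pCoreOf r M := by rw [hsplit, hzero, mul_one]; exact zpow_mem hz1 u
    have hhz : h * z = z * h := hhu r hr hrp z hzR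
    have e : h * w * h⁻¹ = z * w := by rw [hz]; group
    have hiter : ∀ n : ℕ, h ^ n * w * (h ^ n)⁻¹ = z ^ n * w := by
      intro n
      induction n with
      | zero => simp
      | succ n ih =>
        calc h ^ (n + 1) * w * (h ^ (n + 1))⁻¹ = h * (h ^ n * w * (h ^ n)⁻¹) * h⁻¹ := by rw [pow_succ']; group
          _ = h * (z ^ n * w) * h⁻¹ := by rw [ih]
          _ = (h * z ^ n) * w * h⁻¹ := by group
          _ = z ^ n * (h * w * h⁻¹) := by rw [((show Commute h z from hhz).pow_right n).eq]; group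
          _ = z ^ (n + 1) * w := by rw [e, pow_succ]; exact (mul_assoc _ _ _).symm
    have h1 := hiter (p ^ k)
    rw [← hk, pow_orderOf_eq_one, one_mul, inv_one, mul_one, hk, right_eq_mul] at h1
    obtain ⟨j, hj⟩ := (lg_isPGroup_pCoreOf (p := r) M) ⟨z, hzR⟩
    have hco : Nat.Coprime (p ^ k) (r ^ j) := Nat.Coprime.pow _ _ ((Nat.coprime_primes hp hr).mpr hrp.symm)
    have hz' : z = 1 := by
      rw [← pow_one z, ← hco.gcd_eq_one]
      exact (pow_gcd_eq_one).mpr ⟨h1, congrArg Subtype.val hj⟩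
    exact mul_inv_eq_one.mp (hz ▸ hz')
  set J := closure C with hJ
  have hJM : J ≤ M := (closure_le _).mpr fun h hh => hh.1
  have hJN : J ≤ N := by
    refine (closure_le _).mpr fun h hh => ?_
    refine ((centralizer_le_normalizer _).trans (core_normalizer hN.own hr0').le) (mem_centralizer_iff.mpr fun w hw => ?_)
    exact (mul_inv_eq_iff_eq_mul.mp (hcen h hh w hw)).symm
  have hRJ : Cfsg.pCoreOf p N ≤ J := by
    intro x hx
    refine subset_closure ⟨hFN p hp hx, ?_, fun l hl hlp u hu => ?_⟩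
    · obtain ⟨k, hk⟩ := IsPGroup.iff_orderOf.mp (lg_isPGroup_pCoreOf (p := p) N) ⟨x, hx⟩
      exact ⟨k, by rwa [Subgroup.orderOf_mk] at hk⟩
    · exact (mem_centralizer_iff.mp (hM.commute_core p l hp hl hlp hp0 hx) u hu).symm
  have hMJ : M ≤ normalizer (J : Set G) := by
    intro g hg
    refine mem_normalizer_fintype fun x hx => ?_
    have h1 : J.map (MulAut.conj g).toMonoidHom ≤ J := by
      rw [hJ, MonoidHom.map_closure]
      refine closure_mono ?_
      rintro _ ⟨h, ⟨hh, ⟨k, hk⟩, hu⟩, rfl⟩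
      refine ⟨M.mul_mem (M.mul_mem hg hh) (M.inv_mem hg), ⟨k, ?_⟩, fun l hl hlp u hu' => ?_⟩
      · exact (MulEquiv.orderOf_eq (MulAut.conj g) h).trans hk
      · have := hu l hl hlp _ ((mem_normalizer_iff''.mp (lg_le_normalizer_pCoreOf M hg) u).mp hu')
        show g * h * g⁻¹ * u = u * (g * h * g⁻¹)
        calc g * h * g⁻¹ * u = g * (h * (g⁻¹ * u * g)) * g⁻¹ := by group
          _ = g * ((g⁻¹ * u * g) * h) * g⁻¹ := by rw [this]
          _ = u * (g * h * g⁻¹) := by group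
    exact h1 ⟨x, hx, rfl⟩
  -- the core of `J`
  have hR : Cfsg.pCoreOf p N ≤ Cfsg.pCoreOf p J := by
    intro x hx
    haveI : ((Cfsg.pCoreOf p N).subgroupOf J).Normal := ⟨fun y hy j => by
      rw [mem_subgroupOf] at hy ⊢
      exact (mem_normalizer_iff.mp (lg_le_normalizer_pCoreOf N (hJN j.2)) _).mp hy⟩
    refine ⟨⟨x, hRJ hx⟩, ?_, rfl⟩
    exact Grp.le_pCore (G := ↥J) inferInstance ((lg_isPGroup_pCoreOf (p := p) N).of_equiv (subgroupOfEquivOfLe hRJ).symm) hx
  refine hR.trans ?_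
  intro x hx
  have hJc : M ≤ normalizer (Cfsg.pCoreOf p J : Set G) := hMJ.trans (lg_normalizer_le_normalizer_pCoreOf J)
  haveI : ((Cfsg.pCoreOf p J).subgroupOf M).Normal := ⟨fun y hy g => by
    rw [mem_subgroupOf] at hy ⊢
    exact (mem_normalizer_iff.mp (hJc g.2) _).mp hy⟩
  have hJle : Cfsg.pCoreOf p J ≤ M := (lg_pCoreOf_le J).trans hJM
  exact ⟨⟨x, hJle hx⟩, Grp.le_pCore (G := ↥M) inferInstance
    ((lg_isPGroup_pCoreOf (p := p) J).of_equiv (subgroupOfEquivOfLe hJle).symm) hx, rfl⟩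

theorem isPGroup_gf (hlay : lay M = ⊥) {p : ℕ} (h : ∀ l : ℕ, l.Prime → Cfsg.pCoreOf l M ≠ ⊥ → l = p) [Fact p.Prime] :
    IsPGroup p ↥(Cfsg.generalizedFittingSubgroup ↥M) := by
  have hle : gf M ≤ Cfsg.pCoreOf p M := by
    rw [gf, Cfsg.generalizedFittingSubgroup, Subgroup.map_sup, show (Cfsg.layer ↥M).map M.subtype = ⊥ from hlay,
      bot_sup_eq]
    refine fun x hx => mem_of_primePow fun y hy l k hl ho => ?_
    have hy' := mem_core M ((zpowers_le.mpr hx) hy) hl ho
    rcases eq_or_ne (Cfsg.pCoreOf l M) ⊥ with e | e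
    · rw [e, mem_bot] at hy'; rw [hy']; exact one_mem _
    · exact h l hl e ▸ hy'
  exact ((lg_isPGroup_pCoreOf (p := p) M).to_le hle).of_equiv
    (Subgroup.equivMapOfInjective _ _ M.subtype_injective).symm

/-- Bender's uniqueness theorem, symmetric case. -/
theorem symmetric_case (hM : Leads M N) (hN : Leads N M) (hFM : Cfsg.fittingSubgroup ↥M ≠ ⊥) :
    M = N ∨ ∃ p : ℕ, p.Prime ∧ IsPGroup p ↥(Cfsg.generalizedFittingSubgroup ↥M) ∧
      IsPGroup p ↥(Cfsg.generalizedFittingSubgroup ↥N) := by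
  by_cases hmix : Mixed M
  · left
    have hmixN := mixed_of hM hN hmix
    have hFNle : ∀ l : ℕ, l.Prime → Cfsg.pCoreOf l N ≤ M := fun l hl => by
      rcases eq_or_ne (Cfsg.pCoreOf l N) ⊥ with e | e
      · rw [e]; exact bot_le
      · exact hM.core_le hmix hl (core_ne_bot hM hN hl e)
    have hFMle : ∀ l : ℕ, l.Prime → Cfsg.pCoreOf l M ≤ N := fun l hl => by
      rcases eq_or_ne (Cfsg.pCoreOf l M) ⊥ with e | e
      · rw [e]; exact bot_le
      · exact hN.core_le hmixN hl (core_ne_bot hN hM hl e)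
    have hgf : ∀ A B : Subgroup G, lay A ≤ B → (∀ l : ℕ, l.Prime → Cfsg.pCoreOf l A ≤ B) → gf A ≤ B := by
      intro A B h1 h2
      rw [gf, Cfsg.generalizedFittingSubgroup, Subgroup.map_sup]
      exact sup_le h1 fun x hx => mem_of_primePow fun y hy l k hl ho => h2 l hl (mem_core A ((zpowers_le.mpr hx) hy) hl ho)
    have hl1 := lay_le_lay hM hN (hgf M N hM.lay_le hFMle)
    have hl2 := lay_le_lay hN hM (hgf N M hN.lay_le hFNle)
    rcases eq_or_ne (lay M) ⊥ with he | he
    swap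
    · rw [← lay_normalizer hM.own he, le_antisymm hl2 hl1, lay_normalizer hN.own (fun e => he (le_bot_iff.mp (e ▸ hl2)))]
    have heN : lay N = ⊥ := le_bot_iff.mp (he ▸ hl1)
    obtain ⟨a, b, ha, hb, hab, ha0, hb0⟩ := hmix.resolve_left (fun h => h he)
    have ha0' := core_ne_bot hN hM ha ha0
    have hb0' := core_ne_bot hN hM hb hb0
    rw [← core_normalizer hM.own ha0, le_antisymm
      (core_le_core hN hM heN hFNle hFMle ha hb hab.symm ha0' hb0' hb0)
      (core_le_core hM hN he hFMle hFNle ha hb hab.symm ha0 hb0 hb0'), core_normalizer hN.own ha0']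
  · right
    have hmixN : ¬ Mixed N := fun h => hmix (mixed_of hN hM h)
    simp only [Mixed, not_or, not_exists, not_and, not_not] at hmix hmixN
    obtain ⟨p, hp, hp0⟩ : ∃ p : ℕ, p.Prime ∧ Cfsg.pCoreOf p M ≠ ⊥ := by
      obtain ⟨p, hp, hd⟩ := Nat.exists_prime_and_dvd (n := Nat.card ↥(Cfsg.fittingSubgroup ↥M))
        (fun e => hFM (Subgroup.eq_bot_of_card_eq _ e))
      exact ⟨p, hp, (core_ne_bot_iff M hp).mpr hd⟩
    haveI := Fact.mk hp
    have honly : ∀ l : ℕ, l.Prime → Cfsg.pCoreOf l M ≠ ⊥ → l = p := fun l hl h => by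
      by_contra hne
      exact h (hmix.2 p l hp hl (Ne.symm hne) hp0)
    exact ⟨p, hp, isPGroup_gf hmix.1 honly,
      isPGroup_gf hmixN.1 fun l hl h => honly l hl (core_ne_bot hM hN hl h)⟩

end Cfsg.Agent.Invol.BenderUnique
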