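import Mathlib
import Cfsg.Agent.Lib.Invol.ThompsonReduction
import Cfsg.Agent.Lib.Invol.ThompsonComplement
import Cfsg.Agent.Lib.Invol.NilpotentAction

/-!
# An element of degree `p - 1` centralizes an abelian `p'`-group on a module

Application: Thompson-type normal `p`-complement criterion with chief factors.
-/

set_option autoImplicit false
set_option linter.style.haveILetI false

namespace Cfsg.Agent.Invol

universe u

variable {p : ℕ} [hp : Fact p.Prime]

section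

variable {H V : Type*} [Group H] [AddCommGroup V] [DistribMulAction H V]

/-- The coefficients arising in the elimination. -/
def elimCoeff (h : H) : List (ℕ × H) → ℕ → V → V
  | [], _, w => w
  | (j, a) :: L, i, w =>
    (h ^ i * a * (h ^ i)⁻¹) • elimCoeff h L i w - (h ^ j * a * (h ^ j)⁻¹) • elimCoeff h L i w

theorem elimCoeff_zero (h : H) : ∀ (L : List (ℕ × H)) (i : ℕ), elimCoeff h L i (0 : V) = 0
  | [], _ => rfl
  | (j, a) :: L, i => by simp [elimCoeff, elimCoeff_zero h L i]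

theorem elimCoeff_eq_zero (h : H) : ∀ (L : List (ℕ × H)) (i : ℕ), (∃ a, (i, a) ∈ L) →
    ∀ w : V, elimCoeff h L i w = 0
  | [], _, hi, _ => by obtain ⟨a, ha⟩ := hi; simp at ha
  | (j, a) :: L, i, hi, w => by
    obtain ⟨b, hb⟩ := hi
    rcases List.mem_cons.mp hb with he | he
    · obtain ⟨rfl, rfl⟩ := Prod.mk.inj he
      simp [elimCoeff]
    · simp [elimCoeff, elimCoeff_eq_zero h L i ⟨b, he⟩ w]

variable {A : Subgroup H} {h : H}

theorem elimCoeff_comm (hconj : ∀ i, ∀ a ∈ A, h ^ i * a * (h ^ i)⁻¹ ∈ A)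
    (hcomm : ∀ a ∈ A, ∀ b ∈ A, ∀ v : V, (a * b) • v = (b * a) • v) :
    ∀ (L : List (ℕ × H)), (∀ x ∈ L, x.2 ∈ A) → ∀ (i : ℕ) (b : H), b ∈ A → ∀ w : V,
      elimCoeff h L i (b • w) = b • elimCoeff h L i w
  | [], _, _, _, _, _ => rfl
  | (j, a) :: L, hL, i, b, hb, w => by
    have ha : a ∈ A := hL (j, a) (List.mem_cons_self ..)
    rw [elimCoeff, elimCoeff, elimCoeff_comm hconj hcomm L (fun x hx => hL x (List.mem_cons_of_mem _ hx)) i b hb,
      smul_sub]
    simp only [← mul_smul]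
    rw [hcomm _ (hconj i a ha) b hb, hcomm _ (hconj j a ha) b hb]

theorem elimCoeff_relation (hconj : ∀ i, ∀ a ∈ A, h ^ i * a * (h ^ i)⁻¹ ∈ A)
    (hcomm : ∀ a ∈ A, ∀ b ∈ A, ∀ v : V, (a * b) • v = (b * a) • v)
    (hsum : ∀ v : V, ∑ i ∈ Finset.range p, h ^ i • v = 0) :
    ∀ (L : List (ℕ × H)), (∀ x ∈ L, x.2 ∈ A) → ∀ v : V,
      ∑ i ∈ Finset.range p, elimCoeff h L i (h ^ i • v) = 0
  | [], _, v => hsum v
  | (j, a) :: L, hL, v => by
    have ha : a ∈ A := hL (j, a) (List.mem_cons_self ..)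
    have hL' : ∀ x ∈ L, x.2 ∈ A := fun x hx => hL x (List.mem_cons_of_mem _ hx)
    have h1 := elimCoeff_relation hconj hcomm hsum L hL' (a • v)
    have h2 := elimCoeff_relation hconj hcomm hsum L hL' v
    have h3 : ∀ i, elimCoeff h L i (h ^ i • a • v) =
        (h ^ i * a * (h ^ i)⁻¹) • elimCoeff h L i (h ^ i • v) := fun i => by
      rw [← elimCoeff_comm hconj hcomm L hL' i _ (hconj i a ha), ← mul_smul, ← mul_smul, inv_mul_cancel_right]
    simp only [elimCoeff, Finset.sum_sub_distrib, ← Finset.smul_sum, h2, smul_zero, sub_zero]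
    rw [← h1]
    exact Finset.sum_congr rfl fun i _ => (h3 i).symm

theorem elimCoeff_mem (hconj : ∀ i, ∀ a ∈ A, h ^ i * a * (h ^ i)⁻¹ ∈ A) {M : AddSubgroup V}
    (hM : ∀ a ∈ A, ∀ w ∈ M, a • w ∈ M) :
    ∀ (L : List (ℕ × H)), (∀ x ∈ L, x.2 ∈ A) → ∀ (i : ℕ) (w : V), w ∈ M → elimCoeff h L i w ∈ M
  | [], _, _, _, hw => hw
  | (j, a) :: L, hL, i, w, hw => by
    have ha : a ∈ A := hL (j, a) (List.mem_cons_self ..)
    have h1 := elimCoeff_mem hconj hM L (fun x hx => hL x (List.mem_cons_of_mem _ hx)) i w hw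
    exact M.sub_mem (hM _ (hconj i a ha) _ h1) (hM _ (hconj j a ha) _ h1)

/-- If `∑ hⁱ = 0` on a module of exponent `p` then `h` centralizes an abelian `p'`-group it normalizes. -/
theorem commute_abelian_of_sum_zero [Finite V] (hV : ∀ v : V, p • v = 0)
    (hAn : ∀ a ∈ A, h * a * h⁻¹ ∈ A)
    (hcomm : ∀ a ∈ A, ∀ b ∈ A, ∀ v : V, (a * b) • v = (b * a) • v)
    (hcop : ∀ a ∈ A, ∃ k : ℕ, k.Coprime p ∧ ∀ v : V, a ^ k • v = v)
    (hhp : ∀ v : V, h ^ p • v = v) (hsum : ∀ v : V, ∑ i ∈ Finset.range p, h ^ i • v = 0) :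
    ∀ a ∈ A, ∀ v : V, (h * a * h⁻¹) • v = a • v := by
  have hconj : ∀ i, ∀ a ∈ A, h ^ i * a * (h ^ i)⁻¹ ∈ A := by
    intro i
    induction i with
    | zero => intro a ha; simpa using ha
    | succ i ih =>
      intro a ha
      have := hAn _ (ih a ha)
      rwa [show h * (h ^ i * a * (h ^ i)⁻¹) * h⁻¹ = h ^ (i + 1) * a * (h ^ (i + 1))⁻¹ by
        rw [pow_succ']; group] at this
  by_contra hcon
  push Not at hcon
  obtain ⟨a₀, ha₀, v₀, hv₀⟩ := hcon
  set b₀ := a₀⁻¹ * (h * a₀ * h⁻¹) with hb₀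
  have hb₀A : b₀ ∈ A := A.mul_mem (A.inv_mem ha₀) (hAn a₀ ha₀)
  have hb₀v : b₀ • v₀ ≠ v₀ := fun e => hv₀ (by
    conv_lhs => rw [show h * a₀ * h⁻¹ = a₀ * b₀ by rw [hb₀, mul_inv_cancel_left]]
    rw [mul_smul, e])
  let D : V →+ V :=
    { toFun := fun v => b₀ • v - v
      map_zero' := by simp
      map_add' := fun v w => by rw [smul_add]; abel }
  have hfix : ∀ w ∈ D.range, b₀ • w = w → w = 0 := by
    rintro _ ⟨v, rfl⟩ hw
    obtain ⟨k, hk, hkv⟩ := hcop b₀ hb₀A
    change b₀ • (b₀ • v - v) = b₀ • v - v at hw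
    change b₀ • v - v = 0
    set w := b₀ • v - v with hwdef
    have hn : ∀ n : ℕ, b₀ ^ n • v = v + n • w := by
      intro n
      induction n with
      | zero => simp
      | succ n ih =>
        have hnw : b₀ • (n • w) = n • w := (map_nsmul (DistribMulAction.toAddMonoidHom V b₀) n w).trans (by
          show n • b₀ • w = n • w
          rw [hw])
        rw [pow_succ', mul_smul, ih, smul_add, hnw, succ_nsmul, hwdef]
        abel
    have h1 := hn k
    rw [hkv, left_eq_add] at h1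
    have h2 := Nat.dvd_gcd (addOrderOf_dvd_of_nsmul_eq_zero h1) (addOrderOf_dvd_of_nsmul_eq_zero (hV w))
    rw [hk, Nat.dvd_one, AddMonoid.addOrderOf_eq_one_iff] at h2
    exact h2
  obtain ⟨M, ⟨hMD, hMinv, hMne⟩, hMmin⟩ := Set.exists_min_image
    {M : AddSubgroup V | M ≤ D.range ∧ (∀ a ∈ A, ∀ w ∈ M, a • w ∈ M) ∧ M ≠ ⊥}
    (fun M => Nat.card M) (Set.toFinite _) ⟨D.range, le_rfl, by
      rintro a ha _ ⟨v, rfl⟩
      refine ⟨a • v, ?_⟩
      change b₀ • a • v - a • v = a • (b₀ • v - v)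
      rw [smul_sub, ← mul_smul, ← mul_smul, hcomm _ hb₀A _ ha], fun e => hb₀v (sub_eq_zero.mp (by
        have : D v₀ ∈ D.range := ⟨v₀, rfl⟩
        rw [e] at this
        exact this))⟩
  -- elements of `A` are trivial or fixed-point-free on `M`
  have hfree : ∀ b ∈ A, (∀ w ∈ M, b • w = w) ∨ ∀ w ∈ M, b • w = w → w = 0 := by
    intro b hb
    let F : AddSubgroup V :=
      { carrier := {w | w ∈ M ∧ b • w = w}
        zero_mem' := ⟨M.zero_mem, smul_zero b⟩
        add_mem' := fun {x y} hx hy => ⟨M.add_mem hx.1 hy.1, by rw [smul_add, hx.2, hy.2]⟩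
        neg_mem' := fun {x} hx => ⟨M.neg_mem hx.1, by rw [smul_neg, hx.2]⟩ }
    by_cases hF : F = ⊥
    · exact Or.inr fun w hw hbw => (AddSubgroup.eq_bot_iff_forall F).mp hF w ⟨hw, hbw⟩
    · refine Or.inl fun w hw => ?_
      have hFM : F ≤ M := fun x hx => hx.1
      have h1 := hMmin F ⟨hFM.trans hMD, fun a ha x hx => ⟨hMinv a ha x hx.1, by
        rw [← mul_smul, hcomm _ hb _ ha, mul_smul, hx.2]⟩, hF⟩
      have h2 : F = M := AddSubgroup.eq_of_le_of_card_ge hFM h1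
      exact (h2.ge hw).2
  -- the choices
  have hchoice : ∀ j : ℕ, 1 ≤ j → j < p → ∃ a ∈ A, ¬ ∀ w ∈ M, (a⁻¹ * (h ^ j * a * (h ^ j)⁻¹)) • w = w := by
    intro j hj1 hjp
    by_contra hall
    push Not at hall
    have hall' : ∀ a ∈ A, ∀ w ∈ M, (h ^ j * a * (h ^ j)⁻¹) • w = a • w := fun a ha w hw => by
      conv_rhs => rw [← hall a ha w hw]
      rw [← mul_smul, mul_inv_cancel_left]
    have hmul : ∀ m : ℕ, ∀ a ∈ A, ∀ w ∈ M, (h ^ (j * m) * a * (h ^ (j * m))⁻¹) • w = a • w := by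
      intro m
      induction m with
      | zero => intro a _ w _; simp
      | succ m ih =>
        intro a ha w hw
        rw [show h ^ (j * (m + 1)) * a * (h ^ (j * (m + 1)))⁻¹ =
          h ^ j * (h ^ (j * m) * a * (h ^ (j * m))⁻¹) * (h ^ j)⁻¹ by
            rw [show j * (m + 1) = j + j * m by ring, pow_add]; group,
          hall' _ (hconj _ a ha) w hw, ih a ha w hw]
    obtain ⟨m, hm⟩ : ∃ m, j * m % p = 1 % p := by
      have hjc : j.Coprime p := ((Nat.Prime.coprime_iff_not_dvd hp.out).mpr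
        (Nat.not_dvd_of_pos_of_lt hj1 hjp)).symm
      obtain ⟨m, -, hm⟩ := Nat.exists_mul_mod_eq_one_of_coprime hjc hp.out.one_lt
      exact ⟨m, by rw [hm, Nat.one_mod_eq_one.mpr hp.out.ne_one]⟩
    have hcycle : ∀ (q : ℕ) (v : V), (h ^ p) ^ q • v = v := by
      intro q
      induction q with
      | zero => simp
      | succ q ih => intro v; rw [pow_succ, mul_smul, hhp, ih]
    have hone : ∀ (v : V), h ^ (j * m) • v = h • v := fun v => by
      rw [Nat.one_mod_eq_one.mpr hp.out.ne_one] at hm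
      conv_lhs => rw [← Nat.mod_add_div (j * m) p, hm, pow_add, pow_one, mul_smul, pow_mul, hcycle]
    have honeinv : ∀ (v : V), (h ^ (j * m))⁻¹ • v = h⁻¹ • v := fun v => by
      rw [inv_smul_eq_iff, hone, smul_inv_smul]
    obtain ⟨w, hwM, hw0⟩ : ∃ w ∈ M, w ≠ 0 := by
      by_contra hall0
      push Not at hall0
      exact hMne ((AddSubgroup.eq_bot_iff_forall M).mpr hall0)
    refine hw0 (hfix w (hMD hwM) ?_)
    have h1 := hmul m a₀ ha₀ w hwM
    rw [mul_smul, mul_smul, honeinv, hone, ← mul_smul, ← mul_smul] at h1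
    rw [hb₀, mul_smul, h1, inv_smul_smul]
  choose! f hfA hf using hchoice
  set L := (List.range' 1 (p - 1)).map fun j => (j, f j) with hL
  have hmem : ∀ j, j ∈ List.range' 1 (p - 1) ↔ 1 ≤ j ∧ j < p := fun j => by
    rw [List.mem_range'_1]; have := hp.out.one_lt; omega
  have hLA : ∀ x ∈ L, x.2 ∈ A := by
    intro x hx
    obtain ⟨j, hj, rfl⟩ := List.mem_map.mp hx
    exact hfA j ((hmem j).mp hj).1 ((hmem j).mp hj).2
  have hzero : ∀ w : V, elimCoeff h L 0 w = 0 := fun w => by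
    have h1 := elimCoeff_relation hconj hcomm hsum L hLA w
    rw [Finset.sum_eq_single 0 (fun i hi hi0 => elimCoeff_eq_zero h L i
      ⟨f i, List.mem_map.mpr ⟨i, (hmem i).mpr ⟨Nat.pos_of_ne_zero hi0, Finset.mem_range.mp hi⟩, rfl⟩⟩ _)
      (fun hn => absurd (Finset.mem_range.mpr hp.out.pos) hn)] at h1
    simpa using h1
  have hinj : ∀ L' : List (ℕ × H), (∀ x ∈ L', x.2 ∈ A ∧ ¬ ∀ w ∈ M, (x.2⁻¹ * (h ^ x.1 * x.2 * (h ^ x.1)⁻¹)) • w = w) →
      ∀ w ∈ M, elimCoeff h L' 0 w = 0 → w = 0 := by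
    intro L'
    induction L' with
    | nil => intro _ w _ hw; exact hw
    | cons x L' ih =>
      intro hx w hw he
      obtain ⟨j, a⟩ := x
      obtain ⟨haA, hna⟩ := hx (j, a) (List.mem_cons_self ..)
      have hx' := fun y hy => hx y (List.mem_cons_of_mem _ hy)
      refine ih hx' w hw ?_
      have hu := elimCoeff_mem hconj hMinv L' (fun y hy => (hx' y hy).1) 0 w hw
      simp only [elimCoeff, pow_zero, one_mul, inv_one, mul_one, sub_eq_zero] at he
      refine ((hfree _ (A.mul_mem (A.inv_mem haA) (hconj j a haA))).resolve_left hna) _ hu ?_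
      rw [mul_smul, ← he, inv_smul_smul]
  refine hMne ((AddSubgroup.eq_bot_iff_forall M).mpr fun w hw => hinj L (fun x hx => ?_) w hw (hzero w))
  obtain ⟨j, hj, rfl⟩ := List.mem_map.mp hx
  exact ⟨hLA _ hx, hf j ((hmem j).mp hj).1 ((hmem j).mp hj).2⟩

end

/-- In a `p`-by-(abelian `p'`)-by-`p` group an element acting with degree `p - 1` on a minimal normal
`p`-subgroup centralizes it, when the normal `p'`-part is faithful modulo `O_p`. -/
theorem centralizes_minimal_of_degree {Q : Type u} [Group Q] [Finite Q] (T : Sylow p Q) {P M W : Subgroup Q}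
    (hd : IsPAbelData p P M) (hW : W.Normal) (hWp : IsPGroup p W)
    (hWmin : ∀ N : Subgroup Q, N.Normal → N ≤ W → N = ⊥ ∨ N = W)
    (hab : ∀ a ∈ W, ∀ b ∈ W, a * b = b * a) (hexp : ∀ a ∈ W, a ^ p = 1) {g : Q}
    (hgT : g ∈ (T : Subgroup Q)) (hg : Cfsg.iterCommutator W (Subgroup.zpowers g) (p - 1) = ⊥) :
    g ∈ Subgroup.centralizer (W : Set Q) := by
  by_contra hgC
  set C := Subgroup.centralizer (W : Set Q) with hC
  haveI hCn : C.Normal := Subgroup.normal_centralizer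
  haveI := hd.mn
  haveI := hd.pn
  haveI := hW
  have hWne : W ≠ ⊥ := fun e => hgC (Subgroup.mem_centralizer_iff.mpr fun w hw => by
    rw [e] at hw; rw [Subgroup.mem_bot.mp hw]; simp)
  -- fixed points of a `p`-group on `W`
  have hfix : ∀ K : Subgroup Q, IsPGroup p K → ∃ w ∈ W, w ≠ 1 ∧ ∀ k ∈ K, k * w * k⁻¹ = w := by
    intro K hK
    let _ : MulAction K W :=
      { smul := fun k w => ⟨k * w * (k : Q)⁻¹, hW.conj_mem _ w.2 k⟩
        one_smul := fun w => Subtype.ext (show ((1 : K) : Q) * w * ((1 : K) : Q)⁻¹ = w by simp)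
        mul_smul := fun k l w => Subtype.ext (show ((k * l : K) : Q) * w * ((k * l : K) : Q)⁻¹ =
          k * (l * w * (l : Q)⁻¹) * (k : Q)⁻¹ by simp [mul_assoc]) }
    have hd' : p ∣ Nat.card W := by
      obtain ⟨n, hn⟩ := IsPGroup.iff_card.mp hWp
      rcases Nat.eq_zero_or_pos n with rfl | hn0
      · exact absurd (Subgroup.card_eq_one.mp (by simpa using hn)) hWne
      · exact hn ▸ dvd_pow_self p hn0.ne'
    have h1 : (1 : W) ∈ MulAction.fixedPoints K W := fun k => Subtype.ext (by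
      show (k : Q) * 1 * (k : Q)⁻¹ = 1; simp)
    obtain ⟨w, hw, hw1⟩ := hK.exists_fixed_point_of_prime_dvd_card_of_fixed_point W hd' h1
    exact ⟨w, w.2, fun e => hw1 (Subtype.ext e.symm), fun k hk => congrArg Subtype.val (hw ⟨k, hk⟩)⟩
  have hnormalF : ∀ S : Set Q, (∀ x : Q, ∀ u ∈ W, (∀ s ∈ S, s * u * s⁻¹ = u) → ∀ s ∈ S,
      s * (x * u * x⁻¹) * s⁻¹ = x * u * x⁻¹) → (∃ w ∈ W, w ≠ 1 ∧ ∀ s ∈ S, s * w * s⁻¹ = w) →
      ∀ s ∈ S, s ∈ C := by
    intro S hS hw s hs
    let F : Subgroup Q :=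
      { carrier := {u | u ∈ W ∧ ∀ s ∈ S, s * u * s⁻¹ = u}
        one_mem' := ⟨one_mem W, fun s _ => by simp⟩
        mul_mem' := fun {u v} hu hv => ⟨W.mul_mem hu.1 hv.1, fun s hs => by
          rw [← conj_mul, hu.2 s hs, hv.2 s hs]⟩
        inv_mem' := fun {u} hu => ⟨W.inv_mem hu.1, fun s hs => by rw [← conj_inv, hu.2 s hs]⟩ }
    have hFn : F.Normal := ⟨fun u hu x => ⟨hW.conj_mem u hu.1 x, hS x u hu.1 hu.2⟩⟩
    obtain ⟨w, hwW, hw1, hws⟩ := hw
    rcases hWmin F hFn (fun u hu => hu.1) with hF | hF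
    · exact absurd ((Subgroup.eq_bot_iff_forall F).mp hF w ⟨hwW, hws⟩) hw1
    · exact Subgroup.mem_centralizer_iff.mpr fun u hu =>
        (mul_inv_eq_iff_eq_mul.mp ((hF.ge hu).2 s hs)).symm
  -- `P` centralizes `W`
  have hPC : P ≤ C := by
    refine hnormalF (P : Set Q) (fun x u _ hu s hs => ?_) (hfix P hd.isP)
    have h1 : x⁻¹ * s * x ∈ P := by simpa using hd.pn.conj_mem s hs x⁻¹
    calc s * (x * u * x⁻¹) * s⁻¹ = x * ((x⁻¹ * s * x) * u * (x⁻¹ * s * x)⁻¹) * x⁻¹ := by group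
      _ = x * u * x⁻¹ := by rw [hu _ h1]
  -- the power
  obtain ⟨h, hhz, hhC, hhp⟩ : ∃ h ∈ Subgroup.zpowers g, h ∉ C ∧ h ^ p ∈ C := by
    obtain ⟨n, hn⟩ := T.isPGroup' ⟨g, hgT⟩
    have hgn : g ^ p ^ n ∈ C := by
      rw [show g ^ p ^ n = 1 by simpa using congrArg Subtype.val hn]; exact one_mem C
    clear hn
    induction n with
    | zero => exact absurd (by simpa using hgn) hgC
    | succ n ih =>
      by_cases hn' : g ^ p ^ n ∈ C
      · exact ih hn'
      · exact ⟨g ^ p ^ n, pow_mem (Subgroup.mem_zpowers g) _, hn', by rwa [← pow_mul, ← pow_succ]⟩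
  have hhT : h ∈ (T : Subgroup Q) := Subgroup.zpowers_le.mpr hgT hhz
  have hhg : Cfsg.iterCommutator W (Subgroup.zpowers h) (p - 1) = ⊥ := le_bot_iff.mp
    ((iterCommutator_mono le_rfl (Subgroup.zpowers_le.mpr hhz) (p - 1)).trans hg.le)
  letI : CommGroup W :=
    { (inferInstance : Group W) with mul_comm := fun a b => Subtype.ext (hab a a.2 b b.2) }
  letI : DistribMulAction Q (Additive W) :=
    { smul := fun q w => Additive.ofMul ⟨q * (Additive.toMul w : W) * q⁻¹, hW.conj_mem _ (Additive.toMul w).2 q⟩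
      one_smul := fun w => Additive.toMul.injective (Subtype.ext (by
        show 1 * ((Additive.toMul w : W) : Q) * 1⁻¹ = _; simp))
      mul_smul := fun q r w => Additive.toMul.injective (Subtype.ext (by
        show q * r * ((Additive.toMul w : W) : Q) * (q * r)⁻¹ = q * (r * ((Additive.toMul w : W) : Q) * r⁻¹) * q⁻¹
        group))
      smul_zero := fun q => Additive.toMul.injective (Subtype.ext (by
        show q * 1 * q⁻¹ = 1; simp))
      smul_add := fun q v w => Additive.toMul.injective (Subtype.ext (by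
        show q * (((Additive.toMul v : W) : Q) * ((Additive.toMul w : W) : Q)) * q⁻¹ =
          q * ((Additive.toMul v : W) : Q) * q⁻¹ * (q * ((Additive.toMul w : W) : Q) * q⁻¹)
        group)) }
  have hval : ∀ (q : Q) (w : Additive W), ((Additive.toMul (q • w) : W) : Q) = q * (Additive.toMul w : W) * q⁻¹ :=
    fun q w => rfl
  have hCfix : ∀ c ∈ C, ∀ w : Additive W, c • w = w := fun c hc w =>
    Additive.toMul.injective (Subtype.ext (by
      rw [hval, ← Subgroup.mem_centralizer_iff.mp hc _ (Additive.toMul w).2, mul_inv_cancel_right]))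
  have key := commute_abelian_of_sum_zero (p := p) (A := M) (h := h) (V := Additive W)
    (fun v => Additive.toMul.injective (Subtype.ext (by
      rw [toMul_nsmul, toMul_zero, SubmonoidClass.coe_pow, hexp _ (Additive.toMul v).2, Subgroup.coe_one])))
    (fun a ha => hd.mn.conj_mem a ha h)
    (fun a ha b hb v => by
      conv_lhs => rw [show a * b = (a * b * a⁻¹ * b⁻¹) * (b * a) by group]
      rw [mul_smul, hCfix _ (hPC (hd.comm a ha b hb))])
    (fun a ha => by
      obtain ⟨k, hk, hkP⟩ := hd.mid a ha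
      exact ⟨k, hk, hCfix _ (hPC hkP)⟩)
    (hCfix _ hhp)
    (fun v => Additive.toMul.injective (Subtype.ext (by
      have h1 := prod_conj_eq_one (p := p) hab hexp hhg (Additive.toMul v).2
      rw [toMul_zero, Subgroup.coe_one, ← h1]
      have h2 : ∀ n : ℕ, ((Additive.toMul (∑ i ∈ Finset.range n, h ^ i • v) : W) : Q) =
          ((List.range n).map fun i => h ^ i * ((Additive.toMul v : W) : Q) * (h ^ i)⁻¹).prod := by
        intro n
        induction n with
        | zero => simp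
        | succ n ihn =>
          rw [Finset.sum_range_succ, toMul_add, Subgroup.coe_mul, ihn, hval, List.range_succ, List.map_append,
            List.prod_append, List.map_singleton, List.prod_singleton]
      exact h2 p)))
  -- `h` commutes with `M` on `W`, so its conjugates act as a `p`-group
  have hcomC : ∀ m ∈ M, m⁻¹ * h * m * h⁻¹ ∈ C := fun m hm => by
    refine Subgroup.mem_centralizer_iff.mpr fun w hw => ?_
    have h1 := congrArg (fun v : Additive W => m⁻¹ • v) (key m hm (Additive.ofMul ⟨w, hw⟩))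
    simp only [inv_smul_smul, ← mul_smul] at h1
    have h2 := congrArg (fun v : Additive W => ((Additive.toMul v : W) : Q)) h1
    simp only [hval, toMul_ofMul] at h2
    rw [show m⁻¹ * h * m * h⁻¹ = m⁻¹ * (h * m * h⁻¹) by group]
    simp only [inv_mul_cancel, one_mul, inv_one, mul_one] at h2
    exact (mul_inv_eq_iff_eq_mul.mp h2).symm
  set S : Set Q := {y | ∃ t ∈ (T : Subgroup Q), y = t * h * t⁻¹} with hS
  set R := Subgroup.closure S with hR
  have hRT : R ≤ (T : Subgroup Q) := (Subgroup.closure_le _).mpr (by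
    rintro _ ⟨t, ht, rfl⟩; exact mul_mem (mul_mem ht hhT) (inv_mem ht))
  obtain ⟨w, hwW, hw1, hwR⟩ := hfix R (T.isPGroup'.to_le hRT)
  refine hhC (hnormalF S (fun x u hu hus s hs => ?_)
    ⟨w, hwW, hw1, fun s hs => hwR s (Subgroup.subset_closure hs)⟩ h ⟨1, one_mem _, by simp⟩)
  obtain ⟨t, ht, rfl⟩ := hs
  have htop : M ⊔ (T : Subgroup Q) = ⊤ := by
    have hq : IsPGroup p (Q ⧸ M) := fun q => by
      induction q using QuotientGroup.induction_on with
      | _ y =>
        obtain ⟨n, hn⟩ := hd.top y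
        exact ⟨n, (QuotientGroup.eq_one_iff _).mpr hn⟩
    have h1 : (T : Subgroup Q).map (QuotientGroup.mk' M) = ⊤ :=
      ((T.mapSurjective (QuotientGroup.mk'_surjective M)).is_maximal' (hq.to_subgroup ⊤) le_top).symm
    rw [sup_comm, ← QuotientGroup.ker_mk' M, ← Subgroup.comap_map_eq, h1, Subgroup.comap_top]
  obtain ⟨s, hsT, m, hm, hxe⟩ : ∃ s ∈ (T : Subgroup Q), ∃ m ∈ M, t⁻¹ * x = s * m := by
    have hx : t⁻¹ * x ∈ (T : Subgroup Q) ⊔ M := by rw [sup_comm, htop]; exact Subgroup.mem_top _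
    obtain ⟨s, hs, m, hm, he⟩ := Subgroup.mem_sup_of_normal_right.mp hx
    exact ⟨s, hs, m, hm, he.symm⟩
  have hx : x = t * s * m := by rw [mul_assoc, ← hxe, mul_inv_cancel_left]
  have hmu : m * u * m⁻¹ ∈ W := hW.conj_mem u hu m
  set c := m⁻¹ * (s⁻¹ * h * s) * m * (s⁻¹ * h * s)⁻¹ with hc
  have hcC : c ∈ C := by
    have h1 := hCn.conj_mem _ (hcomC (s * m * s⁻¹) (hd.mn.conj_mem m hm s)) s⁻¹
    convert h1 using 1
    rw [hc]; group
  have hsu : (s⁻¹ * h * s) * u * (s⁻¹ * h * s)⁻¹ = u :=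
    hus _ ⟨s⁻¹, inv_mem hsT, by group⟩
  have h2 : m⁻¹ * (s⁻¹ * h * s) * m * u * (m⁻¹ * (s⁻¹ * h * s) * m)⁻¹ = u := by
    calc _ = c * ((s⁻¹ * h * s) * u * (s⁻¹ * h * s)⁻¹) * c⁻¹ := by rw [hc]; group
      _ = u := by rw [hsu, ← Subgroup.mem_centralizer_iff.mp hcC u hu, mul_inv_cancel_right]
  rw [hx]
  calc t * h * t⁻¹ * (t * s * m * u * (t * s * m)⁻¹) * (t * h * t⁻¹)⁻¹
      = t * s * m * ((m⁻¹ * (s⁻¹ * h * s) * m) * u * (m⁻¹ * (s⁻¹ * h * s) * m)⁻¹) * (t * s * m)⁻¹ := by group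
    _ = t * s * m * u * (t * s * m)⁻¹ := by rw [h2]

end Cfsg.Agent.Invol
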