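import Mathlib

/-!
Group-theoretic facts used for four-transitive groups with odd four-point stabilisers: square roots in
cyclic groups of odd order, the product decomposition of a nilpotent group of odd order under two commuting
involutive automorphisms, and Sylow subgroups normalised by a group of two-power order.
-/

set_option autoImplicit false
set_option linter.style.haveILetI false

namespace Cfsg.Agent.Invol.HallFour

open Subgroup
open scoped Pointwise commutatorElement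

universe u

variable {G : Type u} [Group G]

theorem exists_sq_eq {x : G} (h : Odd (orderOf x)) : ∃ k : ℕ, (x ^ k) * (x ^ k) = x := by
  obtain ⟨m, hm⟩ := h
  refine ⟨m + 1, ?_⟩
  rw [← pow_add, show m + 1 + (m + 1) = (2 * m + 1) + 1 by omega, pow_succ, ← hm,
    pow_orderOf_eq_one, one_mul]

theorem eq_one_of_sq {x : G} (h : Odd (orderOf x)) (hx : x * x = 1) : x = 1 := by
  obtain ⟨m, hm⟩ := h
  have := pow_orderOf_eq_one x
  rwa [hm, pow_succ, pow_mul, sq, hx, one_pow, one_mul] at this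

theorem eq_one_of_inv {x : G} (h : Odd (orderOf x)) (hx : x = x⁻¹) : x = 1 :=
  eq_one_of_sq h (by rw [eq_inv_iff_mul_eq_one] at hx; exact hx)

theorem odd_orderOf_of_odd_card [Finite G] {K : Subgroup G} (hK : Odd (Nat.card K)) {x : G}
    (hx : x ∈ K) : Odd (orderOf x) :=
  Odd.of_dvd_nat hK (Subgroup.orderOf_dvd_natCard K hx)

theorem odd_card_of_odd_orderOf [Finite G] {K : Subgroup G}
    (h : ∀ x ∈ K, Odd (orderOf x)) : Odd (Nat.card K) := by
  haveI : Fact (Nat.Prime 2) := ⟨Nat.prime_two⟩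
  rw [← Nat.not_even_iff_odd, even_iff_two_dvd]
  intro h2
  obtain ⟨x, hx⟩ := exists_prime_orderOf_dvd_card' 2 h2
  have := h x x.2
  rw [Subgroup.orderOf_coe, hx] at this
  exact absurd this (by decide)

theorem odd_card_of_le [Finite G] {K L : Subgroup G} (hLK : L ≤ K) (hK : Odd (Nat.card K)) :
    Odd (Nat.card L) :=
  Odd.of_dvd_nat hK (Subgroup.card_dvd_of_le hLK)

theorem odd_card_of_isPGroup [Finite G] {p : ℕ} [Fact p.Prime] (hp : p ≠ 2) {K : Subgroup G}
    (hK : IsPGroup p K) : Odd (Nat.card K) := by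
  obtain ⟨k, hk⟩ := IsPGroup.iff_card.1 hK
  rw [hk]
  exact (((Fact.out : p.Prime).eq_two_or_odd').resolve_left hp).pow

/-- Two involutions `t`, `t'` whose product has odd order are conjugate by a power of `t * t'`. -/
theorem exists_conj_pow {t t' : G} (ht : t * t = 1) (ht' : t' * t' = 1)
    (ho : Odd (orderOf (t * t'))) : ∃ k : ℕ, (t * t') ^ k * t' * ((t * t') ^ k)⁻¹ = t := by
  have h1 : t⁻¹ = t := inv_eq_of_mul_eq_one_right ht
  have h2 : t'⁻¹ = t' := inv_eq_of_mul_eq_one_right ht'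
  have hx : t' * (t * t') * t'⁻¹ = (t * t')⁻¹ := by
    rw [mul_inv_rev, h1, h2, mul_assoc, mul_assoc, ht', mul_one]
  obtain ⟨k, hk⟩ := exists_sq_eq ho
  refine ⟨k, ?_⟩
  have h3 : t' * ((t * t') ^ k)⁻¹ = (t * t') ^ k * t' := by
    have e := congrArg (· ^ k) hx
    simp only [conj_pow, inv_pow] at e
    rw [← e, h2, ← mul_assoc, ← mul_assoc, ht', one_mul]
  rw [mul_assoc, h3, ← mul_assoc, hk, mul_assoc, ht', mul_one]

/-- The square root of `e⁻¹ * σ e` makes `e` fixed. -/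
theorem exists_fix (σ : G →* G) (hσ : ∀ x, σ (σ x) = x) {e : G}
    (ho : Odd (orderOf (e⁻¹ * σ e))) :
    ∃ v ∈ zpowers (e⁻¹ * σ e), σ (e * v) = e * v := by
  set y := e⁻¹ * σ e with hy
  obtain ⟨k, hk⟩ := exists_sq_eq ho
  refine ⟨y ^ k, pow_mem (mem_zpowers y) k, ?_⟩
  have hyi : σ y = y⁻¹ := by
    rw [hy, map_mul, map_inv, hσ, mul_inv_rev, inv_inv]
  have hse : σ e = e * y := by rw [hy, mul_inv_cancel_left]
  rw [map_mul, map_pow, hyi, hse, inv_pow]
  rw [mul_assoc]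
  congr 1
  rw [mul_inv_eq_iff_eq_mul, hk]

/-- One step of the decomposition: in a section `W / W'` that is central in `P`, every element is a product
of three fixed elements. -/
theorem decomposition_step [Finite G] (hodd : Odd (Nat.card G)) (σ τ : G →* G)
    (hσ : ∀ x, σ (σ x) = x) (hτ : ∀ x, τ (τ x) = x) (hc : ∀ x, σ (τ x) = τ (σ x))
    (W W' : Subgroup G) [W'.Normal] (hWσ : ∀ x ∈ W, σ x ∈ W) (hWτ : ∀ x ∈ W, τ x ∈ W)
    (hle : W' ≤ W) (hWσ' : ∀ x ∈ W', σ x ∈ W') (hWτ' : ∀ x ∈ W', τ x ∈ W')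
    (hcen : ∀ w ∈ W, ∀ g : G, ⁅w, g⁆ ∈ W') (w : G) (hw : w ∈ W) :
    ∃ b a a' z, b ∈ W ∧ a ∈ W ∧ a' ∈ W ∧ z ∈ W' ∧ σ (τ b) = b ∧ σ a = a ∧ τ a' = a' ∧
      w = b * a * a' * z := by
  have hoddx : ∀ x : G, Odd (orderOf x) := fun x => Odd.of_dvd_nat hodd (orderOf_dvd_natCard x)
  set π := QuotientGroup.mk' W' with hπ
  have hcomm : ∀ x ∈ W, ∀ g : G, π x * π g = π g * π x := by
    intro x hx g
    have h := hcen x hx g
    rw [← QuotientGroup.ker_mk' W', MonoidHom.mem_ker, map_commutatorElement] at h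
    exact commutatorElement_eq_one_iff_mul_comm.1 h
  -- elements fixed modulo `W'`
  have lift : ∀ ρ : G →* G, (∀ x, ρ (ρ x) = x) → (∀ x ∈ W, ρ x ∈ W) → ∀ e ∈ W, π (ρ e) = π e →
      ∃ c ∈ W, ρ c = c ∧ π c = π e := by
    intro ρ hρ hWρ e he h
    have hy : e⁻¹ * ρ e ∈ W' := by
      rw [← QuotientGroup.ker_mk' W', MonoidHom.mem_ker, map_mul, map_inv]
      exact inv_mul_eq_one.2 h.symm
    obtain ⟨v, hv, hfix⟩ := exists_fix ρ hρ (hoddx (e⁻¹ * ρ e))
    have hv' : v ∈ W' := zpowers_le.2 hy hv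
    refine ⟨e * v, W.mul_mem he (hle hv'), hfix, ?_⟩
    have : π v = 1 := (QuotientGroup.eq_one_iff v).2 hv'
    rw [map_mul, this, mul_one]
  set κ : G →* G := σ.comp τ with hκ
  have hκi : ∀ x, κ (κ x) = x := by
    intro x; simp [hκ, MonoidHom.comp_apply, hc, hσ, hτ]
  have hWκ : ∀ x ∈ W, κ x ∈ W := fun x hx => hWσ _ (hWτ _ hx)
  have congr' : ∀ ρ : G →* G, (∀ x ∈ W', ρ x ∈ W') → ∀ x y, π x = π y → π (ρ x) = π (ρ y) := by
    intro ρ hρ x y h
    have hy : x⁻¹ * y ∈ W' := by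
      rw [← QuotientGroup.ker_mk' W', MonoidHom.mem_ker, map_mul, map_inv]
      exact inv_mul_eq_one.2 h
    have := (QuotientGroup.eq (s := W') (a := ρ x) (b := ρ y)).2
      (by rw [← map_inv, ← map_mul]; exact hρ _ hy)
    exact this
  have fixed : ∀ ρ : G →* G, (∀ x, ρ (ρ x) = x) → (∀ x ∈ W, ρ x ∈ W) → ∀ u ∈ W,
      π (ρ (u * ρ u)) = π (u * ρ u) := by
    intro ρ hρ hWρ u hu
    rw [map_mul ρ, hρ, map_mul, map_mul, hcomm _ (hWρ u hu) u]
  -- the subgroup of products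
  let T : Set G := {x | x ∈ W ∧ ∃ b a a', b ∈ W ∧ a ∈ W ∧ a' ∈ W ∧ σ (τ b) = b ∧ σ a = a ∧ τ a' = a' ∧
    π x = π b * π a * π a'}
  have hmul : ∀ x ∈ T, ∀ y ∈ T, x * y ∈ T := by
    rintro x ⟨hx, b, a, a', hb, ha, ha', f1, f2, f3, e⟩ y ⟨hy, d, c, c', hd, hc', hc'', g1, g2, g3, e'⟩
    refine ⟨W.mul_mem hx hy, b * d, a * c, a' * c', W.mul_mem hb hd, W.mul_mem ha hc',
      W.mul_mem ha' hc'', by simp [f1, g1], by simp [f2, g2], by simp [f3, g3], ?_⟩
    simp only [map_mul, e, e']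
    have k1 : π a' * π d = π d * π a' := hcomm a' ha' d
    have k2 : π a * π d = π d * π a := hcomm a ha d
    have k3 : π a' * π c = π c * π a' := hcomm a' ha' c
    calc π b * π a * π a' * (π d * π c * π c')
        = π b * π a * (π a' * π d) * π c * π c' := by group
      _ = π b * (π a * π d) * π a' * π c * π c' := by rw [k1]; group
      _ = π b * π d * π a * (π a' * π c) * π c' := by rw [k2]; group
      _ = π b * π d * (π a * π c) * (π a' * π c') := by rw [k3]; group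
  have hT1 : (1 : G) ∈ T :=
    ⟨one_mem W, 1, 1, 1, one_mem W, one_mem W, one_mem W, by simp, by simp, by simp, by simp⟩
  have hinv : ∀ x ∈ T, x⁻¹ ∈ T := by
    intro x hx
    have hp : ∀ n : ℕ, x ^ n ∈ T := by
      intro n
      induction n with
      | zero => rw [pow_zero]; exact hT1
      | succ n ih => rw [pow_succ]; exact hmul _ ih _ hx
    rw [inv_eq_of_mul_eq_one_left (b := x) (a := x ^ (orderOf x - 1))
      (by rw [← pow_succ, Nat.sub_add_cancel (orderOf_pos x), pow_orderOf_eq_one])]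
    exact hp _
  have e1W : w * σ w ∈ W := W.mul_mem hw (hWσ w hw)
  have e2W : w * τ w ∈ W := W.mul_mem hw (hWτ w hw)
  have e3W : w * κ w ∈ W := W.mul_mem hw (hWκ w hw)
  have e4W : (w * σ w) * τ (w * σ w) ∈ W := W.mul_mem e1W (hWτ _ e1W)
  have f1 := fixed σ hσ hWσ w hw
  have f3 := fixed κ hκi hWκ w hw
  have f4 : π (σ ((w * σ w) * τ (w * σ w))) = π ((w * σ w) * τ (w * σ w)) := by
    rw [map_mul σ (w * σ w), map_mul π, hc, congr' τ hWτ' _ _ f1, f1, ← map_mul π]
  have t1 : w * σ w ∈ T := by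
    obtain ⟨a, ha, fa, ea⟩ := lift σ hσ hWσ _ e1W f1
    exact ⟨e1W, 1, a, 1, one_mem W, ha, one_mem W, by simp, fa, by simp, by simp [← ea]⟩
  have t2 : w * τ w ∈ T := by
    obtain ⟨a, ha, fa, ea⟩ := lift τ hτ hWτ _ e2W (fixed τ hτ hWτ w hw)
    exact ⟨e2W, 1, 1, a, one_mem W, one_mem W, ha, by simp, by simp, fa, by simp [← ea]⟩
  have t3 : w * κ w ∈ T := by
    obtain ⟨a, ha, fa, ea⟩ := lift κ hκi hWκ _ e3W f3
    exact ⟨e3W, a, 1, 1, ha, one_mem W, one_mem W, fa, by simp, by simp, by simp [← ea]⟩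
  have t4 : (w * σ w) * τ (w * σ w) ∈ T := by
    obtain ⟨a, ha, fa, ea⟩ := lift σ hσ hWσ _ e4W f4
    exact ⟨e4W, 1, a, 1, one_mem W, ha, one_mem W, by simp, fa, by simp,
      by rw [map_one, one_mul, mul_one, ea]⟩
  -- `w * w` is a product
  have key : π ((w * σ w) * (w * τ w) * (w * κ w) * ((w * σ w) * τ (w * σ w))⁻¹) = π (w * w) := by
    have hk : κ w = τ (σ w) := hc w
    have htw : τ w ∈ W := hWτ w hw
    have c1 : π (σ w) * π w = π w * π (σ w) := hcomm _ (hWσ w hw) w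
    have c2 : π (τ w) * π w = π w * π (τ w) := hcomm _ htw w
    have c3 : π (σ w) * π (w * τ w) = π (w * τ w) * π (σ w) := hcomm _ (hWσ w hw) _
    simp only [map_mul, map_inv, hk] at c3 ⊢
    calc π w * π (σ w) * (π w * π (τ w)) * (π w * π (τ (σ w))) *
          (π w * π (σ w) * (π (τ w) * π (τ (σ w))))⁻¹
        = π w * (π (σ w) * π w) * (π (τ w) * π w) * π (τ (σ w)) *
          (π w * π (σ w) * (π (τ w) * π (τ (σ w))))⁻¹ := by group
      _ = π w * π w * π (σ w) * π w * π (τ w) * π (τ (σ w)) *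
          (π w * π (σ w) * (π (τ w) * π (τ (σ w))))⁻¹ := by rw [c1, c2]; group
      _ = π w * π w * ((π (σ w) * π w) * (π (τ w) * π (τ (σ w))) *
          (π w * π (σ w) * (π (τ w) * π (τ (σ w))))⁻¹) := by group
      _ = π w * π w := by rw [c1, mul_inv_cancel, mul_one]
  have hsq : w * w ∈ T := by
    have := hmul _ (hmul _ (hmul _ t1 _ t2) _ t3) _ (hinv _ t4)
    obtain ⟨-, b, a, a', hb, ha, ha', g1, g2, g3, e⟩ := this
    exact ⟨W.mul_mem hw hw, b, a, a', hb, ha, ha', g1, g2, g3, key ▸ e⟩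
  have hwT : w ∈ T := by
    obtain ⟨m, hm⟩ := hoddx w
    have hp : ∀ n : ℕ, (w * w) ^ n ∈ T := by
      intro n
      induction n with
      | zero => rw [pow_zero]; exact hT1
      | succ n ih => rw [pow_succ]; exact hmul _ ih _ hsq
    have : (w * w) ^ (m + 1) = w := by
      rw [← sq, ← pow_mul, show 2 * (m + 1) = (2 * m + 1) + 1 by omega, pow_succ, ← hm,
        pow_orderOf_eq_one, one_mul]
    exact this ▸ hp _
  obtain ⟨-, b, a, a', hb, ha, ha', g1, g2, g3, e⟩ := hwT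
  refine ⟨b, a, a', (b * a * a')⁻¹ * w, hb, ha, ha', ?_, g1, g2, g3, by rw [mul_inv_cancel_left]⟩
  rw [← QuotientGroup.ker_mk' W', MonoidHom.mem_ker, map_mul, map_inv, map_mul, map_mul]
  exact inv_mul_eq_one.2 e.symm

/-- A finite nilpotent group of odd order with two commuting involutive automorphisms is the product of the
three fixed-point sets. -/
theorem decomposition [Finite G] [Group.IsNilpotent G] (hodd : Odd (Nat.card G)) (σ τ : G →* G)
    (hσ : ∀ x, σ (σ x) = x) (hτ : ∀ x, τ (τ x) = x) (hc : ∀ x, σ (τ x) = τ (σ x)) (u : G) :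
    ∃ b a a', σ (τ b) = b ∧ σ a = a ∧ τ a' = a' ∧ u = b * a * a' := by
  have hchar : ∀ (n : ℕ) (ρ : G →* G), (∀ x, ρ (ρ x) = x) →
      ∀ x ∈ (⊤ : Subgroup G).lowerCentralSeries n, ρ x ∈ (⊤ : Subgroup G).lowerCentralSeries n := by
    intro n ρ hρ x hx
    let e : G ≃* G :=
      { toFun := ρ, invFun := ρ, left_inv := hρ, right_inv := hρ, map_mul' := map_mul ρ }
    have := Subgroup.Characteristic.fixed (H := (⊤ : Subgroup G).lowerCentralSeries n) inferInstance e
    rw [← this] at hx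
    exact hx
  have main : ∀ n : ℕ, ∀ u : G, ∃ b a a' z, σ (τ b) = b ∧ σ a = a ∧ τ a' = a' ∧
      z ∈ (⊤ : Subgroup G).lowerCentralSeries n ∧ u = b * a * a' * z := by
    intro n
    induction n with
    | zero => exact fun u => ⟨1, 1, 1, u, by simp, by simp, by simp, by simp, by simp⟩
    | succ n ih =>
      intro u
      obtain ⟨b, a, a', z, f1, f2, f3, hz, rfl⟩ := ih u
      set W := (⊤ : Subgroup G).lowerCentralSeries n with hW
      set W' := (⊤ : Subgroup G).lowerCentralSeries (n + 1) with hW'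
      haveI : W'.Normal := Subgroup.normal_of_characteristic _
      have hle : W' ≤ W := Subgroup.lowerCentralSeries_antitone _ (Nat.le_succ n)
      have hcen : ∀ w ∈ W, ∀ g : G, ⁅w, g⁆ ∈ W' := fun w hw g =>
        Subgroup.commutator_mem_commutator hw (mem_top g)
      obtain ⟨d, c, c', y, hd, hc1, hc2, hy, g1, g2, g3, rfl⟩ :=
        decomposition_step hodd σ τ hσ hτ hc W W' (hchar n σ hσ) (hchar n τ hτ) hle
          (hchar (n + 1) σ hσ) (hchar (n + 1) τ hτ) hcen z hz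
      refine ⟨b * d, a * c, a' * c', (b * d * (a * c) * (a' * c'))⁻¹ * (b * a * a' * (d * c * c' * y)),
        by simp [f1, g1], by simp [f2, g2], by simp [f3, g3], ?_, by rw [mul_inv_cancel_left]⟩
      rw [← QuotientGroup.ker_mk' W', MonoidHom.mem_ker, map_mul, map_inv]
      set π := QuotientGroup.mk' W'
      have hy1 : π y = 1 := (QuotientGroup.eq_one_iff y).2 hy
      have k : ∀ w ∈ W, ∀ g : G, π g * π w = π w * π g := by
        intro w hw g
        have h := hcen w hw g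
        rw [← QuotientGroup.ker_mk' W', MonoidHom.mem_ker, map_commutatorElement] at h
        exact (commutatorElement_eq_one_iff_mul_comm.1 h).symm
      refine inv_mul_eq_one.2 (Eq.symm ?_)
      simp only [map_mul, hy1, mul_one]
      calc π b * π a * π a' * (π d * π c * π c')
          = π b * π a * (π a' * π d) * π c * π c' := by group
        _ = π b * (π a * π d) * π a' * π c * π c' := by rw [k d hd a']; group
        _ = π b * π d * π a * (π a' * π c) * π c' := by rw [k d hd a]; group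
        _ = π b * π d * (π a * π c) * (π a' * π c') := by rw [k c hc1 a']; group
  obtain ⟨n, hn⟩ := Subgroup.nilpotent_iff_lowerCentralSeries.1 ‹Group.IsNilpotent G›
  obtain ⟨b, a, a', z, f1, f2, f3, hz, rfl⟩ := main n u
  rw [hn, mem_bot] at hz
  exact ⟨b, a, a', f1, f2, f3, by rw [hz, mul_one]⟩

/-- The decomposition for a `p`-subgroup normalised by two commuting involutions. -/
theorem decomposition_subgroup [Finite G] {p : ℕ} [Fact p.Prime] (hp : p ≠ 2) {P : Subgroup G}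
    (hP : IsPGroup p P) {s t : G} (hs : s * s = 1) (ht : t * t = 1) (hst : s * t = t * s)
    (hsP : ∀ u ∈ P, s * u * s⁻¹ ∈ P) (htP : ∀ u ∈ P, t * u * t⁻¹ ∈ P) {u : G} (hu : u ∈ P) :
    ∃ b a a', b ∈ P ∧ a ∈ P ∧ a' ∈ P ∧ b * (s * t) = (s * t) * b ∧ a * s = s * a ∧
      a' * t = t * a' ∧ u = b * a * a' := by
  haveI : Group.IsNilpotent P := hP.isNilpotent
  let mk : (g : G) → (∀ u ∈ P, g * u * g⁻¹ ∈ P) → (P →* P) := fun g hg =>
    { toFun := fun x => ⟨g * x * g⁻¹, hg x x.2⟩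
      map_one' := Subtype.ext (by simp)
      map_mul' := fun x y => Subtype.ext (show g * (x * y) * g⁻¹ = g * x * g⁻¹ * (g * y * g⁻¹) by group) }
  have inv2 : ∀ g : G, g * g = 1 → ∀ hg, ∀ x : P, mk g hg (mk g hg x) = x := by
    intro g hg2 hg x
    apply Subtype.ext
    show g * (g * x * g⁻¹) * g⁻¹ = x
    rw [inv_eq_of_mul_eq_one_right hg2]
    simp only [← mul_assoc, hg2, one_mul]
    rw [mul_assoc, hg2, mul_one]
  have com : ∀ x : P, mk s hsP (mk t htP x) = mk t htP (mk s hsP x) := by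
    intro x
    apply Subtype.ext
    show s * (t * x * t⁻¹) * s⁻¹ = t * (s * x * s⁻¹) * t⁻¹
    calc s * (t * x * t⁻¹) * s⁻¹ = (s * t) * x * (s * t)⁻¹ := by group
      _ = (t * s) * x * (t * s)⁻¹ := by rw [hst]
      _ = _ := by group
  obtain ⟨b, a, a', f1, f2, f3, e⟩ := decomposition (odd_card_of_isPGroup hp hP) (mk s hsP) (mk t htP)
    (inv2 s hs hsP) (inv2 t ht htP) com ⟨u, hu⟩
  refine ⟨b, a, a', b.2, a.2, a'.2, ?_, ?_, ?_, congrArg Subtype.val e⟩
  · have h : s * (t * b * t⁻¹) * s⁻¹ = (b : G) := congrArg Subtype.val f1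
    calc (b : G) * (s * t) = s * (t * b * t⁻¹) * s⁻¹ * (s * t) := by rw [h]
      _ = s * t * b := by group
  · have h : s * a * s⁻¹ = (a : G) := congrArg Subtype.val f2
    calc (a : G) * s = s * a * s⁻¹ * s := by rw [h]
      _ = s * a := by group
  · have h : t * a' * t⁻¹ = (a' : G) := congrArg Subtype.val f3
    calc (a' : G) * t = t * a' * t⁻¹ * t := by rw [h]
      _ = t * a' := by group

/-- Subgroups of full `p`-power order of a subgroup are conjugate inside it. -/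
theorem exists_conj_full [Finite G] {p : ℕ} [Fact p.Prime] {K U V : Subgroup G} (hU : U ≤ K)
    (hV : V ≤ K) (cU : Nat.card U = p ^ (Nat.card K).factorization p)
    (cV : Nat.card V = p ^ (Nat.card K).factorization p) :
    ∃ k ∈ K, ∀ u, u ∈ U ↔ k * u * k⁻¹ ∈ V := by
  have e : ∀ W : Subgroup G, W ≤ K → Nat.card (W.subgroupOf K) = Nat.card W := fun W hW =>
    Nat.card_congr (Subgroup.subgroupOfEquivOfLe hW).toEquiv
  obtain ⟨k, hk⟩ := MulAction.exists_smul_eq K
    (Sylow.ofCard (U.subgroupOf K) ((e U hU).trans cU)) (Sylow.ofCard (V.subgroupOf K) ((e V hV).trans cV))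
  refine ⟨k, k.2, fun u => ?_⟩
  have hk' : MulAut.conj k • U.subgroupOf K = V.subgroupOf K := by
    simpa [Sylow.coe_subgroup_smul] using congrArg Sylow.toSubgroup hk
  constructor
  · intro hu
    have : k * (⟨u, hU hu⟩ : K) * k⁻¹ ∈ V.subgroupOf K := by
      rw [← hk']
      exact Subgroup.smul_mem_pointwise_smul (⟨u, hU hu⟩ : K) (MulAut.conj k) _ hu
    exact this
  · intro hu
    have huK : u ∈ K := by
      have := K.mul_mem (K.mul_mem (K.inv_mem k.2) (hV hu)) k.2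
      simpa [mul_assoc] using this
    have : k * (⟨u, huK⟩ : K) * k⁻¹ ∈ V.subgroupOf K := hu
    rw [← hk', show k * (⟨u, huK⟩ : K) * k⁻¹ = MulAut.conj k • (⟨u, huK⟩ : K) from rfl] at this
    have h5 : (⟨u, huK⟩ : K) ∈ U.subgroupOf K := Subgroup.smul_mem_pointwise_smul_iff.1 this
    exact h5

/-- A `p`-subgroup of `K` lies in one of full `p`-power order. -/
theorem exists_full_ge [Finite G] {p : ℕ} [Fact p.Prime] {K U : Subgroup G} (hU : U ≤ K)
    (hUp : IsPGroup p U) :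
    ∃ P ≤ K, U ≤ P ∧ IsPGroup p P ∧ Nat.card P = p ^ (Nat.card K).factorization p := by
  obtain ⟨Q, hQ⟩ := IsPGroup.exists_le_sylow
    (hUp.of_equiv (Subgroup.subgroupOfEquivOfLe hU).symm)
  refine ⟨(Q : Subgroup K).map K.subtype, Subgroup.map_subtype_le _, ?_, Q.isPGroup'.map _, ?_⟩
  · intro u hu
    exact ⟨⟨u, hU hu⟩, hQ hu, rfl⟩
  · rw [Subgroup.card_map_of_injective K.subtype_injective]
    exact Q.card_eq_multiplicity

/-- A group of two-power order normalising a subgroup of odd order normalises one of its Sylow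
subgroups. -/
theorem exists_invariant_full [Finite G] {p : ℕ} [Fact p.Prime] {K T : Subgroup G}
    (hT : IsPGroup 2 T) (hTK : T ≤ normalizer (K : Set G)) (hK : Odd (Nat.card K)) :
    ∃ P ≤ K, IsPGroup p P ∧ Nat.card P = p ^ (Nat.card K).factorization p ∧
      T ≤ normalizer (P : Set G) := by
  haveI : Fact (Nat.Prime 2) := ⟨Nat.prime_two⟩
  let φ : T →* MulAut K := K.normalizerMonoidHom.comp (Subgroup.inclusion hTK)
  letI : MulAction T (Sylow p K) := MulAction.compHom _ φ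
  obtain ⟨Q₀⟩ := (inferInstance : Nonempty (Sylow p K))
  have hodd : ¬ 2 ∣ Nat.card (Sylow p K) := by
    have h1 : Odd (Q₀ : Subgroup K).index := Odd.of_dvd_nat hK (Subgroup.index_dvd_card _)
    have h2 : Odd (Nat.card (Sylow p K)) := Odd.of_dvd_nat h1 Q₀.card_dvd_index
    rw [← even_iff_two_dvd, Nat.not_even_iff_odd]; exact h2
  obtain ⟨Q, hQ⟩ := hT.nonempty_fixed_point_of_prime_not_dvd_card (Sylow p K) hodd
  refine ⟨(Q : Subgroup K).map K.subtype, Subgroup.map_subtype_le _, Q.isPGroup'.map _, ?_, ?_⟩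
  · rw [Subgroup.card_map_of_injective K.subtype_injective]
    exact Q.card_eq_multiplicity
  intro t ht
  have hQt : φ ⟨t, ht⟩ • (Q : Subgroup K) = (Q : Subgroup K) :=
    congrArg Sylow.toSubgroup (MulAction.mem_fixedPoints.1 hQ ⟨t, ht⟩)
  refine (Subgroup.mem_normalizer_iff).2 fun u => ⟨?_, ?_⟩
  · rintro ⟨q, hq, rfl⟩
    refine ⟨φ ⟨t, ht⟩ q, ?_, rfl⟩
    rw [← hQt]
    exact Subgroup.smul_mem_pointwise_smul q _ _ hq
  · rintro ⟨q, hq, e⟩
    have hq' : φ ⟨t, ht⟩ • ((φ ⟨t, ht⟩)⁻¹ • q) ∈ φ ⟨t, ht⟩ • (Q : Subgroup K) := by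
      rw [smul_inv_smul, hQt]; exact hq
    refine ⟨(φ ⟨t, ht⟩)⁻¹ • q, Subgroup.smul_mem_pointwise_smul_iff.1 hq', ?_⟩
    have h2 : ∀ r : K, ((φ ⟨t, ht⟩ r : K) : G) = t * r * t⁻¹ := fun r => rfl
    have h3 := h2 ((φ ⟨t, ht⟩)⁻¹ • q)
    have h4 : φ ⟨t, ht⟩ ((φ ⟨t, ht⟩)⁻¹ • q) = q := smul_inv_smul (φ ⟨t, ht⟩) q
    rw [h4] at h3
    show (((φ ⟨t, ht⟩)⁻¹ • q : K) : G) = u
    have e' : (q : G) = t * u * t⁻¹ := e
    rw [e'] at h3
    exact (mul_left_cancel (mul_right_cancel h3)).symm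

/-- A subgroup of `K` containing subgroups of full `p`-power order for all primes is `K`. -/
theorem le_of_full [Finite G] {K L : Subgroup G} (hL : L ≤ K)
    (h : ∀ p : ℕ, p.Prime → p ∣ Nat.card K →
      ∃ P ≤ L, Nat.card P = p ^ (Nat.card K).factorization p) : K ≤ L := by
  have hdvd : Nat.card K ∣ Nat.card L := by
    refine (Nat.dvd_iff_prime_pow_dvd_dvd _ _).2 fun p k hp hk => ?_
    rcases Nat.eq_zero_or_pos k with rfl | hk0
    · simp
    obtain ⟨P, hP, hc⟩ := h p hp ((dvd_pow_self p (Nat.ne_of_gt hk0)).trans hk)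
    refine (pow_dvd_pow p ((hp.pow_dvd_iff_le_factorization Nat.card_pos.ne').1 hk)).trans ?_
    exact hc ▸ Subgroup.card_dvd_of_le hP
  exact (Subgroup.eq_of_le_of_card_ge hL (Nat.le_of_dvd Nat.card_pos hdvd)).ge

/-- A normal subgroup with two-power quotient and odd order is complemented by every Sylow
`2`-subgroup. -/
theorem exists_mul_of_twoSylow [Finite G] {K : Subgroup G} [K.Normal] (hK : Odd (Nat.card K))
    (hq : IsPGroup 2 (G ⧸ K)) (P : Sylow 2 G) (g : G) :
    ∃ q ∈ (P : Subgroup G), ∃ k ∈ K, q * k = g := by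
  haveI : Fact (Nat.Prime 2) := ⟨Nat.prime_two⟩
  have : (P : Subgroup G) ⊔ K = ⊤ := by
    rw [← Subgroup.index_eq_one]
    obtain ⟨k, hk⟩ := IsPGroup.iff_card.1 hq
    have h1 : ((P : Subgroup G) ⊔ K).index ∣ 2 ^ k := by
      rw [← hk, ← Subgroup.index_eq_card]; exact Subgroup.index_dvd_of_le le_sup_right
    have h2 : ((P : Subgroup G) ⊔ K).index ∣ (P : Subgroup G).index :=
      Subgroup.index_dvd_of_le le_sup_left
    refine Nat.eq_one_of_dvd_coprimes (Nat.Coprime.pow_left k ?_) h1 h2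
    exact (Nat.Prime.coprime_iff_not_dvd Nat.prime_two).2 P.not_dvd_index
  obtain ⟨q, hq', k, hk, e⟩ := Subgroup.mem_sup_of_normal_right.1 (this ▸ mem_top g : g ∈ (P : Subgroup G) ⊔ K)
  exact ⟨q, hq', k, hk, e⟩

end Cfsg.Agent.Invol.HallFour
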