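import Mathlib
import Cfsg.Agent.Lib.Invol.RealFreeBasic
import Cfsg.Agent.Lib.Grp.QuadraticGroup
import Cfsg.Agent.Lib.Grp.Frattini
import Cfsg.Agent.Lib.Fus.SupersolubleMetacyclic

/-!
An element acting quadratically on a normal `q`-subgroup, outside the largest normal subgroup acting
as a `q`-group, commutes modulo the kernel with a `2`-element acting nontrivially.
-/

set_option autoImplicit false
set_option linter.style.haveILetI false
set_option linter.unusedSectionVars false

open scoped Pointwise commutatorElement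

namespace Cfsg.Agent.Invol.RealFree

open Subgroup

universe u

variable {q : ℕ} [hq : Fact q.Prime]

/-- In a group generated by two quadratic elements every element plus its inverse commutes with
both generators. -/
theorem commute_add_inv {Q : Type u} [Group Q] [Finite Q] {E : Type*} [Ring E] (ρ : Q →* E)
    {a b : Q} (ha : (ρ a - 1) * (ρ a - 1) = 0) (hb : (ρ b - 1) * (ρ b - 1) = 0) {g : Q}
    (hg : g ∈ Subgroup.closure {a, b}) : Commute (ρ g + ρ g⁻¹) (ρ a) := by
  set s := ρ a - 1 with hs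
  set u := ρ b - 1 with hu
  set c := s * u + u * s with hc
  have hcs : Commute c s := by
    show c * s = s * c
    rw [hc]
    simp only [add_mul, mul_add, mul_assoc, ha]
    simp only [← mul_assoc, ha]
    simp
  have hcu : Commute c u := by
    show c * u = u * c
    rw [hc]
    simp only [add_mul, mul_add, mul_assoc, hb]
    simp only [← mul_assoc, hb]
    simp
  have hinv : ∀ y : Q, (ρ y - 1) * (ρ y - 1) = 0 → ρ y⁻¹ = 1 - (ρ y - 1) := fun y hy => by
    have h1 : ρ y * (1 - (ρ y - 1)) = 1 := by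
      calc ρ y * (1 - (ρ y - 1)) = 1 - (ρ y - 1) * (ρ y - 1) := by noncomm_ring
        _ = 1 := by rw [hy, sub_zero]
    calc ρ y⁻¹ = ρ y⁻¹ * (ρ y * (1 - (ρ y - 1))) := by rw [h1, mul_one]
      _ = 1 - (ρ y - 1) := by rw [← mul_assoc, ← map_mul, inv_mul_cancel, map_one, one_mul]
  have hρa : ρ a = 1 + s := by rw [hs]; abel
  have hρb : ρ b = 1 + u := by rw [hu]; abel
  have hra : ρ a⁻¹ = 1 - s := hinv a ha
  have hrb : ρ b⁻¹ = 1 - u := hinv b hb
  let Cen : Subring E := Subring.centralizer {s, u}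
  have hCen : ∀ x : E, x ∈ Cen → Commute x s ∧ Commute x u := fun x hx =>
    ⟨(Subring.mem_centralizer_iff.1 hx s (Set.mem_insert _ _)).symm,
      (Subring.mem_centralizer_iff.1 hx u (Set.mem_insert_of_mem _ rfl)).symm⟩
  have hcC : c ∈ Cen := Subring.mem_centralizer_iff.2 (by
    rintro y (rfl | rfl)
    exacts [hcs.eq.symm, hcu.eq.symm])
  clear_value Cen c
  clear_value s u
  have key : ∀ y ∈ Submonoid.closure ({a, b} : Set Q),
      ∃ α ∈ Cen, ∃ β ∈ Cen, ∃ γ ∈ Cen, ∃ ε ∈ Cen,
        ρ y = α + β * s + γ * u + ε * (s * u) ∧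
        ρ y⁻¹ = α - β * s - γ * u + ε * (u * s) := by
    intro y hy
    induction hy using Submonoid.closure_induction_right with
    | one =>
      exact ⟨1, one_mem _, 0, zero_mem _, 0, zero_mem _, 0, zero_mem _, by simp, by simp⟩
    | mul_right x hx y hy ih =>
      obtain ⟨α, hα, β, hβ, γ, hγ, ε, hε, h1, h2⟩ := ih
      obtain ⟨hαs, hαu⟩ := hCen α hα
      obtain ⟨hβs, hβu⟩ := hCen β hβ
      obtain ⟨hγs, hγu⟩ := hCen γ hγ
      obtain ⟨hεs, hεu⟩ := hCen ε hε
      have eus : u * s = c - s * u := by rw [hc]; abel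
      have esu : s * u = c - u * s := by rw [hc]; abel
      have esus : s * u * s = c * s := by rw [hc, add_mul, mul_assoc u, ha, mul_zero, add_zero]
      rcases hy with rfl | rfl
      · refine ⟨α + γ * c, add_mem hα (mul_mem hγ hcC), α + β + ε * c,
          add_mem (add_mem hα hβ) (mul_mem hε hcC), γ, hγ, ε - γ, sub_mem hε hγ, ?_, ?_⟩
        · rw [map_mul, h1, hρa, mul_add, mul_one, add_mul, add_mul, add_mul, mul_assoc β, ha,
            mul_assoc γ, eus, mul_assoc ε, esus]
          simp only [mul_sub, sub_mul, mul_zero, add_mul, mul_assoc]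
          abel
        · have e1 : s * (β * s) = 0 := by
            rw [← mul_assoc, hβs.symm.eq, mul_assoc, ha, mul_zero]
          have e2 : s * (γ * u) = γ * (c - u * s) := by
            rw [← mul_assoc, hγs.symm.eq, mul_assoc, esu]
          have e3 : s * (ε * (u * s)) = ε * (c * s) := by
            rw [← mul_assoc, hεs.symm.eq, mul_assoc, ← mul_assoc s, esus]
          rw [mul_inv_rev, map_mul, h2, hra, sub_mul, one_mul, mul_add s, mul_sub s, mul_sub s,
            hαs.symm.eq, e1, e2, e3]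
          simp only [mul_sub, sub_mul, add_mul, mul_assoc]
          abel
      · refine ⟨α, hα, β, hβ, α + γ, add_mem hα hγ, ε + β, add_mem hε hβ, ?_, ?_⟩
        · rw [map_mul, h1, hρb, mul_add, mul_one, add_mul, add_mul, add_mul, mul_assoc γ, hb,
            mul_assoc ε, mul_assoc s, hb, mul_assoc β]
          simp only [mul_zero, add_mul]
          abel
        · have e1 : u * (β * s) = β * (u * s) := by rw [← mul_assoc, hβu.symm.eq, mul_assoc]
          have e2 : u * (γ * u) = 0 := by rw [← mul_assoc, hγu.symm.eq, mul_assoc, hb, mul_zero]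
          have e3 : u * (ε * (u * s)) = 0 := by
            rw [← mul_assoc, hεu.symm.eq, mul_assoc, ← mul_assoc u, hb, zero_mul, mul_zero]
          rw [mul_inv_rev, map_mul, h2, hrb, sub_mul, one_mul, mul_add u, mul_sub u, mul_sub u,
            hαu.symm.eq, e1, e2, e3]
          simp only [add_mul]
          abel
  have hg' : g ∈ Submonoid.closure ({a, b} : Set Q) := by
    rw [← Subgroup.closure_toSubmonoid_of_finite]
    exact hg
  obtain ⟨α, hα, β, -, γ, -, ε, hε, h1, h2⟩ := key g hg'
  have e : ρ g + ρ g⁻¹ = α + α + ε * c := by rw [h1, h2, hc, mul_add]; abel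
  rw [e, hρa]
  exact (Commute.one_right _).add_right
    (((hCen α hα).1.add_left (hCen α hα).1).add_left ((hCen ε hε).1.mul_left hcs))

/-- A quadratic element outside the `q`-core commutes with an involution, in a group with a
faithful module over the field of `q` elements. -/
theorem exists_commuting_involution {Q : Type u} [Group Q] [Finite Q] {W : Type u} [AddCommGroup W]
    [Module (ZMod q) W] [Finite W] (hodd : q ≠ 2) (ρ : Q →* Module.End (ZMod q) W)
    (hinj : Function.Injective ρ) {a : Q} (hquad : (ρ a - 1) * (ρ a - 1) = 0)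
    (ha : a ∉ Cfsg.pCore q Q) : ∃ h : Q, h ^ 2 = 1 ∧ h ≠ 1 ∧ Commute h a := by
  obtain ⟨n, x, hx, hxp, hx1⟩ := Grp.Quad.exists_pair (MonoidHom.id Q) Function.surjective_id
    (a := a) ha
  set b := n * a * n⁻¹ with hb
  have hbq : (ρ b - 1) * (ρ b - 1) = 0 := by
    have e : ρ b - 1 = ρ n * (ρ a - 1) * ρ n⁻¹ := by
      rw [mul_sub, sub_mul, mul_one, ← map_mul, ← map_mul, ← map_mul, mul_inv_cancel, map_one]
    rw [e, show ρ n * (ρ a - 1) * ρ n⁻¹ * (ρ n * (ρ a - 1) * ρ n⁻¹) =
      ρ n * (ρ a - 1) * (ρ n⁻¹ * ρ n) * (ρ a - 1) * ρ n⁻¹ by simp only [mul_assoc],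
      ← map_mul, inv_mul_cancel, map_one, mul_one, mul_assoc (ρ n), hquad, mul_zero, zero_mul]
  set Γ := Subgroup.closure ({a, b} : Set Q) with hΓ
  have hq' : ∀ y : Q, (ρ y - 1) * (ρ y - 1) = 0 → ∀ w, ρ y (ρ y w - w) = ρ y w - w := fun y hy w => by
    have h := LinearMap.congr_fun hy w
    simp only [Module.End.mul_apply, LinearMap.sub_apply, Module.End.one_apply,
      LinearMap.zero_apply] at h
    exact sub_eq_zero.1 h
  have hgen : Subgroup.closure ({⟨a, Subgroup.subset_closure (by simp)⟩,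
      ⟨b, Subgroup.subset_closure (by simp)⟩} : Set Γ) = ⊤ := by
    refine Subgroup.map_injective Γ.subtype_injective ?_
    rw [MonoidHom.map_closure, Set.image_pair, ← MonoidHom.range_eq_map, Subgroup.range_subtype]
    rfl
  obtain ⟨K, _, _, _, φ, P, hP, -, -, -, -, hle, -⟩ :=
    Grp.Quad.exists_sl_two_of_ne hodd (ρ.comp Γ.subtype) hgen (hq' a hquad) (hq' b hbq)
      (x := ⟨x, hx⟩) (fun h => hx1 (hinj (h.trans (map_one ρ).symm)))
      (by rwa [Subgroup.orderOf_mk])
  let m : Matrix.SpecialLinearGroup (Fin 2) (ZMod q) :=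
    ⟨!![-1, 0; 0, -1], by simp [Matrix.det_fin_two]⟩
  have hm2 : m ^ 2 = 1 := by
    rw [sq]
    refine Subtype.ext ?_
    show (m : Matrix (Fin 2) (Fin 2) (ZMod q)) * m = 1
    ext i j
    fin_cases i <;> fin_cases j <;> simp [m, Matrix.mul_apply, Fin.sum_univ_two]
  have hm1 : m ≠ 1 := by
    intro h
    have h0 : (-1 : ZMod q) = 1 := by
      have := congrFun (congrFun (congrArg Subtype.val h) 0) 0
      simpa [m] using this
    haveI : Fact (2 < q) := ⟨lt_of_le_of_ne hq.out.two_le hodd.symm⟩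
    exact ZMod.neg_one_ne_one h0
  obtain ⟨y, hy⟩ := hle (Subgroup.mem_map_of_mem (Grp.SL2.conjHom P hP)
    (MonoidHom.mem_range.2 ⟨m, rfl⟩))
  have hfy : orderOf (φ y) = 2 := by
    rw [hy, orderOf_injective _ (Grp.SL2.conjHom_injective P hP),
      orderOf_injective _ (Grp.SL2.primeHom_injective q)]
    exact orderOf_eq_prime hm2 hm1
  have h2 : 2 ∣ Nat.card Γ := hfy ▸ (orderOf_map_dvd φ y).trans (orderOf_dvd_natCard y)
  obtain ⟨h, hh⟩ := exists_prime_orderOf_dvd_card' (G := Γ) 2 h2
  have hsq : (h : Q) ^ 2 = 1 := by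
    rw [← SubmonoidClass.coe_pow, ← hh, pow_orderOf_eq_one, Subgroup.coe_one]
  refine ⟨h, hsq, fun e => ?_, hinj ?_⟩
  · rw [← Subgroup.orderOf_coe, e, orderOf_one] at hh
    exact absurd hh (by norm_num)
  · have hc := commute_add_inv ρ hquad hbq (g := (h : Q)) h.2
    rw [inv_eq_of_mul_eq_one_right (by rw [← sq]; exact hsq), ← two_smul (ZMod q)] at hc
    have hc2 : Commute (ρ (h : Q)) (ρ a) := by
      have h2' : (2 : ZMod q) ≠ 0 := by
        intro e
        have h3 := (ZMod.natCast_eq_zero_iff 2 q).mp (by exact_mod_cast e)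
        exact hodd ((Nat.prime_dvd_prime_iff_eq hq.out Nat.prime_two).1 h3)
      have := hc.smul_left (2 : ZMod q)⁻¹
      rwa [inv_smul_smul₀ h2'] at this
    rw [map_mul, map_mul]
    exact hc2.eq

/-- The same for a group of automorphisms of an elementary abelian group. -/
theorem exists_commuting_involution_aut (hodd : q ≠ 2) {V : Type u} [CommGroup V] [Finite V]
    (hV : ∀ v : V, v ^ q = 1) (Q : Subgroup (MulAut V)) {a : Q}
    (hquad : ∀ v, (a : MulAut V) ((a : MulAut V) v / v) = (a : MulAut V) v / v)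
    (ha : a ∉ Cfsg.pCore q Q) : ∃ h : Q, h ^ 2 = 1 ∧ h ≠ 1 ∧ Commute h a := by
  haveI : Module (ZMod q) (Additive V) := AddCommGroup.zmodModule (fun w => by
    refine Additive.toMul.injective ?_
    rw [toMul_nsmul, toMul_zero]
    exact hV _)
  haveI : Finite Q := Finite.of_injective (fun g : Q => ((g : MulAut V) : V → V))
    fun g g' h => Subtype.ext (MulEquiv.ext (congrFun h))
  let ρ : Q →* Module.End (ZMod q) (Additive V) :=
    { toFun := fun g => (g : MulAut V).toMonoidHom.toAdditive.toZModLinearMap q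
      map_one' := LinearMap.ext fun w => rfl
      map_mul' := fun g g' => LinearMap.ext fun w => rfl }
  have hinj : Function.Injective ρ := fun g g' h => Subtype.ext (MulEquiv.ext fun v =>
    Additive.ofMul.injective (LinearMap.congr_fun h (Additive.ofMul v)))
  refine exists_commuting_involution hodd ρ hinj ?_ ha
  refine LinearMap.ext fun w => ?_
  simp only [Module.End.mul_apply, LinearMap.sub_apply, Module.End.one_apply,
    LinearMap.zero_apply]
  rw [sub_eq_zero]
  exact hquad (Additive.toMul w)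

variable {G : Type u} [Group G] [Finite G]

/-- The preimage of the `q`-core of `G ⧸ C_G(B)`. -/
noncomputable def kerCore (q : ℕ) (B : Subgroup G) [B.Normal] : Subgroup G :=
  (Cfsg.pCore q (G ⧸ Subgroup.centralizer (B : Set G))).comap
    (QuotientGroup.mk' (Subgroup.centralizer (B : Set G)))

theorem mem_kerCore_of_normal {B : Subgroup G} [B.Normal] {M : Subgroup G} (hMn : M.Normal)
    (hM : ∀ y ∈ M, ∃ k : ℕ, y ^ q ^ k ∈ Subgroup.centralizer (B : Set G)) : M ≤ kerCore q B := by
  refine Subgroup.map_le_iff_le_comap.1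
    (Grp.le_pCore (hMn.map _ (QuotientGroup.mk'_surjective _)) ?_)
  rintro ⟨_, y, hy, rfl⟩
  obtain ⟨k, hk⟩ := hM y hy
  exact ⟨k, Subtype.ext (show QuotientGroup.mk' _ y ^ q ^ k = 1 by
    rw [← map_pow]; exact (QuotientGroup.eq_one_iff _).2 hk)⟩

/-- The quadratic lemma. -/
theorem exists_proper_of_quad (hodd : q ≠ 2) {B : Subgroup G} [B.Normal] (hB : IsPGroup q B)
    {a : G} (hap : IsPElem q a) (hquad : Grp.Quad.QuadOn a B) (ha : a ∉ kerCore q B) :
    ∃ H : Subgroup G, H ≠ ⊤ ∧ Subgroup.centralizer (B : Set G) ≤ H ∧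
      Subgroup.centralizer ({a} : Set G) ≤ H ∧ ¬ RFOn q H := by
  set Φ : Subgroup G := (frattini ↥B).map B.subtype with hΦ
  haveI : Φ.Normal := Grp.normal_of_characteristic_map (frattini ↥B)
  set π := QuotientGroup.mk' Φ
  set V := B.map π with hV
  haveI hVn : V.Normal := (inferInstance : B.Normal).map _ (QuotientGroup.mk'_surjective Φ)
  have hVc : ∀ x ∈ V, ∀ y ∈ V, x * y = y * x := by
    rintro _ ⟨x, hx, rfl⟩ _ ⟨y, hy, rfl⟩
    rw [← commutatorElement_eq_one_iff_mul_comm, ← map_commutatorElement]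
    refine (QuotientGroup.eq_one_iff _).2 ⟨⁅(⟨x, hx⟩ : B), ⟨y, hy⟩⁆,
      Grp.pGroup_commutator_le_frattini hB ?_, map_commutatorElement B.subtype _ _⟩
    exact Subgroup.commutator_mem_commutator (Subgroup.mem_top _) (Subgroup.mem_top _)
  have hVp : ∀ x ∈ V, x ^ q = 1 := by
    rintro _ ⟨x, hx, rfl⟩
    rw [← map_pow]
    exact (QuotientGroup.eq_one_iff _).2
      ⟨(⟨x, hx⟩ : B) ^ q, Grp.pGroup_pow_mem_frattini hB _, rfl⟩
  letI : CommGroup V := { (inferInstance : Group V) with
    mul_comm := fun x y => Subtype.ext (hVc x x.2 y y.2) }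
  set θ : G →* MulAut V := MulAut.conjNormal.comp π with hθ
  set f := θ.rangeRestrict with hf
  have hfs : Function.Surjective f := θ.rangeRestrict_surjective
  haveI : Finite θ.range := Finite.of_surjective f hfs
  have hfv : ∀ (g : G) (v : V), (((f g : MulAut V) v : V) : G ⧸ Φ) = π g * v * (π g)⁻¹ :=
    fun g v => MulAut.conjNormal_apply _ _
  have hquad' : ∀ v : V, (f a : MulAut V) ((f a : MulAut V) v / v) = (f a : MulAut V) v / v := by
    rintro ⟨_, v, hv, rfl⟩
    refine Subtype.ext ?_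
    rw [hfv, div_eq_mul_inv, Subgroup.coe_mul, hfv, Subgroup.coe_inv]
    show π a * (π a * π v * (π a)⁻¹ * (π v)⁻¹) * (π a)⁻¹ = π a * π v * (π a)⁻¹ * (π v)⁻¹
    simp only [← map_inv, ← map_mul]
    exact congrArg π (by rw [(hquad v hv).eq, mul_inv_cancel_right])
  have hker : ∀ z : G, f z = 1 → ∃ k : ℕ, z ^ q ^ k ∈ Subgroup.centralizer (B : Set G) := by
    intro z hz
    obtain ⟨k, m, hm, hkm⟩ :=
      Nat.exists_eq_pow_mul_and_not_dvd (orderOf_pos z).ne' q hq.out.ne_one
    refine ⟨k, Fus.mem_centralizer_iff_commute.2 fun v hv => ?_⟩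
    set w := z ^ q ^ k with hw
    have hwm : w ^ m = 1 := by rw [hw, ← pow_mul, ← hkm, pow_orderOf_eq_one]
    have hfw : f w = 1 := by rw [hw, map_pow, hz, one_pow]
    have hβ := Fus.SuperMeta.eq_one_of_coprime_frattini hB (β := MulAut.conjNormal w) (m := m)
      (hq.out.coprime_iff_not_dvd.2 hm).symm (by rw [← map_pow, hwm, map_one]) fun x => by
        have h1 := hfv w ⟨π x, x, x.2, rfl⟩
        rw [hfw] at h1
        have h2 : π ((x : G)⁻¹ * (w * x * w⁻¹)) = 1 := by
          rw [map_mul, map_inv, map_mul, map_mul, map_inv]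
          exact inv_mul_eq_one.2 h1
        obtain ⟨y, hy, hyx⟩ := (QuotientGroup.eq_one_iff _).1 h2
        have : x⁻¹ * MulAut.conjNormal w x = y := Subtype.ext (by
          show (x : G)⁻¹ * (MulAut.conjNormal w x : G) = y
          rw [MulAut.conjNormal_apply]; exact hyx.symm)
        rw [this]; exact hy
    have h3 := congrArg Subtype.val (DFunLike.congr_fun hβ ⟨v, hv⟩)
    rw [MulAut.conjNormal_apply, MulAut.one_apply] at h3
    exact (mul_inv_eq_iff_eq_mul.1 h3).symm
  have hfa : f a ∉ Cfsg.pCore q θ.range := by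
    intro hmem
    haveI := Grp.pCore_isNormal (p := q) (G := θ.range)
    refine ha (mem_kerCore_of_normal (M := (Cfsg.pCore q θ.range).comap f)
      (Subgroup.Normal.comap inferInstance f) (fun y hy => ?_) hmem)
    obtain ⟨i, hi⟩ := Grp.pCore_isPGroup (p := q) (G := θ.range) ⟨f y, hy⟩
    obtain ⟨j, hj⟩ := hker (y ^ q ^ i) (by rw [map_pow]; exact congrArg Subtype.val hi)
    exact ⟨i + j, by rwa [pow_add, pow_mul]⟩
  obtain ⟨h, hh2, hh1, hhc⟩ := exists_commuting_involution_aut hodd
    (fun v : V => Subtype.ext (hVp v v.2)) θ.range hquad' hfa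
  obtain ⟨t₀, rfl⟩ := hfs h
  obtain ⟨m, hm, htm⟩ := exists_coprime_isPElem (q := 2) t₀
  set H := (Subgroup.centralizer ({f a} : Set θ.range)).comap f with hH
  have hBker : ∀ v ∈ B, f v = 1 := fun v hv => Subtype.ext (MulEquiv.ext fun w => Subtype.ext (by
    rw [hfv, Subgroup.coe_one, MulAut.one_apply, hVc _ ⟨v, hv, rfl⟩ _ w.2, mul_inv_cancel_right]))
  have hone : ∀ y : G, f y = 1 → y ∈ H := fun y hy => by
    rw [hH, Subgroup.mem_comap, hy]; exact one_mem _
  refine ⟨H, fun hH' => ?_, fun c hc => hone c (Subtype.ext (MulEquiv.ext fun w => Subtype.ext ?_)),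
    fun c hc => ?_, ?_⟩
  · have hcen : ∀ y, Commute y (f a) := fun y => by
      obtain ⟨g, rfl⟩ := hfs y
      exact Subgroup.mem_centralizer_singleton_iff.1 (hH'.ge (Subgroup.mem_top g) : g ∈ H)
    have hn : (Subgroup.zpowers (f a)).Normal := ⟨fun y hy g => by
      obtain ⟨i, rfl⟩ := hy
      rw [((hcen g).zpow_right i).eq, mul_inv_cancel_right]
      exact zpow_mem (Subgroup.mem_zpowers _) i⟩
    exact hfa (Grp.le_pCore hn (hap.map f).isPGroup_zpowers (Subgroup.mem_zpowers _))
  · obtain ⟨_, v, hv, rfl⟩ := w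
    rw [hfv, Subgroup.coe_one, MulAut.one_apply]
    show π c * π v * (π c)⁻¹ = π v
    rw [← map_mul, ← Fus.mem_centralizer_iff_commute.1 hc v hv, map_mul, mul_inv_cancel_right]
  · rw [hH, Subgroup.mem_comap, Subgroup.mem_centralizer_singleton_iff, ← map_mul, ← map_mul,
      Subgroup.mem_centralizer_singleton_iff.1 hc]
  · have htH : t₀ ^ m ∈ H := by
      rw [hH, Subgroup.mem_comap, map_pow, Subgroup.mem_centralizer_singleton_iff]
      exact (hhc.pow_left m).eq
    obtain ⟨v, hv, hne⟩ : ∃ v ∈ B, t₀ ^ m * v * (t₀ ^ m)⁻¹ ≠ v := by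
      by_contra hall
      push Not at hall
      refine hh1 ?_
      have h1 : f t₀ ^ m = 1 := by
        rw [← map_pow]
        refine Subtype.ext (MulEquiv.ext fun w => Subtype.ext ?_)
        obtain ⟨_, v, hv, rfl⟩ := w
        rw [hfv, Subgroup.coe_one, MulAut.one_apply]
        show π (t₀ ^ m) * π v * (π (t₀ ^ m))⁻¹ = π v
        rw [← map_inv, ← map_mul, ← map_mul, hall v hv]
      exact IsPElem.eq_one_of_pow ⟨1, by rw [pow_one]; exact hh2⟩ hm h1
    exact not_rfOn_of_two hB (fun y hy => hone y (hBker y hy)) htH htm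
      (fun y hy => (inferInstance : B.Normal).conj_mem y hy _) hv hne

end Cfsg.Agent.Invol.RealFree
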