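import Cfsg.Agent.Lib.Invol.SimsDihedral
import Cfsg.Agent.Lib.Fus.ThompsonConj

/-!
# Primitive groups with a suborbit of length three
-/

set_option autoImplicit false

namespace Cfsg.Agent.Invol.SubThree

open Subgroup
open Amal (cj omZ)

section Local

variable {P : Type*} [Group P] (T : Subgroup P)

/-- The action on the three cosets. -/
theorem exists_perm [Finite P] (hidx : T.index = 3) :
    ∃ ψ : P →* Equiv.Perm (Fin 3), ψ.ker = T.normalCore ∧ ∃ i : Fin 3, ∀ g : P, g ∈ T ↔ ψ g i = i := by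
  classical
  have hc : Nat.card (P ⧸ T) = 3 := by rw [← Subgroup.index_eq_card, hidx]
  let e : P ⧸ T ≃ Fin 3 := (Finite.equivFin _).trans (finCongr hc)
  refine ⟨e.permCongrHom.toMonoidHom.comp (MulAction.toPermHom P (P ⧸ T)), ?_,
    e (QuotientGroup.mk 1), fun g => ?_⟩
  · rw [Subgroup.normalCore_eq_ker]
    ext g
    simp [MonoidHom.mem_ker]
  · simp [Equiv.permCongrHom, MulAction.Quotient.smul_mk, QuotientGroup.eq]

/-- An element of odd order in a subgroup of index three lies in its core. -/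
theorem odd_mem_core [Finite P] (hidx : T.index = 3) {t : P} (ht : t ∈ T) (hodd : Odd (orderOf t)) (g : P) :
    g * t * g⁻¹ ∈ T := by
  obtain ⟨ψ, hker, i, hi⟩ := exists_perm T hidx
  have hsq : ∀ (i : Fin 3) (σ : Equiv.Perm (Fin 3)), σ i = i → σ * σ = 1 := by decide
  have h2 : ψ t * ψ t = 1 := hsq i _ ((hi t).mp ht)
  obtain ⟨k, hk⟩ := hodd
  have h1 : ψ t ^ orderOf t = 1 := by rw [← map_pow, pow_orderOf_eq_one, map_one]
  rw [hk, pow_succ, pow_mul, pow_two, h2, one_pow, one_mul] at h1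
  have h3 : t ∈ T.normalCore := hker ▸ (MonoidHom.mem_ker.mpr h1)
  exact h3 g

theorem pCore_eq [Finite P] (hidx : T.index = 3) (hp : IsPGroup 2 ↥T) : T.normalCore = Cfsg.pCore 2 P := by
  haveI : Fact (Nat.Prime 2) := ⟨Nat.prime_two⟩
  refine le_antisymm (le_sSup ⟨Subgroup.normalCore_normal T, hp.to_le T.normalCore_le⟩) ?_
  have hS : ((hp.toSylow (by rw [hidx]; norm_num) : Sylow 2 P) : Subgroup P) = T := rfl
  haveI hn : (Cfsg.pCore 2 P).Normal := inferInstance
  exact Subgroup.normal_le_normalCore.mpr (hS ▸ Transfer.pCore_le_sylow _)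

theorem perm_iso [Finite P] (hidx : T.index = 3) (hp : IsPGroup 2 ↥T) (hnn : ¬ T.Normal) :
    (Cfsg.pCore 2 P).index = 6 ∧ Nonempty (P ⧸ Cfsg.pCore 2 P ≃* Equiv.Perm (Fin 3)) := by
  classical
  obtain ⟨ψ, hker, i, hi⟩ := exists_perm T hidx
  rw [pCore_eq T hidx hp] at hker
  have hle : Cfsg.pCore 2 P ≤ T := pCore_eq T hidx hp ▸ T.normalCore_le
  have hidx6 : (Cfsg.pCore 2 P).index = 6 := by
    have h1 : Nat.card ψ.range ∣ 6 := by
      have := Subgroup.card_subgroup_dvd_card ψ.range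
      rwa [Nat.card_perm, Nat.card_fin] at this
    have h2 : (Cfsg.pCore 2 P).index = Nat.card ψ.range := by rw [← hker, Subgroup.index_ker]
    have h3 : T.index ∣ (Cfsg.pCore 2 P).index := Subgroup.index_dvd_of_le hle
    rw [hidx, h2] at h3
    have h6 : Nat.card ψ.range ≤ 6 := Nat.le_of_dvd (by norm_num) h1
    have h4 : Nat.card ψ.range ≠ 3 := fun e => by
      refine hnn ?_
      have : Cfsg.pCore 2 P = T := by
        refine Subgroup.eq_of_le_of_card_ge hle ?_
        have a1 := (Cfsg.pCore 2 P).card_mul_index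
        have a2 := T.card_mul_index
        rw [h2, e] at a1; rw [hidx] at a2
        omega
      rw [← this]; infer_instance
    have h0 : 0 < Nat.card ψ.range := Nat.card_pos
    rw [h2]
    interval_cases hh : Nat.card ψ.range <;> omega
  have htop : ψ.range = ⊤ := Subgroup.eq_top_of_card_eq _ (by
    rw [← Subgroup.index_ker, hker, hidx6, Nat.card_perm, Nat.card_fin]; rfl)
  refine ⟨hidx6, ⟨(QuotientGroup.quotientMulEquivOfEq hker.symm).trans ?_⟩⟩
  exact QuotientGroup.quotientKerEquivOfSurjective ψ (MonoidHom.range_eq_top.mp htop)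

/-- If the core does not contain its centralizer, everything normalized by `T` inside it is normal. -/
theorem sup_centralizer_eq_top [Finite P] (hidx : T.index = 3) (hp : IsPGroup 2 ↥T)
    (hc : ¬ centralizer (Cfsg.pCore 2 P : Set P) ≤ Cfsg.pCore 2 P) :
    T ⊔ centralizer (Cfsg.pCore 2 P : Set P) = ⊤ := by
  have h1 : (T ⊔ centralizer (Cfsg.pCore 2 P : Set P)).index ∣ 3 :=
    hidx ▸ Subgroup.index_dvd_of_le le_sup_left
  rcases (Nat.dvd_prime Nat.prime_three).mp h1 with e | e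
  · exact Subgroup.index_eq_one.mp e
  · exfalso
    apply hc
    have h2 : T ⊔ centralizer (Cfsg.pCore 2 P : Set P) = T := by
      refine (Subgroup.eq_of_le_of_card_ge le_sup_left ?_).symm
      have a1 := (T ⊔ centralizer (Cfsg.pCore 2 P : Set P)).card_mul_index
      have a2 := T.card_mul_index
      rw [e] at a1; rw [hidx] at a2
      omega
    haveI : (centralizer (Cfsg.pCore 2 P : Set P)).Normal := inferInstance
    calc centralizer (Cfsg.pCore 2 P : Set P) ≤ T.normalCore :=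
          Subgroup.normal_le_normalCore.mpr (h2 ▸ le_sup_right)
      _ = Cfsg.pCore 2 P := pCore_eq T hidx hp

end Local

/-- Recognizing a dihedral group. -/
theorem dihedral_iso {P : Type*} [Group P] [Finite P] {n : ℕ} [NeZero n] (w s : P) (hw : orderOf w = n)
    (hs : s * s = 1) (hc : s * w * s = w⁻¹) (hmem : ∀ k : ℤ, s ≠ w ^ k) (hcard : Nat.card P = 2 * n) :
    Nonempty (P ≃* DihedralGroup n) := by
  let e : ZMod n → P := fun i => w ^ (i.cast : ℤ)
  have he : ∀ k : ℤ, e (k : ZMod n) = w ^ k := fun k => by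
    show w ^ (((k : ZMod n)).cast : ℤ) = w ^ k
    rw [zpow_eq_zpow_iff_modEq, hw, ← ZMod.intCast_eq_intCast_iff, ZMod.intCast_zmod_cast]
  have hadd : ∀ i j, e (i + j) = e i * e j := fun i j => by
    conv_lhs => rw [← ZMod.intCast_zmod_cast i, ← ZMod.intCast_zmod_cast j, ← Int.cast_add, he, zpow_add]
  have hneg : ∀ i, e (-i) = (e i)⁻¹ := fun i => by
    conv_lhs => rw [← ZMod.intCast_zmod_cast i, ← Int.cast_neg, he, zpow_neg]
  have hconj : ∀ i, s * e i * s = (e i)⁻¹ := fun i => by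
    have hsi : s⁻¹ = s := inv_eq_of_mul_eq_one_right hs
    have := conj_zpow (a := s) (b := w) (i := (i.cast : ℤ))
    rw [hsi, hc, inv_zpow] at this
    exact this.symm
  have hinj : ∀ i j, e i = e j → i = j := fun i j h => by
    have h' : w ^ (i.cast : ℤ) = w ^ (j.cast : ℤ) := h
    rw [zpow_eq_zpow_iff_modEq, hw, ← ZMod.intCast_eq_intCast_iff, ZMod.intCast_zmod_cast,
      ZMod.intCast_zmod_cast] at h'
    exact h'
  have hsw : ∀ i, e i * s = s * (e i)⁻¹ := fun i => by
    rw [← hconj i, ← mul_assoc, ← mul_assoc, hs, one_mul]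
  let f : DihedralGroup n → P := fun
    | .r i => e i
    | .sr i => s * e i
  have hm : ∀ a b, f (a * b) = f a * f b := by
    rintro (i | i) (j | j)
    · rw [DihedralGroup.r_mul_r]; exact hadd i j
    · rw [DihedralGroup.r_mul_sr]
      show s * e (j - i) = e i * (s * e j)
      rw [← mul_assoc, hsw, sub_eq_add_neg, add_comm, hadd, hneg, mul_assoc]
    · rw [DihedralGroup.sr_mul_r]
      show s * e (i + j) = s * e i * e j
      rw [hadd, mul_assoc]
    · rw [DihedralGroup.sr_mul_sr]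
      show e (j - i) = s * e i * (s * e j)
      rw [← mul_assoc, hconj, sub_eq_add_neg, add_comm, hadd, hneg]
  have hns : ∀ i j, e i ≠ s * e j := fun i j h =>
    hmem ((i.cast : ℤ) - (j.cast : ℤ)) (by rw [zpow_sub]; exact eq_mul_inv_of_mul_eq h.symm)
  have hfi : Function.Injective f := by
    rintro (i | i) (j | j) h
    · exact congrArg _ (hinj i j h)
    · exact absurd h (hns i j)
    · exact absurd h.symm (hns j i)
    · exact congrArg _ (hinj i j (mul_left_cancel h))
  exact ⟨(MulEquiv.ofBijective (MonoidHom.mk' f hm) ((Nat.bijective_iff_injective_and_card _).mpr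
    ⟨hfi, by rw [DihedralGroup.nat_card, hcard]⟩)).symm⟩

variable {G : Type*} [Group G] [Finite G]

omit [Finite G] in
theorem cj_mono' {g : G} {H K : Subgroup G} (h : H ≤ K) : cj g H ≤ cj g K := Subgroup.map_mono h

/-- Two maximal conjugate subgroups meeting in a subgroup of index three. -/
theorem pair3 (A B : Subgroup G) (g : G) (hgAB : cj g A = B) (hA : IsCoatom A)
    (hrA : (A ⊓ B).relIndex A = 3) (hrB : (A ⊓ B).relIndex B = 3)
    (hbot : ∀ N : Subgroup G, N.Normal → N ≤ A ⊓ B → N = ⊥) :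
    Nonempty (↥A ≃* Multiplicative (ZMod 3)) ∨ Nonempty (↥A ≃* Equiv.Perm (Fin 3)) ∨
      Nonempty (↥A ≃* DihedralGroup 6) ∨ Nonempty (↥A ≃* Equiv.Perm (Fin 4)) ∨
      Nonempty (↥A ≃* Equiv.Perm (Fin 4) × Multiplicative (ZMod 2)) := by
  classical
  haveI : Fact (Nat.Prime 2) := ⟨Nat.prime_two⟩
  set T := A ⊓ B with hT
  have hTA : T ≤ A := inf_le_left
  have hTB : T ≤ B := inf_le_right
  have hcardAB : Nat.card ↥B = Nat.card ↥A := by
    rw [← hgAB]; exact Subgroup.card_map_of_injective (MulAut.conj g).injective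
  have hne : B ≠ A := fun e => by
    rw [hT, e, inf_idem, Subgroup.relIndex_self] at hrA; omega
  have hgen : A ⊔ B = ⊤ := by
    refine hA.2 _ (lt_of_le_not_ge le_sup_left fun h => hne ?_)
    exact Subgroup.eq_of_le_of_card_ge (le_sup_right.trans h) hcardAB.ge
  have hnormal : ∀ N : Subgroup G, A ≤ normalizer (N : Set G) → B ≤ normalizer (N : Set G) → N.Normal := by
    intro N h1 h2
    exact Subgroup.normalizer_eq_top_iff.mp (top_le_iff.mp (hgen ▸ sup_le h1 h2))
  have hiA : (T.subgroupOf A).index = 3 := hrA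
  have hiB : (T.subgroupOf B).index = 3 := hrB
  -- elements of odd order in `T` are trivial
  have hT2 : IsPGroup 2 ↥T := by
    set R := Subgroup.closure {t : G | t ∈ T ∧ Odd (orderOf t)} with hR
    have key : ∀ P : Subgroup G, (T.subgroupOf P).index = 3 → T ≤ P → P ≤ normalizer (R : Set G) := by
      intro P hi hle
      have key' : ∀ p ∈ P, ∀ r ∈ R, p * r * p⁻¹ ∈ R := by
        intro p hp r hr
        induction hr using closure_induction with
        | mem r hr =>
          refine subset_closure ⟨?_, ?_⟩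
          · have hr' : Odd (orderOf (⟨r, hle hr.1⟩ : ↥P)) := by rw [Subgroup.orderOf_mk]; exact hr.2
            exact mem_subgroupOf.mp (odd_mem_core (T.subgroupOf P) hi (t := ⟨r, hle hr.1⟩)
              (mem_subgroupOf.mpr hr.1) hr' ⟨p, hp⟩)
          · have : orderOf (p * r * p⁻¹) = orderOf r :=
              orderOf_injective (MulAut.conj p).toMonoidHom (MulAut.conj p).injective r
            rw [this]; exact hr.2
        | one => simp
        | mul a b _ _ ha hb => simpa [mul_assoc] using mul_mem ha hb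
        | inv a _ ha => simpa [mul_assoc] using inv_mem ha
      intro p hp
      rw [mem_normalizer_iff]
      exact fun r => ⟨key' p hp r, fun h => by simpa [mul_assoc] using key' p⁻¹ (inv_mem hp) _ h⟩
    have hR0 : R = ⊥ := hbot R (hnormal R (key A hiA hTA) (key B hiB hTB))
      ((closure_le _).mpr fun t ht => ht.1)
    rintro ⟨t, ht⟩
    obtain ⟨k, m, hm, hkm⟩ := Nat.exists_eq_two_pow_mul_odd (orderOf_pos t).ne'
    refine ⟨k, Subtype.ext ?_⟩
    have hmem : t ^ 2 ^ k ∈ R := subset_closure ⟨pow_mem ht _, by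
      rw [orderOf_pow' _ (pow_ne_zero k two_ne_zero), hkm, Nat.gcd_mul_right_left, Nat.mul_div_cancel_left _ (by positivity)]
      exact hm⟩
    rw [hR0, mem_bot] at hmem
    simpa using hmem
  have hpA : IsPGroup 2 ↥(T.subgroupOf A) := hT2.comap_of_injective _ (Subgroup.subtype_injective A)
  have hpB : IsPGroup 2 ↥(T.subgroupOf B) := hT2.comap_of_injective _ (Subgroup.subtype_injective B)
  let SA : Sylow 2 ↥A := hpA.toSylow (by rw [hiA]; norm_num)
  let SB : Sylow 2 ↥B := hpB.toSylow (by rw [hiB]; norm_num)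
  have hsylA : Fus.IsSylowOf 2 T A := ⟨hTA, SA, rfl⟩
  have hsylB : Fus.IsSylowOf 2 T B := ⟨hTB, SB, rfl⟩
  have hcardA : Nat.card ↥A = 3 * Nat.card ↥T := by
    have := (T.subgroupOf A).card_mul_index
    rw [hiA, Nat.card_congr (Subgroup.subgroupOfEquivOfLe hTA).toEquiv] at this
    omega
  -- an element carrying `A` to `B` and fixing `T`
  have hgTB : cj g T ≤ B := hgAB ▸ cj_mono' hTA
  obtain ⟨h, hh, hle⟩ := hsylB.exists_conj_le (A := cj g T) (hT2.map _) hgTB
  set x := h * g with hx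
  have hxT : cj x T = T := by
    refine Subgroup.eq_of_le_of_card_ge ?_ (by rw [Subgroup.card_map_of_injective (MulAut.conj x).injective])
    rintro _ ⟨t, ht, rfl⟩
    have := hle ⟨g * t * g⁻¹, ⟨t, ht, rfl⟩, rfl⟩
    simpa [hx, mul_assoc] using this
  have hxA : cj x A = B := by
    refine Subgroup.eq_of_le_of_card_ge ?_ (by rw [Subgroup.card_map_of_injective (MulAut.conj x).injective]; exact hcardAB.le)
    rintro _ ⟨a, ha, rfl⟩
    have h1 : g * a * g⁻¹ ∈ B := hgAB ▸ (⟨a, ha, rfl⟩ : g * a * g⁻¹ ∈ cj g A)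
    have := B.mul_mem (B.mul_mem hh h1) (B.inv_mem hh)
    simpa [hx, mul_assoc] using this
  by_cases hnA : (T.subgroupOf A).Normal
  · -- the stabilizer of the suborbit is trivial
    left
    have hAN : A ≤ normalizer (T : Set G) := (Subgroup.normal_subgroupOf_iff_le_normalizer hTA).mp hnA
    have hBN : B ≤ normalizer (T : Set G) := by
      rw [← hxA]
      rintro _ ⟨a, ha, rfl⟩
      rw [mem_normalizer_iff]
      have key : ∀ a ∈ A, ∀ t ∈ T, x * a * x⁻¹ * t * (x * a * x⁻¹)⁻¹ ∈ T := by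
        intro a ha t ht
        have ht' : x⁻¹ * t * x ∈ T := by
          rw [← hxT] at ht
          obtain ⟨u, hu, rfl⟩ := ht
          simpa [mul_assoc] using hu
        have h2 : x * (a * (x⁻¹ * t * x) * a⁻¹) * x⁻¹ ∈ T :=
          hxT.le ⟨_, (mem_normalizer_iff.mp (hAN ha) _).mp ht', rfl⟩
        simpa [mul_assoc] using h2
      intro t
      refine ⟨key a ha t, fun ht => ?_⟩
      have := key a⁻¹ (inv_mem ha) _ ht
      simpa [mul_assoc] using this
    have hT0 : T = ⊥ := hbot T (hnormal T hAN hBN) le_rfl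
    haveI : Fact (Nat.Prime 3) := ⟨Nat.prime_three⟩
    exact ⟨mulEquivOfPrimeCardEq (by rw [hcardA, hT0, Subgroup.card_bot]) (by simp)⟩
  -- from now on `T` is not normal in `A`
  right
  set QA := Cfsg.pCoreOf 2 A with hQA
  set QB := Cfsg.pCoreOf 2 B with hQB
  have hnB : ¬ (T.subgroupOf B).Normal := by
    intro hn
    refine hnA ⟨fun t ht a => mem_subgroupOf.mpr ?_⟩
    have hxa : x * a * x⁻¹ ∈ B := hxA.le ⟨a, a.2, rfl⟩
    have hxt : x * t * x⁻¹ ∈ T := hxT.le ⟨t, mem_subgroupOf.mp ht, rfl⟩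
    have h1 : x * (a : G) * x⁻¹ * (x * t * x⁻¹) * (x * a * x⁻¹)⁻¹ ∈ T :=
      mem_subgroupOf.mp (hn.conj_mem ⟨_, hTB hxt⟩ (mem_subgroupOf.mpr hxt) ⟨_, hxa⟩)
    rw [← hxT] at h1
    obtain ⟨u, hu, he⟩ := h1
    simp only [MulEquiv.coe_toMonoidHom, MulAut.conj_apply] at he
    have : u = (a : G) * t * (a : G)⁻¹ := by
      calc u = x⁻¹ * (x * u * x⁻¹) * x := by group
        _ = (a : G) * t * (a : G)⁻¹ := by rw [he]; group
    simpa [this] using hu
  have hmemQ : ∀ P : Subgroup G, T ≤ P → (T.subgroupOf P).index = 3 → ∀ y,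
      (y ∈ Cfsg.pCoreOf 2 P ↔ y ∈ P ∧ ∀ p ∈ P, p * y * p⁻¹ ∈ T) := by
    intro P hle hi y
    have hp : IsPGroup 2 ↥(T.subgroupOf P) := hT2.comap_of_injective _ (Subgroup.subtype_injective P)
    rw [Cfsg.pCoreOf, ← pCore_eq (T.subgroupOf P) hi hp]
    constructor
    · rintro ⟨z, hz, rfl⟩
      exact ⟨z.2, fun p hp' => mem_subgroupOf.mp (hz ⟨p, hp'⟩)⟩
    · rintro ⟨hy, h⟩
      exact ⟨⟨y, hy⟩, fun p => mem_subgroupOf.mpr (h p p.2), rfl⟩
  have hQAT : QA ≤ T := fun y hy => by simpa using ((hmemQ A hTA hiA y).mp hy).2 1 (one_mem _)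
  have hQBT : QB ≤ T := fun y hy => by simpa using ((hmemQ B hTB hiB y).mp hy).2 1 (one_mem _)
  have hAQ : A ≤ normalizer (QA : Set G) := by
    haveI : (Cfsg.pCore 2 ↥A).Normal := inferInstance
    rintro a ha
    rw [mem_normalizer_iff]
    have key : ∀ a ∈ A, ∀ y ∈ QA, a * y * a⁻¹ ∈ QA := by
      rintro a ha _ ⟨y, hy, rfl⟩
      exact ⟨_, Subgroup.Normal.conj_mem inferInstance y hy ⟨a, ha⟩, rfl⟩
    exact fun y => ⟨key a ha y, fun h => by simpa [mul_assoc] using key a⁻¹ (inv_mem ha) _ h⟩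
  have hBQ : B ≤ normalizer (QB : Set G) := by
    rintro b hb
    rw [mem_normalizer_iff]
    have key : ∀ b ∈ B, ∀ y ∈ QB, b * y * b⁻¹ ∈ QB := by
      rintro b hb _ ⟨y, hy, rfl⟩
      exact ⟨_, Subgroup.Normal.conj_mem inferInstance y hy ⟨b, hb⟩, rfl⟩
    exact fun y => ⟨key b hb y, fun h => by simpa [mul_assoc] using key b⁻¹ (inv_mem hb) _ h⟩
  have hQx : cj x QA = QB := by
    ext y
    rw [Amal.mem_cj, hQA, hQB, hmemQ A hTA hiA, hmemQ B hTB hiB]
    constructor
    · rintro ⟨h1, h2⟩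
      refine ⟨by rw [← hxA, Amal.mem_cj]; exact h1, fun b hb => ?_⟩
      rw [← hxA, Amal.mem_cj] at hb
      rw [← hxT, Amal.mem_cj]
      simpa [mul_assoc] using h2 _ hb
    · rintro ⟨h1, h2⟩
      rw [← hxA, Amal.mem_cj] at h1
      refine ⟨h1, fun a ha => ?_⟩
      have hb : x * a * x⁻¹ ∈ B := hxA.le ⟨a, ha, rfl⟩
      have := h2 _ hb
      rw [← hxT, Amal.mem_cj] at this
      simpa [mul_assoc] using this
  obtain ⟨hidxA, hisoA⟩ := perm_iso (T.subgroupOf A) hiA hpA hnA
  obtain ⟨hidxB, hisoB⟩ := perm_iso (T.subgroupOf B) hiB hpB hnB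
  by_cases hchar : A ⊓ centralizer (QA : Set G) ≤ QA
  · -- the amalgam of type `S₄`
    have hcharB : B ⊓ centralizer (QB : Set G) ≤ QB := by
      rintro b ⟨hb, hc⟩
      rw [← hxA] at hb
      obtain ⟨a, ha, rfl⟩ := hb
      refine hQx.le ⟨a, hchar ⟨ha, mem_centralizer_iff.mpr fun q hq => ?_⟩, rfl⟩
      have h2 := mem_centralizer_iff.mp hc _ (hQx.le ⟨q, hq, rfl⟩)
      simp only [MulEquiv.coe_toMonoidHom, MulAut.conj_apply] at h2
      calc q * a = x⁻¹ * ((x * q * x⁻¹) * (x * a * x⁻¹)) * x := by group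
        _ = a * q := by rw [h2]; group
    have hTne : T ≠ ⊥ := fun e => hnA (by rw [e, Subgroup.bot_subgroupOf]; infer_instance)
    have hZne : omZ 2 T ≠ ⊥ := by
      haveI : Nontrivial ↥T := (Subgroup.nontrivial_iff_ne_bot T).mpr hTne
      haveI : Nontrivial (Subgroup.center ↥T) := hT2.center_nontrivial
      have hdvd2 : 2 ∣ Nat.card (Subgroup.center ↥T) := by
        obtain ⟨n, hn, e⟩ := (hT2.to_subgroup (Subgroup.center ↥T)).nontrivial_iff_card.mp inferInstance
        exact e ▸ dvd_pow_self 2 hn.ne'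
      obtain ⟨z, hz⟩ := exists_prime_orderOf_dvd_card' (G := Subgroup.center ↥T) 2 hdvd2
      have hz2 : ((z : ↥T) : G) ^ 2 = 1 := by
        have := pow_orderOf_eq_one z
        rw [hz] at this
        simpa using congrArg (fun w : Subgroup.center ↥T => ((w : ↥T) : G)) this
      have hzZ : ((z : ↥T) : G) ∈ omZ 2 T := Subgroup.subset_closure ⟨⟨(z : ↥T).2,
        mem_centralizer_iff.mpr fun t ht =>
          congrArg Subtype.val (Subgroup.mem_center_iff.mp z.2 ⟨t, ht⟩)⟩, hz2⟩
      intro e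
      rw [e, mem_bot] at hzZ
      have : z = 1 := Subtype.ext (Subtype.ext hzZ)
      rw [this, orderOf_one] at hz
      omega
    have hZT : omZ 2 T ≤ T := (Amal.omZ_le T).trans inf_le_left
    have hZx : cj x (omZ 2 T) ≤ omZ 2 T := by
      have := Amal.omZ_cj (p := 2) x T
      rwa [hxT] at this
    have hZx' : cj x (omZ 2 T) = omZ 2 T := Subgroup.eq_of_le_of_card_ge hZx
      (Subgroup.card_map_of_injective (MulAut.conj x).injective).ge
    have hmA : ¬ A ≤ centralizer (omZ 2 T : Set G) := by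
      intro hle
      have hleB : B ≤ centralizer (omZ 2 T : Set G) := by
        rw [← hxA]
        rintro _ ⟨a, ha, rfl⟩
        refine mem_centralizer_iff.mpr fun z hz => ?_
        rw [← hZx'] at hz
        obtain ⟨u, hu, rfl⟩ := hz
        simp only [MulEquiv.coe_toMonoidHom, MulAut.conj_apply]
        have h3 := mem_centralizer_iff.mp (hle ha) u hu
        calc x * u * x⁻¹ * (x * a * x⁻¹) = x * (u * a) * x⁻¹ := by group
          _ = x * a * x⁻¹ * (x * u * x⁻¹) := by rw [h3]; group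
      exact hZne (hbot _ (hnormal _ (hle.trans (centralizer_le_normalizer _))
        (hleB.trans (centralizer_le_normalizer _))) hZT)
    have hmB : ¬ B ≤ centralizer (omZ 2 T : Set G) := by
      intro hle
      refine hmA fun a ha => mem_centralizer_iff.mpr fun z hz => ?_
      have h2 : x * z * x⁻¹ ∈ omZ 2 T := hZx ⟨z, hz, rfl⟩
      have h3 := mem_centralizer_iff.mp (hle (hxA.le ⟨a, ha, rfl⟩)) _ h2
      simp only [MulEquiv.coe_toMonoidHom, MulAut.conj_apply] at h3
      calc z * a = x⁻¹ * ((x * z * x⁻¹) * (x * a * x⁻¹)) * x := by group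
        _ = a * z := by rw [h3]; group
    have hres := S4Am.pair A B hgen T rfl
      (by rintro P (rfl | rfl); exacts [hchar, hcharB])
      (by rintro P (rfl | rfl); exacts [⟨SA, rfl⟩, ⟨SB, rfl⟩])
      (fun N hN hNT => hbot N hN hNT)
      (by rintro P (rfl | rfl); exacts [hisoA, hisoB])
      (by rintro P (rfl | rfl); exacts [hmA, hmB])
    rcases hres with ⟨⟨e⟩, -⟩ | ⟨⟨e⟩, -⟩
    · exact Or.inr (Or.inr (Or.inl ⟨e⟩))
    · exact Or.inr (Or.inr (Or.inr ⟨e.trans MulEquiv.prodComm⟩))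
  -- the core is centralized: the groups of order 6 and 12
  have hchar' : ¬ B ⊓ centralizer (QB : Set G) ≤ QB := by
    intro hB
    refine hchar fun a ⟨ha, hc⟩ => ?_
    have h1 : x * a * x⁻¹ ∈ QB := hB ⟨hxA.le ⟨a, ha, rfl⟩, mem_centralizer_iff.mpr fun q hq => by
      rw [← hQx] at hq
      obtain ⟨u, hu, rfl⟩ := hq
      simp only [MulEquiv.coe_toMonoidHom, MulAut.conj_apply]
      have := mem_centralizer_iff.mp hc u hu
      calc x * u * x⁻¹ * (x * a * x⁻¹) = x * (u * a) * x⁻¹ := by group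
        _ = x * a * x⁻¹ * (x * u * x⁻¹) := by rw [this]; group⟩
    rw [← hQx, Amal.mem_cj] at h1
    simpa [mul_assoc] using h1
  have hnormD : ∀ P : Subgroup G, T ≤ P → (T.subgroupOf P).index = 3 →
      ¬ P ⊓ centralizer (Cfsg.pCoreOf 2 P : Set G) ≤ Cfsg.pCoreOf 2 P →
      ∀ D : Subgroup G, D ≤ Cfsg.pCoreOf 2 P → T ≤ normalizer (D : Set G) → P ≤ normalizer (D : Set G) := by
    intro P hle hi hc D hD hTD
    have hp : IsPGroup 2 ↥(T.subgroupOf P) := hT2.comap_of_injective _ (Subgroup.subtype_injective P)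
    have hc' : ¬ centralizer (Cfsg.pCore 2 ↥P : Set ↥P) ≤ Cfsg.pCore 2 ↥P := by
      intro h1
      refine hc fun y ⟨hy, hyc⟩ => ?_
      refine ⟨⟨y, hy⟩, h1 (mem_centralizer_iff.mpr fun q hq => Subtype.ext ?_), rfl⟩
      exact mem_centralizer_iff.mp hyc _ ⟨q, hq, rfl⟩
    have htop := sup_centralizer_eq_top (T.subgroupOf P) hi hp hc'
    intro p hp'
    have hsub : T.subgroupOf P ⊔ centralizer (Cfsg.pCore 2 ↥P : Set ↥P) ≤ (normalizer (D : Set G)).subgroupOf P := by
      refine sup_le (fun t ht => hTD (mem_subgroupOf.mp ht)) fun c hc => ?_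
      rw [mem_subgroupOf]
      refine centralizer_le_normalizer _ (mem_centralizer_iff.mpr fun d hd => ?_)
      obtain ⟨q, hq, rfl⟩ := hD hd
      exact congrArg Subtype.val (mem_centralizer_iff.mp hc q hq)
    exact hsub (show (⟨p, hp'⟩ : ↥P) ∈ _ from htop ▸ mem_top _)
  have hTQA : T ≤ normalizer (QA : Set G) := hTA.trans hAQ
  have hTQB : T ≤ normalizer (QB : Set G) := hTB.trans hBQ
  have hD : QA ⊓ QB = ⊥ := by
    have hTD : T ≤ normalizer ((QA ⊓ QB : Subgroup G) : Set G) := fun t ht => by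
      rw [mem_normalizer_iff]
      intro y
      exact ⟨fun ⟨h1, h2⟩ => ⟨(mem_normalizer_iff.mp (hTQA ht) y).mp h1, (mem_normalizer_iff.mp (hTQB ht) y).mp h2⟩,
        fun ⟨h1, h2⟩ => ⟨(mem_normalizer_iff.mp (hTQA ht) y).mpr h1, (mem_normalizer_iff.mp (hTQB ht) y).mpr h2⟩⟩
    exact hbot _ (hnormal _ (hnormD A hTA hiA hchar _ inf_le_left hTD)
      (hnormD B hTB hiB hchar' _ inf_le_right hTD)) (inf_le_left.trans hQAT)
  have hQcard : ∀ P : Subgroup G, T ≤ P → (Cfsg.pCore 2 ↥P).index = 6 →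
      Nat.card ↥P = 6 * Nat.card ↥(Cfsg.pCoreOf 2 P) := by
    intro P _ hi
    have := (Cfsg.pCore 2 ↥P).card_mul_index
    rw [hi] at this
    rw [Cfsg.pCoreOf, Subgroup.card_map_of_injective P.subtype_injective]
    omega
  have hcA : Nat.card ↥A = 6 * Nat.card ↥QA := hQcard A hTA hidxA
  have hcB : Nat.card ↥B = 6 * Nat.card ↥QB := hQcard B hTB hidxB
  have hQT : Nat.card ↥T = 2 * Nat.card ↥QA := by omega
  have hsmall : Nat.card ↥QA ≤ 2 := by
    have h1 := Grp.card_sup_mul_card_inf (hQBT.trans hTQA)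
    have h2 : Nat.card ↥(QB ⊔ QA) ≤ Nat.card ↥T := Subgroup.card_le_of_le (sup_le hQBT hQAT)
    rw [inf_comm, hD, Subgroup.card_bot, mul_one] at h1
    have h3 : Nat.card ↥QB = Nat.card ↥QA := by omega
    have h4 : 0 < Nat.card ↥QA := Nat.card_pos
    nlinarith
  have hQ0 : 0 < Nat.card ↥QA := Nat.card_pos
  rcases (show Nat.card ↥QA = 1 ∨ Nat.card ↥QA = 2 by omega) with hQ | hQ
  · left
    obtain ⟨e⟩ := hisoA
    have h1 : Cfsg.pCore 2 ↥A = ⊥ := by
      apply Subgroup.eq_bot_of_card_eq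
      rwa [hQA, Cfsg.pCoreOf, Subgroup.card_map_of_injective A.subtype_injective] at hQ
    exact ⟨((QuotientGroup.quotientBot (G := ↥A)).symm.trans (QuotientGroup.quotientMulEquivOfEq h1.symm)).trans e⟩
  -- order twelve
  right; left
  obtain ⟨ψ, hker, i, hi⟩ := exists_perm (T.subgroupOf A) hiA
  rw [pCore_eq (T.subgroupOf A) hiA hpA] at hker
  have hkerG : ∀ a : ↥A, ψ a = 1 ↔ (a : G) ∈ QA := fun a => by
    rw [← MonoidHom.mem_ker, hker]
    exact ⟨fun h => ⟨a, h, rfl⟩, fun ⟨b, hb, e⟩ => Subtype.ext e ▸ hb⟩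
  have hcardT : Nat.card ↥T = 4 := by omega
  have hcard12 : Nat.card ↥A = 12 := by omega
  haveI hN2 : Nontrivial ↥QA := Finite.one_lt_card_iff_nontrivial.mp (by omega)
  obtain ⟨⟨z, hzQ⟩, hz1⟩ := exists_ne (1 : ↥QA)
  have hz1' : z ≠ 1 := fun e => hz1 (Subtype.ext e)
  have hQel : ∀ q ∈ QA, q = 1 ∨ q = z := by
    intro q hq
    by_contra hcon
    push Not at hcon
    have : 3 ≤ Nat.card ↥QA := by
      letI := Fintype.ofFinite ↥QA
      rw [Nat.card_eq_fintype_card]
      refine le_trans ?_ (Finset.card_le_univ {(1 : ↥QA), ⟨z, hzQ⟩, ⟨q, hq⟩})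
      rw [Finset.card_insert_of_notMem (by simp [Subtype.ext_iff, Ne.symm hz1', Ne.symm hcon.1]),
        Finset.card_insert_of_notMem (by simp [Subtype.ext_iff, Ne.symm hcon.2]), Finset.card_singleton]
    omega
  have hz2 : z * z = 1 := by
    rcases hQel _ (mul_mem hzQ hzQ) with e | e
    · exact e
    · exact absurd (mul_left_cancel (e.trans (mul_one z).symm)) hz1'
  have hzc : ∀ a ∈ A, a * z = z * a := by
    intro a ha
    have h1 : a * z * a⁻¹ ∈ QA := (mem_normalizer_iff.mp (hAQ ha) z).mp hzQ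
    rcases hQel _ h1 with e | e
    · exact absurd (conj_eq_one_iff.mp e) hz1'
    · exact mul_inv_eq_iff_eq_mul.mp e
  have hQBne : ∃ s ∈ QB, s ≠ 1 := by
    by_contra hcon
    push Not at hcon
    have : Nat.card ↥QB = 1 := by
      rw [(Subgroup.eq_bot_iff_forall QB).mpr hcon]; exact Subgroup.card_bot
    omega
  obtain ⟨s, hsB, hs1⟩ := hQBne
  have hsA : s ∈ A := hTA (hQBT hsB)
  have hsQA : s ∉ QA := fun h => hs1 (mem_bot.mp (hD ▸ ⟨h, hsB⟩))
  have hs2 : s * s = 1 := by
    have h2 : Nat.card ↥QB = 2 := by omega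
    have := pow_card_eq_one' (x := (⟨s, hsB⟩ : ↥QB))
    rw [h2, pow_two] at this
    exact congrArg Subtype.val this
  haveI : Fact (Nat.Prime 3) := ⟨Nat.prime_three⟩
  obtain ⟨r, hr⟩ := exists_prime_orderOf_dvd_card' (G := ↥A) 3 (by rw [hcard12]; norm_num)
  have hr3 : r ^ 3 = 1 := hr ▸ pow_orderOf_eq_one r
  have hrQ : (r : G) ∉ QA := by
    intro h
    rcases hQel _ h with e | e
    · have : r = 1 := Subtype.ext e
      rw [this, orderOf_one] at hr; omega
    · have : (r : G) ^ 2 = 1 := by rw [e, pow_two, hz2]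
      have h' : orderOf r ∣ 2 := orderOf_dvd_of_pow_eq_one (Subtype.ext (by simpa using this))
      rw [hr] at h'
      exact absurd (Nat.le_of_dvd two_pos h') (by norm_num)
  set s' : ↥A := ⟨s, hsA⟩ with hs'
  have hfact : ∀ ρ σ : Equiv.Perm (Fin 3), ρ ^ 3 = 1 → ρ ≠ 1 → σ * σ = 1 → σ ≠ 1 → σ * ρ * σ * ρ = 1 := by
    decide
  have h1 : ψ (s' * r * s' * r) = 1 := by
    simp only [map_mul]
    refine hfact _ _ (by rw [← map_pow, hr3, map_one]) (fun e => hrQ ((hkerG r).mp e)) ?_
      (fun e => hsQA ((hkerG s').mp e))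
    rw [← map_mul, show s' * s' = 1 from Subtype.ext hs2, map_one]
  have hsrs : s * (r : G) * s = (r : G)⁻¹ := by
    have hr3' : (r : G) ^ 3 = 1 := by
      have := congrArg Subtype.val hr3
      simpa using this
    have h1' : s * (r : G) * s * r ∈ QA := by simpa [hs'] using (hkerG _).mp h1
    rcases hQel _ h1' with e | e
    · exact eq_inv_of_mul_eq_one_left e
    · exfalso
      have h2 : s * (r : G) * s = z * (r : G)⁻¹ := eq_mul_inv_of_mul_eq e
      have hcz : Commute z (r : G)⁻¹ := ((show Commute z (r : G) from (hzc r r.2).symm)).inv_right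
      have h3 : (s * (r : G) * s) ^ 3 = 1 := by
        have : s⁻¹ = s := inv_eq_of_mul_eq_one_right hs2
        conv_lhs => rw [show s * (r : G) * s = s * r * s⁻¹ by rw [this]]
        rw [conj_pow, hr3', mul_one, mul_inv_cancel]
      rw [h2, hcz.mul_pow, inv_pow, hr3', inv_one, mul_one, pow_succ, pow_two, hz2, one_mul] at h3
      exact hz1' h3
  set z' : ↥A := ⟨z, hTA (hQAT hzQ)⟩ with hz'
  have hz'o : orderOf z' = 2 := orderOf_eq_prime (Subtype.ext (by simpa [pow_two, hz'] using hz2))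
    (fun e => hz1' (congrArg Subtype.val e))
  have hcomm : Commute r z' := Subtype.ext (hzc r r.2)
  refine dihedral_iso (n := 6) (r * z') s' ?_ (Subtype.ext hs2) ?_ ?_ (by rw [hcard12])
  · rw [hcomm.orderOf_mul_eq_mul_orderOf_of_coprime (by rw [hr, hz'o]; norm_num), hr, hz'o]
  · apply Subtype.ext
    have hzi : z⁻¹ = z := inv_eq_of_mul_eq_one_right hz2
    show s * ((r : G) * z) * s = ((r : G) * z)⁻¹
    have e1 : s * ((r : G) * z) * s = (s * r * s) * z := by
      calc s * ((r : G) * z) * s = s * r * (z * s) := by group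
        _ = (s * r * s) * z := by rw [← hzc s hsA]; group
    rw [e1, hsrs, mul_inv_rev, hzi, hzc _ (inv_mem r.2)]
  · intro k hk
    have hrs : Commute (r * z') s' := hk ▸ (Commute.refl (r * z')).zpow_right k
    have h4 : Commute r s' := by
      have hzs : Commute z' s' := Subtype.ext (hzc s hsA).symm
      have := hrs.mul_left hzs
      rwa [mul_assoc, show z' * z' = 1 from Subtype.ext hz2, mul_one] at this
    have h5 := hsrs
    have h4' : (r : G) * s = s * r := congrArg Subtype.val h4.eq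
    rw [mul_assoc, h4', ← mul_assoc, hs2, one_mul] at h5
    have h6 : orderOf r ∣ 2 := orderOf_dvd_of_pow_eq_one (Subtype.ext (by
      simpa [pow_two] using mul_eq_one_iff_eq_inv.mpr h5))
    rw [hr] at h6
    exact absurd (Nat.le_of_dvd two_pos h6) (by norm_num)

/-- Primitive groups with a suborbit of length three. -/
theorem primitive {Ω : Type*} [MulAction G Ω] [FaithfulSMul G Ω]
    (hprim : MulAction.IsPreprimitive G Ω) (a b : Ω)
    (h3 : Nat.card (MulAction.orbit (MulAction.stabilizer G a) b) = 3) :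
    Nonempty (MulAction.stabilizer G a ≃* Multiplicative (ZMod 3)) ∨
      Nonempty (MulAction.stabilizer G a ≃* Equiv.Perm (Fin 3)) ∨
      Nonempty (MulAction.stabilizer G a ≃* DihedralGroup 6) ∨
      Nonempty (MulAction.stabilizer G a ≃* Equiv.Perm (Fin 4)) ∨
      Nonempty (MulAction.stabilizer G a ≃* Equiv.Perm (Fin 4) × Multiplicative (ZMod 2)) := by
  haveI := hprim
  have hab : a ≠ b := by
    rintro rfl
    have hs : MulAction.orbit ↥(MulAction.stabilizer G a) a = {a} := by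
      ext y
      refine ⟨?_, fun h => by rw [Set.mem_singleton_iff] at h; subst h; exact MulAction.mem_orbit_self _⟩
      rintro ⟨⟨g, hg⟩, rfl⟩
      exact hg
    rw [Nat.card_coe_set_eq, hs, Set.ncard_singleton] at h3
    omega
  haveI : Nontrivial Ω := ⟨a, b, hab⟩
  obtain ⟨g, rfl⟩ := MulAction.exists_smul_eq G a b
  set A := MulAction.stabilizer G a with hAdef
  set B := MulAction.stabilizer G (g • a) with hBdef
  have hgAB : cj g A = B := (MulAction.stabilizer_smul_eq_stabilizer_map_conj g a).symm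
  have hrA : (A ⊓ B).relIndex A = 3 := by
    have hst : MulAction.stabilizer ↥A (g • a) = (A ⊓ B).subgroupOf A := by
      ext y
      simp [Subgroup.mem_subgroupOf, Subgroup.smul_def, hBdef, hAdef, y.2]
    rw [Subgroup.relIndex, ← hst, MulAction.index_stabilizer, ← Nat.card_coe_set_eq, h3]
  have hrB : (A ⊓ B).relIndex B = 3 := by
    have hc : Nat.card ↥B = Nat.card ↥A := by
      rw [← hgAB]; exact Subgroup.card_map_of_injective (MulAut.conj g).injective
    have a1 := ((A ⊓ B).subgroupOf A).card_mul_index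
    have a2 := ((A ⊓ B).subgroupOf B).card_mul_index
    rw [Nat.card_congr (Subgroup.subgroupOfEquivOfLe inf_le_left).toEquiv] at a1
    rw [Nat.card_congr (Subgroup.subgroupOfEquivOfLe inf_le_right).toEquiv, hc] at a2
    have h0 : 0 < Nat.card ↥(A ⊓ B) := Nat.card_pos
    rw [Subgroup.relIndex] at hrA ⊢
    rw [hrA] at a1
    exact Nat.eq_of_mul_eq_mul_left h0 (a2.trans a1.symm)
  refine pair3 A B g hgAB (MulAction.IsPreprimitive.isCoatom_stabilizer_of_isPreprimitive G a) hrA hrB ?_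
  intro N hN hle
  refine (Subgroup.eq_bot_iff_forall N).mpr fun n hn => eq_of_smul_eq_smul (α := Ω) fun ω => ?_
  obtain ⟨h, rfl⟩ := MulAction.exists_smul_eq G a ω
  have h1 : (h⁻¹ * n * h) • a = a := by
    have := (hle (hN.conj_mem n hn h⁻¹)).1
    rw [inv_inv] at this
    exact this
  rw [mul_smul, mul_smul, inv_smul_eq_iff] at h1
  rw [one_smul, h1]

theorem order {Ω : Type*} [MulAction G Ω] [FaithfulSMul G Ω]
    (hprim : MulAction.IsPreprimitive G Ω) (a b : Ω)
    (h3 : Nat.card (MulAction.orbit (MulAction.stabilizer G a) b) = 3) :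
    ∃ k : ℕ, k ≤ 4 ∧ Nat.card ↥(MulAction.stabilizer G a) = 2 ^ k * 3 := by
  rcases primitive hprim a b h3 with ⟨⟨e⟩⟩ | ⟨⟨e⟩⟩ | ⟨⟨e⟩⟩ | ⟨⟨e⟩⟩ | ⟨⟨e⟩⟩
  · exact ⟨0, by norm_num, by rw [Nat.card_congr e.toEquiv]; simp⟩
  · exact ⟨1, by norm_num, by rw [Nat.card_congr e.toEquiv, Nat.card_perm, Nat.card_fin]; rfl⟩
  · exact ⟨2, by norm_num, by rw [Nat.card_congr e.toEquiv, DihedralGroup.nat_card]; rfl⟩
  · exact ⟨3, by norm_num, by rw [Nat.card_congr e.toEquiv, Nat.card_perm, Nat.card_fin]; rfl⟩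
  · exact ⟨4, by norm_num, by rw [Nat.card_congr e.toEquiv, Nat.card_prod, Nat.card_perm, Nat.card_fin]; simp [Nat.factorial]⟩

end Cfsg.Agent.Invol.SubThree
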