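import Mathlib
import Cfsg.Prelude
import Cfsg.Agent.Lib.Block.PermChar
import Cfsg.Agent.Lib.Char.Constituent

/-!
Three irreducible characters of a four-fold transitive group, from the permutation characters on
points, unordered pairs and ordered pairs; their zeros in the alternating groups.
-/

set_option autoImplicit false

open Cfsg
open scoped ComplexConjugate

namespace Cfsg.Agent.Invol.AltZero

open Cfsg.Agent.Char Cfsg.Agent.Block.PermChar

universe u

variable (n : ℕ)

/-- Unordered pairs of points. -/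
abbrev Pair : Type := {s : Finset (Fin n) // s.card = 2}

variable {n} {G : Type u} [Group G] [MulAction G (Fin n)]

theorem card_image_smul (g : G) (s : Pair n) : (s.1.image fun a => g • a).card = 2 := by
  rw [Finset.card_image_of_injective _ (MulAction.injective g)]
  exact s.2

instance pairSMul : SMul G (Pair n) := ⟨fun g s => ⟨s.1.image fun a => g • a, card_image_smul g s⟩⟩

theorem smul_pair_val (g : G) (s : Pair n) : (g • s).1 = s.1.image fun a => g • a := rfl

instance pairAction : MulAction G (Pair n) where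
  one_smul s := Subtype.ext (by rw [smul_pair_val]; simp)
  mul_smul g h s := Subtype.ext (by
    rw [smul_pair_val, smul_pair_val, smul_pair_val, Finset.image_image]
    refine Finset.image_congr fun a _ => ?_
    exact mul_smul g h a)

/-- Forgetting the order. -/
def toPair (e : Fin 2 ↪ Fin n) : Pair n :=
  ⟨{e 0, e 1}, Finset.card_pair fun h => absurd (e.injective h) (by decide)⟩

theorem smul_toPair (g : G) (e : Fin 2 ↪ Fin n) : g • toPair e = toPair (g • e) := by
  refine Subtype.ext ?_
  rw [smul_pair_val]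
  simp [toPair, Finset.image_insert, Finset.image_singleton]

/-- An ordered pair from two distinct points. -/
def pairE {a b : Fin n} (h : a ≠ b) : Fin 2 ↪ Fin n :=
  ⟨![a, b], fun i j e => by fin_cases i <;> fin_cases j <;> simp_all⟩

@[simp] theorem pairE_zero {a b : Fin n} (h : a ≠ b) : pairE h 0 = a := rfl

@[simp] theorem pairE_one {a b : Fin n} (h : a ≠ b) : pairE h 1 = b := rfl

theorem exists_toPair (s : Pair n) : ∃ e : Fin 2 ↪ Fin n, toPair e = s := by
  obtain ⟨a, b, hab, he⟩ := Finset.card_eq_two.mp s.2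
  refine ⟨pairE hab, Subtype.ext ?_⟩
  simp [toPair, he]

theorem mem_toPair (e : Fin 2 ↪ Fin n) (a : Fin n) : a ∈ (toPair e).1 ↔ a = e 0 ∨ a = e 1 := by
  simp [toPair]

/-- The swapped pair. -/
def swapE (e : Fin 2 ↪ Fin n) : Fin 2 ↪ Fin n :=
  (Equiv.swap (0 : Fin 2) 1).toEmbedding.trans e

theorem swapE_zero (e : Fin 2 ↪ Fin n) : swapE e 0 = e 1 := by simp [swapE]

theorem swapE_one (e : Fin 2 ↪ Fin n) : swapE e 1 = e 0 := by simp [swapE]

theorem toPair_swapE (e : Fin 2 ↪ Fin n) : toPair (swapE e) = toPair e := by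
  refine Subtype.ext ?_
  simp [toPair, swapE_zero, swapE_one, Finset.pair_comm]

/-- Two families of at most four points with the same coincidences are conjugate. -/
theorem exists_smul_family (h4 : MulAction.IsMultiplyPretransitive G (Fin n) 4) (hn : 4 ≤ n)
    {ι : Type} [Fintype ι] (hι : Fintype.card ι ≤ 4) (u v : ι → Fin n)
    (h : ∀ i j, u i = u j ↔ v i = v j) : ∃ g : G, ∀ i, g • u i = v i := by
  classical
  set s := Finset.univ.image u with hs
  have hcard : s.card ≤ 4 := Finset.card_image_le.trans hι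
  haveI := h4
  haveI hk : MulAction.IsMultiplyPretransitive G (Fin n) s.card :=
    MulAction.isMultiplyPretransitive_of_le hcard (by simpa using hn)
  let e := s.equivFin
  have hmem : ∀ i, u i ∈ s := fun i => Finset.mem_image_of_mem u (Finset.mem_univ i)
  have hsel : ∀ k : Fin s.card, ∃ i, u i = (e.symm k : Fin n) := fun k => by
    obtain ⟨i, -, hi⟩ := Finset.mem_image.mp (e.symm k).2
    exact ⟨i, hi⟩
  choose sel hsel using hsel
  let x : Fin s.card ↪ Fin n := ⟨fun k => u (sel k), fun a b hab => by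
    simp only [hsel] at hab
    exact e.symm.injective (Subtype.ext hab)⟩
  let y : Fin s.card ↪ Fin n := ⟨fun k => v (sel k), fun a b hab => by
    have := (h _ _).mpr hab
    simp only [hsel] at this
    exact e.symm.injective (Subtype.ext this)⟩
  obtain ⟨g, hg⟩ := MulAction.isMultiplyPretransitive_iff.mp hk x y
  refine ⟨g, fun i => ?_⟩
  have h1 := DFunLike.congr_fun hg (e ⟨u i, hmem i⟩)
  have h2 : u (sel (e ⟨u i, hmem i⟩)) = u i := by rw [hsel, Equiv.symm_apply_apply]
  change g • u (sel (e ⟨u i, hmem i⟩)) = v (sel (e ⟨u i, hmem i⟩)) at h1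
  rw [h2, (h _ _).mp h2] at h1
  exact h1

/-- Orbits counted by a separating invariant. -/
theorem card_orbits {Z κ : Type*} [MulAction G Z] (inv : Z → κ)
    (hinv : ∀ (g : G) (z : Z), inv (g • z) = inv z)
    (hsep : ∀ z w : Z, inv z = inv w → ∃ g : G, g • z = w) :
    Nat.card (MulAction.orbitRel.Quotient G Z) = Nat.card (Set.range inv) := by
  refine Nat.card_eq_of_bijective
    (Quotient.lift (fun z => (⟨inv z, z, rfl⟩ : Set.range inv)) fun a b h => ?_) ⟨?_, ?_⟩
  · obtain ⟨g, rfl⟩ := MulAction.orbitRel_apply.mp h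
    exact Subtype.ext (hinv g b)
  · intro a b
    induction a using Quotient.inductionOn with | h z => ?_
    induction b using Quotient.inductionOn with | h w => ?_
    intro h
    obtain ⟨g, hg⟩ := hsep z w (congrArg Subtype.val h)
    exact (Quotient.sound (s := MulAction.orbitRel G Z) ⟨g, hg⟩).symm
  · rintro ⟨_, z, rfl⟩
    exact ⟨Quotient.mk _ z, rfl⟩

/-- The number of orbits on pairs of points of two sets. -/
theorem inner_piFun [Fintype G] {Y Z : Type} [Fintype Y] [Fintype Z] [MulAction G Y] [MulAction G Z] :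
    classInner (piFun G Y) (piFun G Z) = Nat.card (MulAction.orbitRel.Quotient G (Y × Z)) := by
  classical
  have hfix : ∀ g : G, Nat.card (MulAction.fixedBy (Y × Z) g) =
      Nat.card (MulAction.fixedBy Y g) * Nat.card (MulAction.fixedBy Z g) := fun g => by
    rw [← Nat.card_prod]
    refine Nat.card_congr
      { toFun := fun a => (⟨a.1.1, congrArg Prod.fst a.2⟩, ⟨a.1.2, congrArg Prod.snd a.2⟩)
        invFun := fun a => ⟨(a.1.1, a.2.1), Prod.ext a.1.2 a.2.2⟩
        left_inv := fun a => rfl
        right_inv := fun a => rfl }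
  have hb := MulAction.sum_card_fixedBy_eq_card_orbits_mul_card_group G (Y × Z)
  simp only [← Nat.card_eq_fintype_card] at hb
  simp only [classInner, piFun, map_natCast, ← Nat.cast_mul, ← hfix]
  rw [← Nat.cast_sum, hb, Nat.cast_mul, mul_comm ((Nat.card (MulAction.orbitRel.Quotient G (Y × Z)) : ℕ) : ℂ),
    inv_mul_cancel_left₀ (Nat.cast_ne_zero.mpr Nat.card_pos.ne')]

theorem inner_piFun_comm [Fintype G] {Y Z : Type} [Fintype Y] [Fintype Z] [MulAction G Y]
    [MulAction G Z] : classInner (piFun G Y) (piFun G Z) = classInner (piFun G Z) (piFun G Y) := by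
  simp only [classInner, piFun, map_natCast]
  congr 1
  exact Finset.sum_congr rfl fun g _ => mul_comm _ _

theorem inner_piFun_one [Fintype G] {Y : Type} [Fintype Y] [MulAction G Y] [Nonempty Y]
    [MulAction.IsPretransitive G Y] : classInner (piFun G Y) (fun _ : G => (1 : ℂ)) = 1 := by
  classical
  have hb := MulAction.sum_card_fixedBy_eq_card_orbits_mul_card_group G Y
  simp only [← Nat.card_eq_fintype_card] at hb
  have h1 : Nat.card (MulAction.orbitRel.Quotient G Y) = 1 := Nat.card_eq_one_iff_unique.mpr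
    ⟨(MulAction.pretransitive_iff_subsingleton_quotient G Y).mp inferInstance,
      ⟨Quotient.mk _ (Classical.arbitrary Y)⟩⟩
  simp only [classInner, piFun, map_one, mul_one, ← Nat.cast_sum]
  rw [hb, h1, one_mul, inv_mul_cancel₀ (Nat.cast_ne_zero.mpr Nat.card_pos.ne')]

section Counts

variable [Fintype G] (h4 : MulAction.IsMultiplyPretransitive G (Fin n) 4) (hn : 4 ≤ n)
include h4 hn

omit [Fintype G] in
theorem pretransitive_points : MulAction.IsPretransitive G (Fin n) :=
  ⟨fun a b => by
    obtain ⟨g, hg⟩ := exists_smul_family h4 hn (ι := Unit) (by simp) (fun _ => a) (fun _ => b)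
      (by simp)
    exact ⟨g, hg ()⟩⟩

omit [Fintype G] in
theorem pretransitive_ordered : MulAction.IsPretransitive G (Fin 2 ↪ Fin n) :=
  ⟨fun a b => by
    obtain ⟨g, hg⟩ := exists_smul_family h4 hn (ι := Fin 2) (by simp) a b
      (fun i j => by simp [a.injective.eq_iff, b.injective.eq_iff])
    exact ⟨g, DFunLike.ext _ _ hg⟩⟩

omit [Fintype G] in
theorem pretransitive_pairs : MulAction.IsPretransitive G (Pair n) :=
  ⟨fun a b => by
    obtain ⟨e, rfl⟩ := exists_toPair a
    obtain ⟨f, rfl⟩ := exists_toPair b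
    obtain ⟨g, hg⟩ := (pretransitive_ordered (G := G) h4 hn).exists_smul_eq e f
    exact ⟨g, by rw [smul_toPair, hg]⟩⟩

omit [Fintype G] in
/-- Two pairs of ordered pairs with the same coincidences are conjugate. -/
theorem conj_ordered {e f e' f' : Fin 2 ↪ Fin n} (h00 : e 0 = f 0 ↔ e' 0 = f' 0)
    (h01 : e 0 = f 1 ↔ e' 0 = f' 1) (h10 : e 1 = f 0 ↔ e' 1 = f' 0)
    (h11 : e 1 = f 1 ↔ e' 1 = f' 1) : ∃ g : G, g • e = e' ∧ g • f = f' := by
  have key : ∀ i j : Fin 2, (e i = f j ↔ e' i = f' j) := by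
    intro i j
    fin_cases i <;> fin_cases j <;> assumption
  obtain ⟨g, hg⟩ := exists_smul_family h4 hn (ι := Fin 2 ⊕ Fin 2) (by simp)
    (Sum.elim e f) (Sum.elim e' f') (fun i j => by
      rcases i with i | i <;> rcases j with j | j
      · simp [e.injective.eq_iff, e'.injective.eq_iff]
      · exact key i j
      · simp only [Sum.elim_inl, Sum.elim_inr]
        rw [eq_comm, key j i, eq_comm]
      · simp [f.injective.eq_iff, f'.injective.eq_iff])
  exact ⟨g, DFunLike.ext _ _ fun i => hg (.inl i), DFunLike.ext _ _ fun i => hg (.inr i)⟩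

omit [Fintype G] in
theorem exists_points : ∃ w : Fin 4 → Fin n, Function.Injective w :=
  ⟨Fin.castLE hn, Fin.castLE_injective hn⟩

theorem inner_XX : classInner (piFun G (Fin n)) (piFun G (Fin n)) = 2 := by
  rw [inner_piFun, card_orbits (fun z : Fin n × Fin n => decide (z.1 = z.2))]
  · rw [show Set.range (fun z : Fin n × Fin n => decide (z.1 = z.2)) = Set.univ from ?_]
    · simp
    · refine Set.eq_univ_of_forall fun b => ?_
      obtain ⟨w, hw⟩ := exists_points (G := G) h4 hn
      cases b
      · exact ⟨(w 0, w 1), by simp [hw.eq_iff]⟩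
      · exact ⟨(w 0, w 0), by simp⟩
  · intro g z
    simp
  · rintro ⟨a, b⟩ ⟨c, d⟩ h
    obtain ⟨g, hg⟩ := exists_smul_family h4 hn (ι := Fin 2) (by simp) ![a, b] ![c, d] (by
      have h' : a = b ↔ c = d := by simpa using h
      intro i j
      fin_cases i <;> fin_cases j <;> simp [h', eq_comm (a := b), eq_comm (a := d)])
    exact ⟨g, Prod.ext (hg 0) (hg 1)⟩

theorem inner_XP : classInner (piFun G (Fin n)) (piFun G (Fin 2 ↪ Fin n)) = 3 := by
  rw [inner_piFun, card_orbits
    (fun z : Fin n × (Fin 2 ↪ Fin n) => (decide (z.1 = z.2 0), decide (z.1 = z.2 1)))]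
  · rw [show Set.range (fun z : Fin n × (Fin 2 ↪ Fin n) => (decide (z.1 = z.2 0), decide (z.1 = z.2 1)))
      = (({(true, false), (false, true), (false, false)} : Finset (Bool × Bool)) : Set (Bool × Bool))
      from ?_, Nat.card_coe_set_eq, Set.ncard_coe_finset]
    · rfl
    · obtain ⟨w, hw⟩ := exists_points (G := G) h4 hn
      ext b
      constructor
      · rintro ⟨⟨a, e⟩, rfl⟩
        have : e 0 ≠ e 1 := fun h => absurd (e.injective h) (by decide)
        by_cases h0 : a = e 0 <;> by_cases h1 : a = e 1 <;> simp_all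
      · intro hb
        let e : Fin 2 ↪ Fin n := pairE (hw.ne (by decide : (0 : Fin 4) ≠ 1))
        simp only [Finset.coe_insert, Finset.coe_singleton, Set.mem_insert_iff,
          Set.mem_singleton_iff] at hb
        rcases hb with rfl | rfl | rfl
        · exact ⟨(w 0, e), by simp [e, hw.eq_iff]⟩
        · exact ⟨(w 1, e), by simp [e, hw.eq_iff]⟩
        · exact ⟨(w 2, e), by simp [e, hw.eq_iff]⟩
  · intro g z
    simp
  · rintro ⟨a, e⟩ ⟨c, f⟩ h
    simp only [Prod.mk.injEq, decide_eq_decide] at h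
    obtain ⟨h0, h1⟩ := h
    obtain ⟨g, hg⟩ := exists_smul_family h4 hn (ι := Unit ⊕ Fin 2) (by simp)
      (Sum.elim (fun _ => a) e) (Sum.elim (fun _ => c) f) (fun i j => by
        have key : ∀ k : Fin 2, (a = e k ↔ c = f k) := by
          intro k; fin_cases k <;> assumption
        rcases i with i | i <;> rcases j with j | j
        · simp
        · exact key j
        · simp only [Sum.elim_inl, Sum.elim_inr]
          rw [eq_comm, key i, eq_comm]
        · simp [e.injective.eq_iff, f.injective.eq_iff])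
    exact ⟨g, Prod.ext (hg (.inl ())) (DFunLike.ext _ _ fun k => hg (.inr k))⟩

theorem inner_XU : classInner (piFun G (Fin n)) (piFun G (Pair n)) = 2 := by
  rw [inner_piFun, card_orbits (fun z : Fin n × Pair n => decide (z.1 ∈ z.2.1))]
  · rw [show Set.range (fun z : Fin n × Pair n => decide (z.1 ∈ z.2.1)) = Set.univ from ?_]
    · simp
    · refine Set.eq_univ_of_forall fun b => ?_
      obtain ⟨w, hw⟩ := exists_points (G := G) h4 hn
      let s : Pair n := ⟨{w 0, w 1}, Finset.card_pair fun h => absurd (hw h) (by decide)⟩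
      cases b
      · exact ⟨(w 2, s), by simp [s, hw.eq_iff]⟩
      · exact ⟨(w 0, s), by simp [s]⟩
  · intro g z
    simp [smul_pair_val, (MulAction.injective g).mem_finset_image]
  · rintro ⟨a, s⟩ ⟨c, t⟩ h
    simp only [decide_eq_decide] at h
    obtain ⟨e, rfl⟩ := exists_toPair s
    obtain ⟨f, rfl⟩ := exists_toPair t
    obtain ⟨f', hf', hc0, hc1⟩ : ∃ f', toPair f' = toPair f ∧ (a = e 0 ↔ c = f' 0) ∧
        (a = e 1 ↔ c = f' 1) := by
      have he : e 0 ≠ e 1 := fun h => absurd (e.injective h) (by decide)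
      have hf : f 0 ≠ f 1 := fun h => absurd (f.injective h) (by decide)
      rw [mem_toPair, mem_toPair] at h
      by_cases h0 : (a = e 0 ↔ c = f 0) ∧ (a = e 1 ↔ c = f 1)
      · exact ⟨f, rfl, h0⟩
      · refine ⟨swapE f, toPair_swapE f, ?_⟩
        rw [swapE_zero, swapE_one]
        by_cases p0 : a = e 0 <;> by_cases p1 : a = e 1 <;> by_cases q0 : c = f 0 <;>
          by_cases q1 : c = f 1 <;> simp_all
    obtain ⟨g, hg⟩ := exists_smul_family h4 hn (ι := Unit ⊕ Fin 2) (by simp)
      (Sum.elim (fun _ => a) e) (Sum.elim (fun _ => c) f') (fun i j => by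
        have key : ∀ k : Fin 2, (a = e k ↔ c = f' k) := by
          intro k; fin_cases k <;> assumption
        rcases i with i | i <;> rcases j with j | j
        · simp
        · exact key j
        · simp only [Sum.elim_inl, Sum.elim_inr]
          rw [eq_comm, key i, eq_comm]
        · simp [e.injective.eq_iff, f'.injective.eq_iff])
    refine ⟨g, Prod.ext (hg (.inl ())) ?_⟩
    show g • toPair e = toPair f
    rw [smul_toPair, ← hf']
    exact congrArg toPair (DFunLike.ext _ _ fun k => hg (.inr k))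

theorem inner_PP :
    classInner (piFun G (Fin 2 ↪ Fin n)) (piFun G (Fin 2 ↪ Fin n)) = 7 := by
  rw [inner_piFun, card_orbits (fun z : (Fin 2 ↪ Fin n) × (Fin 2 ↪ Fin n) =>
    (decide (z.1 0 = z.2 0), decide (z.1 0 = z.2 1), decide (z.1 1 = z.2 0), decide (z.1 1 = z.2 1)))]
  · rw [show Set.range (fun z : (Fin 2 ↪ Fin n) × (Fin 2 ↪ Fin n) =>
      (decide (z.1 0 = z.2 0), decide (z.1 0 = z.2 1), decide (z.1 1 = z.2 0),
        decide (z.1 1 = z.2 1))) =
      (({(false, false, false, false), (true, false, false, false), (false, true, false, false),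
        (false, false, true, false), (false, false, false, true), (true, false, false, true),
        (false, true, true, false)} : Finset (Bool × Bool × Bool × Bool)) :
          Set (Bool × Bool × Bool × Bool)) from ?_, Nat.card_coe_set_eq, Set.ncard_coe_finset]
    · rfl
    · obtain ⟨w, hw⟩ := exists_points (G := G) h4 hn
      ext b
      constructor
      · rintro ⟨⟨e, f⟩, rfl⟩
        have : e 0 ≠ e 1 := fun h => absurd (e.injective h) (by decide)
        have : f 0 ≠ f 1 := fun h => absurd (f.injective h) (by decide)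
        by_cases h00 : e 0 = f 0 <;> by_cases h01 : e 0 = f 1 <;> by_cases h10 : e 1 = f 0 <;>
          by_cases h11 : e 1 = f 1 <;> simp_all
      · intro hb
        have mk : ∀ i j : Fin 4, i ≠ j → ∃ e : Fin 2 ↪ Fin n, e 0 = w i ∧ e 1 = w j := fun i j hij =>
          ⟨pairE (hw.ne hij), pairE_zero _, pairE_one _⟩
        obtain ⟨e, he0, he1⟩ := mk 0 1 (by decide)
        simp only [Finset.coe_insert, Finset.coe_singleton, Set.mem_insert_iff,
          Set.mem_singleton_iff] at hb
        rcases hb with rfl | rfl | rfl | rfl | rfl | rfl | rfl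
        · obtain ⟨f, hf0, hf1⟩ := mk 2 3 (by decide)
          exact ⟨(e, f), by simp [he0, he1, hf0, hf1, hw.eq_iff]⟩
        · obtain ⟨f, hf0, hf1⟩ := mk 0 3 (by decide)
          exact ⟨(e, f), by simp [he0, he1, hf0, hf1, hw.eq_iff]⟩
        · obtain ⟨f, hf0, hf1⟩ := mk 3 0 (by decide)
          exact ⟨(e, f), by simp [he0, he1, hf0, hf1, hw.eq_iff]⟩
        · obtain ⟨f, hf0, hf1⟩ := mk 1 3 (by decide)
          exact ⟨(e, f), by simp [he0, he1, hf0, hf1, hw.eq_iff]⟩
        · obtain ⟨f, hf0, hf1⟩ := mk 3 1 (by decide)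
          exact ⟨(e, f), by simp [he0, he1, hf0, hf1, hw.eq_iff]⟩
        · obtain ⟨f, hf0, hf1⟩ := mk 0 1 (by decide)
          exact ⟨(e, f), by simp [he0, he1, hf0, hf1, hw.eq_iff]⟩
        · obtain ⟨f, hf0, hf1⟩ := mk 1 0 (by decide)
          exact ⟨(e, f), by simp [he0, he1, hf0, hf1, hw.eq_iff]⟩
  · intro g z
    simp
  · rintro ⟨e, f⟩ ⟨e', f'⟩ h
    simp only [Prod.mk.injEq, decide_eq_decide] at h
    obtain ⟨g, h1, h2⟩ := conj_ordered (G := G) h4 hn h.1 h.2.1 h.2.2.1 h.2.2.2
    exact ⟨g, Prod.ext h1 h2⟩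

theorem inner_PU : classInner (piFun G (Fin 2 ↪ Fin n)) (piFun G (Pair n)) = 4 := by
  rw [inner_piFun, card_orbits (fun z : (Fin 2 ↪ Fin n) × Pair n =>
    (decide (z.1 0 ∈ z.2.1), decide (z.1 1 ∈ z.2.1)))]
  · rw [show Set.range (fun z : (Fin 2 ↪ Fin n) × Pair n =>
      (decide (z.1 0 ∈ z.2.1), decide (z.1 1 ∈ z.2.1))) = Set.univ from ?_]
    · simp
    · refine Set.eq_univ_of_forall fun b => ?_
      obtain ⟨w, hw⟩ := exists_points (G := G) h4 hn
      let e : Fin 2 ↪ Fin n := pairE (hw.ne (by decide : (0 : Fin 4) ≠ 1))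
      have mk : ∀ i j : Fin 4, i ≠ j → ({w i, w j} : Finset (Fin n)).card = 2 := fun i j hij =>
        Finset.card_pair fun h => hij (hw h)
      obtain ⟨b1, b2⟩ := b
      cases b1 <;> cases b2
      · exact ⟨(e, ⟨{w 2, w 3}, mk 2 3 (by decide)⟩), by simp [e, hw.eq_iff]⟩
      · exact ⟨(e, ⟨{w 1, w 3}, mk 1 3 (by decide)⟩), by simp [e, hw.eq_iff]⟩
      · exact ⟨(e, ⟨{w 0, w 3}, mk 0 3 (by decide)⟩), by simp [e, hw.eq_iff]⟩
      · exact ⟨(e, ⟨{w 0, w 1}, mk 0 1 (by decide)⟩), by simp [e, hw.eq_iff]⟩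
  · intro g z
    simp [smul_pair_val, (MulAction.injective g).mem_finset_image]
  · rintro ⟨e, s⟩ ⟨e', t⟩ h
    simp only [Prod.mk.injEq, decide_eq_decide] at h
    obtain ⟨f, rfl⟩ := exists_toPair s
    obtain ⟨k, rfl⟩ := exists_toPair t
    obtain ⟨k', hk', a, b, c, d⟩ : ∃ k', toPair k' = toPair k ∧ (e 0 = f 0 ↔ e' 0 = k' 0) ∧
        (e 0 = f 1 ↔ e' 0 = k' 1) ∧ (e 1 = f 0 ↔ e' 1 = k' 0) ∧ (e 1 = f 1 ↔ e' 1 = k' 1) := by
      have : e 0 ≠ e 1 := fun h => absurd (e.injective h) (by decide)
      have : e' 0 ≠ e' 1 := fun h => absurd (e'.injective h) (by decide)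
      have : f 0 ≠ f 1 := fun h => absurd (f.injective h) (by decide)
      have : k 0 ≠ k 1 := fun h => absurd (k.injective h) (by decide)
      rw [mem_toPair, mem_toPair, mem_toPair, mem_toPair] at h
      by_cases h0 : (e 0 = f 0 ↔ e' 0 = k 0) ∧ (e 0 = f 1 ↔ e' 0 = k 1) ∧
          (e 1 = f 0 ↔ e' 1 = k 0) ∧ (e 1 = f 1 ↔ e' 1 = k 1)
      · exact ⟨k, rfl, h0⟩
      · refine ⟨swapE k, toPair_swapE k, ?_⟩
        rw [swapE_zero, swapE_one]
        by_cases p0 : e 0 = f 0 <;> by_cases p1 : e 0 = f 1 <;> by_cases p2 : e 1 = f 0 <;>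
          by_cases p3 : e 1 = f 1 <;> by_cases q0 : e' 0 = k 0 <;> by_cases q1 : e' 0 = k 1 <;>
            by_cases q2 : e' 1 = k 0 <;> by_cases q3 : e' 1 = k 1 <;> simp_all
    obtain ⟨g, h1, h2⟩ := conj_ordered (G := G) h4 hn a b c d
    refine ⟨g, Prod.ext h1 ?_⟩
    show g • toPair f = toPair k
    rw [smul_toPair, h2, hk']

theorem inner_UU : classInner (piFun G (Pair n)) (piFun G (Pair n)) = 3 := by
  rw [inner_piFun, card_orbits (fun z : Pair n × Pair n => (z.1.1 ∩ z.2.1).card)]
  · rw [show Set.range (fun z : Pair n × Pair n => (z.1.1 ∩ z.2.1).card) =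
      (({0, 1, 2} : Finset ℕ) : Set ℕ) from ?_, Nat.card_coe_set_eq, Set.ncard_coe_finset]
    · rfl
    · obtain ⟨w, hw⟩ := exists_points (G := G) h4 hn
      ext b
      constructor
      · rintro ⟨⟨s, t⟩, rfl⟩
        have h1 : (s.1 ∩ t.1).card ≤ 2 := (Finset.card_le_card Finset.inter_subset_left).trans_eq s.2
        simp only [Finset.coe_insert, Finset.coe_singleton, Set.mem_insert_iff,
          Set.mem_singleton_iff]
        omega
      · intro hb
        have mk : ∀ i j : Fin 4, i ≠ j → ({w i, w j} : Finset (Fin n)).card = 2 := fun i j hij =>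
          Finset.card_pair fun h => hij (hw h)
        simp only [Finset.coe_insert, Finset.coe_singleton, Set.mem_insert_iff,
          Set.mem_singleton_iff] at hb
        rcases hb with rfl | rfl | rfl
        · exact ⟨(⟨{w 0, w 1}, mk 0 1 (by decide)⟩, ⟨{w 2, w 3}, mk 2 3 (by decide)⟩),
            by simp [hw.eq_iff]⟩
        · refine ⟨(⟨{w 0, w 1}, mk 0 1 (by decide)⟩, ⟨{w 0, w 3}, mk 0 3 (by decide)⟩), ?_⟩
          show ({w 0, w 1} ∩ {w 0, w 3} : Finset (Fin n)).card = 1
          rw [Finset.card_eq_one]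
          refine ⟨w 0, ?_⟩
          ext x
          simp only [Finset.mem_inter, Finset.mem_insert, Finset.mem_singleton]
          constructor
          · rintro ⟨h1 | h1, h2 | h2⟩ <;> first | exact h1 | exact h2 |
              exact absurd (hw (h1.symm.trans h2)) (by decide)
          · rintro rfl
            simp
        · exact ⟨(⟨{w 0, w 1}, mk 0 1 (by decide)⟩, ⟨{w 0, w 1}, mk 0 1 (by decide)⟩),
            by simp [hw.eq_iff]⟩
  · intro g z
    simp [smul_pair_val, ← Finset.image_inter _ _ (MulAction.injective g),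
      Finset.card_image_of_injective _ (MulAction.injective g)]
  · rintro ⟨s, t⟩ ⟨s', t'⟩ h
    -- order both pairs so that a common point comes first
    have key : ∀ s t : Pair n, ∃ e f : Fin 2 ↪ Fin n, toPair e = s ∧ toPair f = t ∧
        (e 0 = f 0 ↔ 1 ≤ (s.1 ∩ t.1).card) ∧ ¬ e 0 = f 1 ∧ ¬ e 1 = f 0 ∧
        (e 1 = f 1 ↔ 2 ≤ (s.1 ∩ t.1).card) := by
      intro s t
      obtain ⟨e, rfl⟩ := exists_toPair s
      obtain ⟨f, rfl⟩ := exists_toPair t
      have he : e 0 ≠ e 1 := fun h => absurd (e.injective h) (by decide)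
      have hf : f 0 ≠ f 1 := fun h => absurd (f.injective h) (by decide)
      have hval : ∀ (e f : Fin 2 ↪ Fin n), ¬ e 0 = f 1 → ¬ e 1 = f 0 →
          ((toPair e).1 ∩ (toPair f).1).card =
            (if e 0 = f 0 then 1 else 0) + (if e 1 = f 1 then 1 else 0) := by
        intro e f h01 h10
        have : e 0 ≠ e 1 := fun h => absurd (e.injective h) (by decide)
        by_cases h00 : e 0 = f 0 <;> by_cases h11 : e 1 = f 1 <;>
          simp_all [toPair, Finset.insert_inter_of_mem, Finset.insert_inter_of_notMem,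
            Finset.singleton_inter_of_mem, Finset.singleton_inter_of_notMem]
      suffices ∃ e' f' : Fin 2 ↪ Fin n, toPair e' = toPair e ∧ toPair f' = toPair f ∧
          ¬ e' 0 = f' 1 ∧ ¬ e' 1 = f' 0 ∧ (e' 1 = f' 1 → e' 0 = f' 0) by
        obtain ⟨e', f', h1, h2, h01, h10, himp⟩ := this
        refine ⟨e', f', h1, h2, ?_, h01, h10, ?_⟩ <;>
          rw [← h1, ← h2, hval e' f' h01 h10] <;>
          by_cases a : e' 0 = f' 0 <;> by_cases b : e' 1 = f' 1 <;> simp_all
      by_cases a : e 0 = f 0
      · exact ⟨e, f, rfl, rfl, fun h => hf (a.symm.trans h), fun h => he (a.trans h.symm), fun _ => a⟩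
      by_cases b : e 0 = f 1
      · refine ⟨e, swapE f, rfl, toPair_swapE f, ?_, ?_, ?_⟩ <;> simp [swapE_zero, swapE_one]
        · exact fun h => hf (h.symm.trans b)
        · exact fun h => he (b.trans h.symm)
        · exact fun _ => b
      by_cases c : e 1 = f 0
      · refine ⟨swapE e, f, toPair_swapE e, rfl, ?_, ?_, ?_⟩ <;> simp [swapE_zero, swapE_one]
        · exact fun h => hf (c.symm.trans h)
        · exact fun h => he (h.trans c.symm)
        · exact fun _ => c
      by_cases d : e 1 = f 1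
      · refine ⟨swapE e, swapE f, toPair_swapE e, toPair_swapE f, ?_, ?_, ?_⟩ <;>
          simp [swapE_zero, swapE_one]
        · exact c
        · exact b
        · exact fun _ => d
      exact ⟨e, f, rfl, rfl, b, c, fun h => absurd h d⟩
    obtain ⟨e, f, he, hf, a, b, c, d⟩ := key s t
    obtain ⟨e', f', he', hf', a', b', c', d'⟩ := key s' t'
    simp only at h
    rw [h] at a d
    obtain ⟨g, h1, h2⟩ := conj_ordered (G := G) h4 hn (e := e) (f := f) (e' := e') (f' := f')
      (a.trans a'.symm) (iff_of_false b b') (iff_of_false c c') (d.trans d'.symm)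
    refine ⟨g, Prod.ext ?_ ?_⟩
    · show g • s = s'
      rw [← he, ← he', smul_toPair, h1]
    · show g • t = t'
      rw [← hf, ← hf', smul_toPair, h2]

end Counts

/-! ### the characters -/

variable (G n)

/-- The standard character. -/
noncomputable def chiA : G → ℂ := piFun G (Fin n) - fun _ => 1

/-- The character of `(n - 2, 2)`. -/
noncomputable def chiB : G → ℂ := piFun G (Pair n) - piFun G (Fin n)

/-- The character of `(n - 2, 1, 1)`. -/
noncomputable def chiC : G → ℂ :=
  piFun G (Fin 2 ↪ Fin n) - piFun G (Pair n) - piFun G (Fin n) + fun _ => 1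

variable {G n}

theorem fixed_ordered (g : G) : Nat.card (MulAction.fixedBy (Fin 2 ↪ Fin n) g) =
    (Nat.card (MulAction.fixedBy (Fin n) g)).descFactorial 2 := by
  classical
  rw [Nat.card_eq_fintype_card (α := MulAction.fixedBy (Fin n) g),
    ← Fintype.card_fin 2, ← Fintype.card_embedding_eq, Fintype.card_fin, ← Nat.card_eq_fintype_card]
  refine Nat.card_congr
    { toFun := fun e => ⟨fun i => ⟨e.1 i, DFunLike.congr_fun e.2 i⟩,
        fun i j h => e.1.injective (congrArg Subtype.val h)⟩
      invFun := fun e => ⟨⟨fun i => (e i).1, fun i j h => e.injective (Subtype.ext h)⟩,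
        DFunLike.ext _ _ fun i => (e i).2⟩
      left_inv := fun e => rfl
      right_inv := fun e => rfl }

theorem fixed_pairs (g : G) (hno : ∀ a : Fin n, g • g • a = a → g • a = a) :
    Nat.card (MulAction.fixedBy (Pair n) g) = (Nat.card (MulAction.fixedBy (Fin n) g)).choose 2 := by
  classical
  set F := Finset.univ.filter fun a : Fin n => g • a = a with hF
  have hFc : Nat.card (MulAction.fixedBy (Fin n) g) = F.card := by
    rw [Nat.card_eq_fintype_card]
    exact Fintype.card_of_subtype F (fun a => by simp [hF])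
  rw [hFc, ← Finset.card_powersetCard 2 F, ← Nat.card_eq_finsetCard]
  refine Nat.card_congr
    { toFun := fun s => ⟨s.1.1, Finset.mem_powersetCard.mpr ⟨fun a ha => ?_, s.1.2⟩⟩
      invFun := fun s => ⟨⟨s.1, (Finset.mem_powersetCard.mp s.2).2⟩, Subtype.ext ?_⟩
      left_inv := fun s => rfl
      right_inv := fun s => rfl }
  · have hs : s.1.1.image (fun a => g • a) = s.1.1 := congrArg Subtype.val s.2
    obtain ⟨x, y, hxy, he⟩ := Finset.card_eq_two.mp s.1.2
    have hmem : ∀ b ∈ s.1.1, g • b ∈ s.1.1 := fun b hb =>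
      hs ▸ Finset.mem_image_of_mem (fun a => g • a) hb
    have hga := hmem a ha
    refine Finset.mem_filter.mpr ⟨Finset.mem_univ _, ?_⟩
    by_contra hne
    refine hne (hno a ?_)
    have hgga := hmem _ hga
    rw [he] at ha hga hgga
    simp only [Finset.mem_insert, Finset.mem_singleton] at ha hga hgga
    by_contra hne2
    rcases ha with rfl | rfl <;> rcases hga with h1 | h1 <;> rcases hgga with h2 | h2 <;>
      first
        | exact hne h1
        | exact hne2 h2
        | exact hne (MulAction.injective g (h2.trans h1.symm))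
  · show s.1.image (fun a => g • a) = s.1
    conv_rhs => rw [← Finset.image_id (s := s.1)]
    refine Finset.image_congr fun a ha => ?_
    exact (Finset.mem_filter.mp ((Finset.mem_powersetCard.mp s.2).1 ha)).2

theorem chiA_val (g : G) : chiA n G g = (Nat.card (MulAction.fixedBy (Fin n) g) : ℂ) - 1 := rfl

theorem chiB_val (g : G) (hno : ∀ a : Fin n, g • g • a = a → g • a = a) :
    chiB n G g = ((Nat.card (MulAction.fixedBy (Fin n) g)).choose 2 : ℂ) -
      Nat.card (MulAction.fixedBy (Fin n) g) := by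
  show (Nat.card (MulAction.fixedBy (Pair n) g) : ℂ) - _ = _
  rw [fixed_pairs g hno]
  rfl

theorem chiC_val (g : G) (hno : ∀ a : Fin n, g • g • a = a → g • a = a) :
    chiC n G g = ((Nat.card (MulAction.fixedBy (Fin n) g)).descFactorial 2 : ℂ) -
      (Nat.card (MulAction.fixedBy (Fin n) g)).choose 2 -
      Nat.card (MulAction.fixedBy (Fin n) g) + 1 := by
  show (Nat.card (MulAction.fixedBy (Fin 2 ↪ Fin n) g) : ℂ) - Nat.card (MulAction.fixedBy (Pair n) g) -
    _ + 1 = _
  rw [fixed_pairs g hno, fixed_ordered g]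
  rfl

theorem card_fixed_one : Nat.card (MulAction.fixedBy (Fin n) (1 : G)) = n := by
  simp

theorem irr_of_pos [Fintype G] {α : G → ℂ} (ha : IsGeneralizedCharacter G α)
    (h : classInner α α = 1) {m : ℕ} (hm : 0 < m) (hval : α 1 = m) : IsIrrCharacter G α := by
  rcases IsGenChar.norm_one ha h with h1 | h1
  · exact h1
  · obtain ⟨k, hk, hk'⟩ := IsIrr.one_eq_pos h1
    rw [Pi.neg_apply, hval] at hk'
    have : ((m + k : ℕ) : ℂ) = 0 := by
      push_cast
      rw [← hk']
      ring
    have := Nat.cast_eq_zero.mp this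
    omega

theorem irr_all [Fintype G] (h4 : MulAction.IsMultiplyPretransitive G (Fin n) 4) (hn : 5 ≤ n) :
    IsIrrCharacter G (chiA n G) ∧ IsIrrCharacter G (chiB n G) ∧ IsIrrCharacter G (chiC n G) := by
  classical
  have hn4 : 4 ≤ n := by omega
  have hX := IsGenChar.of_isCharacter (isCharacter_piFun (G := G) (Ω := Fin n))
  have hU := IsGenChar.of_isCharacter (isCharacter_piFun (G := G) (Ω := Pair n))
  have hP := IsGenChar.of_isCharacter (isCharacter_piFun (G := G) (Ω := Fin 2 ↪ Fin n))
  have h1 := IsGenChar.of_isCharacter (IsChar.one (G := G))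
  haveI := pretransitive_points (G := G) h4 hn4
  haveI := pretransitive_ordered (G := G) h4 hn4
  haveI := pretransitive_pairs (G := G) h4 hn4
  haveI : Nonempty (Fin n) := ⟨⟨0, by omega⟩⟩
  haveI : Nonempty (Fin 2 ↪ Fin n) := ⟨Fin.castLEEmb (by omega)⟩
  haveI : Nonempty (Pair n) := ⟨toPair (Fin.castLEEmb (by omega))⟩
  have e11 : classInner (fun _ : G => (1 : ℂ)) (fun _ => 1) = 1 := classInner_self_irr isIrr_one
  have x1 := inner_piFun_one (G := G) (Y := Fin n)
  have u1 := inner_piFun_one (G := G) (Y := Pair n)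
  have p1 := inner_piFun_one (G := G) (Y := Fin 2 ↪ Fin n)
  have s1 : ∀ {Y : Type} [Fintype Y] [MulAction G Y],
      classInner (piFun G Y) (fun _ : G => (1 : ℂ)) = 1 →
      classInner (fun _ : G => (1 : ℂ)) (piFun G Y) = 1 := fun h => by
    rw [← classInner_conj_symm, h, map_one]
  have xx := inner_XX (G := G) h4 hn4
  have xp := inner_XP (G := G) h4 hn4
  have xu := inner_XU (G := G) h4 hn4
  have pp := inner_PP (G := G) h4 hn4
  have pu := inner_PU (G := G) h4 hn4
  have uu := inner_UU (G := G) h4 hn4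
  have px : classInner (piFun G (Fin 2 ↪ Fin n)) (piFun G (Fin n)) = 3 := inner_piFun_comm.trans xp
  have ux : classInner (piFun G (Pair n)) (piFun G (Fin n)) = 2 := inner_piFun_comm.trans xu
  have up : classInner (piFun G (Pair n)) (piFun G (Fin 2 ↪ Fin n)) = 4 := inner_piFun_comm.trans pu
  have hno : ∀ a : Fin n, (1 : G) • (1 : G) • a = a → (1 : G) • a = a := fun a _ => one_smul G a
  have hv : Nat.card (MulAction.fixedBy (Fin n) (1 : G)) = n := card_fixed_one
  have hch : n.choose 2 * 2 = n * (n - 1) := by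
    rw [Nat.choose_two_right, Nat.div_mul_cancel (Nat.even_mul_pred_self n).two_dvd]
  have hdf : n.descFactorial 2 = n * (n - 1) := by
    simp [Nat.descFactorial_succ, mul_comm]
  have hge : 2 * n + 1 ≤ n * (n - 1) := by
    obtain ⟨k, rfl⟩ : ∃ k, n = k + 5 := ⟨n - 5, by omega⟩
    simp only [Nat.add_succ_sub_one]
    nlinarith
  refine ⟨irr_of_pos (IsGenChar.sub hX h1) ?_ (m := n - 1) (by omega) ?_,
    irr_of_pos (IsGenChar.sub hU hX) ?_ (m := n.choose 2 - n) (by omega) ?_,
    irr_of_pos (IsGenChar.add (IsGenChar.sub (IsGenChar.sub hP hU) hX) h1) ?_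
      (m := n.choose 2 + 1 - n) (by omega) ?_⟩
  · rw [chiA, classInner_sub_left, classInner_sub_right, classInner_sub_right, xx, x1, s1 x1, e11]
    norm_num
  · rw [chiA_val, hv, Nat.cast_sub (by omega), Nat.cast_one]
  · rw [chiB, classInner_sub_left, classInner_sub_right, classInner_sub_right, uu, ux, xu, xx]
    norm_num
  · rw [chiB_val _ hno, hv, Nat.cast_sub (by omega)]
  · rw [chiC]
    simp only [classInner_add_left, classInner_add_right, classInner_sub_left, classInner_sub_right,
      pp, pu, up, uu, px, xp, ux, xu, xx, x1, u1, p1, s1 x1, s1 u1, s1 p1, e11]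
    norm_num
  · rw [chiC_val _ hno, hv, Nat.cast_sub (by omega)]
    have : (n.descFactorial 2 : ℂ) = (n.choose 2 : ℂ) * 2 := by
      exact_mod_cast hdf.trans hch.symm
    push_cast
    rw [this]
    ring

/-! ### elements -/

open Equiv

theorem no_two_cycle {σ : Perm (Fin n)} (h : 2 ∉ σ.cycleType) (a : Fin n) (ha : σ (σ a) = a) :
    σ a = a := by
  by_contra hne
  apply h
  have hc := Equiv.Perm.isCycle_cycleOf σ hne
  have h2 : (σ.cycleOf a ^ 2) a = a := by
    rw [Equiv.Perm.cycleOf_pow_apply_self, pow_two, Equiv.Perm.mul_apply, ha]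
  have h3 : σ.cycleOf a ^ 2 = 1 := by
    refine hc.pow_eq_one_iff.mpr ⟨a, ?_, h2⟩
    rwa [Equiv.Perm.cycleOf_apply_self]
  have h4 : orderOf (σ.cycleOf a) = 2 := orderOf_eq_prime h3 hc.ne_one
  rw [hc.orderOf] at h4
  rw [Equiv.Perm.cycleType_def, Multiset.mem_map]
  exact ⟨σ.cycleOf a, Finset.mem_def.mp (Equiv.Perm.cycleOf_mem_cycleFactorsFinset_iff.mpr
    (Equiv.Perm.mem_support.mpr hne)), h4⟩

/-- An even permutation of prescribed cycle type. -/
theorem exists_alt (m : Multiset ℕ) (h2 : ∀ a ∈ m, 2 ≤ a) (hsum : m.sum ≤ n)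
    (heven : Even (m.sum + m.card)) :
    ∃ x : alternatingGroup (Fin n), (x : Perm (Fin n)).cycleType = m ∧ orderOf x = m.lcm ∧
      Nat.card (MulAction.fixedBy (Fin n) x) = n - m.sum := by
  classical
  obtain ⟨σ, hσ⟩ := (Equiv.Perm.exists_with_cycleType_iff (Fin n)).mpr
    ⟨by rwa [Fintype.card_fin], h2⟩
  have hmem : σ ∈ alternatingGroup (Fin n) := by
    rw [Equiv.Perm.mem_alternatingGroup, Equiv.Perm.sign_of_cycleType, hσ]
    exact heven.neg_one_pow
  refine ⟨⟨σ, hmem⟩, hσ, ?_, ?_⟩
  · rw [← hσ, Equiv.Perm.lcm_cycleType, ← Subgroup.orderOf_coe]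
  · have h1 := Equiv.Perm.card_fixedPoints σ
    rw [Fintype.card_fin, hσ, ← Nat.card_eq_fintype_card] at h1
    rw [← h1]
    exact Nat.card_congr (Equiv.subtypeEquivRight fun a => Iff.rfl)

end Cfsg.Agent.Invol.AltZero
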