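import Mathlib
import Cfsg.Prelude.Def_Amalgam
import Cfsg.Agent.Lib.Invol.Closed

/-!
# The coset graph of a pair of subgroups
-/

namespace Cfsg.Agent.Invol

variable {X : Type*} [Group X] {M₁ M₂ : Subgroup X}

open MulAction

theorem smul_inl (g x : X) :
    g • (Sum.inl (x : X ⧸ M₁) : Cfsg.CosetVertex M₁ M₂) = Sum.inl ((g * x : X) : X ⧸ M₁) := rfl

theorem smul_inr (g x : X) :
    g • (Sum.inr (x : X ⧸ M₂) : Cfsg.CosetVertex M₁ M₂) = Sum.inr ((g * x : X) : X ⧸ M₂) := rfl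

theorem stabilizer_inl (x : X) :
    stabilizer X (Sum.inl (x : X ⧸ M₁) : Cfsg.CosetVertex M₁ M₂) =
      M₁.map (MulAut.conj x).toMonoidHom := by
  ext g
  rw [mem_stabilizer_iff, mem_map_conj, smul_inl, Sum.inl.injEq, eq_comm, QuotientGroup.eq, mul_assoc]

theorem stabilizer_inr (x : X) :
    stabilizer X (Sum.inr (x : X ⧸ M₂) : Cfsg.CosetVertex M₁ M₂) =
      M₂.map (MulAut.conj x).toMonoidHom := by
  ext g
  rw [mem_stabilizer_iff, mem_map_conj, smul_inr, Sum.inr.injEq, eq_comm, QuotientGroup.eq, mul_assoc]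

theorem adj_iff {a b : Cfsg.CosetVertex M₁ M₂} :
    (Cfsg.cosetGraph M₁ M₂).Adj a b ↔ ∃ x : X,
      (a = Sum.inl (x : X ⧸ M₁) ∧ b = Sum.inr (x : X ⧸ M₂)) ∨
      (b = Sum.inl (x : X ⧸ M₁) ∧ a = Sum.inr (x : X ⧸ M₂)) := by
  rw [Cfsg.cosetGraph, SimpleGraph.fromRel_adj]
  constructor
  · rintro ⟨-, ⟨x, h⟩ | ⟨x, h⟩⟩
    · exact ⟨x, Or.inl h⟩
    · exact ⟨x, Or.inr h⟩
  · rintro ⟨x, ⟨rfl, rfl⟩ | ⟨rfl, rfl⟩⟩
    · exact ⟨Sum.inl_ne_inr, Or.inl ⟨x, rfl, rfl⟩⟩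
    · exact ⟨Sum.inr_ne_inl, Or.inr ⟨x, rfl, rfl⟩⟩

theorem adj_smul {a b : Cfsg.CosetVertex M₁ M₂} (g : X) (h : (Cfsg.cosetGraph M₁ M₂).Adj a b) :
    (Cfsg.cosetGraph M₁ M₂).Adj (g • a) (g • b) := by
  rw [adj_iff] at h ⊢
  obtain ⟨x, ⟨rfl, rfl⟩ | ⟨rfl, rfl⟩⟩ := h
  · exact ⟨g * x, Or.inl ⟨rfl, rfl⟩⟩
  · exact ⟨g * x, Or.inr ⟨rfl, rfl⟩⟩

theorem adj_one : (Cfsg.cosetGraph M₁ M₂).Adj
    (Sum.inl ((1 : X) : X ⧸ M₁)) (Sum.inr ((1 : X) : X ⧸ M₂)) :=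
  adj_iff.mpr ⟨1, Or.inl ⟨rfl, rfl⟩⟩

theorem smul_inl_one (g : X) :
    g • (Sum.inl ((1 : X) : X ⧸ M₁) : Cfsg.CosetVertex M₁ M₂) = Sum.inl (g : X ⧸ M₁) := by
  rw [smul_inl, mul_one]

theorem smul_inr_one (g : X) :
    g • (Sum.inr ((1 : X) : X ⧸ M₂) : Cfsg.CosetVertex M₁ M₂) = Sum.inr (g : X ⧸ M₂) := by
  rw [smul_inr, mul_one]

theorem cosetGraph_connected (hgen : M₁ ⊔ M₂ = ⊤) : (Cfsg.cosetGraph M₁ M₂).Connected := by
  have key : ∀ g : X, (Cfsg.cosetGraph M₁ M₂).Reachable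
      (Sum.inl ((1 : X) : X ⧸ M₁)) (Sum.inl (g : X ⧸ M₁)) := by
    intro g
    have hg : g ∈ Subgroup.closure ((M₁ : Set X) ∪ M₂) := by
      rw [Subgroup.closure_union, Subgroup.closure_eq, Subgroup.closure_eq, hgen]
      trivial
    have step : ∀ a m : X, (m ∈ M₁ ∨ m ∈ M₂) →
        (Cfsg.cosetGraph M₁ M₂).Reachable (Sum.inl (a : X ⧸ M₁)) (Sum.inl ((a * m : X) : X ⧸ M₁)) := by
      rintro a m (hm | hm)
      · rw [QuotientGroup.mk_mul_of_mem a hm]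
      · have h1 : (Cfsg.cosetGraph M₁ M₂).Adj (Sum.inl (a : X ⧸ M₁)) (Sum.inr (a : X ⧸ M₂)) :=
          adj_iff.mpr ⟨a, Or.inl ⟨rfl, rfl⟩⟩
        have h2 : (Cfsg.cosetGraph M₁ M₂).Adj (Sum.inr (a : X ⧸ M₂))
            (Sum.inl ((a * m : X) : X ⧸ M₁)) :=
          adj_iff.mpr ⟨a * m, Or.inr ⟨rfl, by rw [QuotientGroup.mk_mul_of_mem a hm]⟩⟩
        exact h1.reachable.trans h2.reachable
    induction hg using Subgroup.closure_induction_right with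
    | one => rfl
    | mul_right a _ m hm ih => exact ih.trans (step a m hm)
    | mul_inv_cancel a _ m hm ih =>
      exact ih.trans (step a m⁻¹ (hm.imp inv_mem inv_mem))
  have : Nonempty (Cfsg.CosetVertex M₁ M₂) := ⟨Sum.inl ((1 : X) : X ⧸ M₁)⟩
  rw [SimpleGraph.connected_iff_exists_forall_reachable]
  refine ⟨Sum.inl ((1 : X) : X ⧸ M₁), ?_⟩
  rintro (q | q) <;> induction q using QuotientGroup.induction_on with | _ g => ?_
  · exact key g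
  · exact (key g).trans (adj_iff.mpr ⟨g, Or.inl ⟨rfl, rfl⟩⟩ :
      (Cfsg.cosetGraph M₁ M₂).Adj _ _).reachable

/-- The kernel of the action on the coset graph lies in `M₁ ⊓ M₂`. -/
theorem eq_one_of_fixes_all (h : ∀ N : Subgroup X, N ≤ M₁ ⊓ M₂ → N.Normal → N = ⊥) {g : X}
    (hg : ∀ v : Cfsg.CosetVertex M₁ M₂, g • v = v) : g = 1 := by
  have hk := h (MulAction.toPermHom X (Cfsg.CosetVertex M₁ M₂)).ker ?_ inferInstance
  · rw [← Subgroup.mem_bot, ← hk, MonoidHom.mem_ker]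
    exact Equiv.ext hg
  · intro x hx
    rw [MonoidHom.mem_ker] at hx
    have h1 : x ∈ stabilizer X (Sum.inl ((1 : X) : X ⧸ M₁) : Cfsg.CosetVertex M₁ M₂) :=
      mem_stabilizer_iff.mpr (Equiv.ext_iff.mp hx (Sum.inl ((1 : X) : X ⧸ M₁)))
    have h2 : x ∈ stabilizer X (Sum.inr ((1 : X) : X ⧸ M₂) : Cfsg.CosetVertex M₁ M₂) :=
      mem_stabilizer_iff.mpr (Equiv.ext_iff.mp hx (Sum.inr ((1 : X) : X ⧸ M₂)))
    rw [stabilizer_inl, map_conj_one] at h1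
    rw [stabilizer_inr, map_conj_one] at h2
    exact ⟨h1, h2⟩

end Cfsg.Agent.Invol
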