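import Cfsg.Agent.Lib.Invol.Amalgam
import Cfsg.Agent.Lib.Invol.CharP
import Cfsg.Agent.Lib.Transfer.Cores
import Cfsg.Agent.S2746

/-!
# Amalgam pairs of characteristic `p`: vertex stabilizers and critical pairs
-/

set_option autoImplicit false

namespace Cfsg.Agent.Invol.Amal

open MulAction

variable {X : Type*} [Group X] {M₁ M₂ : Subgroup X}

/-- The conjugate of a subgroup. -/
abbrev cj (x : X) (M : Subgroup X) : Subgroup X := M.map (MulAut.conj x).toMonoidHom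

theorem mem_cj {x g : X} {M : Subgroup X} : g ∈ cj x M ↔ x⁻¹ * g * x ∈ M := Invol.mem_map_conj

theorem cj_cj (x y : X) (M : Subgroup X) : cj x (cj y M) = cj (x * y) M := by
  ext g
  simp only [mem_cj, mul_inv_rev, mul_assoc]

theorem cj_one (M : Subgroup X) : cj 1 M = M := Invol.map_conj_one M

theorem cj_self {g : X} {M : Subgroup X} (hg : g ∈ M) : cj g M = M := by
  ext y
  rw [mem_cj]
  constructor
  · intro h
    have := M.mul_mem (M.mul_mem hg h) (M.inv_mem hg)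
    simpa [mul_assoc] using this
  · exact fun h => M.mul_mem (M.mul_mem (M.inv_mem hg) h) hg

theorem finite_cj (x : X) (M : Subgroup X) [Finite M] : Finite (cj x M) :=
  Finite.of_equiv _ (M.equivMapOfInjective _ (MulAut.conj x).injective).toEquiv

theorem edge_cases {a b : Cfsg.CosetVertex M₁ M₂} (h : (Cfsg.cosetGraph M₁ M₂).Adj a b) :
    ∃ x : X, (stabilizer X a = cj x M₁ ∧ stabilizer X b = cj x M₂) ∨
      (stabilizer X b = cj x M₁ ∧ stabilizer X a = cj x M₂) := by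
  obtain ⟨x, ⟨rfl, rfl⟩ | ⟨rfl, rfl⟩⟩ := Invol.adj_iff.mp h
  · exact ⟨x, Or.inl ⟨stabilizer_inl x, stabilizer_inr x⟩⟩
  · exact ⟨x, Or.inr ⟨stabilizer_inl x, stabilizer_inr x⟩⟩

theorem edge_inf {a b : Cfsg.CosetVertex M₁ M₂} {x : X}
    (h : (stabilizer X a = cj x M₁ ∧ stabilizer X b = cj x M₂) ∨
      (stabilizer X b = cj x M₁ ∧ stabilizer X a = cj x M₂)) :
    stabilizer X a ⊓ stabilizer X b = cj x (M₁ ⊓ M₂) := by
  rcases h with ⟨h1, h2⟩ | ⟨h1, h2⟩
  · rw [h1, h2]; exact (Subgroup.map_inf _ _ _ (MulAut.conj x).injective).symm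
  · rw [h1, h2, inf_comm]; exact (Subgroup.map_inf _ _ _ (MulAut.conj x).injective).symm

/-- A subgroup of an edge stabilizer normalized by both vertex stabilizers is trivial. -/
theorem eq_bot_of_normalized (hA : Cfsg.IsAmalgamPair M₁ M₂) {a b : Cfsg.CosetVertex M₁ M₂}
    (h : (Cfsg.cosetGraph M₁ M₂).Adj a b) {U : Subgroup X}
    (hU : U ≤ stabilizer X a ⊓ stabilizer X b) (h1 : stabilizer X a ≤ Subgroup.normalizer (U : Set X))
    (h2 : stabilizer X b ≤ Subgroup.normalizer (U : Set X)) : U = ⊥ := by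
  obtain ⟨x, hx⟩ := edge_cases h
  have hgen : cj x M₁ ⊔ cj x M₂ = ⊤ := by
    rw [cj, cj, ← Subgroup.map_sup, hA.1, Subgroup.map_top_of_surjective _ (MulAut.conj x).surjective]
  have htop : Subgroup.normalizer (U : Set X) = ⊤ := by
    rw [eq_top_iff, ← hgen]
    rcases hx with ⟨e1, e2⟩ | ⟨e1, e2⟩
    · exact sup_le (e1 ▸ h1) (e2 ▸ h2)
    · exact sup_le (e1 ▸ h2) (e2 ▸ h1)
  have hn : U.Normal := Subgroup.normalizer_eq_top_iff.mp htop
  refine hA.2.2.2 U (fun y hy => ?_) hn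
  have h3 := hU (hn.conj_mem y hy x)
  rw [edge_inf hx, mem_cj] at h3
  simpa [mul_assoc] using h3

variable {p : ℕ}

/-- `T` is a Sylow `p`-subgroup of `H`. -/
def IsSyl (p : ℕ) (T H : Subgroup X) : Prop := T ≤ H ∧ IsPGroup p T ∧ ¬ p ∣ T.relIndex H

theorem IsSyl.conj {T H : Subgroup X} (h : IsSyl p T H) (x : X) : IsSyl p (cj x T) (cj x H) :=
  ⟨Subgroup.map_mono h.1, h.2.1.map _, by
    rw [Subgroup.relIndex_map_map_of_injective _ _ (MulAut.conj x).injective]; exact h.2.2⟩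

theorem IsSyl.mono {T E H : Subgroup X} (h : IsSyl p T H) (hTE : T ≤ E) (hEH : E ≤ H) : IsSyl p T E :=
  ⟨hTE, h.2.1, fun hd => h.2.2 (hd.trans (Subgroup.relIndex_mul_relIndex T E H hTE hEH ▸ Dvd.intro _ rfl))⟩

theorem isSyl_map {H : Subgroup X} [Finite H] [Fact p.Prime] (S : Sylow p H) :
    IsSyl p ((S : Subgroup H).map H.subtype) H := by
  refine ⟨Subgroup.map_subtype_le _, S.isPGroup'.map _, ?_⟩
  rw [Subgroup.relIndex, Subgroup.subgroupOf, Subgroup.comap_map_eq_self_of_injective H.subtype_injective]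
  exact S.not_dvd_index

theorem IsSyl.exists_sylow {T H : Subgroup X} [Fact p.Prime] [Finite H] (h : IsSyl p T H) :
    ∃ S : Sylow p H, (S : Subgroup H).map H.subtype = T := by
  refine ⟨(h.2.1.comap_subtype : IsPGroup p (T.subgroupOf H)).toSylow h.2.2, ?_⟩
  show (T.subgroupOf H).map H.subtype = T
  rw [Subgroup.subgroupOf_map_subtype, inf_eq_left.mpr h.1]

theorem IsSyl.exists_conj {T T' H : Subgroup X} [Fact p.Prime] [Finite H] (h : IsSyl p T H) (h' : IsSyl p T' H) :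
    ∃ g ∈ H, cj g T = T' := by
  obtain ⟨S, rfl⟩ := h.exists_sylow
  obtain ⟨S', rfl⟩ := h'.exists_sylow
  obtain ⟨g, rfl⟩ := MulAction.exists_smul_eq H S S'
  refine ⟨g, g.2, ?_⟩
  rw [Sylow.coe_subgroup_smul]
  change (((S : Subgroup H).map H.subtype).map _) = ((S : Subgroup H).map (MulAut.conj g).toMonoidHom).map H.subtype
  rw [Subgroup.map_map, Subgroup.map_map]
  rfl

theorem IsSyl.core_le {T H : Subgroup X} [Fact p.Prime] [Finite H] (h : IsSyl p T H) : Cfsg.pCoreOf p H ≤ T := by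
  obtain ⟨S, rfl⟩ := h.exists_sylow
  exact Subgroup.map_mono (Transfer.pCore_le_sylow S)

/-- `Ω₁(Z(T))`. -/
abbrev omZ (p : ℕ) (T : Subgroup X) : Subgroup X :=
  Cfsg.omegaOne p (T ⊓ Subgroup.centralizer (T : Set X))

theorem omZ_le (T : Subgroup X) : omZ p T ≤ T ⊓ Subgroup.centralizer (T : Set X) :=
  (Subgroup.closure_le _).mpr fun _ hx => hx.1

theorem omZ_cj (x : X) (T : Subgroup X) : cj x (omZ p T) ≤ omZ p (cj x T) := by
  refine Subgroup.map_le_iff_le_comap.mpr ?_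
  refine (Subgroup.closure_le _).mpr ?_
  rintro y ⟨⟨hyT, hyC⟩, hy⟩
  refine Subgroup.subset_closure ⟨⟨⟨y, hyT, rfl⟩, Subgroup.mem_centralizer_iff.mpr ?_⟩, by rw [← map_pow, hy, map_one]⟩
  rintro _ ⟨t, ht, rfl⟩
  rw [← map_mul, ← map_mul, Subgroup.mem_centralizer_iff.mp hyC t ht]

theorem omZ_le_closure {T H : Subgroup X} [Fact p.Prime] [Finite H] (h : IsSyl p T H) :
    omZ p T ≤ Cfsg.sylowCenterClosure p H := by
  obtain ⟨S, rfl⟩ := h.exists_sylow
  exact le_iSup (fun S : Sylow p H => omZ p ((S : Subgroup H).map H.subtype)) S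

theorem charP_conj (M : Subgroup X) (x : X)
    (hM : Subgroup.centralizer (Cfsg.pCore p M : Set M) ≤ Cfsg.pCore p M) {g : X} (hg : g ∈ cj x M)
    (hc : ∀ q ∈ Cfsg.pCoreOf p (cj x M), q * g = g * q) : g ∈ Cfsg.pCoreOf p (cj x M) := by
  let e : M ≃* ↥(cj x M) := M.equivMapOfInjective _ (MulAut.conj x).injective
  obtain ⟨m, hm⟩ := e.surjective ⟨g, hg⟩
  have hmQ : m ∈ Cfsg.pCore p M := by
    refine hM (Subgroup.mem_centralizer_iff.mpr fun q hq => e.injective ?_)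
    have h1 : e q ∈ Cfsg.pCore p (cj x M) := Invol.pCore_map_le_of_mulEquiv e ⟨q, hq, rfl⟩
    rw [map_mul, map_mul, hm]
    exact Subtype.ext (hc _ ⟨_, h1, rfl⟩)
  exact ⟨⟨g, hg⟩, hm ▸ Invol.pCore_map_le_of_mulEquiv e ⟨m, hmQ, rfl⟩, rfl⟩

section CharP

variable [Fact p.Prime] (h : Cfsg.IsCharPAmalgamPair p M₁ M₂)
include h

theorem stab_finite (δ : Cfsg.CosetVertex M₁ M₂) : Finite (stabilizer X δ) := by
  obtain ⟨-, hf1, hf2, -⟩ := h
  rcases δ with q | q <;> induction q using QuotientGroup.induction_on with | _ x => ?_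
  · rw [stabilizer_inl]; exact finite_cj x M₁
  · rw [stabilizer_inr]; exact finite_cj x M₂

theorem centralizer_vertexQ (δ : Cfsg.CosetVertex M₁ M₂) {g : X} (hg : g ∈ stabilizer X δ)
    (hc : ∀ q ∈ Cfsg.vertexQ p δ, q * g = g * q) : g ∈ Cfsg.vertexQ p δ := by
  obtain ⟨-, -, -, -, -, -, hc1, hc2⟩ := h
  rcases δ with q | q <;> induction q using QuotientGroup.induction_on with | _ x => ?_
  · simp only [Cfsg.vertexQ, stabilizer_inl] at hg hc ⊢; exact charP_conj M₁ x hc1 hg hc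
  · simp only [Cfsg.vertexQ, stabilizer_inr] at hg hc ⊢; exact charP_conj M₂ x hc2 hg hc

theorem omZ_le_vertexQ {δ : Cfsg.CosetVertex M₁ M₂} {T : Subgroup X} (hT : IsSyl p T (stabilizer X δ)) :
    omZ p T ≤ Cfsg.vertexQ p δ := by
  have := stab_finite h δ
  intro z hz
  have hz' := omZ_le T hz
  exact centralizer_vertexQ h δ (hT.1 hz'.1)
    fun q hq => Subgroup.mem_centralizer_iff.mp hz'.2 q (hT.core_le hq)

theorem vertexZ_le_vertexQ (δ : Cfsg.CosetVertex M₁ M₂) : Cfsg.vertexZ p δ ≤ Cfsg.vertexQ p δ := by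
  have := stab_finite h δ
  exact iSup_le fun S => omZ_le_vertexQ h (isSyl_map S)

theorem vertexZ_le_stab (δ : Cfsg.CosetVertex M₁ M₂) : Cfsg.vertexZ p δ ≤ stabilizer X δ :=
  (vertexZ_le_vertexQ h δ).trans (Subgroup.map_subtype_le _)

theorem cj_vertexZ {δ : Cfsg.CosetVertex M₁ M₂} {g : X} (hg : g ∈ stabilizer X δ) :
    cj g (Cfsg.vertexZ p δ) ≤ Cfsg.vertexZ p δ := by
  have := stab_finite h δ
  rw [cj, Cfsg.vertexZ, Cfsg.sylowCenterClosure, Subgroup.map_iSup]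
  refine iSup_le fun S => ?_
  have hS := (isSyl_map S).conj g
  rw [cj_self hg] at hS
  exact (omZ_cj g _).trans (omZ_le_closure hS)

theorem edge_syl {a b : Cfsg.CosetVertex M₁ M₂} (hab : (Cfsg.cosetGraph M₁ M₂).Adj a b) {T : Subgroup X}
    (hT : IsSyl p T (stabilizer X a ⊓ stabilizer X b)) :
    IsSyl p T (stabilizer X a) ∧ IsSyl p T (stabilizer X b) := by
  obtain ⟨-, hf1, hf2, -, -, hsyl, -, -⟩ := h
  obtain ⟨x, hx⟩ := edge_cases hab
  rw [edge_inf hx] at hT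
  have h0 := hT.conj x⁻¹
  rw [cj_cj, inv_mul_cancel, cj_one] at h0
  set T₀ := cj x⁻¹ T
  have : Finite ↥(M₁ ⊓ M₂) := Finite.of_injective _ (Subgroup.inclusion_injective (inf_le_left : M₁ ⊓ M₂ ≤ M₁))
  obtain ⟨S, hS⟩ := h0.exists_sylow
  have key : ∀ (M : Subgroup X) [Finite M], M₁ ⊓ M₂ ≤ M → (∀ P : Sylow p M, Nat.card S = Nat.card P) →
      IsSyl p T₀ M := by
    intro M _ hle hc
    obtain ⟨P⟩ : Nonempty (Sylow p M) := Sylow.nonempty
    refine ⟨h0.1.trans hle, h0.2.1, ?_⟩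
    have hcard : Nat.card (T₀.subgroupOf M) = Nat.card P := by
      rw [Nat.card_congr (Subgroup.subgroupOfEquivOfLe (h0.1.trans hle)).toEquiv, ← hS,
        Subgroup.card_map_of_injective (M₁ ⊓ M₂).subtype_injective]
      exact hc P
    have h1 := (T₀.subgroupOf M).card_mul_index
    rw [hcard, ← (P : Subgroup M).card_mul_index] at h1
    rw [Subgroup.relIndex, Nat.eq_of_mul_eq_mul_left Nat.card_pos h1]
    exact P.not_dvd_index
  obtain ⟨P₁⟩ : Nonempty (Sylow p M₁) := Sylow.nonempty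
  obtain ⟨P₂⟩ : Nonempty (Sylow p M₂) := Sylow.nonempty
  have k1 := (key M₁ inf_le_left fun P => (hsyl S P P₂).1).conj x
  have k2 := (key M₂ inf_le_right fun P => (hsyl S P₁ P).2).conj x
  rw [cj_cj, mul_inv_cancel, cj_one] at k1 k2
  rcases hx with ⟨e1, e2⟩ | ⟨e1, e2⟩
  · rw [e1, e2]; exact ⟨k1, k2⟩
  · rw [e1, e2]; exact ⟨k2, k1⟩

theorem connected : (Cfsg.cosetGraph M₁ M₂).Connected := Invol.cosetGraph_connected h.1.1

theorem le_stab_of_dist_le {δ μ : Cfsg.CosetVertex M₁ M₂}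
    (hd : (Cfsg.cosetGraph M₁ M₂).dist δ μ ≤ Cfsg.criticalDistance p M₁ M₂) :
    Cfsg.vertexZ p δ ≤ stabilizer X μ := by
  obtain ⟨w, hw⟩ := ((connected h).preconnected μ δ).exists_walk_length_eq_dist
  cases w with
  | nil => exact vertexZ_le_stab h δ
  | @cons _ ν _ hadj w' =>
    rw [SimpleGraph.Walk.length_cons, SimpleGraph.dist_comm] at hw
    have h1 : (Cfsg.cosetGraph M₁ M₂).dist δ ν < Cfsg.criticalDistance p M₁ M₂ := by
      have := SimpleGraph.dist_le w'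
      rw [SimpleGraph.dist_comm] at this
      omega
    have h2 : Cfsg.vertexZ p δ ≤ Cfsg.neighbourKernel ν := by
      by_contra hn
      exact Nat.notMem_of_lt_sInf h1 ⟨δ, ν, rfl, hn⟩
    exact h2.trans (inf_le_right.trans ((iInf_le _ μ).trans (iInf_le _ hadj.symm)))

/-- The next vertex on a shortest path from `α` to `α'`. -/
theorem exists_next {α α' : Cfsg.CosetVertex M₁ M₂} (hc : Cfsg.IsCriticalPair p α α') :
    ∃ β, (Cfsg.cosetGraph M₁ M₂).Adj α β ∧
      (Cfsg.cosetGraph M₁ M₂).dist β α' < Cfsg.criticalDistance p M₁ M₂ := by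
  obtain ⟨w, hw⟩ := ((connected h).preconnected α α').exists_walk_length_eq_dist
  cases w with
  | nil => exact absurd ((vertexZ_le_vertexQ h α).trans (S2746.result M₁ M₂ h α)) hc.1
  | @cons _ ν _ hadj w' =>
    refine ⟨ν, hadj, ?_⟩
    rw [SimpleGraph.Walk.length_cons, hc.2] at hw
    have := SimpleGraph.dist_le w'
    omega

end CharP

end Cfsg.Agent.Invol.Amal
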