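import Cfsg.Prelude
import Cfsg.Agent.Lib.Invol.AmalgamP
import Cfsg.Agent.Lib.Invol.PResidual
import Cfsg.Agent.Lib.Transfer.Fusion

/-!
# The iterated neighbourhood groups of a vertex

For a vertex `a` with neighbour `b`, the group of radius `n` at `a` is generated by the conjugates under the stabilizer of `a`
of the group of radius `n - 1` at `b`, and the stabilizer is generated by its `p'`-residual and the edge stabilizer.
-/

set_option autoImplicit false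

open scoped commutatorElement

namespace Cfsg.Agent.Invol.Amal

open MulAction

variable {X : Type*} [Group X] {M₁ M₂ : Subgroup X} {p : ℕ}

theorem smul_dist_le (g : X) (hc : (Cfsg.cosetGraph M₁ M₂).Connected) (a b : Cfsg.CosetVertex M₁ M₂) :
    (Cfsg.cosetGraph M₁ M₂).dist (g • a) (g • b) ≤ (Cfsg.cosetGraph M₁ M₂).dist a b := by
  obtain ⟨w, hw⟩ := (hc.preconnected a b).exists_walk_length_eq_dist
  let f : Cfsg.cosetGraph M₁ M₂ →g Cfsg.cosetGraph M₁ M₂ := ⟨(g • ·), fun h => Invol.adj_smul g h⟩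
  have := SimpleGraph.dist_le (w.map f)
  rw [SimpleGraph.Walk.length_map, hw] at this
  exact this

theorem cj_le_iff {g : X} {A B : Subgroup X} : cj g A ≤ B ↔ A ≤ cj g⁻¹ B := by
  constructor
  · intro h a ha
    rw [mem_cj, inv_inv]
    exact h ⟨a, ha, rfl⟩
  · rintro h _ ⟨a, ha, rfl⟩
    have := h ha
    rw [mem_cj, inv_inv] at this
    exact this

theorem stab_smul (g : X) (δ : Cfsg.CosetVertex M₁ M₂) : stabilizer X (g • δ) = cj g (stabilizer X δ) :=
  stabilizer_smul_eq_stabilizer_map_conj g δ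

theorem exists_smul_neighbour {a b b' : Cfsg.CosetVertex M₁ M₂} (h : (Cfsg.cosetGraph M₁ M₂).Adj a b)
    (h' : (Cfsg.cosetGraph M₁ M₂).Adj a b') : ∃ g ∈ stabilizer X a, g • b = b' := by
  obtain ⟨x, ⟨ha, hb⟩ | ⟨hb, ha⟩⟩ := Invol.adj_iff.mp h <;>
    obtain ⟨y, ⟨ha', hb'⟩ | ⟨hb', ha'⟩⟩ := Invol.adj_iff.mp h'
  · exact ⟨y * x⁻¹, mem_stabilizer_iff.mpr (by
      conv_lhs => rw [ha, Invol.smul_inl, inv_mul_cancel_right]
      exact ha'.symm), by rw [hb, Invol.smul_inr, inv_mul_cancel_right, hb']⟩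
  · exact absurd (ha.symm.trans ha') Sum.inl_ne_inr
  · exact absurd (ha.symm.trans ha') Sum.inr_ne_inl
  · exact ⟨y * x⁻¹, mem_stabilizer_iff.mpr (by
      conv_lhs => rw [ha, Invol.smul_inr, inv_mul_cancel_right]
      exact ha'.symm), by rw [hb, Invol.smul_inl, inv_mul_cancel_right, hb']⟩

/-- `O^p` of the subgroup generated by the `p`-elements of the stabilizer. -/
abbrev vRes (p : ℕ) (δ : Cfsg.CosetVertex M₁ M₂) : Subgroup X :=
  (Cfsg.pResidual p ↥(Cfsg.pElementClosure p (stabilizer X δ))).map (Cfsg.pElementClosure p (stabilizer X δ)).subtype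

section CharP

variable [Fact p.Prime] (h : Cfsg.IsCharPAmalgamPair p M₁ M₂)
include h

theorem vertexZ_smul (g : X) (δ : Cfsg.CosetVertex M₁ M₂) :
    cj g (Cfsg.vertexZ p δ) ≤ Cfsg.vertexZ p (g • δ) := by
  have := stab_finite h δ
  have := stab_finite h (g • δ)
  rw [cj, Cfsg.vertexZ, Cfsg.sylowCenterClosure, Subgroup.map_iSup]
  refine iSup_le fun S => ?_
  have hS := (isSyl_map S).conj g
  rw [← stab_smul] at hS
  exact (omZ_cj g _).trans (omZ_le_closure hS)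

theorem vIter_smul (g : X) (n : ℕ) (δ : Cfsg.CosetVertex M₁ M₂) :
    cj g (Cfsg.vertexVIter p M₁ M₂ n δ) ≤ Cfsg.vertexVIter p M₁ M₂ n (g • δ) := by
  rw [cj, Cfsg.vertexVIter, Subgroup.map_iSup]
  refine iSup_le fun ν => (vertexZ_smul h g ν.1).trans ?_
  exact le_iSup (fun μ : {μ : Cfsg.CosetVertex M₁ M₂ // (Cfsg.cosetGraph M₁ M₂).dist (g • δ) μ ≤ n} =>
    Cfsg.vertexZ p μ.1) ⟨g • ν.1, (smul_dist_le g (connected h) δ ν.1).trans ν.2⟩

theorem vertexZ_le_vIter {n : ℕ} {δ ν : Cfsg.CosetVertex M₁ M₂} (hd : (Cfsg.cosetGraph M₁ M₂).dist δ ν ≤ n) :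
    Cfsg.vertexZ p ν ≤ Cfsg.vertexVIter p M₁ M₂ n δ :=
  le_iSup (fun μ : {μ : Cfsg.CosetVertex M₁ M₂ // (Cfsg.cosetGraph M₁ M₂).dist δ μ ≤ n} => Cfsg.vertexZ p μ.1) ⟨ν, hd⟩

theorem vIter_mono_adj {n : ℕ} {a b : Cfsg.CosetVertex M₁ M₂} (hab : (Cfsg.cosetGraph M₁ M₂).Adj a b) :
    Cfsg.vertexVIter p M₁ M₂ n b ≤ Cfsg.vertexVIter p M₁ M₂ (n + 1) a := by
  refine iSup_le fun ν => vertexZ_le_vIter h ?_
  have h1 := (connected h).dist_triangle (u := a) (v := b) (w := ν.1)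
  rw [SimpleGraph.dist_eq_one_iff_adj.mpr hab] at h1
  have := ν.2
  omega

theorem stab_le_normalizer_vIter (n : ℕ) (δ : Cfsg.CosetVertex M₁ M₂) :
    stabilizer X δ ≤ Subgroup.normalizer (Cfsg.vertexVIter p M₁ M₂ n δ : Set X) := by
  have key : ∀ g ∈ stabilizer X δ, ∀ v ∈ Cfsg.vertexVIter p M₁ M₂ n δ, g * v * g⁻¹ ∈ Cfsg.vertexVIter p M₁ M₂ n δ := by
    intro g hg v hv
    have h1 := vIter_smul h g n δ ⟨v, hv, rfl⟩
    rw [mem_stabilizer_iff.mp hg] at h1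
    exact h1
  intro g hg
  refine Subgroup.mem_normalizer_iff.mpr fun v => ⟨key g hg v, fun hv => ?_⟩
  simpa [mul_assoc] using key g⁻¹ (inv_mem hg) _ hv

theorem exists_edge_syl {a b : Cfsg.CosetVertex M₁ M₂} (hab : (Cfsg.cosetGraph M₁ M₂).Adj a b) :
    ∃ T : Subgroup X, IsSyl p T (stabilizer X a ⊓ stabilizer X b) := by
  have := stab_finite h a
  have : Finite ↥(stabilizer X a ⊓ stabilizer X b) :=
    Finite.of_injective _ (Subgroup.inclusion_injective (inf_le_left : stabilizer X a ⊓ stabilizer X b ≤ stabilizer X a))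
  obtain ⟨S⟩ : Nonempty (Sylow p ↥(stabilizer X a ⊓ stabilizer X b)) := Sylow.nonempty
  exact ⟨_, isSyl_map S⟩

theorem vertexZ_ne_bot {a b : Cfsg.CosetVertex M₁ M₂} (hab : (Cfsg.cosetGraph M₁ M₂).Adj a b) :
    Cfsg.vertexZ p b ≠ ⊥ := by
  obtain ⟨T, hT⟩ := exists_edge_syl h hab
  have hTb := (edge_syl h hab hT).2
  have := stab_finite h b
  obtain ⟨S, hS⟩ := hTb.exists_sylow
  have hdvd : p ∣ Nat.card (stabilizer X b) := by
    obtain ⟨-, hf1, hf2, hd1, hd2, -⟩ := h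
    rcases b with q | q <;> induction q using QuotientGroup.induction_on with | _ x => ?_
    · rwa [stabilizer_inl, Subgroup.card_map_of_injective (MulAut.conj x).injective]
    · rwa [stabilizer_inr, Subgroup.card_map_of_injective (MulAut.conj x).injective]
  have : Nontrivial ↥(S : Subgroup ↥(stabilizer X b)) :=
    (Subgroup.nontrivial_iff_ne_bot _).mpr (S.ne_bot_of_dvd_card hdvd)
  have := S.2.center_nontrivial
  obtain ⟨k, hk⟩ := IsPGroup.iff_card.1 (S.2.to_subgroup (Subgroup.center ↥(S : Subgroup ↥(stabilizer X b))))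
  have hk0 : k ≠ 0 := by
    rintro rfl
    have := (Finite.one_lt_card_iff_nontrivial (α := Subgroup.center ↥(S : Subgroup ↥(stabilizer X b)))).2 inferInstance
    rw [hk, pow_zero] at this
    omega
  obtain ⟨z, hz⟩ := exists_prime_orderOf_dvd_card' (G := Subgroup.center ↥(S : Subgroup ↥(stabilizer X b))) p
    (hk ▸ dvd_pow_self p hk0)
  have hz' : orderOf (((z : ↥(S : Subgroup ↥(stabilizer X b))) : ↥(stabilizer X b)) : X) = p := by
    rw [Subgroup.orderOf_coe, Subgroup.orderOf_coe, Subgroup.orderOf_coe, hz]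
  have hmem : (((z : ↥(S : Subgroup ↥(stabilizer X b))) : ↥(stabilizer X b)) : X) ∈ omZ p T := by
    refine Subgroup.subset_closure ⟨⟨hS ▸ ⟨_, z.1.2, rfl⟩, Subgroup.mem_centralizer_iff.mpr ?_⟩, by
      exact orderOf_dvd_iff_pow_eq_one.mp (dvd_of_eq hz')⟩
    rw [← hS]
    rintro _ ⟨y, hy, rfl⟩
    exact congrArg (fun v : ↥(S : Subgroup ↥(stabilizer X b)) => ((v : ↥(stabilizer X b)) : X))
      (Subgroup.mem_center_iff.mp z.2 ⟨y, hy⟩)
  intro hbot
  have := omZ_le_closure hTb hmem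
  change _ ∈ Cfsg.vertexZ p b at this
  rw [hbot, Subgroup.mem_bot] at this
  rw [this, orderOf_one] at hz'
  exact Nat.Prime.one_lt (Fact.out) |>.ne hz'

end CharP

section Spe

variable [Fact p.Prime] (h : Cfsg.IsSpeAmalgamPair p M₁ M₂)
include h

theorem edge_norm {a b : Cfsg.CosetVertex M₁ M₂} (hab : (Cfsg.cosetGraph M₁ M₂).Adj a b) {T : Subgroup X}
    (hT : IsSyl p T (stabilizer X a ⊓ stabilizer X b)) :
    stabilizer X a ⊓ Subgroup.normalizer (T : Set X) ≤ stabilizer X a ⊓ stabilizer X b := by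
  obtain ⟨⟨-, hf1, -⟩, hN, -⟩ := h
  obtain ⟨x, hx⟩ := edge_cases hab
  rw [edge_inf hx] at hT ⊢
  have h0 := hT.conj x⁻¹
  rw [cj_cj, inv_mul_cancel, cj_one] at h0
  have : Finite ↥(M₁ ⊓ M₂) := Finite.of_injective _ (Subgroup.inclusion_injective (inf_le_left : M₁ ⊓ M₂ ≤ M₁))
  obtain ⟨S, hS⟩ := h0.exists_sylow
  obtain ⟨heq, hle⟩ := hN S
  rw [hS] at heq hle
  rintro g hg
  obtain ⟨hga, hgT⟩ := Subgroup.mem_inf.mp hg
  have hn : x⁻¹ * g * x ∈ Subgroup.normalizer (cj x⁻¹ T : Set X) := by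
    refine Subgroup.mem_normalizer_iff.mpr fun y => ?_
    rw [mem_cj, mem_cj, inv_inv, Subgroup.mem_normalizer_iff.mp hgT]
    rw [show g * (x * y * x⁻¹) * g⁻¹ = x * (x⁻¹ * g * x * y * (x⁻¹ * g * x)⁻¹) * x⁻¹ by group]
  rw [mem_cj]
  rcases hx with ⟨ea, -⟩ | ⟨-, ea⟩
  · rw [ea, mem_cj] at hga
    exact hle ⟨hga, hn⟩
  · rw [ea, mem_cj] at hga
    exact hle (heq.ge ⟨hga, hn⟩)

theorem stab_le_res_sup_edge {a b : Cfsg.CosetVertex M₁ M₂} (hab : (Cfsg.cosetGraph M₁ M₂).Adj a b) :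
    stabilizer X a ≤ vRes p a ⊔ (stabilizer X a ⊓ stabilizer X b) := by
  obtain ⟨T, hT⟩ := exists_edge_syl h.1 hab
  have hTa := (edge_syl h.1 hab hT).1
  have := stab_finite h.1 a
  obtain ⟨L, hL⟩ : ∃ L, L = Cfsg.pElementClosure p (stabilizer X a) := ⟨_, rfl⟩
  have hLa : L ≤ stabilizer X a := hL ▸ (Subgroup.closure_le _).mpr fun _ hx => hx.1
  have : Finite L := Finite.of_injective _ (Subgroup.inclusion_injective hLa)
  have hTL : T ≤ L := fun t ht => hL ▸ Subgroup.subset_closure ⟨hTa.1 ht, by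
    obtain ⟨k, hk⟩ := IsPGroup.iff_orderOf.mp hT.2.1 ⟨t, ht⟩
    exact ⟨k, by rw [← hk, Subgroup.orderOf_mk]⟩⟩
  have hTLs : IsSyl p T L := hTa.mono hTL hLa
  intro g hg
  have hgL : cj g L ≤ L := by
    rw [hL, cj, Cfsg.pElementClosure, MonoidHom.map_closure, Subgroup.closure_le]
    rintro _ ⟨y, ⟨hy, k, hk⟩, rfl⟩
    exact Subgroup.subset_closure ⟨mul_mem (mul_mem hg hy) (inv_mem hg), k, by
      rw [orderOf_injective _ (MulAut.conj g).injective, hk]⟩
  have hgTa : IsSyl p (cj g T) (stabilizer X a) := by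
    have h1 := hTa.conj g
    rwa [cj_self hg] at h1
  have hgTs : IsSyl p (cj g T) L := hgTa.mono
    ((Subgroup.map_mono hTL).trans hgL) hLa
  obtain ⟨l, hl, hle⟩ := hTLs.exists_conj hgTs
  have hn : l⁻¹ * g ∈ Subgroup.normalizer (T : Set X) := by
    have h1 : cj (l⁻¹ * g) T = T := by rw [← cj_cj, ← hle, cj_cj, inv_mul_cancel, cj_one]
    refine Subgroup.mem_normalizer_iff.mpr fun y => ⟨fun hy => h1.le ⟨y, hy, rfl⟩, fun hy => ?_⟩
    have h2 := h1.ge hy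
    rw [mem_cj] at h2
    simpa [mul_assoc] using h2
  have hmem : l⁻¹ * g ∈ stabilizer X a ⊓ stabilizer X b :=
    edge_norm h hab hT (Subgroup.mem_inf.mpr ⟨mul_mem (inv_mem (hLa hl)) hg, hn⟩)
  obtain ⟨S, hS⟩ := hTLs.exists_sylow
  have hl' : l ∈ vRes p a ⊔ T := by
    have h1 : (Cfsg.pResidual p ↥L ⊔ (S : Subgroup ↥L)).map L.subtype = (⊤ : Subgroup ↥L).map L.subtype := by
      rw [Invol.pResidual_sup_sylow S]
    rw [Subgroup.map_sup, hS, ← MonoidHom.range_eq_map, Subgroup.range_subtype] at h1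
    have h2 := h1.ge hl
    rw [hL] at h2
    exact h2
  have := mul_mem (sup_le_sup (le_refl (vRes p a)) hT.1 hl') (Subgroup.mem_sup_right (S := vRes p a) hmem)
  rwa [mul_inv_cancel_left] at this

theorem vIter_le_sup {n : ℕ} {a b : Cfsg.CosetVertex M₁ M₂} (hab : (Cfsg.cosetGraph M₁ M₂).Adj a b)
    {W : Subgroup X} (hWn : stabilizer X a ≤ Subgroup.normalizer (W : Set X))
    (hW : ⁅Cfsg.vertexVIter p M₁ M₂ (n + 1) a, vRes p a⁆ ≤ W) :
    Cfsg.vertexVIter p M₁ M₂ (n + 1) a ≤ Cfsg.vertexVIter p M₁ M₂ n b ⊔ W := by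
  obtain ⟨U, hU⟩ : ∃ U, U = Cfsg.vertexVIter p M₁ M₂ n b := ⟨_, rfl⟩
  rw [← hU]
  have hUV : U ≤ Cfsg.vertexVIter p M₁ M₂ (n + 1) a := hU ▸ vIter_mono_adj h.1 hab
  have key : ∀ g ∈ stabilizer X a, cj g (U ⊔ W) ≤ U ⊔ W := by
    intro g hg
    have hle : stabilizer X a ≤ Subgroup.normalizer ((U ⊔ W : Subgroup X) : Set X) := by
      refine (stab_le_res_sup_edge h hab).trans (sup_le ?_ ?_)
      · have hr : ∀ r ∈ vRes p a, cj r (U ⊔ W) ≤ U ⊔ W := by
          intro r hr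
          rw [cj, Subgroup.map_sup]
          refine sup_le ?_ ?_
          · rintro _ ⟨u, hu, rfl⟩
            have h1 : ⁅r, u⁆ ∈ W := hW (Subgroup.commutator_comm (Cfsg.vertexVIter p M₁ M₂ (n + 1) a) (vRes p a) ▸
              Subgroup.commutator_mem_commutator hr (hUV hu))
            have h2 := mul_mem (Subgroup.mem_sup_right (S := U) h1) (Subgroup.mem_sup_left (T := W) hu)
            rw [commutatorElement_def, inv_mul_cancel_right] at h2
            exact h2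
          · rintro _ ⟨w, hw, rfl⟩
            refine Subgroup.mem_sup_right ((Subgroup.mem_normalizer_iff.mp (hWn ?_) w).mp hw)
            obtain ⟨r', -, rfl⟩ := hr
            exact (Subgroup.closure_le _).mpr (fun _ hx => hx.1) r'.2
        intro r hr'
        refine Subgroup.mem_normalizer_iff.mpr fun y => ⟨fun hy => hr r hr' ⟨y, hy, rfl⟩, fun hy => ?_⟩
        have := hr r⁻¹ (inv_mem hr') ⟨_, hy, rfl⟩
        simpa [mul_assoc] using this
      · intro e he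
        have h1 : e ∈ Subgroup.normalizer (U : Set X) := hU ▸ stab_le_normalizer_vIter h.1 n b he.2
        have h2 := hWn he.1
        have hstep : ∀ e' : X, e' ∈ Subgroup.normalizer (U : Set X) → e' ∈ Subgroup.normalizer (W : Set X) →
            cj e' (U ⊔ W) ≤ U ⊔ W := fun e' h1 h2 => by
          rw [cj, Subgroup.map_sup]
          refine sup_le_sup ?_ ?_
          · rintro _ ⟨u, hu, rfl⟩; exact (Subgroup.mem_normalizer_iff.mp h1 u).mp hu
          · rintro _ ⟨w, hw, rfl⟩; exact (Subgroup.mem_normalizer_iff.mp h2 w).mp hw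
        refine Subgroup.mem_normalizer_iff.mpr fun y => ⟨fun hy => hstep e h1 h2 ⟨y, hy, rfl⟩, fun hy => ?_⟩
        have := hstep e⁻¹ (inv_mem h1) (inv_mem h2) ⟨_, hy, rfl⟩
        simpa [mul_assoc] using this
    rintro _ ⟨y, hy, rfl⟩
    exact (Subgroup.mem_normalizer_iff.mp (hle hg) y).mp hy
  have hsub : ∀ g ∈ stabilizer X a, cj g U ≤ U ⊔ W := fun g hg =>
    (Subgroup.map_mono le_sup_left).trans (key g hg)
  refine iSup_le fun ν => ?_
  by_cases hν : ν.1 = a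
  · rw [hν]
    have := stab_finite h.1 a
    have := stab_finite h.1 b
    obtain ⟨T, hT⟩ := exists_edge_syl h.1 hab
    obtain ⟨hTa, hTb⟩ := edge_syl h.1 hab hT
    refine iSup_le fun S => ?_
    obtain ⟨g, hg, hgS⟩ := hTa.exists_conj (isSyl_map S)
    rw [← hgS]
    have h1 : cj g⁻¹ (omZ p (cj g T)) ≤ omZ p T := by
      refine (omZ_cj g⁻¹ _).trans (le_of_eq ?_)
      rw [cj_cj, inv_mul_cancel, cj_one]
    have h2 : omZ p T ≤ U := hU ▸ (omZ_le_closure hTb).trans (vertexZ_le_vIter h.1 (δ := b) (ν := b) (by simp))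
    have h3 := cj_le_iff.mp (h1.trans h2)
    rw [inv_inv] at h3
    exact h3.trans (hsub g hg)
  · obtain ⟨w, hw⟩ := ((connected h.1).preconnected a ν.1).exists_walk_length_eq_dist
    obtain ⟨c, hadj, w', rfl⟩ := SimpleGraph.Walk.exists_eq_cons_of_ne (Ne.symm hν) w
    · rw [SimpleGraph.Walk.length_cons] at hw
      obtain ⟨g, hg, rfl⟩ := exists_smul_neighbour hab hadj
      have h1 : (Cfsg.cosetGraph M₁ M₂).dist b (g⁻¹ • ν.1) ≤ n := by
        have h2 := smul_dist_le g⁻¹ (connected h.1) (g • b) ν.1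
        rw [inv_smul_smul] at h2
        have h3 := SimpleGraph.dist_le w'
        have := ν.2
        omega
      have h4 := cj_le_iff.mp ((vertexZ_smul h.1 g⁻¹ ν.1).trans (hU ▸ vertexZ_le_vIter h.1 h1 : _ ≤ U))
      rw [inv_inv] at h4
      exact h4.trans (hsub g hg)

theorem not_le_of_vIter {n : ℕ} {a b : Cfsg.CosetVertex M₁ M₂} (hab : (Cfsg.cosetGraph M₁ M₂).Adj a b)
    (hQ : Cfsg.vertexVIter p M₁ M₂ (n + 1) a ≤ Cfsg.vertexQ p a)
    (hle : Cfsg.vertexVIter p M₁ M₂ (n + 1) a ≤ Cfsg.vertexVIter p M₁ M₂ n b) : False := by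
  obtain ⟨T, hT⟩ := exists_edge_syl h.1 hab
  have := stab_finite h.1 a
  have heq := le_antisymm hle (vIter_mono_adj h.1 hab)
  have hbot : Cfsg.vertexVIter p M₁ M₂ (n + 1) a = ⊥ :=
    eq_bot_of_normalized h.1.1 hab (hQ.trans ((edge_syl h.1 hab hT).1.core_le.trans hT.1))
      (stab_le_normalizer_vIter h.1 (n + 1) a) (heq ▸ stab_le_normalizer_vIter h.1 n b)
  refine vertexZ_ne_bot h.1 hab (le_bot_iff.mp ?_)
  rw [← hbot, heq]
  exact vertexZ_le_vIter h.1 (by simp)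

theorem exists_neighbour (a : Cfsg.CosetVertex M₁ M₂) : ∃ b, (Cfsg.cosetGraph M₁ M₂).Adj a b := by
  rcases a with q | q <;> induction q using QuotientGroup.induction_on with | _ x => ?_
  · exact ⟨Sum.inr (x : X ⧸ M₂), Invol.adj_iff.mpr ⟨x, Or.inl ⟨rfl, rfl⟩⟩⟩
  · exact ⟨Sum.inl (x : X ⧸ M₁), Invol.adj_iff.mpr ⟨x, Or.inr ⟨rfl, rfl⟩⟩⟩

theorem not_centralizes_comm (a : Cfsg.CosetVertex M₁ M₂) (n : ℕ)
    (hQ : Cfsg.vertexVIter p M₁ M₂ (n + 1) a ≤ Cfsg.vertexQ p a) :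
    ¬ ⁅Cfsg.vertexVIter p M₁ M₂ (n + 1) a, vRes p a⁆ ≤ ⁅Cfsg.vertexVIter p M₁ M₂ (n + 1) a, Cfsg.vertexQ p a⁆ := by
  intro hc
  obtain ⟨b, hab⟩ := exists_neighbour h a
  obtain ⟨T, hT⟩ := exists_edge_syl h.1 hab
  have := stab_finite h.1 a
  obtain ⟨V, hV⟩ : ∃ V, V = Cfsg.vertexVIter p M₁ M₂ (n + 1) a := ⟨_, rfl⟩
  obtain ⟨Q, hQdef⟩ : ∃ Q, Q = Cfsg.vertexQ p a := ⟨_, rfl⟩
  obtain ⟨U, hU⟩ : ∃ U, U = Cfsg.vertexVIter p M₁ M₂ n b := ⟨_, rfl⟩
  have hVn : stabilizer X a ≤ Subgroup.normalizer (V : Set X) := hV ▸ stab_le_normalizer_vIter h.1 (n + 1) a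
  have hQn : stabilizer X a ≤ Subgroup.normalizer (Q : Set X) := by
    intro g hg
    rw [hQdef]
    refine Subgroup.mem_normalizer_iff.mpr fun y => ?_
    constructor
    · rintro ⟨z, hz, rfl⟩
      exact ⟨⟨g, hg⟩ * z * ⟨g, hg⟩⁻¹, Subgroup.Normal.conj_mem inferInstance z hz _, rfl⟩
    · rintro ⟨z, hz, hz'⟩
      refine ⟨⟨g, hg⟩⁻¹ * z * ⟨g, hg⟩, ?_, ?_⟩
      · simpa using Subgroup.Normal.conj_mem inferInstance z hz (⟨g, hg⟩⁻¹ : ↥(stabilizer X a))
      · show g⁻¹ * (z : X) * g = y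
        change (z : X) = g * y * g⁻¹ at hz'
        rw [hz']; group
  have hWn : stabilizer X a ≤ Subgroup.normalizer ((⁅V, Q⁆ : Subgroup X) : Set X) := by
    have hst : ∀ g ∈ stabilizer X a, cj g ⁅V, Q⁆ ≤ ⁅V, Q⁆ := by
      intro g hg
      rw [cj, Subgroup.map_commutator]
      refine Subgroup.commutator_mono ?_ ?_
      · rintro _ ⟨v, hv, rfl⟩; exact (Subgroup.mem_normalizer_iff.mp (hVn hg) v).mp hv
      · rintro _ ⟨v, hv, rfl⟩; exact (Subgroup.mem_normalizer_iff.mp (hQn hg) v).mp hv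
    intro g hg
    refine Subgroup.mem_normalizer_iff.mpr fun y => ⟨fun hy => hst g hg ⟨y, hy, rfl⟩, fun hy => ?_⟩
    have := hst g⁻¹ (inv_mem hg) ⟨_, hy, rfl⟩
    simpa [mul_assoc] using this
  rw [← hV, ← hQdef] at hc hQ
  have hsup : V ≤ U ⊔ ⁅V, Q⁆ := by
    subst hV hU
    exact vIter_le_sup h hab hWn hc
  have hUV : U ≤ V := hU ▸ hV ▸ vIter_mono_adj h.1 hab
  have hQedge : Q ≤ stabilizer X a ⊓ stabilizer X b :=
    hQdef ▸ (edge_syl h.1 hab hT).1.core_le.trans hT.1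
  have hQU : Q ≤ Subgroup.normalizer (U : Set X) := fun x hx => hU ▸ stab_le_normalizer_vIter h.1 n b (hQedge hx).2
  have hQp : IsPGroup p ↥Q := hQdef ▸ (Transfer.pCore_isPGroup p _).map _
  have : Finite ↥Q := Finite.of_injective _ (Subgroup.inclusion_injective (hQedge.trans inf_le_left))
  haveI : (U.subgroupOf Q).Normal := Subgroup.normal_subgroupOf_of_le_normalizer hQU
  let π := QuotientGroup.mk' (U.subgroupOf Q)
  haveI : Group.IsNilpotent (↥Q ⧸ U.subgroupOf Q) := (hQp.to_quotient _).isNilpotent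
  have hb : (V.subgroupOf Q).map π = ⊥ := by
    refine Transfer.eq_bot_of_le_commutator_top ?_
    have hle : V.subgroupOf Q ≤ U.subgroupOf Q ⊔ ⁅V.subgroupOf Q, ⊤⁆ := by
      rw [← Subgroup.map_le_map_iff_of_injective Q.subtype_injective, Subgroup.map_sup, Subgroup.map_commutator,
        Subgroup.map_subgroupOf_eq_of_le hQ, Subgroup.map_subgroupOf_eq_of_le (hUV.trans hQ),
        ← MonoidHom.range_eq_map, Subgroup.range_subtype]
      exact hsup
    refine (Subgroup.map_mono hle).trans ?_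
    rw [Subgroup.map_sup, Subgroup.map_commutator,
      show (U.subgroupOf Q).map π = ⊥ from (Subgroup.map_eq_bot_iff _).mpr (QuotientGroup.ker_mk' _).ge, bot_sup_eq]
    exact Subgroup.commutator_mono le_rfl le_top
  have hVU : V ≤ U := by
    intro v hv
    have := Subgroup.mem_map_of_mem π (show (⟨v, hQ hv⟩ : ↥Q) ∈ V.subgroupOf Q from hv)
    rw [hb, Subgroup.mem_bot] at this
    exact (QuotientGroup.eq_one_iff (⟨v, hQ hv⟩ : ↥Q)).mp this
  subst hV hU hQdef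
  exact not_le_of_vIter h hab hQ hVU

theorem not_centralizes_sub (a : Cfsg.CosetVertex M₁ M₂) (n : ℕ)
    (hQ : Cfsg.vertexVIter p M₁ M₂ (n + 2) a ≤ Cfsg.vertexQ p a) :
    ¬ ⁅Cfsg.vertexVIter p M₁ M₂ (n + 2) a, vRes p a⁆ ≤ Cfsg.vertexVIter p M₁ M₂ n a := by
  intro hc
  obtain ⟨b, hab⟩ := exists_neighbour h a
  exact not_le_of_vIter h hab hQ ((vIter_le_sup h hab (stab_le_normalizer_vIter h.1 n a) hc).trans
    (sup_le le_rfl (vIter_mono_adj h.1 hab.symm)))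

end Spe

end Cfsg.Agent.Invol.Amal
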