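import Mathlib
import Cfsg.Agent.Lib.Grp.Cores
import Cfsg.Agent.Lib.Grp.Coprime

/-!
Elements acting trivially modulo a subgroup; sections of a `p`-group.
-/

set_option autoImplicit false

open scoped Pointwise commutatorElement

namespace Cfsg.Agent.Invol.ModSeries

open Subgroup

universe u

variable {G : Type u} [Group G]

/-- The elements normalising `W` that act trivially on `S` modulo `W`. -/
def fixOn (W : Subgroup G) (S : Set G) : Subgroup G where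
  carrier := {a | a ∈ normalizer (W : Set G) ∧ ∀ v ∈ S, a * v * a⁻¹ * v⁻¹ ∈ W}
  one_mem' := ⟨one_mem _, fun v _ => by simp⟩
  mul_mem' := by
    rintro a b ⟨ha, ha'⟩ ⟨hb, hb'⟩
    refine ⟨mul_mem ha hb, fun v hv => ?_⟩
    have h := mul_mem ((mem_normalizer_iff.mp ha _).mp (hb' v hv)) (ha' v hv)
    simpa [mul_assoc] using h
  inv_mem' := by
    rintro a ⟨ha, ha'⟩
    refine ⟨inv_mem ha, fun v hv => ?_⟩
    have h := inv_mem ((mem_normalizer_iff''.mp ha _).mp (ha' v hv))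
    simpa [mul_assoc] using h

theorem mem_fixOn {W : Subgroup G} {S : Set G} {a : G} :
    a ∈ fixOn W S ↔ a ∈ normalizer (W : Set G) ∧ ∀ v ∈ S, a * v * a⁻¹ * v⁻¹ ∈ W := Iff.rfl

theorem fixOn_le_normalizer (W : Subgroup G) (S : Set G) : fixOn W S ≤ normalizer (W : Set G) :=
  fun _ h => h.1

theorem fixOn_anti {W : Subgroup G} {S T : Set G} (h : S ⊆ T) : fixOn W T ≤ fixOn W S :=
  fun _ ha => ⟨ha.1, fun v hv => ha.2 v (h hv)⟩

/-- Triviality modulo `W` is preserved by whatever normalises `W` and `S`. -/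
theorem fixOn_normalizer {W S : Subgroup G} {g : G} (hW : g ∈ normalizer (W : Set G))
    (hS : g ∈ normalizer (S : Set G)) {a : G} (ha : a ∈ fixOn W S) : g * a * g⁻¹ ∈ fixOn W S := by
  refine ⟨mul_mem (mul_mem hW ha.1) (inv_mem hW), fun v hv => ?_⟩
  have h := (mem_normalizer_iff.mp hW _).mp (ha.2 _ ((mem_normalizer_iff''.mp hS v).mp hv))
  simpa [mul_assoc] using h

/-- The elements of `V` fixed by `A` modulo `W`. -/
def cenMod (W V A : Subgroup G) (hV : V ≤ normalizer (W : Set G)) : Subgroup G where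
  carrier := {v | v ∈ V ∧ ∀ a ∈ A, a * v * a⁻¹ * v⁻¹ ∈ W}
  one_mem' := ⟨one_mem _, fun v _ => by simp⟩
  mul_mem' := by
    rintro u v ⟨hu, hu'⟩ ⟨hv, hv'⟩
    refine ⟨mul_mem hu hv, fun a ha => ?_⟩
    have h := mul_mem (hu' a ha) ((mem_normalizer_iff.mp (hV hu) _).mp (hv' a ha))
    simpa [mul_assoc] using h
  inv_mem' := by
    rintro u ⟨hu, hu'⟩
    refine ⟨inv_mem hu, fun a ha => ?_⟩
    have h := inv_mem ((mem_normalizer_iff''.mp (hV hu) _).mp (hu' a ha))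
    simpa [mul_assoc] using h

theorem mem_cenMod {W V A : Subgroup G} {hV : V ≤ normalizer (W : Set G)} {v : G} :
    v ∈ cenMod W V A hV ↔ v ∈ V ∧ ∀ a ∈ A, a * v * a⁻¹ * v⁻¹ ∈ W := Iff.rfl

theorem cenMod_le {W V A : Subgroup G} {hV : V ≤ normalizer (W : Set G)} : cenMod W V A hV ≤ V :=
  fun _ h => h.1

theorem le_cenMod {W V A : Subgroup G} {hV : V ≤ normalizer (W : Set G)} (hWV : W ≤ V)
    (hA : A ≤ normalizer (W : Set G)) : W ≤ cenMod W V A hV :=
  fun w hw => ⟨hWV hw, fun a ha => mul_mem ((mem_normalizer_iff.mp (hA ha) w).mp hw) (inv_mem hw)⟩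

/-- A subgroup containing the commutator with `a` is normalised by `a`. -/
theorem mem_normalizer_of_comm [Finite G] {T : Subgroup G} {a : G}
    (h : ∀ t ∈ T, a * t * a⁻¹ * t⁻¹ ∈ T) : a ∈ normalizer (T : Set G) :=
  mem_normalizer_fintype fun t ht => by
    have h' := mul_mem (h t ht) ht
    rwa [inv_mul_cancel_right] at h'

theorem sup_normalized {A B K : Subgroup G} (hA : K ≤ normalizer (A : Set G))
    (hB : K ≤ normalizer (B : Set G)) : K ≤ normalizer ((A ⊔ B : Subgroup G) : Set G) := by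
  intro k hk
  rw [Grp.mem_normalizer_iff_smul, Subgroup.smul_sup, Grp.mem_normalizer_iff_smul.mp (hA hk),
    Grp.mem_normalizer_iff_smul.mp (hB hk)]

theorem comm_normalized {A B K : Subgroup G} (hA : K ≤ normalizer (A : Set G))
    (hB : K ≤ normalizer (B : Set G)) : K ≤ normalizer ((⁅A, B⁆ : Subgroup G) : Set G) := by
  intro k hk
  have h1 : (⁅A, B⁆ : Subgroup G).map (MulAut.conj k).toMonoidHom = ⁅A, B⁆ := by
    rw [map_commutator, Grp.map_conj_eq_smul, Grp.map_conj_eq_smul,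
      Grp.mem_normalizer_iff_smul.mp (hA hk), Grp.mem_normalizer_iff_smul.mp (hB hk)]
  rw [Grp.mem_normalizer_iff_smul, ← Grp.map_conj_eq_smul, h1]

/-- A nontrivial section of a `p`-group is larger than its commutator with the `p`-group. -/
theorem not_le_comm_sup [Finite G] {p : ℕ} [Fact p.Prime] {P T W A : Subgroup G} (hP : IsPGroup p P)
    (hT : T ≤ P) (hA : A ≤ P) (hTW : T ≤ normalizer (W : Set G)) (hAW : A ≤ normalizer (W : Set G))
    (hne : ¬ T ≤ W) (hle : W ≤ T) : ¬ T ≤ ⁅T, A⁆ ⊔ W := by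
  intro h
  obtain ⟨K, hK⟩ : ∃ K, K = P ⊓ normalizer (W : Set G) := ⟨_, rfl⟩
  have hTK : T ≤ K := hK ▸ le_inf hT hTW
  have hAK : A ≤ K := hK ▸ le_inf hA hAW
  have hWK : W ≤ K := hle.trans hTK
  haveI : (W.subgroupOf K).Normal :=
    (normal_subgroupOf_iff_le_normalizer hWK).mpr (hK ▸ inf_le_right)
  let π := QuotientGroup.mk' (W.subgroupOf K)
  haveI : Group.IsNilpotent (↥K ⧸ W.subgroupOf K) :=
    ((hP.to_le (hK.le.trans inf_le_left)).to_quotient _).isNilpotent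
  obtain ⟨T', hT'⟩ : ∃ T', T' = (T.subgroupOf K).map π := ⟨_, rfl⟩
  have h1 : T' ≤ ⁅T', (⊤ : Subgroup (↥K ⧸ W.subgroupOf K))⁆ := by
    have h2 : T.subgroupOf K ≤ ⁅T.subgroupOf K, A.subgroupOf K⁆ ⊔ W.subgroupOf K := by
      refine (map_le_map_iff_of_injective K.subtype_injective).mp ?_
      rwa [Subgroup.map_sup, map_commutator, map_subgroupOf_eq_of_le hTK, map_subgroupOf_eq_of_le hAK,
        map_subgroupOf_eq_of_le hWK]
    have h3 := map_mono (f := π) h2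
    rw [Subgroup.map_sup, map_commutator, QuotientGroup.map_mk'_self, sup_bot_eq, ← hT'] at h3
    exact h3.trans (commutator_mono le_rfl le_top)
  have hn : ∀ n, T' ≤ Subgroup.lowerCentralSeries (⊤ : Subgroup (↥K ⧸ W.subgroupOf K)) n := by
    intro n
    induction n with
    | zero => simp
    | succ n ih => exact h1.trans ((commutator_mono ih le_rfl).trans (by rw [Subgroup.lowerCentralSeries_succ]))
  obtain ⟨n, hn'⟩ := Subgroup.nilpotent_iff_lowerCentralSeries.mp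
    (inferInstance : Group.IsNilpotent (↥K ⧸ W.subgroupOf K))
  have h4 : T' = ⊥ := le_bot_iff.mp ((hn n).trans hn'.le)
  refine hne fun t ht => ?_
  have h5 : π ⟨t, hTK ht⟩ ∈ T' := hT' ▸ ⟨⟨t, hTK ht⟩, ht, rfl⟩
  rw [h4, mem_bot] at h5
  exact (QuotientGroup.eq_one_iff (N := W.subgroupOf K) _).mp h5

/-- A `p`-group fixes a nontrivial element of a section of a `p`-group normalised by it. -/
theorem exists_fixed [Finite G] {p : ℕ} [Fact p.Prime] {P I W A : Subgroup G} (hP : IsPGroup p P)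
    (hI : I ≤ P) (hA : A ≤ P) (hWI : W ≤ I) (hIW : I ≤ normalizer (W : Set G))
    (hAW : A ≤ normalizer (W : Set G)) (hAI : A ≤ normalizer (I : Set G)) (hne : ¬ I ≤ W) :
    ¬ cenMod W I A hIW ≤ W := by
  obtain ⟨T, -, ⟨hWT, hTI, hAT, hTW⟩, hmin⟩ := exists_minimal_le_of_wellFoundedLT
    (fun T : Subgroup G => W ≤ T ∧ T ≤ I ∧ A ≤ normalizer (T : Set G) ∧ ¬ T ≤ W) I
    ⟨hWI, le_rfl, hAI, hne⟩
  obtain ⟨T₁, hT₁⟩ : ∃ T₁, T₁ = ⁅T, A⁆ ⊔ W := ⟨_, rfl⟩
  have h1 : T₁ ≤ T := hT₁ ▸ sup_le (commutator_le.mpr fun t ht a ha => by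
    have := mul_mem ht ((mem_normalizer_iff.mp (hAT ha) _).mp (inv_mem ht))
    simpa [commutatorElement_def, mul_assoc] using this) hWT
  have h2 : T₁ ≤ W := by
    by_contra h3
    exact not_le_comm_sup hP (hTI.trans hI) hA (hTI.trans hIW) hAW hTW hWT
      (hT₁ ▸ hmin ⟨hT₁ ▸ le_sup_right, h1.trans hTI,
        hT₁ ▸ sup_normalized (comm_normalized hAT le_normalizer) hAW, h3⟩ h1)
  intro h
  refine hTW fun t ht => h ⟨hTI ht, fun a ha => ?_⟩
  have h3 := h2 (hT₁ ▸ mem_sup_left (commutator_mem_commutator ht ha))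
  have h4 := inv_mem h3
  simpa [commutatorElement_def, mul_assoc] using h4

/-- A coprime element with two trivial steps is trivial. -/
theorem coprime_step [Finite G] {p : ℕ} [Fact p.Prime] {W P : Subgroup G} (hP : IsPGroup p P) {g v : G}
    {n : ℕ} (hn : n.Coprime p) (hgn : g ^ n = 1) (hg : g ∈ normalizer (W : Set G))
    (hw : g * v * g⁻¹ * v⁻¹ ∈ P) (hwW : g * v * g⁻¹ * v⁻¹ ∈ normalizer (W : Set G))
    (hfix : g * (g * v * g⁻¹ * v⁻¹) * g⁻¹ * (g * v * g⁻¹ * v⁻¹)⁻¹ ∈ W) :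
    g * v * g⁻¹ * v⁻¹ ∈ W := by
  obtain ⟨w, hwd⟩ : ∃ w, w = g * v * g⁻¹ * v⁻¹ := ⟨_, rfl⟩
  rw [← hwd] at hw hwW hfix ⊢
  have hNN : normalizer (W : Set G) ≤ normalizer (W : Set G) := le_rfl
  have hfix' : ∀ i : ℕ, g * w ^ i * g⁻¹ * (w ^ i)⁻¹ ∈ W := by
    intro i
    have h0 : w ∈ cenMod W (normalizer (W : Set G)) (zpowers g) hNN := ⟨hwW, fun a ha => by
      have h1 : zpowers g ≤ fixOn W {w} := zpowers_le.mpr ⟨hg, fun x hx => by
        rw [Set.mem_singleton_iff] at hx; subst hx; exact hfix⟩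
      exact (h1 ha).2 w rfl⟩
    exact (pow_mem h0 i).2 g (mem_zpowers g)
  have key : ∀ i : ℕ, g ^ i * v * (g ^ i)⁻¹ * v⁻¹ * (w ^ i)⁻¹ ∈ W := by
    intro i
    induction i with
    | zero => simp
    | succ i ih =>
      have h1 := mul_mem ((mem_normalizer_iff.mp hg _).mp ih) (hfix' i)
      have e : g ^ (i + 1) * v * (g ^ (i + 1))⁻¹ * v⁻¹ * (w ^ (i + 1))⁻¹ =
          g * (g ^ i * v * (g ^ i)⁻¹ * v⁻¹ * (w ^ i)⁻¹) * g⁻¹ * (g * w ^ i * g⁻¹ * (w ^ i)⁻¹) := by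
        rw [pow_succ' g, pow_succ w]
        calc g * g ^ i * v * (g * g ^ i)⁻¹ * v⁻¹ * (w ^ i * w)⁻¹
            = g * g ^ i * v * (g ^ i)⁻¹ * g⁻¹ * (v⁻¹ * w⁻¹) * (w ^ i)⁻¹ := by group
          _ = g * g ^ i * v * (g ^ i)⁻¹ * g⁻¹ * (g * v⁻¹ * g⁻¹) * (w ^ i)⁻¹ := by rw [hwd]; group
          _ = _ := by group
      rw [e]; exact h1
  have h2 := key n
  rw [hgn] at h2
  have h2' : w ^ n ∈ W := by simpa using inv_mem h2
  obtain ⟨k, hk⟩ := hP ⟨w, hw⟩
  have hk' : w ^ p ^ k = 1 := congrArg Subtype.val hk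
  have hc : (orderOf w).Coprime n :=
    (Nat.Coprime.pow_left k hn.symm).coprime_dvd_left (orderOf_dvd_of_pow_eq_one hk')
  obtain ⟨m, hm⟩ := exists_pow_eq_self_of_coprime hc.symm
  exact hm ▸ pow_mem h2' m

/-- The `p`-elements: a group all whose `p'`-elements are trivial. -/
theorem isPGroup_of_coprime_trivial [Finite G] {p : ℕ} [hp : Fact p.Prime] {K : Subgroup G}
    (h : ∀ g ∈ K, ∀ n : ℕ, n.Coprime p → g ^ n = 1 → g = 1) : IsPGroup p ↥K := by
  rintro ⟨g, hg⟩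
  obtain ⟨e, m, hm, hd⟩ := Nat.exists_eq_pow_mul_and_not_dvd (orderOf_pos g).ne' p hp.out.ne_one
  refine ⟨e, Subtype.ext ?_⟩
  refine h _ (pow_mem hg _) m ((hp.out.coprime_iff_not_dvd.mpr hm).symm) ?_
  rw [SubgroupClass.coe_pow, ← pow_mul, ← hd, pow_orderOf_eq_one]

end Cfsg.Agent.Invol.ModSeries
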