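import Mathlib
import Cfsg.Agent.Lib.Invol.ModSeries
import Cfsg.Agent.Lib.Invol.LargeSubgroup
import Cfsg.Agent.Lib.Invol.WeakClosed

/-!
The noncentral chief factors used in the asymmetric L-lemma.
-/

set_option autoImplicit false
set_option linter.style.haveILetI false

open scoped Pointwise commutatorElement

namespace Cfsg.Agent.Invol.AsymLFactor

open Subgroup ModSeries

universe u

variable {G : Type u} [Group G] [Finite G] {p : ℕ} [Fact p.Prime]

omit [Finite G] in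
theorem comm_mem {V A T : Subgroup G} (h : ⁅V, A⁆ ≤ T) {v a : G} (hv : v ∈ V) (ha : a ∈ A) :
    a * v * a⁻¹ * v⁻¹ ∈ T := by
  have := inv_mem (h (commutator_mem_commutator hv ha))
  simpa [commutatorElement_def, mul_assoc] using this

omit [Finite G] in
theorem comm_le {V A T : Subgroup G} (h : ∀ v ∈ V, ∀ a ∈ A, a * v * a⁻¹ * v⁻¹ ∈ T) : ⁅V, A⁆ ≤ T :=
  commutator_le.mpr fun v hv a ha => by
    have := inv_mem (h v hv a ha)
    simpa [commutatorElement_def, mul_assoc] using this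

theorem mem_fixOn_of_comm {T V : Subgroup G} (hTV : T ≤ V) {a : G}
    (h : ∀ v ∈ V, a * v * a⁻¹ * v⁻¹ ∈ T) : a ∈ fixOn T (V : Set G) :=
  ⟨mem_normalizer_of_comm fun t ht => h t (hTV ht), h⟩

theorem cen_normalized {W V A : Subgroup G} {hV : V ≤ normalizer (W : Set G)} {g : G}
    (gW : g ∈ normalizer (W : Set G)) (gV : g ∈ normalizer (V : Set G)) (gA : g ∈ normalizer (A : Set G)) :
    g ∈ normalizer ((cenMod W V A hV : Subgroup G) : Set G) :=
  mem_normalizer_fintype fun v hv => ⟨(mem_normalizer_iff.mp gV v).mp hv.1, fun a ha => by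
    have h := (mem_normalizer_iff.mp gW _).mp (hv.2 _ ((mem_normalizer_iff''.mp gA a).mp ha))
    simpa [mul_assoc] using h⟩

/-- A pair `(Y, O)` as `(Y_M, O_p(M))` in `H`. -/
structure Pair (H E Y O : Subgroup G) : Prop where
  YH : Y ≤ H
  OH : O ≤ H
  YO : Y ≤ O
  OY : O ≤ centralizer (Y : Set G)
  EY : E ≤ normalizer (Y : Set G)
  EO : E ≤ normalizer (O : Set G)

omit [Finite G] in
theorem mem_map_conj {Q : Subgroup G} {g x : G} :
    x ∈ Q.map (MulAut.conj g).toMonoidHom ↔ g⁻¹ * x * g ∈ Q := wc_mem_map_conj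

theorem Pair.conj {H E Y O : Subgroup G} (h : Pair H E Y O) (hHE : H ≤ normalizer (E : Set G)) {k : G}
    (hk : k ∈ H) :
    Pair H E (Y.map (MulAut.conj k).toMonoidHom) (O.map (MulAut.conj k).toMonoidHom) := by
  have hle : ∀ {B : Subgroup G}, B ≤ H → B.map (MulAut.conj k).toMonoidHom ≤ H := fun hB => by
    rintro _ ⟨b, hb, rfl⟩; exact mul_mem (mul_mem hk (hB hb)) (inv_mem hk)
  have hN : ∀ {B : Subgroup G}, E ≤ normalizer (B : Set G) →
      E ≤ normalizer ((B.map (MulAut.conj k).toMonoidHom : Subgroup G) : Set G) := by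
    intro B hB e he
    refine mem_normalizer_fintype fun x hx => ?_
    rw [SetLike.mem_coe, mem_map_conj] at hx ⊢
    have he' := hB ((mem_normalizer_iff''.mp (hHE hk) e).mp he)
    have := (mem_normalizer_iff.mp he' _).mp hx
    simpa [mul_assoc] using this
  refine ⟨hle h.YH, hle h.OH, map_mono h.YO, ?_, hN h.EY, hN h.EO⟩
  rintro _ ⟨o, ho, rfl⟩
  refine mem_centralizer_iff.mpr fun y hy => ?_
  obtain ⟨y', hy', rfl⟩ := mem_map.mp hy
  have h1 := mem_centralizer_iff.mp (h.OY ho) y' hy'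
  calc (MulAut.conj k).toMonoidHom y' * (MulAut.conj k).toMonoidHom o
      = (MulAut.conj k).toMonoidHom (y' * o) := (map_mul _ _ _).symm
    _ = _ := by rw [h1, map_mul]

/-- The context: `H = ⟨L, O⟩` with `L = ⟨Y, Y'⟩` for a conjugate pair `(Y', O')`. -/
structure Ctx (p : ℕ) (H E R L Y O Y' O' : Subgroup G) : Prop where
  EH : E ≤ H
  HE : H ≤ normalizer (E : Set G)
  Ep : IsPGroup p E
  Op : IsPGroup p O
  pair : Pair H E Y O
  pair' : Pair H E Y' O'
  gen : Y ⊔ Y' = L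
  LO : L ⊔ O = H
  LO' : L ⊔ O' = H
  RO : R ⊔ O = H
  RY : ⁅R, Y⁆ = R

/-- A noncentral chief factor inside `E`. -/
structure Fac (H E V W : Subgroup G) : Prop where
  VE : V ≤ E
  HV : H ≤ normalizer (V : Set G)
  HW : H ≤ normalizer (W : Set G)
  lt : W < V
  chief : ∀ Z : Subgroup G, H ≤ normalizer (Z : Set G) → W ≤ Z → Z ≤ V → Z = W ∨ Z = V
  nc : ¬ ⁅V, H⁆ ≤ W

variable {H E R L Y O Y' O' V W : Subgroup G}

/-- `[V, A]W`. -/
abbrev com (W V A : Subgroup G) : Subgroup G := ⁅V, A⁆ ⊔ W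

namespace Fac

variable (c : Ctx p H E R L Y O Y' O') (f : Fac H E V W)
include c f

theorem VH : V ≤ H := f.VE.trans c.EH

theorem VW : V ≤ normalizer (W : Set G) := (f.VH c).trans f.HW

theorem com_le {A : Subgroup G} (hA : A ≤ H) : com W V A ≤ V :=
  sup_le (comm_le fun v hv a ha => mul_mem ((mem_normalizer_iff.mp (f.HV (hA ha)) v).mp hv) (inv_mem hv))
    f.lt.le

theorem top_comm : com W V H = V := by
  rcases f.chief _ (sup_normalized (comm_normalized f.HV le_normalizer) f.HW) le_sup_right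
    (f.com_le c le_rfl) with h | h
  · exact absurd (le_sup_left.trans h.le) f.nc
  · exact h

theorem abelian : ⁅V, V⁆ ≤ W := by
  rcases f.chief _ (sup_normalized (comm_normalized f.HV f.HV) f.HW) le_sup_right
    (f.com_le c (f.VH c)) with h | h
  · exact le_sup_left.trans h.le
  · exact absurd h.ge (not_le_comm_sup c.Ep f.VE f.VE (f.VW c) (f.VW c) f.lt.not_ge f.lt.le)

theorem V_normalizes {T : Subgroup G} (hWT : W ≤ T) (hTV : T ≤ V) : V ≤ normalizer (T : Set G) :=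
  fun _ hv => mem_normalizer_of_comm fun _ ht => hWT (comm_mem (f.abelian c) (hTV ht) hv)

theorem cen_top : cenMod W V H (f.VW c) ≤ W := by
  rcases f.chief _ (fun g hg => cen_normalized (f.HW hg) (f.HV hg) (le_normalizer hg))
    (le_cenMod f.lt.le f.HW) cenMod_le with h | h
  · exact h.le
  · exact absurd (comm_le fun v hv a ha => (h.ge hv).2 a ha) f.nc

theorem pair_facts {A B : Subgroup G} (q : Pair H E A B) :
    com W V A ≤ cenMod W V A (f.VW c) ∧ com W V A ≤ cenMod W V B (f.VW c) ∧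
      com W V B ≤ cenMod W V A (f.VW c) := by
  have hA : ∀ x ∈ ⁅V, A⁆, x ∈ A := fun x hx => (comm_le fun v hv a ha => by
    have := mul_mem ha ((mem_normalizer_iff.mp (q.EY (f.VE hv)) _).mp (inv_mem ha))
    simpa [mul_assoc] using this : ⁅V, A⁆ ≤ A) hx
  have hB : ∀ x ∈ ⁅V, B⁆, x ∈ B := fun x hx => (comm_le fun v hv a ha => by
    have := mul_mem ha ((mem_normalizer_iff.mp (q.EO (f.VE hv)) _).mp (inv_mem ha))
    simpa [mul_assoc] using this : ⁅V, B⁆ ≤ B) hx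
  have hV : ∀ {C : Subgroup G}, C ≤ H → ⁅V, C⁆ ≤ V := fun hC => le_sup_left.trans (f.com_le c hC)
  have triv : ∀ {x a : G}, a * x = x * a → a * x * a⁻¹ * x⁻¹ ∈ W := fun h => by
    rw [h, mul_inv_cancel_right, mul_inv_cancel]; exact one_mem _
  refine ⟨sup_le (fun x hx => ⟨hV q.YH hx, fun a ha => triv ?_⟩) (le_cenMod f.lt.le (q.YH.trans f.HW)),
    sup_le (fun x hx => ⟨hV q.YH hx, fun b hb => triv ?_⟩) (le_cenMod f.lt.le (q.OH.trans f.HW)),
    sup_le (fun x hx => ⟨hV q.OH hx, fun a ha => triv ?_⟩) (le_cenMod f.lt.le (q.YH.trans f.HW))⟩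
  · exact (mem_centralizer_iff.mp (q.OY (q.YO ha)) x (hA x hx)).symm
  · exact (mem_centralizer_iff.mp (q.OY hb) x (hA x hx)).symm
  · exact mem_centralizer_iff.mp (q.OY (hB x hx)) a ha

/-- `V = [V, Y']W C_V(Y)`, and symmetrically. -/
theorem decomp : com W V Y' ⊔ cenMod W V Y (f.VW c) = V ∧ com W V Y ⊔ cenMod W V Y' (f.VW c) = V := by
  obtain ⟨h1, -, h3⟩ := f.pair_facts c c.pair
  obtain ⟨h1', -, h3'⟩ := f.pair_facts c c.pair'
  have key : ∀ T : Subgroup G, W ≤ T → T ≤ V → ∀ C : Subgroup G, L ⊔ C = H → com W V Y ≤ T → com W V Y' ≤ T →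
      com W V C ≤ T → T = V := by
    intro T hWT hTV C hC a b d
    refine le_antisymm hTV ((f.top_comm c).ge.trans (sup_le (comm_le fun v hv a' ha' => ?_) hWT))
    have hle : H ≤ fixOn T (V : Set G) := by
      rw [← hC, ← c.gen]
      refine sup_le (sup_le ?_ ?_) ?_ <;>
        intro x hx <;> refine mem_fixOn_of_comm hTV fun v hv => ?_
      · exact a (mem_sup_left (comm_mem le_rfl hv hx))
      · exact b (mem_sup_left (comm_mem le_rfl hv hx))
      · exact d (mem_sup_left (comm_mem le_rfl hv hx))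
    exact (hle ha').2 v hv
  exact ⟨key _ (le_sup_right.trans le_sup_left) (sup_le (f.com_le c c.pair'.YH) cenMod_le) O c.LO
      (h1.trans le_sup_right) le_sup_left (h3.trans le_sup_right),
    key _ (le_sup_right.trans le_sup_left) (sup_le (f.com_le c c.pair.YH) cenMod_le) O' c.LO'
      le_sup_left (h1'.trans le_sup_right) (h3'.trans le_sup_right)⟩

theorem inf_le : com W V Y ⊓ cenMod W V Y' (f.VW c) ≤ W ∧ com W V Y' ⊓ cenMod W V Y (f.VW c) ≤ W := by
  obtain ⟨h1, h2, -⟩ := f.pair_facts c c.pair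
  obtain ⟨h1', h2', -⟩ := f.pair_facts c c.pair'
  have key : ∀ {v : G}, v ∈ V → ∀ C : Subgroup G, L ⊔ C = H → C ≤ H → v ∈ cenMod W V Y (f.VW c) →
      v ∈ cenMod W V Y' (f.VW c) → v ∈ cenMod W V C (f.VW c) → v ∈ W := by
    intro v hv C hC hCH a b d
    refine f.cen_top c ⟨hv, fun x hx => ?_⟩
    have hle : H ≤ fixOn W ({v} : Set G) := by
      rw [← hC, ← c.gen]
      refine sup_le (sup_le ?_ ?_) ?_ <;> intro y hy <;> refine ⟨?_, fun w hw => ?_⟩
      · exact f.HW (c.pair.YH hy)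
      · rw [Set.mem_singleton_iff.mp hw]; exact a.2 y hy
      · exact f.HW (c.pair'.YH hy)
      · rw [Set.mem_singleton_iff.mp hw]; exact b.2 y hy
      · exact f.HW (hCH hy)
      · rw [Set.mem_singleton_iff.mp hw]; exact d.2 y hy
    exact (hle hx).2 v rfl
  exact ⟨fun v hv => key (cenMod_le hv.2) O c.LO c.pair.OH (h1 hv.1) hv.2 (h2 hv.1),
    fun v hv => key (cenMod_le hv.2) O' c.LO' c.pair'.OH hv.2 (h1' hv.1) (h2' hv.1)⟩

/-- `Y` acts nontrivially. -/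
theorem not_trivial : ¬ com W V Y ≤ W := by
  intro h
  obtain ⟨T, hT⟩ : ∃ T, T = com W V O := ⟨_, rfl⟩
  have hTV : T ≤ V := hT ▸ f.com_le c c.pair.OH
  have hRH : R ≤ H := c.RO ▸ le_sup_left
  obtain ⟨K, hK⟩ : ∃ K, K = fixOn W (V : Set G) ⊓ H := ⟨_, rfl⟩
  have hYK : Y ≤ K := hK ▸ le_inf (fun y hy => mem_fixOn_of_comm f.lt.le fun v hv =>
    h (mem_sup_left (comm_mem le_rfl hv hy))) c.pair.YH
  have hRK : R ≤ K := by
    rw [← c.RY, commutator_le]
    intro r hr y hy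
    have hy' := hYK hy
    rw [hK] at hy' ⊢
    refine mem_inf.mpr ⟨?_, commutatorElement_def r y ▸ mul_mem (mul_mem (mul_mem (hRH hr) hy'.2)
      (inv_mem (hRH hr))) (inv_mem hy'.2)⟩
    rw [commutatorElement_def]
    exact mul_mem (fixOn_normalizer (f.HW (hRH hr)) (f.HV (hRH hr)) hy'.1) (inv_mem hy'.1)
  have hle : H ≤ fixOn T (V : Set G) := by
    rw [← c.RO]
    refine sup_le ?_ ?_ <;> intro x hx <;> refine mem_fixOn_of_comm hTV fun v hv => ?_ <;> rw [hT]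
    · exact mem_sup_right ((hK ▸ hRK hx : x ∈ fixOn W (V : Set G) ⊓ H).1.2 v hv)
    · exact mem_sup_left (comm_mem le_rfl hv hx)
  refine not_le_comm_sup (P := E ⊔ O) (IsPGroup.to_sup_of_normal_left' c.Ep c.Op (c.pair.OH.trans c.HE))
    (f.VE.trans le_sup_left) le_sup_right (f.VW c) (c.pair.OH.trans f.HW) f.lt.not_ge f.lt.le ?_
  exact (f.top_comm c).ge.trans (sup_le (comm_le fun v hv a ha => hT.le ((hle ha).2 v hv)) le_sup_right)

/-- `I = [V, Y][V, Y']W`. -/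
theorem L_normalizes : L ≤ normalizer ((com W V Y ⊔ com W V Y' : Subgroup G) : Set G) := by
  rw [← c.gen]
  refine sup_le ?_ ?_ <;> intro y hy <;> refine mem_normalizer_of_comm fun t ht => ?_
  · exact mem_sup_left (mem_sup_left (comm_mem le_rfl
      (sup_le (f.com_le c c.pair.YH) (f.com_le c c.pair'.YH) ht) hy))
  · exact mem_sup_right (mem_sup_left (comm_mem le_rfl
      (sup_le (f.com_le c c.pair.YH) (f.com_le c c.pair'.YH) ht) hy))

theorem cen_I {i : G} (hi : i ∈ com W V Y ⊔ com W V Y') (hi' : i ∈ cenMod W V Y (f.VW c)) :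
    i ∈ com W V Y := by
  have hY' := f.com_le c c.pair'.YH
  have hYV := f.com_le c c.pair.YH
  rw [← SetLike.mem_coe, coe_mul_of_left_le_normalizer_right _ _
    (hYV.trans (f.V_normalizes c le_sup_right hY'))] at hi
  obtain ⟨a, ha, b, hb, rfl⟩ := hi
  refine mul_mem ha (mem_sup_right ((f.inf_le c).2 ⟨hb, ?_⟩))
  simpa using mul_mem (inv_mem ((f.pair_facts c c.pair).1 ha)) hi'

/-- `C_V(Y) = [V, Y]W C_V(L)`. -/
theorem cen_eq :
    cenMod W V Y (f.VW c) = com W V Y ⊔ (cenMod W V Y (f.VW c) ⊓ cenMod W V Y' (f.VW c)) := by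
  have h1 := (f.pair_facts c c.pair).1
  refine le_antisymm (fun b hb => ?_) (sup_le h1 inf_le_left)
  have hb' : b ∈ com W V Y ⊔ cenMod W V Y' (f.VW c) := (f.decomp c).2.ge (cenMod_le hb)
  rw [← SetLike.mem_coe, coe_mul_of_left_le_normalizer_right _ _ ((f.com_le c c.pair.YH).trans
    (f.V_normalizes c (le_cenMod f.lt.le (c.pair'.YH.trans f.HW)) cenMod_le))] at hb'
  obtain ⟨a, ha, d, hd, rfl⟩ := hb'
  exact mul_mem (mem_sup_left ha) (mem_sup_right
    (mem_inf.mpr ⟨by simpa using mul_mem (inv_mem (h1 ha)) hb, hd⟩))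

theorem L_trivial : L ≤ fixOn W ((cenMod W V Y (f.VW c) ⊓ cenMod W V Y' (f.VW c) : Subgroup G) : Set G) := by
  refine c.gen.ge.trans ?_
  exact sup_le (fun y hy => ⟨f.HW (c.pair.YH hy), fun v hv => hv.1.2 y hy⟩)
    fun y hy => ⟨f.HW (c.pair'.YH hy), fun v hv => hv.2.2 y hy⟩

/-- A `p`-subgroup containing `Y` pins down a piece of `[V, Y]`. -/
theorem sup_ne {X A : Subgroup G} (hXL : X ≤ L) (hYA : Y ≤ A) (hAX : A ≤ X) (hA : IsPGroup p A)
    (hXA : X ≤ normalizer (A : Set G)) : X ⊔ O ≠ H := by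
  intro hXO
  have hXH : X ≤ H := hXL.trans (c.LO ▸ le_sup_left)
  obtain ⟨I, hI⟩ : ∃ I, I = com W V Y ⊔ com W V Y' := ⟨_, rfl⟩
  have hIV : I ≤ V := hI ▸ sup_le (f.com_le c c.pair.YH) (f.com_le c c.pair'.YH)
  have hIn : L ≤ normalizer (I : Set G) := hI ▸ f.L_normalizes c
  have hIW : I ≤ normalizer (W : Set G) := hIV.trans (f.VW c)
  have hne := exists_fixed (A := A) (P := V ⊔ A)
    (IsPGroup.to_sup_of_normal_left' (c.Ep.to_le f.VE) hA ((hAX.trans hXH).trans f.HV))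
    (hIV.trans le_sup_left) le_sup_right (hI ▸ le_sup_right.trans le_sup_left) hIW
    ((hAX.trans hXH).trans f.HW) ((hAX.trans hXL).trans hIn)
    (fun h => f.not_trivial c ((hI ▸ le_sup_left : com W V Y ≤ I).trans h))
  obtain ⟨Z, hZ⟩ : ∃ Z, Z = cenMod W I A hIW := ⟨_, rfl⟩
  rw [← hZ] at hne
  have hZW1 : Z ≤ com W V Y := fun z hz => by
    rw [hZ] at hz
    exact f.cen_I c (hI ▸ hz.1) ⟨hIV hz.1, fun y hy => hz.2 y (hYA hy)⟩
  have hWZ : W ≤ Z := hZ ▸ le_cenMod (hI ▸ le_sup_right.trans le_sup_left) ((hAX.trans hXH).trans f.HW)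
  have hZn : H ≤ normalizer (Z : Set G) := by
    rw [← hXO]
    refine sup_le (fun x hx => hZ ▸ cen_normalized (f.HW (hXH hx)) (hIn (hXL hx)) (hXA hx))
      (fun o ho => mem_normalizer_of_comm fun z hz => hWZ ?_)
    exact ((f.pair_facts c c.pair).2.1 (hZW1 hz)).2 o ho
  rcases f.chief Z hZn hWZ ((hZW1.trans (f.com_le c c.pair.YH))) with h | h
  · exact hne h.le
  · exact f.not_trivial c (sup_le (comm_le fun v hv y hy =>
      ((f.pair_facts c c.pair).1 (hZW1 (h.ge hv))).2 y hy) le_rfl)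

/-- An element of `L` moving `Y` inside `O` normalizes `[V, Y]W`. -/
theorem normalizes_com {x : G} (hx : x ∈ L) (hY : ∀ y ∈ Y, x * y * x⁻¹ ∈ O) :
    x ∈ normalizer ((com W V Y : Subgroup G) : Set G) := by
  have hxH : x ∈ H := (c.LO ▸ le_sup_left : L ≤ H) hx
  refine inv_mem_iff.mp (mem_normalizer_fintype fun w hw => ?_)
  rw [inv_inv]
  refine f.cen_I c ((mem_normalizer_iff''.mp (f.L_normalizes c hx) w).mp (mem_sup_left hw))
    ⟨(mem_normalizer_iff''.mp (f.HV hxH) w).mp (f.com_le c c.pair.YH hw), fun y hy => ?_⟩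
  have h1 := (mem_normalizer_iff''.mp (f.HW hxH) _).mp (((f.pair_facts c c.pair).2.1 hw).2 _ (hY y hy))
  simpa [mul_assoc] using h1

/-- The three steps of the factor are acted on alike by `O` and its conjugate by `x`. -/
theorem triv_of_coprime {x : G} (hx : x ∈ L) (hY : ∀ y ∈ Y, x * y * x⁻¹ ∈ O) {g : G} {n : ℕ}
    (hg : g ∈ O ⊔ O.map (MulAut.conj x).toMonoidHom) (hn : n.Coprime p) (hgn : g ^ n = 1) :
    ∀ v ∈ V, g * v * g⁻¹ * v⁻¹ ∈ W := by
  obtain ⟨W₁, hW₁⟩ : ∃ W₁, W₁ = com W V Y := ⟨_, rfl⟩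
  obtain ⟨B, hB⟩ : ∃ B, B = cenMod W V Y (f.VW c) := ⟨_, rfl⟩
  have hxH : x ∈ H := (c.LO ▸ le_sup_left : L ≤ H) hx
  obtain ⟨h1, h2, h3⟩ := f.pair_facts c c.pair
  rw [← hW₁] at h1 h2
  rw [← hB] at h1 h3
  have hWW : W ≤ W₁ := hW₁ ▸ le_sup_right
  have hBV : B ≤ V := hB ▸ cenMod_le
  have hxW : x ∈ normalizer (W₁ : Set G) := hW₁ ▸ f.normalizes_com c hx hY
  have hxC : x ∈ normalizer (((cenMod W V Y (f.VW c) ⊓ cenMod W V Y' (f.VW c) : Subgroup G)) : Set G) :=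
    mem_normalizer_of_comm fun t ht => le_inf (le_cenMod f.lt.le (c.pair.YH.trans f.HW))
      (le_cenMod f.lt.le (c.pair'.YH.trans f.HW)) ((f.L_trivial c hx).2 t ht)
  have hxB : x ∈ normalizer (B : Set G) := by
    rw [hB, f.cen_eq c]
    exact sup_normalized (K := zpowers x) (zpowers_le.mpr (hW₁ ▸ hxW)) (zpowers_le.mpr hxC)
      (mem_zpowers x)
  have hxfix : x ∈ fixOn W₁ (B : Set G) := by
    refine ⟨hxW, fun v hv => ?_⟩
    rw [SetLike.mem_coe, hB, f.cen_eq c, ← SetLike.mem_coe,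
      coe_mul_of_left_le_normalizer_right _ _ ((f.com_le c c.pair.YH).trans (f.V_normalizes c
        (le_inf (le_cenMod f.lt.le (c.pair.YH.trans f.HW)) (le_cenMod f.lt.le (c.pair'.YH.trans f.HW)))
        (inf_le_left.trans cenMod_le)))] at hv
    obtain ⟨a, ha, d, hd, rfl⟩ := hv
    rw [← hW₁] at ha
    have := mul_mem (mul_mem ((mem_normalizer_iff.mp hxW a).mp ha)
      (hWW ((f.L_trivial c hx).2 d hd))) (inv_mem ha)
    simpa [mul_assoc] using this
  have hO₁ : O ≤ fixOn W (W₁ : Set G) := fun o ho => ⟨f.HW (c.pair.OH ho), fun v hv => (h2 hv).2 o ho⟩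
  have hO₂ : O ≤ fixOn B (V : Set G) := fun o ho => mem_fixOn_of_comm hBV fun v hv =>
    h3 (mem_sup_left (comm_mem le_rfl hv ho))
  have hO₁' : O.map (MulAut.conj x).toMonoidHom ≤ fixOn W (W₁ : Set G) := by
    rintro _ ⟨o, ho, rfl⟩; exact fixOn_normalizer (f.HW hxH) hxW (hO₁ ho)
  have hO₂' : O.map (MulAut.conj x).toMonoidHom ≤ fixOn B (V : Set G) := by
    rintro _ ⟨o, ho, rfl⟩; exact fixOn_normalizer hxB (f.HV hxH) (hO₂ ho)
  have hg₁ := sup_le hO₁ hO₁' hg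
  have hg₂ := sup_le hO₂ hO₂' hg
  -- the middle step
  obtain ⟨F, hF⟩ : ∃ F, F = fixOn W₁ (B : Set G) ⊓ normalizer (B : Set G) := ⟨_, rfl⟩
  have hON : O ≤ normalizer (W₁ : Set G) := fun o ho => mem_normalizer_of_comm fun t ht =>
    hWW ((hO₁ ho).2 t ht)
  have hOB : O ≤ normalizer (B : Set G) := hO₂.trans (fixOn_le_normalizer _ _)
  have hOF : O ≤ normalizer (F : Set G) := fun o ho => mem_normalizer_fintype fun a ha => by
    rw [SetLike.mem_coe, hF] at ha ⊢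
    exact mem_inf.mpr ⟨fixOn_normalizer (hON ho) (hOB ho) ha.1,
      mul_mem (mul_mem (hOB ho) ha.2) (inv_mem (hOB ho))⟩
  have hxF : x ∈ F := hF ▸ mem_inf.mpr ⟨hxfix, hxB⟩
  have hJ : O ⊔ O.map (MulAut.conj x).toMonoidHom ≤ F ⊔ O := by
    refine sup_le le_sup_right ?_
    rintro _ ⟨o, ho, rfl⟩
    exact mul_mem (mul_mem (mem_sup_left hxF) (mem_sup_right ho)) (inv_mem (mem_sup_left hxF))
  have hgF : g ∈ F := by
    obtain ⟨K, hK⟩ : ∃ K, K = F ⊔ O := ⟨_, rfl⟩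
    haveI : (F.subgroupOf K).Normal := (normal_subgroupOf_iff_le_normalizer (hK ▸ le_sup_left)).mpr
      (hK ▸ sup_le le_normalizer hOF)
    let π := QuotientGroup.mk' (F.subgroupOf K)
    have hgK : g ∈ F ⊔ O := hJ hg
    rw [← SetLike.mem_coe, coe_mul_of_right_le_normalizer_left F O hOF] at hgK
    obtain ⟨a, ha, o, ho, e⟩ := hgK
    obtain ⟨m, hm⟩ := c.Op ⟨o, ho⟩
    have hoK : o ∈ K := hK ▸ mem_sup_right ho
    have haK : a ∈ K := hK ▸ mem_sup_left ha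
    have e1 : π ⟨g, hK ▸ hJ hg⟩ = π ⟨o, hoK⟩ := by
      rw [show (⟨g, hK ▸ hJ hg⟩ : ↥K) = ⟨a, haK⟩ * ⟨o, hoK⟩ from Subtype.ext e.symm, map_mul,
        show π ⟨a, haK⟩ = 1 from (QuotientGroup.eq_one_iff _).mpr ha, one_mul]
    have e2 : orderOf (π ⟨g, hK ▸ hJ hg⟩) ∣ n := orderOf_dvd_of_pow_eq_one (by
      rw [← map_pow, show (⟨g, hK ▸ hJ hg⟩ : ↥K) ^ n = 1 from Subtype.ext (by simpa using hgn), map_one])
    have e3 : orderOf (π ⟨g, hK ▸ hJ hg⟩) ∣ p ^ m := orderOf_dvd_of_pow_eq_one (by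
      rw [e1, ← map_pow, show (⟨o, hoK⟩ : ↥K) ^ p ^ m = 1 from
        Subtype.ext (by simpa using congrArg Subtype.val hm), map_one])
    have e4 := Nat.eq_one_of_dvd_coprimes (Nat.Coprime.pow_right m hn) e2 e3
    exact (QuotientGroup.eq_one_iff (N := F.subgroupOf K) _).mp (orderOf_eq_one_iff.mp e4)
  rw [hF] at hgF
  have hgH : g ∈ H := (sup_le c.pair.OH (by
    rintro _ ⟨o, ho, rfl⟩; exact mul_mem (mul_mem hxH (c.pair.OH ho)) (inv_mem hxH))) hg
  intro v hv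
  have hBw : g * v * g⁻¹ * v⁻¹ ∈ B := hg₂.2 v hv
  have hW1w : g * v * g⁻¹ * v⁻¹ ∈ W₁ := coprime_step c.Ep hn hgn hgF.1.1 (f.VE (hBV hBw))
    (hW₁ ▸ f.V_normalizes c le_sup_right (f.com_le c c.pair.YH) (hBV hBw)) (hgF.1.2 _ hBw)
  exact coprime_step c.Ep hn hgn (f.HW hgH) (f.VE (hBV hBw)) (f.VW c (hBV hBw)) (hg₁.2 _ hW1w)

/-- `O^p(L)` acts nontrivially. -/
theorem residual_nontrivial {A P : Subgroup G} (hA : A ≤ L) (hP : IsPGroup p P) (hPL : P ≤ L)
    (hAP : A ⊔ P = L) : ¬ ⁅V, A⁆ ≤ W := by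
  intro htriv
  have hLH : L ≤ H := c.LO ▸ le_sup_left
  obtain ⟨I, hI⟩ : ∃ I, I = com W V Y ⊔ com W V Y' := ⟨_, rfl⟩
  have hIV : I ≤ V := hI ▸ sup_le (f.com_le c c.pair.YH) (f.com_le c c.pair'.YH)
  have hWI : W ≤ I := hI ▸ le_sup_right.trans le_sup_left
  obtain ⟨T, hT⟩ : ∃ T, T = ⁅I, P⁆ ⊔ W := ⟨_, rfl⟩
  have hTI : T ≤ I := hT ▸ sup_le (comm_le fun v hv a ha =>
    mul_mem ((mem_normalizer_iff.mp ((hI ▸ f.L_normalizes c) (hPL ha)) v).mp hv) (inv_mem hv)) hWI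
  have hle : L ≤ fixOn T (I : Set G) := by
    rw [← hAP]
    refine sup_le ?_ ?_ <;> intro a ha <;> refine mem_fixOn_of_comm hTI fun v hv => hT ▸ ?_
    · exact mem_sup_right (comm_mem htriv (hIV hv) ha)
    · exact mem_sup_left (comm_mem le_rfl hv ha)
  refine not_le_comm_sup (P := V ⊔ P) (IsPGroup.to_sup_of_normal_left' (c.Ep.to_le f.VE) hP
    ((hPL.trans hLH).trans f.HV)) (hIV.trans le_sup_left) le_sup_right (hIV.trans (f.VW c))
    ((hPL.trans hLH).trans f.HW)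
    (fun h => f.not_trivial c ((hI ▸ le_sup_left : com W V Y ≤ I).trans h)) hWI ?_
  rw [← hT]
  have hstep : ∀ (a₀ : Subgroup G) (B : Subgroup G), a₀ ≤ L → B ≤ I → W ≤ T →
      com W V a₀ ≤ V → (B ⊔ cenMod W V a₀ (f.VW c) = V) → com W V a₀ ≤ T := by
    intro a₀ B ha₀ hBI hWT _ hdec
    refine sup_le (comm_le fun v hv a ha => ?_) hWT
    have hv' : v ∈ B ⊔ cenMod W V a₀ (f.VW c) := hdec.ge hv
    rw [← SetLike.mem_coe, coe_mul_of_left_le_normalizer_right _ _ ((hBI.trans hIV).trans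
      (f.V_normalizes c (le_cenMod f.lt.le ((ha₀.trans hLH).trans f.HW)) cenMod_le))] at hv'
    obtain ⟨b, hb, d, hd, rfl⟩ := hv'
    have h1 := (hle (ha₀ ha)).2 b (hBI hb)
    have h2 := hWT ((mem_normalizer_iff.mp (f.VW c (hIV (hBI hb))) _).mp (hd.2 a ha))
    have := mul_mem h1 h2
    simpa [mul_assoc] using this
  have hWT : W ≤ T := hT ▸ le_sup_right
  rw [hI]
  exact sup_le
    (hstep Y _ (c.gen ▸ le_sup_left) (hI ▸ le_sup_right) hWT (f.com_le c c.pair.YH) (f.decomp c).1)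
    (hstep Y' _ (c.gen ▸ le_sup_right) (hI ▸ le_sup_left) hWT (f.com_le c c.pair'.YH) (f.decomp c).2)

/-- An element of `Y` normalizing `Y'` acts trivially. -/
theorem triv_of_normalizing {y : G} (hy : y ∈ Y) (hy' : y ∈ normalizer (Y' : Set G)) :
    y ∈ fixOn W (V : Set G) := by
  refine mem_fixOn_of_comm f.lt.le fun v hv => ?_
  have hv' : v ∈ com W V Y' ⊔ cenMod W V Y (f.VW c) := (f.decomp c).1.ge hv
  rw [← SetLike.mem_coe, coe_mul_of_left_le_normalizer_right _ _ ((f.com_le c c.pair'.YH).trans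
    (f.V_normalizes c (le_cenMod f.lt.le (c.pair.YH.trans f.HW)) cenMod_le))] at hv'
  obtain ⟨b, hb, d, hd, rfl⟩ := hv'
  replace hb : b ∈ com W V Y' := hb
  have hyn : y ∈ normalizer ((com W V Y' : Subgroup G) : Set G) :=
    sup_normalized (K := zpowers y) (comm_normalized (zpowers_le.mpr (f.HV (c.pair.YH hy)))
      (zpowers_le.mpr hy')) (zpowers_le.mpr (f.HW (c.pair.YH hy))) (mem_zpowers y)
  have hbV := f.com_le c c.pair'.YH hb
  have h1 : y * b * y⁻¹ * b⁻¹ ∈ W := (f.inf_le c).2 (mem_inf.mpr ⟨mul_mem ((mem_normalizer_iff.mp hyn b).mp hb) (inv_mem hb),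
    (f.pair_facts c c.pair).1 (mem_sup_left (comm_mem le_rfl hbV hy))⟩)
  have := mul_mem h1 ((mem_normalizer_iff.mp (f.VW c hbV) _).mp (hd.2 y hy))
  simpa [mul_assoc] using this

end Fac

/-- An element of `p'`-order centralizing every factor centralizes `E`. -/
theorem centralizes_of_factors {g : G} {n : ℕ} (hn : n.Coprime p) (hgn : g ^ n = 1) (hgH : g ∈ H)
    (hE : IsPGroup p E) (hEH : E ≤ H) (hHE : H ≤ normalizer (E : Set G))
    (h : ∀ V W : Subgroup G, Fac H E V W → ∀ v ∈ V, g * v * g⁻¹ * v⁻¹ ∈ W) :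
    g ∈ centralizer (E : Set G) := by
  suffices key : ∀ m : ℕ, ∀ V : Subgroup G, Nat.card ↥V = m → V ≤ E → H ≤ normalizer (V : Set G) →
      ∀ v ∈ V, g * v * g⁻¹ * v⁻¹ = 1 from
    mem_centralizer_iff.mpr fun e he => (mul_inv_eq_iff_eq_mul.mp (mul_inv_eq_one.mp (key _ E rfl le_rfl hHE e he))).symm
  intro m
  induction m using Nat.strong_induction_on with
  | _ m ih =>
  intro V hm hVE hV v hv
  by_cases hbot : V = ⊥
  · rw [hbot, mem_bot] at hv; simp [hv]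
  obtain ⟨W, -, ⟨hWV, hW⟩, hWmax⟩ := Finite.exists_le_maximal
    (p := fun W : Subgroup G => W < V ∧ H ≤ normalizer (W : Set G)) (a := ⊥)
    ⟨bot_lt_iff_ne_bot.mpr hbot, fun x _ => mem_normalizer_fintype fun a ha => by simp_all⟩
  have hgW : ∀ w ∈ W, g * w * g⁻¹ * w⁻¹ = 1 :=
    ih _ (hm ▸ Set.Finite.card_lt_card (Set.toFinite (V : Set G)) hWV) W rfl (hWV.le.trans hVE) hW
  have hgv : g * v * g⁻¹ * v⁻¹ ∈ W := by
    by_cases hnc : ⁅V, H⁆ ≤ W
    · exact comm_mem hnc hv hgH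
    refine h V W ⟨hVE, hV, hW, hWV, fun Z hZ hWZ hZV => ?_, hnc⟩ v hv
    rcases hZV.lt_or_eq with hlt | he
    · exact Or.inl (le_antisymm (hWmax ⟨hlt, hZ⟩ hWZ) hWZ)
    · exact Or.inr he
  have := coprime_step (W := (⊥ : Subgroup G)) hE hn hgn
    (mem_normalizer_fintype fun a ha => by simp_all) (hVE (hWV.le hgv))
    (mem_normalizer_fintype fun a ha => by simp_all) (mem_bot.mpr (hgW _ hgv))
  exact mem_bot.mp this

end Cfsg.Agent.Invol.AsymLFactor
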