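import Mathlib

/-!
# The arithmetic of the quaternion case of order eight
-/

namespace Cfsg.Agent.BS

theorem residues_33 : ∀ A v : ZMod 4, A * A * 3 * (1 - 3) = 1 * v * (v * (1 + 1) - 2 * A * 3) →
    2 * A = 0 ∧ 2 * v = 0 := by decide

theorem residues_11 : ∀ A v : ZMod 4, A * A * 1 * (1 - 1) = 1 * v * (v * (1 + 1) - 2 * A * 1) →
    2 * A = 0 → 2 * v = 2 → False := by decide

theorem residues_13 : ∀ A v : ZMod 4, A * A * 3 * (1 - 3) = 3 * v * (v * (3 + 1) - 2 * A * 3) →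
    2 * A = 2 → 2 * v = 0 → False := by decide

theorem two_mul_cast_eq_zero {x : ℤ} : (2 * (x : ZMod 4) = 0) ↔ 2 ∣ x := by
  have := ZMod.intCast_zmod_eq_zero_iff_dvd (2 * x) 4
  push_cast at this
  rw [this]
  constructor <;> intro h <;> omega

theorem two_mul_cast_eq_two {x : ℤ} (h : ¬ 2 ∣ x) : 2 * (x : ZMod 4) = 2 := by
  obtain ⟨k, rfl⟩ : ∃ k, x = 2 * k + 1 := ⟨x / 2, by omega⟩
  push_cast
  have h4 : (4 : ZMod 4) = 0 := rfl
  linear_combination (k : ZMod 4) * h4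

theorem cast_mod_four {x r : ℤ} (h : x % 4 = r) : (x : ZMod 4) = (r : ZMod 4) := by
  obtain ⟨k, rfl⟩ : ∃ k, x = 4 * k + r := ⟨x / 4, by omega⟩
  push_cast
  have h4 : (4 : ZMod 4) = 0 := rfl
  linear_combination (k : ZMod 4) * h4

theorem descent {d c : ℤ} (hd : d % 4 = 3) (hc : c % 4 = 1) :
    ∀ (N : ℕ) (A v : ℤ), A.natAbs = N → A * A * d * (1 - d) = c * v * (v * (c + 1) - 2 * A * d) →
      A = 0 := by
  intro N
  induction N using Nat.strong_induction_on with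
  | _ N ih =>
    intro A v hN h
    by_contra hA
    have h4 := congrArg (Int.cast : ℤ → ZMod 4) h
    push_cast at h4
    rw [cast_mod_four hd, cast_mod_four hc] at h4
    push_cast at h4
    obtain ⟨hA2, hv2⟩ := residues_33 _ _ h4
    obtain ⟨a, rfl⟩ := two_mul_cast_eq_zero.1 hA2
    obtain ⟨w, rfl⟩ := two_mul_cast_eq_zero.1 hv2
    have h' : a * a * d * (1 - d) = c * w * (w * (c + 1) - 2 * a * d) := by
      refine mul_left_cancel₀ (show (4 : ℤ) ≠ 0 by norm_num) ?_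
      linear_combination h
    have := ih a.natAbs (by omega) a w rfl h'
    omega

/-- No solutions of the equation from the quaternion group of order eight. -/
theorem no_solution {d₁ d₂ v₁ v₂ : ℤ} (hd₁ : 0 < d₁) (hd₂ : 0 < d₂) (hv₁ : 0 < v₁) (hv₂ : 0 < v₂)
    (p₁ : 4 ∣ d₁ - 3 - 2 * v₁) (p₂ : 4 ∣ d₂ - 3 - 2 * v₂)
    (h : (v₁ + v₂) ^ 2 * (d₁ * d₂) = (d₁ + d₂ - 1) * (v₁ * d₂ - v₂ * d₁) ^ 2) : False := by
  wlog hle : d₁ % 4 ≤ d₂ % 4 generalizing d₁ d₂ v₁ v₂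
  · exact this hd₂ hd₁ hv₂ hv₁ p₂ p₁ (by linear_combination h) (by omega)
  set c := d₁ + d₂ - 1 with hc
  set A := v₁ + v₂ with hA
  have h' : A * A * d₂ * (1 - d₂) = c * v₂ * (v₂ * (c + 1) - 2 * A * d₂) := by
    refine mul_left_cancel₀ (show c + 1 ≠ 0 by omega) ?_
    rw [hA, hc] at *
    linear_combination h
  rcases (by omega : (d₁ % 4 = 1 ∧ d₂ % 4 = 1) ∨ (d₁ % 4 = 1 ∧ d₂ % 4 = 3) ∨
    (d₁ % 4 = 3 ∧ d₂ % 4 = 3)) with ⟨e₁, e₂⟩ | ⟨e₁, e₂⟩ | ⟨e₁, e₂⟩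
  · have h4 := congrArg (Int.cast : ℤ → ZMod 4) h'
    push_cast at h4
    rw [cast_mod_four e₂, cast_mod_four (show c % 4 = 1 by omega)] at h4
    push_cast at h4
    exact residues_11 _ _ h4 (two_mul_cast_eq_zero.2 (by omega)) (two_mul_cast_eq_two (by omega))
  · have h4 := congrArg (Int.cast : ℤ → ZMod 4) h'
    push_cast at h4
    rw [cast_mod_four e₂, cast_mod_four (show c % 4 = 3 by omega)] at h4
    push_cast at h4
    exact residues_13 _ _ h4 (two_mul_cast_eq_two (by omega)) (two_mul_cast_eq_zero.2 (by omega))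
  · have := descent e₂ (show c % 4 = 1 by omega) _ A v₂ rfl h'
    omega

end Cfsg.Agent.BS
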