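import Cfsg.Agent.Lib.Block.SuzukiIdentity
import Cfsg.Agent.Lib.Block.KleinFour
import Cfsg.Agent.Lib.Invol.BSLocal
import Cfsg.Agent.Lib.Invol.BSArith

/-!
# The principal block of a perfect group of 2-rank one

Some nontrivial character of the principal block has the involution in its kernel.
-/

open scoped ComplexConjugate

set_option linter.unusedSectionVars false
set_option linter.style.haveILetI false

namespace Cfsg.Agent.BS

open Cfsg Cfsg.Agent.Block

universe u

theorem sum_zpowers {G : Type*} [Group G] [Finite G] (b : G) [Fintype (Subgroup.zpowers b)]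
    (F : G → ℂ) : ∑ y : Subgroup.zpowers b, F y = ∑ i ∈ Finset.range (orderOf b), F (b ^ i) := by
  rw [Finset.sum_range]
  exact ((finEquivZPowers (isOfFinOrder_of_finite b)).sum_comp fun y : Subgroup.zpowers b => F y).symm

variable {G : Type u} [Group G] [Finite G] {M : Ideal AlgInt} (D : QData G)

/-- The elements of order at least four of the cyclic subgroup. -/
def QData.U : Set G := {y | y ∈ D.C ∧ y ^ 2 ≠ 1}

theorem QData.pow_two_order {y : G} (hy : y ∈ D.C) : ∃ k : ℕ, orderOf y = 2 ^ k :=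
  haveI : Fact (Nat.Prime 2) := ⟨Nat.prime_two⟩
  pPow_of_mem D.Q.isPGroup' (D.C_le hy)

theorem QData.orth_one_zz (hM : IsPModular 2 M) {y : G} (hy : y ∈ D.U) {x : G}
    (hx : x = 1 ∨ x = D.zz) :
    ∑ᶠ χ ∈ principalBlock M G, (χ : G → ℂ) y * conj ((χ : G → ℂ) x) = 0 := by
  haveI : Fact (Nat.Prime 2) := ⟨Nat.prime_two⟩
  have hy2 := hy.2
  refine principal_pElem_orth hM (D.pow_two_order hy.1) ?_ fun hc => ?_
  · rcases hx with rfl | rfl
    · exact ⟨0, by simp⟩
    · exact ⟨1, by rw [D.zz_order, pow_one]⟩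
  · have := Invol.orderOf_eq_of_isConj hc
    refine hy2 (orderOf_dvd_iff_pow_eq_one.1 ?_)
    rcases hx with rfl | rfl
    · rw [this, orderOf_one]; norm_num
    · rw [this, D.zz_order]

theorem QData.hw (h : TwoRankOne G) (hM : IsPModular 2 M) {y : G} (hy : y ∈ D.U) :
    ∑ᶠ ψ ∈ principalBlock M (Subgroup.centralizer ({y} : Set G)),
        ((charDegree (ψ : Subgroup.centralizer ({y} : Set G) → ℂ) : ℕ) : ℂ) ^ 2 =
      1 * Nat.card ↥((D.Q : Subgroup G) ⊓ Subgroup.centralizer ({y} : Set G)) := by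
  haveI : Fact (Nat.Prime 2) := ⟨Nat.prime_two⟩
  obtain ⟨K, hKn, hK, hidx⟩ := D.centralizer_complement h hy.1 hy.2
  obtain ⟨k, hk⟩ := D.exists_pow
  have h2 := principal_column_complement hM hK (k := k) (hidx.trans hk)
    (y := (1 : Subgroup.centralizer ({y} : Set G))) (by simp)
  have hC : (Nat.card (Subgroup.centralizer ({y} : Set G))).factorization 2 = k := by
    rw [← K.card_mul_index, hidx, hk, Nat.factorization_mul Nat.card_pos.ne' (pow_ne_zero _ two_ne_zero),
      Finsupp.add_apply, Nat.factorization_eq_zero_of_not_dvd hK,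
      Nat.Prime.factorization_pow Nat.prime_two, Finsupp.single_eq_same, zero_add]
  rw [hC] at h2
  rw [D.inf_centralizer hy.1 hy.2, D.card_C, hk, one_mul, ← h2]
  refine finsum_congr fun ψ => finsum_congr fun _ => ?_
  rw [charDeg_spec' ψ, Complex.conj_natCast, sq]

/-- The test function `1 - μ`. -/
noncomputable def theta (μ : D.C →* ℂˣ) : D.C → ℂ := fun y => 1 - (μ y : ℂ)

theorem theta_genChar (μ : D.C →* ℂˣ) : IsGeneralizedCharacter D.C (theta D μ) :=
  ⟨fun _ => 1, fun y => (μ y : ℂ), Cfsg.Agent.Char.IsChar.one,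
    Cfsg.Agent.Char.IsIrr.isCharacter (Cfsg.Agent.Char.isIrr_linear μ), rfl⟩

/-- The coefficient of a character. -/
noncomputable def coef [Fintype D.C] (μ : D.C →* ℂˣ) (χ : IrrCharacter G) : ℂ :=
  (Nat.card D.C : ℂ)⁻¹ * ∑ y : D.C, (χ : G → ℂ) y * theta D μ y⁻¹

theorem coef_int [Fintype D.C] (μ : D.C →* ℂˣ) (χ : IrrCharacter G) :
    ∃ m : ℤ, coef D μ χ = m := by
  have hres := Cfsg.Agent.Char.IsChar.res (irr_isChar χ) D.C
  have h1 : IsCharacter D.C (fun _ => (1 : ℂ)) := Cfsg.Agent.Char.IsChar.one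
  have h2 : IsCharacter D.C (fun y => (μ y : ℂ)) :=
    Cfsg.Agent.Char.IsIrr.isCharacter (Cfsg.Agent.Char.isIrr_linear μ)
  obtain ⟨a, ha⟩ := Cfsg.Agent.Char.IsChar.classInner_nat hres h1
  obtain ⟨b, hb⟩ := Cfsg.Agent.Char.IsChar.classInner_nat hres h2
  refine ⟨(a : ℤ) - b, ?_⟩
  push_cast
  rw [← ha, ← hb, ← Cfsg.Agent.Char.classInner_sub_right, coef, classInner]
  congr 1
  refine Finset.sum_congr rfl fun y _ => ?_
  rw [genChar_apply_inv (theta_genChar D μ) y]
  rfl

theorem coef_moment [Fintype D.C] (μ : D.C →* ℂˣ) (hθ : ∀ y : D.C, (y : G) ∉ D.U → theta D μ y = 0)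
    (S : Finset (IrrCharacter G)) (f : IrrCharacter G → ℂ)
    (hf : ∀ y ∈ D.U, ∑ χ ∈ S, f χ * (χ : G → ℂ) y = 0) :
    ∑ χ ∈ S, f χ * coef D μ χ = 0 := by
  simp only [coef, Finset.mul_sum]
  rw [Finset.sum_comm]
  refine Finset.sum_eq_zero fun y _ => ?_
  rcases eq_or_ne (theta D μ y⁻¹) 0 with h0 | h0
  · simp [h0]
  have hyU : (y : G) ∈ D.U := by
    by_contra hU
    exact h0 (by rw [genChar_apply_inv (theta_genChar D μ), hθ y hU, map_zero])
  calc ∑ χ ∈ S, f χ * ((Nat.card D.C : ℂ)⁻¹ * ((χ : G → ℂ) y * theta D μ y⁻¹))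
      = (Nat.card D.C : ℂ)⁻¹ * theta D μ y⁻¹ * ∑ χ ∈ S, f χ * (χ : G → ℂ) y := by
        rw [Finset.mul_sum]; exact Finset.sum_congr rfl fun χ _ => by ring
    _ = 0 := by rw [hf y hyU, mul_zero]

/-- A nontrivial character of the principal block with the involution in its kernel. -/
theorem exists_kernel_char (h : TwoRankOne G) (hM : IsPModular 2 M) (hperf : commutator G = ⊤) :
    ∃ χ : IrrCharacter G, χ ≠ trivialIrr G ∧ (χ : G → ℂ) D.zz = (χ : G → ℂ) 1 := by
  classical
  haveI : Fact (Nat.Prime 2) := ⟨Nat.prime_two⟩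
  cases nonempty_fintype G
  by_contra hno
  push Not at hno
  -- the linear character
  set n := orderOf D.b with hn
  have hn0 : (n : ℂ) ≠ 0 := Nat.cast_ne_zero.2 (orderOf_pos D.b).ne'
  have hI : (Units.mk0 Complex.I Complex.I_ne_zero) ^ 4 = 1 :=
    Units.ext (by simp [Complex.I_pow_four])
  set g₀ : D.C := ⟨D.b, Subgroup.mem_zpowers _⟩ with hg₀
  have hg₀gen : ∀ y : D.C, y ∈ Subgroup.zpowers g₀ := fun y => by
    obtain ⟨i, hi⟩ := Subgroup.mem_zpowers_iff.1 y.2
    exact Subgroup.mem_zpowers_iff.2 ⟨i, Subtype.ext hi⟩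
  have hg₀o : orderOf g₀ = n := Subgroup.orderOf_mk D.b _
  have mkex : ∀ w : ℂˣ, w ^ 4 = 1 → ∃ f : D.C →* ℂˣ, f g₀ = w := fun w hw =>
    ⟨monoidHomOfForallMemZpowers hg₀gen (g' := w)
      ((orderOf_dvd_of_pow_eq_one hw).trans (hg₀o ▸ D.h4)), monoidHomOfForallMemZpowers_apply_gen _ _⟩
  choose mk hmk using mkex
  have hmem0 : ∀ i : ℕ, D.b ^ i ∈ D.C := fun i => Subgroup.npow_mem_zpowers _ _
  have hmki : ∀ w hw (i : ℕ) (hi : D.b ^ i ∈ D.C), mk w hw ⟨D.b ^ i, hi⟩ = w ^ i :=
    fun w hw i hi => by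
      rw [show (⟨D.b ^ i, hi⟩ : D.C) = g₀ ^ i from Subtype.ext rfl, map_pow, hmk]
  let ω : ℂˣ := if n = 4 then -1 else Units.mk0 Complex.I Complex.I_ne_zero
  have hω : ω ^ 4 = 1 := by
    simp only [ω]
    split_ifs
    · exact Units.ext (by norm_num)
    · exact hI
  set μ := mk ω hω with hμ
  obtain ⟨k, hk⟩ := D.exists_pow
  have hk2 : 2 ≤ k := by
    by_contra hlt
    have h4 := Nat.le_of_dvd (orderOf_pos D.b) D.h4
    rw [hk] at h4
    have : 2 ^ k ≤ 2 ^ 1 := Nat.pow_le_pow_right (by norm_num) (by omega)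
    omega
  have hωzz : ω ^ (n / 2) = 1 := by
    simp only [ω]
    split_ifs with h4
    · rw [h4]; exact Units.ext (by norm_num)
    · have hk3 : 3 ≤ k := by
        by_contra hlt
        exact h4 (by rw [hn, hk, show k = 2 by omega]; norm_num)
      obtain ⟨j, rfl⟩ : ∃ j, k = j + 3 := ⟨k - 3, by omega⟩
      rw [hn, hk, show 2 ^ (j + 3) / 2 = 4 * 2 ^ j by rw [pow_add]; omega, pow_mul, hI, one_pow]
  have hθ : ∀ y : D.C, (y : G) ∉ D.U → theta D μ y = 0 := by
    intro y hy
    have hy2 : (y : G) ^ 2 = 1 := by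
      by_contra hne
      exact hy ⟨y.2, hne⟩
    simp only [theta]
    by_cases hy1 : (y : G) = 1
    · rw [show y = 1 from Subtype.ext hy1, map_one, Units.val_one, sub_self]
    · have : y = ⟨D.b ^ (n / 2), hmem0 _⟩ :=
        Subtype.ext (D.eq_zz h (D.C_le y.2) hy2 hy1)
      rw [this, hμ, hmki, hωzz, Units.val_one, sub_self]
  -- the norm
  set U := D.U with hU
  have hfus : ∀ u ∈ U, ∀ g : G, g * u * g⁻¹ ∈ (D.C : Set G) →
      ∃ m ∈ (D.Q : Subgroup G), m * u * m⁻¹ = g * u * g⁻¹ := by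
    intro u hu g hg
    rcases D.fusion h hu.1 hu.2 hg with e | e
    · exact ⟨1, one_mem _, by rw [e]; group⟩
    · obtain ⟨q, hq, hqC⟩ := D.exists_notMem
      exact ⟨q, hq, by rw [e]; exact (D.conj_C hu.1 hq).2 hqC⟩
  have hnorm := principal_inner_identity hM D.C (D.Q.isPGroup'.to_le D.C_le) (D.Q : Subgroup G)
    D.Q_le_normalizer U hfus 1 (fun y hy => D.hw h hM hy) (θ := theta D μ) (η := theta D μ)
    (theta_genChar D μ) hθ
  set S := Finset.univ.filter (fun χ : IrrCharacter G => χ ∈ principalBlock M G) with hS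
  obtain ⟨m, hm⟩ : ∃ m : IrrCharacter G → ℤ, ∀ χ, coef D μ χ = m χ :=
    ⟨fun χ => (coef_int D μ χ).choose, fun χ => (coef_int D μ χ).choose_spec⟩
  have hext : ∀ x : D.C, extendByZero D.C (theta D μ) (x : G) = theta D μ x :=
    fun x => Subtype.val_injective.extend_apply (theta D μ) 0 x
  have horbit : ∀ y : D.C, ∑ q : (D.Q : Subgroup G),
      extendByZero D.C (theta D μ) ((q : G) * y * (q : G)⁻¹) =
        (n : ℂ) * (theta D μ y + theta D μ y⁻¹) := by
    intro y
    have hin : (Finset.univ.filter fun q : (D.Q : Subgroup G) => (q : G) ∈ D.C).card = n := by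
      rw [← Fintype.card_subtype, ← Nat.card_eq_fintype_card, show n = Nat.card D.C from D.card_C.symm]
      exact Nat.card_congr (Subgroup.subgroupOfEquivOfLe D.C_le).toEquiv
    have hout : (Finset.univ.filter fun q : (D.Q : Subgroup G) => ¬ (q : G) ∈ D.C).card = n := by
      have := Finset.card_filter_add_card_filter_not (s := (Finset.univ : Finset (D.Q : Subgroup G)))
        (fun q : (D.Q : Subgroup G) => (q : G) ∈ D.C)
      rw [hin, Finset.card_univ, ← Nat.card_eq_fintype_card, D.hcard] at this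
      omega
    have s1 : ∀ q ∈ Finset.univ.filter (fun q : (D.Q : Subgroup G) => (q : G) ∈ D.C),
        extendByZero D.C (theta D μ) ((q : G) * y * (q : G)⁻¹) = theta D μ y := fun q hq => by
      rw [(D.conj_C y.2 q.2).1 (Finset.mem_filter.1 hq).2, hext]
    have s2 : ∀ q ∈ Finset.univ.filter (fun q : (D.Q : Subgroup G) => ¬ (q : G) ∈ D.C),
        extendByZero D.C (theta D μ) ((q : G) * y * (q : G)⁻¹) = theta D μ y⁻¹ := fun q hq => by
      rw [(D.conj_C y.2 q.2).2 (Finset.mem_filter.1 hq).2, ← Subgroup.coe_inv, hext]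
    rw [← Finset.sum_filter_add_sum_filter_not Finset.univ
      (fun q : (D.Q : Subgroup G) => (q : G) ∈ D.C), Finset.sum_congr rfl s1, Finset.sum_congr rfl s2,
      Finset.sum_const, Finset.sum_const, hin, hout, nsmul_eq_mul, nsmul_eq_mul, mul_add]
  have hsum1 : ∀ w hw, w ≠ 1 → ∑ y : D.C, (mk w hw y : ℂ) = 0 := fun w hw hne => by
    refine sum_hom_units_eq_zero ((Units.coeHom ℂ).comp (mk w hw)) fun he => hne (Units.ext ?_)
    have := DFunLike.congr_fun he g₀
    simpa [hmk] using this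
  have hωne : ω ≠ 1 := by
    simp only [ω]
    split_ifs
    · intro he
      have := congrArg Units.val he
      norm_num at this
    · intro he
      have := congrArg (fun u : ℂˣ => (u : ℂ).im) he
      simp at this
  set c : ℕ := if n = 4 then 4 else 3 with hc
  have hsq : ∑ χ ∈ S, m χ ^ 2 = c := by
    have h1 : ∑ y : D.C, (μ y : ℂ) = 0 := hsum1 ω hω hωne
    have h2 : ∑ y : D.C, (μ y⁻¹ : ℂ) = 0 := by
      rw [← h1]; exact Equiv.sum_comp (Equiv.inv D.C) fun y => (μ y : ℂ)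
    have h3 : ∑ y : D.C, (μ y : ℂ) * (μ y : ℂ) = if n = 4 then (n : ℂ) else 0 := by
      have h22 : (ω * ω) ^ 4 = 1 := by rw [mul_pow, hω, one_mul]
      have heq : ∀ y, (μ y : ℂ) * (μ y : ℂ) = (mk (ω * ω) h22 y : ℂ) := by
        intro y
        obtain ⟨i, hi⟩ := mem_powers_iff_mem_zpowers.2 (hg₀gen y)
        have hi' : g₀ ^ i = y := hi
        rw [← hi', map_pow, map_pow, hμ, hmk, hmk, mul_pow, Units.val_mul]
      simp only [heq]
      split_ifs with h4
      · have hω2 : ω * ω = 1 := by simp [ω, h4]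
        rw [Finset.sum_congr rfl (g := fun _ => (1 : ℂ)) fun y _ => by
          obtain ⟨i, hi⟩ := mem_powers_iff_mem_zpowers.2 (hg₀gen y)
          have hi' : g₀ ^ i = y := hi
          rw [← hi', map_pow, hmk, hω2, one_pow, Units.val_one], Finset.sum_const, Finset.card_univ,
          ← Nat.card_eq_fintype_card, D.card_C, nsmul_eq_mul, mul_one]
      · refine hsum1 _ h22 fun he => ?_
        have := congrArg Units.val he
        simp [ω, h4, Complex.I_mul_I] at this
        norm_num at this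
    have hinv : ∀ y : D.C, (μ y : ℂ) * (μ y⁻¹ : ℂ) = 1 := fun y => by
      rw [← Units.val_mul, ← map_mul, mul_inv_cancel, map_one, Units.val_one]
    rw [finsum_mem_block] at hnorm
    have hl : ∀ χ ∈ S, coef D μ χ * conj (coef D μ χ) = ((m χ ^ 2 : ℤ) : ℂ) := fun χ _ => by
      rw [hm, map_intCast]; push_cast; ring
    have hcoef : ∀ χ : IrrCharacter G,
        (Nat.card D.C : ℂ)⁻¹ * ∑ y : D.C, (χ : G → ℂ) y * theta D μ y⁻¹ = coef D μ χ := fun _ => rfl
    simp only [hcoef] at hnorm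
    rw [Finset.sum_congr rfl hl] at hnorm
    have hr : ∑ y : D.C, theta D μ y * conj (∑ q : (D.Q : Subgroup G),
        extendByZero D.C (theta D μ) ((q : G) * y * (q : G)⁻¹)) = (n : ℂ) * ((n : ℂ) * c) := by
      simp only [horbit, map_mul, Complex.conj_natCast, map_add]
      have hrw : ∀ y : D.C, theta D μ y * ((n : ℂ) * (conj (theta D μ y) + conj (theta D μ y⁻¹))) =
          (n : ℂ) * (3 - 3 * (μ y : ℂ) - (μ y⁻¹ : ℂ) + (μ y : ℂ) * (μ y : ℂ)) := fun y => by
        rw [← genChar_apply_inv (theta_genChar D μ) y, ← genChar_apply_inv (theta_genChar D μ) y⁻¹,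
          inv_inv]
        simp only [theta]
        linear_combination (n : ℂ) * hinv y
      simp only [hrw]
      rw [← Finset.mul_sum]
      congr 1
      rw [Finset.sum_add_distrib, Finset.sum_sub_distrib, Finset.sum_sub_distrib, Finset.sum_const,
        Finset.card_univ, ← Nat.card_eq_fintype_card, D.card_C, ← Finset.mul_sum, h1, h2, h3,
        nsmul_eq_mul, ← hn]
      simp only [hc]
      split_ifs <;> push_cast <;> ring
    rw [hr, D.card_C, ← hn] at hnorm
    have : ((∑ χ ∈ S, m χ ^ 2 : ℤ) : ℂ) = ((c : ℤ) : ℂ) := by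
      push_cast at hnorm ⊢
      rw [hnorm]
      field_simp
    exact_mod_cast this
  -- the trivial character
  set one := trivialIrr G with hone
  have hmone : m one = 1 := by
    have h := hm one
    have h1 : ∑ y : D.C, (μ y⁻¹ : ℂ) = 0 := by
      rw [← hsum1 ω hω hωne]; exact Equiv.sum_comp (Equiv.inv D.C) fun y => (μ y : ℂ)
    have he : coef D μ one = 1 := by
      simp only [coef, theta]
      rw [show ((trivialIrr G : IrrCharacter G) : G → ℂ) = fun _ => (1 : ℂ) from rfl]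
      simp only [one_mul, Finset.sum_sub_distrib, h1, sub_zero, Finset.sum_const, Finset.card_univ,
        ← Nat.card_eq_fintype_card, nsmul_eq_mul, mul_one]
      exact inv_mul_cancel₀ (Nat.cast_ne_zero.2 Nat.card_pos.ne')
    rw [he] at h
    exact_mod_cast h.symm
  have honeS : one ∈ S :=
    Finset.mem_filter.2 ⟨Finset.mem_univ _, trivial_mem_principalBlock hM⟩
  set T := (S.erase one).filter (fun χ => m χ ≠ 0) with hT
  have hTne : ∀ χ ∈ T, χ ≠ one := fun χ hχ =>
    Finset.ne_of_mem_erase (Finset.mem_filter.1 hχ).1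
  have hTS : ∀ f : IrrCharacter G → ℂ, ∑ χ ∈ S, f χ * (m χ : ℂ) =
      f one + ∑ χ ∈ T, f χ * (m χ : ℂ) := by
    intro f
    rw [← Finset.add_sum_erase S _ honeS, hmone, Int.cast_one, mul_one, hT, Finset.sum_filter_of_ne]
    intro χ _ hne h0
    exact hne (by rw [h0, Int.cast_zero, mul_zero])
  have hTsq : ∑ χ ∈ T, m χ ^ 2 = (c : ℤ) - 1 := by
    have := Finset.add_sum_erase S (fun χ => m χ ^ 2) honeS
    rw [hsq] at this
    simp only [hmone] at this
    rw [hT, Finset.sum_filter_of_ne (p := fun χ => m χ ≠ 0)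
      (fun χ _ hne h0 => hne (by rw [h0]; ring))]
    linarith
  have hc34 : c = 3 ∨ c = 4 := by
    rw [hc]; split_ifs <;> simp
  have hpm : ∀ χ ∈ T, m χ = 1 ∨ m χ = -1 := by
    intro χ hχ
    have h0 := (Finset.mem_filter.1 hχ).2
    have hle : m χ ^ 2 ≤ (c : ℤ) - 1 :=
      hTsq ▸ Finset.single_le_sum (f := fun χ => m χ ^ 2) (fun i _ => sq_nonneg (m i)) hχ
    have h1 : -2 < m χ := by rcases hc34 with e | e <;> rw [e] at hle <;> push_cast at hle <;> nlinarith
    have h2 : m χ < 2 := by rcases hc34 with e | e <;> rw [e] at hle <;> push_cast at hle <;> nlinarith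
    omega
  have hTcard : (T.card : ℤ) = (c : ℤ) - 1 := by
    rw [← hTsq, Finset.sum_congr rfl (g := fun _ => (1 : ℤ)) fun χ hχ => by
      rcases hpm χ hχ with e | e <;> simp [e]]
    simp
  -- values at the involution
  have hzz2 : D.zz * D.zz = 1 := Invol.mul_self_of_orderOf_two D.zz_order
  obtain ⟨a, ha⟩ : ∃ a : IrrCharacter G → ℤ, ∀ χ : IrrCharacter G, (χ : G → ℂ) D.zz = a χ :=
    ⟨fun χ => (char_involution_int χ hzz2).choose, fun χ => (char_involution_int χ hzz2).choose_spec⟩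
  set d : IrrCharacter G → ℕ := fun χ => charDegree (χ : G → ℂ) with hd
  have hd1 : ∀ χ : IrrCharacter G, (χ : G → ℂ) 1 = (d χ : ℂ) := fun χ => charDeg_spec' χ
  have hdpos : ∀ χ : IrrCharacter G, 0 < d χ := fun χ => charDeg_pos χ
  have haone : a one = 1 := by
    have h := ha one
    rw [show ((trivialIrr G : IrrCharacter G) : G → ℂ) D.zz = 1 from rfl] at h
    exact_mod_cast h.symm
  have hdone : d one = 1 := by
    have h := hd1 one
    rw [show ((trivialIrr G : IrrCharacter G) : G → ℂ) 1 = 1 from rfl] at h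
    exact_mod_cast h.symm
  have hlt : ∀ χ : IrrCharacter G, χ ≠ one → a χ < d χ := by
    intro χ hχ
    have hle := Cfsg.Agent.Char.IsChar.norm_le (irr_isChar χ) D.zz
    rw [ha, hd1, Complex.norm_intCast, Complex.norm_natCast] at hle
    have h1 : a χ ≤ d χ := by
      have := le_trans (le_abs_self (a χ : ℝ)) hle
      exact_mod_cast this
    refine lt_of_le_of_ne h1 fun he => hno χ hχ ?_
    rw [ha, hd1, he, Int.cast_natCast]
  have e0 : (1 : ℂ) + ∑ χ ∈ T, (d χ : ℂ) * (m χ : ℂ) = 0 := by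
    have h := coef_moment D μ hθ S (fun χ => (d χ : ℂ)) fun y hy => by
      have := D.orth_one_zz hM hy (.inl rfl)
      rw [finsum_mem_block] at this
      rw [← this]
      exact Finset.sum_congr rfl fun χ _ => by rw [hd1, Complex.conj_natCast]; ring
    simp only [hm] at h
    rw [hTS, hdone] at h
    simpa using h
  have e1 : (1 : ℂ) + ∑ χ ∈ T, (a χ : ℂ) * (m χ : ℂ) = 0 := by
    have h := coef_moment D μ hθ S (fun χ => (a χ : ℂ)) fun y hy => by
      have := D.orth_one_zz hM hy (.inr rfl)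
      rw [finsum_mem_block] at this
      rw [← this]
      exact Finset.sum_congr rfl fun χ _ => by rw [ha, map_intCast]; ring
    simp only [hm] at h
    rw [hTS, haone] at h
    simpa using h
  have e2 : (1 : ℂ) + ∑ χ ∈ T, (a χ : ℂ) ^ 2 / (d χ : ℂ) * (m χ : ℂ) = 0 := by
    have h := coef_moment D μ hθ S (fun χ => (a χ : ℂ) ^ 2 / (d χ : ℂ)) fun y hy => by
      have := block_involution_product hM (isPBlock_principalBlock (G := G)) hzz2
        (D.pow_two_order hy.1) (fun g => D.not_inverted h hy.1 hy.2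
          (by rw [Invol.orderOf_conj_eq, D.zz_order]))
      rw [finsum_mem_block] at this
      rw [← this]
      exact Finset.sum_congr rfl fun χ _ => by rw [ha, hd1]
    simp only [hm] at h
    rw [hTS, haone, hdone] at h
    simpa using h
  -- at most one positive weight, up to sign, unless the hard case holds
  set Tp := T.filter (fun χ => m χ = 1) with hTp
  set Tn := T.filter (fun χ => ¬ m χ = 1) with hTn
  have hcardadd : Tp.card + Tn.card = T.card :=
    Finset.card_filter_add_card_filter_not _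
  have heasy : (Tp.card = 0 ∨ Tn.card ≤ 1) → False := by
    intro hor
    set σ : ℤ := if Tp.card = 0 then 1 else -1 with hσ
    set s := insert one T with hs
    have honeT : one ∉ T := fun hh => hTne one hh rfl
    have hval : ∀ χ ∈ T, ((a χ : ℝ) / (d χ : ℝ)) < 1 := fun χ hχ => by
      rw [div_lt_one (by exact_mod_cast hdpos χ)]
      exact_mod_cast hlt χ (hTne χ hχ)
    obtain ⟨χ₀, hχ₀⟩ : T.Nonempty := Finset.card_pos.1 (by
      rcases hc34 with e | e <;> rw [e] at hTcard <;> omega)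
    have hd0 : ∀ χ, (d χ : ℝ) ≠ 0 := fun χ => Nat.cast_ne_zero.2 (hdpos χ).ne'
    have key := eq_of_moments s (fun χ => ((σ * m χ * (d χ : ℤ) : ℤ) : ℝ))
      (fun χ => (a χ : ℝ) / (d χ : ℝ)) ?_ ?_ ?_ ?_
      (Finset.mem_insert_self one T) (Finset.mem_insert_of_mem hχ₀) ?_ ?_
    · have := hval χ₀ hχ₀
      rw [← key, haone, hdone] at this
      norm_num at this
    · have e0' : (1 : ℝ) + ∑ χ ∈ T, (d χ : ℝ) * (m χ : ℝ) = 0 :=
        Complex.ofReal_eq_zero.1 (by push_cast; exact e0)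
      rw [hs, Finset.sum_insert honeT, hmone, hdone]
      push_cast
      rw [Finset.sum_congr rfl (g := fun χ => (σ : ℝ) * ((d χ : ℝ) * (m χ : ℝ))) fun χ _ => by ring,
        ← Finset.mul_sum]
      linear_combination (σ : ℝ) * e0'
    · have e1' : (1 : ℝ) + ∑ χ ∈ T, (a χ : ℝ) * (m χ : ℝ) = 0 :=
        Complex.ofReal_eq_zero.1 (by push_cast; exact e1)
      rw [hs, Finset.sum_insert honeT, hmone, hdone, haone]
      push_cast
      rw [Finset.sum_congr rfl (g := fun χ => (σ : ℝ) * ((a χ : ℝ) * (m χ : ℝ))) fun χ _ => by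
        have := hd0 χ; field_simp, ← Finset.mul_sum]
      linear_combination (σ : ℝ) * e1'
    · have e2' : (1 : ℝ) + ∑ χ ∈ T, (a χ : ℝ) ^ 2 / (d χ : ℝ) * (m χ : ℝ) = 0 :=
        Complex.ofReal_eq_zero.1 (by push_cast; exact e2)
      rw [hs, Finset.sum_insert honeT, hmone, hdone, haone]
      push_cast
      rw [Finset.sum_congr rfl (g := fun χ => (σ : ℝ) * ((a χ : ℝ) ^ 2 / (d χ : ℝ) * (m χ : ℝ)))
        fun χ _ => by have := hd0 χ; field_simp, ← Finset.mul_sum]
      linear_combination (σ : ℝ) * e2'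
    · have hposw : ∀ χ ∈ s, 0 < ((σ * m χ * (d χ : ℤ) : ℤ) : ℝ) → m χ = σ := by
        intro χ hχ hpos
        have hp : 0 < σ * m χ * (d χ : ℤ) := by exact_mod_cast hpos
        have hp' : 0 < σ * m χ := pos_of_mul_pos_left hp (Int.natCast_nonneg _)
        have hm' : m χ = 1 ∨ m χ = -1 := by
          rcases Finset.mem_insert.1 hχ with rfl | hχT
          · exact .inl hmone
          · exact hpm χ hχT
        rw [hσ] at hp' ⊢
        split_ifs at hp' ⊢ <;> omega
      intro i hi j hj hwi hwj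
      have hmi := hposw i hi hwi
      have hmj := hposw j hj hwj
      rcases Finset.mem_insert.1 hi with rfl | hiT <;> rcases Finset.mem_insert.1 hj with rfl | hjT
      · rfl
      · exfalso
        rw [hmone] at hmi
        rw [← hmi] at hmj
        have h0 : Tp.card = 0 := by
          by_contra h0
          rw [hσ, if_neg h0] at hmi
          norm_num at hmi
        exact Finset.notMem_empty j (Finset.card_eq_zero.1 h0 ▸ Finset.mem_filter.2 ⟨hjT, hmj⟩)
      · exfalso
        rw [hmone] at hmj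
        rw [← hmj] at hmi
        have h0 : Tp.card = 0 := by
          by_contra h0
          rw [hσ, if_neg h0] at hmj
          norm_num at hmj
        exact Finset.notMem_empty i (Finset.card_eq_zero.1 h0 ▸ Finset.mem_filter.2 ⟨hiT, hmi⟩)
      · by_cases h0 : Tp.card = 0
        · rw [hσ, if_pos h0] at hmi
          exact absurd (Finset.card_eq_zero.1 h0 ▸ Finset.mem_filter.2 ⟨hiT, hmi⟩)
            (Finset.notMem_empty i)
        · rw [hσ, if_neg h0] at hmi hmj
          exact Finset.card_le_one.1 (hor.resolve_left h0) i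
            (Finset.mem_filter.2 ⟨hiT, by rw [hmi]; norm_num⟩) j
            (Finset.mem_filter.2 ⟨hjT, by rw [hmj]; norm_num⟩)
    · rw [hmone, hdone, hσ]; split_ifs <;> norm_num
    · rw [Int.cast_ne_zero, hσ]
      have := hdpos χ₀
      split_ifs <;> rcases hpm χ₀ hχ₀ with e | e <;> rw [e] <;> omega
  by_cases hor : Tp.card = 0 ∨ Tn.card ≤ 1
  · exact heasy hor
  push Not at hor
  have hc4 : c = 4 := by
    rcases hc34 with e | e
    · rw [e] at hTcard; omega
    · exact e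
  have hn4 : n = 4 := by
    rw [hc] at hc4
    by_contra hne
    rw [if_neg hne] at hc4
    omega
  rw [hc4] at hTcard
  obtain ⟨p, hp⟩ := Finset.card_eq_one.1 (show Tp.card = 1 by omega)
  obtain ⟨q₁, q₂, hq, hqs⟩ := Finset.card_eq_two.1 (show Tn.card = 2 by omega)
  have hpmem : p ∈ Tp := hp ▸ Finset.mem_singleton_self p
  have hq₁mem : q₁ ∈ Tn := hqs ▸ Finset.mem_insert_self _ _
  have hq₂mem : q₂ ∈ Tn := hqs ▸ Finset.mem_insert_of_mem (Finset.mem_singleton_self _)
  have hmp : m p = 1 := (Finset.mem_filter.1 hpmem).2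
  have hmq : ∀ q ∈ Tn, m q = -1 := fun q hq' =>
    (hpm q (Finset.mem_filter.1 hq').1).resolve_left (Finset.mem_filter.1 hq').2
  have hsplit : ∀ f : IrrCharacter G → ℂ,
      ∑ χ ∈ T, f χ * (m χ : ℂ) = f p - f q₁ - f q₂ := by
    intro f
    rw [← Finset.sum_filter_add_sum_filter_not T (fun χ => m χ = 1), ← hTp, ← hTn, hp, hqs,
      Finset.sum_singleton, Finset.sum_pair hq, hmp, hmq q₁ hq₁mem, hmq q₂ hq₂mem]
    push_cast
    ring
  rw [hsplit] at e0 e1 e2
  have f0 : (d p : ℤ) = d q₁ + d q₂ - 1 := by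
    have : (((d p : ℤ)) : ℂ) = ((d q₁ + d q₂ - 1 : ℤ) : ℂ) := by
      push_cast; linear_combination e0
    exact_mod_cast this
  have f1 : a p = a q₁ + a q₂ - 1 := by
    have : ((a p : ℤ) : ℂ) = ((a q₁ + a q₂ - 1 : ℤ) : ℂ) := by
      push_cast; linear_combination e1
    exact_mod_cast this
  have f2 : (d p : ℤ) * d q₁ * d q₂ + a p ^ 2 * (d q₁ * d q₂) - a q₁ ^ 2 * (d p * d q₂) -
      a q₂ ^ 2 * (d p * d q₁) = 0 := by
    have hp0 : (d p : ℂ) ≠ 0 := Nat.cast_ne_zero.2 (hdpos p).ne'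
    have h10 : (d q₁ : ℂ) ≠ 0 := Nat.cast_ne_zero.2 (hdpos q₁).ne'
    have h20 : (d q₂ : ℂ) ≠ 0 := Nat.cast_ne_zero.2 (hdpos q₂).ne'
    field_simp at e2
    have : (((d p : ℤ) * d q₁ * d q₂ + a p ^ 2 * (d q₁ * d q₂) - a q₁ ^ 2 * (d p * d q₂) -
      a q₂ ^ 2 * (d p * d q₁) : ℤ) : ℂ) = ((0 : ℤ) : ℂ) := by
      push_cast; linear_combination e2
    exact_mod_cast this
  -- congruences
  have hmb : ∀ χ : IrrCharacter G, coef D μ χ = (χ : G → ℂ) D.b := by
    intro χ
    set F : G → ℂ := fun g => if hg : g ∈ D.C then (χ : G → ℂ) g * theta D μ ⟨g⁻¹, inv_mem hg⟩ else 0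
      with hF
    have hsum : ∑ y : D.C, (χ : G → ℂ) y * theta D μ y⁻¹ = ∑ y : D.C, F y :=
      Finset.sum_congr rfl fun y _ => by simp only [hF]; rw [dif_pos y.2]; rfl
    rw [coef, hsum, show ∑ y : D.C, F y = ∑ y : Subgroup.zpowers D.b, F y from rfl, sum_zpowers,
      D.card_C, ← hn, hn4]
    have hmemi : ∀ i : ℕ, D.b ^ i ∈ D.C := fun i => Subgroup.npow_mem_zpowers _ _
    have hFi : ∀ i, F (D.b ^ i) = (χ : G → ℂ) (D.b ^ i) * (1 - (-1 : ℂ) ^ i) := fun i => by
      simp only [hF]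
      rw [dif_pos (hmemi i)]
      have : (⟨(D.b ^ i)⁻¹, inv_mem (hmemi i)⟩ : D.C) = ⟨D.b ^ i, hmemi i⟩⁻¹ := rfl
      rw [this]
      simp only [theta]
      rw [map_inv, hμ, hmki, Units.val_inv_eq_inv_val, Units.val_pow_eq_pow_val]
      simp [ω, hn4, ← inv_pow]
    have hb3 : (χ : G → ℂ) (D.b ^ 3) = (χ : G → ℂ) D.b := by
      obtain ⟨q, hq', hqC⟩ := D.exists_notMem
      rw [show D.b ^ 3 = D.b⁻¹ from eq_inv_of_mul_eq_one_left (by
        rw [← pow_succ, show 3 + 1 = orderOf D.b by rw [← hn, hn4], pow_orderOf_eq_one]),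
        ← D.hinv q hq' hqC]
      exact irr_classFun χ D.b q
    simp only [hFi, Finset.sum_range_succ, Finset.sum_range_zero, hb3]
    norm_num
    ring
  have hcong4 : ∀ χ : IrrCharacter G, (4 : ℤ) ∣ (d χ : ℤ) - a χ := by
    intro χ
    obtain ⟨q, hq', hqC⟩ := D.exists_notMem
    obtain ⟨l, hl⟩ := Cfsg.Agent.Char.IsChar.classInner_nat
      (Cfsg.Agent.Char.IsChar.res (irr_isChar χ) D.C)
      (Cfsg.Agent.Char.IsIrr.isCharacter (Cfsg.Agent.Char.isIrr_linear
        (mk (Units.mk0 Complex.I Complex.I_ne_zero) hI)))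
    rw [classInner] at hl
    set F : G → ℂ := fun g => if hg : g ∈ D.C then
      (χ : G → ℂ) g * conj ((mk (Units.mk0 Complex.I Complex.I_ne_zero) hI ⟨g, hg⟩ : ℂˣ) : ℂ) else 0
      with hF
    have hsum : ∑ y : D.C, (χ : G → ℂ) (y : G) *
        conj ((mk (Units.mk0 Complex.I Complex.I_ne_zero) hI y : ℂˣ) : ℂ) = ∑ y : D.C, F y :=
      Finset.sum_congr rfl fun y _ => by simp only [hF]; rw [dif_pos y.2]
    rw [hsum, show ∑ y : D.C, F y = ∑ y : Subgroup.zpowers D.b, F y from rfl, sum_zpowers,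
      D.card_C, ← hn, hn4] at hl
    have hFi : ∀ i, F (D.b ^ i) = (χ : G → ℂ) (D.b ^ i) * (-Complex.I) ^ i := fun i => by
      simp only [hF]
      rw [dif_pos (hmem0 i), hmki, Units.val_pow_eq_pow_val, map_pow,
        Units.val_mk0, Complex.conj_I]
    have hb3 : (χ : G → ℂ) (D.b ^ 3) = (χ : G → ℂ) D.b := by
      rw [show D.b ^ 3 = D.b⁻¹ from eq_inv_of_mul_eq_one_left (by
        rw [← pow_succ, show 3 + 1 = orderOf D.b by rw [← hn, hn4], pow_orderOf_eq_one]),
        ← D.hinv q hq' hqC]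
      exact irr_classFun χ D.b q
    have hb2 : D.b ^ 2 = D.zz := by rw [QData.zz, ← hn, hn4]
    simp only [hFi, Finset.sum_range_succ, Finset.sum_range_zero, hb3, hb2, pow_zero, hd1, ha,
      pow_one, neg_sq, Complex.I_sq] at hl
    have hI3 : (-Complex.I) ^ 3 = Complex.I := by
      linear_combination -Complex.I * Complex.I_sq
    rw [hI3] at hl
    refine ⟨(l : ℤ), ?_⟩
    have hC : (((d χ : ℤ) - a χ : ℤ) : ℂ) = ((4 * (l : ℤ) : ℤ) : ℂ) := by
      push_cast
      push_cast at hl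
      linear_combination 4 * hl
    exact_mod_cast hC
  have hcong8 : ∀ χ ∈ Tn, (8 : ℤ) ∣ (d χ : ℤ) + a χ - 6 := by
    intro χ hχ
    have hb : (χ : G → ℂ) D.b = -1 := by
      rw [← hmb, hm, hmq χ hχ]; norm_num
    obtain ⟨l, hl⟩ := Cfsg.Agent.Char.IsChar.classInner_nat
      (Cfsg.Agent.Char.IsChar.res (irr_isChar χ) (D.Q : Subgroup G))
      (Cfsg.Agent.Char.IsChar.one (G := (D.Q : Subgroup G)))
    rw [classInner, D.hcard, ← hn, hn4] at hl
    simp only [map_one, mul_one] at hl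
    set o : (D.Q : Subgroup G) := 1
    set z : (D.Q : Subgroup G) := ⟨D.zz, D.C_le D.zz_mem⟩ with hz
    have hzo : z ∈ Finset.univ.erase o := Finset.mem_erase.2 ⟨fun e =>
      Invol.ne_one_of_orderOf_two D.zz_order (congrArg Subtype.val e), Finset.mem_univ _⟩
    rw [← Finset.add_sum_erase _ _ (Finset.mem_univ o), ← Finset.add_sum_erase _ _ hzo,
      Finset.sum_congr rfl (g := fun _ => (-1 : ℂ)) fun w hw => by
        have hw1 : (w : G) ≠ 1 := fun e =>
          Finset.ne_of_mem_erase (Finset.mem_of_mem_erase hw) (Subtype.ext e)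
        have hw2 : (w : G) ^ 2 ≠ 1 := fun e =>
          Finset.ne_of_mem_erase hw (Subtype.ext (D.eq_zz h w.2 e hw1))
        rw [← hb]
        exact (Cfsg.Agent.Char.IsClass.eq_of_isConj (irr_classFun χ)
          (D.isConj_b h hperf (hn ▸ hn4) w.2 hw2)).symm,
      Finset.sum_const, Finset.card_erase_of_mem hzo,
      Finset.card_erase_of_mem (Finset.mem_univ _), Finset.card_univ, ← Nat.card_eq_fintype_card,
      D.hcard, ← hn, hn4] at hl
    simp only [o, hz, OneMemClass.coe_one, hd1, ha, nsmul_eq_mul] at hl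
    refine ⟨(l : ℤ), ?_⟩
    have hC : (((d χ : ℤ) + a χ - 6 : ℤ) : ℂ) = ((8 * (l : ℤ) : ℤ) : ℂ) := by
      push_cast
      push_cast at hl
      linear_combination 8 * hl
    exact_mod_cast hC
  obtain ⟨v₁, hv₁⟩ := hcong4 q₁
  obtain ⟨v₂, hv₂⟩ := hcong4 q₂
  obtain ⟨r₁, hr₁⟩ := hcong8 q₁ hq₁mem
  obtain ⟨r₂, hr₂⟩ := hcong8 q₂ hq₂mem
  have hl₁ := hlt q₁ (hTne q₁ (Finset.mem_filter.1 hq₁mem).1)
  have hl₂ := hlt q₂ (hTne q₂ (Finset.mem_filter.1 hq₂mem).1)
  refine no_solution (d₁ := (d q₁ : ℤ)) (d₂ := (d q₂ : ℤ)) (v₁ := v₁) (v₂ := v₂)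
    (by exact_mod_cast hdpos q₁) (by exact_mod_cast hdpos q₂) (by omega) (by omega)
    (by omega) (by omega) ?_
  have hqa₁ : a q₁ = (d q₁ : ℤ) - 4 * v₁ := by omega
  have hqa₂ : a q₂ = (d q₂ : ℤ) - 4 * v₂ := by omega
  rw [f1, f0, hqa₁, hqa₂] at f2
  refine mul_left_cancel₀ (show (16 : ℤ) ≠ 0 by norm_num) ?_
  linear_combination ((d q₁ : ℤ) + d q₂) * f2

end Cfsg.Agent.BS
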