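import Mathlib
import Cfsg.Prelude
import Cfsg.Agent.Lib.Grp.Components
import Cfsg.Agent.Lib.Grp.Baer
import Cfsg.Agent.Lib.Grp.CoprimeAbelian
import Cfsg.Agent.Lib.Invol.WeakClosureProduct
import Cfsg.Agent.Lib.Invol.LargeSubgroup

/-!
Subgroups containing a self-centralising subnormal subgroup of `F*(A)`, for a maximal subgroup `A`.
-/

set_option autoImplicit false
set_option linter.style.haveILetI false

open scoped commutatorElement

namespace Cfsg.Agent.Invol.BenderPush

open Subgroup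

universe u

variable {G : Type u} [Group G] [Finite G]

/-- An element all of whose powers of prime power order lie in `K` lies in `K`. -/
theorem mem_of_primePow {K : Subgroup G} {x : G}
    (h : ∀ y ∈ zpowers x, ∀ l k : ℕ, l.Prime → orderOf y = l ^ k → y ∈ K) : x ∈ K := by
  obtain ⟨n, hn⟩ : ∃ n, orderOf x = n := ⟨_, rfl⟩
  induction n using Nat.strong_induction_on generalizing x with
  | _ n ih =>
    rcases eq_or_ne n 1 with h1 | h1
    · rw [orderOf_eq_one_iff.mp (hn.trans h1)]; exact one_mem K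
    obtain ⟨l, hl⟩ : ∃ l, l = n.minFac := ⟨_, rfl⟩
    have hlp : l.Prime := hl ▸ Nat.minFac_prime h1
    have hn0 : 0 < n := hn ▸ orderOf_pos x
    obtain ⟨k, m, hm, hkm⟩ := Nat.exists_eq_pow_mul_and_not_dvd hn0.ne' l hlp.ne_one
    rcases eq_or_ne m 1 with hm1 | hm1
    · exact h x (mem_zpowers x) l k hlp (by rw [hn, hkm, hm1, mul_one])
    have hk0 : k ≠ 0 := by
      rintro rfl
      rw [pow_zero, one_mul] at hkm
      exact hm (hkm ▸ hl ▸ Nat.minFac_dvd n)
    have hcop : (l ^ k).Coprime m := Nat.Coprime.pow_left k (hlp.coprime_iff_not_dvd.mpr hm)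
    have hlk : 1 < l ^ k := Nat.one_lt_pow hk0 hlp.one_lt
    have hm0 : 0 < m := Nat.pos_of_ne_zero fun e => by simp [e] at hkm; omega
    have ho1 : orderOf (x ^ m) = l ^ k := by
      rw [orderOf_pow' _ hm0.ne', hn, hkm, Nat.gcd_eq_right (Dvd.intro_left _ rfl), Nat.mul_div_cancel _ hm0]
    have ho2 : orderOf (x ^ l ^ k) = m := by
      rw [orderOf_pow' _ (by omega), hn, hkm, Nat.gcd_eq_right (dvd_mul_right _ m),
        Nat.mul_div_cancel_left _ (by omega)]
    have h2 : x ^ m ∈ K := h _ (pow_mem (mem_zpowers x) _) l k hlp ho1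
    have h3 : x ^ l ^ k ∈ K := ih m (by rw [hkm]; exact lt_mul_of_one_lt_left hm0 hlk)
      (fun y hy => h y ((zpowers_le.mpr (pow_mem (mem_zpowers x) _)) hy)) ho2
    have hg := Nat.gcd_eq_gcd_ab (l ^ k) m
    rw [hcop] at hg
    have e : x = (x ^ (l ^ k)) ^ Nat.gcdA (l ^ k) m * (x ^ m) ^ Nat.gcdB (l ^ k) m := by
      rw [← zpow_natCast x (l ^ k), ← zpow_natCast x m, ← zpow_mul, ← zpow_mul, ← zpow_add, ← hg, Nat.cast_one,
        zpow_one]
    rw [e]
    exact mul_mem (zpow_mem h3 _) (zpow_mem h2 _)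

/-- A `p`-group and a group of order prime to `p` meet trivially. -/
theorem inf_eq_bot_of_pGroups {l q : ℕ} (hl : l.Prime) (hq : q.Prime) (hne : l ≠ q) {U V : Subgroup G}
    (hU : IsPGroup l U) (hV : IsPGroup q V) : U ⊓ V = ⊥ := by
  haveI := Fact.mk hl
  haveI := Fact.mk hq
  rw [eq_bot_iff]
  intro x hx
  have h := IsPGroup.disjoint_of_ne (G := G) l q hne U V hU hV
  exact h.le_bot hx

variable (A : Subgroup G)

/-- The layer of `A`. -/
abbrev lay : Subgroup G := (Cfsg.layer ↥A).map A.subtype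

/-- `F*(A)`. -/
abbrev gf : Subgroup G := (Cfsg.generalizedFittingSubgroup ↥A).map A.subtype

theorem le_normalizer_map (N : Subgroup ↥A) [N.Normal] :
    A ≤ normalizer ((N.map A.subtype : Subgroup G) : Set G) := fun a ha => by
  refine mem_normalizer_fintype ?_
  rintro _ ⟨x, hx, rfl⟩
  exact ⟨⟨a, ha⟩ * x * ⟨a, ha⟩⁻¹, (inferInstance : N.Normal).conj_mem x hx _, rfl⟩

theorem gf_normal : A ≤ normalizer (gf A : Set G) := by
  haveI := Grp.fittingSubgroup_isNormal (G := ↥A)
  haveI : (Cfsg.generalizedFittingSubgroup ↥A).Normal := by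
    rw [Cfsg.generalizedFittingSubgroup]; infer_instance
  exact le_normalizer_map A _

/-- Cores for different primes commute. -/
theorem core_comm {l q : ℕ} (hl : l.Prime) (hq : q.Prime) (hne : l ≠ q) :
    Cfsg.pCoreOf l A ≤ centralizer (Cfsg.pCoreOf q A : Set G) := by
  haveI := Fact.mk hl
  haveI := Fact.mk hq
  refine commutator_eq_bot_iff_le_centralizer.mp (le_bot_iff.mp ?_)
  rw [← inf_eq_bot_of_pGroups hl hq hne (lg_isPGroup_pCoreOf (p := l) A) (lg_isPGroup_pCoreOf (p := q) A)]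
  refine commutator_le.mpr fun a ha b hb => mem_inf.mpr ⟨?_, ?_⟩
  · rw [commutatorElement_def, show a * b * a⁻¹ * b⁻¹ = a * (b * a⁻¹ * b⁻¹) by group]
    exact mul_mem ha ((mem_normalizer_iff.mp (lg_le_normalizer_pCoreOf A (lg_pCoreOf_le A hb)) _).mp (inv_mem ha))
  · rw [commutatorElement_def]
    exact mul_mem ((mem_normalizer_iff.mp (lg_le_normalizer_pCoreOf A (lg_pCoreOf_le A ha)) _).mp hb) (inv_mem hb)

theorem core_le_fitting {l : ℕ} (hl : l.Prime) :
    Cfsg.pCoreOf l A ≤ (Cfsg.fittingSubgroup ↥A).map A.subtype :=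
  haveI := Fact.mk hl
  Subgroup.map_mono Grp.pCore_le_fittingSubgroup

theorem core_le_gf {l : ℕ} (hl : l.Prime) : Cfsg.pCoreOf l A ≤ gf A :=
  (core_le_fitting A hl).trans (Subgroup.map_mono le_sup_right)

theorem lay_comm {l : ℕ} (hl : l.Prime) : lay A ≤ centralizer (Cfsg.pCoreOf l A : Set G) := by
  rintro _ ⟨e, he, rfl⟩
  refine mem_centralizer_iff.mpr fun u hu => ?_
  obtain ⟨f, hf, rfl⟩ := core_le_fitting A hl hu
  exact congrArg Subtype.val (mem_centralizer_iff.mp (Grp.layer_le_centralizer_fitting he) f hf)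

/-- An element of prime power order of `F(A)` lies in the core of that prime. -/
theorem mem_core {x : G} (hx : x ∈ (Cfsg.fittingSubgroup ↥A).map A.subtype) {l k : ℕ} (hl : l.Prime)
    (ho : orderOf x = l ^ k) : x ∈ Cfsg.pCoreOf l A := by
  haveI := Fact.mk hl
  obtain ⟨f, hf, rfl⟩ := hx
  refine ⟨f, Grp.mem_pCore_of_mem_fitting hf ?_, rfl⟩
  refine IsPGroup.of_card (n := k) ?_
  rw [Nat.card_zpowers, ← Subgroup.orderOf_coe]
  exact ho

/-- A subgroup centralising every core and the layer centralises `F*(A)`. -/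
theorem le_centralizer_gf {K : Subgroup G} (hE : lay A ≤ centralizer (K : Set G))
    (hcores : ∀ l : ℕ, l.Prime → Cfsg.pCoreOf l A ≤ centralizer (K : Set G)) :
    gf A ≤ centralizer (K : Set G) := by
  rw [gf, Cfsg.generalizedFittingSubgroup, Subgroup.map_sup]
  refine sup_le hE fun x hx => mem_of_primePow fun y hy l k hl ho => ?_
  exact hcores l hl (mem_core A ((zpowers_le.mpr hx) hy) hl ho)

/-- Solvable subgroups of `A` normalised by the layer centralise it. -/
theorem lay_le_centralizer {K : Subgroup G} (hKA : K ≤ A) (hs : Group.IsSolvable ↥K)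
    (hn : lay A ≤ normalizer (K : Set G)) : lay A ≤ centralizer (K : Set G) := by
  rintro _ ⟨e, he, rfl⟩
  have h : Cfsg.layer ↥A ≤ centralizer ((K.subgroupOf A : Subgroup ↥A) : Set ↥A) := by
    refine sSup_le fun L hL => commutator_eq_bot_iff_le_centralizer.mp
      (Grp.component_centralizes_solvable hL ?_ fun y hy => ?_)
    · exact solvable_of_solvable_injective (f := (subgroupOfEquivOfLe hKA).toMonoidHom)
        (subgroupOfEquivOfLe hKA).injective
    · refine mem_normalizer_fintype fun z hz => ?_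
      exact (mem_normalizer_iff.mp (hn ⟨y, Grp.IsComponent.le_layer hL hy, rfl⟩) (z : G)).mp hz
  exact mem_centralizer_iff.mpr fun k hk =>
    congrArg Subtype.val (mem_centralizer_iff.mp (h he) ⟨k, hKA hk⟩ hk)

variable (S : Subgroup G) (hSF : S ≤ gf A) (hSsn : (S.subgroupOf (gf A)).IsSubnormal)
  (hSC : gf A ⊓ centralizer (S : Set G) ≤ S)
include hSF hSsn hSC

theorem lay_le : lay A ≤ S := by
  rw [lay, Cfsg.layer, Subgroup.map_le_iff_le_comap]
  refine sSup_le fun L hL => ?_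
  rw [← Subgroup.map_le_iff_le_comap]
  obtain ⟨F, hF⟩ : ∃ F, F = Cfsg.generalizedFittingSubgroup ↥A := ⟨_, rfl⟩
  have hSA : S ≤ A := hSF.trans (Subgroup.map_subtype_le _)
  haveI hFn : F.Normal := by
    haveI := Grp.fittingSubgroup_isNormal (G := ↥A)
    rw [hF, Cfsg.generalizedFittingSubgroup]; infer_instance
  have hsn : (S.subgroupOf A).IsSubnormal := by
    refine Subgroup.IsSubnormal.trans (K := F) (fun x hx => ?_) ?_ hFn.isSubnormal
    · obtain ⟨y, hy, e⟩ := hSF (show (x : G) ∈ S from hx)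
      rw [hF, ← show y = x from Subtype.ext e]; exact hy
    · have h := hSsn.comap ((F.equivMapOfInjective A.subtype A.subtype_injective).toMonoidHom.comp
        (MonoidHom.id _) |> fun f => (MulEquiv.subgroupCongr (show F.map A.subtype = gf A by rw [hF])).toMonoidHom.comp f)
      convert h using 1
      ext x
      rfl
  rcases Grp.component_le_or_commute hL hsn with h | h
  · rintro _ ⟨x, hx, rfl⟩; exact h hx
  · refine le_trans (le_inf (Subgroup.map_mono ((Grp.IsComponent.le_layer hL).trans le_sup_left)) ?_) hSC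
    rintro _ ⟨x, hx, rfl⟩
    refine mem_centralizer_iff.mpr fun s hs => ?_
    have h1 := commutator_eq_bot_iff_le_centralizer.mp h hx
    exact congrArg Subtype.val (mem_centralizer_iff.mp h1 ⟨s, hSA hs⟩ hs)

/-- Elements of `F(A)` centralise an element commuting with the cores. -/
theorem fixed_le {q : ℕ} (hq : q.Prime) :
    Cfsg.pCoreOf q A ⊓ centralizer ((S ⊓ Cfsg.pCoreOf q A : Subgroup G) : Set G) ≤ S := by
  intro u hu
  refine hSC (mem_inf.mpr ⟨core_le_gf A hq hu.1, mem_centralizer_iff.mpr fun s hs => ?_⟩)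
  have hlay := lay_le A S hSF hSsn hSC
  obtain ⟨e, he, f, hf, hes⟩ : ∃ e ∈ lay A, ∃ f ∈ (Cfsg.fittingSubgroup ↥A).map A.subtype, e * f = s := by
    obtain ⟨x, hx, rfl⟩ := hSF hs
    haveI := Grp.fittingSubgroup_isNormal (G := ↥A)
    obtain ⟨e, he, f, hf, rfl⟩ := mem_sup_of_normal_right.mp
      (show x ∈ Cfsg.layer ↥A ⊔ Cfsg.fittingSubgroup ↥A from hx)
    exact ⟨_, ⟨e, he, rfl⟩, _, ⟨f, hf, rfl⟩, rfl⟩
  have hfS : f ∈ S := by
    rw [show f = e⁻¹ * s by rw [← hes]; group]
    exact S.mul_mem (S.inv_mem (hlay he)) hs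
  have hfu : f ∈ centralizer ({u} : Set G) := mem_of_primePow fun y hy l k hl ho => by
    have hy' := mem_core A ((zpowers_le.mpr hf) hy) hl ho
    rw [mem_centralizer_singleton_iff]
    rcases eq_or_ne l q with rfl | hne
    · exact mem_centralizer_iff.mp hu.2 y ⟨(zpowers_le.mpr hfS) hy, hy'⟩
    · exact mem_centralizer_iff.mp (core_comm A hq hl hne.symm hu.1) y hy'
  have heu : e * u = u * e := (mem_centralizer_iff.mp (lay_comm A hq he) u hu.1).symm
  rw [mem_centralizer_singleton_iff] at hfu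
  rw [← hes]
  calc e * f * u = e * (f * u) := mul_assoc _ _ _
    _ = e * (u * f) := by rw [hfu]
    _ = (e * u) * f := (mul_assoc _ _ _).symm
    _ = u * (e * f) := by rw [heu, mul_assoc]

theorem center_core_le {q : ℕ} (hq : q.Prime) :
    Cfsg.pCoreOf q A ⊓ centralizer (Cfsg.pCoreOf q A : Set G) ≤ S := fun u hu =>
  fixed_le A S hSF hSsn hSC hq ⟨hu.1, centralizer_le inf_le_right hu.2⟩

/-- A subgroup of order prime to `l` fixing `S ∩ O_l(A)` fixes `O_l(A)`. -/
theorem le_centralizer_core {l : ℕ} (hl : l.Prime) {X : Subgroup G} (hXA : X ≤ A)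
    (hX : (Nat.card X).Coprime l)
    (hfix : S ⊓ Cfsg.pCoreOf l A ≤ centralizer (X : Set G)) :
    Cfsg.pCoreOf l A ≤ centralizer (X : Set G) := by
  haveI := Fact.mk hl
  refine le_centralizer_iff.mp (Grp.thompson_PQ (p := l) (S ⊓ Cfsg.pCoreOf l A) X
    ((lg_isPGroup_pCoreOf A).to_le inf_le_right) hX hfix (Cfsg.pCoreOf l A) (lg_isPGroup_pCoreOf A)
    (inf_le_right.trans le_normalizer) (hXA.trans (lg_le_normalizer_pCoreOf A)) ?_)
  intro u hu
  exact hfix (mem_inf.mpr ⟨fixed_le A S hSF hSsn hSC hl hu, hu.1⟩)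

variable (B : Subgroup G) (hSB : S ≤ B)
include hSB

theorem core_inf_eq_bot {q : ℕ} (hq : q.Prime) (hdvd : ¬ q ∣ Nat.card (Cfsg.fittingSubgroup ↥A)) :
    Cfsg.pCoreOf q B ⊓ A = ⊥ := by
  haveI := Fact.mk hq
  obtain ⟨X, hX⟩ : ∃ X, X = Cfsg.pCoreOf q B ⊓ A := ⟨_, rfl⟩
  rw [← hX]
  have hXA : X ≤ A := hX ▸ inf_le_right
  have hXp : IsPGroup q X := hX ▸ (lg_isPGroup_pCoreOf B).to_le inf_le_left
  have hSA : S ≤ A := hSF.trans (Subgroup.map_subtype_le _)
  have hlay := lay_le A S hSF hSsn hSC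
  have hSX : S ≤ normalizer (X : Set G) := fun s hs => mem_normalizer_fintype fun x hx => by
    rw [SetLike.mem_coe, hX] at hx ⊢
    exact mem_inf.mpr ⟨(mem_normalizer_iff.mp (lg_le_normalizer_pCoreOf B (hSB hs)) x).mp hx.1,
      A.mul_mem (A.mul_mem (hSA hs) hx.2) (A.inv_mem (hSA hs))⟩
  haveI := hXp.isNilpotent
  have hEX : lay A ≤ centralizer (X : Set G) := lay_le_centralizer A hXA inferInstance (hlay.trans hSX)
  have hXF : X ⊓ gf A = ⊥ := by
    rw [eq_bot_iff]
    rintro u ⟨hu, x, hx, rfl⟩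
    haveI := Grp.fittingSubgroup_isNormal (G := ↥A)
    obtain ⟨e, he, f, hf, rfl⟩ := mem_sup_of_normal_right.mp
      (show x ∈ Cfsg.layer ↥A ⊔ Cfsg.fittingSubgroup ↥A from hx)
    have heC : e ∈ centralizer (Cfsg.layer ↥A : Set ↥A) := mem_centralizer_iff.mpr fun d hd => by
      have h1 : d * (e * f) = e * f * d := Subtype.ext
        ((mem_centralizer_iff.mp (hEX ⟨d, hd, rfl⟩) _ hu).symm)
      have h2 : f * d = d * f := mem_centralizer_iff.mp (Grp.layer_le_centralizer_fitting hd) f hf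
      calc d * e = d * (e * f) * f⁻¹ := by group
        _ = e * (f * d) * f⁻¹ := by rw [h1]; group
        _ = e * (d * f) * f⁻¹ := by rw [h2]
        _ = e * d := by group
    have hef : e * f ∈ Cfsg.fittingSubgroup ↥A := mul_mem (Grp.layer_center_le_fitting ⟨he, heC⟩) hf
    obtain ⟨k, hk⟩ := IsPGroup.iff_orderOf.mp hXp ⟨_, hu⟩
    rw [Subgroup.orderOf_mk, Subgroup.coe_subtype, Subgroup.orderOf_coe] at hk
    have h3 : orderOf (e * f) ∣ Nat.card ↥(Cfsg.fittingSubgroup ↥A) := Subgroup.orderOf_dvd_natCard _ hef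
    have hk0 : k = 0 := by
      by_contra h0
      exact hdvd ((dvd_pow_self q h0).trans (hk ▸ h3))
    rw [hk0, pow_zero, orderOf_eq_one_iff] at hk
    rw [Subgroup.coe_subtype, hk]
    simp
  have hXS : S ≤ centralizer (X : Set G) := by
    refine commutator_eq_bot_iff_le_centralizer.mp (le_bot_iff.mp (hXF ▸ commutator_le.mpr fun s hs x hx => ?_))
    rw [commutatorElement_def]
    refine mem_inf.mpr ⟨X.mul_mem ((mem_normalizer_iff.mp (hSX hs) x).mp hx) (X.inv_mem hx), ?_⟩
    rw [show s * x * s⁻¹ * x⁻¹ = s * (x * s⁻¹ * x⁻¹) by group]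
    exact mul_mem (hSF hs) ((mem_normalizer_iff.mp (gf_normal A (hXA hx)) _).mp (inv_mem (hSF hs)))
  have hall : gf A ≤ centralizer (X : Set G) := le_centralizer_gf A hEX fun l hl => by
    rcases eq_or_ne l q with rfl | hne
    · intro x hx
      obtain ⟨k, hk⟩ := IsPGroup.iff_orderOf.mp (lg_isPGroup_pCoreOf (p := l) A) ⟨x, hx⟩
      rw [Subgroup.orderOf_mk] at hk
      obtain ⟨f, hf, rfl⟩ := core_le_fitting A hl hx
      have hk0 : k = 0 := by
        by_contra h0
        refine hdvd ((dvd_pow_self l h0).trans ?_)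
        rw [← hk, Subgroup.coe_subtype, Subgroup.orderOf_coe]
        exact Subgroup.orderOf_dvd_natCard _ hf
      rw [hk0, pow_zero, orderOf_eq_one_iff] at hk
      rw [hk]; exact one_mem _
    · obtain ⟨n, hn⟩ := IsPGroup.iff_card.mp hXp
      refine le_centralizer_core A S hSF hSsn hSC hl hXA ?_ (inf_le_left.trans hXS)
      rw [hn]; exact Nat.Coprime.pow_left n ((Nat.coprime_primes hq hl).mpr hne.symm)
  rw [eq_bot_iff, ← hXF]
  refine le_inf le_rfl fun x hx => ⟨⟨x, hXA hx⟩, Grp.centralizer_gfitting_le (mem_centralizer_iff.mpr fun f hf => Subtype.ext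
    (mem_centralizer_iff.mp (hall ⟨f, hf, rfl⟩) x hx).symm), rfl⟩

theorem core_commutes (hmax : ∀ Z : Subgroup G, Z ≠ ⊥ → Z ≤ A → A ≤ normalizer (Z : Set G) → normalizer (Z : Set G) = A)
    {p : ℕ} (hp : p.Prime) (hdvd : p ∣ Nat.card (Cfsg.fittingSubgroup ↥A)) :
    Cfsg.pCoreOf p B ≤ centralizer (WCProduct.res p (gf A) : Set G) := by
  haveI := Fact.mk hp
  obtain ⟨D, hD⟩ : ∃ D, D = Cfsg.pCoreOf p B := ⟨_, rfl⟩
  rw [← hD]
  have hDp : IsPGroup p D := hD ▸ lg_isPGroup_pCoreOf B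
  have hBD : B ≤ normalizer (D : Set G) := hD ▸ lg_le_normalizer_pCoreOf B
  have hSA : S ≤ A := hSF.trans (Subgroup.map_subtype_le _)
  have hlay := lay_le A S hSF hSsn hSC
  have hZ : ∀ l : ℕ, l.Prime → Cfsg.pCoreOf l A ≠ ⊥ →
      centralizer ((Cfsg.pCoreOf l A ⊓ centralizer (Cfsg.pCoreOf l A : Set G) : Subgroup G) : Set G) ≤ A := by
    intro l hl hne
    haveI := Fact.mk hl
    refine (centralizer_le_normalizer _).trans (hmax _ ?_ (inf_le_left.trans (lg_pCoreOf_le A)) fun a ha => mem_normalizer_fintype fun x hx => ?_).le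
    · intro e
      haveI : Nontrivial ↥(Cfsg.pCoreOf l A) := (nontrivial_iff_ne_bot _).mpr hne
      have hnt := (lg_isPGroup_pCoreOf (p := l) A).center_nontrivial
      obtain ⟨z, hz⟩ := exists_ne (1 : ↥(center ↥(Cfsg.pCoreOf l A)))
      apply hz
      have hz' : ((z : ↥(Cfsg.pCoreOf l A)) : G) ∈ Cfsg.pCoreOf l A ⊓ centralizer (Cfsg.pCoreOf l A : Set G) :=
        mem_inf.mpr ⟨z.1.2, mem_centralizer_iff.mpr fun w hw =>
          congrArg Subtype.val (mem_center_iff.mp z.2 ⟨w, hw⟩)⟩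
      rw [e, mem_bot] at hz'
      exact Subtype.ext (Subtype.ext hz')
    · have hn := lg_le_normalizer_pCoreOf (p := l) A ha
      refine mem_inf.mpr ⟨(mem_normalizer_iff.mp hn x).mp hx.1, mem_centralizer_iff.mpr fun y hy => ?_⟩
      have h1 := mem_centralizer_iff.mp hx.2 _ ((mem_normalizer_iff''.mp hn y).mp hy)
      calc y * (a * x * a⁻¹) = a * (a⁻¹ * y * a * x) * a⁻¹ := by group
        _ = a * (x * (a⁻¹ * y * a)) * a⁻¹ := by rw [h1]
        _ = a * x * a⁻¹ * y := by group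
  have hPne : Cfsg.pCoreOf p A ≠ ⊥ := by
    intro e
    obtain ⟨x, hx⟩ := exists_prime_orderOf_dvd_card' (G := ↥(Cfsg.fittingSubgroup ↥A)) p hdvd
    have := mem_core A (x := ((x : ↥A) : G)) ⟨x, x.2, rfl⟩ (l := p) (k := 1) hp
      (by rw [Subgroup.orderOf_coe, Subgroup.orderOf_coe, pow_one]; exact hx)
    rw [e, mem_bot] at this
    rw [show x = 1 from Subtype.ext (Subtype.ext this), orderOf_one] at hx
    exact hp.ne_one hx.symm
  obtain ⟨Zp, hZp⟩ : ∃ Zp, Zp = Cfsg.pCoreOf p A ⊓ centralizer (Cfsg.pCoreOf p A : Set G) := ⟨_, rfl⟩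
  have hZpS : Zp ≤ S := hZp ▸ center_core_le A S hSF hSsn hSC hp
  have hD0 : ∀ Q : Subgroup G, Q ≤ S → (Nat.card Q).Coprime p → Q ≤ centralizer (Cfsg.pCoreOf p A : Set G) →
      Q ≤ centralizer ((D ⊓ A : Subgroup G) : Set G) → Q ≤ centralizer (D : Set G) := by
    intro Q hQS hQc hQZ hQD
    refine Grp.thompson_PQ (p := p) Zp Q ((hZp ▸ (lg_isPGroup_pCoreOf A).to_le inf_le_left)) hQc
      (le_centralizer_iff.mp (hQZ.trans (centralizer_le (hZp ▸ inf_le_left)))) D hDp
      ((hZpS.trans hSB).trans hBD) ((hQS.trans hSB).trans hBD) ?_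
    intro d hd
    exact (le_centralizer_iff.mp hQD) (mem_inf.mpr ⟨hd.1, hZ p hp hPne (hZp ▸ hd.2)⟩)
  have hDAn : S ≤ normalizer ((D ⊓ A : Subgroup G) : Set G) := fun s hs => mem_normalizer_fintype fun x hx =>
    mem_inf.mpr ⟨(mem_normalizer_iff.mp (hBD (hSB hs)) x).mp hx.1,
      A.mul_mem (A.mul_mem (hSA hs) hx.2) (A.inv_mem (hSA hs))⟩
  have hED : lay A ≤ centralizer (D : Set G) := by
    haveI : Group.IsNilpotent ↥(D ⊓ A : Subgroup G) := (hDp.to_le inf_le_left).isNilpotent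
    have hE0 := lay_le_centralizer A (inf_le_right : D ⊓ A ≤ A) inferInstance (hlay.trans hDAn)
    have hperf : lay A ≤ WCProduct.res p (lay A) := by
      have he : (⁅lay A, lay A⁆ : Subgroup G) = lay A := by
        rw [lay, ← Subgroup.map_commutator, Grp.layer_perfect]
      obtain ⟨R, hR⟩ : ∃ R, R = Cfsg.pResidual p ↥(lay A) := ⟨_, rfl⟩
      haveI : R.Normal := hR ▸ Subgroup.normal_of_characteristic _
      have htop : R = ⊤ := by
        by_contra hne
        haveI : Nontrivial (↥(lay A) ⧸ R) := by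
          rw [← not_subsingleton_iff_nontrivial, QuotientGroup.subsingleton_iff]; exact hne
        have hq : IsPGroup p (↥(lay A) ⧸ R) := by subst hR; exact isPGroup_quotient_pResidual
        haveI := hq.isNilpotent
        haveI : Group.IsPerfect ↥(lay A) := ⟨Subgroup.map_injective (lay A).subtype_injective (by
          rw [Subgroup.map_subtype_commutator, he, ← MonoidHom.range_eq_map, Subgroup.range_subtype])⟩
        haveI : Group.IsPerfect (↥(lay A) ⧸ R) := Group.IsPerfect.ofSurjective (QuotientGroup.mk'_surjective R)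
        haveI : Group.IsSolvable (↥(lay A) ⧸ R) := inferInstance
        exact Group.IsPerfect.not_isSolvable (↥(lay A) ⧸ R) inferInstance
      intro x hx
      exact ⟨⟨x, hx⟩, hR ▸ htop ▸ mem_top _, rfl⟩
    refine hperf.trans ?_
    rw [WCProduct.res_eq_closure, closure_le]
    intro r hr
    refine hD0 (zpowers r) (zpowers_le.mpr (hlay hr.1)) (by rw [Nat.card_zpowers]; exact hr.2)
      (zpowers_le.mpr (lay_comm A hp hr.1)) (zpowers_le.mpr (hE0 hr.1)) (mem_zpowers r)
  have hcores : ∀ l : ℕ, l.Prime → l ≠ p → Cfsg.pCoreOf l A ≤ centralizer (D : Set G) := by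
    intro l hl hne
    haveI := Fact.mk hl
    rcases eq_or_ne (Cfsg.pCoreOf l A) ⊥ with e | e
    · rw [e]; exact bot_le
    have hR : S ⊓ Cfsg.pCoreOf l A ≤ centralizer (D : Set G) := by
      refine hD0 _ inf_le_left ?_ (inf_le_right.trans (core_comm A hl hp hne)) ?_
      · obtain ⟨n, hn⟩ := IsPGroup.iff_card.mp
          ((lg_isPGroup_pCoreOf (p := l) A).to_le (inf_le_right : S ⊓ Cfsg.pCoreOf l A ≤ _))
        rw [hn]; exact Nat.Coprime.pow_left n ((Nat.coprime_primes hl hp).mpr hne)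
      · refine commutator_eq_bot_iff_le_centralizer.mp (le_bot_iff.mp ?_)
        rw [← inf_eq_bot_of_pGroups hl hp hne (lg_isPGroup_pCoreOf (p := l) A)
          (hDp.to_le (inf_le_left : D ⊓ A ≤ D))]
        refine commutator_le.mpr fun r hr d hd => mem_inf.mpr ⟨?_, ?_⟩
        · rw [commutatorElement_def, show r * d * r⁻¹ * d⁻¹ = r * (d * r⁻¹ * d⁻¹) by group]
          exact mul_mem hr.2 ((mem_normalizer_iff.mp (lg_le_normalizer_pCoreOf A hd.2) _).mp (inv_mem hr.2))
        · rw [commutatorElement_def]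
          exact mul_mem ((mem_normalizer_iff.mp (hDAn hr.1) d).mp hd) (inv_mem hd)
    have hDA : D ≤ A := (le_centralizer_iff.mp ((le_inf (center_core_le A S hSF hSsn hSC hl)
      inf_le_left).trans hR)).trans (hZ l hl e)
    obtain ⟨n, hn⟩ := IsPGroup.iff_card.mp hDp
    exact le_centralizer_core A S hSF hSsn hSC hl hDA
      (by rw [hn]; exact Nat.Coprime.pow_left n ((Nat.coprime_primes hp hl).mpr hne.symm)) hR
  -- assemble
  obtain ⟨N, hN⟩ : ∃ N, N = centralizer (D : Set G) ⊓ A := ⟨_, rfl⟩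
  have hgen : gf A ≤ (lay A ⊔ ⨆ l : {l : ℕ // l.Prime ∧ l ≠ p}, Cfsg.pCoreOf (l : ℕ) A) ⊔ Cfsg.pCoreOf p A := by
    rw [gf, Cfsg.generalizedFittingSubgroup, Subgroup.map_sup]
    refine sup_le (le_sup_left.trans le_sup_left) fun x hx => mem_of_primePow fun y hy l k hl ho => ?_
    have hy' := mem_core A ((zpowers_le.mpr hx) hy) hl ho
    rcases eq_or_ne l p with rfl | hne
    · exact mem_sup_right hy'
    · exact mem_sup_left (mem_sup_right (mem_iSup_of_mem (⟨l, hl, hne⟩ : {l : ℕ // l.Prime ∧ l ≠ p}) hy'))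
  have hn : Cfsg.pCoreOf p A ≤ normalizer
      ((lay A ⊔ ⨆ l : {l : ℕ // l.Prime ∧ l ≠ p}, Cfsg.pCoreOf (l : ℕ) A : Subgroup G) : Set G) := by
    refine le_trans (le_centralizer_iff.mp ?_) (centralizer_le_normalizer _)
    exact sup_le (lay_comm A hp) (iSup_le fun l => core_comm A l.2.1 hp l.2.2)
  refine le_centralizer_iff.mp ((WCProduct.res_le_of_le_sup (lg_isPGroup_pCoreOf A) hn hgen).trans ?_)
  exact sup_le hED (iSup_le fun l => hcores l l.2.1 l.2.2)

end Cfsg.Agent.Invol.BenderPush
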