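import Mathlib

/-!
A rank lemma for triangular systems of functionals, used for the breadth bound on the
derived subgroup of a `p`-group.
-/

set_option autoImplicit false

namespace Cfsg.Agent.Invol.Breadth

variable {p : ℕ} [hp : Fact p.Prime] {L C W : Type*} [AddCommGroup L] [AddCommGroup C]
  [AddCommGroup W]

/-- The span of the images of the listed elements. -/
def Yof (M : L →+ C →+ W) {j : ℕ} (v : Fin j → L) : AddSubgroup W := ⨆ l, (M (v l)).range

/-- The listed functionals are triangular. -/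
def Tri (M : L →+ C →+ W) {j : ℕ} (v : Fin j → L) (φ : Fin j → (W →+ ZMod p)) : Prop :=
  ∀ i l, l < i → ∀ f, φ i (M (v l) f) = 0

/-- The diagonal functionals are independent on `K`. -/
def Ind (M : L →+ C →+ W) {j : ℕ} (v : Fin j → L) (φ : Fin j → (W →+ ZMod p))
    (K : AddSubgroup C) : Prop :=
  ∀ α : Fin j → ZMod p, (∀ f ∈ K, ∑ i, α i * φ i (M (v i) f) = 0) → α = 0

theorem Ind.mono {M : L →+ C →+ W} {j : ℕ} {v : Fin j → L} {φ : Fin j → (W →+ ZMod p)}
    {K K' : AddSubgroup C} (h : Ind M v φ K) (hK : K ≤ K') : Ind M v φ K' :=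
  fun α hα => h α fun f hf => hα f (hK hf)

theorem card_mul_le_of_functional [Finite W] {A B : AddSubgroup W} (φ : W →+ ZMod p)
    (hBA : B ≤ A) (hB : ∀ w ∈ B, φ w = 0) {a : W} (ha : a ∈ A) (hφ : φ a ≠ 0) :
    Nat.card B * p ≤ Nat.card A := by
  have h : Function.Injective fun x : B × ZMod p =>
      (⟨(x.1 : W) + x.2.val • a, add_mem (hBA x.1.2) (nsmul_mem ha _)⟩ : A) := by
    intro x y hxy
    have h1 : (x.1 : W) + x.2.val • a = y.1 + y.2.val • a := congrArg Subtype.val hxy
    have h2 := congrArg φ h1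
    rw [map_add, map_add, map_nsmul, map_nsmul, hB _ x.1.2, hB _ y.1.2, zero_add, zero_add,
      nsmul_eq_mul, nsmul_eq_mul, ZMod.natCast_val, ZMod.natCast_val, ZMod.cast_id,
      ZMod.cast_id] at h2
    have h3 : x.2 = y.2 := mul_right_cancel₀ hφ h2
    rw [h3] at h1
    exact Prod.ext (Subtype.ext (add_right_cancel h1)) h3
  have := Nat.card_le_card_of_injective _ h
  rwa [Nat.card_prod, Nat.card_zmod] at this

theorem rank_lemma [Finite W] (M : L →+ C →+ W) : ∀ {j : ℕ} (v : Fin j → L)
    (φ : Fin j → (W →+ ZMod p)), Tri M v φ → ∀ (x : L) (K : AddSubgroup C), Ind M v φ K →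
      ∃ y, y - x ∈ AddSubgroup.closure (Set.range v) ∧ p ^ j ≤ Nat.card (K.map (M y)) := by
  intro j
  induction j with
  | zero =>
    intro v φ _ x K _
    exact ⟨x, by simp, by rw [pow_zero]; exact Nat.card_pos⟩
  | succ j ih =>
    intro v φ htri x K hind
    set v' : Fin j → L := fun i => v i.castSucc
    set φ' : Fin j → (W →+ ZMod p) := fun i => φ i.castSucc
    set lst := Fin.last j
    have hdiag : ∀ (α : Fin j → ZMod p) (s : ZMod p),
        (∀ f ∈ K, ∑ i, α i * φ' i (M (v' i) f) + s * φ lst (M (v lst) f) = 0) → α = 0 ∧ s = 0 := by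
      intro α s h
      have h1 := hind (Fin.snoc α s) fun f hf => by
        rw [Fin.sum_univ_castSucc]
        simp only [Fin.snoc_castSucc, Fin.snoc_last]
        exact h f hf
      refine ⟨funext fun i => ?_, ?_⟩
      · simpa using congrFun h1 i.castSucc
      · simpa [lst] using congrFun h1 lst
    obtain ⟨x', hx', hout⟩ : ∃ x', x' - x ∈ AddSubgroup.closure (Set.range v) ∧
        ∀ α : Fin j → ZMod p, ¬ ∀ f ∈ K, φ lst (M x' f) = ∑ i, α i * φ' i (M (v' i) f) := by
      by_contra hc
      push Not at hc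
      obtain ⟨α, hα⟩ := hc x (by simp)
      obtain ⟨β, hβ⟩ := hc (x + v lst) (by
        simpa using AddSubgroup.subset_closure (Set.mem_range_self (f := v) lst))
      refine one_ne_zero (hdiag (α - β) 1 fun f hf => ?_).2
      have h1 := hβ f hf
      rw [map_add, AddMonoidHom.add_apply, map_add, hα f hf] at h1
      simp only [Pi.sub_apply, sub_mul, Finset.sum_sub_distrib, one_mul, ← h1]
      ring
    set ρ : C →+ ZMod p := (φ lst).comp (M x')
    obtain ⟨f0, hf0, hρ0⟩ : ∃ f0 ∈ K, ρ f0 ≠ 0 := by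
      by_contra hc
      push Not at hc
      exact hout 0 fun f hf => by simpa [ρ] using hc f hf
    have hind' : Ind M v' φ' (K ⊓ ρ.ker) := by
      intro α hα
      set σ : C →+ ZMod p := ∑ i, (AddMonoidHom.mulLeft (α i)).comp ((φ' i).comp (M (v' i)))
      have hσ : ∀ f, σ f = ∑ i, α i * φ' i (M (v' i) f) := fun f => by simp [σ]
      set s := σ f0 / ρ f0
      have hkey : ∀ f ∈ K, σ f = s * ρ f := by
        intro f hf
        set t := ρ f / ρ f0
        have hmem : f - t.val • f0 ∈ K ⊓ ρ.ker := by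
          refine AddSubgroup.mem_inf.mpr ⟨sub_mem hf (nsmul_mem hf0 _), ?_⟩
          rw [AddMonoidHom.mem_ker, map_sub, map_nsmul, nsmul_eq_mul, ZMod.natCast_val,
            ZMod.cast_id, div_mul_cancel₀ _ hρ0, sub_self]
        have h := hα _ hmem
        rw [← hσ, map_sub, map_nsmul, nsmul_eq_mul, ZMod.natCast_val, ZMod.cast_id,
          sub_eq_zero] at h
        rw [h]
        simp only [t, s]
        field_simp
      by_cases hs : s = 0
      · refine (hdiag α 0 fun f hf => ?_).1
        rw [zero_mul, add_zero, ← hσ, hkey f hf, hs, zero_mul]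
      · refine absurd (fun f hf => ?_) (hout fun i => α i / s)
        simp only [div_mul_eq_mul_div, ← Finset.sum_div, ← hσ, hkey f hf]
        exact (mul_div_cancel_left₀ (ρ f) hs).symm
    obtain ⟨y, hy, hcard⟩ := ih v' φ' (fun i l hl f => htri _ _ (by simpa using hl) f) x'
      (K ⊓ ρ.ker) hind'
    have hle : AddSubgroup.closure (Set.range v') ≤ AddSubgroup.closure (Set.range v) :=
      AddSubgroup.closure_mono (Set.range_comp_subset_range Fin.castSucc v)
    refine ⟨y, by simpa using add_mem (hle hy) hx', ?_⟩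
    have hyρ : ∀ f, φ lst (M y f) = ρ f := by
      intro f
      have hz : ∀ z ∈ AddSubgroup.closure (Set.range v'), φ lst (M z f) = 0 := by
        intro z hz
        induction hz using AddSubgroup.closure_induction with
        | mem z hz =>
          obtain ⟨l, rfl⟩ := hz
          exact htri lst l.castSucc (Fin.castSucc_lt_last l) f
        | zero => simp
        | add a b _ _ ha hb => simp [ha, hb]
        | neg a _ ha => simp [ha]
      have := hz _ hy
      rwa [map_sub, AddMonoidHom.sub_apply, map_sub, sub_eq_zero] at this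
    rw [pow_succ]
    refine (Nat.mul_le_mul_right p hcard).trans
      (card_mul_le_of_functional (φ lst) (AddSubgroup.map_mono inf_le_left) ?_
        (AddSubgroup.mem_map_of_mem _ hf0) (by rw [hyρ]; exact hρ0))
    rintro w ⟨f, hf, rfl⟩
    rw [hyρ]
    exact hf.2

theorem card_sup_mul_card_inf_le [Finite W] (Y R : AddSubgroup W) :
    Nat.card (Y ⊔ R : AddSubgroup W) * Nat.card (Y ⊓ R : AddSubgroup W) ≤
      Nat.card Y * Nat.card R := by
  have h : ∀ z : (Y ⊔ R : AddSubgroup W), ∃ a : Y × R, (a.1 : W) + a.2 = z := fun z => by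
    obtain ⟨a, ha, b, hb, h⟩ := AddSubgroup.mem_sup.mp z.2
    exact ⟨(⟨a, ha⟩, ⟨b, hb⟩), h⟩
  choose s hs using h
  have hinj : Function.Injective fun x : (Y ⊔ R : AddSubgroup W) × (Y ⊓ R : AddSubgroup W) =>
      ((⟨(s x.1).1 + (x.2 : W), add_mem (s x.1).1.2 x.2.2.1⟩ : Y),
        (⟨(s x.1).2 - (x.2 : W), sub_mem (s x.1).2.2 x.2.2.2⟩ : R)) := by
    intro x y hxy
    have h1 : ((s x.1).1 : W) + x.2 = (s y.1).1 + y.2 := congrArg (fun z => ((z.1 : Y) : W)) hxy
    have h2 : ((s x.1).2 : W) - x.2 = (s y.1).2 - y.2 := congrArg (fun z => ((z.2 : R) : W)) hxy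
    have h3 : x.1 = y.1 := Subtype.ext (by
      rw [← hs x.1, ← hs y.1]
      linear_combination (norm := abel) h1 + h2)
    rw [h3] at h1
    exact Prod.ext h3 (Subtype.ext (add_left_cancel h1))
  have := Nat.card_le_card_of_injective _ hinj
  rwa [Nat.card_prod, Nat.card_prod] at this

/-- The cost of appending an element to the list. -/
theorem cost_bound [Finite W] (M : L →+ C →+ W) (L1 : AddSubgroup L) {c j : ℕ}
    (hc : ∀ y ∈ L1, Nat.card (M y).range ≤ p ^ c) (v : Fin j → L) (hv : ∀ l, v l ∈ L1)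
    (φ : Fin j → (W →+ ZMod p)) (htri : Tri M v φ) {x : L} (hx : x ∈ L1) {K : AddSubgroup C}
    (hK : Ind M v φ K) (hxK : ∀ f ∈ K, M x f ∈ Yof M v) :
    Nat.card (Yof M v ⊔ (M x).range : AddSubgroup W) * p ^ j ≤ Nat.card (Yof M v) * p ^ c := by
  obtain ⟨y, hy, hcard⟩ := rank_lemma M v φ htri x K hK
  set Y := Yof M v
  have hd : ∀ z ∈ AddSubgroup.closure (Set.range v), ∀ f, M z f ∈ Y := by
    intro z hz f
    induction hz using AddSubgroup.closure_induction with
    | mem z hz =>
      obtain ⟨l, rfl⟩ := hz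
      exact le_iSup (fun l => (M (v l)).range) l ⟨f, rfl⟩
    | zero => simp
    | add a b _ _ ha hb => simpa using add_mem ha hb
    | neg a _ ha => simpa using neg_mem ha
  have hy1 : y ∈ L1 := by
    simpa using add_mem ((AddSubgroup.closure_le L1).mpr (Set.range_subset_iff.mpr hv) hy) hx
  have hdiff : ∀ f, M y f - M x f ∈ Y := fun f => by simpa using hd _ hy f
  have hsup : Y ⊔ (M x).range = Y ⊔ (M y).range := by
    apply le_antisymm <;> refine sup_le le_sup_left ?_ <;> rintro _ ⟨f, rfl⟩
    · have := sub_mem (AddSubgroup.mem_sup_right (S := Y) ⟨f, rfl⟩ : M y f ∈ Y ⊔ (M y).range)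
        (AddSubgroup.mem_sup_left (T := (M y).range) (hdiff f))
      simpa using this
    · have := add_mem (AddSubgroup.mem_sup_left (T := (M x).range) (hdiff f))
        (AddSubgroup.mem_sup_right (S := Y) ⟨f, rfl⟩ : M x f ∈ Y ⊔ (M x).range)
      simpa using this
  have hinf : K.map (M y) ≤ Y ⊓ (M y).range := by
    rintro _ ⟨f, hf, rfl⟩
    exact ⟨by simpa using add_mem (hdiff f) (hxK f hf), ⟨f, rfl⟩⟩
  rw [hsup]
  calc Nat.card (Y ⊔ (M y).range : AddSubgroup W) * p ^ j
      ≤ Nat.card (Y ⊔ (M y).range : AddSubgroup W) * Nat.card (Y ⊓ (M y).range : AddSubgroup W) :=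
        Nat.mul_le_mul_left _ (hcard.trans (AddSubgroup.card_le_of_le hinf))
    _ ≤ Nat.card Y * Nat.card (M y).range := card_sup_mul_card_inf_le _ _
    _ ≤ Nat.card Y * p ^ c := Nat.mul_le_mul_left _ (hc y hy1)

theorem exists_functional [Finite W] (hW : ∀ w : W, p • w = 0) (Y : AddSubgroup W) {w : W}
    (hw : w ∉ Y) : ∃ φ : W →+ ZMod p, (∀ y ∈ Y, φ y = 0) ∧ φ w ≠ 0 := by
  haveI : Module (ZMod p) W := AddCommGroup.zmodModule hW
  obtain ⟨f, hf, hfY⟩ := Submodule.exists_dual_map_eq_bot_of_notMem (p := Y.toZModSubmodule p)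
    (x := w) (by simpa using hw) inferInstance
  refine ⟨f.toAddMonoidHom, fun y hy => ?_, hf⟩
  have : f y ∈ (Y.toZModSubmodule p).map f := Submodule.mem_map_of_mem (by simpa using hy)
  rwa [hfY, Submodule.mem_bot] at this

theorem yof_snoc (M : L →+ C →+ W) {j : ℕ} (v : Fin j → L) (a : L) :
    Yof M (Fin.snoc v a : Fin (j + 1) → L) = Yof M v ⊔ (M a).range := by
  unfold Yof
  refine le_antisymm (iSup_le fun l => ?_) (sup_le (iSup_le fun l => ?_) ?_)
  · induction l using Fin.lastCases with
    | last => simp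
    | cast l => simpa using le_sup_of_le_left (le_iSup (fun l => (M (v l)).range) l)
  · simpa using le_iSup (fun l => (M ((Fin.snoc v a : Fin (j + 1) → L) l)).range) l.castSucc
  · simpa using le_iSup (fun l => (M ((Fin.snoc v a : Fin (j + 1) → L) l)).range) (Fin.last j)

theorem tri_snoc {M : L →+ C →+ W} {j : ℕ} {v : Fin j → L} {φ : Fin j → (W →+ ZMod p)}
    (h : Tri M v φ) (a : L) {ψ : W →+ ZMod p} (hψ : ∀ y ∈ Yof M v, ψ y = 0) :
    Tri M (Fin.snoc v a : Fin (j + 1) → L) (Fin.snoc φ ψ) := by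
  intro i l hl f
  induction i using Fin.lastCases with
  | last =>
    induction l using Fin.lastCases with
    | last => exact absurd hl (lt_irrefl _)
    | cast l =>
      simp only [Fin.snoc_last, Fin.snoc_castSucc]
      exact hψ _ (le_iSup (fun l => (M (v l)).range) l ⟨f, rfl⟩)
  | cast i =>
    induction l using Fin.lastCases with
    | last => exact absurd hl (by simp [Fin.le_last])
    | cast l =>
      simp only [Fin.snoc_castSucc]
      exact h i l (by simpa using hl) f

/-- Appending preserves independence on a subgroup where the new functional is separated. -/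
theorem ind_snoc {M : L →+ C →+ W} {j : ℕ} {v : Fin j → L} {φ : Fin j → (W →+ ZMod p)}
    {K₀ K : AddSubgroup C} (h : Ind M v φ K₀) {a : L} {ψ : W →+ ZMod p} (hle : K₀ ≤ K)
    (hzero : ∀ f ∈ K₀, ψ (M a f) = 0) {g : C} (hg : g ∈ K) (hne : ψ (M a g) ≠ 0) :
    Ind M (Fin.snoc v a : Fin (j + 1) → L) (Fin.snoc φ ψ) K := by
  intro α hα
  have hα' : ∀ f ∈ K, ∑ i : Fin j, α i.castSucc * φ i (M (v i) f) +
      α (Fin.last j) * ψ (M a f) = 0 := fun f hf => by
    have := hα f hf
    simpa only [Fin.sum_univ_castSucc, Fin.snoc_castSucc, Fin.snoc_last] using this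
  have h0 := h (fun i => α i.castSucc) fun f hf => by
    have := hα' f (hle hf)
    rwa [hzero f hf, mul_zero, add_zero] at this
  funext i
  induction i using Fin.lastCases with
  | last =>
    have := hα' g hg
    simp only [congrFun h0, Pi.zero_apply, zero_mul, Finset.sum_const_zero, zero_add] at this
    simpa using (mul_eq_zero.mp this).resolve_right hne
  | cast i => exact congrFun h0 i

end Cfsg.Agent.Invol.Breadth
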