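import Mathlib
import Cfsg.Agent.Lib.Invol.BreadthRank

/-!
The breadth bound in a Lie ring: if all `(M y).range` have at most `p ^ c` elements, then
all of them together span at most `p ^ (c (c + 1) / 2)` elements.
-/

set_option autoImplicit false

namespace Cfsg.Agent.Invol.Breadth

variable {p : ℕ} [hp : Fact p.Prime] {ι : Type*} {L : Type*} [LieRing L] {Q : ι → Type*}
  [∀ m, AddCommGroup (Q m)]

/-- The pairing. -/
def mu (red : ∀ m, L →+ Q m) : L →+ (ι → L) →+ (∀ m, Q m) :=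
  AddMonoidHom.mk'
    (fun y => AddMonoidHom.mk' (fun f m => red m ⁅y, f m⁆)
      (fun f g => funext fun m => by simp [lie_add]))
    (fun y z => AddMonoidHom.ext fun f => funext fun m => by simp [add_lie])

@[simp] theorem mu_apply (red : ∀ m, L →+ Q m) (y : L) (f : ι → L) (m : ι) :
    mu red y f m = red m ⁅y, f m⁆ := rfl

theorem mu_single [DecidableEq ι] (red : ∀ m, L →+ Q m) (y : L) (m : ι) (z : L) :
    mu red y (Pi.single m z) = Pi.single m (red m ⁅y, z⁆) := by
  funext k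
  rcases eq_or_ne k m with rfl | h
  · simp
  · simp [h]

/-- The smallest subgroup containing `a` and stable under the brackets with `V`. -/
def UL (V : Set L) (a : L) : AddSubgroup L :=
  sInf {S | a ∈ S ∧ ∀ v ∈ V, ∀ z ∈ S, ⁅v, z⁆ ∈ S}

theorem mem_UL_self (V : Set L) (a : L) : a ∈ UL V a :=
  AddSubgroup.mem_sInf.mpr fun _ hS => hS.1

theorem lie_mem_UL {V : Set L} {a v z : L} (hv : v ∈ V) (hz : z ∈ UL V a) : ⁅v, z⁆ ∈ UL V a :=
  AddSubgroup.mem_sInf.mpr fun S hS => hS.2 v hv z (AddSubgroup.mem_sInf.mp hz S hS)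

theorem UL_le {V : Set L} {a : L} {S : AddSubgroup L} (h1 : a ∈ S)
    (h2 : ∀ v ∈ V, ∀ z ∈ S, ⁅v, z⁆ ∈ S) : UL V a ≤ S :=
  sInf_le ⟨h1, h2⟩

theorem UL_add_le (V : Set L) (a b : L) : UL V (a + b) ≤ UL V a ⊔ UL V b := by
  refine UL_le (add_mem (AddSubgroup.mem_sup_left (mem_UL_self V a))
    (AddSubgroup.mem_sup_right (mem_UL_self V b))) fun v hv z hz => ?_
  obtain ⟨x, hx, y, hy, rfl⟩ := AddSubgroup.mem_sup.mp hz
  rw [lie_add]
  exact add_mem (AddSubgroup.mem_sup_left (lie_mem_UL hv hx))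
    (AddSubgroup.mem_sup_right (lie_mem_UL hv hy))

/-- The families with values in `UL V a`. -/
def UU (ι : Type*) (V : Set L) (a : L) : AddSubgroup (ι → L) :=
  AddSubgroup.pi Set.univ fun _ => UL V a

theorem mem_UU {V : Set L} {a : L} {f : ι → L} : f ∈ UU ι V a ↔ ∀ m, f m ∈ UL V a :=
  ⟨fun h m => h m (Set.mem_univ _), fun h m _ => h m⟩

theorem single_mem_UU [DecidableEq ι] {V : Set L} {a z : L} (hz : z ∈ UL V a) (m : ι) :
    Pi.single m z ∈ UU ι V a := by
  rw [mem_UU]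
  intro k
  rcases eq_or_ne k m with rfl | h
  · simpa using hz
  · simp [h]

theorem mu_mem_of_single [Fintype ι] [DecidableEq ι] {red : ∀ m, L →+ Q m} {y : L} {f : ι → L}
    {M : AddSubgroup (∀ m, Q m)}
    (h : ∀ m, mu red y (Pi.single m (f m)) ∈ M) : mu red y f ∈ M := by
  rw [← Finset.univ_sum_single f, map_sum]
  exact sum_mem fun m _ => h m

variable [Fintype ι] [DecidableEq ι]

/-- Moving the pairing into the closure of `a`. -/
theorem lemma_one (red : ∀ m, L →+ Q m) {V : Set L} {Y : AddSubgroup (∀ m, Q m)}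
    (hV : ∀ v ∈ V, ∀ f, mu red v f ∈ Y) {a : L} {f : ι → L} (hf : f ∈ UU ι V a) (y : L) :
    mu red y f ∈ Y ⊔ (mu red a).range := by
  set N := Y ⊔ (mu red a).range
  let S : AddSubgroup L :=
    { carrier := {z | ∀ (y : L) (m : ι), mu red y (Pi.single m z) ∈ N}
      zero_mem' := fun y m => by simp
      add_mem' := fun {u w} hu hw y m => by
        rw [Pi.single_add, map_add]; exact add_mem (hu y m) (hw y m)
      neg_mem' := fun {u} hu y m => by rw [Pi.single_neg, map_neg]; exact neg_mem (hu y m) }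
  have hS : UL V a ≤ S := by
    refine UL_le (fun y m => ?_) fun v hv z hz y m => ?_
    · refine AddSubgroup.mem_sup_right ⟨-Pi.single m y, ?_⟩
      rw [map_neg, mu_single, mu_single, ← lie_skew, map_neg, Pi.single_neg, neg_neg]
    · rw [mu_single, leibniz_lie, map_add, Pi.single_add, ← mu_single, ← mu_single]
      exact add_mem (hz _ m) (AddSubgroup.mem_sup_left (hV v hv _))
  exact mu_mem_of_single fun m => hS (mem_UU.mp hf m) y m

/-- The symmetry of the closures. -/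
theorem lemma_two (red : ∀ m, L →+ Q m) {V : Set L} {N : AddSubgroup (∀ m, Q m)}
    (hV : ∀ v ∈ V, ∀ f, mu red v f ∈ N) {a x : L} (m : ι)
    (h : ∀ z ∈ UL V x, mu red a (Pi.single m z) ∈ N) {l : L} (hl : l ∈ UL V a) :
    mu red x (Pi.single m l) ∈ N := by
  let S : AddSubgroup L :=
    { carrier := {y | ∀ z ∈ UL V x, mu red y (Pi.single m z) ∈ N}
      zero_mem' := fun z _ => by simp
      add_mem' := fun {u w} hu hw z hz => by
        rw [map_add, AddMonoidHom.add_apply]; exact add_mem (hu z hz) (hw z hz)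
      neg_mem' := fun {u} hu z hz => by
        rw [map_neg, AddMonoidHom.neg_apply]; exact neg_mem (hu z hz) }
  have hS : UL V a ≤ S := by
    refine UL_le h fun v hv y hy z hz => ?_
    have e : mu red ⁅v, y⁆ (Pi.single m z) = mu red v (Pi.single m ⁅y, z⁆) -
        mu red y (Pi.single m ⁅v, z⁆) := by
      rw [mu_single, mu_single, mu_single, ← Pi.single_sub, ← map_sub, leibniz_lie v y z,
        add_sub_cancel_right]
    rw [e]
    exact sub_mem (hV v hv _) (hy _ (lie_mem_UL hv hz))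
  have h1 := hS hl x (mem_UL_self V x)
  rw [mu_single, ← lie_skew, map_neg, Pi.single_neg, ← mu_single]
  exact neg_mem h1

/-- The families which pair `L1` into `Y`. -/
def Lam (red : ∀ m, L →+ Q m) (L1 : AddSubgroup L) (Y : AddSubgroup (∀ m, Q m)) :
    AddSubgroup (ι → L) where
  carrier := {f | ∀ y ∈ L1, mu red y f ∈ Y}
  zero_mem' := fun y _ => by simp
  add_mem' := fun {f g} hf hg y hy => by rw [map_add]; exact add_mem (hf y hy) (hg y hy)
  neg_mem' := fun {f} hf y hy => by rw [map_neg]; exact neg_mem (hf y hy)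

theorem Lam_mono (red : ∀ m, L →+ Q m) (L1 : AddSubgroup L) {Y Y' : AddSubgroup (∀ m, Q m)}
    (h : Y ≤ Y') : Lam red L1 Y ≤ Lam red L1 Y' := fun _ hf y hy => h (hf y hy)

/-- The span of all the images. -/
def Total (red : ∀ m, L →+ Q m) (L1 : AddSubgroup L) : AddSubgroup (∀ m, Q m) :=
  ⨆ x ∈ L1, (mu red x).range

theorem total_le {red : ∀ m, L →+ Q m} {L1 : AddSubgroup L} {Y : AddSubgroup (∀ m, Q m)}
    (h : ∀ x ∈ L1, ∀ f, mu red x f ∈ Y) : Total red L1 ≤ Y :=
  iSup₂_le fun x hx => by rintro _ ⟨f, rfl⟩; exact h x hx f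

theorem mem_total {red : ∀ m, L →+ Q m} {L1 : AddSubgroup L} {x : L} (hx : x ∈ L1) (f : ι → L) :
    mu red x f ∈ Total red L1 :=
  le_iSup₂ (f := fun x (_ : x ∈ L1) => (mu red x).range) x hx ⟨f, rfl⟩

/-- The finished case: every bracket is already accounted for. -/
theorem finished (red : ∀ m, L →+ Q m) (L1 : AddSubgroup L) (F : ℕ → AddSubgroup L)
    (hF : ∀ n, ∀ y ∈ L1, ∀ z ∈ F n, ⁅y, z⁆ ∈ F (n + 1)) (hF0 : F 0 = ⊤) (hFN : ∃ N, F N = ⊥)
    (hgen : L1 ⊔ AddSubgroup.closure {w | ∃ y ∈ L1, ∃ z, w = ⁅y, z⁆} = ⊤)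
    (hker : ∀ m, ∀ y z : L, red m z = 0 → red m ⁅y, z⁆ = 0)
    {j : ℕ} (v : Fin j → L) (hv : ∀ l, v l ∈ L1)
    (h : ∀ b ∈ L1, ∀ f ∈ UU ι (Set.range v) b, ∀ y ∈ L1, mu red y f ∈ Yof (mu red) v) :
    Total red L1 ≤ Yof (mu red) v := by
  set V := Set.range v
  set Y := Yof (mu red) v
  set US : AddSubgroup L := ⨆ b ∈ L1, UL V b
  have hL1US : L1 ≤ US := fun b hb =>
    le_iSup₂ (f := fun b (_ : b ∈ L1) => UL V b) b hb (mem_UL_self V b)
  have hUS : ∀ v ∈ V, ∀ z ∈ US, ⁅v, z⁆ ∈ US := by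
    intro w hw z hz
    let S : AddSubgroup L := US.comap (AddMonoidHom.mk' (fun z => ⁅w, z⁆) (lie_add w))
    have : US ≤ S := iSup₂_le fun b hb z hz =>
      le_iSup₂ (f := fun b (_ : b ∈ L1) => UL V b) b hb (lie_mem_UL hw hz)
    exact this hz
  have hY : ∀ (m : ι) (z : L), z ∈ US → ∀ y ∈ L1, mu red y (Pi.single m z) ∈ Y := by
    intro m z hz y hy
    let S : AddSubgroup L :=
      Y.comap ((mu red y).comp (AddMonoidHom.single (fun _ => L) m))
    have : US ≤ S := iSup₂_le fun b hb z hz => h b hb _ (single_mem_UU hz m) y hy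
    exact this hz
  have hrep : ∀ w ∈ Y, ∃ f : Fin j → (ι → L), w = ∑ l, mu red (v l) (f l) := by
    intro w hw
    refine AddSubgroup.iSup_induction (fun l => (mu red (v l)).range)
      (C := fun w => ∃ f : Fin j → (ι → L), w = ∑ l, mu red (v l) (f l)) hw ?_ ⟨0, by simp⟩ ?_
    · rintro l _ ⟨f, rfl⟩
      refine ⟨Pi.single l f, ?_⟩
      rw [Finset.sum_eq_single l (fun k _ hk => by simp [Pi.single_eq_of_ne hk])
        (fun hl => absurd (Finset.mem_univ l) hl)]
      simp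
    · rintro _ _ ⟨f, rfl⟩ ⟨g, rfl⟩
      exact ⟨f + g, by simp [Finset.sum_add_distrib]⟩
  have key : ∀ (m : ι) (n : ℕ), US ⊔ (red m).ker ⊔ F n = ⊤ := by
    intro m n
    induction n with
    | zero => rw [hF0, sup_top_eq]
    | succ n ih =>
      rw [eq_top_iff, ← hgen, sup_le_iff]
      refine ⟨hL1US.trans (le_sup_left.trans le_sup_left), (AddSubgroup.closure_le _).mpr ?_⟩
      rintro _ ⟨y, hy, z, rfl⟩
      obtain ⟨a, ha, f, hf, rfl⟩ := AddSubgroup.mem_sup.mp (ih.ge (AddSubgroup.mem_top z))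
      obtain ⟨u, hu, k, hk, rfl⟩ := AddSubgroup.mem_sup.mp ha
      rw [SetLike.mem_coe, lie_add, lie_add]
      refine add_mem (add_mem ?_ ?_) (AddSubgroup.mem_sup_right (hF n y hy f hf))
      · obtain ⟨g, hg⟩ := hrep _ (hY m u hu y hy)
        have hg' : red m ⁅y, u⁆ = red m (∑ l, ⁅v l, g l m⁆) := by
          have := congrFun hg m
          simpa [Finset.sum_apply, map_sum] using this
        have e : ⁅y, u⁆ = (∑ l, ⁅v l, g l m⁆) + (⁅y, u⁆ - ∑ l, ⁅v l, g l m⁆) := by abel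
        rw [e]
        refine add_mem (sum_mem fun l _ => ?_)
          (AddSubgroup.mem_sup_left (AddSubgroup.mem_sup_right ?_))
        · obtain ⟨a', ha', f', hf', e'⟩ :=
            AddSubgroup.mem_sup.mp (ih.ge (AddSubgroup.mem_top (g l m)))
          obtain ⟨u', hu', k', hk', rfl⟩ := AddSubgroup.mem_sup.mp ha'
          rw [← e', lie_add, lie_add]
          exact add_mem (add_mem
            (AddSubgroup.mem_sup_left (AddSubgroup.mem_sup_left (hUS _ (Set.mem_range_self l) _ hu')))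
            (AddSubgroup.mem_sup_left (AddSubgroup.mem_sup_right (hker m _ _ hk'))))
            (AddSubgroup.mem_sup_right (hF n _ (hv l) f' hf'))
        · rw [AddMonoidHom.mem_ker, map_sub, hg', sub_self]
      · exact AddSubgroup.mem_sup_left (AddSubgroup.mem_sup_right (hker m _ _ hk))
  obtain ⟨N, hN⟩ := hFN
  refine total_le fun y hy f => mu_mem_of_single fun m => ?_
  have hfm := (key m N).ge (AddSubgroup.mem_top (f m))
  rw [hN, sup_bot_eq] at hfm
  obtain ⟨u, hu, k, hk, e⟩ := AddSubgroup.mem_sup.mp hfm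
  rw [← e, Pi.single_add, map_add]
  refine add_mem (hY m u hu y hy) ?_
  rw [mu_single, hker m y k hk]
  simp


/-- The bound. -/
def T (d : ℕ) : ℕ := d * (d + 1) / 2

theorem T_succ (d : ℕ) : T (d + 1) = d + 1 + T d := by
  unfold T
  rw [show (d + 1) * (d + 1 + 1) = d * (d + 1) + (d + 1) * 2 by ring,
    Nat.add_mul_div_right _ _ (by norm_num : 0 < 2), add_comm]

/-- A step which enlarges `Y`. -/
theorem step_bound [∀ m, Finite (Q m)] (red : ∀ m, L →+ Q m) (L1 : AddSubgroup L) {c : ℕ}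
    (hc : ∀ y ∈ L1, Nat.card (mu red y).range ≤ p ^ c) {j d : ℕ} (hjd : j + d = c)
    {v : Fin j → L} (hv : ∀ l, v l ∈ L1) {φ : Fin j → ((∀ m, Q m) →+ ZMod p)}
    (htri : Tri (mu red) v φ) {a : L} (ha : a ∈ L1) {K : AddSubgroup (ι → L)}
    (hK : Ind (mu red) v φ K) (haK : ∀ f ∈ K, mu red a f ∈ Yof (mu red) v)
    {w : ∀ m, Q m} (hw : w ∈ Yof (mu red) v ⊔ (mu red a).range) (hwY : w ∉ Yof (mu red) v) :
    ∃ d', d = d' + 1 ∧
      Nat.card (Yof (mu red) (Fin.snoc v a : Fin (j + 1) → L)) ≤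
        Nat.card (Yof (mu red) v) * p ^ d := by
  have h := cost_bound (mu red) L1 hc v hv φ htri ha hK haK
  rw [← hjd, pow_add, mul_comm (p ^ j), ← mul_assoc] at h
  have h2 := Nat.le_of_mul_le_mul_right h (pow_pos hp.out.pos j)
  have h3 : Nat.card (Yof (mu red) v) <
      Nat.card (Yof (mu red) v ⊔ (mu red a).range : AddSubgroup _) := by
    by_contra hcon
    have := AddSubgroup.eq_of_le_of_card_ge (le_sup_left (b := (mu red a).range))
      (not_lt.mp hcon)
    exact hwY (this.ge hw)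
  refine ⟨d - 1, ?_, by rw [yof_snoc]; exact h2⟩
  rcases d with _ | d
  · rw [pow_zero, mul_one] at h2; exact absurd h2 (not_le.mpr h3)
  · omega

/-- The two kinds of state. -/
theorem states_bound [∀ m, Finite (Q m)] (hQ : ∀ w : ∀ m, Q m, p • w = 0) (red : ∀ m, L →+ Q m)
    (L1 : AddSubgroup L) (F : ℕ → AddSubgroup L)
    (hF : ∀ n, ∀ y ∈ L1, ∀ z ∈ F n, ⁅y, z⁆ ∈ F (n + 1)) (hF0 : F 0 = ⊤) (hFN : ∃ N, F N = ⊥)
    (hgen : L1 ⊔ AddSubgroup.closure {w | ∃ y ∈ L1, ∃ z, w = ⁅y, z⁆} = ⊤)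
    (hker : ∀ m, ∀ y z : L, red m z = 0 → red m ⁅y, z⁆ = 0)
    {c : ℕ} (hc : ∀ y ∈ L1, Nat.card (mu red y).range ≤ p ^ c) (d : ℕ) :
    (∀ (j : ℕ) (v : Fin j → L) (φ : Fin j → ((∀ m, Q m) →+ ZMod p)), j + d = c →
      (∀ l, v l ∈ L1) → Tri (mu red) v φ →
      Ind (mu red) v φ (Lam red L1 (Yof (mu red) v)) →
      Nat.card (Total red L1) ≤ Nat.card (Yof (mu red) v) * p ^ T d) ∧
    (∀ (j : ℕ) (v : Fin j → L) (φ : Fin j → ((∀ m, Q m) →+ ZMod p)) (V : Set L), j + d = c →
      (∀ l, v l ∈ L1) → Tri (mu red) v φ →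
      (∀ w ∈ V, ∀ f, mu red w f ∈ Yof (mu red) v) →
      (∀ a ∈ L1, ∀ f ∈ UU ι V a, mu red a f ∈ Yof (mu red) v) →
      L1 ≤ AddSubgroup.closure
        {x | x ∈ L1 ∧ Ind (mu red) v φ (Lam red L1 (Yof (mu red) v) ⊔ UU ι V x)} →
      Nat.card (Total red L1) ≤ Nat.card (Yof (mu red) v) * p ^ T d) := by
  induction d using Nat.strong_induction_on with
  | _ d ih =>
  have hdone : ∀ {j : ℕ} {v : Fin j → L}, Total red L1 ≤ Yof (mu red) v →
      Nat.card (Total red L1) ≤ Nat.card (Yof (mu red) v) * p ^ T d := fun h =>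
    (AddSubgroup.card_le_of_le h).trans (Nat.le_mul_of_pos_right _ (pow_pos hp.out.pos _))
  have hrec : ∀ {d' : ℕ}, d = d' + 1 → ∀ {x y : ℕ}, Nat.card (Total red L1) ≤ x * p ^ T d' →
      x ≤ y * p ^ d → Nat.card (Total red L1) ≤ y * p ^ T d := fun {d'} hd {x y} h1 h2 => by
    refine h1.trans ?_
    rw [hd, T_succ, pow_add, ← mul_assoc]
    exact Nat.mul_le_mul_right _ (hd ▸ h2)
  -- the step from a state with a good generating set
  have hzstep : ∀ (j : ℕ) (v : Fin j → L) (φ : Fin j → ((∀ m, Q m) →+ ZMod p)) (V : Set L),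
      j + d = c → (∀ l, v l ∈ L1) → Tri (mu red) v φ →
      (∀ w ∈ V, ∀ f, mu red w f ∈ Yof (mu red) v) →
      (∀ a ∈ L1, ∀ f ∈ UU ι V a, mu red a f ∈ Yof (mu red) v) →
      ∀ a ∈ L1, Ind (mu red) v φ (Lam red L1 (Yof (mu red) v) ⊔ UU ι V a) →
      ∀ f ∈ UU ι V a, ∀ y ∈ L1, mu red y f ∉ Yof (mu red) v →
      Nat.card (Total red L1) ≤ Nat.card (Yof (mu red) v) * p ^ T d := by
    intro j v φ V hjd hv htri hV halt a ha hind f hf y hy hyf
    set Y := Yof (mu red) v
    have haK : ∀ g ∈ Lam red L1 Y ⊔ UU ι V a, mu red a g ∈ Y := by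
      intro g hg
      obtain ⟨g1, h1, g2, h2, rfl⟩ := AddSubgroup.mem_sup.mp hg
      rw [map_add]
      exact add_mem (h1 a ha) (halt a ha g2 h2)
    obtain ⟨d', hd, hcard⟩ :=
      step_bound red L1 hc hjd hv htri ha hind haK (lemma_one red hV hf y) hyf
    obtain ⟨ψ, hψY, hψ⟩ := exists_functional hQ Y hyf
    set v' : Fin (j + 1) → L := Fin.snoc v a
    set φ' : Fin (j + 1) → ((∀ m, Q m) →+ ZMod p) := Fin.snoc φ ψ
    have hYY : Y ≤ Yof (mu red) v' := by rw [yof_snoc]; exact le_sup_left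
    have hv' : ∀ l, v' l ∈ L1 := fun l => by
      induction l using Fin.lastCases with
      | last => simpa [v'] using ha
      | cast l => simpa [v'] using hv l
    have hUa : UU ι V a ≤ Lam red L1 (Yof (mu red) v') := fun g hg x hx => by
      rw [yof_snoc]; exact lemma_one red hV hg x
    refine hrec hd ((ih d' (by omega)).2 (j + 1) v' φ' V (by omega) hv' (tri_snoc htri a hψY)
      (fun w hw g => hYY (hV w hw g)) (fun b hb g hg => hYY (halt b hb g hg)) ?_) hcard
    -- the elements outside a proper subgroup are good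
    let S : AddSubgroup L :=
      { carrier := {x | ∀ g ∈ UU ι V a, ψ (mu red x g) = 0}
        zero_mem' := fun g _ => by simp
        add_mem' := fun {u w} hu hw g hg => by simp [hu g hg, hw g hg]
        neg_mem' := fun {u} hu g hg => by simp [hu g hg] }
    have hyS : y ∉ S := fun h => hψ (h f hf)
    have hgood : ∀ x ∈ L1, x ∉ S →
        Ind (mu red) v' φ' (Lam red L1 (Yof (mu red) v') ⊔ UU ι V x) := by
      intro x _ hxS
      obtain ⟨g, hg, hgne⟩ : ∃ g ∈ UU ι V a, ψ (mu red x g) ≠ 0 := by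
        by_contra hcon
        push Not at hcon
        exact hxS hcon
      obtain ⟨m, hm⟩ : ∃ m, ψ (mu red x (Pi.single m (g m))) ≠ 0 := by
        by_contra hcon
        push Not at hcon
        exact hgne ((AddMonoidHom.mem_ker).mp (mu_mem_of_single (M := ψ.ker) hcon))
      obtain ⟨z, hz, hzne⟩ : ∃ z ∈ UL V x, ψ (mu red a (Pi.single m z)) ≠ 0 := by
        by_contra hcon
        push Not at hcon
        exact hm ((AddMonoidHom.mem_ker).mp (lemma_two red (N := ψ.ker)
          (fun w hw g => hψY _ (hV w hw g)) m hcon (mem_UU.mp hg m)))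
      exact ind_snoc hind (sup_le ((Lam_mono red L1 hYY).trans le_sup_left) (hUa.trans le_sup_left))
        (fun g hg => hψY _ (haK g hg)) (AddSubgroup.mem_sup_right (single_mem_UU hz m)) hzne
    intro x hx
    by_cases hxS : x ∈ S
    · have h1 : x + y ∉ S := fun h => hyS (by simpa using sub_mem h hxS)
      have := sub_mem
        (AddSubgroup.subset_closure (show x + y ∈ {x | x ∈ L1 ∧
          Ind (mu red) v' φ' (Lam red L1 (Yof (mu red) v') ⊔ UU ι V x)} from
            ⟨add_mem hx hy, hgood _ (add_mem hx hy) h1⟩))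
        (AddSubgroup.subset_closure (show y ∈ {x | x ∈ L1 ∧
          Ind (mu red) v' φ' (Lam red L1 (Yof (mu red) v') ⊔ UU ι V x)} from
            ⟨hy, hgood _ hy hyS⟩))
      simpa using this
    · exact AddSubgroup.subset_closure ⟨hx, hgood x hx hxS⟩
  have hmain : ∀ (j : ℕ) (v : Fin j → L) (φ : Fin j → ((∀ m, Q m) →+ ZMod p)), j + d = c →
      (∀ l, v l ∈ L1) → Tri (mu red) v φ →
      Ind (mu red) v φ (Lam red L1 (Yof (mu red) v)) →
      Nat.card (Total red L1) ≤ Nat.card (Yof (mu red) v) * p ^ T d := by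
    intro j v φ hjd hv htri hind
    set Y := Yof (mu red) v
    have hV : ∀ w ∈ Set.range v, ∀ f, mu red w f ∈ Y := by
      rintro _ ⟨l, rfl⟩ f
      exact le_iSup (fun l => (mu red (v l)).range) l ⟨f, rfl⟩
    by_cases hA : ∀ a ∈ L1, ∀ f ∈ UU ι (Set.range v) a, mu red a f ∈ Y
    · by_cases hB : ∀ b ∈ L1, ∀ f ∈ UU ι (Set.range v) b, ∀ y ∈ L1, mu red y f ∈ Y
      · exact hdone (finished red L1 F hF hF0 hFN hgen hker v hv hB)
      · push Not at hB
        obtain ⟨a, ha, f, hf, y, hy, hyf⟩ := hB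
        exact hzstep j v φ _ hjd hv htri hV hA a ha (hind.mono le_sup_left) f hf y hy hyf
    · push Not at hA
      obtain ⟨a, ha, f, hf, haf⟩ := hA
      obtain ⟨d', hd, hcard⟩ := step_bound red L1 hc hjd hv htri ha hind (fun g hg => hg a ha)
        (AddSubgroup.mem_sup_right ⟨f, rfl⟩) haf
      obtain ⟨ψ, hψY, hψ⟩ := exists_functional hQ Y haf
      set v' : Fin (j + 1) → L := Fin.snoc v a
      have hYY : Y ≤ Yof (mu red) v' := by rw [yof_snoc]; exact le_sup_left
      have hv' : ∀ l, v' l ∈ L1 := fun l => by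
        induction l using Fin.lastCases with
        | last => simpa [v'] using ha
        | cast l => simpa [v'] using hv l
      refine hrec hd ((ih d' (by omega)).1 (j + 1) v' (Fin.snoc φ ψ) (by omega) hv'
        (tri_snoc htri a hψY) (ind_snoc hind (Lam_mono red L1 hYY)
          (fun g hg => hψY _ (hg a ha)) (g := f) ?_ hψ)) hcard
      intro x _
      rw [yof_snoc]
      exact lemma_one red hV hf x
  refine ⟨hmain, fun j v φ V hjd hv htri hV halt hgood => ?_⟩
  set Y := Yof (mu red) v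
  set Good := {x | x ∈ L1 ∧ Ind (mu red) v φ (Lam red L1 Y ⊔ UU ι V x)}
  by_cases hA : ∀ a ∈ Good, ∀ f ∈ UU ι V a, ∀ y ∈ L1, mu red y f ∈ Y
  · rcases Good.eq_empty_or_nonempty with he | ⟨a, ha⟩
    · refine hdone (total_le fun x hx f => ?_)
      have := hgood hx
      rw [he, AddSubgroup.closure_empty, AddSubgroup.mem_bot] at this
      simp [this]
    · refine hmain j v φ hjd hv htri (ha.2.mono (sup_le le_rfl ?_))
      exact fun g hg y hy => hA a ha g hg y hy
  · push Not at hA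
    obtain ⟨a, ha, f, hf, y, hy, hyf⟩ := hA
    exact hzstep j v φ V hjd hv htri hV halt a ha.1 ha.2 f hf y hy hyf

/-- The breadth bound in a Lie ring. -/
theorem total_bound [∀ m, Finite (Q m)] (hQ : ∀ w : ∀ m, Q m, p • w = 0) (red : ∀ m, L →+ Q m)
    (L1 : AddSubgroup L) (F : ℕ → AddSubgroup L)
    (hF : ∀ n, ∀ y ∈ L1, ∀ z ∈ F n, ⁅y, z⁆ ∈ F (n + 1)) (hF0 : F 0 = ⊤) (hFN : ∃ N, F N = ⊥)
    (hgen : L1 ⊔ AddSubgroup.closure {w | ∃ y ∈ L1, ∃ z, w = ⁅y, z⁆} = ⊤)
    (hker : ∀ m, ∀ y z : L, red m z = 0 → red m ⁅y, z⁆ = 0)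
    {c : ℕ} (hc : ∀ y ∈ L1, Nat.card (mu red y).range ≤ p ^ c) :
    Nat.card (Total red L1) ≤ p ^ T c := by
  have := (states_bound hQ red L1 F hF hF0 hFN hgen hker hc c).1 0 Fin.elim0 Fin.elim0
    (zero_add c) (fun l => l.elim0) (fun i => i.elim0) (fun α _ => funext fun i => i.elim0)
  have e : Nat.card (Yof (mu red) (Fin.elim0 : Fin 0 → L)) = 1 := by
    rw [show Yof (mu red) (Fin.elim0 : Fin 0 → L) = ⊥ from iSup_of_empty _]
    exact AddSubgroup.card_bot
  rwa [e, one_mul] at this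

end Cfsg.Agent.Invol.Breadth
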