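import Mathlib

/-!
The factors `p ^ m A / p ^ (m + 1) A` of a finite abelian `p`-group, restricted to a subgroup.
-/

set_option autoImplicit false

namespace Cfsg.Agent.Invol.Breadth

theorem card_map_mul_card_inf_ker {A B : Type*} [AddCommGroup A] [AddCommGroup B]
    (f : A →+ B) (S : AddSubgroup A) :
    Nat.card (S.map f) * Nat.card (S ⊓ f.ker : AddSubgroup A) = Nat.card S := by
  rw [AddSubgroup.card_eq_card_quotient_mul_card_addSubgroup (f.comp S.subtype).ker,
    Nat.card_congr (QuotientAddGroup.quotientKerEquivRange (f.comp S.subtype)).toEquiv,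
    AddMonoidHom.range_comp, AddSubgroup.range_subtype]
  congr 1
  refine (Nat.card_congr ?_).symm
  exact
    { toFun := fun x => ⟨x.1.1, Set.mem_inter x.1.2 x.2⟩
      invFun := fun x => ⟨⟨x.1, x.2.1⟩, x.2.2⟩
      left_inv := fun _ => rfl
      right_inv := fun _ => rfl }

variable (p : ℕ) {A : Type*} [AddCommGroup A]

/-- The subgroup of multiples of `p ^ n`. -/
def pmul (A : Type*) [AddCommGroup A] (n : ℕ) : AddSubgroup A :=
  (nsmulAddMonoidHom (α := A) (p ^ n)).range

/-- `x ↦ p ^ m • x` modulo the multiples of `p ^ (m + 1)`. -/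
def gmap (A : Type*) [AddCommGroup A] (m : ℕ) : A →+ A ⧸ pmul p A (m + 1) :=
  (QuotientAddGroup.mk' (pmul p A (m + 1))).comp (nsmulAddMonoidHom (α := A) (p ^ m))

theorem gmap_eq_zero_iff (m : ℕ) (x : A) :
    gmap p A m x = 0 ↔ ∃ z : A, p ^ (m + 1) • z = p ^ m • x := by
  rw [gmap, AddMonoidHom.comp_apply, QuotientAddGroup.mk'_apply, QuotientAddGroup.eq_zero_iff]
  exact Iff.rfl

theorem gmap_p_torsion (m : ℕ) (q : (gmap p A m).range) : p • q = 0 := by
  obtain ⟨_, x, rfl⟩ := q
  refine Subtype.ext ?_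
  show p • gmap p A m x = 0
  rw [← map_nsmul, gmap_eq_zero_iff]
  exact ⟨x, by rw [smul_smul, ← pow_succ]⟩

theorem gmap_range_finite [Finite A] (m : ℕ) : Finite (gmap p A m).range := inferInstance

variable [Finite A]

/-- The images of `p ^ n •` on `S`. -/
theorem chain_step (S : AddSubgroup A) (n : ℕ) :
    Nat.card (S.map (gmap p A n)) * Nat.card
        (S.map (nsmulAddMonoidHom (α := A) (p ^ n)) ⊓ pmul p A (n + 1) : AddSubgroup A) =
      Nat.card (S.map (nsmulAddMonoidHom (α := A) (p ^ n))) := by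
  conv_rhs => rw [← card_map_mul_card_inf_ker (QuotientAddGroup.mk' (pmul p A (n + 1)))
    (S.map (nsmulAddMonoidHom (α := A) (p ^ n)))]
  rw [QuotientAddGroup.ker_mk', AddSubgroup.map_map]
  rfl

theorem prod_card_map_le (S : AddSubgroup A) (n : ℕ) :
    (∏ m ∈ Finset.range n, Nat.card (S.map (gmap p A m))) *
      Nat.card (S.map (nsmulAddMonoidHom (α := A) (p ^ n))) ≤ Nat.card S := by
  induction n with
  | zero =>
    rw [Finset.prod_range_zero, one_mul]
    exact le_of_eq (congrArg (fun T : AddSubgroup A => Nat.card T) (by ext; simp))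
  | succ n ih =>
    refine le_trans ?_ ih
    rw [Finset.prod_range_succ, mul_assoc, ← chain_step p S n]
    refine Nat.mul_le_mul_left _ (Nat.mul_le_mul_left _ (AddSubgroup.card_le_of_le ?_))
    rintro _ ⟨s, hs, rfl⟩
    refine AddSubgroup.mem_inf.mpr ⟨⟨p • s, S.nsmul_mem hs p, ?_⟩, ⟨s, rfl⟩⟩
    simp [smul_smul, pow_succ]

theorem le_prod_card_map (S : AddSubgroup A)
    (hS : ∀ (m : ℕ), ∀ s ∈ S, ∀ z : A, p ^ (m + 1) • z = p ^ m • s →
      ∃ s' ∈ S, p ^ (m + 1) • s' = p ^ m • s) (n : ℕ) :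
    Nat.card S ≤ (∏ m ∈ Finset.range n, Nat.card (S.map (gmap p A m))) *
      Nat.card (S.map (nsmulAddMonoidHom (α := A) (p ^ n))) := by
  induction n with
  | zero =>
    rw [Finset.prod_range_zero, one_mul]
    exact le_of_eq (congrArg (fun T : AddSubgroup A => Nat.card T) (by ext; simp))
  | succ n ih =>
    refine le_trans ih ?_
    rw [Finset.prod_range_succ, mul_assoc, ← chain_step p S n]
    refine Nat.mul_le_mul_left _ (Nat.mul_le_mul_left _ (AddSubgroup.card_le_of_le ?_))
    rintro x hx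
    obtain ⟨⟨s, hs, rfl⟩, z, hz⟩ := AddSubgroup.mem_inf.mp hx
    obtain ⟨s', hs', e⟩ := hS n s hs z hz
    exact ⟨s', hs', e⟩

theorem map_pow_eq_bot {e : ℕ} (he : ∀ x : A, p ^ e • x = 0) (S : AddSubgroup A) :
    S.map (nsmulAddMonoidHom (α := A) (p ^ e)) = ⊥ := by
  rw [eq_bot_iff]
  rintro _ ⟨s, -, rfl⟩
  exact he s

theorem card_map_rangeRestrict {B : Type*} [AddCommGroup B] (f : A →+ B) (S : AddSubgroup A) :
    Nat.card (S.map f.rangeRestrict) = Nat.card (S.map f) := by
  rw [Nat.card_congr (AddSubgroup.equivMapOfInjective (S.map f.rangeRestrict) f.range.subtype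
    f.range.subtype_injective).toEquiv, AddSubgroup.map_map]
  rfl

theorem card_pi_subgroup {ι : Type*} [Fintype ι] {Q : ι → Type*} [∀ m, AddCommGroup (Q m)]
    (H : ∀ m, AddSubgroup (Q m)) :
    Nat.card (AddSubgroup.pi Set.univ H) = ∏ m, Nat.card (H m) := by
  rw [← Nat.card_pi]
  exact Nat.card_congr
    { toFun := fun x m => ⟨x.1 m, x.2 m (Set.mem_univ m)⟩
      invFun := fun x => ⟨fun m => (x m).1, fun m _ => (x m).2⟩
      left_inv := fun _ => rfl
      right_inv := fun _ => rfl }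

end Cfsg.Agent.Invol.Breadth
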