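import Mathlib
import Cfsg.Agent.Lib.Grp.AssocLie
import Cfsg.Agent.Lib.Invol.BreadthCore
import Cfsg.Agent.Lib.Invol.BreadthPowers

/-!
Vaughan-Lee's bound on the order of the derived subgroup of a `p`-group in terms of its breadth.
-/

set_option autoImplicit false

namespace Cfsg.Agent.Invol.Breadth

open AssocLie
open scoped commutatorElement

universe u

variable {G : Type u} [Group G]

/-- The part of the Lie ring spanned by the elements of `H` in degree at least `n`. -/
def gr (H : Subgroup G) (n : ℕ) : AddSubgroup (L G) :=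
  AddSubgroup.closure {x | ∃ k h, n ≤ k ∧ h ∈ H ∧ h ∈ lcs G k ∧ x = cls k h}

theorem cls_mem_gr {H : Subgroup G} {n k : ℕ} {h : G} (hk : n ≤ k) (hh : h ∈ H) (hl : h ∈ lcs G k) :
    cls k h ∈ gr H n :=
  AddSubgroup.subset_closure ⟨k, h, hk, hh, hl, rfl⟩

/-- Projection on one degree. -/
noncomputable def ev (n : ℕ) : L G →+ Additive (Gr G n) :=
  DFinsupp.evalAddMonoidHom (β := fun i => Additive (Gr G i)) n

theorem ev_cls_of_ne {n k : ℕ} (h : k ≠ n) (g : G) (hg : g ∈ lcs G k) : ev n (cls k g) = 0 := by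
  rw [cls_of hg]
  exact DirectSum.of_eq_of_ne _ _ _ h.symm

theorem of_ev_cls {n : ℕ} {g : G} (hg : g ∈ lcs G n) :
    DirectSum.of (fun i => Additive (Gr G i)) n (ev n (cls n g)) = cls n g := by
  rw [cls_of hg]
  exact congrArg _ (DirectSum.of_eq_same _ _)

theorem ev_gr {H : Subgroup G} {n k : ℕ} (hk : k < n) {x : L G} (hx : x ∈ gr H n) :
    ev k x = 0 := by
  induction hx using AddSubgroup.closure_induction with
  | mem x hx =>
    obtain ⟨i, h, hi, -, hl, rfl⟩ := hx
    exact ev_cls_of_ne (by omega) h hl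
  | zero => exact map_zero _
  | add a b _ _ ha hb => rw [map_add, ha, hb, add_zero]
  | neg a _ ha => rw [map_neg, ha, neg_zero]

/-- The class map on `H ⊓ lcs G n`. -/
noncomputable def clsHom (H : Subgroup G) (n : ℕ) : Additive (H ⊓ lcs G n : Subgroup G) →+ L G :=
  AddMonoidHom.mk' (fun x => cls n ((Additive.toMul x : (H ⊓ lcs G n : Subgroup G)) : G))
    fun x y => cls_mul (Additive.toMul x).2.2 (Additive.toMul y).2.2

theorem gr_succ_sup (H : Subgroup G) (n : ℕ) : gr H n = (clsHom H n).range ⊔ gr H (n + 1) := by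
  refine le_antisymm ((AddSubgroup.closure_le _).mpr ?_) (sup_le ?_ (AddSubgroup.closure_mono ?_))
  · rintro _ ⟨k, h, hk, hh, hl, rfl⟩
    rcases eq_or_lt_of_le hk with rfl | hlt
    · exact AddSubgroup.mem_sup_left ⟨Additive.ofMul ⟨h, hh, hl⟩, rfl⟩
    · exact AddSubgroup.mem_sup_right (cls_mem_gr hlt hh hl)
  · rintro _ ⟨x, rfl⟩
    exact cls_mem_gr le_rfl (Additive.toMul x).2.1 (Additive.toMul x).2.2
  · rintro x ⟨k, h, hk, hh, hl, rfl⟩
    exact ⟨k, h, by omega, hh, hl, rfl⟩

theorem clsHom_range_inf (H : Subgroup G) (n : ℕ) : (clsHom H n).range ⊓ gr H (n + 1) = ⊥ := by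
  rw [eq_bot_iff]
  intro x hx
  obtain ⟨⟨y, rfl⟩, hx2⟩ := AddSubgroup.mem_inf.mp hx
  have h0 := ev_gr (Nat.lt_succ_self n) hx2
  rw [AddSubgroup.mem_bot]
  show cls n ((Additive.toMul y : (H ⊓ lcs G n : Subgroup G)) : G) = 0
  rw [← of_ev_cls (Additive.toMul y).2.2]
  exact (congrArg _ h0).trans (map_zero _)

theorem clsHom_ker_card (H : Subgroup G) (n : ℕ) :
    Nat.card (clsHom H n).ker = Nat.card (H ⊓ lcs G (n + 1) : Subgroup G) :=
  Nat.card_congr
    { toFun := fun x => ⟨(Additive.toMul x.1 : (H ⊓ lcs G n : Subgroup G)),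
        (Additive.toMul x.1).2.1, (cls_eq_zero_iff (Additive.toMul x.1).2.2).mp x.2⟩
      invFun := fun x => ⟨Additive.ofMul ⟨x.1, x.2.1, lcs_le (Nat.le_succ n) x.2.2⟩,
        cls_eq_zero x.2.2⟩
      left_inv := fun _ => rfl
      right_inv := fun _ => rfl }

theorem card_sup_of_inf {A : Type*} [AddCommGroup A] {X Y : AddSubgroup A} (h : X ⊓ Y = ⊥) :
    Nat.card (X ⊔ Y : AddSubgroup A) = Nat.card X * Nat.card Y := by
  rw [← Nat.card_prod]
  refine (Nat.card_congr (Equiv.ofBijective (fun x : X × Y =>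
    (⟨x.1 + x.2, add_mem (AddSubgroup.mem_sup_left x.1.2) (AddSubgroup.mem_sup_right x.2.2)⟩ :
      (X ⊔ Y : AddSubgroup A))) ⟨fun x y hxy => ?_, fun z => ?_⟩)).symm
  · have h1 : (x.1 : A) + x.2 = y.1 + y.2 := congrArg Subtype.val hxy
    have h2 : (x.1 : A) - y.1 = y.2 - x.2 := by linear_combination (norm := abel) h1
    have h3 : (x.1 : A) - y.1 ∈ (X ⊓ Y : AddSubgroup A) :=
      AddSubgroup.mem_inf.mpr ⟨sub_mem x.1.2 y.1.2, h2 ▸ sub_mem y.2.2 x.2.2⟩
    rw [h, AddSubgroup.mem_bot] at h3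
    rw [h3, eq_comm, sub_eq_zero] at h2
    exact Prod.ext (Subtype.ext (sub_eq_zero.mp h3)) (Subtype.ext h2.symm)
  · obtain ⟨a, ha, b, hb, e⟩ := AddSubgroup.mem_sup.mp z.2
    exact ⟨(⟨a, ha⟩, ⟨b, hb⟩), Subtype.ext e⟩

theorem gr_card [Finite G] {N : ℕ} (hN : lcs G N = ⊥) (H : Subgroup G) (n : ℕ) :
    Nat.card (gr H n) = Nat.card (H ⊓ lcs G n : Subgroup G) := by
  suffices ∀ d n, N ≤ n + d → Nat.card (gr H n) = Nat.card (H ⊓ lcs G n : Subgroup G) from
    this N n (Nat.le_add_left N n)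
  intro d
  induction d with
  | zero =>
    intro n hn
    have hb : lcs G n = ⊥ := le_bot_iff.mp ((lcs_le (by omega : N ≤ n)).trans hN.le)
    rw [hb, inf_bot_eq, Subgroup.card_bot]
    have : gr H n = ⊥ := by
      rw [eq_bot_iff]
      refine (AddSubgroup.closure_le _).mpr ?_
      rintro _ ⟨k, h, hk, -, hl, rfl⟩
      have h1 : h = 1 := Subgroup.mem_bot.mp (hb ▸ lcs_le hk hl)
      simp [h1, cls_one]
    rw [this, AddSubgroup.card_bot]
  | succ d ih =>
    intro n hn
    rw [gr_succ_sup, card_sup_of_inf (clsHom_range_inf H n), ih (n + 1) (by omega),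
      ← clsHom_ker_card, ← Nat.card_congr (QuotientAddGroup.quotientKerEquivRange (clsHom H n)).toEquiv,
      ← AddSubgroup.card_eq_card_quotient_mul_card_addSubgroup]
    exact Nat.card_congr Additive.toMul

theorem gr_top_zero : gr (⊤ : Subgroup G) 0 = ⊤ := by
  rw [eq_top_iff]
  intro x _
  induction x using induction_cls with
  | h0 => exact zero_mem _
  | hadd u v hu hv => exact add_mem (hu (AddSubgroup.mem_top _)) (hv (AddSubgroup.mem_top _))
  | hcls i a ha => exact cls_mem_gr (Nat.zero_le i) (Subgroup.mem_top a) ha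

/-- The degree zero part. -/
noncomputable def deg0 (G : Type u) [Group G] : AddSubgroup (L G) :=
  (DirectSum.of (fun i => Additive (Gr G i)) 0).range

theorem cls_zero_mem_deg0 (g : G) : cls 0 g ∈ deg0 G := by
  rw [cls_of (show g ∈ lcs G 0 from Subgroup.mem_top g)]
  exact ⟨_, rfl⟩

theorem exists_cls_zero {y : L G} (hy : y ∈ deg0 G) : ∃ g : G, y = cls 0 g := by
  obtain ⟨z, rfl⟩ := hy
  obtain ⟨a, ha⟩ := QuotientGroup.mk_surjective (Additive.toMul z)
  refine ⟨a, ?_⟩
  rw [cls_of a.2]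
  exact congrArg _ (by rw [ha]; rfl)

theorem lie_deg0_mem_gr {H : Subgroup G} (hH : H = ⊤) {n : ℕ} {y z : L G} (hy : y ∈ deg0 G)
    (hz : z ∈ gr H n) : ⁅y, z⁆ ∈ gr H (n + 1) := by
  obtain ⟨g, rfl⟩ := exists_cls_zero hy
  induction hz using AddSubgroup.closure_induction with
  | mem x hx =>
    obtain ⟨k, h, hk, -, hl, rfl⟩ := hx
    rw [bracket_cls (show g ∈ lcs G 0 from Subgroup.mem_top g) hl]
    exact cls_mem_gr (by omega) (by simp [hH]) (comm_mem (Subgroup.mem_top g) hl)
  | zero => rw [lie_zero]; exact zero_mem _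
  | add a b _ _ ha hb => rw [lie_add]; exact add_mem ha hb
  | neg a _ ha => rw [lie_neg]; exact neg_mem ha

/-- The brackets with the degree zero part. -/
def Br (G : Type u) [Group G] : Set (L G) := {w | ∃ y ∈ deg0 G, ∃ z, w = ⁅y, z⁆}

theorem cls_succ_mem (k : ℕ) {a : G} (ha : a ∈ lcs G (k + 1)) :
    cls (k + 1) a ∈ AddSubgroup.closure (Br G) := by
  have ha' : a ∈ Subgroup.closure {g | ∃ g₁ ∈ lcs G k, ∃ g₂ ∈ (⊤ : Subgroup G), ⁅g₁, g₂⁆ = g} := ha
  suffices a ∈ lcs G (k + 1) ∧ cls (k + 1) a ∈ AddSubgroup.closure (Br G) from this.2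
  clear ha
  induction ha' using Subgroup.closure_induction with
  | mem g hg =>
    obtain ⟨g₁, h1, g₂, h2, rfl⟩ := hg
    refine ⟨Subgroup.commutator_mem_commutator h1 h2, ?_⟩
    have e := bracket_cls h1 (show g₂ ∈ lcs G 0 from h2)
    rw [show k + 0 + 1 = k + 1 by omega, ← lie_skew] at e
    rw [← e]
    exact neg_mem (AddSubgroup.subset_closure ⟨_, cls_zero_mem_deg0 g₂, _, rfl⟩)
  | one => exact ⟨one_mem _, by rw [cls_one]; exact zero_mem _⟩
  | mul a b _ _ ha hb =>
    exact ⟨mul_mem ha.1 hb.1, by rw [cls_mul ha.1 hb.1]; exact add_mem ha.2 hb.2⟩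
  | inv a _ ha => exact ⟨inv_mem ha.1, by rw [cls_inv ha.1]; exact neg_mem ha.2⟩

theorem gr_one_le : gr (⊤ : Subgroup G) 1 ≤ AddSubgroup.closure (Br G) := by
  refine (AddSubgroup.closure_le _).mpr ?_
  rintro _ ⟨k, h, hk, -, hl, rfl⟩
  obtain ⟨k', rfl⟩ : ∃ k', k = k' + 1 := ⟨k - 1, by omega⟩
  exact cls_succ_mem k' hl

theorem deg0_sup_Br : deg0 G ⊔ AddSubgroup.closure (Br G) = ⊤ := by
  rw [eq_top_iff]
  intro x _
  induction x using induction_cls with
  | h0 => exact zero_mem _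
  | hadd u v hu hv => exact add_mem (hu (AddSubgroup.mem_top _)) (hv (AddSubgroup.mem_top _))
  | hcls i a ha =>
    rcases i with _ | k
    · exact AddSubgroup.mem_sup_left (cls_zero_mem_deg0 a)
    · exact AddSubgroup.mem_sup_right (cls_succ_mem k ha)

/-- The retraction on the part of positive degree. -/
noncomputable def retr (G : Type u) [Group G] : L G →+ L G :=
  AddMonoidHom.id (L G) - (DirectSum.of (fun i => Additive (Gr G i)) 0).comp (ev 0)

theorem retr_mem (x : L G) : retr G x ∈ gr (⊤ : Subgroup G) 1 := by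
  induction x using induction_cls with
  | h0 => rw [map_zero]; exact zero_mem _
  | hadd u v hu hv => rw [map_add]; exact add_mem hu hv
  | hcls i a ha =>
    show cls i a - DirectSum.of (fun i => Additive (Gr G i)) 0 (ev 0 (cls i a)) ∈ _
    rcases i with _ | k
    · rw [of_ev_cls ha, sub_self]; exact zero_mem _
    · rw [ev_cls_of_ne (by omega) a ha, map_zero, sub_zero]
      exact cls_mem_gr (by omega) (Subgroup.mem_top a) ha

theorem retr_fix {x : L G} (hx : x ∈ gr (⊤ : Subgroup G) 1) : retr G x = x := by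
  show x - DirectSum.of (fun i => Additive (Gr G i)) 0 (ev 0 x) = x
  rw [ev_gr Nat.zero_lt_one hx, map_zero, sub_zero]

theorem centralizer_le_ker (g : G) : ∀ z ∈ gr (Subgroup.centralizer ({g} : Set G)) 0,
    ⁅cls 0 g, z⁆ = (0 : L G) := by
  intro z hz
  induction hz using AddSubgroup.closure_induction with
  | mem x hx =>
    obtain ⟨k, h, -, hh, hl, rfl⟩ := hx
    rw [bracket_cls (show g ∈ lcs G 0 from Subgroup.mem_top g) hl,
      commutatorElement_eq_one_iff_mul_comm.mpr (Subgroup.mem_centralizer_singleton_iff.mp hh).symm,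
      cls_one]
  | zero => exact lie_zero _
  | add a b _ _ ha hb => rw [lie_add, ha, hb, add_zero]
  | neg a _ ha => rw [lie_neg, ha, neg_zero]

/-- Vaughan-Lee's theorem. -/
theorem commutator_card_le [Finite G] {p : ℕ} [hp : Fact p.Prime] (hG : IsPGroup p G) (b : ℕ)
    (hb : ∀ x : G, (Subgroup.centralizer ({x} : Set G)).index ≤ p ^ b) :
    Nat.card (commutator G) ≤ p ^ T b := by
  classical
  haveI := hG.isNilpotent
  obtain ⟨N, hN⟩ := Subgroup.nilpotent_iff_lowerCentralSeries.mp (inferInstance : Group.IsNilpotent G)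
  obtain ⟨e, he⟩ := IsPGroup.iff_card.mp hG
  have hL : Nat.card (L G) = Nat.card G := by
    have h := gr_card hN (⊤ : Subgroup G) 0
    rw [gr_top_zero, AddSubgroup.card_top,
      show (⊤ : Subgroup G) ⊓ lcs G 0 = ⊤ from top_inf_eq _, Subgroup.card_top] at h
    exact h
  haveI : Finite (L G) := Nat.finite_of_card_ne_zero (hL ▸ Nat.card_pos.ne')
  have hpe : ∀ x : L G, p ^ e • x = 0 := fun x => by rw [← he, ← hL]; exact card_nsmul_eq_zero'
  set Q : Fin e → Type _ := fun m => (gmap p (L G) (m : ℕ)).range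
  letI iQ : ∀ m, AddCommGroup (Q m) := fun m => inferInstanceAs (AddCommGroup (gmap p (L G) (m : ℕ)).range)
  haveI : ∀ m, Finite (Q m) := fun m => gmap_range_finite p (m : ℕ)
  set red : ∀ m, L G →+ Q m := fun m => (gmap p (L G) (m : ℕ)).rangeRestrict
  have hker : ∀ m, ∀ y z : L G, red m z = 0 → red m ⁅y, z⁆ = 0 := by
    intro m y z hz
    have h1 : gmap p (L G) m z = 0 := congrArg Subtype.val hz
    obtain ⟨w, hw⟩ := (gmap_eq_zero_iff p m z).mp h1
    refine Subtype.ext ((gmap_eq_zero_iff p m _).mpr ⟨⁅y, w⁆, ?_⟩)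
    rw [← lie_nsmul, hw, lie_nsmul]
  have hc : ∀ y ∈ deg0 G, Nat.card (mu red y).range ≤ p ^ b := by
    intro y hy
    obtain ⟨g, rfl⟩ := exists_cls_zero hy
    set ad : L G →+ L G := AddMonoidHom.mk' (fun z => ⁅cls 0 g, z⁆) (lie_add (cls 0 g))
    have h1 : Nat.card ad.range ≤ p ^ b := by
      set C := Subgroup.centralizer ({g} : Set G)
      have hkc : Nat.card C ≤ Nat.card ad.ker := by
        have h := gr_card hN C 0
        rw [show C ⊓ lcs G 0 = C from inf_top_eq _] at h
        rw [← h]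
        exact AddSubgroup.card_le_of_le fun z hz => centralizer_le_ker g z hz
      have h2 : Nat.card ad.range * Nat.card ad.ker = C.index * Nat.card C := by
        rw [C.index_mul_card, ← hL, AddSubgroup.card_eq_card_quotient_mul_card_addSubgroup ad.ker,
          Nat.card_congr (QuotientAddGroup.quotientKerEquivRange ad).toEquiv]
      refine le_trans ?_ (hb g)
      refine Nat.le_of_mul_le_mul_right ?_ (Nat.card_pos (α := C))
      exact le_trans (Nat.mul_le_mul_left _ hkc) h2.le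
    refine le_trans ?_ h1
    have h3 : (mu red (cls 0 g)).range ≤
        AddSubgroup.pi Set.univ fun m => ad.range.map (red m) := by
      rintro _ ⟨f, rfl⟩ m -
      exact ⟨⁅cls 0 g, f m⁆, ⟨f m, rfl⟩, rfl⟩
    refine (AddSubgroup.card_le_of_le h3).trans ?_
    rw [card_pi_subgroup]
    have h4 := prod_card_map_le p ad.range e
    rw [map_pow_eq_bot p hpe, AddSubgroup.card_bot, mul_one, ← Fin.prod_univ_eq_prod_range] at h4
    refine le_trans (le_of_eq (Finset.prod_congr rfl fun m _ => ?_)) h4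
    exact card_map_rangeRestrict _ _
  have hQ : ∀ w : ∀ m, Q m, p • w = 0 := fun w => funext fun m => gmap_p_torsion p (m : ℕ) (w m)
  have hbot : gr (⊤ : Subgroup G) N = ⊥ := by
    refine AddSubgroup.card_eq_one.mp ?_
    rw [gr_card hN, top_inf_eq, show lcs G N = ⊥ from hN, Subgroup.card_bot]
  have htot := total_bound hQ red (deg0 G)
    (fun n => gr (⊤ : Subgroup G) n) (fun n y hy z hz => lie_deg0_mem_gr rfl hy hz) gr_top_zero
    ⟨N, hbot⟩
    deg0_sup_Br hker hc
  refine le_trans ?_ htot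
  set F1 := gr (⊤ : Subgroup G) 1
  have hF1 : Nat.card F1 = Nat.card (commutator G) := by
    rw [gr_card hN, top_inf_eq, commutator_def]
    rfl
  rw [← hF1]
  have h5 := le_prod_card_map p F1 (fun m s hs z hz => ⟨retr G z, retr_mem z, by
    rw [← map_nsmul, hz, map_nsmul, retr_fix hs]⟩) e
  rw [map_pow_eq_bot p hpe, AddSubgroup.card_bot, mul_one, ← Fin.prod_univ_eq_prod_range] at h5
  refine h5.trans ?_
  refine (le_of_eq (Finset.prod_congr rfl
    (fun (m : Fin e) _ => (card_map_rangeRestrict (gmap p (L G) (m : ℕ)) F1).symm))).trans ?_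
  refine (le_of_eq (card_pi_subgroup (Q := Q) fun m => F1.map (red m)).symm).trans
    (AddSubgroup.card_le_of_le fun x hx => ?_)
  rw [← Finset.univ_sum_single x]
  refine sum_mem fun m _ => ?_
  obtain ⟨w, hw, hwe⟩ := hx m (Set.mem_univ m)
  rw [← hwe]
  suffices ∀ w ∈ AddSubgroup.closure (Br G), Pi.single m (red m w) ∈ Total red (deg0 G) from
    this w (gr_one_le hw)
  intro w hw
  induction hw using AddSubgroup.closure_induction with
  | mem x hx =>
    obtain ⟨y, hy, z, rfl⟩ := hx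
    rw [← mu_single]
    exact mem_total hy _
  | zero => rw [map_zero, Pi.single_zero]; exact zero_mem _
  | add a b _ _ ha hb => rw [map_add, Pi.single_add]; exact add_mem ha hb
  | neg a _ ha => rw [map_neg, Pi.single_neg]; exact neg_mem ha

end Cfsg.Agent.Invol.Breadth
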