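import Mathlib
import Cfsg.Prelude
import Cfsg.Agent.Lib.Char.Kernel
import Cfsg.Agent.Lib.Char.Average
import Cfsg.Agent.Lib.Char.Quotient
import Cfsg.Agent.Lib.Char.InductionRing
import Cfsg.Agent.Lib.Grp.Coprime
import Cfsg.Agent.Lib.Grp.Cores
import Cfsg.Agent.Lib.Grp.Solvable

/-!
An irreducible character whose kernel is not in the Fitting subgroup is beaten in degree by one with
a smaller kernel (Broline, Garrison); the nilpotent length is bounded by the number of degrees.
-/

set_option autoImplicit false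

open Cfsg
open scoped Pointwise

namespace Cfsg.Agent.Invol.BG

open Cfsg.Agent.Char Cfsg.Agent.Grp

universe u

variable {G : Type u} [Group G]

theorem res_irr [Fintype G] {φ : G → ℂ} (hφ : IsIrrCharacter G φ) (K H : Subgroup G) [K.Normal]
    (hker : ∀ k ∈ K, φ k = φ 1) (hKH : K ⊔ H = ⊤) :
    IsIrrCharacter H (fun h : H => φ h) := by
  obtain ⟨ψ, hψ, hψe⟩ := IsIrr.exists_factor_quotient hφ K hker
  have hsurj : Function.Surjective ((QuotientGroup.mk' K).comp H.subtype) := by
    intro q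
    obtain ⟨g, rfl⟩ := QuotientGroup.mk'_surjective K q
    obtain ⟨k, hk, h, hh, rfl⟩ := Subgroup.mem_sup_of_normal_left.mp (hKH ▸ Subgroup.mem_top g)
    refine ⟨⟨h, hh⟩, ?_⟩
    show QuotientGroup.mk' K h = _
    rw [map_mul, show QuotientGroup.mk' K k = 1 from (QuotientGroup.eq_one_iff k).mpr hk, one_mul]
  have := IsIrr.comp_surjective _ hsurj hψ
  have he : (fun h : H => φ h) = fun h : H => ψ (((QuotientGroup.mk' K).comp H.subtype) h) :=
    funext fun h => (hψe h).symm
  rw [he]
  exact this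

theorem mem_normalCore_of_perm_eq [Fintype G] (H : Subgroup G) {g : G}
    (h : indFun H (fun _ : H => (1 : ℂ)) g = H.index) : g ∈ H.normalCore := by
  classical
  have hH : (Nat.card H : ℂ) ≠ 0 := Nat.cast_ne_zero.mpr Nat.card_pos.ne'
  have hval : ∀ x : G, extendByZero H (fun _ : H => (1 : ℂ)) (x⁻¹ * g * x) =
      if x⁻¹ * g * x ∈ H then 1 else 0 := fun x => by
    by_cases hx : x⁻¹ * g * x ∈ H
    · rw [extendByZero_of_mem _ hx, if_pos hx]
    · rw [extendByZero_not_mem _ hx, if_neg hx]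
  rw [indFun, inv_mul_eq_iff_eq_mul₀ hH] at h
  simp only [hval, Finset.sum_boole] at h
  have hc : (Finset.univ.filter fun x : G => x⁻¹ * g * x ∈ H).card = Nat.card G := by
    rw [← H.card_mul_index]
    exact_mod_cast h
  rw [Nat.card_eq_fintype_card] at hc
  have hall := Finset.eq_univ_of_card _ hc
  intro b
  have := Finset.mem_filter.mp (hall ▸ Finset.mem_univ b⁻¹)
  simpa using this.2

theorem indFun_res_eq [Fintype G] (H : Subgroup G) {χ : G → ℂ} (hχ : IsClassFunction G χ) :
    indFun H (fun h : H => χ h) = χ * indFun H (fun _ : H => (1 : ℂ)) := by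
  rw [Brauer.mul_indFun H _ hχ]
  congr 1
  funext h
  simp

/-- A Sylow subgroup of a subgroup absorbs the prime-power elements of the subgroup normalising
it. -/
theorem mem_of_normalize [Finite G] {p : ℕ} [Fact p.Prime] {M P : Subgroup G}
    (hP : IsSylowIn p P M) {x : G} (hxM : x ∈ M) (hxN : x ∈ Subgroup.normalizer (P : Set G))
    (hx : IsPGroup p (Subgroup.zpowers x)) : x ∈ P := by
  have hle : Subgroup.zpowers x ≤ Subgroup.normalizer (P : Set G) :=
    Subgroup.zpowers_le.mpr hxN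
  have heq := hP.eq_of_le le_sup_right (sup_le (Subgroup.zpowers_le.mpr hxM) hP.1)
    (IsPGroup.to_sup_of_normal_right' hx hP.2.1 hle)
  rw [heq]
  exact le_sup_left (a := Subgroup.zpowers x) (Subgroup.mem_zpowers x)

theorem zpowers_isPGroup {p : ℕ} {P : Subgroup G} (hP : IsPGroup p P) {x : G} (hx : x ∈ P) :
    IsPGroup p (Subgroup.zpowers x) :=
  hP.to_le (Subgroup.zpowers_le.mpr hx)

/-- The part of a Sylow subgroup of `M` in a normal subgroup normalising it is normal. -/
theorem inf_normal [Finite G] {p : ℕ} [Fact p.Prime] {M P D : Subgroup G} [D.Normal]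
    (hP : IsSylowIn p P M) (hDM : D ≤ M) (hD : D ≤ Subgroup.normalizer (P : Set G)) :
    (P ⊓ D).Normal := by
  refine ⟨fun x hx g => ?_⟩
  obtain ⟨hxP, hxD⟩ := Subgroup.mem_inf.mp hx
  have hc : g * x * g⁻¹ ∈ D := Subgroup.Normal.conj_mem ‹_› x hxD g
  refine Subgroup.mem_inf.mpr ⟨mem_of_normalize hP (hDM hc) (hD hc) ?_, hc⟩
  have h1 := (zpowers_isPGroup hP.2.1 hxP).map (MulAut.conj g).toMonoidHom
  rw [MonoidHom.map_zpowers] at h1
  exact h1

theorem not_le_core [Finite G] {p : ℕ} [Fact p.Prime] {M P : Subgroup G} [M.Normal]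
    (hP : IsSylowIn p P M) (hPn : ¬ P.Normal) :
    ¬ P ≤ (Subgroup.normalizer (P : Set G)).normalCore := fun hle => by
  set H := Subgroup.normalizer (P : Set G)
  have h := inf_normal hP (inf_le_right : H.normalCore ⊓ M ≤ M)
    (inf_le_left.trans H.normalCore_le)
  rw [inf_eq_left.mpr (le_inf hle hP.1)] at h
  exact hPn h

/-- The heart of the matter. -/
theorem exists_larger [Fintype G] {χ : G → ℂ} (hχ : IsIrrCharacter G χ) (K : Subgroup G) [K.Normal]
    (hK : ∀ g : G, g ∈ K ↔ χ g = χ 1) (M : Subgroup G) [M.Normal] {p : ℕ} [hp : Fact p.Prime]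
    (P : Subgroup G) (hP : IsSylowIn p P M) (hKM : K ≤ M) (hMKP : M ≤ K ⊔ P)
    (hx : ∃ x ∈ P, x ∉ (Subgroup.normalizer (P : Set G)).normalCore ∧ χ x ≠ 0) :
    ∃ ψ : G → ℂ, IsIrrCharacter G ψ ∧ charDegree χ < charDegree ψ ∧
      ∃ L : Subgroup G, (∀ g : G, g ∈ L ↔ ψ g = ψ 1) ∧ L < K := by
  classical
  set H := Subgroup.normalizer (P : Set G) with hHdef
  have hPH : P ≤ H := Subgroup.le_normalizer
  have hKH : K ⊔ H = ⊤ := by
    obtain ⟨S, hS⟩ := isSylowIn_iff.mp hP
    have h1 := Sylow.normalizer_sup_eq_top S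
    rw [hS] at h1
    refine top_le_iff.mp (h1 ▸ sup_le le_sup_right ?_)
    exact hMKP.trans (sup_le le_sup_left (hPH.trans le_sup_right))
  haveI : Fintype H := Fintype.ofFinite H
  have hcχ := IsIrr.isCharacter hχ
  set θ : H → ℂ := fun h => χ h with hθ
  have hθi : IsIrrCharacter H θ := res_irr hχ K H (fun k hk => (hK k).mp hk) hKH
  have hθ1 : θ 1 = χ 1 := by simp [hθ]
  -- a constituent of larger degree
  obtain ⟨ψ, hψ, hψc, hlt⟩ : ∃ ψ : G → ℂ, IsIrrCharacter G ψ ∧
      classInner (fun h : H => ψ h) θ ≠ 0 ∧ charDegree χ < charDegree ψ := by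
    by_contra hno
    push Not at hno
    obtain ⟨a, ha, hdec⟩ := IsChar.exists_decomp_inner
      (isCharacter_indFun H (IsIrr.isCharacter hθi))
    have hres : ∀ φ : IrrCharacter G, a φ ≠ 0 → ∀ h : H, (φ : G → ℂ) h = χ h := by
      intro φ hφ
      have hne : classInner (fun h : H => (φ : G → ℂ) h) θ ≠ 0 := by
        rw [← classInner_conj_symm, ← classInner_indFun H θ (IsIrr.classFun φ.2), ha φ,
          map_natCast]
        exact Nat.cast_ne_zero.mpr hφ
      have hcr := IsChar.res (IsIrr.isCharacter φ.2) H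
      have hle := hno φ φ.2 hne
      obtain ⟨n, hn⟩ := IsChar.one_eq_nat (IsIrr.isCharacter φ.2)
      obtain ⟨m, hm⟩ := IsChar.one_eq_nat hcχ
      have hge : m ≤ n := degree_le_of_constituent hcr hθi hne (by simpa using hn)
        (by rw [hθ1]; exact hm)
      simp only [charDegree, hn, hm, Complex.natCast_re, Nat.floor_natCast] at hle
      have hnm : n = m := le_antisymm hle hge
      have := eq_of_constituent_degree hcr hθi hne (by rw [hθ1, hm]; simp [hn, hnm])
      exact fun h => congrFun this h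
    have hind : ∀ h : H, indFun H θ h = (∑ φ : IrrCharacter G, (a φ : ℂ)) * χ h := by
      intro h
      rw [hdec, sum_irr_apply, Finset.sum_mul]
      refine Finset.sum_congr rfl fun φ _ => ?_
      rcases eq_or_ne (a φ) 0 with h0 | h0
      · simp [h0]
      · rw [hres φ h0 h]
    have hsum : ∑ φ : IrrCharacter G, (a φ : ℂ) = H.index := by
      have h1 := hind 1
      rw [Subgroup.coe_one, indFun_one_eq, hθ1] at h1
      exact (mul_right_cancel₀ (IsIrr.one_ne_zero hχ) h1).symm
    obtain ⟨x, hxP, hxc, hx0⟩ := hx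
    refine hxc (mem_normalCore_of_perm_eq H (mul_left_cancel₀ hx0 ?_))
    have h1 := hind ⟨x, hPH hxP⟩
    rw [hsum, hθ, indFun_res_eq H (IsIrr.classFun hχ), Pi.mul_apply] at h1
    rw [h1, mul_comm]
  refine ⟨ψ, hψ, hlt, charKer (IsIrr.isCharacter hψ), fun g => mem_charKer _, ?_⟩
  set L := charKer (IsIrr.isCharacter hψ) with hLdef
  haveI : L.Normal := charKer_normal _
  have hLH : ∀ x ∈ L, x ∈ H → x ∈ K := by
    intro x hxL hxH
    have h1 := constituent_ker (IsChar.res (IsIrr.isCharacter hψ) H) hθi hψc (g := ⟨x, hxH⟩)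
      (by simpa using (mem_charKer _).mp hxL)
    exact (hK x).mpr (by simpa [hθ] using h1)
  -- elements of `L ⊓ M` lie in `K`
  have hLM : ∀ n ∈ L, n ∈ M → n ∈ K := by
    intro n hnL hnM
    obtain ⟨b, hb⟩ : ∃ b : ℕ, n ^ p ^ b ∈ K := by
      obtain ⟨k, hk, y, hy, rfl⟩ := Subgroup.mem_sup_of_normal_left.mp (hMKP hnM)
      obtain ⟨b, hb⟩ := hP.2.1 ⟨y, hy⟩
      refine ⟨b, (QuotientGroup.eq_one_iff _).mp ?_⟩
      have hy1 : y ^ p ^ b = 1 := by simpa using congrArg Subtype.val hb
      rw [QuotientGroup.mk_pow, QuotientGroup.mk_mul, (QuotientGroup.eq_one_iff k).mpr hk, one_mul,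
        ← QuotientGroup.mk_pow, hy1, QuotientGroup.mk_one]
    obtain ⟨e, r, hr, her⟩ := Nat.exists_eq_pow_mul_and_not_dvd (orderOf_pos n).ne' p hp.out.ne_one
    have hu : n ^ r ∈ K := by
      have huM : n ^ r ∈ M := pow_mem hnM r
      have hup : IsPGroup p (Subgroup.zpowers (n ^ r)) := by
        refine IsPGroup.of_card (n := e) ?_
        rw [Nat.card_zpowers, orderOf_pow_of_dvd, her]
        · exact Nat.mul_div_cancel _ (Nat.pos_of_ne_zero fun h0 => hr (h0 ▸ dvd_zero p))
        · exact fun h0 => hr (h0 ▸ dvd_zero p)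
        · rw [her]; exact dvd_mul_left r _
      obtain ⟨S, hS⟩ := (hup.comap_subtype (K := M)).exists_le_sylow
      obtain ⟨m, hm, hme⟩ := IsSylowIn.conj (isSylowIn_iff.mpr ⟨S, rfl⟩) hP
      have hmem : m * n ^ r * m⁻¹ ∈ P := by
        rw [← hme]
        exact ⟨n ^ r, ⟨⟨n ^ r, huM⟩, hS (Subgroup.mem_zpowers (n ^ r)), rfl⟩, rfl⟩
      have hmL : m * n ^ r * m⁻¹ ∈ L :=
        Subgroup.Normal.conj_mem inferInstance _ (pow_mem hnL r) m
      have hmK := hLH _ hmL (hPH hmem)
      have := Subgroup.Normal.conj_mem (H := K) inferInstance _ hmK m⁻¹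
      simpa [mul_assoc] using this
    have hcop : Nat.Coprime (p ^ b) r := (hp.out.coprime_iff_not_dvd.mpr hr).pow_left b
    have h1 : n ^ (Nat.gcd (p ^ b) r) ∈ K := by
      have h2 : n ^ ((Nat.gcd (p ^ b) r : ℕ) : ℤ) ∈ K := by
        rw [Nat.gcd_eq_gcd_ab, zpow_add, zpow_mul, zpow_mul, zpow_natCast, zpow_natCast]
        exact mul_mem (zpow_mem hb _) (zpow_mem hu _)
      rwa [zpow_natCast] at h2
    rwa [hcop.gcd_eq_one, pow_one] at h1
  have hLK : L ≤ K := by
    intro n hnL
    suffices n ∈ M from hLM n hnL this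
    set R := (L ⊓ M) ⊔ P with hR
    have hRM : R ≤ M := sup_le inf_le_right hP.1
    have hPR : IsSylowIn p P R :=
      ⟨le_sup_right, hP.2.1, fun hd => hP.2.2
        (hd.trans ⟨_, (Subgroup.relIndex_mul_relIndex P R M le_sup_right hRM).symm⟩)⟩
    have hQM := hP.smul (g := n) (Subgroup.Normal.conj_smul_eq_self n M)
    set Q := MulAut.conj n • P with hQ
    have hQR : Q ≤ R := by
      rintro _ ⟨y, hy, rfl⟩
      show n * y * n⁻¹ ∈ R
      have hc : n * y * n⁻¹ * y⁻¹ ∈ L ⊓ M := by
        refine Subgroup.mem_inf.mpr ⟨?_, ?_⟩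
        · rw [show n * y * n⁻¹ * y⁻¹ = n * (y * n⁻¹ * y⁻¹) by group]
          exact mul_mem hnL (Subgroup.Normal.conj_mem inferInstance _ (inv_mem hnL) y)
        · exact mul_mem (Subgroup.Normal.conj_mem inferInstance _ (hP.1 hy) n) (inv_mem (hP.1 hy))
      have := Subgroup.mul_mem_sup hc hy
      rwa [inv_mul_cancel_right] at this
    have hQR' : IsSylowIn p Q R := ⟨hQR, hQM.2.1, fun hd => hQM.2.2
        (hd.trans ⟨_, (Subgroup.relIndex_mul_relIndex Q R M hQR hRM).symm⟩)⟩
    obtain ⟨r, hr, hre⟩ := IsSylowIn.conj hQR' hPR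
    obtain ⟨l, hl, y, hy, rfl⟩ := Subgroup.mem_sup_of_normal_left.mp hr
    obtain ⟨hlL, hlM⟩ := Subgroup.mem_inf.mp hl
    rw [hQ, ← mul_smul, ← map_mul] at hre
    have hmemH : l * y * n ∈ H := by
      rw [Subgroup.mem_normalizer_iff]
      intro z
      constructor
      · intro hz
        rw [← SetLike.mem_coe] at hz ⊢
        exact hre ▸ (⟨z, hz, rfl⟩ : (l * y * n) * z * (l * y * n)⁻¹ ∈ MulAut.conj (l * y * n) • P)
      · intro hz
        obtain ⟨z', hz', he⟩ := hre.symm ▸ hz
        have : z' = z := (MulAut.conj (l * y * n)).injective he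
        exact this ▸ hz'
    have hyn : y⁻¹ * (l * y * n) ∈ H := mul_mem (inv_mem (hPH hy)) hmemH
    have hL' : y⁻¹ * (l * y * n) ∈ L := by
      rw [show y⁻¹ * (l * y * n) = y⁻¹ * l * y⁻¹⁻¹ * n by group]
      exact mul_mem (Subgroup.Normal.conj_mem inferInstance _ hlL _) hnL
    have hk := hKM (hLH _ hL' hyn)
    rw [show n = (l * y)⁻¹ * (y * (y⁻¹ * (l * y * n))) by group]
    exact mul_mem (inv_mem (mul_mem hlM (hP.1 hy))) (mul_mem (hP.1 hy) hk)
  refine lt_of_le_of_ne hLK fun hEq => ?_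
  have hk : ∀ k ∈ K, ψ k = ψ 1 := fun k hk => (mem_charKer _).mp (hLdef ▸ hEq ▸ hk)
  have hψH := res_irr hψ K H hk hKH
  have hH := eq_of_constituent_irr hψH hθi hψc
  have hψχ : ψ = χ := funext fun g => by
    obtain ⟨k, hkK, h, hh, rfl⟩ := Subgroup.mem_sup_of_normal_left.mp (hKH ▸ Subgroup.mem_top g)
    rw [char_mul_ker (IsIrr.isCharacter hψ) (hk k hkK),
      char_mul_ker hcχ ((hK k).mp hkK)]
    exact congrFun hH ⟨h, hh⟩
  exact absurd hlt (by rw [hψχ]; exact lt_irrefl _)

theorem exists_sylow_normal_of_nilpotent [Finite G] (K : Subgroup G) [K.Normal]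
    (hK : Group.IsNilpotent K) (q : ℕ) [Fact q.Prime] :
    ∀ Y, IsSylowIn q Y K → Y.Normal := by
  intro Y hY
  obtain ⟨S, rfl⟩ := isSylowIn_iff.mp hY
  have := isNilpotent_iff_sylow_normal.mp hK q inferInstance S
  have : (S : Subgroup K).Characteristic := S.characteristic_of_normal this
  infer_instance

theorem exists_nonnormal_sylow [Finite G] (M : Subgroup G) (hM : ¬ Group.IsNilpotent M) :
    ∃ q : ℕ, ∃ (_ : Fact q.Prime) (P : Subgroup G), IsSylowIn q P M ∧ ¬ P.Normal := by
  rw [isNilpotent_iff_sylow_normal] at hM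
  push Not at hM
  obtain ⟨q, hq, S, hS⟩ := hM
  refine ⟨q, hq, _, isSylowIn_iff.mpr ⟨S, rfl⟩, fun hn => hS ?_⟩
  have := hn.comap M.subtype
  rwa [Subgroup.comap_map_eq_self_of_injective M.subtype_injective] at this

/-- The hypothesis on `x` in the second case. -/
theorem exists_nonvanishing [Fintype G] {χ : G → ℂ} (hχ : IsIrrCharacter G χ) (K : Subgroup G)
    [K.Normal] (hK : ∀ g : G, g ∈ K ↔ χ g = χ 1) (hKn : Group.IsNilpotent K) (M : Subgroup G)
    [M.Normal] {p : ℕ} [hp : Fact p.Prime] (P : Subgroup G) (hP : IsSylowIn p P M) (hKM : K < M)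
    (hMKP : M ≤ K ⊔ P) (hmin : ∀ N : Subgroup G, N.Normal → K ≤ N → N ≤ M → N = K ∨ N = M)
    (hPn : ¬ P.Normal) :
    ∃ x ∈ P, x ∉ (Subgroup.normalizer (P : Set G)).normalCore ∧ χ x ≠ 0 := by
  classical
  set H := Subgroup.normalizer (P : Set G) with hH
  set D := H.normalCore ⊓ M with hD
  haveI : D.Normal := inferInstance
  have hDK : D ≤ K := by
    rcases hmin (D ⊔ K) inferInstance le_sup_right (sup_le inf_le_right hKM.le) with h | h
    · exact le_sup_left.trans h.le
    exfalso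
    apply hPn
    have hPD : (P ⊓ D).Normal := inf_normal hP inf_le_right (inf_le_left.trans H.normalCore_le)
    obtain ⟨Y0, hY0⟩ := exists_isSylowIn p K
    haveI := exists_sylow_normal_of_nilpotent K hKn p Y0 hY0
    have hY0P : Y0 ≤ P := by
      have := hP.eq_of_le le_sup_right (sup_le (hY0.1.trans hKM.le) hP.1)
        (IsPGroup.to_sup_of_normal_left hY0.2.1 hP.2.1)
      rw [this]
      exact le_sup_left
    haveI := hPD
    set Y := (P ⊓ D) ⊔ Y0 with hY
    have hYn : Y.Normal := inferInstance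
    suffices P ≤ Y by rwa [le_antisymm this (sup_le inf_le_left hY0P)]
    set π := QuotientGroup.mk' Y
    have hcard : ∀ A : Subgroup G, Nat.card (A.map π) = Y.relIndex A := fun A => by
      rw [← Subgroup.relIndex_bot_left, ← Subgroup.relIndex_comap,
        MonoidHom.comap_bot, QuotientGroup.ker_mk']
    have hPD' : ¬ p ∣ (P ⊓ D).relIndex D := by
      obtain ⟨S, hS⟩ := isSylowIn_iff.mp hP
      have h1 := sylow_inf_normal_relIndex S (D.subgroupOf M)
      rw [← hS, Subgroup.inf_relIndex_right]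
      intro hd
      apply h1
      have he : (S : Subgroup M) = ((S : Subgroup M).map M.subtype).subgroupOf M :=
        (Subgroup.comap_map_eq_self_of_injective M.subtype_injective _).symm
      rw [he, Subgroup.relIndex_subgroupOf (inf_le_right : D ≤ M)]
      exact hd
    have h1 : (Nat.card (D.map π)).Coprime p := by
      refine (hp.out.coprime_iff_not_dvd.mpr fun hd => hPD' ?_).symm
      exact (hd.trans (hcard D ▸ Subgroup.relIndex_dvd_of_le_left D le_sup_left))
    have h2 : (Nat.card (K.map π)).Coprime p := by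
      refine (hp.out.coprime_iff_not_dvd.mpr fun hd => hY0.2.2 ?_).symm
      exact (hd.trans (hcard K ▸ Subgroup.relIndex_dvd_of_le_left K le_sup_right))
    haveI : (K.map π).Normal := Subgroup.Normal.map inferInstance π (QuotientGroup.mk'_surjective Y)
    have h3 : (Nat.card ((D ⊔ K).map π : Subgroup (G ⧸ Y))).Coprime p := by
      rw [Subgroup.map_sup]
      exact card_sup_coprime_to (by rw [Subgroup.normalizer_eq_top]; exact le_top) h1 h2
    rw [h] at h3
    obtain ⟨k, hk⟩ := IsPGroup.iff_card.mp (hP.2.1.map π)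
    have h4 : Nat.card (P.map π) = 1 := by
      exact Nat.eq_one_of_dvd_coprimes (h3.pow_right k)
        (Subgroup.card_dvd_of_le (Subgroup.map_mono hP.1)) (dvd_of_eq hk)
    intro y hy
    have h5 : π y ∈ P.map π := ⟨y, hy, rfl⟩
    rw [Subgroup.card_eq_one.mp h4, Subgroup.mem_bot] at h5
    exact (QuotientGroup.eq_one_iff y).mp h5
  by_contra hno
  push Not at hno
  have h0 : ∀ m ∈ M, m ∉ K → χ m = 0 := by
    intro m hm hmK
    obtain ⟨k, hk, x, hx, rfl⟩ := Subgroup.mem_sup_of_normal_left.mp (hMKP hm)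
    rw [char_mul_ker (IsIrr.isCharacter hχ) ((hK k).mp hk)]
    refine hno x hx fun hxc => hmK (mul_mem hk (hDK (Subgroup.mem_inf.mpr ⟨hxc, hP.1 hx⟩)))
  haveI : Fintype M := Fintype.ofFinite M
  rcases avgN_irr M hχ with ⟨hc, -⟩ | ⟨hc, -⟩
  · have hsum : ∑ m : M, χ m = ((Finset.univ.filter fun m : M => (m : G) ∈ K).card : ℂ) * χ 1 := by
      rw [← nsmul_eq_mul, ← Finset.sum_const, Finset.sum_filter]
      refine Finset.sum_congr rfl fun m _ => ?_
      by_cases hm : (m : G) ∈ K
      · rw [if_pos hm, (hK _).mp hm]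
      · rw [if_neg hm, h0 m m.2 hm]
    simp only [classInner, map_one, mul_one] at hc
    rw [hsum, mul_eq_zero, mul_eq_zero] at hc
    rcases hc with hc | hc | hc
    · exact Nat.card_pos.ne' (Nat.cast_eq_zero.mp (inv_eq_zero.mp hc))
    · rw [Nat.cast_eq_zero, Finset.card_eq_zero, Finset.filter_eq_empty_iff] at hc
      exact hc (Finset.mem_univ (1 : M)) (by simp)
    · exact IsIrr.one_ne_zero hχ hc
  · exact hKM.not_ge fun m hm => (hK m).mpr (hc ⟨m, hm⟩)

theorem exists_larger_degree [Fintype G] {χ : G → ℂ} (hχ : IsIrrCharacter G χ) (K : Subgroup G)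
    [K.Normal] (hK : ∀ g : G, g ∈ K ↔ χ g = χ 1)
    (h : ¬ K ≤ fittingSubgroup G ∨
      (K = fittingSubgroup G ∧ Group.IsSolvable (G ⧸ K) ∧ K ≠ ⊤)) :
    ∃ ψ : G → ℂ, IsIrrCharacter G ψ ∧ charDegree χ < charDegree ψ ∧
      ∃ L : Subgroup G, (∀ g : G, g ∈ L ↔ ψ g = ψ 1) ∧ L < K := by
  classical
  rcases h with h | ⟨hKF, hsol, hKtop⟩
  · obtain ⟨q, hq, P, hP, hPn⟩ := exists_nonnormal_sylow K
      fun hn => h (le_fittingSubgroup inferInstance hn)
    obtain ⟨x, hx, hxc⟩ := SetLike.not_le_iff_exists.mp (not_le_core hP hPn)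
    exact exists_larger hχ K hK K P hP le_rfl le_sup_left
      ⟨x, hx, hxc, by rw [(hK x).mp (hP.1 hx)]; exact IsIrr.one_ne_zero hχ⟩
  · have hKn : Group.IsNilpotent K := hKF ▸ fittingSubgroup_isNilpotent
    haveI : Nontrivial (G ⧸ K) := by
      refine not_subsingleton_iff_nontrivial.mp fun hs => hKtop ?_
      exact QuotientGroup.subsingleton_iff.mp hs
    obtain ⟨Mb, hMb, hMbne, -, hMbmin⟩ :=
      exists_minimal_normal_le (N := (⊤ : Subgroup (G ⧸ K))) top_ne_bot
    obtain ⟨-, p, hp, hpow⟩ := minimal_normal_solvable (N := Mb) inferInstance hMbne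
      hMbmin
    have := Fact.mk hp
    set M := Mb.comap (QuotientGroup.mk' K) with hM
    have hKM : K < M := by
      refine lt_of_le_of_ne (fun k hk => ?_) fun he => hMbne ?_
      · show QuotientGroup.mk' K k ∈ Mb
        rw [show QuotientGroup.mk' K k = 1 from (QuotientGroup.eq_one_iff k).mpr hk]
        exact one_mem _
      · rw [← Subgroup.map_comap_eq_self_of_surjective (QuotientGroup.mk'_surjective K) Mb, ← hM,
          ← he, QuotientGroup.map_mk'_self]
    have hMp : ∀ m ∈ M, m ^ p ∈ K := fun m hm =>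
      (QuotientGroup.eq_one_iff _).mp ((QuotientGroup.mk_pow K m p).trans (hpow _ hm))
    obtain ⟨q, hq, P, hP, hPn⟩ := exists_nonnormal_sylow M fun hn => hKM.not_ge
      (hKF ▸ le_fittingSubgroup inferInstance hn)
    have hK_of_ne : ∀ (r : ℕ) [Fact r.Prime] (X : Subgroup G), IsSylowIn r X M → r ≠ p →
        X ≤ K ∧ X.Normal := by
      intro r _ X hX hrp
      have hXK : X ≤ K := by
        intro x hx
        obtain ⟨k, hk⟩ := hX.2.1 ⟨x, hx⟩
        have hk' : x ^ r ^ k = 1 := by simpa using congrArg Subtype.val hk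
        have hcop : Nat.Coprime p (r ^ k) :=
          ((Nat.coprime_primes hp (Fact.out : r.Prime)).mpr (Ne.symm hrp)).pow_right k
        have h2 : x ^ ((Nat.gcd p (r ^ k) : ℕ) : ℤ) ∈ K := by
          rw [Nat.gcd_eq_gcd_ab, zpow_add, zpow_mul, zpow_mul, zpow_natCast, zpow_natCast, hk',
            one_zpow, mul_one]
          exact zpow_mem (hMp x (hX.1 hx)) _
        rwa [zpow_natCast, hcop.gcd_eq_one, pow_one] at h2
      refine ⟨hXK, exists_sylow_normal_of_nilpotent K hKn r X ⟨hXK, hX.2.1, fun hd => hX.2.2 ?_⟩⟩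
      exact hd.trans ⟨_, (Subgroup.relIndex_mul_relIndex X K M hXK hKM.le).symm⟩
    obtain rfl : q = p := by
      by_contra hne
      exact hPn (hK_of_ne q P hP hne).2
    have hMKP : M ≤ K ⊔ P := by
      refine le_of_forall_sylow (sup_le hKM.le hP.1) fun r _ => ?_
      rcases eq_or_ne r q with rfl | hne
      · exact ⟨P, hP, le_sup_right⟩
      · obtain ⟨X, hX⟩ := exists_isSylowIn r M
        exact ⟨X, hX, (hK_of_ne r X hX hne).1.trans le_sup_left⟩
    have hmin : ∀ N : Subgroup G, N.Normal → K ≤ N → N ≤ M → N = K ∨ N = M := by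
      intro N hN hKN hNM
      have hback : (N.map (QuotientGroup.mk' K)).comap (QuotientGroup.mk' K) = N := by
        rw [Subgroup.comap_map_eq, QuotientGroup.ker_mk', sup_eq_left.mpr hKN]
      have hle : N.map (QuotientGroup.mk' K) ≤ Mb := Subgroup.map_le_iff_le_comap.mpr hNM
      rcases eq_or_ne (N.map (QuotientGroup.mk' K)) ⊥ with h0 | h0
      · left
        rw [← hback, h0, MonoidHom.comap_bot, QuotientGroup.ker_mk']
      · right
        rw [← hback, (hMbmin _ (hN.map _ (QuotientGroup.mk'_surjective K)) hle).resolve_left h0, hM]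
    exact exists_larger hχ K hK M P hP hKM.le hMKP
      (exists_nonvanishing hχ K hK hKn M P hP hKM hMKP hmin hPn)

/-! ### the nilpotent length -/

/-- A normal series of length `n` with nilpotent factors. -/
def HasNilpotentSeries (G : Type u) [Group G] (n : ℕ) : Prop :=
  ∃ N : Fin (n + 1) → Subgroup G, N 0 = ⊥ ∧ N (Fin.last n) = ⊤ ∧ Monotone N ∧
    (∀ i, (N i).Normal) ∧ ∀ i : Fin n, ∀ _h : (N i.castSucc).subgroupOf (N i.succ) |>.Normal,
      Group.IsNilpotent (↥(N i.succ) ⧸ (N i.castSucc).subgroupOf (N i.succ))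

theorem series_of_nilpotent [Group.IsNilpotent G] {n : ℕ} (hn : 0 < n) :
    HasNilpotentSeries G n := by
  refine ⟨fun i => if i = 0 then ⊥ else ⊤, by simp, ?_, ?_, ?_, ?_⟩
  · show (if Fin.last n = 0 then (⊥ : Subgroup G) else ⊤) = ⊤
    rw [if_neg]
    simp [Fin.ext_iff, hn.ne']
  · intro i j hij
    show (if i = 0 then (⊥ : Subgroup G) else ⊤) ≤ if j = 0 then ⊥ else ⊤
    by_cases hi : i = 0
    · rw [if_pos hi]; exact bot_le
    · have hj : j ≠ 0 := fun h => hi (le_antisymm (h ▸ hij) (Fin.zero_le i))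
      rw [if_neg hi, if_neg hj]
  · intro i
    show (if i = 0 then (⊥ : Subgroup G) else ⊤).Normal
    split <;> infer_instance
  · intro i h
    haveI := h
    exact Group.nilpotent_of_surjective _ (QuotientGroup.mk'_surjective _)

/-- Prepending a nilpotent normal subgroup to a series of the quotient. -/
theorem series_cons (F : Subgroup G) [F.Normal] [Group.IsNilpotent F] {n : ℕ}
    (h : HasNilpotentSeries (G ⧸ F) n) : HasNilpotentSeries G (n + 1) := by
  obtain ⟨N, h0, htop, hmono, hnor, hnil⟩ := h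
  refine ⟨Fin.cons ⊥ fun i => (N i).comap (QuotientGroup.mk' F), Fin.cons_zero _ _, ?_, ?_, ?_, ?_⟩
  · rw [← Fin.succ_last, Fin.cons_succ, htop, Subgroup.comap_top]
  · rw [Fin.monotone_iff_le_succ]
    intro i
    refine Fin.cases ?_ (fun j => ?_) i
    · rw [Fin.castSucc_zero, Fin.cons_zero]; exact bot_le
    · rw [← Fin.succ_castSucc, Fin.cons_succ, Fin.cons_succ]
      exact Subgroup.comap_mono (hmono j.castSucc_le_succ)
  · intro i
    refine Fin.cases ?_ (fun j => ?_) i
    · rw [Fin.cons_zero]; infer_instance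
    · rw [Fin.cons_succ]; exact (hnor j).comap _
  · intro i
    refine Fin.cases ?_ (fun j => ?_) i
    · have he : (Fin.cons ⊥ (fun i => (N i).comap (QuotientGroup.mk' F)) :
          Fin (n + 1 + 1) → Subgroup G) (0 : Fin (n + 1)).succ = F := by
        rw [Fin.cons_succ, h0, MonoidHom.comap_bot, QuotientGroup.ker_mk']
      intro h
      haveI := h
      haveI : Group.IsNilpotent ↥((Fin.cons ⊥ (fun i => (N i).comap (QuotientGroup.mk' F)) :
          Fin (n + 1 + 1) → Subgroup G) (0 : Fin (n + 1)).succ) := by rw [he]; infer_instance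
      exact Group.nilpotent_of_surjective _ (QuotientGroup.mk'_surjective _)
    · rw [Fin.cons_succ, ← Fin.succ_castSucc, Fin.cons_succ]
      intro h
      haveI := h
      set A := N j.succ with hA
      set B := N j.castSucc with hB
      haveI : B.Normal := hnor _
      let f₀ : ↥(A.comap (QuotientGroup.mk' F)) →* A :=
        (QuotientGroup.mk' F).subgroupComap A
      have hf₀ : Function.Surjective f₀ := by
        rintro ⟨q, hq⟩
        obtain ⟨g, rfl⟩ := QuotientGroup.mk'_surjective F q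
        exact ⟨⟨g, hq⟩, rfl⟩
      let f : ↥(A.comap (QuotientGroup.mk' F)) →* A ⧸ B.subgroupOf A :=
        (QuotientGroup.mk' _).comp f₀
      have hf : Function.Surjective f := (QuotientGroup.mk'_surjective _).comp hf₀
      have hker : f.ker = (B.comap (QuotientGroup.mk' F)).subgroupOf
          (A.comap (QuotientGroup.mk' F)) := by
        ext x
        simp only [MonoidHom.mem_ker, Subgroup.mem_subgroupOf, Subgroup.mem_comap]
        exact (QuotientGroup.eq_one_iff _).trans Iff.rfl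
      have e := (QuotientGroup.quotientMulEquivOfEq hker).symm.trans
        (QuotientGroup.quotientKerEquivOfSurjective f hf)
      exact (Group.isNilpotent_congr e).mpr (hnil j inferInstance)

theorem series_of_solvable : ∀ (n : ℕ) (G : Type u) [Group G] [Finite G], Group.IsSolvable G →
    Nat.card {d : ℕ // ∃ χ : IrrCharacter G, charDegree (χ : G → ℂ) = d} ≤ n →
    HasNilpotentSeries G n := by
  intro n
  induction n with
  | zero =>
    intro G _ _ _ hle
    haveI := Fintype.ofFinite G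
    haveI : Finite {d : ℕ // ∃ χ : IrrCharacter G, charDegree (χ : G → ℂ) = d} :=
      Finite.of_surjective (fun χ : IrrCharacter G => ⟨charDegree (χ : G → ℂ), χ, rfl⟩)
        fun ⟨d, χ, hχ⟩ => ⟨χ, Subtype.ext hχ⟩
    haveI : Nonempty {d : ℕ // ∃ χ : IrrCharacter G, charDegree (χ : G → ℂ) = d} :=
      ⟨⟨_, ⟨⟨_, isIrr_one⟩, rfl⟩⟩⟩
    exact absurd hle (not_le.mpr Nat.card_pos)
  | succ n ih =>
    intro G _ _ hsol hle
    haveI := Fintype.ofFinite G
    haveI := fittingSubgroup_isNormal (G := G)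
    haveI := fittingSubgroup_isNilpotent (G := G)
    set F := fittingSubgroup G with hF
    by_cases hFtop : F = ⊤
    · haveI : Group.IsNilpotent G := by
        have h1 : Group.IsNilpotent ↥(⊤ : Subgroup G) := hFtop ▸ fittingSubgroup_isNilpotent
        exact (Group.isNilpotent_congr Subgroup.topEquiv).mp h1
      exact series_of_nilpotent n.succ_pos
    refine series_cons F (ih (G ⧸ F) inferInstance ?_)
    set cdG := {d : ℕ | ∃ χ : IrrCharacter G, charDegree (χ : G → ℂ) = d} with hcd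
    set cdQ := {d : ℕ | ∃ χ : IrrCharacter (G ⧸ F), charDegree (χ : G ⧸ F → ℂ) = d}
    have hfin : cdG.Finite := Set.finite_range fun χ : IrrCharacter G => charDegree (χ : G → ℂ)
    have hne : cdG.Nonempty := ⟨_, ⟨_, isIrr_one⟩, rfl⟩
    obtain ⟨D, hD, hmax⟩ := hfin.exists_maximal hne
    have hsub : cdQ ⊆ cdG \ {D} := by
      rintro d ⟨φ, rfl⟩
      have hinf := IsIrr.comp_surjective (QuotientGroup.mk' F) (QuotientGroup.mk'_surjective F) φ.2
      have hdeg : charDegree (fun g : G => (φ : G ⧸ F → ℂ) (QuotientGroup.mk' F g)) =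
          charDegree (φ : G ⧸ F → ℂ) := rfl
      refine ⟨⟨⟨_, hinf⟩, hdeg⟩, fun hd => ?_⟩
      set χ : G → ℂ := fun g => (φ : G ⧸ F → ℂ) (QuotientGroup.mk' F g) with hχdef
      haveI := charKer_normal (IsIrr.isCharacter hinf)
      set K := charKer (IsIrr.isCharacter hinf)
      have hFK : F ≤ K := fun x hx => (mem_charKer _).mpr (by
        show (φ : G ⧸ F → ℂ) (QuotientGroup.mk' F x) = (φ : G ⧸ F → ℂ) (QuotientGroup.mk' F 1)
        rw [map_one, show QuotientGroup.mk' F x = 1 from (QuotientGroup.eq_one_iff x).mpr hx])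
      have hcase : ¬ K ≤ fittingSubgroup G ∨
          (K = fittingSubgroup G ∧ Group.IsSolvable (G ⧸ K) ∧ K ≠ ⊤) := by
        by_cases hKF : K ≤ fittingSubgroup G
        · have he := le_antisymm hKF hFK
          exact .inr ⟨he, inferInstance, he ▸ hFtop⟩
        · exact .inl hKF
      obtain ⟨ψ, hψ, hlt, -⟩ := exists_larger_degree hinf K (fun g => mem_charKer _) hcase
      rw [Set.mem_singleton_iff] at hd
      rw [hdeg, hd] at hlt
      exact absurd (hmax ⟨⟨ψ, hψ⟩, rfl⟩ hlt.le) (not_le.mpr hlt)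
    have h1 : cdQ.ncard ≤ (cdG \ {D}).ncard := Set.ncard_le_ncard hsub hfin.sdiff
    have h2 := Set.ncard_sdiff_singleton_of_mem hD
    have h3 : cdG.ncard ≤ n + 1 := (Nat.card_coe_set_eq cdG).symm ▸ hle
    show Nat.card ↥cdQ ≤ n
    rw [Nat.card_coe_set_eq]
    omega

end Cfsg.Agent.Invol.BG
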