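import Cfsg.Agent.Lib.Invol.ZStar

/-!
# The Z*-theorem for 2-elements

A 2-element with only one conjugate in a Sylow 2-subgroup is central modulo the odd core.
-/

set_option autoImplicit false
set_option linter.unusedSectionVars false
set_option linter.style.haveILetI false

namespace Cfsg.Agent.ZStarTwo

open Cfsg

universe u

variable {G : Type u} [Group G] [Finite G]

/-- The powers of an element killed by a power of two form a 2-group. -/
theorem isPGroup_of_pow {H : Type u} [Group H] {x : H} {k : ℕ} (hx : x ^ 2 ^ k = 1) :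
    IsPGroup 2 ↥(Subgroup.zpowers x) := fun z => by
  obtain ⟨i, hi⟩ := Subgroup.mem_zpowers_iff.1 z.2
  refine ⟨k, Subtype.ext ?_⟩
  rw [SubmonoidClass.coe_pow, ← hi, OneMemClass.coe_one, ← zpow_natCast, ← zpow_mul, mul_comm,
    zpow_mul, zpow_natCast, hx, one_zpow]

/-- A conjugate of `t` lying in `O(G)P` is a conjugate under `O(G)`. -/
theorem exists_core_conj (P : Sylow 2 G) {t : G} (htP : t ∈ (P : Subgroup G))
    (huniq : ∀ g : G, g * t * g⁻¹ ∈ (P : Subgroup G) → g * t * g⁻¹ = t) {k : ℕ} (hk : t ^ 2 ^ k = 1)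
    {g : G} (hg : g * t * g⁻¹ ∈ pPrimeCore 2 G ⊔ (P : Subgroup G)) :
    ∃ o ∈ pPrimeCore 2 G, g * t * g⁻¹ = o * t * o⁻¹ := by
  haveI : Fact (Nat.Prime 2) := ⟨Nat.prime_two⟩
  haveI := Grp.pPrimeCore_isNormal (p := 2) (G := G)
  set H := pPrimeCore 2 G ⊔ (P : Subgroup G) with hH
  have hy : IsPGroup 2 ↥(Subgroup.zpowers (⟨g * t * g⁻¹, hg⟩ : H)) := by
    refine isPGroup_of_pow (k := k) (Subtype.ext ?_)
    rw [SubmonoidClass.coe_pow, OneMemClass.coe_one]
    simp [conj_pow, hk]
  obtain ⟨h, hh⟩ := Invol.exists_conj_subset_sylow hy (P.subtype le_sup_right)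
  have h1 := hh _ (Subgroup.mem_zpowers _)
  have h2 : (h : G) * (g * t * g⁻¹) * (h : G)⁻¹ ∈ (P : Subgroup G) := h1
  have h3 : (h : G) * (g * t * g⁻¹) * (h : G)⁻¹ = t := by
    have := huniq ((h : G) * g) (by simpa [mul_assoc] using h2)
    simpa [mul_assoc] using this
  obtain ⟨o, ho, p, hp, hop⟩ := Subgroup.mem_sup_of_normal_left.1 (inv_mem h.2)
  refine ⟨o, ho, ?_⟩
  have hpt : p * t * p⁻¹ = t := huniq p (mul_mem (mul_mem hp htP) (inv_mem hp))
  calc g * t * g⁻¹ = (h : G)⁻¹ * ((h : G) * (g * t * g⁻¹) * (h : G)⁻¹) * (h : G) := by group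
    _ = (h : G)⁻¹ * t * (h : G) := by rw [h3]
    _ = (o * p) * t * (o * p)⁻¹ := by rw [hop, inv_inv]
    _ = o * t * o⁻¹ := by
      conv_rhs => rw [← hpt]
      group

/-- Modulo the odd core, such a conjugate gives a trivial commutator. -/
theorem commutator_mem_of_mem_sup (P : Sylow 2 G) {t : G} (htP : t ∈ (P : Subgroup G))
    (huniq : ∀ g : G, g * t * g⁻¹ ∈ (P : Subgroup G) → g * t * g⁻¹ = t) {k : ℕ} (hk : t ^ 2 ^ k = 1)
    {g : G} (hg : g * t * g⁻¹ ∈ pPrimeCore 2 G ⊔ (P : Subgroup G)) :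
    t * g * t⁻¹ * g⁻¹ ∈ pPrimeCore 2 G := by
  obtain ⟨o, ho, he⟩ := exists_core_conj P htP huniq hk hg
  haveI := Grp.pPrimeCore_isNormal (p := 2) (G := G)
  have h1 : t * g * t⁻¹ * g⁻¹ = (t * o * t⁻¹) * o⁻¹ := by
    rw [show t * g * t⁻¹ * g⁻¹ = t * (g * t * g⁻¹)⁻¹ by group, he]
    group
  rw [h1]
  exact mul_mem (Subgroup.Normal.conj_mem inferInstance o ho t) (inv_mem ho)

/-- The only conjugate property passes to powers. -/
theorem pow_unique (P : Sylow 2 G) {t : G} (htP : t ∈ (P : Subgroup G))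
    (huniq : ∀ g : G, g * t * g⁻¹ ∈ (P : Subgroup G) → g * t * g⁻¹ = t) {k : ℕ} (hk : t ^ 2 ^ k = 1)
    (j : ℕ) (g : G) (hg : g * t ^ j * g⁻¹ ∈ (P : Subgroup G)) : g * t ^ j * g⁻¹ = t ^ j := by
  haveI : Fact (Nat.Prime 2) := ⟨Nat.prime_two⟩
  set x := g * t ^ j * g⁻¹ with hx
  have hcomm : Commute t x := by
    have h := huniq x (mul_mem (mul_mem hg htP) (inv_mem hg))
    exact (mul_inv_eq_iff_eq_mul.1 h).symm
  have hcomm' : Commute (g * t * g⁻¹) x := by
    have := (Commute.self_pow t j).map (MulAut.conj g).toMonoidHom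
    simpa [hx] using this
  set A := Subgroup.centralizer ({x} : Set G)
  have hy : IsPGroup 2 ↥(Subgroup.zpowers
      (⟨g * t * g⁻¹, Subgroup.mem_centralizer_singleton_iff.2 hcomm'⟩ : A)) := by
    refine isPGroup_of_pow (k := k) (Subtype.ext ?_)
    rw [SubmonoidClass.coe_pow, OneMemClass.coe_one]
    simp [conj_pow, hk]
  have ht : IsPGroup 2 ↥(Subgroup.zpowers (⟨t, Subgroup.mem_centralizer_singleton_iff.2 hcomm⟩ : A)) := by
    refine isPGroup_of_pow (k := k) (Subtype.ext ?_)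
    rw [SubmonoidClass.coe_pow, OneMemClass.coe_one]
    exact hk
  obtain ⟨R, hR⟩ := ht.exists_le_sylow
  obtain ⟨h, hh⟩ := Invol.exists_conj_subset_sylow hy R
  have h1 := Subgroup.mem_map_of_mem A.subtype (hh _ (Subgroup.mem_zpowers _))
  have h2 := Subgroup.mem_map_of_mem A.subtype (hR (Subgroup.mem_zpowers _))
  have h3 : ((h : G) * g) * t * ((h : G) * g)⁻¹ = t :=
    Invol.eq_of_isolated htP huniq (R.isPGroup'.map A.subtype) h2
      (by simpa [mul_assoc] using h1)
  have h4 : (h : G) * x * (h : G)⁻¹ = x :=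
    mul_inv_eq_iff_eq_mul.2 (Subgroup.mem_centralizer_singleton_iff.1 h.2)
  calc x = (h : G) * x * (h : G)⁻¹ := h4.symm
    _ = (((h : G) * g) * t * ((h : G) * g)⁻¹) ^ j := by rw [conj_pow, hx]; group
    _ = t ^ j := by rw [h3]

/-- In a group of twice odd order the odd elements form a normal subgroup of index two. -/
theorem exists_odd_half {L : Type u} [Group L] [Finite L] (m : ℕ) (hm : Odd m)
    (hcard : Nat.card L = 2 * m) :
    ∃ N : Subgroup L, N.index = 2 ∧ Odd (Nat.card N) ∧ ∀ x : L, x ∈ N ↔ Odd (orderOf x) := by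
  haveI : Fact (Nat.Prime 2) := ⟨Nat.prime_two⟩
  let P : Sylow 2 L := default
  have hP : Nat.card (P : Subgroup L) = 2 := by
    rw [P.card_eq_multiplicity, hcard, Nat.factorization_mul two_ne_zero hm.pos.ne',
      Finsupp.add_apply, Nat.prime_two.factorization_self,
      Nat.factorization_eq_zero_of_not_dvd (Nat.two_dvd_ne_zero.2 (Nat.odd_iff.1 hm)), add_zero,
      pow_one]
  haveI : IsCyclic P := isCyclic_of_prime_card (p := 2) hP
  have hmin : (Nat.card L).minFac = 2 := (Nat.minFac_eq_two_iff _).2 (hcard ▸ dvd_mul_right 2 _)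
  have hN := IsCyclic.normalizer_le_centralizer hmin (P := P) inferInstance
  set N := (MonoidHom.transferSylow P hN).ker
  have hidx : N.index = 2 := (MonoidHom.ker_transferSylow_isComplement' P hN).symm.index_eq_card.trans hP
  have hodd : Odd (Nat.card N) :=
    Nat.odd_iff.2 (Nat.two_dvd_ne_zero.1 (MonoidHom.not_dvd_card_ker_transferSylow P hN))
  refine ⟨N, hidx, hodd, fun x => ⟨fun hx => ?_, fun hx => Invol.mem_of_sq_mem hx
    (Subgroup.mul_self_mem_of_index_two hidx x)⟩⟩
  exact hodd.of_dvd_nat (Subgroup.orderOf_dvd_natCard N hx)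

/-- A normal subgroup that is a central involution times an odd quotient meets it in the odd core. -/
theorem le_core_sup {L : Subgroup G} [L.Normal] (K : Subgroup G) [K.Normal] (hKL : K ≤ L)
    (hK : Nat.card K = 2 * Nat.card (pPrimeCore 2 G)) (hodd : Odd (K.relIndex L)) : L ≤ K := by
  haveI : Fact (Nat.Prime 2) := ⟨Nat.prime_two⟩
  haveI := Grp.pPrimeCore_isNormal (p := 2) (G := G)
  set O := pPrimeCore 2 G
  have hO : Odd (Nat.card O) :=
    Nat.odd_iff.2 (Nat.two_dvd_ne_zero.1 (Grp.pPrimeCore_not_dvd (p := 2) (G := G)))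
  have hcard : Nat.card L = 2 * (Nat.card O * K.relIndex L) := by
    rw [← mul_assoc, ← hK]
    have := (K.subgroupOf L).card_mul_index
    rw [Nat.card_congr (Subgroup.subgroupOfEquivOfLe hKL).toEquiv] at this
    exact this.symm
  obtain ⟨N, hidx, hNodd, hmem⟩ := exists_odd_half _ (hO.mul hodd) hcard
  have hnorm : (N.map L.subtype).Normal := ⟨fun n hn g => by
    obtain ⟨a, ha, rfl⟩ := Subgroup.mem_map.1 hn
    refine Subgroup.mem_map.2 ⟨⟨g * a * g⁻¹, Subgroup.Normal.conj_mem inferInstance _ a.2 g⟩, ?_, rfl⟩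
    rw [hmem, ← Subgroup.orderOf_coe, Invol.orderOf_conj_eq, Subgroup.orderOf_coe, ← hmem]
    exact ha⟩
  have hc : Nat.card (N.map L.subtype) = Nat.card N :=
    Nat.card_congr (Subgroup.equivMapOfInjective _ _ L.subtype_injective).toEquiv.symm
  have hle : N.map L.subtype ≤ O :=
    Grp.le_pPrimeCore hnorm (hc ▸ Nat.coprime_two_right.2 hNodd)
  have h1 : Nat.card N ≤ Nat.card O := hc ▸ Subgroup.card_le_of_le hle
  have h2 : Nat.card N * 2 = Nat.card L := hidx ▸ N.card_mul_index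
  have h3 : Nat.card L ≤ Nat.card K := by omega
  exact (Subgroup.eq_of_le_of_card_ge hKL h3).ge

theorem aux : ∀ (k : ℕ) (G : Type u) [Group G] [Finite G] (P : Sylow 2 G) (t : G),
    t ∈ (P : Subgroup G) → (∀ g : G, g * t * g⁻¹ ∈ (P : Subgroup G) → g * t * g⁻¹ = t) →
    t ^ 2 ^ k = 1 → ∀ g : G, t * g * t⁻¹ * g⁻¹ ∈ pPrimeCore 2 G := by
  intro k
  induction k with
  | zero =>
    intro G _ _ P t _ _ hk g
    rw [pow_zero, pow_one] at hk
    simp [hk]
  | succ k ih =>
    intro G _ _ P t htP huniq hk g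
    haveI : Fact (Nat.Prime 2) := ⟨Nat.prime_two⟩
    by_cases hk' : t ^ 2 ^ k = 1
    · exact ih G P t htP huniq hk' g
    haveI := Grp.pPrimeCore_isNormal (p := 2) (G := G)
    set u := t ^ 2 ^ k with hu
    have hu2 : orderOf u = 2 := orderOf_eq_prime (by rw [hu, ← pow_mul, ← pow_succ, hk]) hk'
    have huP : u ∈ (P : Subgroup G) := pow_mem htP _
    have hiso := ZStar.isIsolated_of_sylow huP hu2 (fun a => pow_unique P htP huniq hk _ a)
    have hcomm := ZStar.commutator_mem_oddCore _ G rfl u hiso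
    set O := pPrimeCore 2 G with hO
    set K := O ⊔ Subgroup.zpowers u with hK
    haveI hKn : K.Normal := ⟨fun n hn a => by
      obtain ⟨o, ho, w, hw, rfl⟩ := Subgroup.mem_sup_of_normal_left.1 hn
      obtain ⟨i, rfl⟩ := Subgroup.mem_zpowers_iff.1 hw
      rw [show a * (o * u ^ i) * a⁻¹ = (a * o * a⁻¹) * (a * u * a⁻¹) ^ i by rw [conj_zpow]; group]
      refine mul_mem (Subgroup.mem_sup_left (Subgroup.Normal.conj_mem inferInstance o ho a))
        (zpow_mem ?_ i)
      rw [show a * u * a⁻¹ = (u * a * u⁻¹ * a⁻¹)⁻¹ * u by group]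
      exact mul_mem (Subgroup.mem_sup_left (inv_mem (hcomm a)))
        (Subgroup.mem_sup_right (Subgroup.mem_zpowers u))⟩
    set f := QuotientGroup.mk' K
    have hf : Function.Surjective f := QuotientGroup.mk'_surjective K
    have hKP : K ≤ O ⊔ (P : Subgroup G) := sup_le_sup_left (Subgroup.zpowers_le.2 huP) _
    have hOK : ∀ o ∈ O, f o = 1 := fun o ho =>
      (QuotientGroup.eq_one_iff o).2 (Subgroup.mem_sup_left ho)
    have huniq' : ∀ q : G ⧸ K, q * f t * q⁻¹ ∈ ((P.mapSurjective hf : Sylow 2 (G ⧸ K)) : Subgroup _) →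
        q * f t * q⁻¹ = f t := by
      intro q hq
      obtain ⟨a, rfl⟩ := hf q
      rw [Sylow.coe_mapSurjective, ← map_inv, ← map_mul, ← map_mul] at hq
      obtain ⟨p, hp, hpe⟩ := Subgroup.mem_map.1 hq
      have hmem : p⁻¹ * (a * t * a⁻¹) ∈ K := by
        rw [← QuotientGroup.eq_one_iff]
        change f (p⁻¹ * (a * t * a⁻¹)) = 1
        rw [map_mul, map_inv, hpe, inv_mul_cancel]
      have hat : a * t * a⁻¹ ∈ O ⊔ (P : Subgroup G) := by
        rw [show a * t * a⁻¹ = p * (p⁻¹ * (a * t * a⁻¹)) by group]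
        exact mul_mem (Subgroup.mem_sup_right hp) (hKP hmem)
      obtain ⟨o, ho, he⟩ := exists_core_conj P htP huniq hk hat
      rw [← map_inv, ← map_mul, ← map_mul, he, map_mul, map_mul, map_inv, hOK o ho]
      simp
    have h1 := ih (G ⧸ K) (P.mapSurjective hf) (f t)
      (by rw [Sylow.coe_mapSurjective]; exact Subgroup.mem_map_of_mem f htP) huniq'
      ((map_pow f t _).symm.trans ((QuotientGroup.eq_one_iff _).2
        (Subgroup.mem_sup_right (Subgroup.mem_zpowers u)))) (f g)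
    rw [← map_inv, ← map_inv, ← map_mul, ← map_mul, ← map_mul] at h1
    haveI : (pPrimeCore 2 (G ⧸ K)).Normal := Grp.pPrimeCore_isNormal
    set L := (pPrimeCore 2 (G ⧸ K)).comap f with hL
    haveI : L.Normal := Subgroup.Normal.comap inferInstance _
    have hKL : K ≤ L := fun x hx => by
      rw [hL, Subgroup.mem_comap, show f x = 1 from (QuotientGroup.eq_one_iff x).2 hx]
      exact one_mem _
    have hcardK : Nat.card K = 2 * Nat.card O := by
      have hdis : O ⊓ Subgroup.zpowers u = ⊥ := by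
        apply disjoint_iff.1
        refine Subgroup.disjoint_of_coprime_natCard ?_
        rw [Nat.card_zpowers, hu2]
        exact Grp.pPrimeCore_coprime
      have h := Grp.card_sup_mul_card_inf_normal (H := Subgroup.zpowers u) (N := O)
      rw [sup_comm, inf_comm, hdis, Subgroup.card_bot, mul_one, Nat.card_zpowers, hu2] at h
      rw [hK, h]
    have hrel : Odd (K.relIndex L) := by
      have hidx : K.relIndex L = Nat.card (pPrimeCore 2 (G ⧸ K)) := by
        have hker : K = (⊥ : Subgroup (G ⧸ K)).comap f := (QuotientGroup.ker_mk' K).symm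
        rw [hL]
        conv_lhs => arg 1; rw [hker]
        rw [Subgroup.relIndex_comap, Subgroup.map_comap_eq_self_of_surjective hf,
          Subgroup.relIndex_bot_left]
      rw [hidx]
      exact Nat.coprime_two_right.1 Grp.pPrimeCore_coprime
    have hgt : g * t * g⁻¹ ∈ O ⊔ (P : Subgroup G) := by
      rw [show g * t * g⁻¹ = (t * g * t⁻¹ * g⁻¹)⁻¹ * t by group]
      exact mul_mem (hKP (le_core_sup K hKL hcardK hrel (inv_mem h1)))
        (Subgroup.mem_sup_right htP)
    exact commutator_mem_of_mem_sup P htP huniq hk hgt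

/-- A 2-element with one conjugate in a Sylow 2-subgroup is central modulo the odd core. -/
theorem commutator_mem_oddCore (P : Sylow 2 G) {t : G} (htP : t ∈ (P : Subgroup G))
    (huniq : ∀ g : G, g * t * g⁻¹ ∈ (P : Subgroup G) → g * t * g⁻¹ = t) (g : G) :
    t * g * t⁻¹ * g⁻¹ ∈ pPrimeCore 2 G := by
  haveI : Fact (Nat.Prime 2) := ⟨Nat.prime_two⟩
  obtain ⟨k, hk⟩ := P.isPGroup' ⟨t, htP⟩
  exact aux k G P t htP huniq (congrArg Subtype.val hk) g

end Cfsg.Agent.ZStarTwo
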