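import Cfsg.Agent.Lib.Invol.NoSCNBasic
import Cfsg.Agent.Lib.Grp.SpectrumFour

/-!
# A fixed-point-free automorphism of order three

The group has class at most two when it is a 2-group; the commutators of two orbit pairs are determined
by one of them.
-/

set_option autoImplicit false

open scoped commutatorElement

namespace Cfsg.Agent.Invol.FpfThree

variable {T : Type*} [Group T]

/-- `ψ` has order three and fixes only the identity. -/
structure Fpf (ψ : MulAut T) : Prop where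
  three : ∀ x, ψ (ψ (ψ x)) = x
  fix : ∀ x, ψ x = x → x = 1

/-- `[x, y]`. -/
def c (x y : T) : T := x * y * x⁻¹ * y⁻¹

theorem c_eq_one {x y : T} : c x y = 1 ↔ x * y = y * x := by
  rw [c, mul_inv_eq_one, mul_inv_eq_iff_eq_mul]

theorem c_inv (x y : T) : (c x y)⁻¹ = c y x := by simp only [c]; group

theorem map_c (ψ : MulAut T) (x y : T) : ψ (c x y) = c (ψ x) (ψ y) := by simp [c]

theorem c_mul_left {x x' y : T} (h : ∀ a b : T, c a b ∈ Subgroup.center T) :
    c (x * x') y = c x y * c x' y := by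
  calc c (x * x') y = x * c x' y * y * x⁻¹ * y⁻¹ := by simp only [c]; group
    _ = c x' y * x * y * x⁻¹ * y⁻¹ := by rw [Subgroup.mem_center_iff.mp (h x' y) x]
    _ = c x' y * c x y := by simp only [c]; group
    _ = _ := (Subgroup.mem_center_iff.mp (h x' y) _).symm

theorem c_mul_right {x y y' : T} (h : ∀ a b : T, c a b ∈ Subgroup.center T) :
    c x (y * y') = c x y * c x y' := by
  calc c x (y * y') = c x y * (y * c x y' * y⁻¹) := by simp only [c]; group
    _ = _ := by rw [Subgroup.mem_center_iff.mp (h x y') y, mul_inv_cancel_right]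

theorem c_center_left {a : T} (ha : a ∈ Subgroup.center T) (y : T) : c a y = 1 :=
  c_eq_one.mpr (Subgroup.mem_center_iff.mp ha y).symm

theorem c_center_right {a : T} (ha : a ∈ Subgroup.center T) (x : T) : c x a = 1 :=
  c_eq_one.mpr (Subgroup.mem_center_iff.mp ha x)

theorem c_congr_left {a x y : T} (h : ∀ a b : T, c a b ∈ Subgroup.center T)
    (ha : a ∈ Subgroup.center T) : c (a * x) y = c x y := by
  rw [c_mul_left h, c_center_left ha, one_mul]

namespace Fpf

variable {ψ : MulAut T} (h : Fpf ψ)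
include h

theorem flip : Fpf (ψ * ψ) where
  three x := by
    show ψ (ψ (ψ (ψ (ψ (ψ x))))) = x
    rw [h.three, h.three]
  fix x hx := by
    refine h.fix x ?_
    have h1 := congrArg ψ hx
    rw [MulAut.mul_apply, h.three] at h1
    exact h1.symm

theorem shift [Finite T] (g : T) : ∃ a, g = a⁻¹ * ψ a := by
  have hinj : Function.Injective fun a => a⁻¹ * ψ a := by
    intro a b hab
    have h1 : ψ (a * b⁻¹) = a * b⁻¹ := by
      rw [map_mul, map_inv, show ψ a = a * (a⁻¹ * ψ a) by group, show a⁻¹ * ψ a = b⁻¹ * ψ b from hab]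
      group
    exact mul_inv_eq_one.mp (h.fix _ h1)
  obtain ⟨a, ha⟩ := (Finite.injective_iff_surjective.mp hinj) g
  exact ⟨a, ha.symm⟩

theorem prod [Finite T] (x : T) : x * ψ x * ψ (ψ x) = 1 := by
  obtain ⟨a, rfl⟩ := h.shift x
  simp only [map_mul, map_inv, h.three]
  group

theorem two [Finite T] (x : T) : ψ (ψ x) = (x * ψ x)⁻¹ := eq_inv_of_mul_eq_one_right (h.prod x)

theorem commute [Finite T] (x : T) : x * ψ x = ψ x * x := by
  have h1 := h.flip.prod x
  simp only [MulAut.mul_apply, h.three] at h1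
  rw [h.two x, mul_eq_one_iff_eq_inv, mul_inv_eq_iff_eq_mul] at h1
  calc x * ψ x = ψ x * (ψ x)⁻¹ * (x * ψ x) := by group
    _ = _ := by rw [mul_assoc, ← h1]

theorem commute_twist [Finite T] (x g : T) : Commute x (g * ψ x * g⁻¹) := by
  obtain ⟨a, rfl⟩ := h.shift g
  have h1 : Commute (a * x * a⁻¹) (ψ (a * x * a⁻¹)) := h.commute _
  have h2 := h1.map (MulAut.conj a⁻¹).toMonoidHom
  simp only [MulEquiv.toMonoidHom_eq_coe, MonoidHom.coe_coe, MulAut.conj_apply, inv_inv] at h2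
  rw [show a⁻¹ * (a * x * a⁻¹) * a = x by group, map_mul, map_mul, map_inv] at h2
  rwa [show a⁻¹ * ψ a * ψ x * (a⁻¹ * ψ a)⁻¹ = a⁻¹ * (ψ a * ψ x * (ψ a)⁻¹) * a by group]

theorem engel [Finite T] (x g : T) : Commute x (g * x * g⁻¹) := by
  have h2 : Commute x (g * ψ (ψ x) * g⁻¹) := h.flip.commute_twist x g
  have h1 := ((h.commute_twist x g).mul_right h2).inv_right
  rwa [show (g * ψ x * g⁻¹ * (g * ψ (ψ x) * g⁻¹))⁻¹ = g * (ψ (ψ x))⁻¹ * (ψ x)⁻¹ * g⁻¹ by group,
    show g * (ψ (ψ x))⁻¹ * (ψ x)⁻¹ * g⁻¹ = g * x * g⁻¹ by rw [h.two x]; group] at h1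

/-- A 2-group with such an automorphism has central commutators. -/
theorem comm_center [Finite T] (hT : IsPGroup 2 T) (a b : T) : c a b ∈ Subgroup.center T := by
  have h3 : ∀ x : T, x ^ 3 = 1 → x = 1 := by
    intro x hx
    obtain ⟨k, hk⟩ := hT x
    exact orderOf_eq_one_iff.mp (Nat.eq_one_of_dvd_coprimes (a := 3) (b := 2 ^ k)
      ((by decide : Nat.Coprime 3 2).pow_right k) (orderOf_dvd_of_pow_eq_one hx)
      (orderOf_dvd_of_pow_eq_one hk))
  have hl := Cfsg.Agent.Grp.SpectrumFour.levi h.engel h3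
  rw [Subgroup.commutator_eq_bot_iff_le_centralizer] at hl
  refine Subgroup.mem_center_iff.mpr fun g => ?_
  exact Subgroup.mem_centralizer_iff.mp (hl (show c a b ∈ commutator T from
    Subgroup.commutator_mem_commutator (Subgroup.mem_top a) (Subgroup.mem_top b))) g (Subgroup.mem_top g)

theorem c_self [Finite T] (x : T) : c x (ψ x) = 1 := c_eq_one.mpr (h.commute x)

theorem two_congr [Finite T] (hc : ∀ a b : T, c a b ∈ Subgroup.center T) {x : T} (y : T)
    (hx : ∀ t, c x t * c x t = 1) : c (ψ (ψ x)) y = c x y * c (ψ x) y := by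
  have hψ : ∀ t, c (ψ x) t * c (ψ x) t = 1 := fun t => by
    obtain ⟨t, rfl⟩ := ψ.surjective t
    rw [← map_c, ← map_mul, hx, map_one]
  have h1 := (c_mul_left (x := ψ (ψ x)) (x' := x * ψ x) (y := y) hc).symm
  rw [h.two x, inv_mul_cancel, c_center_left (one_mem _), c_mul_left hc] at h1
  rw [h.two x, eq_inv_of_mul_eq_one_left h1, mul_inv_rev,
    inv_eq_of_mul_eq_one_right (hψ y), inv_eq_of_mul_eq_one_right (hx y)]
  exact (Subgroup.mem_center_iff.mp (hc _ _) _)

/-- The commutators between two orbit pairs. -/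
theorem pair [Finite T] {D : Subgroup T} (hrot : NoSCN.Rot ψ D)
    (hc : ∀ a b : T, c a b ∈ Subgroup.center T) (hD : ∀ a b : T, c a b ∈ D) (x y : T) :
    c x (ψ y) = ψ (ψ (c x y)) ∧ c (ψ x) y = ψ (ψ (c x y)) ∧ c (ψ x) (ψ y) = ψ (c x y) := by
  set d := c x y with hd
  have hdD : d ∈ D := hD x y
  have h2 : ∀ a t : T, c a t * c a t = 1 := fun a t => hrot.sq _ (hD a t)
  have h4 : c (ψ x) (ψ y) = ψ d := (map_c ψ x y).symm
  have e2 : ∀ t, c t (ψ (ψ y)) = c t y * c t (ψ y) := fun t => by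
    rw [← c_inv, h.two_congr hc t (h2 y), mul_inv_rev, c_inv, c_inv,
      Subgroup.mem_center_iff.mp (hc t y)]
  set e := c x (ψ y)
  set f := c (ψ x) y
  have h5 : ψ e = f * ψ d := by rw [map_c, e2, h4]
  have h6 : ψ f = e * ψ d := by rw [map_c, h.two_congr hc _ (h2 x), h4]
  have heD : e ∈ D := hD _ _
  have hfD : f ∈ D := hD _ _
  have hdp := hrot.mem d hdD
  have h7 : ψ (ψ e) = e * d := by
    rw [h5, map_mul, h6, mul_assoc, hrot.two d hdD,
      hrot.comm hdp (mul_mem hdD hdp), mul_assoc, hrot.sq _ hdp, mul_one]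
  rw [hrot.two e heD] at h7
  have h8 : ψ e = d := mul_left_cancel h7
  refine ⟨?_, ?_, h4⟩
  · rw [← h8, hrot.three heD]
  · rw [hrot.two d hdD]
    calc f = f * ψ d * ψ d := by rw [mul_assoc, hrot.sq _ hdp, mul_one]
      _ = _ := by rw [← h5, h8]

end Fpf

/-- Adjoining an element whose square lies in a normal subgroup. -/
theorem mem_adj {A : Subgroup T} [A.Normal] {x : T} (hx : x * x ∈ A) {g : T}
    (hg : g ∈ A ⊔ Subgroup.zpowers x) : g ∈ A ∨ g * x⁻¹ ∈ A := by
  obtain ⟨a, ha, b, ⟨i, rfl⟩, rfl⟩ := Subgroup.mem_sup_of_normal_left.mp hg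
  obtain ⟨j, hj | hj⟩ := i.even_or_odd' <;> subst hj
  · refine Or.inl (mul_mem ha ?_)
    show x ^ (2 * j) ∈ A
    rw [zpow_mul, zpow_two]; exact zpow_mem hx j
  · refine Or.inr ?_
    show a * x ^ (2 * j + 1) * x⁻¹ ∈ A
    rw [zpow_add, zpow_mul, zpow_two, zpow_one, mul_assoc, mul_inv_cancel_right]
    exact mul_mem ha (zpow_mem hx j)

theorem card_adj [Finite T] {A : Subgroup T} [A.Normal] {x : T} (hx : x * x ∈ A) (hxA : x ∉ A) :
    Nat.card ↥(A ⊔ Subgroup.zpowers x) = 2 * Nat.card A := by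
  set B := A ⊔ Subgroup.zpowers x
  have hxB : x ∈ B := Subgroup.mem_sup_right (Subgroup.mem_zpowers x)
  have hidx : (A.subgroupOf B).index = 2 := by
    refine Subgroup.index_eq_two_iff.mpr ⟨⟨x⁻¹, inv_mem hxB⟩, fun b => ?_⟩
    simp only [Subgroup.mem_subgroupOf, Subgroup.coe_mul]
    rcases mem_adj hx b.2 with h1 | h1
    · exact Or.inr ⟨h1, fun h2 => hxA (inv_mem_iff.mp ((Subgroup.mul_mem_cancel_left A h1).mp h2))⟩
    · exact Or.inl ⟨h1, fun h2 => hxA (inv_mem_iff.mp ((Subgroup.mul_mem_cancel_left A h2).mp h1))⟩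
  have h1 := (A.subgroupOf B).card_mul_index
  rw [hidx, Nat.card_congr (Subgroup.subgroupOfEquivOfLe (show A ≤ B from le_sup_left)).toEquiv] at h1
  rw [← h1, mul_comm]

/-- Subgroups above a subgroup containing all commutators are normal. -/
theorem normal_of_comm {A : Subgroup T} (hc : ∀ a b : T, c a b ∈ A) : A.Normal :=
  ⟨fun a ha g => by
    rw [show g * a * g⁻¹ = c g a * a by simp only [c]; group]
    exact mul_mem (hc g a) ha⟩

/-- Four generators modulo the centre. -/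
theorem chain [Finite T] {ψ : MulAut T} (h : Fpf ψ) (hc : ∀ a b : T, c a b ∈ Subgroup.center T)
    (hsq : ∀ x : T, x * x ∈ Subgroup.center T) {u w : T} (hu : u ∉ Subgroup.center T)
    (hw : w ∉ Subgroup.center T ⊔ Subgroup.zpowers u ⊔ Subgroup.zpowers (ψ u)) :
    Nat.card ↥(Subgroup.center T ⊔ Subgroup.zpowers u ⊔ Subgroup.zpowers (ψ u) ⊔ Subgroup.zpowers w ⊔
      Subgroup.zpowers (ψ w)) = 16 * Nat.card (Subgroup.center T) := by
  set Z := Subgroup.center T
  have hZψ : ∀ z ∈ Z, ψ z ∈ Z := fun z hz => Subgroup.mem_center_iff.mpr fun g => by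
    obtain ⟨g, rfl⟩ := ψ.surjective g
    rw [← map_mul, ← map_mul, Subgroup.mem_center_iff.mp hz g]
  -- an invariant subgroup containing the centre
  have key : ∀ A : Subgroup T, Z ≤ A → (∀ a ∈ A, ψ a ∈ A) → ∀ v, v ∉ A →
      Nat.card ↥(A ⊔ Subgroup.zpowers v ⊔ Subgroup.zpowers (ψ v)) = 4 * Nat.card A := by
    intro A hZA hAψ v hv
    haveI := normal_of_comm fun a b => hZA (hc a b)
    haveI : (A ⊔ Subgroup.zpowers v).Normal :=
      normal_of_comm fun a b => Subgroup.mem_sup_left (hZA (hc a b))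
    have h1 : ψ v ∉ A ⊔ Subgroup.zpowers v := by
      intro hm
      have hback : ψ v ∈ A → v ∈ A := fun hm' => by
        have := hAψ _ (hAψ _ hm'); rwa [h.three] at this
      rcases mem_adj (hZA (hsq v)) hm with h2 | h2
      · exact hv (hback h2)
      · refine hv (hback ?_)
        have h3 := hAψ _ h2
        rw [map_mul, map_inv, h.two v] at h3
        have h4 := mul_mem h3 h2
        rw [show (v * ψ v)⁻¹ * (ψ v)⁻¹ * (ψ v * v⁻¹) = (ψ v)⁻¹ * (v * v)⁻¹ by group] at h4
        exact inv_mem_iff.mp ((Subgroup.mul_mem_cancel_right A (inv_mem (hZA (hsq v)))).mp h4)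
    rw [card_adj (Subgroup.mem_sup_left (hZA (hsq _))) h1, card_adj (hZA (hsq v)) hv]
    ring
  have hEψ : ∀ a ∈ Z ⊔ Subgroup.zpowers u ⊔ Subgroup.zpowers (ψ u),
      ψ a ∈ Z ⊔ Subgroup.zpowers u ⊔ Subgroup.zpowers (ψ u) := by
    set E := Z ⊔ Subgroup.zpowers u ⊔ Subgroup.zpowers (ψ u)
    have hle : E ≤ E.comap ψ.toMonoidHom := by
      refine sup_le (sup_le (fun z hz => Subgroup.mem_sup_left (Subgroup.mem_sup_left (hZψ z hz)))
        (Subgroup.zpowers_le.mpr (Subgroup.mem_sup_right (Subgroup.mem_zpowers _))))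
        (Subgroup.zpowers_le.mpr ?_)
      show ψ (ψ u) ∈ E
      rw [h.two u]
      exact inv_mem (mul_mem (Subgroup.mem_sup_left (Subgroup.mem_sup_right (Subgroup.mem_zpowers _)))
        (Subgroup.mem_sup_right (Subgroup.mem_zpowers _)))
    exact fun a ha => hle ha
  rw [key _ (le_sup_left.trans le_sup_left) hEψ w hw, key Z le_rfl hZψ u hu]
  ring

theorem mem_quad {ψ : MulAut T} (hc : ∀ a b : T, c a b ∈ Subgroup.center T)
    (hsq : ∀ x : T, x * x ∈ Subgroup.center T) {u g : T}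
    (hg : g ∈ Subgroup.center T ⊔ Subgroup.zpowers u ⊔ Subgroup.zpowers (ψ u)) :
    ∃ z ∈ Subgroup.center T, g = z ∨ g = z * u ∨ g = z * ψ u ∨ g = z * (u * ψ u) := by
  haveI := normal_of_comm (A := Subgroup.center T ⊔ Subgroup.zpowers u) fun a b => Subgroup.mem_sup_left (hc a b)
  rcases mem_adj (Subgroup.mem_sup_left (hsq (ψ u))) hg with h1 | h1
  · rcases mem_adj (hsq u) h1 with h2 | h2
    · exact ⟨g, h2, Or.inl rfl⟩
    · exact ⟨_, h2, Or.inr (Or.inl (by group))⟩
  · rcases mem_adj (hsq u) h1 with h2 | h2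
    · exact ⟨_, h2, Or.inr (Or.inr (Or.inl (by group)))⟩
    · exact ⟨_, h2, Or.inr (Or.inr (Or.inr (by group)))⟩

end Cfsg.Agent.Invol.FpfThree
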