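import Cfsg.Agent.Lib.Invol.S4AmalgamEdge
import Cfsg.Agent.Lib.Invol.AmalgamV

/-!
# Two groups with residue `S₃` moving both centres
-/

set_option autoImplicit false

namespace Cfsg.Agent.Invol.S4Am

open MulAction Subgroup
open Amal (cj omZ)

variable {G : Type*} [Group G]

theorem finite_nbr {P R : Subgroup G} [Finite P] (hrel : (P ⊓ R).relIndex P = 3)
    {V : Type*} [MulAction G V] {v u : V} (hv : stabilizer G v = P) (hu : stabilizer G u = R) :
    Nat.card (orbit (↥(stabilizer G v)) u) = 3 := by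
  subst hv hu
  rw [Nat.card_coe_set_eq, ← MulAction.index_stabilizer]
  have hst : stabilizer ↥(stabilizer G v) u = (stabilizer G v ⊓ stabilizer G u).subgroupOf (stabilizer G v) := by
    ext g
    simp [Subgroup.mem_subgroupOf, Subgroup.smul_def]
  rw [hst]; exact hrel

/-- The data of one side. -/
theorem side {P T : Subgroup G} [Finite P] (hTP : T ≤ P)
    (hsyl : ∃ S : Sylow 2 ↥P, (S : Subgroup ↥P) = T.subgroupOf P)
    (hq : Nonempty (↥P ⧸ Cfsg.pCore 2 ↥P ≃* Equiv.Perm (Fin 3))) :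
    T.relIndex P = 3 ∧ Cfsg.pCoreOf 2 P ≤ T ∧ ¬ (T.subgroupOf P).Normal ∧
      ∀ g ∈ P, ∀ x ∈ Cfsg.pCoreOf 2 P, g * x * g⁻¹ ∈ Cfsg.pCoreOf 2 P := by
  haveI : Fact (Nat.Prime 2) := ⟨Nat.prime_two⟩
  obtain ⟨S, hS⟩ := hsyl
  obtain ⟨e⟩ := hq
  set Q := Cfsg.pCore 2 ↥P with hQ
  have hidx : Q.index = 6 := by
    rw [Subgroup.index_eq_card, Nat.card_congr e.toEquiv, Nat.card_perm, Nat.card_fin]; rfl
  have hQS : Q ≤ T.subgroupOf P := hS ▸ Transfer.pCore_le_sylow S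
  have hdvd : (T.subgroupOf P).index ∣ 6 := hidx ▸ Subgroup.index_dvd_of_le hQS
  have hodd : ¬ 2 ∣ (T.subgroupOf P).index := hS ▸ S.not_dvd_index
  have hnn : ¬ (T.subgroupOf P).Normal := by
    intro hn
    haveI : (T.subgroupOf P).Normal := hn
    have h1 : T.subgroupOf P ≤ Q :=
      le_sSup ⟨hn, hS ▸ S.isPGroup'⟩
    have := le_antisymm h1 hQS
    rw [this, hidx] at hodd
    exact hodd (by norm_num)
  refine ⟨?_, ?_, hnn, ?_⟩
  · have h6 : (T.subgroupOf P).index ≤ 6 := Nat.le_of_dvd (by norm_num) hdvd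
    have h1 : (T.subgroupOf P).index ≠ 1 := fun e1 => hnn (by rw [Subgroup.index_eq_one.mp e1]; infer_instance)
    rw [Subgroup.relIndex]
    interval_cases hk : (T.subgroupOf P).index <;> omega
  · rintro _ ⟨x, hx, rfl⟩
    exact mem_subgroupOf.mp (hQS hx)
  · rintro g hg _ ⟨x, hx, rfl⟩
    haveI hn : Q.Normal := sSup_normal_of_all _ fun K hK => hK.1
    exact ⟨_, hn.conj_mem x hx ⟨g, hg⟩, rfl⟩
where
  sSup_normal_of_all {H : Type _} [Group H] (s : Set (Subgroup H)) (hs : ∀ K ∈ s, K.Normal) : (sSup s).Normal := by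
    rw [sSup_eq_iSup']
    exact @Subgroup.iSup_normal _ _ _ _ fun K => hs K.1 K.2

theorem pair {G : Type*} [Group G] (P₁ P₂ : Subgroup G) [Finite ↥P₁] [Finite ↥P₂] (hgen : P₁ ⊔ P₂ = ⊤)
    (T : Subgroup G) (hT : T = P₁ ⊓ P₂)
    (h₁ : ∀ P ∈ ({P₁, P₂} : Set (Subgroup G)),
      P ⊓ Subgroup.centralizer (Cfsg.pCoreOf 2 P : Set G) ≤ Cfsg.pCoreOf 2 P)
    (h₂ : ∀ P ∈ ({P₁, P₂} : Set (Subgroup G)), ∃ S : Sylow 2 ↥P, (S : Subgroup ↥P) = T.subgroupOf P)
    (h₃ : ∀ N : Subgroup G, N.Normal → N ≤ T → N = ⊥)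
    (h₄ : ∀ P ∈ ({P₁, P₂} : Set (Subgroup G)), Nonempty (↥P ⧸ Cfsg.pCore 2 ↥P ≃* Equiv.Perm (Fin 3)))
    (h₅ : ∀ P ∈ ({P₁, P₂} : Set (Subgroup G)),
      ¬ P ≤ Subgroup.centralizer (Cfsg.omegaOne 2 (T ⊓ Subgroup.centralizer (T : Set G)) : Set G)) :
    (Nonempty (↥P₁ ≃* Equiv.Perm (Fin 4)) ∧ Nonempty (↥P₂ ≃* Equiv.Perm (Fin 4))) ∨
      (Nonempty (↥P₁ ≃* Multiplicative (ZMod 2) × Equiv.Perm (Fin 4)) ∧
        Nonempty (↥P₂ ≃* Multiplicative (ZMod 2) × Equiv.Perm (Fin 4))) := by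
  have hm1 : P₁ ∈ ({P₁, P₂} : Set (Subgroup G)) := Set.mem_insert _ _
  have hm2 : P₂ ∈ ({P₁, P₂} : Set (Subgroup G)) := Set.mem_insert_of_mem _ rfl
  obtain ⟨hr1, hQ1, hnn1, hcj1⟩ := side (hT ▸ inf_le_left : T ≤ P₁) (h₂ _ hm1) (h₄ _ hm1)
  obtain ⟨hr2, hQ2, hnn2, hcj2⟩ := side (hT ▸ inf_le_right : T ≤ P₂) (h₂ _ hm2) (h₄ _ hm2)
  have hA : Cfsg.IsAmalgamPair P₁ P₂ := by
    refine ⟨hgen, fun e => ?_, fun e => ?_, fun N hN hNn => h₃ N hNn (hT ▸ hN)⟩
    · rw [hT, e, top_inf_eq, Subgroup.relIndex_self] at hr2; omega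
    · rw [hT, e, inf_top_eq, Subgroup.relIndex_self] at hr1; omega
  set a : Cfsg.CosetVertex P₁ P₂ := Sum.inl ((1 : G) : G ⧸ P₁) with ha
  set b : Cfsg.CosetVertex P₁ P₂ := Sum.inr ((1 : G) : G ⧸ P₂) with hb
  have hsa : stabilizer G a = P₁ := by rw [ha, stabilizer_inl, Invol.map_conj_one]
  have hsb : stabilizer G b = P₂ := by rw [hb, stabilizer_inr, Invol.map_conj_one]
  set adj : Cfsg.CosetVertex P₁ P₂ → Cfsg.CosetVertex P₁ P₂ → Prop := (Cfsg.cosetGraph P₁ P₂).Adj with hadjdef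
  have hab : adj a b := Invol.adj_one
  have hedge : ∀ u v, adj u v → ∃ g : G, (g • a = u ∧ g • b = v) ∨ (g • b = u ∧ g • a = v) := by
    intro u v huv
    obtain ⟨x, ⟨rfl, rfl⟩ | ⟨rfl, rfl⟩⟩ := Invol.adj_iff.mp huv
    · exact ⟨x, Or.inl ⟨smul_inl_one x, smul_inr_one x⟩⟩
    · exact ⟨x, Or.inr ⟨smul_inr_one x, smul_inl_one x⟩⟩
  have hvert : ∀ v : Cfsg.CosetVertex P₁ P₂, ∃ g : G, g • a = v ∨ g • b = v := by
    rintro (q | q) <;> induction q using QuotientGroup.induction_on with | _ x => ?_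
    · exact ⟨x, Or.inl (smul_inl_one x)⟩
    · exact ⟨x, Or.inr (smul_inr_one x)⟩
  -- neighbours of the base vertices form one orbit
  have horbA : ∀ w, adj a w ↔ w ∈ orbit (↥(stabilizer G a)) b := by
    intro w
    constructor
    · intro hw
      obtain ⟨g, ⟨e1, e2⟩ | ⟨e1, -⟩⟩ := hedge a w hw
      · exact ⟨⟨g, e1⟩, e2⟩
      · rw [ha, hb, smul_inr_one] at e1; exact absurd e1 (by simp)
    · rintro ⟨g, rfl⟩
      have := Invol.adj_smul (g : G) hab
      rwa [mem_stabilizer_iff.mp g.2] at this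
  have horbB : ∀ w, adj b w ↔ w ∈ orbit (↥(stabilizer G b)) a := by
    intro w
    constructor
    · intro hw
      obtain ⟨g, ⟨e1, -⟩ | ⟨e1, e2⟩⟩ := hedge b w hw
      · rw [ha, hb, smul_inl_one] at e1; exact absurd e1 (by simp)
      · exact ⟨⟨g, e1⟩, e2⟩
    · rintro ⟨g, rfl⟩
      have := Invol.adj_smul (g : G) hab.symm
      rwa [mem_stabilizer_iff.mp g.2] at this
  have hT' : T = stabilizer G a ⊓ stabilizer G b := by rw [hsa, hsb, hT]
  have hcard : ∀ v, Nat.card {u // adj v u} = 3 := by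
    have base : Nat.card {u // adj a u} = 3 ∧ Nat.card {u // adj b u} = 3 := by
      constructor
      · rw [Nat.card_congr (Equiv.subtypeEquivRight horbA)]
        exact finite_nbr (P := P₁) (R := P₂) (by rw [← hT]; exact hr1) hsa hsb
      · rw [Nat.card_congr (Equiv.subtypeEquivRight horbB)]
        exact finite_nbr (P := P₂) (R := P₁) (by rw [inf_comm, ← hT]; exact hr2) hsb hsa
    intro v
    obtain ⟨g, hg⟩ := hvert v
    have key : ∀ c, g • c = v → Nat.card {u // adj c u} = Nat.card {u // adj v u} := by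
      rintro c rfl
      refine Nat.card_congr ((MulAction.toPerm g).subtypeEquiv fun u => ⟨fun hu => Invol.adj_smul g hu, fun hu => ?_⟩)
      have := Invol.adj_smul g⁻¹ hu
      simpa using this
    rcases hg with e | e
    · rw [← key a e]; exact base.1
    · rw [← key b e]; exact base.2
  have hQle : ∀ (c : Cfsg.CosetVertex P₁ P₂) (P : Subgroup G), stabilizer G c = P →
      (∀ g ∈ P, ∀ x ∈ Cfsg.pCoreOf 2 P, g * x * g⁻¹ ∈ Cfsg.pCoreOf 2 P) →
      (∃ d, adj c d ∧ Cfsg.pCoreOf 2 P ≤ stabilizer G d ∧ ∀ w, adj c w → w ∈ orbit (↥(stabilizer G c)) d) →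
      Cfsg.pCoreOf 2 P ≤ Q G adj c := by
    rintro c P hc hcj ⟨d, -, hd2, hd3⟩ x hx
    refine mem_Q.mpr ⟨?_, fun w hw => ?_⟩
    · have : x ∈ stabilizer G c := hc ▸ (Subgroup.map_subtype_le _ hx)
      exact this
    · obtain ⟨g, rfl⟩ := hd3 w hw
      have h1 := hd2 (hcj (g : G)⁻¹ (inv_mem (hc ▸ g.2)) x hx)
      rw [inv_inv, mem_stabilizer_iff, mul_smul, mul_smul, inv_smul_eq_iff] at h1
      exact h1
  have hQa : Cfsg.pCoreOf 2 P₁ ≤ Q G adj a := hQle a P₁ hsa hcj1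
    ⟨b, hab, hQ1.trans (hT'.le.trans inf_le_right), fun w hw => (horbA w).mp hw⟩
  have hQb : Cfsg.pCoreOf 2 P₂ ≤ Q G adj b := hQle b P₂ hsb hcj2
    ⟨a, hab.symm, hQ2.trans (hT'.le.trans inf_le_left), fun w hw => (horbB w).mp hw⟩
  have hQnorm : ∀ (c : Cfsg.CosetVertex P₁ P₂) (g : G), g ∈ stabilizer G c → ∀ q ∈ Q G adj c, g * q * g⁻¹ ∈ Q G adj c := by
    intro c g hg q hq
    rw [mem_Q] at hq ⊢
    refine ⟨?_, fun w hw => ?_⟩
    · rw [mul_smul, mul_smul, inv_smul_eq_iff.mpr (mem_stabilizer_iff.mp hg).symm, hq.1, mem_stabilizer_iff.mp hg]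
    · have h1 := Invol.adj_smul g⁻¹ hw
      rw [inv_smul_eq_iff.mpr (mem_stabilizer_iff.mp hg).symm] at h1
      rw [mul_smul, mul_smul, hq.2 _ h1, smul_inv_smul]
  have hnfix : ∀ {v u}, adj v u → ¬ S4Am.T G v u ≤ Q G adj v := by
    have base : ∀ (c d : Cfsg.CosetVertex P₁ P₂) (P : Subgroup G), adj c d → stabilizer G c = P →
        S4Am.T G c d = T → ¬ (T.subgroupOf P).Normal → ¬ S4Am.T G c d ≤ Q G adj c := by
      intro c d P hcd hc hTcd hnn hle
      refine hnn ⟨fun x hx g => mem_subgroupOf.mpr ?_⟩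
      rw [← hTcd]
      exact Q_le_T hcd (hQnorm c g (hc ▸ g.2) _ (hle (hTcd.symm ▸ mem_subgroupOf.mp hx)))
    intro v u huv hle
    obtain ⟨g, ⟨rfl, rfl⟩ | ⟨rfl, rfl⟩⟩ := hedge v u huv
    · refine base a b P₁ hab hsa hT'.symm hnn1 fun t ht => ?_
      rw [mem_Q]
      have h2 : g * t * g⁻¹ ∈ S4Am.T G (g • a) (g • b) := by rw [T_smul]; exact ⟨t, ht, rfl⟩
      obtain ⟨h3, h4⟩ := mem_Q.mp (hle h2)
      refine ⟨by simpa [mul_smul] using h3, fun w hw => by simpa [mul_smul] using h4 (g • w) (Invol.adj_smul g hw)⟩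
    · refine base b a P₂ hab.symm hsb (by rw [hT', S4Am.T, inf_comm]) hnn2 fun t ht => ?_
      rw [mem_Q]
      have h2 : g * t * g⁻¹ ∈ S4Am.T G (g • b) (g • a) := by rw [T_smul]; exact ⟨t, ht, rfl⟩
      obtain ⟨h3, h4⟩ := mem_Q.mp (hle h2)
      refine ⟨by simpa [mul_smul] using h3, fun w hw => by simpa [mul_smul] using h4 (g • w) (Invol.adj_smul g hw)⟩
  have hchar : ∀ v, stabilizer G v ⊓ centralizer (Q G adj v : Set G) ≤ Q G adj v := by
    have basea : stabilizer G a ⊓ centralizer (Q G adj a : Set G) ≤ Q G adj a := fun x hx =>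
      hQa (h₁ _ hm1 ⟨hsa.le hx.1, centralizer_le (SetLike.coe_subset_coe.mpr hQa) hx.2⟩)
    have baseb : stabilizer G b ⊓ centralizer (Q G adj b : Set G) ≤ Q G adj b := fun x hx =>
      hQb (h₁ _ hm2 ⟨hsb.le hx.1, centralizer_le (SetLike.coe_subset_coe.mpr hQb) hx.2⟩)
    have key : ∀ (g : G) (c : Cfsg.CosetVertex P₁ P₂),
        stabilizer G c ⊓ centralizer (Q G adj c : Set G) ≤ Q G adj c →
        stabilizer G (g • c) ⊓ centralizer (Q G adj (g • c) : Set G) ≤ Q G adj (g • c) := by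
      intro g c hbase x hx
      obtain ⟨hx1, hx2⟩ := hx
      have h1 : g⁻¹ * x * g ∈ stabilizer G c := mem_stabilizer_iff.mpr (by
        rw [mul_smul, mul_smul, mem_stabilizer_iff.mp hx1, inv_smul_smul])
      have h2 : g⁻¹ * x * g ∈ centralizer (Q G adj c : Set G) := mem_centralizer_iff.mpr fun q hq => by
        have hq' : g * q * g⁻¹ ∈ Q G adj (g • c) := by
          obtain ⟨h3, h4⟩ := mem_Q.mp hq
          refine mem_Q.mpr ⟨by simp [mul_smul, h3], fun w hw => ?_⟩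
          have h5 : adj c (g⁻¹ • w) := by simpa using Invol.adj_smul g⁻¹ hw
          rw [mul_smul, mul_smul, h4 _ h5, smul_inv_smul]
        have := mem_centralizer_iff.mp hx2 _ hq'
        calc q * (g⁻¹ * x * g) = g⁻¹ * ((g * q * g⁻¹) * x) * g := by group
          _ = g⁻¹ * x * g * q := by rw [this]; group
      obtain ⟨h3, h4⟩ := mem_Q.mp (hbase ⟨h1, h2⟩)
      refine mem_Q.mpr ⟨mem_stabilizer_iff.mp hx1, fun w hw => ?_⟩
      have h5 : adj c (g⁻¹ • w) := by simpa using Invol.adj_smul g⁻¹ hw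
      have h6 := h4 _ h5
      rw [mul_smul, mul_smul, smul_inv_smul, smul_left_cancel_iff] at h6
      exact h6
    intro v
    obtain ⟨g, rfl | rfl⟩ := hvert v
    · exact key g a basea
    · exact key g b baseb
  have hmoved : ∀ {v u}, adj v u → ¬ stabilizer G v ≤ centralizer (E G v u : Set G) := by
    have base : ∀ (c d : Cfsg.CosetVertex P₁ P₂) (P : Subgroup G), stabilizer G c = P → S4Am.T G c d = T →
        P ∈ ({P₁, P₂} : Set (Subgroup G)) → ¬ stabilizer G c ≤ centralizer (E G c d : Set G) := by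
      intro c d P hc hTcd hm hle
      refine h₅ P hm ?_
      rw [hc, E, omZ, hTcd] at hle
      exact hle
    intro v u huv hle
    have key : ∀ (g : G) (c d : Cfsg.CosetVertex P₁ P₂), g • c = v → g • d = u →
        stabilizer G c ≤ centralizer (E G c d : Set G) := by
      rintro g c d rfl rfl k hk
      refine mem_centralizer_iff.mpr fun e he => ?_
      have h1 : g * k * g⁻¹ ∈ stabilizer G (g • c) := mem_stabilizer_iff.mpr (by
        rw [mul_smul, mul_smul, inv_smul_smul, mem_stabilizer_iff.mp hk])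
      have h2 := mem_centralizer_iff.mp (hle h1) _ (E_smul_le g c d ⟨e, he, rfl⟩)
      simp only [MulEquiv.coe_toMonoidHom, MulAut.conj_apply] at h2
      calc e * k = g⁻¹ * ((g * e * g⁻¹) * (g * k * g⁻¹)) * g := by group
        _ = k * e := by rw [h2]; group
    obtain ⟨g, ⟨e1, e2⟩ | ⟨e1, e2⟩⟩ := hedge v u huv
    · exact base a b P₁ hsa hT'.symm hm1 (key g a b e1 e2)
    · exact base b a P₂ hsb (by rw [hT', S4Am.T, inf_comm]) hm2 (key g b a e1 e2)
  have hyp : Hyp G adj :=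
    { symm := fun h => h.symm
      smul_adj := fun g _ _ h => Invol.adj_smul g h
      conn := fun u v => (SimpleGraph.reachable_iff_reflTransGen u v).mp ((cosetGraph_connected hgen).preconnected u v)
      fin := by
        intro v
        obtain ⟨g, rfl | rfl⟩ := hvert v
        · rw [Amal.stab_smul, hsa]; exact Amal.finite_cj g P₁
        · rw [Amal.stab_smul, hsb]; exact Amal.finite_cj g P₂
      three := hcard
      trans := fun hu hw => Amal.exists_smul_neighbour hu hw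
      not_fix := hnfix
      char := hchar
      moved := hmoved
      faithful := fun huv N hN h1 h2 => Amal.eq_bot_of_normalized hA huv hN h1 h2 }
  haveI : Nonempty (Cfsg.CosetVertex P₁ P₂) := ⟨a⟩
  obtain ⟨α, β, hαβ, hres⟩ := hyp.main
  obtain ⟨g, hg⟩ := hedge α β hαβ
  have e1 : ↥(stabilizer G (g • a)) ≃* ↥P₁ := by
    rw [Amal.stab_smul, hsa]; exact (P₁.equivMapOfInjective _ (MulAut.conj g).injective).symm
  have e2 : ↥(stabilizer G (g • b)) ≃* ↥P₂ := by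
    rw [Amal.stab_smul, hsb]; exact (P₂.equivMapOfInjective _ (MulAut.conj g).injective).symm
  rcases hg with ⟨rfl, rfl⟩ | ⟨rfl, rfl⟩
  · rcases hres with ⟨⟨f1⟩, ⟨f2⟩⟩ | ⟨⟨f1⟩, ⟨f2⟩⟩
    · exact Or.inl ⟨⟨e1.symm.trans f1⟩, ⟨e2.symm.trans f2⟩⟩
    · exact Or.inr ⟨⟨e1.symm.trans f1⟩, ⟨e2.symm.trans f2⟩⟩
  · rcases hres with ⟨⟨f1⟩, ⟨f2⟩⟩ | ⟨⟨f1⟩, ⟨f2⟩⟩
    · exact Or.inl ⟨⟨e1.symm.trans f2⟩, ⟨e2.symm.trans f1⟩⟩
    · exact Or.inr ⟨⟨e1.symm.trans f2⟩, ⟨e2.symm.trans f1⟩⟩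

end Cfsg.Agent.Invol.S4Am
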