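import Cfsg.Agent.Lib.Invol.StrongAlperin
import Cfsg.Agent.Lib.Transfer.Fusion

/-!
Conjugacy functors `W` with a central functor `V`: from local control to global control.
-/

set_option autoImplicit false

open scoped Pointwise commutatorElement

namespace Cfsg.Agent.Invol.CentralControl

open Subgroup
open Cfsg.Agent.Invol.WCProduct
open Cfsg.Agent.Invol.StrongAlperin

universe u

variable {G : Type u} [Group G] [Finite G] {p : ℕ} [hp : Fact p.Prime]

/-- Every conjugate inside `P` contains its centralizer in `P`. -/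
def Cen (P : Sylow p G) (T : Subgroup G) : Prop :=
  ∀ k : G, T.map (MulAut.conj k).toMonoidHom ≤ (P : Subgroup G) →
    (P : Subgroup G) ⊓ centralizer ((T.map (MulAut.conj k).toMonoidHom : Subgroup G) : Set G) ≤
      T.map (MulAut.conj k).toMonoidHom

omit [Finite G] hp in
theorem Cen.conj {P : Sylow p G} {T : Subgroup G} (h : Cen P T) (g : G) :
    Cen P (T.map (MulAut.conj g).toMonoidHom) := by
  intro k hk
  rw [conj_map_trans] at hk ⊢
  exact h _ hk

omit [Finite G] hp in
theorem Cen.mono {P : Sylow p G} {T U : Subgroup G} (h : Cen P T) (hTU : T ≤ U) : Cen P U := by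
  intro k hk
  exact (inf_le_inf_left _ (centralizer_le (map_mono hTU))).trans
    ((h k ((map_mono hTU).trans hk)).trans (map_mono hTU))

omit [Finite G] hp in
theorem Cen.center_le {P : Sylow p G} {T : Subgroup G} (h : Cen P T) (hT : T ≤ (P : Subgroup G)) :
    (P : Subgroup G) ⊓ centralizer ((P : Subgroup G) : Set G) ≤ T ⊓ centralizer (T : Set G) := by
  have h1 := h 1 (by rwa [conj_map_one])
  rw [conj_map_one] at h1
  have h2 : (P : Subgroup G) ⊓ centralizer ((P : Subgroup G) : Set G) ≤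
      (P : Subgroup G) ⊓ centralizer (T : Set G) := inf_le_inf_left _ (centralizer_le hT)
  exact le_inf (h2.trans h1) (h2.trans inf_le_right)

theorem cen_of_good {P : Sylow p G} {H : Subgroup G} (h : Good P H) : Cen P H := by
  obtain ⟨C, hC⟩ : ∃ C, C = centralizer (H : Set G) := ⟨_, rfl⟩
  have hCn : normalizer (H : Set G) ≤ normalizer (C : Set G) := hC ▸ fun x hx => by
    refine mem_normalizer_of_conj ?_
    rw [map_conj_centralizer, wc_map_conj_eq_iff.mpr hx]
  have hS := sylow_of_normal (K := C) h.full (hC ▸ centralizer_le_normalizer _) hCn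
  intro k hk
  obtain ⟨Y, hY⟩ : ∃ Y, Y = (P : Subgroup G) ⊓
      centralizer ((H.map (MulAut.conj k).toMonoidHom : Subgroup G) : Set G) := ⟨_, rfl⟩
  obtain ⟨Y', hY'⟩ : ∃ Y', Y' = Y.map (MulAut.conj k⁻¹).toMonoidHom := ⟨_, rfl⟩
  have hYC : Y' ≤ C := by
    have e : C = (centralizer ((H.map (MulAut.conj k).toMonoidHom : Subgroup G) : Set G)).map
        (MulAut.conj k⁻¹).toMonoidHom := by
      rw [map_conj_centralizer, conj_map_trans, inv_mul_cancel, conj_map_one, hC]
    rw [hY', e, hY]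
    exact map_mono inf_le_right
  have hYp : IsPGroup p Y' := hY' ▸ (P.isPGroup'.to_le (hY ▸ inf_le_left)).map _
  obtain ⟨V, hV⟩ := (hYp.comap_subtype (K := C)).exists_le_sylow
  obtain ⟨c, hc, hcV⟩ := hS.conj (Grp.isSylowIn_iff.mpr ⟨V, rfl⟩)
  have hYH : Y' ≤ H := by
    intro y hy
    have h1 : y ∈ (V : Subgroup ↥C).map C.subtype := ⟨⟨y, hYC hy⟩, hV hy, rfl⟩
    rw [← hcV, mem_pointwise_smul_iff_inv_smul_mem] at h1
    have h2 : (MulAut.conj c)⁻¹ • y = c⁻¹ * y * c := by simp [MulAut.smul_def]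
    rw [h2] at h1
    have hH : c⁻¹ * y * c ∈ H := h.centric (hC ▸ h1)
    have hcc := mem_centralizer_iff.mp (hC ▸ hc : c ∈ centralizer (H : Set G)) _ hH
    have : y = c⁻¹ * y * c := by
      calc y = c * (c⁻¹ * y * c) * c⁻¹ := by group
        _ = (c⁻¹ * y * c) * c * c⁻¹ := by rw [hcc]
        _ = c⁻¹ * y * c := by group
    rwa [this]
  rw [← hY]
  intro y hy
  have h1 := hYH (hY'.ge (mem_map_of_mem _ hy))
  exact ⟨_, h1, by simp [mul_assoc]⟩

/-- A subgroup of `P` containing the center, with Sylow normalizer and centric normalizer in `P`. -/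
structure Local (P : Sylow p G) (H : Subgroup G) : Prop where
  center_le : (P : Subgroup G) ⊓ centralizer ((P : Subgroup G) : Set G) ≤ H
  le : H ≤ (P : Subgroup G)
  full : ¬ p ∣ ((P : Subgroup G) ⊓ normalizer (H : Set G)).relIndex (normalizer (H : Set G))
  cen : Cen P ((P : Subgroup G) ⊓ normalizer (H : Set G))

theorem Local.of_good {P : Sylow p G} {H : Subgroup G} (h : Good P H) : Local P H :=
  ⟨((cen_of_good h).center_le h.le).trans inf_le_left, h.le, h.full,
    (cen_of_good h).mono (le_inf h.le le_normalizer)⟩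

omit hp in
theorem Local.sylow {P : Sylow p G} {H : Subgroup G} (h : Local P H) :
    Grp.IsSylowIn p ((P : Subgroup G) ⊓ normalizer (H : Set G)) (normalizer (H : Set G)) :=
  ⟨inf_le_right, P.isPGroup'.to_le inf_le_left, h.full⟩

omit [Finite G] hp in
theorem sylow_le_normalizer {P : Sylow p G} {W : Subgroup G → Subgroup G}
    (hW : Cfsg.IsConjugacyFunctor p W) {T : Subgroup G} (hT : IsPGroup p T) :
    normalizer (T : Set G) ≤ normalizer ((W T : Subgroup G) : Set G) :=
  fun g hg => by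
    have := (hW T hT).2.2 g
    rw [wc_map_conj_eq_iff.mpr hg] at this
    exact wc_map_conj_eq_iff.mp this.symm

/-- Data for the passage from `H` to a subgroup with larger normalizer. -/
structure Up (P : Sylow p G) (W : Subgroup G → Subgroup G) (Φ : Subgroup G → Prop) (T : Subgroup G)
    (h : G) : Prop where
  image : rc h (((P : Subgroup G) ⊓ normalizer ((W T : Subgroup G) : Set G) : Subgroup G) : Set G) ⊆
    (((P : Subgroup G) ⊓ normalizer (((W T).map (MulAut.conj h⁻¹).toMonoidHom : Subgroup G) : Set G) :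
      Subgroup G) : Set G)
  le : T ≤ (P : Subgroup G) ⊓ normalizer ((W T : Subgroup G) : Set G)
  phi : Φ ((W T).map (MulAut.conj h⁻¹).toMonoidHom)
  steps : ∀ Hi, Good P Hi →
    Nat.card ↥((P : Subgroup G) ⊓ normalizer ((W T : Subgroup G) : Set G)) ≤ Nat.card Hi → Φ Hi

/-- The induction on the index of the normalizer in `P`. -/
theorem local_induct {P : Sylow p G} {W : Subgroup G → Subgroup G} (hW : Cfsg.IsConjugacyFunctor p W)
    (hWZ : ∀ H : Subgroup G, IsPGroup p ↥H → H ⊓ centralizer ((H : Subgroup G) : Set G) ≤ W H)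
    (Φ : Subgroup G → Prop)
    (hstep : ∀ H, Local P H → ((P : Subgroup G) ⊓ normalizer (H : Set G) = P ∨
      ∃ h, Up P W Φ ((P : Subgroup G) ⊓ normalizer (H : Set G)) h) → Φ H) :
    ∀ H, Local P H → Φ H := by
  suffices h : ∀ (d : ℕ) (H : Subgroup G), Local P H →
      Nat.card ↥(P : Subgroup G) - Nat.card ↥((P : Subgroup G) ⊓ normalizer (H : Set G)) = d → Φ H from
    fun H hH => h _ H hH rfl
  intro d
  induction d using Nat.strong_induction_on with
  | _ d ih =>
    intro H hH hd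
    obtain ⟨T, hT⟩ : ∃ T, T = (P : Subgroup G) ⊓ normalizer (H : Set G) := ⟨_, rfl⟩
    rw [← hT] at hd
    refine hstep H hH ?_
    rw [← hT]
    by_cases hTP : T = (P : Subgroup G)
    · exact Or.inl hTP
    refine Or.inr ?_
    have hTle : T ≤ (P : Subgroup G) := hT ▸ inf_le_left
    have hTp : IsPGroup p T := P.isPGroup'.to_le hTle
    have hTcen : Cen P T := hT ▸ hH.cen
    obtain ⟨D, hD⟩ : ∃ D, D = W T := ⟨_, rfl⟩
    obtain ⟨T2, hT2⟩ : ∃ T2, T2 = (P : Subgroup G) ⊓ normalizer (D : Set G) := ⟨_, rfl⟩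
    have hlt : Nat.card T < Nat.card T2 := by
      have h1 := Transfer.lt_inf_normalizer P (lt_of_le_of_ne hTle hTP)
      have h2 : (P : Subgroup G) ⊓ normalizer (T : Set G) ≤ T2 := by
        rw [hT2, hD]
        exact inf_le_inf_left _ (sylow_le_normalizer (P := P) hW hTp)
      refine lt_of_not_ge fun h => (h1.trans_le h2).ne (eq_of_le_of_card_ge (h1.le.trans h2) h)
    have hTT2 : T ≤ T2 := by
      rw [hT2, hD]
      exact le_inf hTle (le_normalizer.trans (sylow_le_normalizer (P := P) hW hTp))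
    obtain ⟨U, hU⟩ := ((P.isPGroup'.to_le (hT2 ▸ inf_le_left : T2 ≤ (P : Subgroup G))).comap_subtype
      (K := normalizer (D : Set G))).exists_le_sylow
    obtain ⟨S, hS⟩ := (U.isPGroup'.map (normalizer (D : Set G)).subtype).exists_le_sylow
    obtain ⟨h₀, hh₀⟩ := MulAction.exists_smul_eq G S P
    obtain ⟨h, hh⟩ : ∃ h, h = h₀⁻¹ := ⟨_, rfl⟩
    have hSP : ∀ z ∈ (S : Subgroup G), h⁻¹ * z * h ∈ (P : Subgroup G) := fun z hz => by
      rw [← hh₀, Transfer.mem_smul_sylow, hh]
      simpa [mul_assoc] using hz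
    have hT2S : T2 ≤ (S : Subgroup G) := fun z hz =>
      hS ⟨⟨z, ((hT2.le hz) : z ∈ (P : Subgroup G) ⊓ normalizer (D : Set G)).2⟩, hU hz, rfl⟩
    obtain ⟨D', hD'⟩ : ∃ D', D' = D.map (MulAut.conj h⁻¹).toMonoidHom := ⟨_, rfl⟩
    obtain ⟨T', hT'⟩ : ∃ T', T' = T.map (MulAut.conj h⁻¹).toMonoidHom := ⟨_, rfl⟩
    have hT'P : T' ≤ (P : Subgroup G) := by
      rw [hT']
      rintro _ ⟨z, hz, rfl⟩
      simpa using hSP z (hT2S (hTT2 hz))
    have hT'p : IsPGroup p T' := P.isPGroup'.to_le hT'P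
    have hWT' : W T' = D' := by rw [hT', (hW T hTp).2.2, hD', hD]
    have hcen' : Cen P T' := hT' ▸ hTcen.conj _
    have himage : rc h (T2 : Set G) ⊆ (((P : Subgroup G) ⊓ normalizer (D' : Set G) : Subgroup G) : Set G) := by
      rintro _ ⟨z, hz, rfl⟩
      refine ⟨hSP z (hT2S hz), ?_⟩
      rw [hD', ← map_conj_normalizer]
      exact ⟨z, ((hT2.le hz) : z ∈ (P : Subgroup G) ⊓ normalizer (D : Set G)).2, by simp⟩
    have hfull : ¬ p ∣ ((P : Subgroup G) ⊓ normalizer (D' : Set G)).relIndex (normalizer (D' : Set G)) := by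
      obtain ⟨U', hU'⟩ : ∃ U', U' = (U : Subgroup ↥(normalizer (D : Set G))).map
          (normalizer (D : Set G)).subtype := ⟨_, rfl⟩
      have hUs := Grp.isSylowIn_iff.mpr ⟨U, hU'.symm⟩
      have hle : U'.map (MulAut.conj h⁻¹).toMonoidHom ≤ (P : Subgroup G) ⊓ normalizer (D' : Set G) := by
        refine le_inf ?_ ?_
        · rintro _ ⟨z, hz, rfl⟩
          simpa using hSP z (hS (hU' ▸ hz))
        · rw [hD', ← map_conj_normalizer]
          exact map_mono hUs.1
      intro hd'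
      apply hUs.2.2
      rw [← relIndex_map_map_of_injective (f := (MulAut.conj h⁻¹).toMonoidHom) _ _ (MulAut.conj h⁻¹).injective,
        map_conj_normalizer, ← hD']
      exact hd'.trans (relIndex_dvd_of_le_left _ hle)
    have hT'N : T' ≤ (P : Subgroup G) ⊓ normalizer (D' : Set G) := by
      refine le_inf hT'P ?_
      rw [hT', hD', ← map_conj_normalizer]
      refine map_mono (hTT2.trans ?_)
      rw [hT2]
      exact inf_le_right
    have hloc' : Local P D' := by
      refine ⟨((hcen'.center_le hT'P).trans (hWT' ▸ hWZ T' hT'p)), ?_, hfull, hcen'.mono hT'N⟩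
      rw [← hWT']
      exact ((hW T' hT'p).1).trans hT'P
    have hbig : Nat.card T2 ≤ Nat.card ↥((P : Subgroup G) ⊓ normalizer (D' : Set G)) := by
      rw [← card_map_of_injective (K := T2) (f := (MulAut.conj h⁻¹).toMonoidHom) (MulAut.conj h⁻¹).injective]
      refine card_le_of_le ?_
      rw [← SetLike.coe_subset_coe, ← rc_coe]
      exact himage
    have hrec : ∀ K, Local P K → Nat.card T < Nat.card ↥((P : Subgroup G) ⊓ normalizer (K : Set G)) → Φ K := by
      intro K hK hlt'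
      refine ih _ ?_ K hK rfl
      have := card_le_of_le (inf_le_left : (P : Subgroup G) ⊓ normalizer (K : Set G) ≤ (P : Subgroup G))
      omega
    refine ⟨h, ?_, ?_, ?_, ?_⟩
    · rw [← hD, ← hD', ← hT2]; exact himage
    · rw [← hD, ← hT2]; exact hTT2
    · rw [← hD, ← hD']; exact hrec _ hloc' (hlt.trans_le hbig)
    · intro Hi hHi hcard
      rw [← hD, ← hT2] at hcard
      refine hrec _ (Local.of_good hHi) (lt_of_lt_of_le hlt (hcard.trans (card_le_of_le ?_)))
      exact le_inf hHi.le le_normalizer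

/-- A relation preserved by chains. -/
theorem rel_of_chain {P : Sylow p G} (R : Set G → G → Prop)
    (hone : ∀ X : Set G, X ⊆ (P : Set G) → R X 1)
    (htrans : ∀ (X : Set G) (a b : G), R X a → R (rc a X) b → R X (a * b)) {A : Set G} {x : G}
    (h : Chain P A x) : A ⊆ (P : Set G) →
      (∀ Hi, Good P Hi → A.ncard ≤ Nat.card Hi → ∀ (X : Set G) (z : G), z ∈ normalizer (Hi : Set G) →
        X ⊆ Hi → R X z) → R A x := by
  induction h with
  | nil A => exact fun hA _ => hone A hA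
  | @cons A H x y hs hA _ ih =>
    intro _ hstep
    have hcardA : (rc x A).ncard = A.ncard :=
      Set.ncard_image_of_injective A (fun a b hab => by simpa using hab)
    have hx : rc x A ⊆ H := rc_subset_of_normalizer hs.mem_normalizer hA
    refine htrans A x y (hstep H hs.1 ?_ A x hs.mem_normalizer hA)
      (ih (hx.trans hs.1.le) fun Hi hHi hc => hstep Hi hHi (hcardA ▸ hc))
    rw [← SetLike.coe_sort_coe, Nat.card_coe_set_eq]
    exact Set.ncard_le_ncard hA

omit hp in
theorem relIndex_pos_smul {H Q T : Subgroup G} (hQ : Grp.IsSylowIn p Q H) (hT : Grp.IsSylowIn p T H)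
    [Fact p.Prime] : ∃ g ∈ H, T = Q.map (MulAut.conj g).toMonoidHom := by
  obtain ⟨g, hg, e⟩ := hQ.conj hT
  exact ⟨g, hg, by rw [Grp.map_conj_eq_smul, e]⟩

omit [Finite G] in
theorem center_ne_bot [Finite G] (hdiv : p ∣ Nat.card G) (P : Sylow p G) :
    (P : Subgroup G) ≠ ⊥ ∧ (P : Subgroup G) ⊓ centralizer ((P : Subgroup G) : Set G) ≠ ⊥ := by
  have hd := P.dvd_card_of_dvd_card hdiv
  have hne : (P : Subgroup G) ≠ ⊥ := fun e => by
    rw [e, card_bot, Nat.dvd_one] at hd
    exact hp.out.ne_one hd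
  refine ⟨hne, fun e => ?_⟩
  haveI : Nontrivial ↥(P : Subgroup G) := (nontrivial_iff_ne_bot _).mpr hne
  obtain ⟨z, hz, hz1⟩ := (nontrivial_iff_exists_ne_one _).mp P.isPGroup'.center_nontrivial
  refine hz1 (Subtype.ext ?_)
  have : (z : G) ∈ (P : Subgroup G) ⊓ centralizer ((P : Subgroup G) : Set G) :=
    ⟨z.2, mem_centralizer_iff.mpr fun a ha => congrArg Subtype.val (mem_center_iff.mp hz ⟨a, ha⟩)⟩
  rw [e, mem_bot] at this
  exact this

/-- The centralizers of the central functor. -/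
theorem centralizer_central_le {P : Sylow p G} (hdiv : p ∣ Nat.card G) {V : Subgroup G → Subgroup G}
    (hVmono : ∀ H K : Subgroup G, IsPGroup p ↥H → IsPGroup p ↥K → H ≠ ⊥ → K ≠ ⊥ →
      H ⊓ centralizer ((H : Subgroup G) : Set G) ≤ K ⊓ centralizer ((K : Subgroup G) : Set G) → V H ≤ V K)
    {H : Subgroup G} (hH : Local P H) :
    centralizer ((V ((P : Subgroup G) ⊓ normalizer (H : Set G)) : Subgroup G) : Set G) ≤
      centralizer ((V (P : Subgroup G) : Subgroup G) : Set G) := by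
  obtain ⟨hne, hZ⟩ := center_ne_bot hdiv P
  have h1 := hH.cen.center_le inf_le_left
  exact centralizer_le (hVmono _ _ P.isPGroup' (P.isPGroup'.to_le inf_le_left) hne
    (fun e => hZ (le_bot_iff.mp (e ▸ h1.trans inf_le_left))) h1)

section Fusion

variable {P : Sylow p G} {W V : Subgroup G → Subgroup G}

/-- The permitted factors. -/
def Gen (P : Sylow p G) (W V : Subgroup G → Subgroup G) (x : G) : Prop :=
  x ∈ normalizer ((W (P : Subgroup G) : Subgroup G) : Set G) ∨
    x ∈ centralizer ((V (P : Subgroup G) : Subgroup G) : Set G)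

/-- A product of permitted factors with all partial images in `P`. -/
inductive WChain (P : Sylow p G) (W V : Subgroup G → Subgroup G) : Set G → G → Prop
  | nil (A : Set G) : A ⊆ (P : Set G) → WChain P W V A 1
  | cons {A : Set G} (x : G) {y : G} : A ⊆ (P : Set G) → Gen P W V x → WChain P W V (rc x A) y →
      WChain P W V A (x * y)

omit [Finite G] hp in
theorem WChain.subset {A : Set G} {g : G} (h : WChain P W V A g) : A ⊆ (P : Set G) := by
  cases h <;> assumption

omit [Finite G] hp in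
theorem WChain.mono {A : Set G} {g : G} (h : WChain P W V A g) :
    ∀ {B : Set G}, B ⊆ A → WChain P W V B g := by
  induction h with
  | nil A hA => exact fun hB => .nil _ (hB.trans hA)
  | cons x hA hx _ ih => exact fun hB => .cons x (hB.trans hA) hx (ih (rc_mono x hB))

omit [Finite G] hp in
theorem WChain.trans {A : Set G} {g : G} (h : WChain P W V A g) :
    ∀ {k : G}, WChain P W V (rc g A) k → WChain P W V A (g * k) := by
  induction h with
  | nil A hA => intro k hk; rw [one_mul]; rwa [rc_one] at hk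
  | @cons A x y hA hx _ ih =>
    intro k hk
    rw [mul_assoc]
    exact .cons x hA hx (ih (by rwa [← rc_mul]))

omit [Finite G] hp in
theorem WChain.single {A : Set G} {x : G} (hA : A ⊆ (P : Set G)) (hx : Gen P W V x)
    (hxA : rc x A ⊆ (P : Set G)) : WChain P W V A x := by
  have := WChain.cons x hA hx (.nil _ hxA)
  rwa [mul_one] at this

omit [Finite G] hp in
theorem WChain.inv {A : Set G} {g : G} (h : WChain P W V A g) : WChain P W V (rc g A) g⁻¹ := by
  induction h with
  | nil A hA => rw [inv_one, rc_one]; exact .nil A hA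
  | @cons A x y hA hx hy ih =>
    rw [mul_inv_rev, rc_mul]
    refine ih.trans ?_
    rw [← rc_mul, mul_inv_cancel, rc_one]
    refine WChain.single hy.subset (hx.imp inv_mem inv_mem) ?_
    rw [← rc_mul, mul_inv_cancel, rc_one]
    exact hA

/-- The decompositions wanted. -/
def WDec (P : Sylow p G) (W V : Subgroup G → Subgroup G) (A : Set G) (g : G) : Prop :=
  ∃ c ∈ centralizer A, ∃ x, WChain P W V A x ∧ g = c * x

omit [Finite G] hp in
theorem WDec.mono {A B : Set G} {g : G} (h : WDec P W V A g) (hB : B ⊆ A) : WDec P W V B g := by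
  obtain ⟨c, hc, x, hx, e⟩ := h
  exact ⟨c, centralizer_le hB hc, x, hx.mono hB, e⟩

omit [Finite G] hp in
theorem WDec.of_cent {A : Set G} {c : G} (hA : A ⊆ (P : Set G)) (hc : c ∈ centralizer A) :
    WDec P W V A c := ⟨c, hc, 1, .nil A hA, (mul_one c).symm⟩

omit [Finite G] hp in
theorem WDec.of_gen {A : Set G} {x : G} (hA : A ⊆ (P : Set G)) (hx : Gen P W V x)
    (hxA : rc x A ⊆ (P : Set G)) : WDec P W V A x :=
  ⟨1, one_mem _, x, WChain.single hA hx hxA, (one_mul x).symm⟩

omit [Finite G] hp in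
theorem WDec.trans {A : Set G} {g k : G} (h : WDec P W V A g) (h' : WDec P W V (rc g A) k) :
    WDec P W V A (g * k) := by
  obtain ⟨c, hc, x, hx, rfl⟩ := h
  obtain ⟨c', hc', x', hx', rfl⟩ := h'
  rw [rc_mul, rc_of_centralizer hc] at hx' hc'
  refine ⟨c * (x * c' * x⁻¹), mul_mem hc ?_, x * x', hx.trans hx', by group⟩
  rw [mem_centralizer_iff]
  intro a ha
  have h := mem_centralizer_iff.mp hc' _ ⟨a, ha, rfl⟩
  calc a * (x * c' * x⁻¹) = x * (x⁻¹ * a * x * c') * x⁻¹ := by group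
    _ = x * (c' * (x⁻¹ * a * x)) * x⁻¹ := by rw [h]
    _ = x * c' * x⁻¹ * a := by group

omit [Finite G] hp in
theorem WDec.inv {A : Set G} {g : G} (h : WDec P W V A g) : WDec P W V (rc g A) g⁻¹ := by
  obtain ⟨c, hc, x, hx, rfl⟩ := h
  rw [rc_mul, rc_of_centralizer hc]
  refine ⟨x⁻¹ * c⁻¹ * x, ?_, x⁻¹, hx.inv, by group⟩
  rw [mem_centralizer_iff]
  rintro _ ⟨a, ha, rfl⟩
  have h := mem_centralizer_iff.mp (inv_mem hc) a ha
  calc x⁻¹ * a * x * (x⁻¹ * c⁻¹ * x) = x⁻¹ * (a * c⁻¹) * x := by group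
    _ = x⁻¹ * (c⁻¹ * a) * x := by rw [h]
    _ = x⁻¹ * c⁻¹ * x * (x⁻¹ * a * x) := by group

omit [Finite G] hp in
theorem WDec.of_list {T : Subgroup G} (hT : T ≤ (P : Subgroup G)) :
    ∀ (l : List G) (X : Set G), (∀ k ≤ l.length, rc (l.take k).prod X ⊆ T) →
      (∀ b ∈ l, ∀ Y : Set G, Y ⊆ T → rc b Y ⊆ T → WDec P W V Y b) → WDec P W V X l.prod := by
  intro l
  induction l with
  | nil =>
    intro X h _
    refine WDec.of_cent ?_ (by simp)
    have := h 0 (by simp)
    rw [List.take_nil, List.prod_nil, rc_one] at this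
    exact this.trans hT
  | cons b l ih =>
    intro X h hb
    have h0 := h 0 (by simp)
    rw [List.take_zero, List.prod_nil, rc_one] at h0
    have h1 := h 1 (by simp)
    rw [List.take_succ_cons, List.take_zero, List.prod_singleton] at h1
    rw [List.prod_cons]
    refine (hb b List.mem_cons_self X h0 h1).trans (ih _ (fun k hk => ?_)
      (fun c hc => hb c (List.mem_cons_of_mem _ hc)))
    rw [← rc_mul, ← List.prod_cons, ← List.take_succ_cons]
    exact h (k + 1) (by simpa using hk)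

omit [Finite G] hp in
theorem WChain.exists_list {A : Set G} {x : G} (h : WChain P W V A x) :
    ∃ (n : ℕ) (b : Fin n → G), (∀ i, Gen P W V (b i)) ∧ (List.ofFn b).prod = x ∧
      ∀ k ≤ n, rc ((List.ofFn b).take k).prod A ⊆ (P : Set G) := by
  induction h with
  | nil A hA => exact ⟨0, Fin.elim0, fun i => i.elim0, by simp, fun k _ => by simpa [rc_one] using hA⟩
  | @cons A x y hA hx _ ih =>
    obtain ⟨n, b, hb, hprod, hall⟩ := ih
    refine ⟨n + 1, Fin.cons x b, fun i => Fin.cases (by simpa using hx) (fun j => by simpa using hb j) i,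
      by rw [List.ofFn_cons, List.prod_cons, hprod], fun k hk => ?_⟩
    rw [List.ofFn_cons]
    rcases k with _ | k
    · simpa [rc_one] using hA
    · rw [List.take_succ_cons, List.prod_cons, rc_mul]
      exact hall k (by omega)

/-- Strong fusion from strong fusion in local subgroups. -/
theorem strong_fusion (hdiv : p ∣ Nat.card G) (hW : Cfsg.IsConjugacyFunctor p W)
    (hV : Cfsg.IsConjugacyFunctor p V)
    (hWZ : ∀ H : Subgroup G, IsPGroup p ↥H → H ⊓ centralizer ((H : Subgroup G) : Set G) ≤ W H)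
    (hVmono : ∀ H K : Subgroup G, IsPGroup p ↥H → IsPGroup p ↥K → H ≠ ⊥ → K ≠ ⊥ →
      H ⊓ centralizer ((H : Subgroup G) : Set G) ≤ K ⊓ centralizer ((K : Subgroup G) : Set G) → V H ≤ V K)
    (hloc : ∀ H : Subgroup G, (P : Subgroup G) ⊓ centralizer ((P : Subgroup G) : Set G) ≤ H →
      H ≤ (P : Subgroup G) → ∃ Q : Subgroup G, Q ≤ normalizer (H : Set G) ∧ IsPGroup p ↥Q ∧
        ¬ p ∣ Q.relIndex (normalizer (H : Set G)) ∧
        ∀ (X : Set G) (a : G), X ⊆ Q → a ∈ normalizer (H : Set G) → rc a X ⊆ Q →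
          ∃ c ∈ normalizer (H : Set G) ⊓ centralizer X, ∃ (n : ℕ) (b : Fin n → G),
            (∀ i, b i ∈ normalizer (H : Set G) ⊓ normalizer ((W Q : Subgroup G) : Set G) ∨
              b i ∈ normalizer (H : Set G) ⊓ centralizer ((V Q : Subgroup G) : Set G)) ∧
            a = c * (List.ofFn b).prod ∧
            ∀ k : ℕ, k ≤ n → rc ((List.ofFn b).take k).prod (rc c X) ⊆ Q)
    {X : Set G} {a : G} (hX : X ⊆ (P : Set G)) (ha : rc a X ⊆ (P : Set G)) : WDec P W V X a := by
  let Φ : Subgroup G → Prop := fun H => ∀ (X : Set G) (a : G), a ∈ normalizer (H : Set G) →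
    X ⊆ (((P : Subgroup G) ⊓ normalizer (H : Set G) : Subgroup G) : Set G) →
    rc a X ⊆ (((P : Subgroup G) ⊓ normalizer (H : Set G) : Subgroup G) : Set G) → WDec P W V X a
  have hgood : ∀ Hi, Good P Hi → Φ Hi → ∀ (X : Set G) (z : G), z ∈ normalizer (Hi : Set G) →
      X ⊆ Hi → WDec P W V X z := by
    intro Hi hHi hΦ X z hz hXH
    have hle : (Hi : Set G) ⊆ (((P : Subgroup G) ⊓ normalizer (Hi : Set G) : Subgroup G) : Set G) :=
      fun x hx => ⟨hHi.le hx, le_normalizer hx⟩
    exact hΦ X z hz (hXH.trans hle) ((rc_subset_of_normalizer hz hXH).trans hle)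
  have hNP : ∀ y ∈ normalizer ((P : Subgroup G) : Set G), Gen P W V y := fun y hy =>
    Or.inl (sylow_le_normalizer (P := P) hW P.isPGroup' hy)
  have hdec : ∀ (A : Set G) (g : G), A ⊆ (P : Set G) → rc g A ⊆ (P : Set G) →
      (∀ Hi, Good P Hi → A.ncard ≤ Nat.card Hi → Φ Hi) → WDec P W V A g := by
    intro A g hA hg hΦ
    obtain ⟨c, x, y, hc, hx, hy, rfl⟩ := StrongAlperin.dec P hA hg
    rw [rc_mul, rc_mul, rc_of_centralizer hc] at hg
    have hxP : rc x A ⊆ (P : Set G) := by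
      have h := rc_subset_of_normalizer (inv_mem hy) hg
      rwa [← rc_mul, mul_inv_cancel, rc_one] at h
    rw [mul_assoc]
    refine (WDec.of_cent hA hc).trans ?_
    rw [rc_of_centralizer hc]
    refine WDec.trans ?_ (WDec.of_gen hxP (hNP y hy) hg)
    exact rel_of_chain (fun Y z => WDec P W V Y z) (fun Y hY => WDec.of_cent hY (one_mem _))
      (fun Y a b => WDec.trans) hx hA fun Hi hHi hc' => hgood Hi hHi (hΦ Hi hHi hc')
  suffices h : ∀ H, Local P H → Φ H from hdec X a hX ha fun Hi hHi _ => h Hi (Local.of_good hHi)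
  refine local_induct hW hWZ Φ fun H hH hcase => ?_
  intro X a haN hXT haT
  obtain ⟨T, hT⟩ : ∃ T, T = (P : Subgroup G) ⊓ normalizer (H : Set G) := ⟨_, rfl⟩
  rw [← hT] at hcase hXT haT
  have hTP : T ≤ (P : Subgroup G) := hT ▸ inf_le_left
  obtain ⟨Q, hQN, hQp, hQi, hQ⟩ := hloc H hH.center_le hH.le
  obtain ⟨g, hg, hgT⟩ := relIndex_pos_smul ⟨hQN, hQp, hQi⟩ (hT ▸ hH.sylow)
  have hQT : rc g (T : Set G) = Q := by
    rw [rc_coe, hgT, conj_map_trans, inv_mul_cancel, conj_map_one]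
  have hTQ : rc g⁻¹ (Q : Set G) = T := by
    rw [← hQT, ← rc_mul, mul_inv_cancel, rc_one]
  obtain ⟨c, hc, n, b, hb, hab, hpre⟩ := hQ (rc g X) (g⁻¹ * a * g) ((rc_mono g hXT).trans hQT.le)
    (mul_mem (mul_mem (inv_mem hg) haN) hg) (by
      rw [← rc_mul, show g * (g⁻¹ * a * g) = a * g by group, rc_mul]
      exact (rc_mono g haT).trans hQT.le)
  have hcX : g * c * g⁻¹ ∈ centralizer X := by
    rw [mem_centralizer_iff]
    intro u hu
    have h := mem_centralizer_iff.mp hc.2 _ ⟨u, hu, rfl⟩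
    calc u * (g * c * g⁻¹) = g * (g⁻¹ * u * g * c) * g⁻¹ := by group
      _ = g * (c * (g⁻¹ * u * g)) * g⁻¹ := by rw [h]
      _ = g * c * g⁻¹ * u := by group
  have he : a = g * c * g⁻¹ * ((List.ofFn b).map (MulAut.conj g)).prod := by
    rw [← map_list_prod, MulAut.conj_apply]
    calc a = g * (g⁻¹ * a * g) * g⁻¹ := by group
      _ = g * (c * (List.ofFn b).prod) * g⁻¹ := by rw [hab]
      _ = g * c * g⁻¹ * (g * (List.ofFn b).prod * g⁻¹) := by group
  rw [he]
  refine (WDec.of_cent (hXT.trans hTP) hcX).trans ?_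
  rw [rc_of_centralizer hcX]
  refine WDec.of_list hTP _ X (fun k hk => ?_) ?_
  · rw [← List.map_take, ← map_list_prod, MulAut.conj_apply, rc_mul, rc_mul, ← hTQ]
    refine rc_mono g⁻¹ ?_
    have h := hpre k (by simpa using hk)
    rwa [rc_of_centralizer hc.2] at h
  intro z hz Y hY hzY
  obtain ⟨w, hw, rfl⟩ := List.mem_map.mp hz
  obtain ⟨i, rfl⟩ := (List.mem_ofFn' b w).mp hw
  obtain ⟨z, hz'⟩ : ∃ z, z = MulAut.conj g (b i) := ⟨_, rfl⟩
  rw [← hz'] at hzY ⊢
  rw [MulAut.conj_apply] at hz'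
  have hQT' : Q.map (MulAut.conj g).toMonoidHom = T := hgT.symm
  rcases hb i with hi | hi
  · have hzW : z ∈ normalizer ((W T : Subgroup G) : Set G) := by
      rw [← hQT', (hW Q hQp).2.2, ← map_conj_normalizer]
      exact ⟨b i, hi.2, by simp [hz']⟩
    rcases hcase with hP | ⟨h, hup⟩
    · exact WDec.of_gen (hY.trans hTP) (Or.inl (hP ▸ hzW)) (hzY.trans hTP)
    · obtain ⟨T2, hT2⟩ : ∃ T2, T2 = (P : Subgroup G) ⊓ normalizer ((W T : Subgroup G) : Set G) := ⟨_, rfl⟩
      have him := hup.image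
      have hTT2 := hup.le
      have hst := hup.steps
      rw [← hT2] at him hTT2 hst
      have hh : WDec P W V (T2 : Set G) h := hdec _ h (hT2 ▸ inf_le_left : T2 ≤ (P : Subgroup G))
        (him.trans (inf_le_left : (P : Subgroup G) ⊓ _ ≤ _))
        fun Hi hHi hc' => hst Hi hHi (by rwa [← SetLike.coe_sort_coe, Nat.card_coe_set_eq])
      have h1 : WDec P W V Y h := hh.mono (hY.trans hTT2)
      have h3 : WDec P W V (rc h (rc z Y)) h⁻¹ := (hh.mono (hzY.trans hTT2)).inv
      have h2 : WDec P W V (rc h Y) (h⁻¹ * z * h) := by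
        refine hup.phi _ _ ?_ ((rc_mono h (hY.trans hTT2)).trans him) ?_
        · rw [← map_conj_normalizer]
          exact ⟨z, hzW, by simp⟩
        · rw [← rc_mul, show h * (h⁻¹ * z * h) = z * h by group, rc_mul]
          exact (rc_mono h (hzY.trans hTT2)).trans him
      have h4 := (h1.trans h2).trans (k := h⁻¹) (by
        rw [show h * (h⁻¹ * z * h) = z * h by group, rc_mul]; exact h3)
      rwa [show h * (h⁻¹ * z * h) * h⁻¹ = z by group] at h4
  · refine WDec.of_gen (hY.trans hTP) (Or.inr ?_) (hzY.trans hTP)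
    refine centralizer_central_le hdiv hVmono hH ?_
    rw [← hT, ← hQT', (hV Q hQp).2.2, ← map_conj_centralizer]
    exact ⟨b i, hi.2, by simp [hz']⟩

end Fusion

section Transfer

variable {P : Sylow p G} {W V : Subgroup G → Subgroup G}

/-- Transfer from transfer in local subgroups. -/
theorem transfer (hdiv : p ∣ Nat.card G) (hW : Cfsg.IsConjugacyFunctor p W)
    (hV : Cfsg.IsConjugacyFunctor p V)
    (hWZ : ∀ H : Subgroup G, IsPGroup p ↥H → H ⊓ centralizer ((H : Subgroup G) : Set G) ≤ W H)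
    (hVmono : ∀ H K : Subgroup G, IsPGroup p ↥H → IsPGroup p ↥K → H ≠ ⊥ → K ≠ ⊥ →
      H ⊓ centralizer ((H : Subgroup G) : Set G) ≤ K ⊓ centralizer ((K : Subgroup G) : Set G) → V H ≤ V K)
    (hloc : ∀ H : Subgroup G, (P : Subgroup G) ⊓ centralizer ((P : Subgroup G) : Set G) ≤ H →
      H ≤ (P : Subgroup G) → ∃ Q : Subgroup G, Q ≤ normalizer (H : Set G) ∧ IsPGroup p ↥Q ∧
        ¬ p ∣ Q.relIndex (normalizer (H : Set G)) ∧
        ∀ x : G, x ∈ Q ⊓ ⁅normalizer (H : Set G), normalizer (H : Set G)⁆ ↔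
          ∃ a ∈ Q ⊓ ⁅normalizer (H : Set G) ⊓ normalizer ((W Q : Subgroup G) : Set G),
            normalizer (H : Set G) ⊓ normalizer ((W Q : Subgroup G) : Set G)⁆,
          ∃ b ∈ Q ⊓ ⁅normalizer (H : Set G) ⊓ centralizer ((V Q : Subgroup G) : Set G),
            normalizer (H : Set G) ⊓ centralizer ((V Q : Subgroup G) : Set G)⁆, x = a * b) :
    commutator G ⊓ (P : Subgroup G) ≤
      ((P : Subgroup G) ⊓ ⁅normalizer ((W (P : Subgroup G) : Subgroup G) : Set G),
          normalizer ((W (P : Subgroup G) : Subgroup G) : Set G)⁆) ⊔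
        ((P : Subgroup G) ⊓ ⁅centralizer ((V (P : Subgroup G) : Subgroup G) : Set G),
          centralizer ((V (P : Subgroup G) : Subgroup G) : Set G)⁆) := by
  obtain ⟨A, hA⟩ : ∃ A, A = (P : Subgroup G) ⊓ ⁅normalizer ((W (P : Subgroup G) : Subgroup G) : Set G),
      normalizer ((W (P : Subgroup G) : Subgroup G) : Set G)⁆ := ⟨_, rfl⟩
  obtain ⟨B, hB⟩ : ∃ B, B = (P : Subgroup G) ⊓ ⁅centralizer ((V (P : Subgroup G) : Subgroup G) : Set G),
      centralizer ((V (P : Subgroup G) : Subgroup G) : Set G)⁆ := ⟨_, rfl⟩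
  rw [← hA, ← hB]
  let Φ : Subgroup G → Prop := fun H =>
    (P : Subgroup G) ⊓ normalizer (H : Set G) ⊓ ⁅normalizer (H : Set G), normalizer (H : Set G)⁆ ≤ A ⊔ B
  let R : Set G → G → Prop := fun X a => ∀ x ∈ X, x⁻¹ * (a⁻¹ * x * a) ∈ A ⊔ B
  have hR1 : ∀ (X : Set G) (c : G), c ∈ centralizer X → R X c := by
    intro X c hc x hx
    rw [mul_assoc c⁻¹, mem_centralizer_iff.mp hc x hx, inv_mul_cancel_left, inv_mul_cancel]
    exact one_mem _
  have hRt : ∀ (X : Set G) (a b : G), R X a → R (rc a X) b → R X (a * b) := by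
    intro X a b h h' x hx
    have := mul_mem (h x hx) (h' _ ⟨x, hx, rfl⟩)
    rwa [show x⁻¹ * (a⁻¹ * x * a) * ((a⁻¹ * x * a)⁻¹ * (b⁻¹ * (a⁻¹ * x * a) * b)) =
      x⁻¹ * ((a * b)⁻¹ * x * (a * b)) by group] at this
  have hcomm : ∀ (S : Subgroup G) (x z : G), x ∈ S → z ∈ S → x⁻¹ * (z⁻¹ * x * z) ∈ ⁅S, S⁆ := fun S x z hx hz => by
    rw [show x⁻¹ * (z⁻¹ * x * z) = ⁅x⁻¹, z⁻¹⁆ by rw [commutatorElement_def]; group]
    exact commutator_mem_commutator (inv_mem hx) (inv_mem hz)
  have hgood : ∀ Hi, Good P Hi → Φ Hi → ∀ (X : Set G) (z : G), z ∈ normalizer (Hi : Set G) →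
      X ⊆ Hi → R X z := by
    intro Hi hHi hΦ X z hz hXH x hx
    have hx' : x ∈ (P : Subgroup G) ⊓ normalizer (Hi : Set G) := ⟨hHi.le (hXH hx), le_normalizer (hXH hx)⟩
    refine hΦ (mem_inf.mpr ⟨mul_mem (inv_mem hx') ?_, hcomm _ _ _ hx'.2 hz⟩)
    have : z⁻¹ * x * z ∈ Hi := rc_subset_of_normalizer hz hXH ⟨x, hx, rfl⟩
    exact ⟨hHi.le this, le_normalizer this⟩
  have hWP := sylow_le_normalizer (P := P) hW P.isPGroup'
  have hdec : ∀ (A : Set G) (g : G), A ⊆ (P : Set G) → rc g A ⊆ (P : Set G) →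
      (∀ Hi, Good P Hi → A.ncard ≤ Nat.card Hi → Φ Hi) → R A g := by
    intro X g hX hg hΦ
    obtain ⟨c, x, y, hc, hx, hy, rfl⟩ := StrongAlperin.dec P hX hg
    rw [rc_mul, rc_mul, rc_of_centralizer hc] at hg
    have hxP : rc x X ⊆ (P : Set G) := by
      have h := rc_subset_of_normalizer (inv_mem hy) hg
      rwa [← rc_mul, mul_inv_cancel, rc_one] at h
    rw [mul_assoc]
    refine hRt X c _ (hR1 X c hc) ?_
    rw [rc_of_centralizer hc]
    refine hRt X x y ?_ fun u hu => mem_sup_left ?_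
    · exact rel_of_chain R (fun Y _ => hR1 Y 1 (one_mem _)) hRt hx hX
        fun Hi hHi hc' => hgood Hi hHi (hΦ Hi hHi hc')
    · rw [hA]
      exact mem_inf.mpr ⟨mul_mem (inv_mem (hxP hu)) (hg ⟨u, hu, rfl⟩),
        hcomm _ _ _ (hWP (le_normalizer (hxP hu))) (hWP hy)⟩
  suffices h : ∀ H, Local P H → Φ H by
    refine Transfer.commutator_inf_sylow_le P fun x hx u hu => ?_
    have := hdec {x} u⁻¹ (Set.singleton_subset_iff.mpr hx) (by
      rintro _ ⟨_, rfl, rfl⟩
      show u⁻¹⁻¹ * _ * u⁻¹ ∈ (P : Subgroup G)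
      rw [inv_inv]; exact hu)
      (fun Hi hHi _ => h Hi (Local.of_good hHi)) x rfl
    simpa using this
  refine local_induct hW hWZ Φ fun H hH hcase => ?_
  obtain ⟨T, hT⟩ : ∃ T, T = (P : Subgroup G) ⊓ normalizer (H : Set G) := ⟨_, rfl⟩
  show _ ⊓ _ ≤ _
  rw [← hT] at hcase ⊢
  have hTP : T ≤ (P : Subgroup G) := hT ▸ inf_le_left
  obtain ⟨Q, hQN, hQp, hQi, hQ⟩ := hloc H hH.center_le hH.le
  obtain ⟨g, hg, hgT⟩ := relIndex_pos_smul ⟨hQN, hQp, hQi⟩ (hT ▸ hH.sylow)
  have hNg : (normalizer (H : Set G)).map (MulAut.conj g).toMonoidHom = normalizer (H : Set G) := by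
    rw [map_conj_normalizer, wc_map_conj_eq_iff.mpr hg]
  rintro x ⟨hxT, hxN⟩
  obtain ⟨y, hyQ, hyx⟩ := (hgT ▸ hxT : x ∈ Q.map (MulAut.conj g).toMonoidHom)
  have hyN : y ∈ ⁅normalizer (H : Set G), normalizer (H : Set G)⁆ := by
    rw [← hNg, ← map_commutator, ← hyx] at hxN
    exact (mem_map_iff_mem (f := (MulAut.conj g).toMonoidHom) (MulAut.conj g).injective).mp hxN
  obtain ⟨a, ha, b, hb, hab⟩ := (hQ y).mp ⟨hyQ, hyN⟩
  rw [← hyx, hab, map_mul]
  refine mul_mem ?_ ?_
  · have h1 : (MulAut.conj g).toMonoidHom a ∈ T ⊓ ⁅normalizer (H : Set G) ⊓ normalizer ((W T : Subgroup G) : Set G),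
        normalizer (H : Set G) ⊓ normalizer ((W T : Subgroup G) : Set G)⁆ := by
      refine ⟨hgT ▸ mem_map_of_mem _ ha.1, ?_⟩
      rw [hgT, (hW Q hQp).2.2, ← map_conj_normalizer, ← hNg,
        ← map_inf_eq (f := (MulAut.conj g).toMonoidHom) _ _ (MulAut.conj g).injective, ← map_commutator]
      exact mem_map_of_mem _ ha.2
    obtain ⟨w, hw⟩ : ∃ w, w = (MulAut.conj g).toMonoidHom a := ⟨_, rfl⟩
    rw [← hw] at h1 ⊢
    rcases hcase with hP | ⟨h, hup⟩
    · refine mem_sup_left ?_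
      rw [hA]
      refine ⟨hTP h1.1, ?_⟩
      have := commutator_mono (inf_le_right : normalizer (H : Set G) ⊓ normalizer ((W T : Subgroup G) : Set G) ≤ _)
        inf_le_right h1.2
      rwa [hP] at this
    · have hwT2 := hup.le h1.1
      have hst := hup.steps
      have him := hup.image
      have hk : w⁻¹ * (h⁻¹ * w * h) ∈ A ⊔ B := hdec _ h
        (inf_le_left : (P : Subgroup G) ⊓ normalizer ((W T : Subgroup G) : Set G) ≤ _)
        (him.trans (inf_le_left : (P : Subgroup G) ⊓ _ ≤ _))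
        (fun Hi hHi hc' => hst Hi hHi (by rwa [← SetLike.coe_sort_coe, Nat.card_coe_set_eq])) w hwT2
      have h2 : h⁻¹ * w * h ∈ A ⊔ B := by
        refine hup.phi ⟨him ⟨w, hwT2, rfl⟩, ?_⟩
        rw [← map_conj_normalizer, ← map_commutator]
        exact ⟨w, commutator_mono inf_le_right inf_le_right h1.2, by simp⟩
      have := mul_mem h2 (inv_mem hk)
      rwa [show h⁻¹ * w * h * (w⁻¹ * (h⁻¹ * w * h))⁻¹ = w by group] at this
  · refine mem_sup_right ?_
    rw [hB]
    refine ⟨hTP (hgT ▸ mem_map_of_mem _ hb.1), ?_⟩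
    have hle : (normalizer (H : Set G) ⊓ centralizer ((V Q : Subgroup G) : Set G)).map (MulAut.conj g).toMonoidHom ≤
        centralizer ((V (P : Subgroup G) : Subgroup G) : Set G) := by
      refine le_trans (map_mono inf_le_right) ?_
      rw [map_conj_centralizer, ← (hV Q hQp).2.2, ← hgT, hT]
      exact centralizer_central_le hdiv hVmono hH
    refine commutator_mono hle hle ?_
    rw [← map_commutator]
    exact mem_map_of_mem _ hb.2

end Transfer

end Cfsg.Agent.Invol.CentralControl
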