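import Cfsg.Agent.Lib.Invol.ChermakDelgado
import Cfsg.Prelude.Def_PLocal

/-!
# Centrally large subgroups and abelian subgroups of largest order
-/

namespace Cfsg.Agent.Invol.CL

open scoped Pointwise commutatorElement

variable {P : Type*} [Group P] [Finite P]

theorem isMulCommutative_of_le_centralizer {H : Subgroup P}
    (h : H ≤ Subgroup.centralizer (H : Set P)) : IsMulCommutative ↥H :=
  ⟨⟨fun a b => Subtype.ext (Subgroup.mem_centralizer_iff.mp (h b.2) a a.2)⟩⟩

theorem le_centralizer_of_isMulCommutative {H : Subgroup P} (h : IsMulCommutative ↥H) :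
    H ≤ Subgroup.centralizer (H : Set P) := fun x hx =>
  Subgroup.mem_centralizer_iff.mpr fun a ha =>
    congrArg Subtype.val (h.is_comm.comm ⟨a, ha⟩ ⟨x, hx⟩)

theorem maxAbelian_centralizer {A : Subgroup P} (hA : A ∈ Cfsg.maxAbelianSubgroups P) :
    Subgroup.centralizer (A : Set P) = A := by
  refine le_antisymm (fun x hx => ?_) (le_centralizer_of_isMulCommutative hA.1)
  have hAC : A ⊔ Subgroup.zpowers x ≤
      Subgroup.centralizer ((A ⊔ Subgroup.zpowers x : Subgroup P) : Set P) := by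
    refine sup_le ?_ ?_
    · refine le_trans (le_inf (le_centralizer_of_isMulCommutative hA.1) ?_) (Invol.centralizer_sup_le _ _)
      exact Subgroup.le_centralizer_iff.mp ((Subgroup.zpowers_le).mpr hx)
    · refine le_trans (le_inf ((Subgroup.zpowers_le).mpr hx) ?_) (Invol.centralizer_sup_le _ _)
      exact le_centralizer_of_isMulCommutative inferInstance
  have := Subgroup.eq_of_le_of_card_ge le_sup_left (hA.2 _ (isMulCommutative_of_le_centralizer hAC))
  rw [this]
  exact (le_sup_right : Subgroup.zpowers x ≤ _) (Subgroup.mem_zpowers x)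

/-- An abelian subgroup of largest order times a centrally large subgroup. -/
theorem sup_maxAbelian {Q A : Subgroup P} (hQ : Cfsg.IsCentrallyLarge Q)
    (hA : A ∈ Cfsg.maxAbelianSubgroups P) :
    ((Q ⊔ A : Subgroup P) : Set P) = (Q : Set P) * (A : Set P) ∧ Cfsg.IsCentrallyLarge (Q ⊔ A) ∧
      (Q ⊔ A) ⊓ Subgroup.centralizer ((Q ⊓ A : Subgroup P) : Set P) =
        (Q ⊓ Subgroup.centralizer (Q : Set P)) ⊔ A ∧
      (((Q ⊓ Subgroup.centralizer (Q : Set P)) ⊔ A : Subgroup P) : Set P) =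
        ((Q ⊓ Subgroup.centralizer (Q : Set P)) : Set P) * (A : Set P) := by
  rw [Invol.centrallyLarge_iff] at hQ
  obtain ⟨hmax, hCQ⟩ := hQ
  have hCA := maxAbelian_centralizer hA
  set Z := Q ⊓ Subgroup.centralizer (Q : Set P) with hZ
  have hZC : Z = Subgroup.centralizer (Q : Set P) := inf_eq_right.mpr hCQ
  have hAA := le_centralizer_of_isMulCommutative hA.1
  have hZc : Z ≤ Subgroup.centralizer (Q : Set P) := inf_le_right
  set W := Z ⊔ (Q ⊓ A) with hW
  have hWab : IsMulCommutative ↥W := by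
    refine isMulCommutative_of_le_centralizer
      (sup_le (le_trans (le_inf ?_ ?_) (Invol.centralizer_sup_le _ _))
        (le_trans (le_inf ?_ ?_) (Invol.centralizer_sup_le _ _)))
    · exact hZc.trans (Subgroup.centralizer_le (SetLike.coe_subset_coe.mpr inf_le_left))
    · exact hZc.trans (Subgroup.centralizer_le (SetLike.coe_subset_coe.mpr inf_le_left))
    · exact inf_le_left.trans (Subgroup.le_centralizer_iff.mp hZc)
    · exact inf_le_right.trans (hAA.trans
        (Subgroup.centralizer_le (SetLike.coe_subset_coe.mpr inf_le_right)))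
  have hWA := hA.2 W hWab
  have hcZ := Invol.card_mul_le_card_sup Z (Q ⊓ A)
  have hZA : Z ⊓ (Q ⊓ A) = Z ⊓ A := by
    rw [← inf_assoc, inf_eq_left.mpr (inf_le_left : Z ≤ Q)]
  rw [hZA] at hcZ
  have hC : Z ⊓ A ≤ Subgroup.centralizer ((Q ⊔ A : Subgroup P) : Set P) :=
    le_trans (le_inf (inf_le_left.trans hZc) (inf_le_right.trans hAA)) (Invol.centralizer_sup_le _ _)
  have hCle : Subgroup.centralizer ((Q ⊔ A : Subgroup P) : Set P) ≤ Z ⊓ A := le_inf
    (hZC ▸ Subgroup.centralizer_le (SetLike.coe_subset_coe.mpr le_sup_left))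
    ((Subgroup.centralizer_le (SetLike.coe_subset_coe.mpr le_sup_right)).trans hCA.le)
  have hCeq := le_antisymm hCle hC
  have hcQ := Invol.card_mul_le_card_sup Q A
  have hi := hmax (Q ⊔ A)
  have hd : Invol.cdMeasure (Q ⊔ A) = Nat.card ↥(Q ⊔ A) * Nat.card ↥(Z ⊓ A) := by
    rw [Invol.cdMeasure, hCeq]
  have hdQ : Invol.cdMeasure Q = Nat.card ↥Q * Nat.card ↥Z := by rw [Invol.cdMeasure, hZC]
  rw [hd, hdQ] at hi
  have key1 : Nat.card Q * Nat.card A * Nat.card ↥(Z ⊓ A) ≤
      Nat.card ↥(Q ⊔ A) * Nat.card ↥(Q ⊓ A) * Nat.card ↥(Z ⊓ A) := Nat.mul_le_mul_right _ hcQ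
  have key2 : Nat.card ↥(Q ⊔ A) * Nat.card ↥(Z ⊓ A) * Nat.card ↥(Q ⊓ A) ≤
      Nat.card ↥Q * Nat.card ↥Z * Nat.card ↥(Q ⊓ A) := Nat.mul_le_mul_right _ hi
  have key3 : Nat.card Q * (Nat.card ↥Z * Nat.card ↥(Q ⊓ A)) ≤
      Nat.card Q * (Nat.card ↥W * Nat.card ↥(Z ⊓ A)) := Nat.mul_le_mul_left _ hcZ
  have key4 : Nat.card Q * (Nat.card ↥W * Nat.card ↥(Z ⊓ A)) ≤
      Nat.card Q * (Nat.card ↥A * Nat.card ↥(Z ⊓ A)) :=
    Nat.mul_le_mul_left _ (Nat.mul_le_mul_right _ hWA)
  have hpos : 0 < Nat.card ↥(Z ⊓ A) := Nat.card_pos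
  have heq : Nat.card Q * Nat.card A = Nat.card ↥(Q ⊔ A) * Nat.card ↥(Q ⊓ A) :=
    Nat.eq_of_mul_eq_mul_right hpos (le_antisymm key1 (by nlinarith))
  have hmeas : Invol.cdMeasure Q ≤ Invol.cdMeasure (Q ⊔ A) := by
    rw [hd, hdQ]
    exact Nat.le_of_mul_le_mul_right (by nlinarith : Nat.card ↥Q * Nat.card ↥Z * Nat.card ↥(Q ⊓ A) ≤
      Nat.card ↥(Q ⊔ A) * Nat.card ↥(Z ⊓ A) * Nat.card ↥(Q ⊓ A)) Nat.card_pos
  have hWc : Nat.card ↥W = Nat.card ↥A :=
    le_antisymm hWA (Nat.le_of_mul_le_mul_right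
      (Nat.le_of_mul_le_mul_left (by nlinarith : Nat.card Q * (Nat.card ↥A * Nat.card ↥(Z ⊓ A)) ≤
        Nat.card Q * (Nat.card ↥W * Nat.card ↥(Z ⊓ A))) Nat.card_pos) hpos)
  have hWmax : W ∈ Cfsg.maxAbelianSubgroups P := ⟨hWab, fun B hB => hWc ▸ hA.2 B hB⟩
  have hset := Invol.sup_eq_mul_of_card_le Q A heq.ge
  refine ⟨hset, (Invol.centrallyLarge_iff _).mpr
    ⟨hmax.of_ge hmeas, hCle.trans (inf_le_right.trans le_sup_right)⟩, ?_, ?_⟩
  · refine le_antisymm (fun x hx => ?_) (le_inf (sup_le (inf_le_left.trans le_sup_left) le_sup_right)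
      (sup_le (hZc.trans (Subgroup.centralizer_le (SetLike.coe_subset_coe.mpr inf_le_left)))
        (hAA.trans (Subgroup.centralizer_le (SetLike.coe_subset_coe.mpr inf_le_right)))))
    obtain ⟨q, hq, a, ha, rfl⟩ := hset.subset (show x ∈ ((Q ⊔ A : Subgroup P) : Set P) from hx.1)
    have haC : a ∈ Subgroup.centralizer ((Q ⊓ A : Subgroup P) : Set P) :=
      Subgroup.centralizer_le (SetLike.coe_subset_coe.mpr inf_le_right) (hAA ha)
    have hqC : q ∈ Subgroup.centralizer ((Q ⊓ A : Subgroup P) : Set P) := by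
      simpa [mul_assoc] using (Subgroup.centralizer ((Q ⊓ A : Subgroup P) : Set P)).mul_mem hx.2 (inv_mem haC)
    have hqW : q ∈ Subgroup.centralizer (W : Set P) :=
      Invol.centralizer_sup_le _ _ ⟨Subgroup.le_centralizer_iff.mp hZc hq, hqC⟩
    rw [maxAbelian_centralizer hWmax] at hqW
    exact mul_mem ((sup_le le_sup_left (inf_le_right.trans le_sup_right) : W ≤ Z ⊔ A) hqW)
      (Subgroup.mem_sup_right ha)
  · refine subset_antisymm (fun x hx => ?_)
      (Set.mul_subset_iff.mpr fun a ha b hb => Subgroup.mul_mem_sup ha hb)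
    have hx' : x ∈ Q ⊔ A := (sup_le (inf_le_left.trans le_sup_left) le_sup_right : Z ⊔ A ≤ Q ⊔ A) hx
    obtain ⟨q, hq, a, ha, rfl⟩ := hset.subset (show x ∈ ((Q ⊔ A : Subgroup P) : Set P) from hx')
    have haC : a ∈ Subgroup.centralizer ((Q ⊓ A : Subgroup P) : Set P) :=
      Subgroup.centralizer_le (SetLike.coe_subset_coe.mpr inf_le_right) (hAA ha)
    have hxC : q * a ∈ Subgroup.centralizer ((Q ⊓ A : Subgroup P) : Set P) :=
      (sup_le (hZc.trans (Subgroup.centralizer_le (SetLike.coe_subset_coe.mpr inf_le_left)))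
        (hAA.trans (Subgroup.centralizer_le (SetLike.coe_subset_coe.mpr inf_le_right))) :
          Z ⊔ A ≤ Subgroup.centralizer ((Q ⊓ A : Subgroup P) : Set P)) hx
    have hqC : q ∈ Subgroup.centralizer ((Q ⊓ A : Subgroup P) : Set P) := by
      simpa [mul_assoc] using (Subgroup.centralizer ((Q ⊓ A : Subgroup P) : Set P)).mul_mem hxC (inv_mem haC)
    have hqW : q ∈ Subgroup.centralizer (W : Set P) :=
      Invol.centralizer_sup_le _ _ ⟨Subgroup.le_centralizer_iff.mp hZc hq, hqC⟩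
    rw [maxAbelian_centralizer hWmax] at hqW
    -- `W` is the product of `Z` and `Q ⊓ A`
    have hWset := Invol.sup_eq_mul_of_card_le Z (Q ⊓ A) (by
      rw [hZA]
      exact Nat.le_of_mul_le_mul_left (by nlinarith : Nat.card Q * (Nat.card ↥W * Nat.card ↥(Z ⊓ A)) ≤
        Nat.card Q * (Nat.card ↥Z * Nat.card ↥(Q ⊓ A))) Nat.card_pos)
    obtain ⟨z, hz, b, hb, rfl⟩ := hWset.subset (show q ∈ (W : Set P) from hqW)
    exact ⟨z, hz, b * a, mul_mem hb.2 ha, (mul_assoc z b a).symm⟩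

/-- A centrally large subgroup joined with the Thompson subgroup is centrally large. -/
theorem sup_thompson {Q : Subgroup P} (hQ : Cfsg.IsCentrallyLarge Q) :
    Cfsg.IsCentrallyLarge (Q ⊔ Cfsg.thompsonSubgroupA P) := by
  classical
  have key : ∀ T : Set (Subgroup P), T.Finite → T ⊆ Cfsg.maxAbelianSubgroups P →
      Cfsg.IsCentrallyLarge (Q ⊔ sSup T) := by
    intro T hT
    induction T, hT using Set.Finite.induction_on with
    | empty => simpa using hQ
    | @insert a T _ _ ih =>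
      intro hsub
      rw [sSup_insert, sup_comm a, ← sup_assoc]
      exact (sup_maxAbelian (ih ((Set.subset_insert a T).trans hsub))
        (hsub (Set.mem_insert a T))).2.1
  exact key _ (Set.toFinite _) subset_rfl

theorem exists_maxAbelian (P : Type*) [Group P] [Finite P] :
    (Cfsg.maxAbelianSubgroups P).Nonempty := by
  obtain ⟨A, hA, hmax⟩ := Set.exists_max_image {B : Subgroup P | IsMulCommutative ↥B}
    (fun B => Nat.card ↥B) (Set.toFinite _) ⟨⊥, ⟨⟨fun a b => Subsingleton.elim _ _⟩⟩⟩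
  exact ⟨A, hA, hmax⟩

theorem centralizer_thompson_le :
    Subgroup.centralizer ((Cfsg.thompsonSubgroupA P : Subgroup P) : Set P) ≤
      Cfsg.thompsonSubgroupA P := by
  obtain ⟨A, hA⟩ := exists_maxAbelian P
  exact ((Subgroup.centralizer_le (SetLike.coe_subset_coe.mpr (le_sSup hA))).trans
    (maxAbelian_centralizer hA).le).trans (le_sSup hA)

/-- `C(Z(J))` lies in every centrally large subgroup containing `J`. -/
theorem centralizer_center_thompson_le {M : Subgroup P} (hM : Cfsg.IsCentrallyLarge M)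
    (hJ : Cfsg.thompsonSubgroupA P ≤ M) :
    Subgroup.centralizer ((Cfsg.thompsonSubgroupA P ⊓
      Subgroup.centralizer (Cfsg.thompsonSubgroupA P : Set P) : Subgroup P) : Set P) ≤ M := by
  rw [Invol.centrallyLarge_iff] at hM
  rw [inf_eq_right.mpr centralizer_thompson_le]
  exact (Subgroup.centralizer_le (SetLike.coe_subset_coe.mpr
    (Subgroup.centralizer_le (SetLike.coe_subset_coe.mpr hJ)))).trans
      hM.1.centralizer_centralizer.ge

theorem exists_centrallyLarge (P : Type*) [Group P] [Finite P] :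
    ∃ Q : Subgroup P, Cfsg.IsCentrallyLarge Q := by
  obtain ⟨M, hM⟩ := Invol.exists_cdMax (G := P)
  exact ⟨_, (Invol.centrallyLarge_iff _).mpr hM.centralizer_le_sup⟩

theorem thompson_le_centrallyLargeJoin : Cfsg.thompsonSubgroupA P ≤ Cfsg.centrallyLargeJoin P := by
  obtain ⟨Q, hQ⟩ := exists_centrallyLarge P
  exact le_trans le_sup_right (le_sSup (sup_thompson hQ : (Q ⊔ Cfsg.thompsonSubgroupA P) ∈
    {R : Subgroup P | Cfsg.IsCentrallyLarge R}))

theorem exists_minimal_le {Q : Subgroup P} (hQ : Cfsg.IsCentrallyLarge Q) :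
    ∃ R ≤ Q, Cfsg.IsMinimalCentrallyLarge R := by
  obtain ⟨R, ⟨hR, hRQ⟩, hmin⟩ := (Set.toFinite {R : Subgroup P | Cfsg.IsCentrallyLarge R ∧ R ≤ Q}).exists_minimalFor
    id _ ⟨Q, hQ, le_rfl⟩
  exact ⟨R, hRQ, hR, fun R' hle hR' => le_antisymm hle (hmin ⟨hR', hle.trans hRQ⟩ hle)⟩

/-- A minimal centrally large subgroup is `(Q ⊓ R) Z(Q)`. -/
theorem minimal_eq {Q R : Subgroup P} (hQ : Cfsg.IsMinimalCentrallyLarge Q)
    (hR : Cfsg.IsMinimalCentrallyLarge R) :
    (Q ⊓ R) ⊔ Subgroup.centralizer (Q : Set P) = Q := by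
  obtain ⟨hQm, hQC⟩ := (Invol.centrallyLarge_iff _).mp hQ.1
  obtain ⟨hRm, hRC⟩ := (Invol.centrallyLarge_iff _).mp hR.1
  obtain ⟨-, hI, -, hset, hC⟩ := hQm.lattice hRm
  set W := (Q ⊓ R) ⊔ Subgroup.centralizer (Q : Set P) with hW
  have hWQ : W ≤ Q := sup_le inf_le_left hQC
  refine hQ.2 W hWQ ((Invol.centrallyLarge_iff _).mpr ⟨(hI.lattice hQm.centralizer).1, fun x hx => ?_⟩)
  have h1 : x ∈ Subgroup.centralizer (Q : Set P) ⊔ Subgroup.centralizer (R : Set P) := by
    rw [← hC]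
    exact Subgroup.centralizer_le (SetLike.coe_subset_coe.mpr le_sup_left) hx
  have h2 : x ∈ Q := hQm.centralizer_centralizer.ge
    (Subgroup.centralizer_le (SetLike.coe_subset_coe.mpr le_sup_right) hx)
  obtain ⟨z, hz, w, hw, rfl⟩ := hset.subset (show x ∈
    ((Subgroup.centralizer (Q : Set P) ⊔ Subgroup.centralizer (R : Set P) : Subgroup P) : Set P) from h1)
  refine mul_mem (Subgroup.mem_sup_right hz) (Subgroup.mem_sup_left ⟨?_, hRC hw⟩)
  simpa [← mul_assoc] using mul_mem (inv_mem (hQC hz)) h2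

theorem minimal_commutator_le {Q R : Subgroup P} (hQ : Cfsg.IsMinimalCentrallyLarge Q)
    (hR : Cfsg.IsMinimalCentrallyLarge R) : ⁅Q, Q⁆ ≤ ⁅R, R⁆ := by
  have h := minimal_eq hQ hR
  have hset : ∀ x ∈ Q, ∃ a ∈ Q ⊓ R, ∃ z ∈ Subgroup.centralizer (Q : Set P), a * z = x := by
    intro x hx
    have hn : (Q ⊓ R) ≤ Subgroup.normalizer
        ((Subgroup.centralizer (Q : Set P) : Subgroup P) : Set P) :=
      (inf_le_left.trans (Subgroup.le_centralizer_iff.mp le_rfl)).trans
        (Subgroup.centralizer_le_normalizer _)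
    rw [← h] at hx
    exact (Subgroup.coe_mul_of_left_le_normalizer_right _ _ hn).subset hx
  refine Subgroup.commutator_le.mpr fun x hx y hy => ?_
  obtain ⟨a, ha, z, hz, rfl⟩ := hset x hx
  obtain ⟨b, hb, w, hw, rfl⟩ := hset y hy
  have hbw : b * w ∈ Q := hy
  have e1 : z * (b * w) = b * w * z := ((Subgroup.mem_centralizer_iff.mp hz) _ hbw).symm
  have e2 : a * w = w * a := (Subgroup.mem_centralizer_iff.mp hw) _ ha.1
  have : ⁅a * z, b * w⁆ = ⁅a, b⁆ := by
    simp only [commutatorElement_def]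
    calc a * z * (b * w) * (a * z)⁻¹ * (b * w)⁻¹
        = a * (z * (b * w)) * z⁻¹ * a⁻¹ * (b * w)⁻¹ := by group
      _ = a * (b * w * z) * z⁻¹ * a⁻¹ * (b * w)⁻¹ := by rw [e1]
      _ = a * b * (w * a⁻¹) * w⁻¹ * b⁻¹ := by group
      _ = a * b * (a⁻¹ * w) * w⁻¹ * b⁻¹ := by
          have e3 : w * a⁻¹ = a⁻¹ * w := by
            calc w * a⁻¹ = a⁻¹ * (a * w) * a⁻¹ := by group
              _ = a⁻¹ * (w * a) * a⁻¹ := by rw [e2]
              _ = a⁻¹ * w := by group
          rw [e3]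
      _ = a * b * a⁻¹ * b⁻¹ := by group
  rw [this]
  exact Subgroup.commutator_mem_commutator ha.2 hb.2

theorem minimal_inf_centralizer {Q R : Subgroup P} (hQ : Cfsg.IsMinimalCentrallyLarge Q)
    (hR : Cfsg.IsMinimalCentrallyLarge R) :
    (Q ⊓ R) ⊓ Subgroup.centralizer (Q : Set P) =
      (Q ⊓ R) ⊓ Subgroup.centralizer ((Q ⊓ R : Subgroup P) : Set P) := by
  refine le_antisymm (inf_le_inf_left _ (Subgroup.centralizer_le (SetLike.coe_subset_coe.mpr inf_le_left))) ?_
  refine le_inf inf_le_left (fun x hx => ?_)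
  have h1 : x ∈ Subgroup.centralizer ((Subgroup.centralizer (Q : Set P) : Subgroup P) : Set P) :=
    Subgroup.le_centralizer_iff.mp le_rfl hx.1.1
  have := Invol.centralizer_sup_le _ _ ⟨hx.2, h1⟩
  rwa [minimal_eq hQ hR] at this

theorem minimal_card_eq {Q R : Subgroup P} (hQ : Cfsg.IsMinimalCentrallyLarge Q)
    (hR : Cfsg.IsMinimalCentrallyLarge R) :
    Nat.card ↥Q = Nat.card ↥R ∧
      Nat.card ↥(Subgroup.centralizer (Q : Set P)) = Nat.card ↥(Subgroup.centralizer (R : Set P)) := by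
  have e1 := Grp.card_sup_mul_card_inf (H := Q ⊓ R) (N := Subgroup.centralizer (Q : Set P))
    ((inf_le_left.trans (Subgroup.le_centralizer_iff.mp le_rfl)).trans
      (Subgroup.centralizer_le_normalizer _))
  have e2 := Grp.card_sup_mul_card_inf (H := R ⊓ Q) (N := Subgroup.centralizer (R : Set P))
    ((inf_le_left.trans (Subgroup.le_centralizer_iff.mp le_rfl)).trans
      (Subgroup.centralizer_le_normalizer _))
  rw [minimal_eq hQ hR, minimal_inf_centralizer hQ hR] at e1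
  rw [minimal_eq hR hQ, minimal_inf_centralizer hR hQ, inf_comm R Q] at e2
  have e3 : Invol.cdMeasure Q = Invol.cdMeasure R :=
    ((Invol.centrallyLarge_iff _).mp hQ.1).1.cdMeasure_eq ((Invol.centrallyLarge_iff _).mp hR.1).1
  unfold Invol.cdMeasure at e3
  set a := Nat.card ↥Q
  set b := Nat.card ↥R
  set z := Nat.card ↥(Subgroup.centralizer (Q : Set P))
  set w := Nat.card ↥(Subgroup.centralizer (R : Set P))
  set i := Nat.card ↥((Q ⊓ R) ⊓ Subgroup.centralizer ((Q ⊓ R : Subgroup P) : Set P))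
  set c := Nat.card ↥(Q ⊓ R : Subgroup P)
  have hi : 0 < i := Nat.card_pos
  have hc : 0 < c := Nat.card_pos
  have hz : 0 < z := Nat.card_pos
  have h4 : c * (z * z) = c * (w * w) := by
    calc c * (z * z) = a * z * i := by linear_combination (z : ℕ) * e1.symm
      _ = b * w * i := by rw [e3]
      _ = c * (w * w) := by linear_combination (w : ℕ) * e2
  have h5 : z = w := Nat.mul_self_inj.mp (Nat.eq_of_mul_eq_mul_left hc h4)
  exact ⟨Nat.eq_of_mul_eq_mul_right hz (by rw [e3, h5]), h5⟩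

theorem minimal_abelian {Q R : Subgroup P} (hQ : Cfsg.IsMinimalCentrallyLarge Q)
    (hR : Cfsg.IsMinimalCentrallyLarge R) (hab : IsMulCommutative ↥Q) : IsMulCommutative ↥R := by
  refine isMulCommutative_of_le_centralizer (Subgroup.commutator_eq_bot_iff_le_centralizer.mp ?_)
  refine le_bot_iff.mp ((minimal_commutator_le hR hQ).trans ?_)
  exact (Subgroup.commutator_eq_bot_iff_le_centralizer.mpr (le_centralizer_of_isMulCommutative hab)).le

theorem abelian_centrallyLarge {A : Subgroup P} (hA : A ∈ Cfsg.maxAbelianSubgroups P)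
    {M : Subgroup P} (hM : Invol.CDMax M) (h : Invol.cdMeasure M ≤ Nat.card ↥A * Nat.card ↥A) :
    Cfsg.IsMinimalCentrallyLarge A := by
  have hC := maxAbelian_centralizer hA
  refine ⟨(Invol.centrallyLarge_iff _).mpr ⟨hM.of_ge ?_, hC.le⟩, fun R hle hR => ?_⟩
  · unfold Invol.cdMeasure at h ⊢
    rwa [hC]
  · obtain ⟨-, hRC⟩ := (Invol.centrallyLarge_iff _).mp hR
    refine le_antisymm hle ?_
    calc A ≤ Subgroup.centralizer (A : Set P) := hC.ge
      _ ≤ Subgroup.centralizer (R : Set P) := Subgroup.centralizer_le (SetLike.coe_subset_coe.mpr hle)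
      _ ≤ R := hRC

theorem minimal_abelian_iff {Q : Subgroup P} (hQ : Cfsg.IsMinimalCentrallyLarge Q)
    (hab : IsMulCommutative ↥Q) (X : Subgroup P) :
    Cfsg.IsMinimalCentrallyLarge X ↔ X ∈ Cfsg.maxAbelianSubgroups P := by
  obtain ⟨hm, hC⟩ := (Invol.centrallyLarge_iff _).mp hQ.1
  have hQQ : Subgroup.centralizer (Q : Set P) = Q :=
    le_antisymm hC (le_centralizer_of_isMulCommutative hab)
  have hQmax : Q ∈ Cfsg.maxAbelianSubgroups P := by
    refine ⟨hab, fun B hB => ?_⟩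
    have h := hm B
    unfold Invol.cdMeasure at h
    rw [hQQ] at h
    have h2 := Subgroup.card_le_of_le (le_centralizer_of_isMulCommutative hB)
    exact Nat.mul_self_le_mul_self_iff.mp ((Nat.mul_le_mul_left _ h2).trans h)
  constructor
  · intro hX
    refine ⟨minimal_abelian hQ hX hab, fun B hB => ?_⟩
    rw [← (minimal_card_eq hQ hX).1]
    exact hQmax.2 B hB
  · intro hX
    refine abelian_centrallyLarge hX hm ?_
    unfold Invol.cdMeasure
    rw [hQQ]
    exact Nat.mul_le_mul (hX.2 Q hab) (hX.2 Q hab)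

end Cfsg.Agent.Invol.CL
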