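import Cfsg.Agent.Lib.Invol.CentrallyLarge
import Cfsg.Agent.Lib.Grp.Frattini
import Cfsg.Agent.Lib.Grp.CoprimeFactor

/-!
# A minimal centrally large subgroup normalized by every abelian subgroup of largest order
-/

namespace Cfsg.Agent.Invol.CLFix

open scoped Pointwise

variable {P : Type*} [Group P] [Finite P]

/-- The conjugate `b S b⁻¹`. -/
def cj (b : P) (S : Subgroup P) : Subgroup P := S.map (MulAut.conj b).toMonoidHom

omit [Finite P] in
theorem mem_cj {b x : P} {S : Subgroup P} : x ∈ cj b S ↔ b⁻¹ * x * b ∈ S := by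
  constructor
  · rintro ⟨y, hy, rfl⟩
    simpa [mul_assoc] using hy
  · intro h
    exact ⟨_, h, by simp [mul_assoc]⟩

omit [Finite P] in
theorem conj_mem_cj {b x : P} {S : Subgroup P} (hx : x ∈ S) : b * x * b⁻¹ ∈ cj b S :=
  ⟨x, hx, rfl⟩

omit [Finite P] in
theorem cj_mono {b : P} {S T : Subgroup P} (h : S ≤ T) : cj b S ≤ cj b T := Subgroup.map_mono h

omit [Finite P] in
theorem cj_sup (b : P) (S T : Subgroup P) : cj b (S ⊔ T) = cj b S ⊔ cj b T := Subgroup.map_sup _ _ _

omit [Finite P] in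
theorem cj_inf (b : P) (S T : Subgroup P) : cj b (S ⊓ T) = cj b S ⊓ cj b T :=
  Subgroup.map_inf _ _ _ (MulAut.conj b).injective

omit [Finite P] in
theorem cj_cj_inv (b : P) (S : Subgroup P) : cj b (cj b⁻¹ S) = S := by
  ext x; simp [mem_cj, mul_assoc]

omit [Finite P] in
theorem cj_inv_cj (b : P) (S : Subgroup P) : cj b⁻¹ (cj b S) = S := by
  ext x; simp [mem_cj, mul_assoc]

theorem cj_eq_of_le {b : P} {S : Subgroup P} (h : cj b S ≤ S) : cj b S = S :=
  Subgroup.eq_of_le_of_card_ge h (Subgroup.card_map_of_injective (MulAut.conj b).injective).ge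

omit [Finite P] in
theorem cj_inv_eq {b : P} {S : Subgroup P} (h : cj b S = S) : cj b⁻¹ S = S := by
  conv_lhs => rw [← h]
  exact cj_inv_cj b S

omit [Finite P] in
theorem centralizer_cj (b : P) (S : Subgroup P) :
    Subgroup.centralizer ((cj b S : Subgroup P) : Set P) = cj b (Subgroup.centralizer (S : Set P)) := by
  ext x
  simp only [mem_cj, Subgroup.mem_centralizer_iff, SetLike.mem_coe]
  constructor
  · intro h a ha
    have := h (b * a * b⁻¹) (by simpa [mul_assoc] using ha)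
    calc a * (b⁻¹ * x * b) = b⁻¹ * (b * a * b⁻¹ * x) * b := by group
      _ = b⁻¹ * (x * (b * a * b⁻¹)) * b := by rw [this]
      _ = b⁻¹ * x * b * a := by group
  · intro h a ha
    have := h (b⁻¹ * a * b) ha
    calc a * x = b * (b⁻¹ * a * b * (b⁻¹ * x * b)) * b⁻¹ := by group
      _ = b * (b⁻¹ * x * b * (b⁻¹ * a * b)) * b⁻¹ := by rw [this]
      _ = x * a := by group

theorem cdMax_cj {S : Subgroup P} (hS : Invol.CDMax S) (b : P) : Invol.CDMax (cj b S) :=
  hS.map (MulAut.conj b)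

omit [Finite P] in
theorem cj_abelian {S : Subgroup P} (hS : S ≤ Subgroup.centralizer (S : Set P)) (b : P) :
    cj b S ≤ Subgroup.centralizer ((cj b S : Subgroup P) : Set P) := by
  rw [centralizer_cj]; exact cj_mono hS

omit [Finite P] in
/-- The modular law for a product set. -/
theorem modular {A B C : Subgroup P} (h : ((A ⊔ B : Subgroup P) : Set P) = (A : Set P) * (B : Set P))
    (hAC : A ≤ C) : (A ⊔ B) ⊓ C = A ⊔ (B ⊓ C) := by
  refine le_antisymm (fun x hx => ?_)
    (le_inf (sup_le_sup_left inf_le_left A) (sup_le hAC inf_le_right))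
  obtain ⟨a, ha, b, hb, rfl⟩ := h.subset (show x ∈ ((A ⊔ B : Subgroup P) : Set P) from hx.1)
  refine Subgroup.mul_mem_sup ha ⟨hb, ?_⟩
  simpa using mul_mem (inv_mem (hAC ha)) hx.2

theorem lmod {A B : Subgroup P} (hA : Invol.CDMax A) (hB : Invol.CDMax B) {C : Subgroup P} (hAC : A ≤ C) :
    (A ⊔ B) ⊓ C = A ⊔ (B ⊓ C) := modular (hA.lattice hB).2.2.1 hAC

/-- An abelian subgroup compatible with all abelian members of the lattice. -/
def Good (B : Subgroup P) : Prop :=
  B ≤ Subgroup.centralizer (B : Set P) ∧ ∀ A : Subgroup P, Invol.CDMax A →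
    A ≤ Subgroup.centralizer (A : Set P) →
      ((A ⊔ B : Subgroup P) : Set P) = (A : Set P) * (B : Set P) ∧ Invol.CDMax (A ⊓ B)

theorem good_maxAbelian {B : Subgroup P} (hB : B ∈ Cfsg.maxAbelianSubgroups P) : Good B := by
  refine ⟨CL.le_centralizer_of_isMulCommutative hB.1, fun A hA hAA => ?_⟩
  have hcc := hA.centralizer_centralizer
  have hQ : Cfsg.IsCentrallyLarge (Subgroup.centralizer (A : Set P)) :=
    (Invol.centrallyLarge_iff _).mpr ⟨hA.centralizer, hcc.ge.trans hAA⟩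
  obtain ⟨-, hL, -, hset⟩ := CL.sup_maxAbelian hQ hB
  rw [← hcc, inf_eq_right.mpr hAA] at hset
  replace hset : ((A ⊔ B : Subgroup P) : Set P) = (A : Set P) * (B : Set P) := by
    rw [hset]
    congr 1
    exact inf_eq_right.mpr (SetLike.coe_subset_coe.mpr hAA)
  refine ⟨hset, ?_⟩
  have hCB := CL.maxAbelian_centralizer hB
  have e : Subgroup.centralizer ((Subgroup.centralizer (A : Set P) ⊔ B : Subgroup P) : Set P) = A ⊓ B := by
    refine le_antisymm (le_inf ?_ ?_) ?_
    · exact (Subgroup.centralizer_le (SetLike.coe_subset_coe.mpr le_sup_left)).trans hcc.ge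
    · exact (Subgroup.centralizer_le (SetLike.coe_subset_coe.mpr le_sup_right)).trans hCB.le
    · refine le_trans ?_ (Invol.centralizer_sup_le _ _)
      rw [← hcc, hCB]
  exact e ▸ ((Invol.centrallyLarge_iff _).mp hL).1.centralizer

theorem good_center {R : Subgroup P} (hR : Cfsg.IsCentrallyLarge R) :
    Good (Subgroup.centralizer (R : Set P)) := by
  obtain ⟨hm, hC⟩ := (Invol.centrallyLarge_iff _).mp hR
  exact ⟨hC.trans hm.centralizer_centralizer.le, fun A hA _ =>
    ⟨(hA.lattice hm.centralizer).2.2.1, (hA.lattice hm.centralizer).2.1⟩⟩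

/-- Invariance under all good subgroups. -/
def Inv (S : Subgroup P) : Prop := ∀ B : Subgroup P, Good B → ∀ b ∈ B, cj b S = S

theorem Inv.sup {S T : Subgroup P} (hS : Inv S) (hT : Inv T) : Inv (S ⊔ T) := fun B hB b hb => by
  rw [cj_sup, hS B hB b hb, hT B hB b hb]

theorem Inv.inf {S T : Subgroup P} (hS : Inv S) (hT : Inv T) : Inv (S ⊓ T) := fun B hB b hb => by
  rw [cj_inf, hS B hB b hb, hT B hB b hb]

theorem Inv.centralizer {S : Subgroup P} (hS : Inv S) : Inv (Subgroup.centralizer (S : Set P)) :=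
  fun B hB b hb => by rw [← centralizer_cj, hS B hB b hb]

theorem cdMax_sup_sSup {M : Subgroup P} (hM : Invol.CDMax M) {T : Set (Subgroup P)}
    (hT : ∀ L ∈ T, Invol.CDMax L) : Invol.CDMax (M ⊔ sSup T) := by
  have key : ∀ U : Set (Subgroup P), U.Finite → U ⊆ T → Invol.CDMax (M ⊔ sSup U) := by
    intro U hU
    induction U, hU using Set.Finite.induction_on with
    | empty => simpa using hM
    | @insert a U _ _ ih =>
      intro hsub
      rw [sSup_insert, sup_left_comm]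
      exact ((hT a (hsub (Set.mem_insert a U))).lattice (ih ((Set.subset_insert a U).trans hsub))).1
  exact key T (Set.toFinite _) subset_rfl

section Interval

variable (M : Subgroup P)

/-- A member of the lattice between `M` and its centralizer. -/
def Mem (L : Subgroup P) : Prop := Invol.CDMax L ∧ M ≤ L ∧ L ≤ Subgroup.centralizer (M : Set P)

/-- An abelian atom above `M`. -/
def Atom (R : Subgroup P) : Prop :=
  Invol.CDMax R ∧ R ≤ Subgroup.centralizer (R : Set P) ∧ M < R ∧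
    ∀ L : Subgroup P, Invol.CDMax L → M ≤ L → L ≤ R → L = M ∨ L = R

variable {M}

omit [Finite P] in
theorem Atom.le_centralizer {R : Subgroup P} (hR : Atom M R) : R ≤ Subgroup.centralizer (M : Set P) :=
  hR.2.1.trans (Subgroup.centralizer_le (SetLike.coe_subset_coe.mpr hR.2.2.1.le))

theorem Atom.cj {R : Subgroup P} (hR : Atom M R) {b : P} (hb : cj b M = M) : Atom M (cj b R) := by
  refine ⟨cdMax_cj hR.1 b, cj_abelian hR.2.1 b, ?_, fun L hL hML hLR => ?_⟩
  · conv_lhs => rw [← hb]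
    exact lt_of_le_of_ne (cj_mono hR.2.2.1.le) fun e =>
      hR.2.2.1.ne (by rw [← cj_inv_cj b M, e, cj_inv_cj])
  · have h1 : M ≤ CLFix.cj b⁻¹ L := (cj_inv_eq hb).ge.trans (cj_mono hML)
    have h2 : CLFix.cj b⁻¹ L ≤ R := (cj_mono hLR).trans (cj_inv_cj b R).le
    rcases hR.2.2.2 _ (cdMax_cj hL _) h1 h2 with e | e
    · left; rw [← cj_cj_inv b L, e, hb]
    · right; rw [← cj_cj_inv b L, e]

omit [Finite P] in
theorem comm_mem {b x : P} {S : Subgroup P} (h : cj b S = S) (hx : x ∈ S) : b * x * b⁻¹ ∈ S :=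
  h ▸ conj_mem_cj hx

omit [Finite P] in
/-- The elements of `C(M)` fixed by `b` modulo `M`. -/
theorem fixed_le {b : P} {S : Subgroup P} (hMS : M ≤ S) (h : ∀ x ∈ S, b * x * b⁻¹ * x⁻¹ ∈ M) :
    cj b S ≤ S := by
  rintro _ ⟨x, hx, rfl⟩
  simpa using mul_mem (hMS (h x hx)) hx

variable {B : Subgroup P}

omit [Finite P] in
/-- `b` fixes `(B ⊓ C(M)) M` modulo `M`. -/
theorem fixed_trace (hB : B ≤ Subgroup.centralizer (B : Set P)) (hMM : M ≤ Subgroup.centralizer (M : Set P))
    {b : P} (hb : b ∈ B) (hbM : cj b M = M) :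
    ∀ x ∈ (B ⊓ Subgroup.centralizer (M : Set P)) ⊔ M, b * x * b⁻¹ * x⁻¹ ∈ M := by
  intro x hx
  have hn : B ⊓ Subgroup.centralizer (M : Set P) ≤ Subgroup.normalizer (M : Set P) :=
    inf_le_right.trans (Subgroup.centralizer_le_normalizer _)
  obtain ⟨y, hy, m, hm, rfl⟩ := (Subgroup.coe_mul_of_left_le_normalizer_right _ _ hn).subset hx
  have hm' : b * m * b⁻¹ * m⁻¹ ∈ M := mul_mem (comm_mem hbM hm) (inv_mem hm)
  have e1 : b * y * b⁻¹ = y := by
    rw [show b * y = y * b from (Subgroup.mem_centralizer_iff.mp (hB hy.1)) b hb, mul_inv_cancel_right]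
  have e2 : (b * m * b⁻¹ * m⁻¹) * y = y * (b * m * b⁻¹ * m⁻¹) :=
    Subgroup.mem_centralizer_iff.mp hy.2 _ hm'
  show b * (y * m) * b⁻¹ * (y * m)⁻¹ ∈ M
  have e3 : b * (y * m) * b⁻¹ * (y * m)⁻¹ = (b * y * b⁻¹) * (b * m * b⁻¹ * m⁻¹) * y⁻¹ := by group
  rw [e3, e1, ← e2, mul_inv_cancel_right]
  exact hm'

theorem meet_trace (hB : Good B) (hM : Invol.CDMax M)
    {A : Subgroup P} (hA : Invol.CDMax A) (hAA : A ≤ Subgroup.centralizer (A : Set P)) (hMA : M ≤ A) :
    Invol.CDMax (A ⊓ ((B ⊓ Subgroup.centralizer (M : Set P)) ⊔ M)) := by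
  have hAC : A ≤ Subgroup.centralizer (M : Set P) :=
    hAA.trans (Subgroup.centralizer_le (SetLike.coe_subset_coe.mpr hMA))
  have hn : B ⊓ Subgroup.centralizer (M : Set P) ≤ Subgroup.normalizer (M : Set P) :=
    inf_le_right.trans (Subgroup.centralizer_le_normalizer _)
  have e : A ⊓ ((B ⊓ Subgroup.centralizer (M : Set P)) ⊔ M) = (A ⊓ B) ⊔ M := by
    refine le_antisymm (fun x hx => ?_)
      (le_inf (sup_le inf_le_left hMA) (sup_le_sup_right (le_inf inf_le_right (inf_le_left.trans hAC)) M))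
    obtain ⟨y, hy, m, hm, rfl⟩ := (Subgroup.coe_mul_of_left_le_normalizer_right _ _ hn).subset hx.2
    refine Subgroup.mul_mem_sup ⟨?_, hy.1⟩ hm
    simpa using mul_mem (show y * m ∈ A from hx.1) (inv_mem (hMA (show m ∈ M from hm)))
  rw [e]
  exact (((hB.2 A hA hAA).2).lattice hM).1

theorem elation (hB : Good B) (hM : Invol.CDMax M) (hMM : M ≤ Subgroup.centralizer (M : Set P))
    {R : Subgroup P} (hR : Atom M R) {b : P} (hb : b ∈ B) (hbM : cj b M = M) :
    ∃ E : Subgroup P, Invol.CDMax E ∧ M ≤ E ∧ E ≤ (B ⊓ Subgroup.centralizer (M : Set P)) ⊔ M ∧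
      E ≤ R ⊔ cj b R ∧ cj b R ≤ R ⊔ E := by
  set B' := (B ⊓ Subgroup.centralizer (M : Set P)) ⊔ M with hB'
  set R' := cj b R with hR'
  have hA' : Atom M R' := hR.cj hbM
  obtain ⟨hRm, hRR, hMR, hRat⟩ := id hR
  obtain ⟨hR'm, hR'R', hMR', hR'at⟩ := id hA'
  by_cases heq : R' = R
  · exact ⟨M, hM, le_rfl, le_sup_right, hMR.le.trans le_sup_left, heq.le.trans le_sup_left⟩
  have hRR' : R ⊓ R' = M := by
    rcases hRat _ (hRm.lattice hR'm).2.1 (le_inf hMR.le hMR'.le) inf_le_left with e | e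
    · exact e
    · exact absurd (Subgroup.eq_of_le_of_card_ge (inf_eq_left.mp e)
        (Subgroup.card_map_of_injective (MulAut.conj b).injective).le).symm heq
  have hRB : R ⊓ B' = M := by
    rcases hRat _ (meet_trace hB hM hRm hRR hMR.le) (le_inf hMR.le le_sup_right) inf_le_left with e | e
    · exact e
    · exact absurd (cj_eq_of_le (fixed_le hMR.le fun x hx =>
        fixed_trace hB.1 hMM hb hbM x (inf_eq_left.mp e hx))) heq
  set B0 := B ⊓ Subgroup.centralizer (M : Set P) with hB0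
  have hRC := hR.le_centralizer
  have hR'C := hA'.le_centralizer
  have hprod : ((R ⊔ B0 : Subgroup P) : Set P) = (R : Set P) * (B0 : Set P) := by
    refine subset_antisymm (fun x hx => ?_)
      (Set.mul_subset_iff.mpr fun a ha b hb => Subgroup.mul_mem_sup ha hb)
    obtain ⟨a, ha, y, hy, rfl⟩ := ((hB.2 R hRm hRR).1).subset
      (show x ∈ ((R ⊔ B : Subgroup P) : Set P) from (sup_le_sup_left inf_le_left R) hx)
    refine ⟨a, ha, y, ⟨hy, ?_⟩, rfl⟩
    simpa using mul_mem (inv_mem (hRC ha)) ((sup_le hRC inf_le_right : R ⊔ B0 ≤ _) hx)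
  have hR'B0 : R' ≤ R ⊔ B0 := by
    intro x hx
    have hx' : x ∈ R ⊔ B := by
      obtain ⟨r, hr, rfl⟩ := hx
      exact mul_mem (mul_mem (Subgroup.mem_sup_right hb) (Subgroup.mem_sup_left hr))
        (inv_mem (Subgroup.mem_sup_right hb))
    obtain ⟨a, ha, y, hy, rfl⟩ := ((hB.2 R hRm hRR).1).subset hx'
    refine Subgroup.mul_mem_sup ha ⟨hy, ?_⟩
    simpa using mul_mem (inv_mem (hRC ha)) (hR'C hx)
  obtain ⟨hIm, -, hIset, -, -⟩ := hRm.lattice hR'm
  set I := R ⊔ R' with hI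
  set E := (I ⊓ B0) ⊔ M with hE
  have hMI : M ≤ I := hMR.le.trans le_sup_left
  have hIC : I ≤ Subgroup.centralizer (M : Set P) := sup_le hRC hR'C
  have hEI : E ≤ I := sup_le inf_le_left hMI
  have hEB : E ≤ B' := sup_le_sup_right inf_le_right M
  have hIB0 : I = R ⊔ (B0 ⊓ I) := by
    rw [← modular hprod (le_sup_left : R ≤ I), inf_eq_right.mpr (sup_le le_sup_left hR'B0)]
  have hIE : I ≤ R ⊔ E := by
    rw [hIB0]
    exact sup_le_sup_left (inf_comm B0 I ▸ le_sup_left) R
  refine ⟨E, ?_, le_sup_right, hEB, hEI, le_sup_right.trans hIE⟩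
  by_cases hc : R ≤ Subgroup.centralizer (R' : Set P)
  · have hII : I ≤ Subgroup.centralizer (I : Set P) :=
      sup_le ((le_inf hRR hc).trans (Invol.centralizer_sup_le _ _))
        ((le_inf (Subgroup.le_centralizer_iff.mp hc) hR'R').trans (Invol.centralizer_sup_le _ _))
    have e : E = I ⊓ B' := by
      refine le_antisymm (le_inf hEI hEB) fun x hx => ?_
      have hn : B0 ≤ Subgroup.normalizer (M : Set P) :=
        inf_le_right.trans (Subgroup.centralizer_le_normalizer _)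
      obtain ⟨y, hy, m, hm, rfl⟩ := (Subgroup.coe_mul_of_left_le_normalizer_right _ _ hn).subset hx.2
      refine Subgroup.mul_mem_sup ⟨?_, hy⟩ hm
      simpa using mul_mem (show y * m ∈ I from hx.1) (inv_mem (hMI (show m ∈ M from hm)))
    exact e ▸ meet_trace hB hM hIm hII hMI
  have hMC : ∀ S : Subgroup P, S ≤ Subgroup.centralizer (M : Set P) →
      M ≤ Subgroup.centralizer (S : Set P) := fun S h => Subgroup.le_centralizer_iff.mp h
  have h1 : R ⊓ Subgroup.centralizer (R' : Set P) = M := by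
    rcases hRat _ (hRm.lattice hR'm.centralizer).2.1 (le_inf hMR.le (hMC _ hR'C)) inf_le_left with e | e
    · exact e
    · exact absurd (inf_eq_left.mp e) hc
  have h2 : R' ⊓ Subgroup.centralizer (R : Set P) = M := by
    rcases hR'at _ (hR'm.lattice hRm.centralizer).2.1 (le_inf hMR'.le (hMC _ hRC)) inf_le_left with e | e
    · exact e
    · exact absurd (Subgroup.le_centralizer_iff.mp (inf_eq_left.mp e)) hc
  have hZ : I ⊓ Subgroup.centralizer (I : Set P) ≤ M := by
    rintro x ⟨hxI, hxC⟩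
    obtain ⟨r, hr, r', hr', rfl⟩ := hIset.subset hxI
    have hr'm : r' ∈ M := by
      rw [← h2]
      refine ⟨hr', ?_⟩
      simpa using mul_mem (inv_mem (hRR hr))
        (Subgroup.centralizer_le (SetLike.coe_subset_coe.mpr le_sup_left) hxC)
    have hrm : r ∈ M := by
      rw [← h1]
      refine ⟨hr, ?_⟩
      simpa using mul_mem (Subgroup.centralizer_le (SetLike.coe_subset_coe.mpr le_sup_right) hxC)
        (inv_mem (hR'R' hr'))
    exact mul_mem hrm hr'm
  have hRE : R ⊓ E = M :=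
    le_antisymm ((inf_le_inf_left R hEB).trans hRB.le) (le_inf hMR.le le_sup_right)
  have hsub : (I : Set P) ⊆ (R : Set P) * (E : Set P) := fun x hx => by
    obtain ⟨a, ha, y, hy, rfl⟩ := hprod.subset (show x ∈ ((R ⊔ B0 : Subgroup P) : Set P) from
      (sup_le le_sup_left hR'B0 : I ≤ R ⊔ B0) hx)
    refine ⟨a, ha, y, Subgroup.mem_sup_left ⟨?_, hy⟩, rfl⟩
    simpa using mul_mem (inv_mem ((le_sup_left : R ≤ I) ha)) hx
  have c1 := Cfsg.Agent.Grp.card_mul_eq_of_subset (le_sup_left : R ≤ I) hEI hsub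
  have c2 := Cfsg.Agent.Grp.card_mul_eq_of_subset (le_sup_left : R ≤ I) (le_sup_right : R' ≤ I) hIset.subset
  rw [hRE] at c1
  rw [hRR'] at c2
  have cR : Nat.card R' = Nat.card R := Subgroup.card_map_of_injective (MulAut.conj b).injective
  have cE : Nat.card E = Nat.card R := by
    refine Nat.eq_of_mul_eq_mul_left (Nat.card_pos (α := R)) ?_
    rw [← c1, c2, cR]
  have hEE : E ≤ Subgroup.centralizer (E : Set P) := by
    have hBB : B' ≤ Subgroup.centralizer (B' : Set P) := by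
      refine sup_le ((le_inf ?_ inf_le_right).trans (Invol.centralizer_sup_le _ _))
        ((le_inf ?_ hMM).trans (Invol.centralizer_sup_le _ _))
      · exact inf_le_left.trans (hB.1.trans (Subgroup.centralizer_le (SetLike.coe_subset_coe.mpr inf_le_left)))
      · exact Subgroup.le_centralizer_iff.mp inf_le_right
    exact hEB.trans (hBB.trans (Subgroup.centralizer_le (SetLike.coe_subset_coe.mpr hEB)))
  have c3 := Invol.card_mul_le_card_sup E (Subgroup.centralizer (I : Set P))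
  have hinf : Nat.card ↥(E ⊓ Subgroup.centralizer (I : Set P)) ≤ Nat.card M :=
    Subgroup.card_le_of_le ((inf_le_inf_right _ hEI).trans hZ)
  have hsup : Nat.card ↥(E ⊔ Subgroup.centralizer (I : Set P)) ≤
      Nat.card (Subgroup.centralizer (E : Set P)) :=
    Subgroup.card_le_of_le (sup_le hEE (Subgroup.centralizer_le (SetLike.coe_subset_coe.mpr hEI)))
  refine hIm.of_ge ?_
  unfold Invol.cdMeasure
  refine Nat.le_of_mul_le_mul_right ?_ (Nat.card_pos (α := M))
  calc Nat.card I * Nat.card (Subgroup.centralizer (I : Set P)) * Nat.card M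
      = Nat.card E * (Nat.card E * Nat.card (Subgroup.centralizer (I : Set P))) := by
        rw [cE]; rw [cR] at c2; linear_combination (Nat.card (Subgroup.centralizer (I : Set P))) * c2
    _ ≤ Nat.card E * (Nat.card (Subgroup.centralizer (E : Set P)) * Nat.card M) :=
        Nat.mul_le_mul_left _ (c3.trans (Nat.mul_le_mul hsup hinf))
    _ = _ := (mul_assoc _ _ _).symm

end Interval

/-- No abelian member lies above a maximal invariant one. -/
theorem no_larger {p : ℕ} [Fact p.Prime] (hP : IsPGroup p P) {M : Subgroup P} (hM : Invol.CDMax M)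
    (hMM : M ≤ Subgroup.centralizer (M : Set P)) (hMi : Inv M)
    (hmax : ∀ N : Subgroup P, Invol.CDMax N → N ≤ Subgroup.centralizer (N : Set P) → Inv N → M ≤ N → N = M)
    {A : Subgroup P} (hA : Invol.CDMax A) (hAA : A ≤ Subgroup.centralizer (A : Set P)) (hMA : M ≤ A) :
    A = M := by
  classical
  by_contra hne
  set CM := Subgroup.centralizer (M : Set P)
  -- an abelian atom
  obtain ⟨R0, ⟨hR0m, hR0M, hR0A⟩, hR0min⟩ :=
    (Set.toFinite {L : Subgroup P | Invol.CDMax L ∧ M < L ∧ L ≤ A}).exists_minimalFor id _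
      ⟨A, hA, lt_of_le_of_ne hMA (Ne.symm hne), le_rfl⟩
  have hR0 : Atom M R0 := by
    refine ⟨hR0m, hR0A.trans (hAA.trans (Subgroup.centralizer_le (SetLike.coe_subset_coe.mpr hR0A))),
      hR0M, fun L hL hML hLR => ?_⟩
    by_cases e : L = M
    · exact .inl e
    · exact .inr (le_antisymm hLR (hR0min ⟨hL, lt_of_le_of_ne hML (Ne.symm e), hLR.trans hR0A⟩ hLR))
  -- the minimal invariant join of abelian atoms
  let 𝒦 : Set (Subgroup P) :=
    {K | Mem M K ∧ M < K ∧ Inv K ∧ K ≤ M ⊔ sSup {R | Atom M R ∧ R ≤ K}}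
  have hjoin : ∀ N : Subgroup P, Mem M N → Inv N → ∀ R, Atom M R → R ≤ N →
      M ⊔ sSup {R | Atom M R ∧ R ≤ N} ∈ 𝒦 := by
    intro N hN hNi R hR hRN
    set J := M ⊔ sSup {R | Atom M R ∧ R ≤ N}
    have hRJ : R ≤ J := le_sup_of_le_right (le_sSup ⟨hR, hRN⟩)
    refine ⟨⟨cdMax_sup_sSup hM fun L hL => hL.1.1, le_sup_left,
      sup_le hMM (sSup_le fun L hL => hL.1.le_centralizer)⟩, hR.2.2.1.trans_le hRJ, fun B hB b hb => ?_, ?_⟩
    · refine cj_eq_of_le ?_
      rw [cj_sup, hMi B hB b hb]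
      refine sup_le_sup_left ?_ M
      rw [cj, Subgroup.map_le_iff_le_comap]
      refine sSup_le fun L hL => ?_
      rw [← Subgroup.map_le_iff_le_comap]
      exact le_sSup ⟨hL.1.cj (hMi B hB b hb), (cj_mono hL.2).trans (hNi B hB b hb).le⟩
    · refine sup_le_sup_left (sSup_le_sSup fun L hL => ?_) M
      exact ⟨hL.1, le_sup_of_le_right (le_sSup hL)⟩
  have hCM : Mem M CM := ⟨hM.centralizer, hMM, le_rfl⟩
  obtain ⟨K, hK, hKmin⟩ := (Set.toFinite 𝒦).exists_minimalFor id _
    ⟨_, hjoin CM hCM hMi.centralizer R0 hR0 hR0.le_centralizer⟩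
  obtain ⟨⟨hKm, hMK, hKC⟩, hKM, hKi, hKgen⟩ := hK
  have factP : ∀ N : Subgroup P, Mem M N → Inv N → N ≤ K → N ≠ K → ∀ R, Atom M R → ¬ R ≤ N := by
    intro N hN hNi hNK hNK' R hR hRN
    have hJN : M ⊔ sSup {R | Atom M R ∧ R ≤ N} ≤ N := sup_le hN.2.1 (sSup_le fun L hL => hL.2)
    exact hNK' (le_antisymm hNK ((hKmin (hjoin N hN hNi R hR hRN) (hJN.trans hNK)).trans hJN))
  have factZ : ∀ N : Subgroup P, Mem M N → Inv N → N ⊓ Subgroup.centralizer (N : Set P) = M := by
    intro N hN hNi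
    refine hmax _ (hN.1.lattice hN.1.centralizer).2.1 ?_ (hNi.inf hNi.centralizer)
      (le_inf hN.2.1 (Subgroup.le_centralizer_iff.mp hN.2.2))
    exact inf_le_right.trans (Subgroup.centralizer_le (SetLike.coe_subset_coe.mpr inf_le_left))
  -- minimal invariant members
  let Hset : Set (Subgroup P) := {H | Mem M H ∧ M < H ∧ Inv H ∧ H ≤ K ∧
    ∀ N : Subgroup P, Mem M N → M < N → Inv N → N ≤ H → N = H}
  have key : ∀ B : Subgroup P, Good B → ∀ b ∈ B, ∀ H ∈ Hset,
      (∀ R, Atom M R → R ≤ K → cj b R = R) ∨ ∀ x ∈ H, b * x * b⁻¹ * x⁻¹ ∈ M := by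
    intro B hB b hb H hH
    obtain ⟨⟨hHm, hMH, hHC⟩, hMltH, hHi, hHK, hHmin⟩ := hH
    set Y := K ⊓ Subgroup.centralizer (H : Set P) with hYdef
    have hY : Invol.CDMax Y := (hKm.lattice hHm.centralizer).2.1
    have hMY : M ≤ Y := le_inf hMK (Subgroup.le_centralizer_iff.mp hHC)
    have hYi : Inv Y := hKi.inf hHi.centralizer
    have hHY : H ⊓ Y = M := le_antisymm
      ((inf_le_inf_left H inf_le_right).trans (factZ H ⟨hHm, hMH, hHC⟩ hHi).le) (le_inf hMH hMY)
    have hHYK : H ⊔ Y = K := by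
      refine le_antisymm (sup_le hHK inf_le_left) ?_
      have e : Subgroup.centralizer (H : Set P) ⊔ H = CM := by
        have := (hHm.lattice hHm.centralizer).2.2.2.2
        rw [factZ H ⟨hHm, hMH, hHC⟩ hHi, ← hHm.centralizer_centralizer] at this
        exact this.symm
      have h1 := lmod hHm hHm.centralizer hHK
      rw [sup_comm H, e, inf_eq_right.mpr hKC] at h1
      rw [hYdef, inf_comm K]
      exact h1.le
    have hYK : Y ≠ K := fun e => by
      have h1 : H ≤ Y := e ▸ hHK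
      exact hMltH.ne (hHY.symm.trans (inf_eq_left.mpr h1))
    -- projection to H
    let π : Subgroup P → Subgroup P := fun S => (S ⊔ Y) ⊓ H
    have πm : ∀ S, Invol.CDMax S → Invol.CDMax (π S) := fun S hS => ((hS.lattice hY).1.lattice hHm).2.1
    have πM : ∀ S, M ≤ π S := fun S => le_inf (hMY.trans le_sup_right) hMH
    have πY : ∀ S, Invol.CDMax S → S ≤ K → π S ⊔ Y = S ⊔ Y := by
      intro S hS hSK
      have h1 := lmod hY hHm (le_sup_right : Y ≤ S ⊔ Y)
      rw [sup_comm Y H, hHYK, inf_eq_right.mpr (sup_le hSK inf_le_left), inf_comm H] at h1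
      rw [sup_comm (π S)]
      exact h1.symm
    set T := M ⊔ sSup {L | Invol.CDMax L ∧ M ≤ L ∧ L ≤ (B ⊓ CM) ⊔ M ∧ L ≤ K} with hTdef
    have hTm : Invol.CDMax T := cdMax_sup_sSup hM fun L hL => hL.1
    have hTB : T ≤ (B ⊓ CM) ⊔ M := sup_le le_sup_right (sSup_le fun L hL => hL.2.2.1)
    have hTK : T ≤ K := sup_le hMK (sSup_le fun L hL => hL.2.2.2)
    have hbM := hMi B hB b hb
    have hel : ∀ R, Atom M R → R ≤ K → cj b R ≤ R ⊔ T := by
      intro R hR hRK
      obtain ⟨E, hEm, hME, hEB, hEI, hRE⟩ := elation hB hM hMM hR hb hbM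
      refine hRE.trans (sup_le_sup_left (le_sup_of_le_right (le_sSup ?_)) R)
      exact ⟨hEm, hME, hEB, hEI.trans (sup_le hRK ((cj_mono hRK).trans (hKi B hB b hb).le))⟩
    by_cases hTM : T ≤ M
    · exact .inl fun R hR hRK => cj_eq_of_le ((hel R hR hRK).trans (sup_le le_rfl (hTM.trans hR.2.2.1.le)))
    right
    -- `H` is an atom of the lattice
    have πat : ∀ R, Atom M R → R ≤ K → ∀ L, Invol.CDMax L → M ≤ L → L ≤ π R → L = M ∨ L = π R := by
      intro R hR hRK L hL hML hLR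
      have h0 : L ≤ R ⊔ Y := hLR.trans inf_le_left
      have h1 := lmod hY hR.1 (le_sup_right : Y ≤ L ⊔ Y)
      rw [inf_eq_right.mpr (sup_le (h0.trans (sup_comm R Y).le) le_sup_left)] at h1
      rcases hR.2.2.2 _ (hR.1.lattice (hL.lattice hY).1).2.1 (le_inf hR.2.2.1.le (hMY.trans le_sup_right))
        inf_le_left with e | e
      · left
        refine le_antisymm ?_ hML
        rw [e, sup_eq_left.mpr hMY] at h1
        exact (le_inf (hLR.trans inf_le_right) (le_sup_left.trans h1.le)).trans hHY.le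
      · right
        refine le_antisymm hLR ?_
        have h2 : π R ≤ L ⊔ Y := inf_le_left.trans (sup_le (inf_eq_left.mp e) le_sup_right)
        have h3 := lmod hL hY (hLR.trans inf_le_right)
        rw [inf_comm Y, hHY, sup_eq_left.mpr hML] at h3
        exact (le_inf h2 inf_le_right).trans h3.le
    have hatom : ∀ L, Invol.CDMax L → M ≤ L → L ≤ H → L = M ∨ L = H := by
      by_cases hall : ∀ R, Atom M R → R ≤ K → π R = M
      · exfalso
        apply hYK
        refine le_antisymm inf_le_left (hKgen.trans (sup_le hMY (sSup_le ?_)))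
        rintro R ⟨hR, hRK⟩
        refine le_sup_left.trans ((πY R hR.1 hRK).ge.trans ?_)
        rw [hall R hR hRK]
        exact sup_le hMY le_rfl
      push Not at hall
      obtain ⟨R, hR, hRK, hRne⟩ := hall
      suffices hfix : Inv (π R) by
        have e := hHmin _ ⟨πm R hR.1, πM R, inf_le_right.trans hHC⟩
          (lt_of_le_of_ne (πM R) (Ne.symm hRne)) hfix inf_le_right
        intro L hL hML hLH
        exact e ▸ πat R hR hRK L hL hML (e ▸ hLH)
      intro B₁ hB₁ b₁ hb₁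
      have hb₁M := hMi B₁ hB₁ b₁ hb₁
      set T₁ := M ⊔ sSup {L | Invol.CDMax L ∧ M ≤ L ∧ L ≤ (B₁ ⊓ CM) ⊔ M ∧ L ≤ K} with hT₁def
      have hT₁m : Invol.CDMax T₁ := cdMax_sup_sSup hM fun L hL => hL.1
      have hT₁B : T₁ ≤ (B₁ ⊓ CM) ⊔ M := sup_le le_sup_right (sSup_le fun L hL => hL.2.2.1)
      have hT₁K : T₁ ≤ K := sup_le hMK (sSup_le fun L hL => hL.2.2.2)
      have hel₁ : cj b₁ R ≤ R ⊔ T₁ := by
        obtain ⟨E, hEm, hME, hEB, hEI, hRE⟩ := elation hB₁ hM hMM hR hb₁ hb₁M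
        refine hRE.trans (sup_le_sup_left (le_sup_of_le_right (le_sSup ?_)) R)
        exact ⟨hEm, hME, hEB, hEI.trans (sup_le hRK ((cj_mono hRK).trans (hKi B₁ hB₁ b₁ hb₁).le))⟩
      -- `b₁` fixes `π T₁` modulo `M`
      have hfT : ∀ x ∈ π T₁, b₁ * x * b₁⁻¹ * x⁻¹ ∈ M := by
        intro x hx
        obtain ⟨t, ht, y, hy, rfl⟩ := ((hT₁m.lattice hY).2.2.1).subset hx.1
        have hm := fixed_trace hB₁.1 hMM hb₁ hb₁M t (hT₁B ht)
        have hy' : b₁ * y * b₁⁻¹ * y⁻¹ ∈ Y := mul_mem (comm_mem (hYi B₁ hB₁ b₁ hb₁) hy) (inv_mem hy)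
        have hKN : K ≤ Subgroup.normalizer (Y : Set P) := by
          rw [← hHYK]
          refine sup_le ((Subgroup.le_centralizer_iff.mp ?_).trans (Subgroup.centralizer_le_normalizer _))
            Subgroup.le_normalizer
          exact inf_le_right
        show b₁ * (t * y) * b₁⁻¹ * (t * y)⁻¹ ∈ M
        rw [← hHY]
        refine ⟨H.mul_mem (comm_mem (hHi B₁ hB₁ b₁ hb₁) hx.2) (H.inv_mem hx.2), ?_⟩
        have e3 : b₁ * (t * y) * b₁⁻¹ * (t * y)⁻¹ =
            (b₁ * t * b₁⁻¹ * t⁻¹) * (t * (b₁ * y * b₁⁻¹ * y⁻¹) * t⁻¹) := by group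
        rw [e3]
        exact mul_mem (hMY hm) ((Subgroup.mem_normalizer_iff.mp (hKN (hT₁K ht)) _).mp hy')
      have hT'm := πm T₁ hT₁m
      rcases πat R hR hRK _ ((πm R hR.1).lattice hT'm).2.1 (le_inf (πM R) (πM T₁)) inf_le_left with hd | hd
      swap
      · exact cj_eq_of_le (fixed_le (πM R) fun x hx => hfT x (inf_eq_left.mp hd hx))
      -- a complement of `π T₁` in `H` containing `π R`
      obtain ⟨S, ⟨hSm, hRS, hSH, hST⟩, hSmax⟩ :=
        (Set.toFinite {S : Subgroup P | Invol.CDMax S ∧ π R ≤ S ∧ S ≤ H ∧ S ⊓ π T₁ ≤ M}).exists_maximalFor id _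
          ⟨π R, πm R hR.1, le_rfl, inf_le_right, hd.le⟩
      have hMS : M ≤ S := (πM R).trans hRS
      have hST' : H ≤ S ⊔ π T₁ := by
        by_cases hsub : ∀ R', Atom M R' → R' ≤ K → π R' ≤ S ⊔ π T₁
        · have h1 : K ≤ (S ⊔ π T₁) ⊔ Y := hKgen.trans (sup_le (hMY.trans le_sup_right) (sSup_le fun R' hR' =>
            (le_sup_left.trans (πY R' hR'.1.1 hR'.2).ge).trans (sup_le_sup_right (hsub R' hR'.1 hR'.2) Y)))
          have h2 := lmod (hSm.lattice hT'm).1 hY (sup_le hSH inf_le_right : S ⊔ π T₁ ≤ H)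
          rw [inf_comm Y, hHY, sup_eq_left.mpr (hMS.trans le_sup_left)] at h2
          exact (le_inf (hHK.trans h1) le_rfl).trans h2.le
        exfalso
        push Not at hsub
        obtain ⟨R', hR', hR'K, hR'not⟩ := hsub
        have h1 := lmod hSm (πm R' hR'.1) (le_sup_left : S ≤ S ⊔ π T₁)
        rcases πat R' hR' hR'K _ ((πm R' hR'.1).lattice (hSm.lattice hT'm).1).2.1
          (le_inf (πM R') (hMS.trans le_sup_left)) inf_le_left with e | e
        swap
        · exact hR'not (inf_eq_left.mp e)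
        rw [e, sup_eq_left.mpr hMS] at h1
        have h2 : (S ⊔ π R') ⊓ π T₁ ≤ M := fun x hx =>
          hST ⟨h1.le ⟨hx.1, Subgroup.mem_sup_right hx.2⟩, hx.2⟩
        exact hR'not ((le_sup_right.trans (hSmax ⟨(hSm.lattice (πm R' hR'.1)).1, hRS.trans le_sup_left,
          sup_le hSH inf_le_right, h2⟩ le_sup_left)).trans le_sup_left)
      -- a fixed element outside `M`
      obtain ⟨v, hvH, hvM, hv⟩ : ∃ v ∈ H, v ∉ M ∧ ∀ B₂, Good B₂ → ∀ c ∈ B₂, c * v * c⁻¹ * v⁻¹ ∈ M := by
        set N := Subgroup.normalizer (M : Set P) ⊓ Subgroup.normalizer (H : Set P)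
        have hHN : H ≤ N := le_inf (hHC.trans (Subgroup.centralizer_le_normalizer _)) Subgroup.le_normalizer
        haveI : (M.subgroupOf N).Normal :=
          Subgroup.normal_subgroupOf_of_le_normalizer inf_le_left
        haveI : (H.subgroupOf N).Normal :=
          Subgroup.normal_subgroupOf_of_le_normalizer inf_le_right
        have hpQ : IsPGroup p (↥N ⧸ M.subgroupOf N) := (hP.to_subgroup N).to_quotient _
        haveI := hpQ.isNilpotent
        haveI := Subgroup.Normal.map (inferInstance : (H.subgroupOf N).Normal)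
          (QuotientGroup.mk' (M.subgroupOf N)) (QuotientGroup.mk'_surjective _)
        have hne' : (H.subgroupOf N).map (QuotientGroup.mk' (M.subgroupOf N)) ≠ ⊥ := by
          rw [Ne, Subgroup.map_eq_bot_iff, QuotientGroup.ker_mk']
          intro h
          exact hMltH.not_ge fun x hx => h (show (⟨x, hHN hx⟩ : ↥N) ∈ H.subgroupOf N from hx)
        obtain ⟨z, ⟨hzH, hzC⟩, hz1⟩ :=
          (Subgroup.bot_or_exists_ne_one _).resolve_left (Cfsg.Agent.Grp.inf_center_ne_bot _ hne')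
        obtain ⟨w, hw, rfl⟩ := hzH
        refine ⟨w, hw, fun h => hz1 ((QuotientGroup.eq_one_iff w).mpr h), fun B₂ hB₂ c hc => ?_⟩
        have hcN : c ∈ N := by
          have aux : ∀ S : Subgroup P, cj c S = S → c ∈ Subgroup.normalizer (S : Set P) := fun S e => by
            rw [Subgroup.mem_normalizer_iff]
            intro x
            conv_rhs => rw [← e, mem_cj]
            simp [mul_assoc]
          exact ⟨aux M (hMi B₂ hB₂ c hc), aux H (hHi B₂ hB₂ c hc)⟩
        have e := Subgroup.mem_center_iff.mp hzC (QuotientGroup.mk' _ ⟨c, hcN⟩)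
        have : ((⟨c, hcN⟩ : ↥N) * w * (⟨c, hcN⟩)⁻¹ * w⁻¹ : ↥N) ∈ M.subgroupOf N := by
          rw [← QuotientGroup.eq_one_iff, ← QuotientGroup.mk'_apply]
          simp only [map_mul, map_inv]
          rw [e]
          group
        exact this
      -- every member above `M` containing `v` contains `H`
      have hhull : ∀ L, Invol.CDMax L → M ≤ L → v ∈ L → H ≤ L := by
        intro L hL hML hvL
        obtain ⟨L₀, ⟨hL₀, hML₀, hL₀H, hvL₀⟩, hL₀min⟩ :=
          (Set.toFinite {L : Subgroup P | Invol.CDMax L ∧ M ≤ L ∧ L ≤ H ∧ v ∈ L}).exists_minimalFor id _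
            ⟨H, hHm, hMH, le_rfl, hvH⟩
        have hi : Inv L₀ := fun B₂ hB₂ c hc => by
          have hcM := hMi B₂ hB₂ c hc
          have h1 : v ∈ cj c L₀ := by
            have h2 : c * v * c⁻¹ ∈ cj c L₀ := conj_mem_cj hvL₀
            have h3 : c * v * c⁻¹ * v⁻¹ ∈ cj c L₀ := (hcM.ge.trans (cj_mono hML₀)) (hv B₂ hB₂ c hc)
            simpa [mul_assoc] using mul_mem (inv_mem h3) h2
          have h4 : L₀ ⊓ cj c L₀ ≤ cj c L₀ := inf_le_right
          have h5 := hL₀min ⟨(hL₀.lattice (cdMax_cj hL₀ c)).2.1, le_inf hML₀ (hcM.ge.trans (cj_mono hML₀)),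
            inf_le_left.trans hL₀H, hvL₀, h1⟩ inf_le_left
          exact (Subgroup.eq_of_le_of_card_ge (le_trans h5 h4)
            (Subgroup.card_map_of_injective (MulAut.conj c).injective).le).symm
        have hlt : M < L₀ := lt_of_le_of_ne hML₀ fun e => hvM (e ▸ hvL₀)
        have hLH := hHmin L₀ ⟨hL₀, hML₀, hL₀H.trans hHC⟩ hlt hi hL₀H
        have h6 := hL₀min ⟨(hL₀.lattice hL).2.1, le_inf hML₀ hML, inf_le_left.trans hL₀H, hvL₀, hvL⟩
          inf_le_left
        exact hLH ▸ h6.trans inf_le_right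
      obtain ⟨s, hs, t, ht, hst⟩ := ((hSm.lattice hT'm).2.2.1).subset (hST' hvH)
      have hs' : b₁ * s * b₁⁻¹ ∈ S := by
        have hm := hfT t ht
        have hsC := hHC (hSH hs)
        have h1 : (b₁ * s * b₁⁻¹ * s⁻¹) * (b₁ * t * b₁⁻¹ * t⁻¹) = b₁ * v * b₁⁻¹ * v⁻¹ := by
          have e : (b₁ * t * b₁⁻¹ * t⁻¹) * s = s * (b₁ * t * b₁⁻¹ * t⁻¹) :=
            Subgroup.mem_centralizer_iff.mp hsC _ hm
          calc (b₁ * s * b₁⁻¹ * s⁻¹) * (b₁ * t * b₁⁻¹ * t⁻¹)
              = b₁ * s * b₁⁻¹ * (s⁻¹ * ((b₁ * t * b₁⁻¹ * t⁻¹) * s)) * s⁻¹ := by group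
            _ = b₁ * s * b₁⁻¹ * (s⁻¹ * (s * (b₁ * t * b₁⁻¹ * t⁻¹))) * s⁻¹ := by rw [e]
            _ = b₁ * (s * t) * b₁⁻¹ * (s * t)⁻¹ := by group
            _ = _ := by rw [show s * t = v from hst]
        have h2 : b₁ * s * b₁⁻¹ * s⁻¹ ∈ M := by
          have h3 := hv B₁ hB₁ b₁ hb₁
          rw [← h1] at h3
          exact (Subgroup.mul_mem_cancel_right _ hm).mp h3
        simpa using mul_mem (hMS h2) hs
      have hS'' : Invol.CDMax (S ⊓ cj b₁⁻¹ S) := (hSm.lattice (cdMax_cj hSm _)).2.1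
      have hMS'' : M ≤ S ⊓ cj b₁⁻¹ S := le_inf hMS ((cj_inv_eq hb₁M).ge.trans (cj_mono hMS))
      have hH'' : H ≤ (S ⊓ cj b₁⁻¹ S) ⊔ π T₁ := by
        refine hhull _ (hS''.lattice hT'm).1 (hMS''.trans le_sup_left) ?_
        rw [← hst]
        refine Subgroup.mul_mem_sup ⟨hs, ?_⟩ ht
        refine mem_cj.mpr ?_
        rw [inv_inv]
        exact hs'
      have hSfix : cj b₁ S = S := by
        have h1 := lmod hS'' hT'm (inf_le_left : S ⊓ cj b₁⁻¹ S ≤ S)
        rw [inf_eq_right.mpr (hSH.trans hH''), inf_comm (π T₁)] at h1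
        have h2 : S ≤ cj b₁⁻¹ S := h1.le.trans (sup_le inf_le_right (hST.trans (hMS''.trans inf_le_right)))
        exact cj_eq_of_le ((cj_mono h2).trans (cj_cj_inv b₁ S).le)
      refine cj_eq_of_le ?_
      have h1 : cj b₁ (π R) ≤ π R ⊔ π T₁ := by
        calc cj b₁ (π R) = (cj b₁ R ⊔ Y) ⊓ H := by
              simp only [π]; rw [cj_inf, cj_sup, hYi B₁ hB₁ b₁ hb₁, hHi B₁ hB₁ b₁ hb₁]
          _ ≤ ((π R ⊔ π T₁) ⊔ Y) ⊓ H := by
              refine inf_le_inf_right H (sup_le (hel₁.trans (sup_le ?_ ?_)) le_sup_right)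
              · exact le_sup_left.trans ((πY R hR.1 hRK).ge.trans (sup_le_sup_right le_sup_left Y))
              · exact le_sup_left.trans ((πY T₁ hT₁m hT₁K).ge.trans (sup_le_sup_right le_sup_right Y))
          _ = π R ⊔ π T₁ := by
              rw [lmod ((πm R hR.1).lattice hT'm).1 hY (sup_le inf_le_right inf_le_right), inf_comm Y, hHY,
                sup_eq_left.mpr ((πM R).trans le_sup_left)]
      refine (le_inf h1 ((cj_mono hRS).trans hSfix.le)).trans ?_
      rw [lmod (πm R hR.1) hT'm hRS, inf_comm (π T₁)]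
      exact sup_le le_rfl (hST.trans (πM R))
    -- `b` fixes `H` modulo `M`
    have hTY : ¬ T ≤ Y := fun h => by
      obtain ⟨R, ⟨hRm, hMltR, hRT⟩, hRmin⟩ :=
        (Set.toFinite {L : Subgroup P | Invol.CDMax L ∧ M < L ∧ L ≤ T}).exists_minimalFor id _
          ⟨T, hTm, lt_of_le_of_ne le_sup_left fun e => hTM e.ge, le_rfl⟩
      have hR : Atom M R := by
        refine ⟨hRm, ?_, hMltR, fun L hL hML hLR => ?_⟩
        · have hBB : (B ⊓ CM) ⊔ M ≤ Subgroup.centralizer (((B ⊓ CM) ⊔ M : Subgroup P) : Set P) := by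
            refine sup_le ((le_inf ?_ inf_le_right).trans (Invol.centralizer_sup_le _ _))
              ((le_inf ?_ hMM).trans (Invol.centralizer_sup_le _ _))
            · exact inf_le_left.trans (hB.1.trans (Subgroup.centralizer_le (SetLike.coe_subset_coe.mpr inf_le_left)))
            · exact Subgroup.le_centralizer_iff.mp inf_le_right
          have h1 := hRT.trans hTB
          exact h1.trans (hBB.trans (Subgroup.centralizer_le (SetLike.coe_subset_coe.mpr h1)))
        · by_cases e : L = M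
          · exact .inl e
          · exact .inr (le_antisymm hLR (hRmin ⟨hL, lt_of_le_of_ne hML (Ne.symm e), hLR.trans hRT⟩ hLR))
      exact factP Y ⟨hY, hMY, inf_le_left.trans hKC⟩ hYi inf_le_left hYK R hR (hRT.trans h)
    have hπT : π T = H := by
      rcases hatom _ (πm T hTm) (πM T) inf_le_right with e | e
      · exact absurd (le_sup_left.trans ((πY T hTm hTK).ge.trans (sup_le (e.le.trans hMY) le_rfl))) hTY
      · exact e
    intro x hx
    rw [← hπT] at hx
    obtain ⟨t, ht, y, hy, rfl⟩ := ((hTm.lattice hY).2.2.1).subset hx.1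
    have hm := fixed_trace hB.1 hMM hb hbM t (hTB ht)
    have hy' : b * y * b⁻¹ * y⁻¹ ∈ Y := mul_mem (comm_mem (hYi B hB b hb) hy) (inv_mem hy)
    have hKN : K ≤ Subgroup.normalizer (Y : Set P) := by
      rw [← hHYK]
      refine sup_le ((Subgroup.le_centralizer_iff.mp ?_).trans (Subgroup.centralizer_le_normalizer _))
        Subgroup.le_normalizer
      exact inf_le_right
    show b * (t * y) * b⁻¹ * (t * y)⁻¹ ∈ M
    rw [← hHY]
    refine ⟨H.mul_mem (comm_mem (hHi B hB b hb) hx.2) (H.inv_mem hx.2), ?_⟩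
    have e3 : b * (t * y) * b⁻¹ * (t * y)⁻¹ = (b * t * b⁻¹ * t⁻¹) * (t * (b * y * b⁻¹ * y⁻¹) * t⁻¹) := by group
    rw [e3]
    exact mul_mem (hMY hm) ((Subgroup.mem_normalizer_iff.mp (hKN (hTK ht)) _).mp hy')
  -- every abelian atom in `K` is invariant
  have hfixall : ∀ B, Good B → ∀ b ∈ B, ∀ R, Atom M R → R ≤ K → cj b R = R := by
    intro B hB b hb R hR hRK
    by_contra hmove
    have hcent : ∀ H ∈ Hset, ∀ x ∈ H, b * x * b⁻¹ * x⁻¹ ∈ M := fun H hH =>
      (key B hB b hb H hH).resolve_left fun h => hmove (h R hR hRK)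
    let W : Subgroup P :=
      { carrier := {x | x ∈ CM ∧ b * x * b⁻¹ * x⁻¹ ∈ M}
        one_mem' := ⟨one_mem _, by simp⟩
        mul_mem' := by
          rintro x y ⟨hx, hx'⟩ ⟨hy, hy'⟩
          refine ⟨mul_mem hx hy, ?_⟩
          have e : (b * y * b⁻¹ * y⁻¹) * x = x * (b * y * b⁻¹ * y⁻¹) :=
            Subgroup.mem_centralizer_iff.mp hx _ hy'
          have e' : b * (x * y) * b⁻¹ * (x * y)⁻¹ =
              (b * x * b⁻¹ * x⁻¹) * (b * y * b⁻¹ * y⁻¹) := by
            calc b * (x * y) * b⁻¹ * (x * y)⁻¹ = b * x * b⁻¹ * (b * y * b⁻¹ * y⁻¹) * x⁻¹ := by group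
              _ = b * x * b⁻¹ * (x⁻¹ * (x * (b * y * b⁻¹ * y⁻¹))) * x⁻¹ := by group
              _ = b * x * b⁻¹ * (x⁻¹ * ((b * y * b⁻¹ * y⁻¹) * x)) * x⁻¹ := by rw [e]
              _ = _ := by group
          exact e' ▸ mul_mem hx' hy'
        inv_mem' := by
          rintro x ⟨hx, hx'⟩
          refine ⟨inv_mem hx, ?_⟩
          have e : (b * x * b⁻¹ * x⁻¹) * x = x * (b * x * b⁻¹ * x⁻¹) :=
            Subgroup.mem_centralizer_iff.mp hx _ hx'
          have e2 : (b * x * b⁻¹ * x⁻¹)⁻¹ * x = x * (b * x * b⁻¹ * x⁻¹)⁻¹ := (show Commute _ _ from e).inv_left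
          have e' : b * x⁻¹ * b⁻¹ * (x⁻¹)⁻¹ = (b * x * b⁻¹ * x⁻¹)⁻¹ := by
            calc b * x⁻¹ * b⁻¹ * (x⁻¹)⁻¹ = x⁻¹ * ((b * x * b⁻¹ * x⁻¹)⁻¹ * x) := by group
              _ = x⁻¹ * (x * (b * x * b⁻¹ * x⁻¹)⁻¹) := by rw [e2]
              _ = _ := by group
          exact e' ▸ inv_mem hx' }
    set G' := M ⊔ sSup Hset with hG'
    have hG'm : Mem M G' := ⟨cdMax_sup_sSup hM fun L hL => hL.1.1, le_sup_left,
      sup_le hMM (sSup_le fun L hL => hL.1.2.2)⟩
    have hG'i : Inv G' := fun B₂ hB₂ c hc => by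
      refine cj_eq_of_le ?_
      rw [cj_sup, hMi B₂ hB₂ c hc]
      refine sup_le_sup_left ?_ M
      rw [cj, Subgroup.map_le_iff_le_comap]
      refine sSup_le fun L hL => ?_
      rw [← Subgroup.map_le_iff_le_comap]
      exact (hL.2.2.1 B₂ hB₂ c hc).le.trans (le_sSup hL)
    have hG'K : G' ≤ K := sup_le hMK (sSup_le fun L hL => hL.2.2.2.1)
    have hN : Mem M (K ⊓ Subgroup.centralizer (G' : Set P)) :=
      ⟨(hKm.lattice hG'm.1.centralizer).2.1, le_inf hMK (Subgroup.le_centralizer_iff.mp hG'm.2.2),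
        inf_le_left.trans hKC⟩
    have hNM : K ⊓ Subgroup.centralizer (G' : Set P) = M := by
      by_contra hne'
      obtain ⟨H, ⟨hHm, hHlt, hHi, hHN⟩, hHmin⟩ := (Set.toFinite {H : Subgroup P | Mem M H ∧ M < H ∧ Inv H ∧
        H ≤ K ⊓ Subgroup.centralizer (G' : Set P)}).exists_minimalFor id _
          ⟨_, hN, lt_of_le_of_ne hN.2.1 (Ne.symm hne'), hKi.inf hG'i.centralizer, le_rfl⟩
      have hH : H ∈ Hset := ⟨hHm, hHlt, hHi, hHN.trans inf_le_left, fun N hNm hNlt hNi hNH =>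
        le_antisymm hNH (hHmin ⟨hNm, hNlt, hNi, hNH.trans hHN⟩ hNH)⟩
      exact hHlt.not_ge ((le_inf (le_sup_of_le_right (le_sSup hH)) (hHN.trans inf_le_right)).trans
        (factZ G' hG'm hG'i).le)
    have hKW : K ≤ W := by
      have h1 := lmod hG'm.1 hG'm.1.centralizer hG'K
      have e := (hG'm.1.lattice hG'm.1.centralizer).2.2.2.2
      rw [factZ G' hG'm hG'i, ← hG'm.1.centralizer_centralizer, sup_comm] at e
      rw [← e, inf_eq_right.mpr hKC, inf_comm _ K, hNM, sup_eq_left.mpr le_sup_left] at h1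
      refine h1.le.trans (sup_le (fun x hx => ⟨hMM hx, ?_⟩) (sSup_le fun L hL x hx =>
        ⟨hL.1.2.2 hx, hcent L hL x hx⟩))
      exact mul_mem (comm_mem (hMi B hB b hb) hx) (inv_mem hx)
    exact hmove (cj_eq_of_le (fixed_le hR.2.2.1.le fun x hx => (hKW (hRK hx)).2))
  obtain ⟨R, hR, hRK⟩ : ∃ R, Atom M R ∧ R ≤ K := by
    by_contra hnone
    refine hKM.not_ge (hKgen.trans (sup_le le_rfl (sSup_le fun L hL => absurd ⟨L, hL⟩ hnone)))
  exact hR.2.2.1.ne (hmax R hR.1 hR.2.1 (fun B hB b hb => hfixall B hB b hb R hR hRK) hR.2.2.1.le).symm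

/-- The replacement theorem for minimal centrally large subgroups. -/
theorem exists_fixed_minimal {p : ℕ} [Fact p.Prime] (hP : IsPGroup p P) :
    ∃ Q : Subgroup P, Cfsg.IsMinimalCentrallyLarge Q ∧
      Cfsg.thompsonSubgroupA P ≤ Subgroup.normalizer (Q : Set P) ∧
      Cfsg.minimalCentrallyLargeJoin P ≤ Subgroup.normalizer (Q : Set P) := by
  obtain ⟨M₀, hM₀, hM₀min⟩ := (Set.toFinite {M : Subgroup P | Invol.CDMax M}).exists_minimalFor id _
    Invol.exists_cdMax
  have hle : ∀ L, Invol.CDMax L → M₀ ≤ L := fun L hL =>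
    (hM₀min (hM₀.lattice hL).2.1 inf_le_left).trans inf_le_right
  obtain ⟨M, ⟨hM, hMM, hMi⟩, hmax⟩ := (Set.toFinite {M : Subgroup P | Invol.CDMax M ∧
      M ≤ Subgroup.centralizer (M : Set P) ∧ Inv M}).exists_maximalFor id _
    ⟨M₀, hM₀, hle _ hM₀.centralizer, fun B _ b _ => (Subgroup.eq_of_le_of_card_ge (hle _ (cdMax_cj hM₀ b))
      (Subgroup.card_map_of_injective (MulAut.conj b).injective).le).symm⟩
  set Q := Subgroup.centralizer (M : Set P) with hQ
  have hcc := hM.centralizer_centralizer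
  have hQL : Cfsg.IsCentrallyLarge Q := (Invol.centrallyLarge_iff _).mpr ⟨hM.centralizer, hcc.ge.trans hMM⟩
  have hQi : Inv Q := hMi.centralizer
  have aux : ∀ B, Good B → B ≤ Subgroup.normalizer (Q : Set P) := fun B hB b hb => by
    rw [Subgroup.mem_normalizer_iff]
    intro x
    conv_rhs => rw [← hQi B hB b hb, mem_cj]
    simp [mul_assoc]
  have hQmin : Cfsg.IsMinimalCentrallyLarge Q := by
    refine ⟨hQL, fun R hRQ hR => ?_⟩
    obtain ⟨hRm, hRC⟩ := (Invol.centrallyLarge_iff _).mp hR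
    have e := no_larger hP hM hMM hMi (fun N hN hNN hNi hMN => le_antisymm (hmax ⟨hN, hNN, hNi⟩ hMN) hMN)
      hRm.centralizer (hRC.trans hRm.centralizer_centralizer.le) (Subgroup.le_centralizer_iff.mp hRQ)
    rw [hRm.centralizer_centralizer, e]
  refine ⟨Q, hQmin, sSup_le fun A hA => aux A (good_maxAbelian hA), sSup_le fun R hR => ?_⟩
  rw [← CL.minimal_eq hR hQmin]
  exact sup_le (inf_le_right.trans Subgroup.le_normalizer) (aux _ (good_center hR.1))

end Cfsg.Agent.Invol.CLFix
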