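import Mathlib
import Cfsg.Prelude.Def_CaseTheorems
import Cfsg.Agent.Lib.Transfer.OmegaMetacyclic
import Cfsg.Agent.Lib.Transfer.RankTwo
import Cfsg.Agent.Lib.Grp.RankThreeFour
import Cfsg.Agent.Lib.Grp.AutOrbits

/-!
# Chief factors of `p`-power order in groups of `p`-rank at most two, `p` odd
-/

set_option autoImplicit false
set_option linter.unusedSectionVars false
set_option linter.style.haveILetI false

namespace Cfsg.Agent.Invol.ChiefRankTwo

open Subgroup
open scoped commutatorElement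

universe u

variable {p : ℕ} [hp : Fact p.Prime]

/-- The elements of order dividing `p`, when these are central. -/
def omegaC {P : Type*} [Group P] (p : ℕ) (hc : ∀ x : P, x ^ p = 1 → x ∈ Subgroup.center P) : Subgroup P where
  carrier := {x | x ^ p = 1}
  one_mem' := one_pow p
  mul_mem' := fun {x y} hx hy => by
    show (x * y) ^ p = 1
    rw [(show Commute x y from (Subgroup.mem_center_iff.mp (hc x hx) y).symm).mul_pow,
      show x ^ p = 1 from hx, show y ^ p = 1 from hy, one_mul]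
  inv_mem' := fun {x} hx => by
    show x⁻¹ ^ p = 1
    rw [inv_pow, show x ^ p = 1 from hx, inv_one]

theorem mem_omegaC {P : Type*} [Group P] {hc : ∀ x : P, x ^ p = 1 → x ∈ Subgroup.center P} {x : P} :
    x ∈ omegaC p hc ↔ x ^ p = 1 := Iff.rfl

instance omegaC_normal {P : Type*} [Group P] {hc : ∀ x : P, x ^ p = 1 → x ∈ Subgroup.center P} :
    (omegaC p hc).Normal :=
  ⟨fun x hx g => by rw [mem_omegaC, conj_pow, mem_omegaC.mp hx, mul_one, mul_inv_cancel]⟩

theorem sub_central {P : Type*} [Group P] (hc : ∀ x : P, x ^ p = 1 → x ∈ Subgroup.center P)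
    (M : Subgroup P) : ∀ x : M, x ^ p = 1 → x ∈ Subgroup.center M := fun x hx =>
  Subgroup.mem_center_iff.mpr fun y => Subtype.ext
    (Subgroup.mem_center_iff.mp (hc (x : P) (congrArg Subtype.val hx)) y)

theorem comm_pow_eq_one_aux (hp2 : p ≠ 2) : ∀ (n : ℕ) (P : Type u) [Group P] [Finite P],
    Nat.card P = n → IsPGroup p P → (∀ x : P, x ^ p = 1 → x ∈ Subgroup.center P) →
      ∀ x y : P, (x ^ p) ^ p = 1 → ⁅x, y⁆ ^ p = 1 := by
  intro n
  induction n using Nat.strong_induction_on with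
  | _ n ih =>
  intro P _ _ hn hP hc x y hx
  haveI := hP.isNilpotent
  by_cases htop : Subgroup.zpowers x = ⊤
  · obtain ⟨i, hi⟩ := Subgroup.mem_zpowers_iff.mp (htop.ge (Subgroup.mem_top y))
    rw [← hi, commutatorElement_eq_one_iff_commute.mpr ((Commute.refl x).zpow_right i), one_pow]
  obtain ⟨M, hM, hxM⟩ := (eq_top_or_exists_le_coatom (Subgroup.zpowers x)).resolve_left htop
  haveI : M.Normal := Subgroup.NormalizerCondition.normal_of_coatom M normalizerCondition_of_isNilpotent hM
  have hxm : x ∈ M := hxM (Subgroup.mem_zpowers x)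
  set x' := y * x * y⁻¹ with hx'
  have hx'm : x' ∈ M := Subgroup.Normal.conj_mem inferInstance x hxm y
  have hlt : Nat.card M < n := hn ▸ lt_of_le_of_ne (Subgroup.card_le_card_group M)
    fun e => hM.1 (Subgroup.eq_top_of_card_eq M e)
  have hcp : ⁅x, x'⁻¹⁆ ^ p = 1 := congrArg Subtype.val
    (ih _ hlt M rfl (hP.to_subgroup M) (sub_central hc M) ⟨x, hxm⟩ ⟨x'⁻¹, inv_mem hx'm⟩ (Subtype.ext hx))
  have hyx : x⁻¹ * x' = x' * x⁻¹ * ⁅x, x'⁻¹⁆ := by rw [commutatorElement_def]; group
  have h := Grp.AutOrb.mul_pow_of_comm hyx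
    (fun g => (Subgroup.mem_center_iff.mp (hc _ hcp) g).symm) p
  obtain ⟨k, hk⟩ : p ∣ p.choose 2 :=
    hp.out.dvd_choose_self two_ne_zero (lt_of_le_of_ne hp.out.two_le (Ne.symm hp2))
  have hxc : Commute y (x ^ p) := Subgroup.mem_center_iff.mp (hc _ hx) y
  have hx'p : x' ^ p = x ^ p := by rw [hx', conj_pow, hxc.eq, mul_inv_cancel_right]
  rw [hk, pow_mul, hcp, one_pow, mul_one, hx'p, inv_pow, mul_inv_cancel] at h
  rw [← commutatorElement_inv y x, inv_pow, commutatorElement_def, show y * x * y⁻¹ * x⁻¹ = x' * x⁻¹ from rfl,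
    h, inv_one]

theorem comm_pow_eq_one (hp2 : p ≠ 2) {P : Type u} [Group P] [Finite P] (hP : IsPGroup p P)
    (hc : ∀ x : P, x ^ p = 1 → x ∈ Subgroup.center P) (x y : P) (hx : (x ^ p) ^ p = 1) :
    ⁅x, y⁆ ^ p = 1 :=
  comm_pow_eq_one_aux hp2 _ P rfl hP hc x y hx

theorem quotient_central (hp2 : p ≠ 2) {P : Type u} [Group P] [Finite P] (hP : IsPGroup p P)
    (hc : ∀ x : P, x ^ p = 1 → x ∈ Subgroup.center P) :
    ∀ z : P ⧸ omegaC p hc, z ^ p = 1 → z ∈ Subgroup.center (P ⧸ omegaC p hc) := by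
  intro z
  induction z using QuotientGroup.induction_on with
  | _ x =>
  intro hx
  rw [← QuotientGroup.mk_pow, QuotientGroup.eq_one_iff, mem_omegaC] at hx
  rw [Subgroup.mem_center_iff]
  intro w
  induction w using QuotientGroup.induction_on with
  | _ y =>
  rw [← QuotientGroup.mk_mul, ← QuotientGroup.mk_mul, QuotientGroup.eq, mem_omegaC,
    show (y * x)⁻¹ * (x * y) = ⁅x⁻¹, y⁻¹⁆ by rw [commutatorElement_def]; group]
  exact comm_pow_eq_one hp2 hP hc _ _ (by rw [inv_pow, inv_pow, hx, inv_one])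

theorem card_omega_quotient (hp2 : p ≠ 2) {P : Type u} [Group P] [Finite P] (hP : IsPGroup p P)
    (hc : ∀ x : P, x ^ p = 1 → x ∈ Subgroup.center P) :
    Nat.card (omegaC p (quotient_central hp2 hP hc)) ≤ Nat.card (omegaC p hc) := by
  have hmem : ∀ z : omegaC p (quotient_central hp2 hP hc),
      (Quotient.out (z : P ⧸ omegaC p hc)) ^ p ∈ omegaC p hc := fun z => by
    rw [← QuotientGroup.eq_one_iff, QuotientGroup.mk_pow, QuotientGroup.out_eq']
    exact z.2
  refine Nat.card_le_card_of_injective (fun z => (⟨_, hmem z⟩ : omegaC p hc)) fun a b hab => ?_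
  have h1 : (Quotient.out (a : P ⧸ omegaC p hc)) ^ p = (Quotient.out (b : P ⧸ omegaC p hc)) ^ p :=
    congrArg Subtype.val hab
  apply Subtype.ext
  rw [← QuotientGroup.out_eq' (a : P ⧸ omegaC p hc), ← QuotientGroup.out_eq' (b : P ⧸ omegaC p hc),
    QuotientGroup.eq, mem_omegaC]
  set x := Quotient.out (a : P ⧸ omegaC p hc)
  set y := Quotient.out (b : P ⧸ omegaC p hc)
  have hxp : (x ^ p) ^ p = 1 := hmem a
  have hcp : ⁅y⁻¹, x⁆ ^ p = 1 := by
    rw [← commutatorElement_inv x y⁻¹, inv_pow, comm_pow_eq_one hp2 hP hc x y⁻¹ hxp, inv_one]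
  have hyx : y * x⁻¹ = x⁻¹ * y * ⁅y⁻¹, x⁆ := by rw [commutatorElement_def]; group
  obtain ⟨k, hk⟩ : p ∣ p.choose 2 :=
    hp.out.dvd_choose_self two_ne_zero (lt_of_le_of_ne hp.out.two_le (Ne.symm hp2))
  rw [Grp.AutOrb.mul_pow_of_comm hyx (fun g => (Subgroup.mem_center_iff.mp (hc _ hcp) g).symm) p, hk,
    pow_mul, hcp, one_pow, mul_one, inv_pow, h1, inv_mul_cancel]

theorem index_le_omega_aux (hp2 : p ≠ 2) : ∀ (n : ℕ) (P : Type u) [Group P] [Finite P],
    Nat.card P = n → IsPGroup p P → ∀ hc : (∀ x : P, x ^ p = 1 → x ∈ Subgroup.center P),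
      ∀ K : Subgroup P, K.Normal → (∀ a b : P, ⁅a, b⁆ ∈ K) → (∀ a : P, a ^ p ∈ K) →
        K.index ≤ Nat.card (omegaC p hc) := by
  intro n
  induction n using Nat.strong_induction_on with
  | _ n ih =>
  intro P _ _ hn hP hc K hKn hK1 hK2
  haveI := hKn
  by_cases hK : K = ⊤
  · rw [hK, Subgroup.index_top]
    exact Nat.card_pos
  by_cases hZK : omegaC p hc ≤ K
  · have hne : omegaC p hc ≠ ⊥ := by
      intro hb
      obtain ⟨x, -, hx⟩ := SetLike.exists_of_lt (lt_top_iff_ne_top.mpr hK)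
      haveI : Nontrivial P := ⟨⟨x, 1, fun e => hx (e ▸ K.one_mem)⟩⟩
      obtain ⟨j, hj⟩ := IsPGroup.iff_card.mp hP
      have hj0 : j ≠ 0 := fun e => absurd Finite.one_lt_card (by rw [hj, e, pow_zero]; exact lt_irrefl 1)
      obtain ⟨z, hz⟩ := exists_prime_orderOf_dvd_card' p (hj ▸ dvd_pow_self p hj0 : p ∣ Nat.card P)
      have h1 : z ∈ omegaC p hc := orderOf_dvd_iff_pow_eq_one.mp hz.dvd
      rw [hb, Subgroup.mem_bot] at h1
      rw [h1, orderOf_one] at hz
      exact hp.out.one_lt.ne hz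
    have hlt : Nat.card (P ⧸ omegaC p hc) < n := by
      rw [← hn, Subgroup.card_eq_card_quotient_mul_card_subgroup (omegaC p hc)]
      exact lt_mul_of_one_lt_right Nat.card_pos ((Subgroup.one_lt_card_iff_ne_bot _).mpr hne)
    have h := ih _ hlt (P ⧸ omegaC p hc) rfl (hP.to_quotient _) (quotient_central hp2 hP hc)
      (K.map (QuotientGroup.mk' _)) (hKn.map _ (QuotientGroup.mk'_surjective _))
      (fun a b => by
        obtain ⟨a, rfl⟩ := QuotientGroup.mk'_surjective _ a
        obtain ⟨b, rfl⟩ := QuotientGroup.mk'_surjective _ b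
        exact ⟨⁅a, b⁆, hK1 a b, map_commutatorElement _ a b⟩)
      (fun a => by
        obtain ⟨a, rfl⟩ := QuotientGroup.mk'_surjective _ a
        exact ⟨a ^ p, hK2 a, map_pow _ a p⟩)
    rw [Subgroup.index_map_eq _ (QuotientGroup.mk'_surjective _) (by rw [QuotientGroup.ker_mk']; exact hZK)] at h
    exact h.trans (card_omega_quotient hp2 hP hc)
  · obtain ⟨z, hz, hzK⟩ := SetLike.not_le_iff_exists.mp hZK
    haveI : Nonempty {R : Subgroup P // K ≤ R ∧ z ∉ R} := ⟨⟨K, le_rfl, hzK⟩⟩
    obtain ⟨⟨R, hKR, hzR⟩, hmax⟩ := Finite.exists_max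
      (fun R : {R : Subgroup P // K ≤ R ∧ z ∉ R} => Nat.card R.1)
    haveI hRn : R.Normal := ⟨fun r hr g => by
      have := mul_mem (hKR (hK1 g r)) hr
      rwa [commutatorElement_def, inv_mul_cancel_right] at this⟩
    have hzc : Nat.card (Subgroup.zpowers z) = p := by
      rw [Nat.card_zpowers]
      exact orderOf_eq_prime (mem_omegaC.mp hz) fun h => hzR (h ▸ R.one_mem)
    have htop : R ⊔ Subgroup.zpowers z = ⊤ := by
      rw [eq_top_iff]
      intro w _
      by_cases hw : w ∈ R
      · exact Subgroup.mem_sup_left hw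
      have hbig : z ∈ R ⊔ Subgroup.zpowers w := by
        by_contra h
        have := Subgroup.eq_of_le_of_card_ge (le_sup_left : R ≤ R ⊔ Subgroup.zpowers w)
          (hmax ⟨_, hKR.trans le_sup_left, h⟩)
        exact hw (this.ge (Subgroup.mem_sup_right (Subgroup.mem_zpowers w)))
      obtain ⟨r, hr, q, hq, hrq⟩ := Subgroup.mem_sup_of_normal_left.mp hbig
      obtain ⟨i, rfl⟩ := Subgroup.mem_zpowers_iff.mp hq
      have hwp : w ^ (p : ℤ) ∈ R := by rw [zpow_natCast]; exact hKR (hK2 w)
      have hi : ¬ (p : ℤ) ∣ i := by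
        rintro ⟨k, rfl⟩
        exact hzR (hrq ▸ mul_mem hr (by rw [zpow_mul]; exact zpow_mem hwp k))
      obtain ⟨u, v, huv⟩ := ((Nat.prime_iff_prime_int.mp hp.out).coprime_iff_not_dvd.mpr hi)
      have hwi : w ^ i ∈ R ⊔ Subgroup.zpowers z := by
        rw [show w ^ i = r⁻¹ * z by rw [← hrq]; group]
        exact mul_mem (Subgroup.mem_sup_left (inv_mem hr)) (Subgroup.mem_sup_right (Subgroup.mem_zpowers z))
      rw [show w = (w ^ (p : ℤ)) ^ u * (w ^ i) ^ v by
        rw [← zpow_mul, ← zpow_mul, ← zpow_add, mul_comm (p : ℤ), mul_comm i, huv, zpow_one]]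
      exact mul_mem (zpow_mem (Subgroup.mem_sup_left hwp) u) (zpow_mem hwi v)
    have hRi : R.index ≤ p := by
      rw [← Subgroup.relIndex_top_right, ← htop, sup_comm, Subgroup.relIndex_sup_right]
      exact (Nat.le_of_dvd Nat.card_pos (Subgroup.relIndex_dvd_card _ _)).trans hzc.le
    have hlt : Nat.card R < n := hn ▸ lt_of_le_of_ne (Subgroup.card_le_card_group R)
      fun e => hzR (Subgroup.eq_top_of_card_eq R e ▸ Subgroup.mem_top z)
    have h := ih _ hlt R rfl (hP.to_subgroup R) (sub_central hc R) (K.subgroupOf R) inferInstance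
      (fun a b => hK1 a b) (fun a => hK2 a)
    have hle : Nat.card (omegaC p (sub_central hc R)) * p ≤ Nat.card (omegaC p hc) := by
      have hm : (omegaC p (sub_central hc R)).map R.subtype ≤ omegaC p hc := by
        rintro _ ⟨a, ha, rfl⟩
        exact congrArg Subtype.val (mem_omegaC.mp ha)
      have hlt' : (omegaC p (sub_central hc R)).map R.subtype < omegaC p hc :=
        lt_of_le_of_ne hm fun e => by
          obtain ⟨a, -, ha⟩ := e.ge hz
          exact hzR (ha ▸ a.2)
      have hcm := Subgroup.relIndex_mul_relIndex ⊥ _ _ bot_le hm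
      rw [Subgroup.relIndex_bot_left, Subgroup.relIndex_bot_left,
        Subgroup.card_map_of_injective R.subtype_injective] at hcm
      rw [← hcm]
      refine Nat.mul_le_mul_left _ ?_
      obtain ⟨j, hj⟩ := IsPGroup.iff_card.mp (hP.to_subgroup (omegaC p hc))
      obtain ⟨i, -, hi⟩ := (Nat.dvd_prime_pow hp.out).mp (hj ▸ Subgroup.relIndex_dvd_card
        ((omegaC p (sub_central hc R)).map R.subtype) (omegaC p hc))
      rw [hi]
      refine Nat.le_self_pow (fun e => ?_) p
      rw [e, pow_zero, Subgroup.relIndex_eq_one] at hi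
      exact hlt'.not_ge hi
    calc K.index = K.relIndex R * R.index := (Subgroup.relIndex_mul_index hKR).symm
      _ ≤ Nat.card (omegaC p (sub_central hc R)) * p := Nat.mul_le_mul h hRi
      _ ≤ _ := hle

/-- A `p`-group of rank two has a characteristic subgroup of index at most `p²` in which the elements
of order `p` are central. -/
theorem exists_char_central {P : Type u} [Group P] [Finite P] (hp2 : p ≠ 2) (hP : IsPGroup p P)
    (hrk : Cfsg.PRankLE p 2 P) :
    ∃ C : Subgroup P, C.Characteristic ∧ C.index ≤ p ^ 2 ∧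
      ∀ x : C, x ^ p = 1 → x ∈ Subgroup.center C := by
  by_cases hcyc : IsCyclic P
  · refine ⟨⊤, inferInstance, by rw [Subgroup.index_top]; exact Nat.one_le_pow _ _ hp.out.pos, fun x _ => ?_⟩
    exact Subgroup.mem_center_iff.mpr fun y => Subtype.ext ((IsCyclic.commGroup (α := P)).mul_comm y x)
  have htop : ¬ IsCyclic (⊤ : Subgroup P) := fun h => hcyc ((MulEquiv.isCyclic Subgroup.topEquiv).1 h)
  obtain ⟨E, -, hEn, hEe, hEc⟩ := Transfer.exists_normal_elementary hp2 hP ⊤ htop
  haveI := hEn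
  -- elements of order `p` in the second centre
  let R : Subgroup P :=
    { carrier := {x | x ^ p = 1 ∧ ∀ g : P, ⁅g, x⁆ ∈ Subgroup.center P}
      one_mem' := ⟨one_pow p, fun g => by rw [commutatorElement_one_right]; exact one_mem _⟩
      inv_mem' := fun {x} hx => ⟨by rw [inv_pow, hx.1, inv_one], fun g => by
        have h := (inferInstance : (Subgroup.center P).Normal).conj_mem _ (inv_mem (hx.2 g)) x⁻¹
        rw [show ⁅g, x⁻¹⁆ = x⁻¹ * ⁅g, x⁆⁻¹ * x⁻¹⁻¹ by simp only [commutatorElement_def]; group]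
        exact h⟩
      mul_mem' := fun {x y} hx hy => by
        refine ⟨?_, fun g => ?_⟩
        · have hyx : y * x = x * y * ⁅y⁻¹, x⁻¹⁆ := by simp only [commutatorElement_def]; group
          have hc2 : ⁅y⁻¹, x⁻¹⁆ ∈ Subgroup.center P := by
            have h := hx.2 y⁻¹
            rw [show ⁅y⁻¹, x⁻¹⁆ = x⁻¹ * ⁅y⁻¹, x⁆⁻¹ * x⁻¹⁻¹ by simp only [commutatorElement_def]; group]
            exact (inferInstance : (Subgroup.center P).Normal).conj_mem _ (inv_mem h) x⁻¹
          have hcp : ⁅y⁻¹, x⁻¹⁆ ^ p = 1 := by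
            have h2 : y⁻¹ * x⁻¹ * y = ⁅y⁻¹, x⁻¹⁆ * x⁻¹ := by simp only [commutatorElement_def]; group
            have h3 : (y⁻¹ * x⁻¹ * y) ^ p = (⁅y⁻¹, x⁻¹⁆ * x⁻¹) ^ p := by rw [h2]
            rw [(show Commute ⁅y⁻¹, x⁻¹⁆ x⁻¹ from (Subgroup.mem_center_iff.mp hc2 _).symm).mul_pow,
              inv_pow, hx.1, inv_one, mul_one] at h3
            rw [← h3]
            conv_lhs => rw [show y⁻¹ * x⁻¹ * y = y⁻¹ * x⁻¹ * y⁻¹⁻¹ by rw [inv_inv]]
            rw [conj_pow, inv_pow, hx.1, inv_one, mul_one, mul_inv_cancel]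
          obtain ⟨k, hk⟩ : p ∣ p.choose 2 :=
            hp.out.dvd_choose_self two_ne_zero (lt_of_le_of_ne hp.out.two_le (Ne.symm hp2))
          rw [Grp.AutOrb.mul_pow_of_comm hyx (fun g => (Subgroup.mem_center_iff.mp hc2 g).symm) p,
            hx.1, hy.1, hk, pow_mul, hcp, one_pow, one_mul, one_mul]
        · rw [show ⁅g, x * y⁆ = ⁅g, x⁆ * (x * ⁅g, y⁆ * x⁻¹) by simp only [commutatorElement_def]; group]
          exact mul_mem (hx.2 g) ((inferInstance : (Subgroup.center P).Normal).conj_mem _ (hy.2 g) x) }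
  have hRc : R.Characteristic := by
    rw [Subgroup.characteristic_iff_le_comap]
    intro φ x hx
    refine ⟨?_, fun g => ?_⟩
    · rw [← map_pow, hx.1, map_one]
    · obtain ⟨g, rfl⟩ := φ.surjective g
      rw [MulEquiv.coe_toMonoidHom, ← map_commutatorElement]
      exact Subgroup.mem_center_iff.mpr fun y => by
        obtain ⟨y, rfl⟩ := φ.surjective y
        rw [← map_mul, ← map_mul, Subgroup.mem_center_iff.mp (hx.2 g) y]
  have hCc : (Subgroup.centralizer (R : Set P)).Characteristic := by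
    rw [Subgroup.characteristic_iff_le_comap]
    intro φ x hx
    rw [Subgroup.mem_comap, Subgroup.mem_centralizer_iff]
    intro r hr
    obtain ⟨r, rfl⟩ := φ.surjective r
    have hr' : r ∈ R := by
      have h := (Subgroup.characteristic_iff_le_comap.mp hRc) φ.symm hr
      rw [Subgroup.mem_comap] at h
      simpa using h
    rw [MulEquiv.coe_toMonoidHom, ← map_mul, ← map_mul, Subgroup.mem_centralizer_iff.mp hx r hr']
  -- `E` lies in `R`
  have hER : E ≤ R := by
    intro e he
    refine ⟨hEe.2 e he, fun g => ?_⟩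
    obtain ⟨L, hLn, -, hLE, hLc, -⟩ := Transfer.NormalSteps.exists_normal_step hP (M := ⊥) (N := E)
      (bot_lt_iff_ne_bot.mpr fun h => by
        rw [h, Subgroup.card_bot] at hEc
        exact absurd hEc (Nat.one_lt_pow (by norm_num) hp.out.one_lt).ne)
    rw [Subgroup.card_bot, mul_one] at hLc
    haveI := hLn
    obtain ⟨M, -, hLM, hME, hMc, hcom⟩ := Transfer.NormalSteps.exists_normal_step hP (M := L) (N := E)
      (lt_of_le_of_ne hLE fun h => by
        rw [h, hEc, pow_two] at hLc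
        exact (lt_mul_of_one_lt_left hp.out.pos hp.out.one_lt).ne' hLc)
    have hM : M = E := Subgroup.eq_of_le_of_card_ge hME (by rw [hMc, hLc, hEc, pow_two])
    exact Grp.RankThree.central_of_card_le hP hLc.le (hcom g e (hM.symm ▸ he))
  have hR3 : Nat.card R ≤ p ^ 3 :=
    Transfer.RankTwo.card_le_cube (hP.to_subgroup R) (Transfer.RankTwo.rankLE_subgroup hrk R)
      fun x => Subtype.ext x.2.1
  haveI := hEe.1
  have hi := Grp.RankThree.index_centralizer_le hP hEe.1 hEc.le
  refine ⟨_, hCc, ?_, ?_⟩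
  · by_cases hRE : R ≤ E
    · refine le_trans (le_trans ?_ hi) (Nat.le_self_pow two_ne_zero p)
      exact Nat.le_of_dvd (Nat.pos_of_ne_zero Subgroup.index_ne_zero_of_finite)
        (Subgroup.index_dvd_of_le (Subgroup.centralizer_le hRE))
    obtain ⟨x, hxR, hxE⟩ := SetLike.not_le_iff_exists.mp hRE
    set E' := (R ⊓ Subgroup.center P) ⊔ Subgroup.zpowers x with hE'
    have hx' : x ∈ E' := Subgroup.mem_sup_right (Subgroup.mem_zpowers x)
    have hE'R : E' ≤ R := sup_le inf_le_left ((Subgroup.zpowers_le).mpr hxR)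
    haveI hE'n : E'.Normal := by
      haveI : R.Normal := inferInstance
      constructor
      intro a ha g
      have hg := ha
      rw [show g * a * g⁻¹ = ⁅g, a⁆ * a by simp only [commutatorElement_def]; group]
      refine mul_mem (Subgroup.mem_sup_left (Subgroup.mem_inf.mpr ⟨?_, (hE'R ha).2 g⟩)) hg
      rw [commutatorElement_def]
      exact R.mul_mem (Subgroup.Normal.conj_mem inferInstance a (hE'R ha) g) (R.inv_mem (hE'R ha))
    have hE'c : IsMulCommutative E' := by
      have hle : E' ≤ Subgroup.centralizer ((R ⊓ Subgroup.center P : Subgroup P) : Set P) ⊓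
          Subgroup.centralizer ({x} : Set P) := by
        refine sup_le (fun a ha => ⟨?_, ?_⟩) ((Subgroup.zpowers_le).mpr ⟨?_, ?_⟩)
        · exact Subgroup.mem_centralizer_iff.mpr fun b _ => Subgroup.mem_center_iff.mp ha.2 b
        · exact Subgroup.mem_centralizer_iff.mpr fun b _ => Subgroup.mem_center_iff.mp ha.2 b
        · exact Subgroup.mem_centralizer_iff.mpr fun b hb => (Subgroup.mem_center_iff.mp hb.2 x).symm
        · exact Subgroup.mem_centralizer_singleton_iff.mpr rfl
      have hcomm : E' ≤ Subgroup.centralizer (E' : Set P) := by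
        rw [Subgroup.le_centralizer_iff]
        refine sup_le ?_ ?_
        · rw [Subgroup.le_centralizer_iff]; exact hle.trans inf_le_left
        · rw [Subgroup.zpowers_le, Subgroup.mem_centralizer_iff]
          intro a ha
          exact (Subgroup.mem_centralizer_singleton_iff.mp (hle ha).2)
      exact ⟨⟨fun a b => Subtype.ext (Subgroup.mem_centralizer_iff.mp (hcomm b.2) a a.2)⟩⟩
    have hi' := Grp.RankThree.index_centralizer_le hP hE'c (hrk E' hE'c fun a ha => (hE'R ha).1)
    have hgen : R ≤ E ⊔ E' := by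
      refine (Subgroup.eq_of_le_of_card_ge (sup_le hER hE'R) ?_).ge
      obtain ⟨j, hj⟩ := IsPGroup.iff_card.mp (hP.to_subgroup (E ⊔ E'))
      have hlt : p ^ 2 < p ^ j := by
        rw [← hj, ← hEc]
        refine lt_of_le_of_ne (Subgroup.card_le_of_le le_sup_left) fun e => hxE ?_
        exact (Subgroup.eq_of_le_of_card_ge le_sup_left e.ge).ge (Subgroup.mem_sup_right hx')
      rw [hj]
      exact hR3.trans (Nat.pow_le_pow_right hp.out.pos ((Nat.pow_lt_pow_iff_right hp.out.one_lt).mp hlt))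
    have hle : Subgroup.centralizer (E : Set P) ⊓ Subgroup.centralizer (E' : Set P) ≤
        Subgroup.centralizer (R : Set P) := by
      rw [Subgroup.le_centralizer_iff]
      refine hgen.trans (sup_le ?_ ?_)
      · rw [Subgroup.le_centralizer_iff]; exact inf_le_left
      · rw [Subgroup.le_centralizer_iff]; exact inf_le_right
    calc _ ≤ (Subgroup.centralizer (E : Set P) ⊓ Subgroup.centralizer (E' : Set P)).index :=
          Nat.le_of_dvd (Nat.pos_of_ne_zero Subgroup.index_ne_zero_of_finite) (Subgroup.index_dvd_of_le hle)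
      _ ≤ _ := Subgroup.index_inf_le
      _ ≤ p * p := Nat.mul_le_mul hi hi'
      _ = p ^ 2 := (pow_two p).symm
  · intro x hx
    have hxp : (x : P) ^ p = 1 := congrArg Subtype.val hx
    have hxE : ∀ e ∈ E, e * (x : P) = (x : P) * e := fun e he =>
      Subgroup.mem_centralizer_iff.mp x.2 e (hER he)
    set A := E ⊔ Subgroup.zpowers (x : P) with hA
    have hsub : A ≤ Subgroup.centralizer (A : Set P) := by
      rw [Subgroup.le_centralizer_iff]
      refine sup_le ?_ ?_
      · rw [Subgroup.le_centralizer_iff]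
        refine sup_le ?_ ((Subgroup.zpowers_le).mpr (Subgroup.mem_centralizer_iff.mpr hxE))
        intro a ha
        exact Subgroup.mem_centralizer_iff.mpr fun b hb =>
          congrArg Subtype.val (hEe.1.is_comm.comm ⟨b, hb⟩ ⟨a, ha⟩)
      · rw [Subgroup.zpowers_le, Subgroup.mem_centralizer_iff]
        intro a ha
        have hle : A ≤ Subgroup.centralizer ({(x : P)} : Set P) :=
          sup_le (fun e he => Subgroup.mem_centralizer_singleton_iff.mpr (hxE e he))
            ((Subgroup.zpowers_le).mpr (Subgroup.mem_centralizer_singleton_iff.mpr rfl))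
        exact Subgroup.mem_centralizer_singleton_iff.mp (hle ha)
    have hAc : IsMulCommutative A :=
      ⟨⟨fun a b => Subtype.ext (Subgroup.mem_centralizer_iff.mp (hsub b.2) a a.2)⟩⟩
    have hAp : ∀ a ∈ A, a ^ p = 1 := by
      intro a ha
      obtain ⟨e, he, q, hq, rfl⟩ := Subgroup.mem_sup_of_normal_left.mp ha
      obtain ⟨i, rfl⟩ := Subgroup.mem_zpowers_iff.mp hq
      rw [((show Commute e (x : P) from hxE e he).zpow_right i).mul_pow, hEe.2 e he, one_mul,
        ← zpow_natCast, ← zpow_mul, mul_comm, zpow_mul, zpow_natCast, hxp, one_zpow]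
    have hAE := Subgroup.eq_of_le_of_card_ge (le_sup_left : E ≤ A) ((hrk A hAc hAp).trans hEc.ge)
    have hxe : (x : P) ∈ R := hER (hAE.ge (Subgroup.mem_sup_right (Subgroup.mem_zpowers _)))
    exact Subgroup.mem_center_iff.mpr fun y =>
      Subtype.ext (Subgroup.mem_centralizer_iff.mp y.2 _ hxe).symm

/-- A minimal normal `p`-subgroup is elementary abelian. -/
theorem minimal_pgroup_elementary {G : Type*} [Group G] [Finite G] {H : Subgroup G} [H.Normal]
    (hH : IsPGroup p H) (hmin : ∀ L : Subgroup G, L.Normal → L ≤ H → L = ⊥ ∨ L = H) :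
    (∀ a ∈ H, ∀ b ∈ H, ⁅a, b⁆ = 1) ∧ ∀ a ∈ H, a ^ p = 1 := by
  by_cases hne : H = ⊥
  · subst hne
    exact ⟨fun a ha b _ => by rw [Subgroup.mem_bot.mp ha, commutatorElement_one_left],
      fun a ha => by rw [Subgroup.mem_bot.mp ha, one_pow]⟩
  haveI : Nontrivial H := (Subgroup.nontrivial_iff_ne_bot H).mpr hne
  haveI := hH.isNilpotent
  have hlt := IsSolvable.commutator_lt_top_of_nontrivial (G := H)
  have hab : ∀ a ∈ H, ∀ b ∈ H, ⁅a, b⁆ = 1 := by
    have hb : ⁅H, H⁆ = ⊥ := by
      refine (hmin _ inferInstance (Subgroup.commutator_le_right H H)).resolve_right fun e => hlt.ne ?_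
      apply Subgroup.map_injective H.subtype_injective
      rw [map_commutator_eq, ← MonoidHom.range_eq_map, Subgroup.range_subtype, e]
    exact fun a ha b hb' => Subgroup.mem_bot.mp (hb ▸ Subgroup.commutator_mem_commutator ha hb')
  refine ⟨hab, ?_⟩
  let W : Subgroup G :=
    { carrier := {x | x ∈ H ∧ x ^ p = 1}
      one_mem' := ⟨one_mem _, one_pow _⟩
      mul_mem' := fun {x y} hx hy => ⟨mul_mem hx.1 hy.1, by
        rw [(commutatorElement_eq_one_iff_commute.mp (hab x hx.1 y hy.1)).mul_pow, hx.2, hy.2, one_mul]⟩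
      inv_mem' := fun {x} hx => ⟨inv_mem hx.1, by rw [inv_pow, hx.2, inv_one]⟩ }
  have hWn : W.Normal := ⟨fun x hx g => ⟨Subgroup.Normal.conj_mem inferInstance x hx.1 g,
    by rw [conj_pow, hx.2, mul_one, mul_inv_cancel]⟩⟩
  rcases hmin W hWn (fun x hx => hx.1) with h | h
  · exfalso
    obtain ⟨j, hj⟩ := IsPGroup.iff_card.mp hH
    have hj0 : j ≠ 0 := fun e => absurd Finite.one_lt_card (by rw [hj, e, pow_zero]; exact lt_irrefl 1)
    obtain ⟨z, hz⟩ := exists_prime_orderOf_dvd_card' p (hj ▸ dvd_pow_self p hj0 : p ∣ Nat.card H)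
    have h1 : (z : G) ∈ W := ⟨z.2, congrArg Subtype.val (orderOf_dvd_iff_pow_eq_one.mp hz.dvd)⟩
    rw [h, Subgroup.mem_bot] at h1
    rw [← Subgroup.orderOf_coe, h1, orderOf_one] at hz
    exact hp.out.one_lt.ne hz
  · intro a ha
    exact (h.ge ha).2

theorem relIndex_le_sq {G : Type u} [Group G] [Finite G] (hp2 : p ≠ 2) (hr : Cfsg.PRankLE p 2 G)
    (H K : Subgroup G) [H.Normal] [K.Normal] (hKH : K ≤ H) (hpow : ∃ n : ℕ, K.relIndex H = p ^ n)
    (hchief : ∀ L : Subgroup G, L.Normal → K ≤ L → L ≤ H → L = K ∨ L = H) :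
    K.relIndex H ≤ p ^ 2 := by
  obtain ⟨n, hn⟩ := hpow
  set π := QuotientGroup.mk' K
  have hker : π.ker = K := QuotientGroup.ker_mk' K
  -- the chief factor is elementary abelian
  haveI : (H.map π).Normal := Subgroup.Normal.map inferInstance _ (QuotientGroup.mk'_surjective K)
  have hHp : IsPGroup p (H.map π) := by
    refine IsPGroup.of_card (n := n) ?_
    rw [← hn]
    have h1 : Nat.card (H.map π) = (K.subgroupOf H).index := by
      have h2 : (π.comp H.subtype).range = H.map π := by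
        rw [MonoidHom.range_comp, Subgroup.range_subtype]
      rw [← h2, ← Subgroup.index_ker]
      congr 1
      rw [← MonoidHom.comap_ker, hker]
      rfl
    simpa [Subgroup.relIndex] using h1
  obtain ⟨hab, hpw⟩ := minimal_pgroup_elementary hHp fun L hL hLH => by
    rcases hchief (L.comap π) (hL.comap π) (hker.ge.trans (π.ker_le_comap L))
        ((Subgroup.comap_mono hLH).trans (by rw [Subgroup.comap_map_eq, hker]; exact sup_le le_rfl hKH)) with h | h
    · left
      rw [← Subgroup.map_comap_eq_self_of_surjective (QuotientGroup.mk'_surjective K) L, h,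
        Subgroup.map_eq_bot_iff, hker]
    · right
      rw [← Subgroup.map_comap_eq_self_of_surjective (QuotientGroup.mk'_surjective K) L, h]
  have hcomm : ∀ a ∈ H, ∀ b ∈ H, ⁅a, b⁆ ∈ K := fun a ha b hb => by
    rw [← hker, MonoidHom.mem_ker, map_commutatorElement]
    exact hab _ ⟨a, ha, rfl⟩ _ ⟨b, hb, rfl⟩
  have hpowK : ∀ a ∈ H, a ^ p ∈ K := fun a ha => by
    rw [← hker, MonoidHom.mem_ker, map_pow]
    exact hpw _ ⟨a, ha, rfl⟩
  -- a Sylow subgroup covers it
  obtain ⟨Q₀⟩ : Nonempty (Sylow p H) := inferInstance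
  set Q : Subgroup G := (Q₀ : Subgroup H).map H.subtype with hQ
  have hQH : Q ≤ H := Subgroup.map_subtype_le _
  have hQp : IsPGroup p Q := Q₀.2.map _
  have hrQ : Cfsg.PRankLE p 2 Q := Transfer.RankTwo.rankLE_subgroup hr Q
  have hH : Q ⊔ K = H := by
    refine le_antisymm (sup_le hQH hKH) (Subgroup.relIndex_eq_one.mp ?_)
    have h1 : (Q ⊔ K).relIndex H ∣ Q.relIndex H := Subgroup.relIndex_dvd_of_le_left H le_sup_left
    have h2 : (Q ⊔ K).relIndex H ∣ K.relIndex H := Subgroup.relIndex_dvd_of_le_left H le_sup_right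
    obtain ⟨j, -, hj⟩ := (Nat.dvd_prime_pow hp.out).mp (hn ▸ h2)
    have h3 : Q.relIndex H = (Q₀ : Subgroup H).index := by
      rw [Subgroup.relIndex, hQ, Subgroup.subgroupOf, Subgroup.comap_map_eq_self_of_injective H.subtype_injective]
    rcases Nat.eq_zero_or_pos j with rfl | hj0
    · rw [hj, pow_zero]
    exact absurd ((dvd_pow_self p hj0.ne').trans ((hj ▸ h1).trans h3.dvd)) Q₀.not_dvd_index
  obtain ⟨C, hCc, hCi, hCz⟩ := exists_char_central hp2 hQp hrQ
  set C' : Subgroup G := C.map Q.subtype with hC'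
  have hC'Q : C' ≤ Q := Subgroup.map_subtype_le _
  have hQN : Q ≤ Subgroup.normalizer (Q : Set G) := Subgroup.le_normalizer
  have hnorm : Subgroup.normalizer (Q : Set G) ≤ Subgroup.normalizer ((C' ⊔ K : Subgroup G) : Set G) := by
    intro g hg
    have hmap : ∀ g ∈ Subgroup.normalizer (Q : Set G), ∀ c ∈ C', g * c * g⁻¹ ∈ C' := by
      intro g hg c hc
      obtain ⟨c, hc, rfl⟩ := hc
      refine ⟨Subgroup.normalizerMonoidHom Q ⟨g, hg⟩ c, ?_, rfl⟩
      exact (Subgroup.characteristic_iff_le_comap.mp hCc) (Subgroup.normalizerMonoidHom Q ⟨g, hg⟩) hc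
    have hC'n : g ∈ Subgroup.normalizer (C' : Set G) := by
      rw [Subgroup.mem_normalizer_iff]
      refine fun c => ⟨hmap g hg c, fun hc => ?_⟩
      have := hmap g⁻¹ (inv_mem hg) _ hc
      simpa [mul_assoc] using this
    have hKn : g ∈ Subgroup.normalizer (K : Set G) := by
      rw [Subgroup.normalizer_eq_top]; exact Subgroup.mem_top g
    exact Subgroup.normalizer_inf_normalizer_le_normalizer_sup _ _ (Subgroup.mem_inf.mpr ⟨hC'n, hKn⟩)
  haveI hLn : (C' ⊔ K).Normal := by
    rw [← Subgroup.normalizer_eq_top_iff, eq_top_iff, ← Sylow.normalizer_sup_eq_top Q₀]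
    refine sup_le ?_ ?_
    · exact hnorm
    · rw [← hH]
      refine sup_le (hQN.trans hnorm) ?_
      exact le_sup_right.trans Subgroup.le_normalizer
  rcases hchief _ hLn le_sup_right (sup_le (hC'Q.trans hQH) hKH) with h | h
  · have hCK : C' ≤ K := by rw [← h]; exact le_sup_left
    rw [← hH, Subgroup.relIndex_sup_right]
    refine le_trans (Nat.le_of_dvd ?_ (Subgroup.relIndex_dvd_of_le_left Q hCK)) ?_
    · exact Nat.pos_of_ne_zero Subgroup.index_ne_zero_of_finite
    · rw [Subgroup.relIndex, hC', Subgroup.subgroupOf,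
        Subgroup.comap_map_eq_self_of_injective Q.subtype_injective]
      exact hCi
  · rw [← h, Subgroup.relIndex_sup_right]
    have hC'p : IsPGroup p C' := hQp.to_le hC'Q
    have hz : ∀ x : C', x ^ p = 1 → x ∈ Subgroup.center C' := by
      rintro ⟨x, q, hq, rfl⟩ hx
      refine Subgroup.mem_center_iff.mpr ?_
      rintro ⟨y, r, hr', rfl⟩
      have h1 := hCz ⟨q, hq⟩ (Subtype.ext (Subtype.ext (by simpa using congrArg Subtype.val hx)))
      exact Subtype.ext (congrArg (fun t : C => ((t : Q) : G)) (Subgroup.mem_center_iff.mp h1 ⟨r, hr'⟩))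
    have hle : Subgroup.relIndex K C' ≤ Nat.card (omegaC p hz) :=
      index_le_omega_aux hp2 _ C' rfl hC'p hz (K.subgroupOf C') inferInstance
        (fun a b => hcomm a ((hC'Q.trans hQH) a.2) b ((hC'Q.trans hQH) b.2))
        (fun a => hpowK a ((hC'Q.trans hQH) a.2))
    refine hle.trans ?_
    refine Transfer.RankTwo.rankLE_subgroup hr C' _ ⟨⟨fun a b => Subtype.ext
      (Subgroup.mem_center_iff.mp (hz _ (mem_omegaC.mp b.2)) a)⟩⟩ fun a ha => mem_omegaC.mp ha

end Cfsg.Agent.Invol.ChiefRankTwo
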