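import Cfsg.Agent.Lib.Grp.LBalance

/-!
An element `a` of order dividing `p` acting on the components of a finite group: a perfect
subnormal subgroup of `C(a)` inside the layer, which is indecomposable among the subnormal
subgroups of `C(a)`, lies in one component fixed by `a` or is the diagonal of an orbit of length `p`.
-/

set_option autoImplicit false

namespace Cfsg.Agent.Invol

open scoped Pointwise commutatorElement
open Subgroup Cfsg.Agent.Grp

variable {G : Type*} [Group G]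

/-- An element normalizing a perfect subgroup `J` and acting trivially on `J` modulo its centre
centralizes `J`. -/
theorem centralizes_of_mod_center {J : Subgroup G} (hp : ⁅J, J⁆ = J) {e : G}
    (h : ∀ j ∈ J, ⁅e, j⁆ ∈ J ⊓ Subgroup.centralizer (J : Set G)) :
    e ∈ Subgroup.centralizer (J : Set G) := by
  suffices hle : ⁅J, J⁆ ≤ Subgroup.centralizer {e} by
    rw [hp] at hle
    exact Subgroup.mem_centralizer_iff.mpr fun y hy =>
      Subgroup.mem_centralizer_singleton_iff.mp (hle hy)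
  rw [Subgroup.commutator_le]
  intro a ha b hb
  rw [Subgroup.mem_centralizer_singleton_iff]
  set z := ⁅e, a⁆ with hz
  set w := ⁅e, b⁆ with hw
  have hzc : ∀ y ∈ J, z * y = y * z := fun y hy =>
    (Subgroup.mem_centralizer_iff.mp (h a ha).2 y hy).symm
  have hwc : ∀ y ∈ J, w * y = y * w := fun y hy =>
    (Subgroup.mem_centralizer_iff.mp (h b hb).2 y hy).symm
  have ea : e * a * e⁻¹ = z * a := by rw [hz, commutatorElement_def]; group
  have eb : e * b * e⁻¹ = w * b := by rw [hw, commutatorElement_def]; group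
  have key : e * ⁅a, b⁆ * e⁻¹ = ⁅a, b⁆ := by
    calc e * ⁅a, b⁆ * e⁻¹ = ⁅e * a * e⁻¹, e * b * e⁻¹⁆ := by
          simp only [commutatorElement_def]; group
      _ = ⁅z * a, w * b⁆ := by rw [ea, eb]
      _ = z * (a * w) * b * a⁻¹ * z⁻¹ * b⁻¹ * w⁻¹ := by rw [commutatorElement_def]; group
      _ = z * w * (a * b * a⁻¹) * (z⁻¹ * b⁻¹) * w⁻¹ := by rw [← hwc a ha]; group
      _ = z * w * (a * b * a⁻¹) * (b⁻¹ * z⁻¹) * w⁻¹ := by
          rw [show z⁻¹ * b⁻¹ = b⁻¹ * z⁻¹ by rw [← mul_inv_rev, ← mul_inv_rev, hzc b hb]]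
      _ = z * (w * ⁅a, b⁆) * z⁻¹ * w⁻¹ := by rw [commutatorElement_def]; group
      _ = z * (⁅a, b⁆ * w) * z⁻¹ * w⁻¹ := by
          rw [hwc _ (hp ▸ Subgroup.commutator_mem_commutator ha hb)]
      _ = (z * ⁅a, b⁆) * (w * z⁻¹) * w⁻¹ := by group
      _ = ⁅a, b⁆ * (z * w) * (z⁻¹ * w⁻¹) := by
          rw [hzc _ (hp ▸ Subgroup.commutator_mem_commutator ha hb)]; group
      _ = ⁅a, b⁆ := by
          have : z * w = w * z := Subgroup.mem_centralizer_iff.mp (h b hb).2 z (h a ha).1
          rw [this]; group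
  exact mul_inv_eq_iff_eq_mul.mp key |>.symm

section Orbit

variable {p : ℕ} {a : G} {J : Subgroup G}

theorem mem_zpowers_pow_of_coprime [hp : Fact p.Prime] (hap : a ^ p = 1) {d : ℕ} (hd : 0 < d)
    (hdp : d < p) : a ∈ Subgroup.zpowers (a ^ d) := by
  have hco : Nat.Coprime d p :=
    ((hp.out.coprime_iff_not_dvd).mpr fun h => absurd (Nat.le_of_dvd hd h) (by omega)).symm
  obtain ⟨m, -, hm⟩ := Nat.exists_mul_mod_eq_one_of_coprime hco hp.out.one_lt
  refine ⟨(m : ℤ), ?_⟩
  show (a ^ d) ^ (m : ℤ) = a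
  rw [zpow_natCast, ← pow_mul]
  conv_rhs => rw [← pow_one a]
  rw [← Nat.mod_add_div (d * m) p, hm, pow_add, pow_mul, hap, one_pow, mul_one]

theorem conj_pow_smul_ne [hp : Fact p.Prime] (hap : a ^ p = 1)
    (ha : a ∉ Subgroup.normalizer (J : Set G)) {i m : ℕ} (him : i < m) (hm : m < p) :
    MulAut.conj (a ^ i) • J ≠ MulAut.conj (a ^ m) • J := by
  intro h
  apply ha
  have h1 : a ^ (m - i) ∈ Subgroup.normalizer (J : Set G) := by
    rw [mem_normalizer_iff_smul]
    conv_lhs => rw [show J = MulAut.conj ((a ^ i)⁻¹) • MulAut.conj (a ^ i) • J by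
      rw [conj_smul_conj_smul, inv_mul_cancel, map_one, one_smul]]
    have : a ^ (m - i) * (a ^ i)⁻¹ = (a ^ i)⁻¹ * a ^ (m - i) :=
      ((Commute.pow_pow_self a (m - i) i).inv_right).eq
    rw [conj_smul_conj_smul, this, ← conj_smul_conj_smul, conj_smul_conj_smul (a ^ (m - i)),
      ← pow_add, Nat.sub_add_cancel him.le, ← h, conj_smul_conj_smul, inv_mul_cancel, map_one,
      one_smul]
  exact (Subgroup.zpowers_le.mpr h1) (mem_zpowers_pow_of_coprime hap (by omega) (by omega))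

/-- The orbit product. -/
def orbitProd (a : G) (J : Subgroup G) : Subgroup G := ⨆ i : ℕ, MulAut.conj (a ^ i) • J

theorem le_orbitProd_conj (i : ℕ) : MulAut.conj (a ^ i) • J ≤ orbitProd a J :=
  le_iSup (fun i : ℕ => MulAut.conj (a ^ i) • J) i

theorem le_orbitProd : J ≤ orbitProd a J := by simpa using le_orbitProd_conj (a := a) (J := J) 0

theorem mem_normalizer_orbitProd [Finite G] : a ∈ Subgroup.normalizer (orbitProd a J : Set G) := by
  rw [mem_normalizer_iff_smul]
  refine Subgroup.eq_of_le_of_card_ge ?_ (card_conj_smul _ _).ge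
  rw [← map_conj_eq_smul, orbitProd, Subgroup.map_iSup]
  refine iSup_le fun i => ?_
  rw [map_conj_eq_smul, conj_smul_conj_smul, ← pow_succ']
  exact le_orbitProd_conj (a := a) (J := J) (i + 1)

/-- The diagonal map of an orbit of components of length `p`. -/
theorem exists_diagonal [Finite G] [hp : Fact p.Prime] (hJ : Cfsg.IsComponent J) (hap : a ^ p = 1)
    (ha : a ∉ Subgroup.normalizer (J : Set G)) :
    ∃ ψ : ↥J →* G, (∀ j, ψ j ∈ orbitProd a J) ∧ (∀ j, Commute a (ψ j)) ∧
      (∀ j : J, (j : G)⁻¹ * ψ j ∈ Subgroup.centralizer (J : Set G)) ∧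
      ∀ j : J, ψ j = ((j : G) * a) ^ p := by
  let P : ℕ → J → G := fun n j => ((j : G) * a) ^ n * (a ^ n)⁻¹
  have hrec : ∀ n j, P (n + 1) j = P n j * (a ^ n * j * (a ^ n)⁻¹) := by
    intro n j
    simp only [P, pow_succ, mul_inv_rev]
    group
  have hmem : ∀ n (j : J), a ^ n * j * (a ^ n)⁻¹ ∈ MulAut.conj (a ^ n) • J := by
    intro n j
    rw [mem_smul_conj]
    simp [mul_assoc]
  have hcm : ∀ i m, i ≠ m → i < p → m < p →
      MulAut.conj (a ^ i) • J ≤ Subgroup.centralizer ((MulAut.conj (a ^ m) • J : Subgroup G) : Set G) := by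
    intro i m him hi hm
    refine IsComponent.commute (IsComponent.conj hJ _) (IsComponent.conj hJ _) fun h => ?_
    rcases lt_or_gt_of_ne him with h' | h'
    · exact conj_pow_smul_ne hap ha h' hm h
    · exact conj_pow_smul_ne hap ha h' hi h.symm
  have hc : ∀ n, ∀ m, n ≤ m → m < p → ∀ j : J, ∀ k ∈ MulAut.conj (a ^ m) • J, Commute (P n j) k := by
    intro n
    induction n with
    | zero => intro m _ _ j k _; simp [P]
    | succ n ih =>
      intro m hnm hm j k hk
      rw [hrec]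
      refine (ih m (by omega) hm j k hk).mul_left ?_
      exact (Subgroup.mem_centralizer_iff.mp (hcm n m (by omega) (by omega) hm (hmem n j)) k hk).symm
  have hhom : ∀ n, n ≤ p → ∀ j k : J, P n (j * k) = P n j * P n k := by
    intro n
    induction n with
    | zero => intro _ j k; simp [P]
    | succ n ih =>
      intro hn j k
      rw [hrec, hrec, hrec, ih (by omega)]
      have hx := hc n n le_rfl (by omega) k _ (hmem n j)
      rw [Subgroup.coe_mul]
      calc P n j * P n k * (a ^ n * ((j : G) * k) * (a ^ n)⁻¹)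
          = P n j * (P n k * (a ^ n * j * (a ^ n)⁻¹)) * (a ^ n * k * (a ^ n)⁻¹) := by group
        _ = P n j * ((a ^ n * j * (a ^ n)⁻¹) * P n k) * (a ^ n * k * (a ^ n)⁻¹) := by rw [hx.eq]
        _ = _ := by group
  have hcen : ∀ n, n < p → ∀ j : J, (j : G)⁻¹ * P (n + 1) j ∈ Subgroup.centralizer (J : Set G) := by
    intro n
    induction n with
    | zero =>
      intro _ j
      simp [P]
    | succ n ih =>
      intro hn j
      rw [hrec, ← mul_assoc]
      refine Subgroup.mul_mem _ (ih (by omega) j) ?_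
      have := hcm (n + 1) 0 (by omega) hn hp.out.pos (hmem (n + 1) j)
      simpa using this
  have hin : ∀ n, ∀ j : J, P n j ∈ orbitProd a J := by
    intro n
    induction n with
    | zero => intro j; simp [P]
    | succ n ih =>
      intro j
      rw [hrec]
      exact (orbitProd a J).mul_mem (ih j) (le_orbitProd_conj n (hmem n j))
  let ψ : ↥J →* G := MonoidHom.mk' (P p) (hhom p le_rfl)
  refine ⟨ψ, hin p, fun j => ?_, fun j => ?_, fun j => by simp [ψ, P, hap]⟩
  · have h1 : P p j = ((j : G) * a) ^ p := by simp [P, hap]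
    have h2 : Commute ((j : G) * a) (P p j) := by rw [h1]; exact Commute.self_pow _ _
    have h3 : Commute (j : G) (P p j) := by
      obtain ⟨q, hq⟩ := Nat.exists_eq_succ_of_ne_zero hp.out.ne_zero
      have h4 : Commute (j : G) ((j : G)⁻¹ * P p j) := by
        have := hcen q (by omega) j
        rw [← Nat.succ_eq_add_one, ← hq] at this
        exact Subgroup.mem_centralizer_iff.mp this j j.2
      have := (Commute.refl (j : G)).mul_right h4
      rwa [mul_inv_cancel_left] at this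
    have := h3.inv_left.mul_left h2
    rwa [inv_mul_cancel_left] at this
  · obtain ⟨q, hq⟩ := Nat.exists_eq_succ_of_ne_zero hp.out.ne_zero
    have := hcen q (by omega) j
    rw [← Nat.succ_eq_add_one, ← hq] at this
    exact this

/-- The centralizer of `a` in the orbit product is the diagonal times the centre. -/
theorem orbitProd_inf_centralizer [Finite G] (hJ : Cfsg.IsComponent J) {ψ : ↥J →* G}
    (h1 : ∀ j, ψ j ∈ orbitProd a J) (h2 : ∀ j, Commute a (ψ j))
    (h3 : ∀ j : J, (j : G)⁻¹ * ψ j ∈ Subgroup.centralizer (J : Set G)) :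
    ∀ m ∈ orbitProd a J ⊓ Subgroup.centralizer {a}, ∃ j : J,
      (ψ j)⁻¹ * m ∈ (orbitProd a J ⊓ Subgroup.centralizer {a}) ⊓
        Subgroup.centralizer (orbitProd a J : Set G) := by
  intro m hm
  have hdec : m ∈ J ⊔ Subgroup.centralizer (J : Set G) := by
    have : orbitProd a J ≤ J ⊔ Subgroup.centralizer (J : Set G) := by
      refine iSup_le fun i => ?_
      by_cases h : MulAut.conj (a ^ i) • J = J
      · rw [h]; exact le_sup_left
      · exact (IsComponent.commute (IsComponent.conj hJ _) hJ h).trans le_sup_right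
    exact this hm.1
  have hn : J ≤ Subgroup.normalizer (Subgroup.centralizer (J : Set G) : Set G) := by
    refine Subgroup.le_centralizer_iff.mp le_rfl |>.trans (Subgroup.centralizer_le_normalizer _)
  have hdec' : m ∈ ((J ⊔ Subgroup.centralizer (J : Set G) : Subgroup G) : Set G) := hdec
  rw [Subgroup.coe_mul_of_left_le_normalizer_right _ _ hn] at hdec'
  obtain ⟨j, hj, r, hr, rfl⟩ := hdec'
  refine ⟨⟨j, hj⟩, ?_⟩
  set n := (ψ ⟨j, hj⟩)⁻¹ * (j * r) with hn'
  have hnD : n ∈ orbitProd a J ⊓ Subgroup.centralizer {a} :=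
    Subgroup.mul_mem _ (Subgroup.inv_mem _ ⟨h1 _, Subgroup.mem_centralizer_singleton_iff.mpr (h2 _).eq.symm⟩) hm
  have hnJ : n ∈ Subgroup.centralizer (J : Set G) := by
    have : n = ((j : G)⁻¹ * ψ ⟨j, hj⟩)⁻¹ * r := by rw [hn']; group
    rw [this]
    exact Subgroup.mul_mem _ (Subgroup.inv_mem _ (h3 ⟨j, hj⟩)) hr
  refine ⟨hnD, ?_⟩
  have hna : Commute n a := Subgroup.mem_centralizer_singleton_iff.mp hnD.2
  suffices h : orbitProd a J ≤ Subgroup.centralizer {n} from
    Subgroup.mem_centralizer_iff.mpr fun y hy => Subgroup.mem_centralizer_singleton_iff.mp (h hy)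
  refine iSup_le fun i y hy => ?_
  rw [Subgroup.mem_centralizer_singleton_iff]
  have hy' := mem_smul_conj.mp hy
  have h4 : Commute ((a ^ i)⁻¹ * y * a ^ i) n := Subgroup.mem_centralizer_iff.mp hnJ _ hy'
  have h5 := h4.map (MulAut.conj (a ^ i)).toMonoidHom
  have h6 : a ^ i * n * (a ^ i)⁻¹ = n := by rw [(hna.pow_right i).eq.symm, mul_inv_cancel_right]
  simp only [MulEquiv.coe_toMonoidHom, MulAut.conj_apply] at h5
  rw [h6, show a ^ i * ((a ^ i)⁻¹ * y * a ^ i) * (a ^ i)⁻¹ = y by group] at h5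
  exact h5.eq

end Orbit

/-- A perfect subnormal subgroup of `C(a)` inside the layer which is indecomposable among
subnormal subgroups lies in the product of one orbit of components. -/
theorem component_orbit [Finite G] {p : ℕ} [hp : Fact p.Prime] {a : G} (hap : a ^ p = 1)
    {I : Subgroup G} (hIC : I ≤ Subgroup.centralizer {a}) (hperf : ⁅I, I⁆ = I) (hne : I ≠ ⊥)
    (hIs : (I.subgroupOf (Subgroup.centralizer {a})).IsSubnormal) (hIE : I ≤ Cfsg.layer G)
    (hI : ∀ D₁ D₂ : Subgroup G, D₁ ≤ Subgroup.centralizer {a} → D₂ ≤ Subgroup.centralizer {a} →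
      (D₁.subgroupOf (Subgroup.centralizer {a})).IsSubnormal →
      (D₂.subgroupOf (Subgroup.centralizer {a})).IsSubnormal → I ≤ D₁ ⊔ D₂ → I ≤ D₁ ∨ I ≤ D₂) :
    ∃ J : Subgroup G, Cfsg.IsComponent J ∧ ¬ I ≤ Subgroup.centralizer (J : Set G) ∧
      (∀ J' : Subgroup G, Cfsg.IsComponent J' → ¬ I ≤ Subgroup.centralizer (J' : Set G) →
        ∃ i : ℕ, J' = MulAut.conj (a ^ i) • J) ∧
      (a ∈ Subgroup.normalizer (J : Set G) → I ≤ J) ∧
      (a ∉ Subgroup.normalizer (J : Set G) →
        I = ⁅orbitProd a J ⊓ Subgroup.centralizer {a}, orbitProd a J ⊓ Subgroup.centralizer {a}⁆ ∧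
        Nat.card I ≤ Nat.card J ∧ Cfsg.IsQuasisimple I ∧
        (∃ ψ : ↥J →* G, ψ.range = I ∧
          (∀ j : J, (j : G)⁻¹ * ψ j ∈ Subgroup.centralizer (J : Set G)) ∧
          ∀ j : J, ψ j = ((j : G) * a) ^ p) ∧
        ∀ e ∈ Subgroup.normalizer (J : Set G), e ∈ Subgroup.centralizer (I : Set G) →
          e ∈ Subgroup.centralizer (J : Set G)) := by
  classical
  set C := Subgroup.centralizer ({a} : Set G) with hC
  set E := Cfsg.layer G with hE
  -- a component not centralized by `I`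
  obtain ⟨J, hJ, hIJ⟩ : ∃ J : Subgroup G, Cfsg.IsComponent J ∧ ¬ I ≤ Subgroup.centralizer (J : Set G) := by
    by_contra hno
    push Not at hno
    refine hne (eq_bot_of_perfect_of_comm hperf ?_)
    have hEI : E ≤ Subgroup.centralizer (I : Set G) :=
      sSup_le fun (L : Subgroup G) (hL : Cfsg.IsComponent L) =>
        Subgroup.le_centralizer_iff.mp (hno L hL)
    exact hIE.trans hEI
  refine ⟨J, hJ, hIJ, ?_⟩
  set M := orbitProd a J with hM
  let S : Set (Subgroup G) := {J' | Cfsg.IsComponent J' ∧ ∀ i : ℕ, J' ≠ MulAut.conj (a ^ i) • J}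
  set R := sSup S with hR
  have hMR : M ≤ Subgroup.centralizer (R : Set G) := by
    rw [Subgroup.le_centralizer_iff]
    refine sSup_le fun J' hJ' => ?_
    rw [Subgroup.le_centralizer_iff]
    refine iSup_le fun i => IsComponent.commute (IsComponent.conj hJ _) hJ'.1 (Ne.symm (hJ'.2 i))
  have hEMR : E ≤ M ⊔ R := by
    refine sSup_le fun J' hJ' => ?_
    by_cases h : ∃ i : ℕ, J' = MulAut.conj (a ^ i) • J
    · obtain ⟨i, rfl⟩ := h
      exact (le_orbitProd_conj i).trans le_sup_left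
    · push Not at h
      exact (le_sSup ⟨hJ', h⟩ : J' ≤ R).trans le_sup_right
  have hEn : ∀ J' : Subgroup G, Cfsg.IsComponent J' → E ≤ Subgroup.normalizer (J' : Set G) := by
    intro J' hJ'
    refine sSup_le fun (L : Subgroup G) (hL : Cfsg.IsComponent L) => ?_
    rcases eq_or_ne L J' with rfl | h
    · exact Subgroup.le_normalizer
    · exact (IsComponent.commute hL hJ' h).trans (Subgroup.centralizer_le_normalizer _)
  have hnorm : ∀ (g : G) (T : Subgroup G), MulAut.conj g • T ≤ T →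
      g ∈ Subgroup.normalizer (T : Set G) := fun g T h =>
    mem_normalizer_iff_smul.mpr (Subgroup.eq_of_le_of_card_ge h (card_conj_smul _ _).ge)
  have haR : a ∈ Subgroup.normalizer (R : Set G) := by
    refine hnorm a R ?_
    rw [← map_conj_eq_smul, hR, Subgroup.map_le_iff_le_comap]
    refine sSup_le fun J' hJ' => ?_
    rw [← Subgroup.map_le_iff_le_comap, map_conj_eq_smul]
    refine le_sSup ⟨IsComponent.conj hJ'.1 a, fun i h => hJ'.2 (i + (p - 1)) ?_⟩
    have e := congrArg (fun T => MulAut.conj (a ^ (p - 1)) • T) h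
    simp only [conj_smul_conj_smul] at e
    rw [← pow_succ, Nat.sub_add_cancel hp.out.one_le, hap, map_one, one_smul, ← pow_add,
      add_comm] at e
    exact e
  have hEM : E ≤ Subgroup.normalizer (M : Set G) := fun g hg => by
    refine hnorm g M ?_
    rw [← map_conj_eq_smul, hM, orbitProd, Subgroup.map_iSup]
    refine iSup_le fun i => ?_
    rw [map_conj_eq_smul, mem_normalizer_iff_smul.mp (hEn _ (IsComponent.conj hJ _) hg)]
    exact le_orbitProd_conj i
  have hER : E ≤ Subgroup.normalizer (R : Set G) := fun g hg => by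
    refine hnorm g R ?_
    rw [← map_conj_eq_smul, hR, Subgroup.map_le_iff_le_comap]
    refine sSup_le fun J' hJ' => ?_
    rw [← Subgroup.map_le_iff_le_comap, map_conj_eq_smul,
      mem_normalizer_iff_smul.mp (hEn _ hJ'.1 hg)]
    exact le_sSup hJ'
  have hME : M ≤ E := iSup_le fun i => IsComponent.le_layer (IsComponent.conj hJ _)
  have hRE : R ≤ E := sSup_le fun J' hJ' => IsComponent.le_layer hJ'.1
  have hsub : ∀ T : Subgroup G, T ≤ E → E ≤ Subgroup.normalizer (T : Set G) →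
      ((T ⊓ C).subgroupOf C).IsSubnormal := by
    intro T hTE hT
    have h1 : ((E ⊓ C).subgroupOf C).Normal := by
      rw [Subgroup.inf_subgroupOf_right]; infer_instance
    have h2 : ((T ⊓ C).subgroupOf (E ⊓ C)).Normal := by
      refine Subgroup.normal_subgroupOf_of_le_normalizer fun g hg => ?_
      refine hnorm g _ ?_
      rw [← map_conj_eq_smul]
      refine (Subgroup.map_inf_le T C _).trans (inf_le_inf ?_ ?_)
      · rw [map_conj_eq_smul, mem_normalizer_iff_smul.mp (hT hg.1)]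
      · rw [map_conj_eq_smul, mem_normalizer_iff_smul.mp (Subgroup.le_normalizer hg.2)]
    refine Subgroup.IsSubnormal.step _ ((E ⊓ C).subgroupOf C) ?_ h1.isSubnormal ?_
    · exact fun z hz => ⟨hTE hz.1, hz.2⟩
    · rw [Subgroup.normal_subgroupOf_iff_le_normalizer
        (show (T ⊓ C).subgroupOf C ≤ (E ⊓ C).subgroupOf C from fun z hz => ⟨hTE hz.1, hz.2⟩)]
      intro g hg
      have hg' := (Subgroup.normal_subgroupOf_iff_le_normalizer
        (show T ⊓ C ≤ E ⊓ C from inf_le_inf_right C hTE)).mp h2 hg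
      rw [Subgroup.mem_normalizer_iff] at hg' ⊢
      intro z
      simpa [Subgroup.mem_subgroupOf, z.2,
        C.mul_mem (C.mul_mem g.2 z.2) (C.inv_mem g.2)] using hg' z
  have hsplit : I ≤ (M ⊓ C) ⊔ (R ⊓ C) := by
    have hMn : M ≤ Subgroup.normalizer (R : Set G) := hMR.trans (Subgroup.centralizer_le_normalizer _)
    have hdec : ∀ y ∈ I, ∃ m ∈ M, ∃ r ∈ R, y = m * r ∧
        m⁻¹ * (a * m * a⁻¹) ∈ M ⊓ Subgroup.centralizer (E : Set G) ∧
        r⁻¹ * (a * r * a⁻¹) ∈ R ⊓ Subgroup.centralizer (E : Set G) := by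
      intro y hy
      have hy' : y ∈ ((M ⊔ R : Subgroup G) : Set G) := hEMR (hIE hy)
      rw [Subgroup.coe_mul_of_left_le_normalizer_right _ _ hMn] at hy'
      obtain ⟨m, hm, r, hr, rfl⟩ := hy'
      refine ⟨m, hm, r, hr, rfl, ?_⟩
      have ham : a * m * a⁻¹ ∈ M :=
        (Subgroup.mem_normalizer_iff.mp mem_normalizer_orbitProd m).mp hm
      have har : a * r * a⁻¹ ∈ R := (Subgroup.mem_normalizer_iff.mp haR r).mp hr
      have hya : a * (m * r) * a⁻¹ = m * r := by
        have := Subgroup.mem_centralizer_singleton_iff.mp (hIC hy)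
        rw [← this, mul_inv_cancel_right]
      have e1 : m⁻¹ * (a * m * a⁻¹) = r * (a * r * a⁻¹)⁻¹ := by
        have : a * m * a⁻¹ = m * r * (a * r * a⁻¹)⁻¹ := by
          conv_rhs => arg 1; rw [← hya]
          group
        rw [this]; group
      have hcent : ∀ z, z ∈ M → z ∈ R → z ∈ Subgroup.centralizer (E : Set G) := by
        intro z hzM hzR
        have h1 : M ⊔ R ≤ Subgroup.centralizer {z} := sup_le
          (fun u hu => Subgroup.mem_centralizer_singleton_iff.mpr
            (Subgroup.mem_centralizer_iff.mp (hMR hu) z hzR).symm)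
          (fun u hu => Subgroup.mem_centralizer_singleton_iff.mpr
            (Subgroup.mem_centralizer_iff.mp (hMR hzM) u hu))
        exact Subgroup.mem_centralizer_iff.mpr fun u hu =>
          Subgroup.mem_centralizer_singleton_iff.mp (h1 (hEMR hu))
      have hz1 : m⁻¹ * (a * m * a⁻¹) ∈ M := M.mul_mem (M.inv_mem hm) ham
      have hz2 : r⁻¹ * (a * r * a⁻¹) ∈ R := R.mul_mem (R.inv_mem hr) har
      have hz1R : m⁻¹ * (a * m * a⁻¹) ∈ R := e1 ▸ R.mul_mem hr (R.inv_mem har)
      refine ⟨⟨hz1, hcent _ hz1 hz1R⟩, hz2, ?_⟩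
      have hzc := hcent _ hz1 hz1R
      rw [e1] at hzc
      have h2 : (r * (a * r * a⁻¹)⁻¹)⁻¹ = (a * r * a⁻¹) * r⁻¹ := by group
      have h3 := Subgroup.inv_mem _ hzc
      rw [h2] at h3
      have h4 : r⁻¹ * ((a * r * a⁻¹) * r⁻¹) * r = (a * r * a⁻¹) * r⁻¹ := by
        rw [mul_assoc, ← Subgroup.mem_centralizer_iff.mp h3 r (hRE hr), inv_mul_cancel_left]
      have h5 : r⁻¹ * (a * r * a⁻¹) = r⁻¹ * ((a * r * a⁻¹) * r⁻¹) * r := by group
      rwa [h5, h4]
    rw [← hperf, Subgroup.commutator_le]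
    intro y hy y' hy'
    obtain ⟨m, hm, r, hr, rfl, hmz, hrz⟩ := hdec y hy
    obtain ⟨m', hm', r', hr', rfl, hmz', hrz'⟩ := hdec y' hy'
    have hmr : ∀ u ∈ M, ∀ v ∈ R, Commute u v := fun u hu v hv =>
      (Subgroup.mem_centralizer_iff.mp (hMR hu) v hv).symm
    have e : ⁅m * r, m' * r'⁆ = ⁅m, m'⁆ * ⁅r, r'⁆ := by
      have c1 : Commute r m' := (hmr m' hm' r hr).symm
      have c3 : Commute (r * r' * r⁻¹) m⁻¹ :=
        (hmr m⁻¹ (M.inv_mem hm) _ (R.mul_mem (R.mul_mem hr hr') (R.inv_mem hr))).symm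
      have c4 : Commute ((r * r' * r⁻¹) * r'⁻¹) m'⁻¹ :=
        (hmr m'⁻¹ (M.inv_mem hm') _ (R.mul_mem (R.mul_mem (R.mul_mem hr hr') (R.inv_mem hr))
          (R.inv_mem hr'))).symm
      have c5 : Commute r'⁻¹ m'⁻¹ := (hmr m'⁻¹ (M.inv_mem hm') r'⁻¹ (R.inv_mem hr')).symm
      calc ⁅m * r, m' * r'⁆ = m * (r * m') * r' * r⁻¹ * m⁻¹ * r'⁻¹ * m'⁻¹ := by
            rw [commutatorElement_def]; group
        _ = m * m' * ((r * r' * r⁻¹) * m⁻¹) * (r'⁻¹ * m'⁻¹) := by rw [c1.eq]; group
        _ = m * m' * m⁻¹ * ((r * r' * r⁻¹ * r'⁻¹) * m'⁻¹) := by rw [c3.eq]; group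
        _ = m * m' * m⁻¹ * (m'⁻¹ * (r * r' * r⁻¹ * r'⁻¹)) := by rw [c4.eq]
        _ = ⁅m, m'⁆ * ⁅r, r'⁆ := by simp only [commutatorElement_def]; group
    have hfix : ∀ (u u' : G), u ∈ E → u' ∈ E →
        u⁻¹ * (a * u * a⁻¹) ∈ Subgroup.centralizer (E : Set G) →
        u'⁻¹ * (a * u' * a⁻¹) ∈ Subgroup.centralizer (E : Set G) →
        u⁻¹ * (a * u * a⁻¹) ∈ E → u'⁻¹ * (a * u' * a⁻¹) ∈ E →
        ⁅u, u'⁆ ∈ C := by
      intro u u' hu hu' hz hz' hzE hzE'
      rw [hC, Subgroup.mem_centralizer_singleton_iff]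
      set z := u⁻¹ * (a * u * a⁻¹)
      set z' := u'⁻¹ * (a * u' * a⁻¹)
      have ea : a * u * a⁻¹ = u * z := by simp [z]
      have eb : a * u' * a⁻¹ = u' * z' := by simp [z']
      have hcz : ∀ w ∈ E, z * w = w * z := fun w hw => (Subgroup.mem_centralizer_iff.mp hz w hw).symm
      have hcz' : ∀ w ∈ E, z' * w = w * z' := fun w hw => (Subgroup.mem_centralizer_iff.mp hz' w hw).symm
      have key : a * ⁅u, u'⁆ * a⁻¹ = ⁅u, u'⁆ := by
        calc a * ⁅u, u'⁆ * a⁻¹ = ⁅a * u * a⁻¹, a * u' * a⁻¹⁆ := by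
              simp only [commutatorElement_def]; group
          _ = u * z * (u' * z') * (z⁻¹ * u⁻¹) * (z'⁻¹ * u'⁻¹) := by
              rw [ea, eb, commutatorElement_def]; simp only [mul_inv_rev]
          _ = u * (z * (u' * z') * z⁻¹) * u⁻¹ * (z'⁻¹ * u'⁻¹) := by group
          _ = u * u' * (z' * u⁻¹) * z'⁻¹ * u'⁻¹ := by
              rw [hcz _ (E.mul_mem hu' hzE'), mul_inv_cancel_right]; group
          _ = ⁅u, u'⁆ := by rw [hcz' _ (E.inv_mem hu), commutatorElement_def]; group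
      exact (mul_inv_eq_iff_eq_mul.mp key).symm
    rw [e]
    exact Subgroup.mul_mem_sup
      ⟨Subgroup.commutator_le_self M (Subgroup.commutator_mem_commutator hm hm'),
        hfix m m' (hME hm) (hME hm') hmz.2 hmz'.2 (hME hmz.1) (hME hmz'.1)⟩
      ⟨Subgroup.commutator_le_self R (Subgroup.commutator_mem_commutator hr hr'),
        hfix r r' (hRE hr) (hRE hr') hrz.2 hrz'.2 (hRE hrz.1) (hRE hrz'.1)⟩
  have hID : I ≤ M ⊓ C := by
    refine (hI _ _ inf_le_right inf_le_right (hsub M hME hEM) (hsub R hRE hER) hsplit).resolve_right ?_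
    intro h
    exact hIJ ((h.trans inf_le_left).trans
      ((Subgroup.le_centralizer_iff.mp hMR).trans
        (Subgroup.centralizer_le (SetLike.coe_subset_coe.mpr le_orbitProd))))
  refine ⟨fun J' hJ' hne' => ?_, fun haJ => ?_, fun haJ => ?_⟩
  · by_contra hno
    push Not at hno
    exact hne' ((hID.trans inf_le_left).trans (iSup_le fun i =>
      IsComponent.commute (IsComponent.conj hJ _) hJ' (Ne.symm (hno i))))
  · refine (hID.trans inf_le_left).trans (iSup_le fun i => le_of_eq ?_)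
    exact mem_normalizer_iff_smul.mp (Subgroup.pow_mem _ haJ i)
  obtain ⟨ψ, h1, h2, h3, h4⟩ := exists_diagonal hJ hap haJ
  set D := M ⊓ C with hD
  have hψD : ψ.range ≤ D := by
    rintro _ ⟨j, rfl⟩
    exact ⟨h1 j, Subgroup.mem_centralizer_singleton_iff.mpr (h2 j).eq.symm⟩
  have hperfψ : ⁅ψ.range, ψ.range⁆ = ψ.range := by
    have := hJ.2.1
    rw [MonoidHom.range_eq_map, ← Subgroup.map_commutator, ← _root_.commutator_def, this.commutator_eq_top]
  have hDD : ⁅D, D⁆ = ψ.range := by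
    refine le_antisymm ?_ (hperfψ ▸ Subgroup.commutator_mono hψD hψD)
    rw [Subgroup.commutator_le]
    intro u hu v hv
    obtain ⟨j, hj⟩ := orbitProd_inf_centralizer hJ h1 h2 h3 u hu
    obtain ⟨k, hk⟩ := orbitProd_inf_centralizer hJ h1 h2 h3 v hv
    set n := (ψ j)⁻¹ * u
    set n' := (ψ k)⁻¹ * v
    have eu : u = ψ j * n := by simp [n]
    have ev : v = ψ k * n' := by simp [n']
    have c1 : ∀ w ∈ M, n * w = w * n := fun w hw => (Subgroup.mem_centralizer_iff.mp hj.2 w hw).symm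
    have c2 : ∀ w ∈ M, n' * w = w * n' := fun w hw => (Subgroup.mem_centralizer_iff.mp hk.2 w hw).symm
    have : ⁅u, v⁆ = ψ ⁅j, k⁆ := by
      rw [map_commutatorElement, eu, ev]
      calc ⁅ψ j * n, ψ k * n'⁆ = ψ j * (n * (ψ k * n') * n⁻¹) * (ψ j)⁻¹ * n'⁻¹ * (ψ k)⁻¹ := by
            rw [commutatorElement_def]; group
        _ = ψ j * ψ k * (n' * (ψ j)⁻¹) * n'⁻¹ * (ψ k)⁻¹ := by
            rw [c1 _ (M.mul_mem (h1 k) hk.1.1), mul_inv_cancel_right]; group
        _ = ⁅ψ j, ψ k⁆ := by rw [c2 _ (M.inv_mem (h1 j)), commutatorElement_def]; group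
    rw [this]
    exact ⟨_, rfl⟩
  have hIψ : I ≤ ψ.range := by
    rw [← hperf, ← hDD]
    exact Subgroup.commutator_mono hID hID
  -- the preimage of `I` is everything
  have hpre : I.comap ψ = ⊤ := by
    have hsn : (I.comap ψ).IsSubnormal := by
      let g : ↥J →* ↥C := ψ.codRestrict C fun j => (hψD ⟨j, rfl⟩).2
      have : I.comap ψ = (I.subgroupOf C).comap g := by
        ext j; rfl
      rw [this]
      exact hIs.comap g
    refine (IsQuasisimple.eq_top_or_le_center_of_subnormal hJ.2 hsn).resolve_right fun h => hne ?_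
    refine eq_bot_of_perfect_of_comm hperf fun x hx => Subgroup.mem_centralizer_iff.mpr fun y hy => ?_
    obtain ⟨jx, rfl⟩ := hIψ hx
    obtain ⟨jy, rfl⟩ := hIψ hy
    rw [← map_mul, ← map_mul, Subgroup.mem_center_iff.mp (h hx) jy]
  have hIeq : I = ψ.range := by
    refine le_antisymm hIψ ?_
    rintro _ ⟨j, rfl⟩
    exact (hpre ▸ Subgroup.mem_top j : j ∈ I.comap ψ)
  refine ⟨hIeq.trans hDD.symm, ?_, ?_, ⟨ψ, hIeq.symm, h3, h4⟩, fun e heJ heI => ?_⟩
  · rw [hIeq]
    exact Nat.card_le_card_of_surjective _ ψ.rangeRestrict_surjective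
  · have : Nontrivial ψ.range := by
      rw [← hIeq]; exact (Subgroup.nontrivial_iff_ne_bot I).mpr hne
    rw [hIeq]
    exact IsQuasisimple.of_surjective hJ.2 ψ.rangeRestrict_surjective
  refine centralizes_of_mod_center (IsComponent.perfect hJ) fun j hj => ?_
  set r := (j : G)⁻¹ * ψ ⟨j, hj⟩ with hr
  have hrJ : r ∈ Subgroup.centralizer (J : Set G) := h3 ⟨j, hj⟩
  have hej : e * j * e⁻¹ ∈ J := (Subgroup.mem_normalizer_iff.mp heJ j).mp hj
  have her : e * r * e⁻¹ ∈ Subgroup.centralizer (J : Set G) := by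
    refine Subgroup.mem_centralizer_iff.mpr fun y hy => ?_
    have hy' : e⁻¹ * y * e ∈ J := (Subgroup.mem_normalizer_iff''.mp heJ y).mp hy
    have := (show Commute (e⁻¹ * y * e) r from Subgroup.mem_centralizer_iff.mp hrJ _ hy').map
      (MulAut.conj e).toMonoidHom
    simp only [MulEquiv.coe_toMonoidHom, MulAut.conj_apply] at this
    rw [show e * (e⁻¹ * y * e) * e⁻¹ = y by group] at this
    exact this.eq
  have hfix : e * ψ ⟨j, hj⟩ * e⁻¹ = ψ ⟨j, hj⟩ := by
    have := Subgroup.mem_centralizer_iff.mp heI (ψ ⟨j, hj⟩) (hIeq ▸ ⟨_, rfl⟩)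
    rw [← this, mul_inv_cancel_right]
  refine ⟨J.mul_mem hej (J.inv_mem hj), ?_⟩
  -- `⁅e, j⁆ = (e j e⁻¹) j⁻¹` centralizes `J`
  have h4 : e * j * e⁻¹ * (e * r * e⁻¹) = j * r := by
    have : (j : G) * r = ψ ⟨j, hj⟩ := by simp [hr]
    rw [this, ← hfix, ← this]; group
  have h5 : ⁅e, j⁆ = j * (r * (e * r * e⁻¹)⁻¹) * j⁻¹ := by
    have : e * j * e⁻¹ = j * r * (e * r * e⁻¹)⁻¹ := by rw [← h4]; group
    rw [commutatorElement_def, this]; group
  rw [h5]
  refine Subgroup.mem_centralizer_iff.mpr fun y hy => ?_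
  have hy' : (j : G)⁻¹ * y * j ∈ J := J.mul_mem (J.mul_mem (J.inv_mem hj) hy) hj
  have h6 := Subgroup.mem_centralizer_iff.mp
    (Subgroup.mul_mem _ hrJ (Subgroup.inv_mem _ her)) _ hy'
  calc y * (j * (r * (e * r * e⁻¹)⁻¹) * j⁻¹)
      = j * ((j⁻¹ * y * j) * (r * (e * r * e⁻¹)⁻¹)) * j⁻¹ := by group
    _ = j * ((r * (e * r * e⁻¹)⁻¹) * (j⁻¹ * y * j)) * j⁻¹ := by rw [h6]
    _ = _ := by group

end Cfsg.Agent.Invol
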