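import Cfsg.Agent.Lib.Grp.QuadraticGroup
import Cfsg.Agent.Lib.Invol.ThompsonComplement

/-!
An element acting on a group `W` of odd prime exponent, modulo a central subgroup, like a
transvection commuting with an element inverting the quotient, can be corrected so as to act
quadratically on `W`.
-/

set_option autoImplicit false
set_option linter.style.haveILetI false
set_option linter.unusedSectionVars false

open scoped commutatorElement

namespace Cfsg.Agent.Invol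

open Grp.Quad

variable {M : Type*} [Group M] {p : ℕ} [hp : Fact p.Prime]

theorem odd_prime_eq (hodd : p ≠ 2) : 2 * ((p - 1) / 2) + 1 = p := by
  have := (hp.out.eq_two_or_odd).resolve_left hodd
  omega

/-- Correct `u` so that it commutes with `τ` on `W`. -/
theorem adjust (hodd : p ≠ 2) {W R : Subgroup M} (hRW : R ≤ W) (hexp : ∀ w ∈ W, w ^ p = 1)
    (hRc : ∀ r ∈ R, ∀ w ∈ W, Commute r w) {τ u : M} (hτ : τ ∈ Subgroup.normalizer (W : Set M))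
    (hu : u ∈ Subgroup.normalizer (W : Set M)) (hτR : ∀ r ∈ R, Commute τ r)
    (huR : ∀ r ∈ R, Commute u r) (hinv : ∀ w ∈ W, τ * w * τ⁻¹ * w ∈ R)
    (hcomm : ∀ w ∈ W, (τ * u * w * (τ * u)⁻¹)⁻¹ * (u * τ * w * (u * τ)⁻¹) ∈ R) :
    let u' := (u * τ * u⁻¹ * τ⁻¹) ^ ((p - 1) / 2) * u
    (∀ w ∈ W, τ * u' * w * (τ * u')⁻¹ = u' * τ * w * (u' * τ)⁻¹) ∧
      ∀ w ∈ W, (u * w * u⁻¹)⁻¹ * (u' * w * u'⁻¹) ∈ R := by
  intro u'
  set N := Subgroup.normalizer (W : Set M) with hN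
  set e := u * τ * u⁻¹ * τ⁻¹ with he
  set m := (p - 1) / 2 with hm
  have heN : e ∈ N := N.mul_mem (N.mul_mem (N.mul_mem hu hτ) (N.inv_mem hu)) (N.inv_mem hτ)
  have hNW : ∀ {g : M}, g ∈ N → ∀ {w : M}, w ∈ W → g * w * g⁻¹ ∈ W := fun hg _ hw =>
    (Subgroup.mem_normalizer_iff.1 hg _).1 hw
  have hτe : ∀ r ∈ R, Commute e r := fun r hr =>
    (((huR r hr).mul_left (hτR r hr)).mul_left (huR r hr).inv_left).mul_left (hτR r hr).inv_left
  have hδ : ∀ w ∈ W, w⁻¹ * (e * w * e⁻¹) ∈ R := by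
    intro w hw
    have h1 := hcomm ((τ * u)⁻¹ * w * (τ * u)⁻¹⁻¹) (hNW (N.inv_mem (N.mul_mem hτ hu)) hw)
    rwa [show τ * u * ((τ * u)⁻¹ * w * (τ * u)⁻¹⁻¹) * (τ * u)⁻¹ = w by group,
      show u * τ * ((τ * u)⁻¹ * w * (τ * u)⁻¹⁻¹) * (u * τ)⁻¹ = e * w * e⁻¹ by rw [he]; group] at h1
  have hen : ∀ n : ℕ, ∀ w ∈ W, e ^ n * w * (e ^ n)⁻¹ = w * (w⁻¹ * (e * w * e⁻¹)) ^ n := by
    intro n w hw
    induction n with
    | zero => simp
    | succ n ih =>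
      calc e ^ (n + 1) * w * (e ^ (n + 1))⁻¹ = e * (e ^ n * w * (e ^ n)⁻¹) * e⁻¹ := by
            rw [pow_succ']; group
        _ = e * (w * (w⁻¹ * (e * w * e⁻¹)) ^ n) * e⁻¹ := by rw [ih]
        _ = e * w * e⁻¹ * (e * (w⁻¹ * (e * w * e⁻¹)) ^ n * e⁻¹) := by group
        _ = e * w * e⁻¹ * (w⁻¹ * (e * w * e⁻¹)) ^ n := by
          rw [((hτe _ (hδ w hw)).pow_right n).eq, mul_inv_cancel_right]
        _ = w * (w⁻¹ * (e * w * e⁻¹)) * (w⁻¹ * (e * w * e⁻¹)) ^ n := by rw [mul_inv_cancel_left]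
        _ = w * (w⁻¹ * (e * w * e⁻¹)) ^ (n + 1) := by rw [pow_succ', mul_assoc]
  have hep : ∀ w ∈ W, e ^ p * w * (e ^ p)⁻¹ = w := fun w hw => by
    rw [hen p w hw, hexp _ (hRW (hδ w hw)), mul_one]
  have hflip : ∀ w ∈ W, τ * e * τ⁻¹ * w * (τ * e * τ⁻¹)⁻¹ = e⁻¹ * w * e⁻¹⁻¹ := by
    intro w hw
    set w' := τ⁻¹ * w * τ with hw'
    have hw'W : w' ∈ W := by
      have := hNW (N.inv_mem hτ) hw
      rwa [inv_inv] at this
    have hr := hinv w' hw'W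
    rw [hw', show τ * (τ⁻¹ * w * τ) * τ⁻¹ * (τ⁻¹ * w * τ) = w * (τ⁻¹ * w * τ) by group, ← hw'] at hr
    set d := w⁻¹ * (e * w * e⁻¹) with hd
    have hdR : d ∈ R := hδ w hw
    have h1 : e * w' * e⁻¹ = d⁻¹ * w' := by
      have h2 := (hτe _ hr).eq
      calc e * w' * e⁻¹ = (e * w * e⁻¹)⁻¹ * (e * (w * w') * e⁻¹) := by group
        _ = (w * d)⁻¹ * (w * w') := by rw [h2, mul_inv_cancel_right, hd]; group
        _ = d⁻¹ * w' := by group
    calc τ * e * τ⁻¹ * w * (τ * e * τ⁻¹)⁻¹ = τ * (e * w' * e⁻¹) * τ⁻¹ := by rw [hw']; group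
      _ = τ * d⁻¹ * τ⁻¹ * w := by rw [h1, hw']; group
      _ = d⁻¹ * w := by rw [((hτR _ hdR).inv_right).eq, mul_inv_cancel_right]
      _ = w * d⁻¹ := ((hRc _ hdR w hw).inv_left).eq
      _ = e⁻¹ * (e * w * e⁻¹) * e * d⁻¹ := by group
      _ = e⁻¹ * (w * d) * e * d⁻¹ := by rw [hd]; group
      _ = e⁻¹ * w * e⁻¹⁻¹ * (e⁻¹ * d * e * d⁻¹) := by group
      _ = e⁻¹ * w * e⁻¹⁻¹ := by
        rw [((hτe _ hdR).inv_left).eq, inv_mul_cancel_right, mul_inv_cancel, mul_one]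
  let ν : N →* MulAut W := W.normalizerMonoidHom
  have hν : ∀ (g : N) (w : W), ((ν g w : W) : M) = g * w * (g : M)⁻¹ := fun _ _ => rfl
  let T : N := ⟨τ, hτ⟩
  let U : N := ⟨u, hu⟩
  let E' : N := U * T * U⁻¹ * T⁻¹
  have hE' : (E' : M) = e := rfl
  have hEp : ν E' ^ p = 1 := MulEquiv.ext fun w => Subtype.ext (by
    rw [← map_pow, hν, SubmonoidClass.coe_pow, hE', MulAut.one_apply]; exact hep w w.2)
  have hTE : ν T * ν E' * (ν T)⁻¹ = (ν E')⁻¹ := MulEquiv.ext fun w => Subtype.ext (by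
    rw [← map_inv, ← map_mul, ← map_mul, ← map_inv, hν, hν]
    exact hflip w w.2)
  have hTU : ν T * ν U * (ν T)⁻¹ = (ν E')⁻¹ * ν U := by
    simp only [E', map_mul, map_inv]
    group
  have hkey : ν T * (ν E' ^ m * ν U) = ν E' ^ m * ν U * ν T := by
    rw [← mul_inv_eq_iff_eq_mul]
    calc ν T * (ν E' ^ m * ν U) * (ν T)⁻¹
        = (ν T * ν E' * (ν T)⁻¹) ^ m * (ν T * ν U * (ν T)⁻¹) := by rw [conj_pow]; group
      _ = ((ν E')⁻¹) ^ m * ((ν E')⁻¹ * ν U) := by rw [hTE, hTU]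
      _ = ν E' ^ m * ν U := by
        rw [← mul_assoc, ← pow_succ, inv_pow]
        congr 1
        refine inv_eq_of_mul_eq_one_right ?_
        rw [← pow_add, show m + 1 + m = p by have := odd_prime_eq (p := p) hodd; omega, hEp]
  refine ⟨fun w hw => ?_, fun w hw => ?_⟩
  · rw [← map_pow, ← map_mul, ← map_mul, ← map_mul] at hkey
    exact congrArg (fun φ : MulAut W => ((φ ⟨w, hw⟩ : W) : M)) hkey
  · have h1 : u' * w * u'⁻¹ =
        u * w * u⁻¹ * ((u * w * u⁻¹)⁻¹ * (e * (u * w * u⁻¹) * e⁻¹)) ^ m := by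
      rw [← hen m _ (hNW hu hw)]
      simp only [u', he, hm]
      group
    rw [h1, inv_mul_cancel_left]
    exact R.pow_mem (hδ _ (hNW hu hw)) m

/-- The inverted elements of a coset of a centralised central subgroup. -/
theorem exists_inverted_mul (hodd : p ≠ 2) {W R : Subgroup M} (hRW : R ≤ W)
    (hexp : ∀ w ∈ W, w ^ p = 1) (hRc : ∀ r ∈ R, ∀ w ∈ W, Commute r w) {τ : M}
    (hτR : ∀ r ∈ R, Commute τ r) {w : M} (hw : w ∈ W) (hinv : τ * w * τ⁻¹ * w ∈ R) :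
    ∃ c ∈ R, τ * (w * c) * τ⁻¹ = (w * c)⁻¹ := by
  set r := τ * w * τ⁻¹ * w with hr
  refine ⟨r ^ ((p - 1) / 2), R.pow_mem hinv _, ?_⟩
  set c := r ^ ((p - 1) / 2) with hc
  have hrc : r * (c * c) = 1 := by
    rw [hc, ← pow_add, ← pow_succ', show (p - 1) / 2 + (p - 1) / 2 + 1 = p by
      have := odd_prime_eq (p := p) hodd; omega, hexp _ (hRW hinv)]
  have hcR : c ∈ R := R.pow_mem hinv _
  calc τ * (w * c) * τ⁻¹ = τ * w * (c * τ⁻¹) := by group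
    _ = τ * w * τ⁻¹ * c := by rw [← ((hτR c hcR).inv_left).eq]; group
    _ = r * w⁻¹ * c := by rw [hr]; group
    _ = r * c * w⁻¹ := by rw [mul_assoc, ← ((hRc c hcR w hw).inv_right).eq, ← mul_assoc]
    _ = r * (c * c) * (c⁻¹ * w⁻¹) := by group
    _ = (w * c)⁻¹ := by rw [hrc, one_mul, mul_inv_rev]

/-- An element commuting with `τ` on `W` and moving the commutators `[u, w]` inside their cosets of
the central subgroup acts quadratically. -/
theorem quadOn_of_commute (hodd : p ≠ 2) {W Y : Subgroup M} (hYW : Y ≤ W)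
    (hexp : ∀ w ∈ W, w ^ p = 1) (hYc : ∀ y ∈ Y, ∀ w ∈ W, Commute y w) {τ u : M}
    (hu : u ∈ Subgroup.normalizer (W : Set M))
    (hτY : ∀ y ∈ Y, Commute τ y) (huY : ∀ y ∈ Y, Commute u y)
    (hcomm : ∀ w ∈ W, τ * u * w * (τ * u)⁻¹ = u * τ * w * (u * τ)⁻¹)
    (hinv : ∀ w ∈ W, τ * w * τ⁻¹ * w ∈ Y)
    (hfix : ∀ w ∈ W, (u * w * u⁻¹ * w⁻¹)⁻¹ * (u * (u * w * u⁻¹ * w⁻¹) * u⁻¹) ∈ Y) :
    QuadOn u W := by
  intro w hw
  set d := u * w * u⁻¹ * w⁻¹ with hd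
  have hdW : d ∈ W := W.mul_mem ((Subgroup.mem_normalizer_iff.1 hu w).1 hw) (W.inv_mem hw)
  obtain ⟨c, hc, hdc⟩ := exists_inverted_mul hodd hYW hexp hYc hτY hdW (hinv d hdW)
  set a := d * c with ha
  have haW : a ∈ W := W.mul_mem hdW (hYW hc)
  set b := u * a * u⁻¹ with hb
  have hbinv : τ * b * τ⁻¹ = b⁻¹ := by
    rw [hb, show τ * (u * a * u⁻¹) * τ⁻¹ = τ * u * a * (τ * u)⁻¹ by group, hcomm a haW,
      show u * τ * a * (u * τ)⁻¹ = u * (τ * a * τ⁻¹) * u⁻¹ by group, hdc]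
    group
  set y := d⁻¹ * (u * d * u⁻¹) with hy
  have hyY : y ∈ Y := hfix w hw
  have hba : b = a * y := by
    have e1 : u * c * u⁻¹ = c := by rw [(huY c hc).eq, mul_inv_cancel_right]
    calc b = u * d * u⁻¹ * (u * c * u⁻¹) := by rw [hb, ha]; group
      _ = d * (y * c) := by rw [e1, hy]; group
      _ = d * (c * y) := by rw [(hYc y hyY c (hYW hc)).eq]
      _ = a * y := (mul_assoc d c y).symm
  have h1 : a⁻¹ * y = y⁻¹ * a⁻¹ := by
    rw [← mul_inv_rev, ← hba, ← hbinv, hba,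
      show τ * (a * y) * τ⁻¹ = (τ * a * τ⁻¹) * (τ * y * τ⁻¹) by group, hdc, (hτY y hyY).eq,
      mul_inv_cancel_right]
  have h2 : y * y = 1 := by
    rw [← ((hYc y hyY a haW).inv_right).eq] at h1
    have h3 := mul_right_cancel h1
    nth_rewrite 2 [h3]
    exact mul_inv_cancel y
  have hy1 : y = 1 := by
    have h4 : y ^ p = y := by
      rw [← odd_prime_eq (p := p) hodd, pow_succ, pow_mul, sq, h2, one_pow, one_mul]
    rw [hexp y (hYW hyY)] at h4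
    exact h4.symm
  show u * d = d * u
  have h5 : u * d * u⁻¹ = d := by
    have h6 : d * y = u * d * u⁻¹ := by rw [hy]; group
    rw [← h6, hy1, mul_one]
  exact mul_inv_eq_iff_eq_mul.1 h5

theorem commutator_eq_bot_of_quadOn {W : Subgroup M} {u : M} (h : QuadOn u W) :
    ⁅⁅W, Subgroup.zpowers u⁆, Subgroup.zpowers u⁆ = ⊥ := by
  rw [Subgroup.commutator_eq_bot_iff_le_centralizer]
  let C := Subgroup.centralizer ({u} : Set M)
  have hC : ∀ {g : M}, g ∈ C ↔ Commute u g := fun {g} => Subgroup.mem_centralizer_singleton_iff.trans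
    ⟨fun h => h.symm, fun h => h.symm⟩
  let S : Subgroup M :=
    { carrier := {g | g ∈ C ∧ ∀ w ∈ W, g * w * g⁻¹ * w⁻¹ ∈ C}
      one_mem' := ⟨C.one_mem, fun w _ => by simp⟩
      mul_mem' := fun {g k} hg hk => ⟨C.mul_mem hg.1 hk.1, fun w hw => by
        rw [show g * k * w * (g * k)⁻¹ * w⁻¹ =
          g * (k * w * k⁻¹ * w⁻¹) * g⁻¹ * (g * w * g⁻¹ * w⁻¹) by group]
        exact C.mul_mem (C.mul_mem (C.mul_mem hg.1 (hk.2 w hw)) (C.inv_mem hg.1)) (hg.2 w hw)⟩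
      inv_mem' := fun {g} hg => ⟨C.inv_mem hg.1, fun w hw => by
        rw [show g⁻¹ * w * g⁻¹⁻¹ * w⁻¹ = g⁻¹ * (g * w * g⁻¹ * w⁻¹)⁻¹ * g by group]
        exact C.mul_mem (C.mul_mem (C.inv_mem hg.1) (C.inv_mem (hg.2 w hw))) hg.1⟩ }
  have huS : u ∈ S := ⟨hC.2 (Commute.refl u), fun w hw => hC.2 (h w hw)⟩
  have hle : ⁅W, Subgroup.zpowers u⁆ ≤ C := by
    rw [Subgroup.commutator_comm, Subgroup.commutator_le]
    exact fun g hg w hw => ((Subgroup.zpowers_le.2 huS) hg).2 w hw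
  intro x hx
  refine Subgroup.mem_centralizer_iff.2 fun g hg => ?_
  obtain ⟨k, rfl⟩ := Subgroup.mem_zpowers_iff.1 hg
  exact ((hC.1 (hle hx)).zpow_left k).eq

end Cfsg.Agent.Invol
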