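import Mathlib
import Cfsg.Agent.Lib.Grp.Quadratic

/-!
Two endomorphisms acting quadratically: the prime-field natural module is two dimensional.
-/

set_option autoImplicit false
set_option linter.unusedSectionVars false

universe u v

namespace Cfsg.Agent.Invol

open Grp Grp.Quad

open Matrix SL2

variable {Γ : Type v} [Group Γ] {W : Type u} [AddCommGroup W]

variable {p : ℕ} [hp : Fact p.Prime] [Module (ZMod p) W] [Finite W]

/-- An irreducible module over the prime field with two quadratic generators. -/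
theorem exists_sl_two_bij (hodd : p ≠ 2) (ρ : Γ →* Module.End (ZMod p) W) {a b : Γ}
    (hgen : Subgroup.closure {a, b} = ⊤)
    (ha : ∀ w, ρ a (ρ a w - w) = ρ a w - w) (hb : ∀ w, ρ b (ρ b w - w) = ρ b w - w)
    (hirr : ∀ U : Submodule (ZMod p) W, (∀ g, ∀ x ∈ U, ρ g x ∈ U) → U = ⊥ ∨ U = ⊤)
    (hnt : ∃ g w, ρ g w ≠ w) :
    ∃ (K : Type u) (_ : Field K) (_ : Fintype K) (_ : CharP K p) (φ : Γ →* Matrix.SpecialLinearGroup (Fin 2) K)
      (P : Matrix (Fin 2) (Fin 2) K) (hP : IsUnit P.det),
      (∀ g, φ g = 1 → ρ g = 1) ∧ tr (φ a) = 2 ∧ tr (φ b) = 2 ∧ ¬ Commute (φ a) (φ b) ∧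
      (primeHom K p).range.map (SL2.conjHom P hP) ≤ φ.range ∧
      ∃ (V : Submodule (ZMod p) W) (ψ : V →ₗ[ZMod p] (Fin 2 → ZMod p)), Function.Bijective ψ ∧
        ∀ A : Matrix.SpecialLinearGroup (Fin 2) (ZMod p), ∃ g, ∃ hg : ∀ x ∈ V, ρ g x ∈ V,
          ∀ x : V, ψ ⟨ρ g x, hg x x.2⟩ = (A : Matrix (Fin 2) (Fin 2) (ZMod p)) *ᵥ ψ x := by
  classical
  obtain ⟨g₀, w₀, hw₀⟩ := hnt
  have hw0 : w₀ ≠ 0 := fun e => hw₀ (by rw [e, map_zero])
  set S : Module.End (ZMod p) W := (ρ a - 1) * (ρ b - 1) + (ρ b - 1) * (ρ a - 1) with hS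
  have hq : ∀ c, (∀ w, ρ c (ρ c w - w) = ρ c w - w) → (ρ c - 1) * (ρ c - 1) = 0 := fun c hc =>
    LinearMap.ext fun w => by simp [sub_eq_zero, hc w]
  have hSa : Commute (ρ a) S := by
    have h := hq a ha
    have : Commute (ρ a - 1) S := by
      show _ * _ = _ * _
      rw [hS, mul_add, add_mul, ← mul_assoc, h, zero_mul, zero_add, mul_assoc (ρ b - 1), h, mul_zero, add_zero,
        mul_assoc]
    simpa using this.add_left (Commute.one_left S)
  have hSb : Commute (ρ b) S := by
    have h := hq b hb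
    have : Commute (ρ b - 1) S := by
      show _ * _ = _ * _
      rw [hS, mul_add, add_mul, ← mul_assoc (ρ b - 1) (ρ b - 1), h, zero_mul, add_zero, mul_assoc (ρ a - 1), h,
        mul_zero, zero_add, mul_assoc]
    simpa using this.add_left (Commute.one_left S)
  have hSg : ∀ g, Commute (ρ g) S := fun g => by
    have hg : g ∈ Subgroup.closure ({a, b} : Set Γ) := hgen ▸ Subgroup.mem_top g
    induction hg using Subgroup.closure_induction with
    | mem x hx => rcases hx with rfl | rfl <;> assumption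
    | one => simp
    | mul x y _ _ hx hy => rw [map_mul]; exact hx.mul_left hy
    | inv x _ hx =>
      show ρ x⁻¹ * S = S * ρ x⁻¹
      calc ρ x⁻¹ * S = ρ x⁻¹ * (S * ρ x) * ρ x⁻¹ := by
            rw [mul_assoc, mul_assoc, ← map_mul, mul_inv_cancel, map_one, mul_one]
        _ = ρ x⁻¹ * (ρ x * S) * ρ x⁻¹ := by rw [hx.eq]
        _ = S * ρ x⁻¹ := by rw [← mul_assoc, ← map_mul, inv_mul_cancel, map_one, one_mul]
  let L : Subalgebra (ZMod p) (Module.End (ZMod p) W) := Algebra.adjoin (ZMod p) {S}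
  have hLc : ∀ x ∈ L, ∀ g, Commute (ρ g) x := by
    intro x hx g
    have hle : L ≤ Subalgebra.centralizer (ZMod p) {ρ g} := Algebra.adjoin_le (by
      rintro y rfl
      exact Subalgebra.mem_centralizer_iff _ |>.mpr fun z hz => by
        rw [Set.mem_singleton_iff.mp hz]; exact (hSg g).eq)
    exact (Subalgebra.mem_centralizer_iff _).mp (hle hx) _ rfl
  have hLcomm : ∀ x ∈ L, ∀ y ∈ L, x * y = y * x := by
    have hle : L ≤ Subalgebra.centralizer (ZMod p) {S} := Algebra.adjoin_le (by
      rintro y rfl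
      exact Subalgebra.mem_centralizer_iff _ |>.mpr fun z hz => by rw [Set.mem_singleton_iff.mp hz])
    intro x hx y hy
    have hle' : L ≤ Subalgebra.centralizer (ZMod p) {x} := Algebra.adjoin_le (by
      rintro z rfl
      exact Subalgebra.mem_centralizer_iff _ |>.mpr fun w hw => by
        rw [Set.mem_singleton_iff.mp hw]
        exact ((Subalgebra.mem_centralizer_iff _).mp (hle hx) _ rfl).symm)
    exact (Subalgebra.mem_centralizer_iff _).mp (hle' hy) x rfl
  letI : CommRing L := { (inferInstance : Ring L) with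
    mul_comm := fun x y => Subtype.ext (hLcomm x x.2 y y.2) }
  haveI : Nontrivial W := ⟨w₀, 0, hw0⟩
  haveI : Finite (Module.End (ZMod p) W) := Finite.of_injective _ DFunLike.coe_injective
  haveI : NoZeroDivisors L := ⟨fun {x y} hxy => by
    refine or_iff_not_imp_left.mpr fun hx => Subtype.ext (LinearMap.ext fun w => ?_)
    have hk : LinearMap.ker (x : Module.End (ZMod p) W) = ⊥ := by
      refine (hirr _ fun g z hz => ?_).resolve_right fun h => hx (Subtype.ext (LinearMap.ker_eq_top.mp h))
      rw [LinearMap.mem_ker] at hz ⊢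
      rw [← Module.End.mul_apply, ← (hLc x x.2 g).eq, Module.End.mul_apply, hz, map_zero]
    have := congrArg (fun z : L => (z : Module.End (ZMod p) W) w) hxy
    simp at this
    exact LinearMap.ker_eq_bot.mp hk (by simpa using this)⟩
  haveI : IsDomain L := NoZeroDivisors.to_isDomain L
  letI : Field L := (Finite.isDomain_to_isField L).toField
  letI : Fintype L := Fintype.ofFinite L
  haveI : CharP L p := charP_of_injective_ringHom (algebraMap (ZMod p) L).injective p
  have hsmul : ∀ (x : L) (w : W), x • w = (x : Module.End (ZMod p) W) w := fun x w => rfl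
  let ρ' : Γ →* Module.End L W :=
    { toFun := fun g =>
        { toFun := ρ g
          map_add' := map_add _
          map_smul' := fun x w => by
            rw [RingHom.id_apply, hsmul, hsmul, ← Module.End.mul_apply, (hLc x x.2 g).eq, Module.End.mul_apply] }
      map_one' := LinearMap.ext fun w => by simp
      map_mul' := fun g g' => LinearMap.ext fun w => by simp }
  have hρ' : ∀ g w, ρ' g w = ρ g w := fun g w => rfl
  have hirr' : ∀ U : Submodule L W, (∀ g, ∀ x ∈ U, ρ' g x ∈ U) → U = ⊥ ∨ U = ⊤ := by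
    intro U hU
    let U₀ : Submodule (ZMod p) W :=
      { U.toAddSubmonoid with
        smul_mem' := fun c x hx => by
          have : c • x = (algebraMap (ZMod p) L c) • x := by
            rw [hsmul]; simp [Module.algebraMap_end_apply]
          show c • x ∈ U
          rw [this]
          exact U.smul_mem _ hx }
    rcases hirr U₀ (fun g x hx => hU g x hx) with h | h
    · exact Or.inl (SetLike.ext fun x => (SetLike.ext_iff.mp h x).trans (by simp))
    · exact Or.inr (SetLike.ext fun x => (SetLike.ext_iff.mp h x).trans (by simp))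
  obtain ⟨e, φ, hφa, hφb, hs0, hφ⟩ := rank_two ρ' hgen (fun w => ha w) (fun w => hb w) hirr'
    ⟨g₀, w₀, hw₀⟩ ⟨S, Algebra.subset_adjoin rfl⟩ (fun w => by
      rw [hsmul]
      show _ = ((ρ a - 1) * (ρ b - 1) + (ρ b - 1) * (ρ a - 1) : Module.End (ZMod p) W) w
      simp only [LinearMap.add_apply, Module.End.mul_apply, LinearMap.sub_apply, Module.End.one_apply, hρ'])
  have hta : tr (φ a) = 2 := by rw [hφa]; simp [tr, up]; norm_num
  have htb : tr (φ b) = 2 := by rw [hφb]; simp [tr, low]; norm_num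
  have hnc : ¬ Commute (φ a) (φ b) := by
    rw [hφa, hφb]
    intro h
    have h' := congrArg Subtype.val h.eq
    simp only [Matrix.SpecialLinearGroup.coe_mul] at h'
    have := congrFun (congrFun h' 0) 0
    simp [up, low, Matrix.mul_apply, Fin.sum_univ_two] at this
    exact hs0 this
  obtain ⟨P, hP, hle⟩ := exists_std_of_pair hodd φ.range ⟨a, rfl⟩ ⟨b, rfl⟩ hta htb hnc
  refine ⟨L, inferInstance, inferInstance, inferInstance, φ, P, hP, ?_, hta, htb, hnc, hle, ?_⟩
  · intro g hg
    refine LinearMap.ext fun w => e.injective ?_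
    rw [← hρ', hφ, hg, Matrix.SpecialLinearGroup.coe_one, Matrix.one_mulVec, Module.End.one_apply]
  let κ := ZMod.castHom (dvd_refl p) L
  let ι₀ : (Fin 2 → ZMod p) →+ W :=
    { toFun := fun c => e.symm (P *ᵥ (κ ∘ c))
      map_zero' := by simp [Function.comp_def]
      map_add' := fun c d => by
        rw [show κ ∘ (c + d) = κ ∘ c + κ ∘ d from funext fun i => map_add κ _ _, Matrix.mulVec_add, map_add] }
  let ι := ι₀.toZModLinearMap p
  have hι : ∀ c, ι c = e.symm (P *ᵥ (κ ∘ c)) := fun c => rfl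
  have hιi : Function.Injective ι := by
    intro c d h
    rw [hι, hι] at h
    exact funext fun i => ZMod.castHom_injective _
      (congrFun (Matrix.mulVec_injective_iff_isUnit.mpr ((Matrix.isUnit_iff_isUnit_det P).mpr hP)
        (e.symm.injective h)) i)
  refine ⟨LinearMap.range ι, (LinearEquiv.ofInjective ι hιi).symm.toLinearMap,
    (LinearEquiv.ofInjective ι hιi).symm.bijective, fun A => ?_⟩
  obtain ⟨g, hg⟩ := hle ⟨primeHom L p A, ⟨A, rfl⟩, rfl⟩
  have key : ∀ c, ρ g (ι c) = ι ((A : Matrix (Fin 2) (Fin 2) (ZMod p)) *ᵥ c) := by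
    intro c
    refine e.injective ?_
    rw [← hρ', hφ, hι, hι, e.apply_symm_apply, e.apply_symm_apply, hg, SL2.conjHom_coe, Matrix.mulVec_mulVec,
      Matrix.nonsing_inv_mul_cancel_right _ _ hP, ← Matrix.mulVec_mulVec]
    congr 1
    funext i
    exact (RingHom.map_mulVec κ (A : Matrix (Fin 2) (Fin 2) (ZMod p)) c i).symm
  refine ⟨g, fun x hx => by obtain ⟨c, rfl⟩ := hx; exact ⟨_, (key c).symm⟩, fun x => ?_⟩
  obtain ⟨c, rfl⟩ := (LinearEquiv.ofInjective ι hιi).surjective x
  simp only [LinearEquiv.coe_coe, LinearEquiv.symm_apply_apply]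
  rw [LinearEquiv.symm_apply_eq]
  exact Subtype.ext (key c)

end Cfsg.Agent.Invol
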