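import Mathlib
import Cfsg.Prelude.Def_CaseTheorems
import Cfsg.Agent.Lib.Grp.Cores
import Cfsg.Agent.Lib.Grp.AmbivalentSolvable
import Cfsg.Agent.Lib.Block.QuaternionSylow

/-!
Groups in which two distinct Sylow 2-subgroups meet in a cyclic group, with a normal 2-subgroup outside the centre:
most elements lie in a single Sylow 2-subgroup.
-/

set_option autoImplicit false
set_option linter.unusedSectionVars false
set_option linter.style.haveILetI false

namespace Cfsg.Agent.Invol.CycInter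

open Subgroup

universe u

variable {Q : Type u} [Group Q] [Finite Q]

/-- The element lies in at most one Sylow 2-subgroup. -/
def Single (x : Q) : Prop := ∀ S T : Sylow 2 Q, x ∈ S → x ∈ T → S = T

/-- The element has 2-power order. -/
def IsTwo (x : Q) : Prop := ∃ k : ℕ, x ^ (2 ^ k) = 1

theorem commute_of_cyclic {B : Subgroup Q} (h : IsCyclic B) {a b : Q} (ha : a ∈ B) (hb : b ∈ B) : Commute a b := by
  obtain ⟨g, hg⟩ := h.exists_generator
  obtain ⟨j, hj⟩ := Subgroup.mem_zpowers_iff.1 (hg ⟨a, ha⟩)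
  obtain ⟨k, hk⟩ := Subgroup.mem_zpowers_iff.1 (hg ⟨b, hb⟩)
  have := congrArg Subtype.val (Commute.zpow_zpow_self g j k).eq
  rw [hj, hk] at this
  show a * b = b * a
  simpa using this

theorem eq_of_cyclic {B : Subgroup Q} (h : IsCyclic B) {a b : Q} (ha : a ∈ B) (hb : b ∈ B) (ha2 : a * a = 1)
    (hb2 : b * b = 1) (ha1 : a ≠ 1) (hb1 : b ≠ 1) : a = b := by
  classical
  letI := Fintype.ofFinite ↥B
  by_contra hne
  have hle := IsCyclic.card_pow_eq_one_le (α := ↥B) (n := 2) two_pos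
  have hsub : ({1, ⟨a, ha⟩, ⟨b, hb⟩} : Finset ↥B) ⊆ Finset.univ.filter (fun x : ↥B => x ^ 2 = 1) := by
    intro x hx
    simp only [Finset.mem_insert, Finset.mem_singleton] at hx
    simp only [Finset.mem_filter, Finset.mem_univ, true_and]
    rcases hx with rfl | rfl | rfl
    · exact one_pow _
    · exact Subtype.ext (by simpa [pow_two] using ha2)
    · exact Subtype.ext (by simpa [pow_two] using hb2)
  have h3 : ({1, ⟨a, ha⟩, ⟨b, hb⟩} : Finset ↥B).card = 3 := by
    rw [Finset.card_insert_of_notMem, Finset.card_pair (fun e => hne (congrArg Subtype.val e))]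
    simp only [Finset.mem_insert, Finset.mem_singleton, Subtype.ext_iff, OneMemClass.coe_one]
    rintro (e | e)
    · exact ha1 e.symm
    · exact hb1 e.symm
  have := (Finset.card_le_card hsub).trans hle
  omega

theorem IsTwo.isPGroup {x : Q} (h : IsTwo x) : IsPGroup 2 (Subgroup.zpowers x) := by
  obtain ⟨k, hk⟩ := h
  obtain ⟨j, -, hj⟩ := (Nat.dvd_prime_pow Nat.prime_two).1 (orderOf_dvd_of_pow_eq_one hk)
  exact IsPGroup.of_card (n := j) (by rw [Nat.card_zpowers, hj])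

theorem IsTwo.conj {x : Q} (h : IsTwo x) (g : Q) : IsTwo (g * x * g⁻¹) := by
  obtain ⟨k, hk⟩ := h
  exact ⟨k, by rw [conj_pow, hk, mul_one, mul_inv_cancel]⟩

theorem isTwo_of_sq {x : Q} (h : x * x = 1) : IsTwo x := ⟨1, by rw [pow_one, pow_two, h]⟩

theorem isTwo_of_mem {S : Sylow 2 Q} {x : Q} (h : x ∈ S) : IsTwo x := by
  obtain ⟨k, hk⟩ := S.2 ⟨x, h⟩
  exact ⟨k, by simpa using congrArg Subtype.val hk⟩

theorem IsTwo.exists_sylow {x : Q} (h : IsTwo x) : ∃ S : Sylow 2 Q, x ∈ S := by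
  obtain ⟨S, hS⟩ := h.isPGroup.exists_le_sylow
  exact ⟨S, hS (Subgroup.mem_zpowers x)⟩

theorem mem_smul_sylow {S : Sylow 2 Q} {g x : Q} : x ∈ g • S ↔ g⁻¹ * x * g ∈ S := by
  show x ∈ ((g • S : Sylow 2 Q) : Subgroup Q) ↔ _
  rw [Sylow.coe_subgroup_smul, Subgroup.mem_pointwise_smul_iff_inv_smul_mem]
  simp [MulAut.smul_def]
  rfl

theorem Single.conj {x : Q} (h : Single x) (g : Q) : Single (g * x * g⁻¹) := fun S T hS hT => by
  have key : ∀ {R : Sylow 2 Q}, g * x * g⁻¹ ∈ R → x ∈ g⁻¹ • R := fun {R} hR => by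
    rw [mem_smul_sylow, inv_inv]; exact hR
  simpa using congrArg (g • ·) (h _ _ (key hS) (key hT))

theorem Single.normalizes {x g : Q} (h : Single x) {S : Sylow 2 Q} (hx : x ∈ S) (hg : g * x * g⁻¹ ∈ S) :
    g ∈ Subgroup.normalizer ((S : Subgroup Q) : Set Q) :=
  Sylow.smul_eq_iff_mem_normalizer.1 ((h.conj g) _ _
    (mem_smul_sylow.2 (by rw [show g⁻¹ * (g * x * g⁻¹) * g = x by group]; exact hx)) hg)

theorem mem_of_normalizes {g : Q} {S : Sylow 2 Q} (hg : IsTwo g)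
    (hn : g ∈ Subgroup.normalizer ((S : Subgroup Q) : Set Q)) : g ∈ S := by
  have h : g ∈ Subgroup.zpowers g ⊓ Subgroup.normalizer ((S : Subgroup Q) : Set Q) := ⟨Subgroup.mem_zpowers g, hn⟩
  erw [hg.isPGroup.inf_normalizer_sylow S] at h
  exact h.2

theorem Single.mem_of_conj {x g : Q} (h : Single x) {S : Sylow 2 Q} (hx : x ∈ S) (hg2 : IsTwo g)
    (hg : g * x * g⁻¹ ∈ S) : g ∈ S :=
  mem_of_normalizes hg2 (h.normalizes hx hg)

variable (Q) in
/-- The configuration to be ruled out. -/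
structure Ctx where
  N : Subgroup Q
  normal : N.Normal
  two : IsPGroup 2 N
  cyc : ∀ S T : Sylow 2 Q, S ≠ T → IsCyclic ↥((S : Subgroup Q) ⊓ (T : Subgroup Q))
  core : Cfsg.pPrimeCore 2 Q = ⊥
  many : ∃ S T : Sylow 2 Q, S ≠ T
  nc : ¬ N ≤ Subgroup.center Q
  i : Q
  i_mem : i ∈ N
  i_four : orderOf i = 4

namespace Ctx

variable (c : Ctx Q)

/-- The involution of the normal 2-subgroup. -/
def z : Q := c.i * c.i

/-- The centralizer of the normal 2-subgroup. -/
def C : Subgroup Q := Subgroup.centralizer (c.N : Set Q)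

theorem N_le (S : Sylow 2 Q) : c.N ≤ (S : Subgroup Q) :=
  haveI := c.normal
  c.two.le_sylow_of_normal S

theorem N_cyclic : IsCyclic c.N := by
  obtain ⟨S, T, hST⟩ := c.many
  haveI := c.cyc S T hST
  exact isCyclic_of_injective (Subgroup.inclusion (le_inf (c.N_le S) (c.N_le T))) (Subgroup.inclusion_injective _)

theorem N_comm {a b : Q} (ha : a ∈ c.N) (hb : b ∈ c.N) : Commute a b := commute_of_cyclic c.N_cyclic ha hb

theorem C_comm {g n : Q} (hg : g ∈ c.C) (hn : n ∈ c.N) : Commute g n :=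
  (Subgroup.mem_centralizer_iff.1 hg n hn).symm

theorem mem_C {g : Q} : g ∈ c.C ↔ ∀ n ∈ c.N, n * g = g * n := Subgroup.mem_centralizer_iff

theorem N_le_C : c.N ≤ c.C := fun _ ha => c.mem_C.2 fun _ hn => (c.N_comm hn ha).eq

theorem C_normal : c.C.Normal :=
  ⟨fun x hx g => c.mem_C.2 fun n hn => by
    have h := c.mem_C.1 hx (g⁻¹ * n * g) (by simpa using c.normal.conj_mem n hn g⁻¹)
    calc n * (g * x * g⁻¹) = g * ((g⁻¹ * n * g) * x) * g⁻¹ := by group
      _ = g * (x * (g⁻¹ * n * g)) * g⁻¹ := by rw [h]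
      _ = g * x * g⁻¹ * n := by group⟩

theorem conj_C (g : Q) {x : Q} (hx : x ∈ c.C) : g * x * g⁻¹ ∈ c.C := c.C_normal.conj_mem x hx g

theorem z_mem : c.z ∈ c.N := mul_mem c.i_mem c.i_mem

theorem z_sq : c.z * c.z = 1 := by
  have h := pow_orderOf_eq_one c.i
  rw [c.i_four] at h
  simpa [z, pow_succ, mul_assoc] using h

theorem z_ne : c.z ≠ 1 := fun h => by
  have h4 := orderOf_dvd_of_pow_eq_one (n := 2) (show c.i ^ 2 = 1 by rw [pow_two]; exact h)
  rw [c.i_four] at h4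
  exact absurd (Nat.le_of_dvd two_pos h4) (by norm_num)

theorem N_invol {n : Q} (hn : n ∈ c.N) (h2 : n * n = 1) : n = 1 ∨ n = c.z :=
  (eq_or_ne n 1).imp id fun h1 => eq_of_cyclic c.N_cyclic hn c.z_mem h2 c.z_sq h1 c.z_ne

theorem z_comm (g : Q) : Commute g c.z := by
  rcases c.N_invol (c.normal.conj_mem _ c.z_mem g) (by rw [← conj_mul_self g c.z_sq]) with h | h
  · exact absurd (conj_eq_one_iff.1 h) c.z_ne
  · exact mul_inv_eq_iff_eq_mul.1 h
where
  conj_mul_self (g : Q) {a : Q} (ha : a * a = 1) : g * a * g⁻¹ * (g * a * g⁻¹) = 1 := by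
    rw [show g * a * g⁻¹ * (g * a * g⁻¹) = g * (a * a) * g⁻¹ by group, ha, mul_one, mul_inv_cancel]

theorem conj_z (g : Q) : g * c.z * g⁻¹ = c.z := mul_inv_eq_iff_eq_mul.2 (c.z_comm g).eq

theorem z_inv : c.z⁻¹ = c.z := inv_eq_of_mul_eq_one_right c.z_sq

theorem exists_gen : ∃ g₀ ∈ c.N, ∀ n ∈ c.N, ∃ j : ℕ, g₀ ^ j = n := by
  obtain ⟨g, hg⟩ := c.N_cyclic.exists_generator
  refine ⟨g, g.2, fun n hn => ?_⟩
  obtain ⟨j, hj⟩ := mem_powers_iff_mem_zpowers.2 (hg ⟨n, hn⟩)
  exact ⟨j, by simpa using congrArg Subtype.val hj⟩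

theorem sq_root {x n : Q} (hx : x ∉ c.C) (hn : n ∈ c.N) (hc : Commute x n) : ∃ k ∈ c.N, k * k = n := by
  obtain ⟨g₀, hg₀, hgen⟩ := c.exists_gen
  obtain ⟨j, hj⟩ := hgen n hn
  rcases Nat.even_or_odd j with ⟨l, hl⟩ | ho
  · exact ⟨g₀ ^ l, pow_mem hg₀ l, by rw [← pow_add, ← hl, hj]⟩
  · exfalso
    obtain ⟨k, hk⟩ := IsPGroup.iff_orderOf.1 c.two ⟨g₀, hg₀⟩
    rw [Subgroup.orderOf_mk] at hk
    obtain ⟨m, hm⟩ := exists_pow_eq_self_of_coprime (n := j) (x := g₀)
      (by rw [hk]; exact ((Nat.coprime_two_right).2 ho).pow_right k)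
    rw [hj] at hm
    refine hx (c.mem_C.2 fun a ha => ?_)
    obtain ⟨l, hl⟩ := hgen a ha
    rw [← hl, ← hm]
    exact ((hc.pow_right m).pow_right l).symm.eq

/-- The quotient by the centralizer is an abelian 2-group. -/
theorem quot_props : (∀ g h : Q, g * h * g⁻¹ * h⁻¹ ∈ c.C) ∧ ∃ k : ℕ, ∀ g : Q, g ^ (2 ^ k) ∈ c.C := by
  classical
  haveI := c.normal
  haveI := c.N_cyclic
  have hker : ∀ g : Q, MulAut.conjNormal g = (1 : MulAut c.N) → g ∈ c.C := fun g hg => c.mem_C.2 fun n hn => by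
    have := congrArg Subtype.val (DFunLike.congr_fun hg ⟨n, hn⟩)
    rw [MulAut.conjNormal_apply] at this
    exact (mul_inv_eq_iff_eq_mul.1 this).symm
  set e := IsCyclic.mulAutMulEquiv c.N with he
  refine ⟨fun g h => hker _ (e.injective ?_), ?_⟩
  · simp only [map_mul, map_inv, map_one]
    rw [mul_comm (e _) (e _), mul_inv_cancel_right, mul_inv_cancel]
  obtain ⟨m, hm⟩ := IsPGroup.iff_card.1 c.two
  have hcard : ∃ k, Nat.card (MulAut c.N) = 2 ^ k := by
    rw [IsCyclic.card_mulAut, hm]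
    rcases Nat.eq_zero_or_pos m with rfl | hp
    · exact ⟨0, by simp⟩
    · exact ⟨m - 1, by rw [Nat.totient_prime_pow Nat.prime_two hp]; simp⟩
  obtain ⟨k, hk⟩ := hcard
  exact ⟨k, fun g => hker _ (by rw [map_pow, ← hk, pow_card_eq_one'])⟩

theorem odd_mem_C {g : Q} (h : Odd (orderOf g)) : g ∈ c.C := by
  obtain ⟨k, hk⟩ := c.quot_props.2
  obtain ⟨m, hm⟩ := exists_pow_eq_self_of_coprime (x := g) (n := 2 ^ k)
    (((Nat.coprime_two_left).2 h).pow_left k)
  rw [← hm]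
  exact pow_mem (hk g) m

theorem single_out {x : Q} (hx : x ∉ c.C) : Single x := fun S T hS hT => by
  by_contra hne
  exact hx (c.mem_C.2 fun n hn => (commute_of_cyclic (c.cyc S T hne) ⟨c.N_le S hn, c.N_le T hn⟩ ⟨hS, hT⟩).eq)

/-- An involution centralizing `N` outside it. -/
def J (u : Q) : Prop := u ∈ c.C ∧ u * u = 1 ∧ u ≠ 1 ∧ u ≠ c.z

theorem J.not_mem {c : Ctx Q} {u : Q} (hu : c.J u) : u ∉ c.N := fun h =>
  (c.N_invol h hu.2.1).elim hu.2.2.1 hu.2.2.2

theorem single_invol {u : Q} (h2 : u * u = 1) (h1 : u ≠ 1) (hz : u ≠ c.z) : Single u := fun S T hS hT => by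
  by_contra hne
  exact hz (eq_of_cyclic (c.cyc S T hne) ⟨hS, hT⟩ ⟨c.N_le S c.z_mem, c.N_le T c.z_mem⟩ h2 c.z_sq h1 c.z_ne)

theorem J.single {c : Ctx Q} {u : Q} (hu : c.J u) : Single u := c.single_invol hu.2.1 hu.2.2.1 hu.2.2.2

theorem J.conj {c : Ctx Q} {u : Q} (hu : c.J u) (g : Q) : c.J (g * u * g⁻¹) :=
  ⟨c.conj_C g hu.1, by
      rw [show g * u * g⁻¹ * (g * u * g⁻¹) = g * (u * u) * g⁻¹ by group, hu.2.1, mul_one, mul_inv_cancel],
    fun h => hu.2.2.1 (conj_eq_one_iff.1 h),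
    fun h => hu.2.2.2 (by
      calc u = g⁻¹ * (g * u * g⁻¹) * g := by group
        _ = g⁻¹ * c.z * g⁻¹⁻¹ := by rw [h, inv_inv]
        _ = c.z := c.conj_z _)⟩

theorem J.mul_z {c : Ctx Q} {u : Q} (hu : c.J u) : c.J (u * c.z) :=
  ⟨mul_mem hu.1 (c.N_le_C c.z_mem), by
    rw [show u * c.z * (u * c.z) = u * u * (c.z * c.z) by
      rw [(c.z_comm u).symm.mul_mul_mul_comm], hu.2.1, c.z_sq, one_mul],
    fun h => hu.2.2.2 (by rw [← mul_right_cancel (h.trans c.z_sq.symm)]),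
    fun h => hu.2.2.1 (by rwa [mul_eq_right] at h)⟩

theorem exists_out : ∃ x : Q, x ∉ c.C := by
  by_contra h
  push Not at h
  exact c.nc fun n hn => Subgroup.mem_center_iff.2 fun g => (c.C_comm (h g) hn).eq

theorem not_isPGroup_C : ¬ IsPGroup 2 c.C := by
  intro h
  obtain ⟨k, hk⟩ := c.quot_props.2
  have hQ : IsPGroup 2 Q := fun g => by
    obtain ⟨j, hj⟩ := h ⟨g ^ (2 ^ k), hk g⟩
    exact ⟨k + j, by rw [pow_add, pow_mul]; simpa using congrArg Subtype.val hj⟩
  obtain ⟨S, T, hST⟩ := c.many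
  have htop : IsPGroup 2 (⊤ : Subgroup Q) := hQ.to_subgroup _
  exact hST (Sylow.ext ((S.3 htop le_top).symm.trans (T.3 htop le_top)))

/-- Some involution outside `N` centralizes it. -/
theorem exists_J : ∃ u, c.J u := by
  classical
  by_contra hno
  push Not at hno
  haveI := c.C_normal
  obtain ⟨P⟩ : Nonempty (Sylow 2 c.C) := inferInstance
  obtain ⟨S, hS⟩ := (P.2.map c.C.subtype).exists_le_sylow
  have hi : c.i ∈ c.C := c.N_le_C c.i_mem
  have huniq : ∀ u v : ↥(P : Subgroup c.C), orderOf u = 2 → orderOf v = 2 → u = v := by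
    have key : ∀ u : ↥(P : Subgroup c.C), orderOf u = 2 → ((u : c.C) : Q) = c.z := fun u hu => by
      by_contra hne
      refine hno _ ⟨(u : c.C).2, ?_, ?_, hne⟩
      · have := congrArg (fun x : ↥(P : Subgroup c.C) => ((x : c.C) : Q)) (pow_orderOf_eq_one u)
        rw [hu] at this
        simpa [pow_two] using this
      · intro h1
        have : u = 1 := Subtype.ext (Subtype.ext h1)
        rw [this, orderOf_one] at hu
        norm_num at hu
    exact fun u v hu hv => Subtype.ext (Subtype.ext ((key u hu).trans (key v hv).symm))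
  have hiP : (⟨c.i, hi⟩ : c.C) ∈ (P : Subgroup c.C) := by
    have hn : (c.N.subgroupOf c.C).Normal := c.normal.subgroupOf c.C
    have hn' : (c.N.comap c.C.subtype).Normal := hn
    exact (c.two.comap_of_injective _ c.C.subtype_injective).le_sylow_of_normal P c.i_mem
  rcases Cfsg.Agent.Grp.Ambivalent.cyclic_or_quaternion P.2 huniq with hcyc | ⟨n, ⟨φ⟩⟩
  · obtain ⟨K, hKn, hKodd, hKidx⟩ := Cfsg.Agent.Block.cyclic_two_complement P hcyc
    haveI := hKn
    have hKchar : ∀ x : Q, ∀ k ∈ K.map c.C.subtype, x * k * x⁻¹ ∈ K.map c.C.subtype := by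
      rintro x _ ⟨k, hk, rfl⟩
      refine ⟨⟨x * (k : Q) * x⁻¹, c.conj_C x k.2⟩, ?_, rfl⟩
      set k' : c.C := ⟨x * (k : Q) * x⁻¹, c.conj_C x k.2⟩
      have ho : orderOf k' = orderOf k := by
        rw [← Subgroup.orderOf_coe k', ← Subgroup.orderOf_coe k]
        exact orderOf_injective (MulAut.conj x).toMonoidHom (MulAut.conj x).injective _
      have hcop : (orderOf k').Coprime K.index := by
        obtain ⟨e, he⟩ := IsPGroup.iff_card.1 P.2
        rw [hKidx, he, ho]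
        refine Nat.Coprime.pow_right _ (Nat.coprime_two_right.2 (Nat.not_even_iff_odd.1 fun hev => hKodd ?_))
        exact (even_iff_two_dvd.1 hev).trans
          (by rw [← Subgroup.orderOf_mk k hk]; exact orderOf_dvd_natCard _)
      obtain ⟨l, hl⟩ := exists_pow_eq_self_of_coprime hcop.symm
      rw [← hl]
      exact pow_mem (Subgroup.pow_index_mem K k') l
    have hbot : K.map c.C.subtype = ⊥ := le_bot_iff.1 (c.core ▸ Cfsg.Agent.Grp.le_pPrimeCore ⟨fun k hk x => hKchar x k hk⟩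
      (by
        rw [Subgroup.card_map_of_injective c.C.subtype_injective]
        exact Nat.coprime_two_right.2 (Nat.not_even_iff_odd.1 fun hev => hKodd (even_iff_two_dvd.1 hev))))
    rw [Subgroup.map_eq_bot_iff_of_injective _ c.C.subtype_injective] at hbot
    rw [hbot, Subgroup.index_bot] at hKidx
    refine c.not_isPGroup_C ?_
    obtain ⟨e, he⟩ := IsPGroup.iff_card.1 P.2
    exact IsPGroup.of_card (n := e) (hKidx.trans he)
  · set w : ↥(P : Subgroup c.C) := ⟨⟨c.i, hi⟩, hiP⟩ with hw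
    have hcent : ∀ y : QuaternionGroup (2 ^ (n + 1)), Commute y (φ w) := fun y => by
      have hc : Commute (φ.symm y) w := Subtype.ext (Subtype.ext (c.C_comm (φ.symm y : c.C).2 c.i_mem).eq)
      simpa using hc.map φ
    have hw4 : orderOf (φ w) = 4 := by
      rw [MulEquiv.orderOf_eq, ← Subgroup.orderOf_coe, ← Subgroup.orderOf_coe]
      exact c.i_four
    haveI : NeZero (2 ^ (n + 1)) := ⟨by positivity⟩
    rcases hy : φ w with j | j
    · have h1 := hcent (QuaternionGroup.xa 0)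
      rw [hy, commute_iff_eq] at h1
      simp only [QuaternionGroup.xa_mul_a, QuaternionGroup.a_mul_xa, QuaternionGroup.xa.injEq] at h1
      have h2 : QuaternionGroup.a j ^ 2 = (1 : QuaternionGroup (2 ^ (n + 1))) := by
        rw [pow_two, QuaternionGroup.a_mul_a, show j + j = 0 by linear_combination h1]; rfl
      rw [← hy] at h2
      have := orderOf_dvd_of_pow_eq_one h2
      rw [hw4] at this
      exact absurd (Nat.le_of_dvd two_pos this) (by norm_num)
    · have h1 := hcent (QuaternionGroup.a 1)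
      rw [hy, commute_iff_eq] at h1
      simp only [QuaternionGroup.a_mul_xa, QuaternionGroup.xa_mul_a, QuaternionGroup.xa.injEq] at h1
      have h2 : ((2 : ℕ) : ZMod (2 * 2 ^ (n + 1))) = 0 := by push_cast; linear_combination -h1
      rw [ZMod.natCast_eq_zero_iff] at h2
      have h4 := Nat.le_of_dvd two_pos h2
      have : 2 ≤ 2 ^ (n + 1) := le_self_pow₀ one_le_two (by omega)
      omega

theorem exists_J_mem (S : Sylow 2 Q) : ∃ u, c.J u ∧ u ∈ S := by
  haveI : Fact (Nat.Prime 2) := ⟨Nat.prime_two⟩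
  obtain ⟨u, hu⟩ := c.exists_J
  obtain ⟨T, hT⟩ := (isTwo_of_sq hu.2.1).exists_sylow
  obtain ⟨g, hg⟩ := MulAction.exists_smul_eq Q T S
  refine ⟨g * u * g⁻¹, hu.conj g, ?_⟩
  rw [← hg, mem_smul_sylow, show g⁻¹ * (g * u * g⁻¹) * g = u by group]
  exact hT

end Ctx

end Cfsg.Agent.Invol.CycInter
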