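import Cfsg.Agent.Lib.Invol.CycInterBase

/-!
Fusion of the involutions outside the normal 2-subgroup: any two of one Sylow 2-subgroup agree modulo its involution.
-/

set_option autoImplicit false
set_option linter.unusedSectionVars false
set_option linter.style.haveILetI false

namespace Cfsg.Agent.Invol.CycInter

open Subgroup

universe u

variable {Q : Type u} [Group Q] [Finite Q]

namespace Ctx

variable (c : Ctx Q)

theorem C_comm_i {g : Q} (hg : g ∈ c.C) : Commute g c.i := c.C_comm hg c.i_mem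

theorem z_eq : c.z = c.i * c.i := rfl

/-- Step A: no element outside the centralizer squares into the normal 2-subgroup. -/
theorem no_sq_mem {s : Q} (hs : IsTwo s) (hsC : s ∉ c.C) : s * s ∉ c.N := by
  intro hn
  obtain ⟨S, hS⟩ := hs.exists_sylow
  obtain ⟨T, hTS⟩ : ∃ T : Sylow 2 Q, T ≠ S := by
    obtain ⟨T, T', h⟩ := c.many
    by_cases h' : T = S
    · exact ⟨T', fun e => h (h'.trans e.symm)⟩
    · exact ⟨T, h'⟩
  obtain ⟨v, hv, hvT⟩ := c.exists_J_mem T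
  set x := s * v with hx
  set n := s * s with hn'
  have hvi : v⁻¹ = v := inv_eq_of_mul_eq_one_right hv.2.1
  have hxC : x ∉ c.C := fun h => hsC (by simpa [hx] using mul_mem h (inv_mem hv.1))
  have hxi : x⁻¹ = v * s⁻¹ := by rw [hx, mul_inv_rev, hvi]
  have hvn : Commute v n := c.C_comm hv.1 hn
  have hsn : Commute s n := (Commute.refl s).mul_right (Commute.refl s)
  have hnx : Commute n x⁻¹ := (hsn.mul_left hvn).symm.inv_right
  have hsx : s * x * s⁻¹ = n * x⁻¹ := by rw [hxi, hx, hn']; group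
  have hvx : v * x * v⁻¹ = n * x⁻¹ := by
    calc v * x * v⁻¹ = v * s := by rw [hx]; group
      _ = v * n * s⁻¹ := by rw [hn']; group
      _ = n * x⁻¹ := by rw [hvn.eq, hxi]; group
  have hx2 : x ^ 2 ∈ c.C := by
    rw [show x ^ 2 = (s * v * s⁻¹) * n * v by rw [hx, hn', pow_two]; group]
    exact mul_mem (mul_mem (c.conj_C s hv.1) (c.N_le_C hn)) hv.1
  obtain ⟨a, m, hm, hord⟩ := Nat.exists_eq_two_pow_mul_odd (orderOf_pos x).ne'
  have hx' : IsTwo (x ^ m) := ⟨a, by rw [← pow_mul, mul_comm, ← hord, pow_orderOf_eq_one]⟩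
  have hx'C : x ^ m ∉ c.C := fun h => hxC (by
    obtain ⟨j, rfl⟩ := hm
    rw [pow_succ, pow_mul] at h
    have := mul_mem (inv_mem (pow_mem hx2 j)) h
    rwa [inv_mul_cancel_left] at this)
  obtain ⟨R, hR⟩ := hx'.exists_sylow
  have hRc : ∀ g : Q, IsTwo g → g * x * g⁻¹ = n * x⁻¹ → g ∈ R := fun g hg he =>
    (c.single_out hx'C).mem_of_conj hR hg (by
      rw [← conj_pow, he, hnx.mul_pow, inv_pow]
      exact mul_mem (pow_mem (c.N_le R hn) m) (inv_mem hR))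
  have h1 : S = R := c.single_out hsC S R hS (hRc s hs hsx)
  have h2 : T = R := hv.single T R hvT (hRc v (isTwo_of_sq hv.2.1) hvx)
  exact hTS (h2.trans h1.symm)

theorem conj_of_odd {u v : Q} (hu : u * u = 1) (hv : v * v = 1) {j : ℕ} (hj : (u * v) ^ (2 * j + 1) = 1) :
    (u * v) ^ j * u * ((u * v) ^ j)⁻¹ = v := by
  set x := u * v with hx
  have hui : u⁻¹ = u := inv_eq_of_mul_eq_one_right hu
  have hvi : v⁻¹ = v := inv_eq_of_mul_eq_one_right hv
  have hinv : u * x * u⁻¹ = x⁻¹ := by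
    rw [hx, mul_inv_rev, hui, hvi, ← mul_assoc u u, hu, one_mul]
  have h1 : u * (x ^ j)⁻¹ = x ^ j * u := by
    rw [← inv_pow, ← hinv, conj_pow, hui]
    calc u * (u * x ^ j * u) = (u * u) * (x ^ j * u) := by group
      _ = x ^ j * u := by rw [hu, one_mul]
  calc x ^ j * u * (x ^ j)⁻¹ = x ^ (2 * j) * u := by rw [mul_assoc, h1, ← mul_assoc, ← pow_add, two_mul]
    _ = x⁻¹ * u := by rw [eq_inv_of_mul_eq_one_left ((pow_succ x (2 * j)).symm.trans hj)]
    _ = v := by rw [hx, mul_inv_rev, mul_assoc, inv_mul_cancel, mul_one, hvi]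

/-- Step B: involutions of two Sylow 2-subgroups are conjugate up to the central involution. -/
theorem conj_or {S T : Sylow 2 Q} (hST : S ≠ T) {u v : Q} (hu : c.J u) (huS : u ∈ S) (hv : c.J v) (hvT : v ∈ T) :
    ∃ g ∈ c.C, g * u * g⁻¹ = v ∨ g * u * g⁻¹ = v * c.z := by
  set x := u * v with hx
  have hxC : x ∈ c.C := mul_mem hu.1 hv.1
  have hui : u⁻¹ = u := inv_eq_of_mul_eq_one_right hu.2.1
  have hvi : v⁻¹ = v := inv_eq_of_mul_eq_one_right hv.2.1
  have hxi : x⁻¹ = v * u := by rw [hx, mul_inv_rev, hui, hvi]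
  have hinv : ∀ k : ℕ, u * x ^ k * u⁻¹ = (x ^ k)⁻¹ ∧ v * x ^ k * v⁻¹ = (x ^ k)⁻¹ := fun k => by
    have e1 : u * x * u⁻¹ = x⁻¹ := by rw [hxi, hui, hx, ← mul_assoc u u, hu.2.1, one_mul]
    have e2 : v * x * v⁻¹ = x⁻¹ := by rw [hxi, hvi, hx, ← mul_assoc, mul_assoc, hv.2.1, mul_one]
    exact ⟨by rw [← conj_pow, e1, inv_pow], by rw [← conj_pow, e2, inv_pow]⟩
  -- an element of `C` fixed up to `z` by `u` and `v` gives `S = T`
  have key : ∀ e : Q, Single e → IsTwo e → (u * e * u⁻¹ = e ∨ u * e * u⁻¹ = e * c.z) →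
      (v * e * v⁻¹ = e ∨ v * e * v⁻¹ = e * c.z) → False := fun e he he2 h1 h2 => by
    obtain ⟨R, hR⟩ := he2.exists_sylow
    have hmem : ∀ {w : Q}, (w = e ∨ w = e * c.z) → w ∈ R := by
      rintro w (rfl | rfl)
      exacts [hR, mul_mem hR (c.N_le R c.z_mem)]
    have hSR := hu.single S R huS (he.mem_of_conj hR (isTwo_of_sq hu.2.1) (hmem h1))
    have hTR := hv.single T R hvT (he.mem_of_conj hR (isTwo_of_sq hv.2.1) (hmem h2))
    exact hST (hSR.trans hTR.symm)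
  rcases Nat.even_or_odd (orderOf x) with ⟨k, hk⟩ | ⟨j, hj⟩
  swap
  · exact ⟨x ^ j, pow_mem hxC j, Or.inl (conj_of_odd hu.2.1 hv.2.1 (by rw [← hx, ← hj, pow_orderOf_eq_one]))⟩
  have hk0 : 0 < k := by have := orderOf_pos x; omega
  have hw : x ^ k = c.z := by
    have hsq : x ^ k * x ^ k = 1 := by rw [← pow_add, ← hk, pow_orderOf_eq_one]
    have hne : x ^ k ≠ 1 := pow_ne_one_of_lt_orderOf hk0.ne' (by omega)
    by_contra hz
    exact key _ (c.single_invol hsq hne hz) (isTwo_of_sq hsq)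
      (Or.inl (by rw [(hinv k).1, inv_eq_of_mul_eq_one_right hsq]))
      (Or.inl (by rw [(hinv k).2, inv_eq_of_mul_eq_one_right hsq]))
  rcases Nat.even_or_odd k with ⟨l, hl⟩ | ⟨j, hj⟩
  · exfalso
    set y := x ^ l with hy
    have hyC : y ∈ c.C := pow_mem hxC l
    have hy2 : y * y = c.z := by rw [hy, ← pow_add, ← hl, hw]
    have hyi : y⁻¹ = y * c.z := inv_eq_of_mul_eq_one_right (by rw [← mul_assoc, hy2, c.z_sq])
    have hyN : y ∉ c.N := fun h => by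
      have h1 := (hinv l).1
      rw [← hy, (c.C_comm hu.1 h).eq, mul_inv_cancel_right] at h1
      exact c.z_ne (by rw [← hy2]; nth_rw 1 [h1]; rw [inv_mul_cancel])
    have he2 : y * c.i * (y * c.i) = 1 := by
      rw [(c.C_comm_i hyC).symm.mul_mul_mul_comm, hy2, ← c.z_eq, c.z_sq]
    have hne : y * c.i ≠ 1 := fun h => hyN (by rw [eq_inv_of_mul_eq_one_left h]; exact inv_mem c.i_mem)
    have hnz : y * c.i ≠ c.z := fun h => hyN (by rw [eq_mul_inv_of_mul_eq h]; exact mul_mem c.z_mem (inv_mem c.i_mem))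
    have hconj : ∀ w : Q, w ∈ c.C → w * y * w⁻¹ = y⁻¹ → w * (y * c.i) * w⁻¹ = y * c.i * c.z := fun w hwC hwy => by
      calc w * (y * c.i) * w⁻¹ = w * y * w⁻¹ * (w * c.i * w⁻¹) := by group
        _ = y * c.z * c.i := by rw [hwy, hyi, (c.C_comm_i hwC).eq, mul_inv_cancel_right]
        _ = y * c.i * c.z := by rw [mul_assoc, ← (c.z_comm c.i).eq, ← mul_assoc]
    exact key _ (c.single_invol he2 hne hnz) (isTwo_of_sq he2) (Or.inr (hconj u hu.1 (hinv l).1))
      (Or.inr (hconj v hv.1 (hinv l).2))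
  · have hp : (u * (v * c.z)) ^ (2 * j + 1) = 1 := by
      rw [← mul_assoc, ← hx, (c.z_comm x).mul_pow, ← hj, hw, hj, pow_succ, pow_mul, pow_two c.z, c.z_sq, one_pow,
        one_mul, c.z_sq]
    exact ⟨(u * (v * c.z)) ^ j, pow_mem (mul_mem hu.1 (mul_mem hv.1 (c.N_le_C c.z_mem))) j,
      Or.inr (conj_of_odd hu.2.1 hv.mul_z.2.1 hp)⟩

/-- Step C: transitivity of the normalizer. -/
theorem transitive {S : Sylow 2 Q} {u u' : Q} (hu : c.J u) (huS : u ∈ S) (hu' : c.J u') (hu'S : u' ∈ S) :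
    ∃ g ∈ c.C, g ∈ Subgroup.normalizer ((S : Subgroup Q) : Set Q) ∧
      (g * u * g⁻¹ = u' ∨ g * u * g⁻¹ = u' * c.z) := by
  obtain ⟨T, hTS⟩ : ∃ T : Sylow 2 Q, S ≠ T := by
    obtain ⟨T, T', h⟩ := c.many
    by_cases h' : S = T
    · exact ⟨T', fun e => h (h'.symm.trans e)⟩
    · exact ⟨T, h'⟩
  obtain ⟨v, hv, hvT⟩ := c.exists_J_mem T
  obtain ⟨a, ha, hau⟩ := c.conj_or hTS hu huS hv hvT
  obtain ⟨b, hb, hbu⟩ := c.conj_or hTS hu' hu'S hv hvT
  have key : (b⁻¹ * a) * u * (b⁻¹ * a)⁻¹ = u' ∨ (b⁻¹ * a) * u * (b⁻¹ * a)⁻¹ = u' * c.z := by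
    have e0 : (b⁻¹ * a) * u * (b⁻¹ * a)⁻¹ = b⁻¹ * (a * u * a⁻¹) * b := by group
    have e1 : b⁻¹ * (b * u' * b⁻¹) * b = u' := by group
    have ez : ∀ w : Q, b⁻¹ * (w * c.z) * b = b⁻¹ * w * b * c.z := fun w => by
      rw [mul_assoc, mul_assoc w, ← (c.z_comm b).eq]; group
    have hvv : v * c.z * c.z = v := by rw [mul_assoc, c.z_sq, mul_one]
    rw [e0]
    rcases hau with h1 | h1 <;> rcases hbu with h2 | h2 <;> rw [h1]
    · left; rw [← h2, e1]
    · right; rw [← hvv, ← h2, ez, e1]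
    · right; rw [← h2, ez, e1]
    · left; rw [← h2, e1]
  have hmem : (b⁻¹ * a) * u * (b⁻¹ * a)⁻¹ ∈ S := by
    rcases key with h | h <;> rw [h]
    exacts [hu'S, mul_mem hu'S (c.N_le S c.z_mem)]
  exact ⟨_, mul_mem (inv_mem hb) ha, hu.single.normalizes huS hmem, key⟩

/-- The subgroup generated by the central involution. -/
def Z : Subgroup Q := Subgroup.zpowers c.z

theorem Z_normal : c.Z.Normal :=
  ⟨fun x hx g => by
    obtain ⟨k, rfl⟩ := Subgroup.mem_zpowers_iff.1 hx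
    rw [← conj_zpow, c.conj_z]
    exact Subgroup.zpow_mem_zpowers _ k⟩

theorem mem_Z {x : Q} : x ∈ c.Z ↔ x = 1 ∨ x = c.z := by
  refine ⟨fun h => ?_, ?_⟩
  · obtain ⟨k, rfl⟩ := Subgroup.mem_zpowers_iff.1 h
    refine c.N_invol (zpow_mem c.z_mem k) ?_
    rw [← (Commute.refl c.z).mul_zpow, c.z_sq, one_zpow]
  · rintro (rfl | rfl)
    exacts [one_mem _, Subgroup.mem_zpowers _]

/-- The elements of `S ∩ C` fixing `u` up to `z`. -/
def P (S : Sylow 2 Q) (u : Q) : Subgroup Q where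
  carrier := {g | g ∈ S ∧ g ∈ c.C ∧ (g * u * g⁻¹ = u ∨ g * u * g⁻¹ = u * c.z)}
  one_mem' := ⟨one_mem _, one_mem _, Or.inl (by group)⟩
  mul_mem' {a b} ha hb := ⟨mul_mem ha.1 hb.1, mul_mem ha.2.1 hb.2.1, by
    have e : a * b * u * (a * b)⁻¹ = a * (b * u * b⁻¹) * a⁻¹ := by group
    rw [e]
    rcases hb.2.2 with h | h <;> rw [h]
    · exact ha.2.2
    · rw [show a * (u * c.z) * a⁻¹ = a * u * a⁻¹ * c.z by rw [← conj_mul, c.conj_z]]
      rcases ha.2.2 with h' | h' <;> rw [h']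
      · exact Or.inr rfl
      · exact Or.inl (by rw [mul_assoc, c.z_sq, mul_one])⟩
  inv_mem' {a} ha := ⟨inv_mem ha.1, inv_mem ha.2.1, by
    rcases ha.2.2 with h | h
    · left
      nth_rw 1 [← h]; group
    · right
      have h' : a * u * a⁻¹ * c.z = u := by rw [h, mul_assoc, c.z_sq, mul_one]
      nth_rw 1 [← h']
      rw [← conj_mul, c.conj_z]
      group⟩

theorem mem_P {S : Sylow 2 Q} {u g : Q} :
    g ∈ c.P S u ↔ g ∈ S ∧ g ∈ c.C ∧ (g * u * g⁻¹ = u ∨ g * u * g⁻¹ = u * c.z) := Iff.rfl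

theorem self_mem_P {S : Sylow 2 Q} {u : Q} (hu : c.J u) (huS : u ∈ S) : u ∈ c.P S u :=
  ⟨huS, hu.1, Or.inl (by group)⟩

theorem P_mul_z (S : Sylow 2 Q) (u : Q) : c.P S (u * c.z) = c.P S u := by
  ext g
  simp only [mem_P, ← conj_mul, c.conj_z, mul_left_inj]

theorem P_conj {S : Sylow 2 Q} {u g : Q} (hg : g ∈ Subgroup.normalizer ((S : Subgroup Q) : Set Q)) {p : Q} :
    g * p * g⁻¹ ∈ c.P S (g * u * g⁻¹) ↔ p ∈ c.P S u := by
  have hC : g * p * g⁻¹ ∈ c.C ↔ p ∈ c.C :=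
    ⟨fun h => by simpa [mul_assoc] using c.conj_C g⁻¹ h, fun h => c.conj_C g h⟩
  have hS : g * p * g⁻¹ ∈ S ↔ p ∈ S := ((Subgroup.mem_normalizer_iff.1 hg) p).symm
  have e : g * p * g⁻¹ * (g * u * g⁻¹) * (g * p * g⁻¹)⁻¹ = g * (p * u * p⁻¹) * g⁻¹ := by group
  have inj : ∀ {a b : Q}, g * a * g⁻¹ = g * b * g⁻¹ ↔ a = b := fun {a b} =>
    ⟨fun h => by simpa using h, fun h => by rw [h]⟩
  rw [mem_P, mem_P, hC, hS, e, inj, show g * u * g⁻¹ * c.z = g * (u * c.z) * g⁻¹ by rw [← conj_mul, c.conj_z], inj]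

theorem P_card {S : Sylow 2 Q} {u u' : Q} (hu : c.J u) (huS : u ∈ S) (hu' : c.J u') (hu'S : u' ∈ S) :
    Nat.card (c.P S u') = Nat.card (c.P S u) := by
  obtain ⟨g, -, hgN, hgu⟩ := c.transitive hu huS hu' hu'S
  have hP : c.P S u' = c.P S (g * u * g⁻¹) := by
    rcases hgu with h | h <;> rw [h]
    rw [c.P_mul_z]
  rw [hP]
  refine (Nat.card_congr ((MulAut.conj g).toEquiv.subtypeEquiv fun p => ?_)).symm
  exact (c.P_conj hgN).symm

theorem conj_mem_P_gen {p a b k : Q} (hp : p ∈ c.C) (ha : p * a * p⁻¹ = a ∨ p * a * p⁻¹ = a * c.z)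
    (hb : p * b * p⁻¹ = b ∨ p * b * p⁻¹ = b * c.z) (hk : k ∈ c.N) :
    p * (a * b * k) * p⁻¹ = a * b * k ∨ p * (a * b * k) * p⁻¹ = a * b * k * c.z := by
  have hkk : p * k * p⁻¹ = k := by rw [(c.C_comm hp hk).eq, mul_inv_cancel_right]
  have e : p * (a * b * k) * p⁻¹ = (p * a * p⁻¹) * (p * b * p⁻¹) * (p * k * p⁻¹) := by group
  rw [e, hkk]
  rcases ha with h | h <;> rcases hb with h' | h' <;> rw [h, h']
  · exact Or.inl rfl
  · right; simp only [mul_assoc, (c.z_comm k).eq]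
  · right
    rw [mul_assoc a c.z, ← (c.z_comm b).eq, ← mul_assoc, mul_assoc (a * b), ← (c.z_comm k).eq, ← mul_assoc]
  · left
    rw [mul_assoc a c.z, ← mul_assoc c.z b, ← (c.z_comm b).eq, mul_assoc b c.z, c.z_sq, mul_one]

/-- Step D: the Sylow 2-subgroup of `C` fixes every such involution up to `z`. -/
theorem fixed_mod_z {S : Sylow 2 Q} {u : Q} (hu : c.J u) (huS : u ∈ S) {p : Q} (hp : p ∈ S) (hpC : p ∈ c.C) :
    p * u * p⁻¹ = u ∨ p * u * p⁻¹ = u * c.z := by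
  set S₀ : Subgroup Q := (S : Subgroup Q) ⊓ c.C
  by_contra hcon
  have hlt : (c.P S u).subgroupOf S₀ < ⊤ := lt_top_iff_ne_top.2 fun h => by
    have hm : (⟨p, hp, hpC⟩ : S₀) ∈ (c.P S u).subgroupOf S₀ := h ▸ Subgroup.mem_top _
    exact hcon (c.mem_P.1 (Subgroup.mem_subgroupOf.1 hm)).2.2
  haveI : Fact (Nat.Prime 2) := ⟨Nat.prime_two⟩
  haveI : Group.IsNilpotent ↥S₀ := (S.2.to_le (inf_le_left : S₀ ≤ _)).isNilpotent
  obtain ⟨⟨h, hhS, hhC⟩, hhN, hhP⟩ := SetLike.exists_of_lt (Group.normalizerCondition_of_isNilpotent _ hlt)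
  obtain ⟨k₀, hk₀⟩ := isTwo_of_mem hhS
  classical
  have hex : ∃ k, h ^ (2 ^ k) ∈ c.P S u := ⟨k₀, hk₀ ▸ one_mem _⟩
  obtain ⟨k, hk⟩ := Nat.exists_eq_succ_of_ne_zero (n := Nat.find hex) fun h0 => by
    have := Nat.find_spec hex
    rw [h0, pow_zero, pow_one] at this
    exact hhP (Subgroup.mem_subgroupOf.2 this)
  set g := h ^ (2 ^ k) with hg
  have hgP : g ∉ c.P S u := Nat.find_min hex (by omega)
  have hg2 : g * g ∈ c.P S u := by
    have := Nat.find_spec hex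
    rwa [hk, pow_succ, pow_mul, pow_two] at this
  have hgS : g ∈ S := pow_mem hhS _
  have hgC : g ∈ c.C := pow_mem hhC _
  have hgnorm : ∀ q, q ∈ c.P S u → g * q * g⁻¹ ∈ c.P S u := fun q hq => by
    have hgN : (⟨h, hhS, hhC⟩ : S₀) ^ (2 ^ k) ∈ Subgroup.normalizer (((c.P S u).subgroupOf S₀) : Set ↥S₀) :=
      pow_mem hhN _
    exact Subgroup.mem_subgroupOf.1 ((Subgroup.mem_normalizer_iff.1 hgN ⟨q, hq.1, hq.2.1⟩).1
      (Subgroup.mem_subgroupOf.2 hq))
  set u' := g * u * g⁻¹ with hu'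
  have hu'P : u' ∈ c.P S u := hgnorm u (c.self_mem_P hu huS)
  have hgNor : g ∈ Subgroup.normalizer ((S : Subgroup Q) : Set Q) := Subgroup.le_normalizer hgS
  have hu'J : c.J u' := hu.conj g
  have hne : u' ≠ u ∧ u' ≠ u * c.z := ⟨fun e => hgP ⟨hgS, hgC, Or.inl e⟩, fun e => hgP ⟨hgS, hgC, Or.inr e⟩⟩
  have hu'i : u'⁻¹ = u' := inv_eq_of_mul_eq_one_right hu'J.2.1
  have hee : u * u' * (u * u') = 1 ∨ u * u' * (u * u') = c.z := by
    have h1 := hu'P.2.2
    rw [hu'i] at h1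
    have e : u * u' * (u * u') = u * (u' * u * u') := by group
    rw [e]
    rcases h1 with h1 | h1 <;> rw [h1]
    exacts [Or.inl hu.2.1, Or.inr (by rw [← mul_assoc, hu.2.1, one_mul])]
  obtain ⟨k', hk'N, hk'2⟩ : ∃ k' ∈ c.N, u * u' * (u * u') * (k' * k') = 1 := by
    rcases hee with h | h
    · exact ⟨1, one_mem _, by rw [h]; simp⟩
    · exact ⟨c.i, c.i_mem, by rw [h, ← c.z_eq, c.z_sq]⟩
  set e := u * u' * k' with he
  have hcomm : Commute (u * u') k' := c.C_comm (mul_mem hu.1 hu'J.1) hk'N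
  have he2 : e * e = 1 := by rw [he, hcomm.symm.mul_mul_mul_comm, hk'2]
  have heC : e ∈ c.C := mul_mem (mul_mem hu.1 hu'J.1) (c.N_le_C hk'N)
  have hN' : ∀ n ∈ c.N, e = n → False := fun n hn hen => by
    -- then `u' ∈ u N`
    have h1 : u' = u * (n * k'⁻¹) := by
      rw [← hen, he, mul_inv_cancel_right, ← mul_assoc, hu.2.1, one_mul]
    have hm : n * k'⁻¹ ∈ c.N := mul_mem hn (inv_mem hk'N)
    have h2 := hu'J.2.1
    rw [h1, (c.C_comm hu.1 hm).symm.mul_mul_mul_comm, hu.2.1, one_mul] at h2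
    rcases c.N_invol hm h2 with h3 | h3 <;> rw [h3] at h1
    · exact hne.1 (h1.trans (mul_one u))
    · exact hne.2 h1
  have heJ : c.J e := ⟨heC, he2, fun h => hN' 1 (one_mem _) h, fun h => hN' _ c.z_mem h⟩
  have heS : e ∈ S := mul_mem (mul_mem huS (mul_mem (mul_mem hgS huS) (inv_mem hgS))) (c.N_le S hk'N)
  have hle : c.P S u ≤ c.P S e := fun q hq => ⟨hq.1, hq.2.1, c.conj_mem_P_gen hq.2.1 hq.2.2
    (by
      have hq' : g⁻¹ * q * g ∈ c.P S u := by
        have h1 : g⁻¹ = g * (g * g)⁻¹ := by group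
        have hm : (g * g)⁻¹ * q * (g * g) ∈ c.P S u := mul_mem (mul_mem (inv_mem hg2) hq) hg2
        have := hgnorm _ hm
        convert this using 1
        group
      have := (c.P_conj hgNor (u := u) (p := g⁻¹ * q * g)).2 hq'
      rw [show g * (g⁻¹ * q * g) * g⁻¹ = q by group] at this
      exact this.2.2) hk'N⟩
  have hge : g ∈ c.P S e := by
    refine ⟨hgS, hgC, ?_⟩
    -- modulo `z`, `g` exchanges the two commuting factors
    have e1 : g * e * g⁻¹ = u' * (g * g * u * (g * g)⁻¹) * k' := by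
      calc g * e * g⁻¹ = g * u * g⁻¹ * (g * u' * g⁻¹) * (g * k' * g⁻¹) := by rw [he]; group
        _ = _ := by
          rw [(c.C_comm hgC hk'N).eq, mul_inv_cancel_right, hu']
          group
    have e2 : u' * u = u * u' ∨ u' * u = u * u' * c.z := by
      have h0 : u' * u = (u * u')⁻¹ := by rw [mul_inv_rev, hu'i, inv_eq_of_mul_eq_one_right hu.2.1]
      rw [h0]
      rcases hee with h | h
      · exact Or.inl (inv_eq_of_mul_eq_one_right h)
      · exact Or.inr (inv_eq_of_mul_eq_one_right (by rw [← mul_assoc, h, c.z_sq]))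
    have ek : ∀ w : Q, w * c.z * k' = w * k' * c.z := fun w => by rw [mul_assoc, ← (c.z_comm k').eq, ← mul_assoc]
    rcases hg2.2.2 with h | h <;> rw [e1, h, he]
    · rcases e2 with h' | h' <;> rw [h']
      exacts [Or.inl rfl, Or.inr (ek _)]
    · rw [← mul_assoc]
      rcases e2 with h' | h' <;> rw [h']
      · exact Or.inr (ek _)
      · exact Or.inl (by simp only [mul_assoc]; rw [← mul_assoc c.z c.z, c.z_sq, one_mul])
  exact hgP ((Subgroup.eq_of_le_of_card_ge hle (c.P_card hu huS heJ heS).le) ▸ hge)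

end Ctx

end Cfsg.Agent.Invol.CycInter
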