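import Cfsg.Agent.Lib.Invol.CycInterFusion
import Cfsg.Agent.Lib.Invol.ZStar

/-!
A normal 2-subgroup is central when two distinct Sylow 2-subgroups always meet in a cyclic group.
-/

set_option autoImplicit false
set_option linter.unusedSectionVars false
set_option linter.style.haveILetI false

namespace Cfsg.Agent.Invol.CycInter

open Subgroup

universe u

variable {Q : Type u} [Group Q] [Finite Q]

namespace Ctx

variable (c : Ctx Q)

theorem exists_s : ∃ S : Sylow 2 Q, ∃ s, s ∈ S ∧ s ∉ c.C ∧ s * s ∈ c.C := by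
  classical
  obtain ⟨x, hx⟩ := c.exists_out
  obtain ⟨a, m, hm, hord⟩ := Nat.exists_eq_two_pow_mul_odd (orderOf_pos x).ne'
  set y := x ^ m with hy
  have hy2 : IsTwo y := ⟨a, by rw [hy, ← pow_mul, mul_comm, ← hord, pow_orderOf_eq_one]⟩
  have hodd : Odd (orderOf (x ^ (2 ^ a))) := by
    rw [orderOf_pow, hord, Nat.gcd_eq_right (dvd_mul_right _ m), Nat.mul_div_cancel_left m (by positivity)]
    exact hm
  have hyC : y ∉ c.C := fun h => hx (by
    have h2 := c.odd_mem_C hodd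
    have hco : (2 ^ a).Coprime m := Nat.Coprime.pow_left a ((Nat.coprime_two_left).2 hm)
    have := Subgroup.mem_zpowers x
    obtain ⟨A, B, hAB⟩ : ∃ A B : ℤ, ((2 ^ a : ℕ) : ℤ) * A + (m : ℤ) * B = 1 := by
      refine ⟨Nat.gcdA (2 ^ a) m, Nat.gcdB (2 ^ a) m, ?_⟩
      rw [← Nat.gcd_eq_gcd_ab, hco, Nat.cast_one]
    rw [show x = (x ^ (2 ^ a)) ^ A * y ^ B by
      rw [hy, ← zpow_natCast, ← zpow_natCast, ← zpow_mul, ← zpow_mul, ← zpow_add, hAB, zpow_one]]
    exact mul_mem (zpow_mem h2 A) (zpow_mem h B))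
  obtain ⟨k₀, hk₀⟩ := hy2
  have hex : ∃ k, y ^ (2 ^ k) ∈ c.C := ⟨k₀, hk₀ ▸ one_mem _⟩
  obtain ⟨k, hk⟩ := Nat.exists_eq_succ_of_ne_zero (n := Nat.find hex) fun h0 => by
    have := Nat.find_spec hex
    rw [h0, pow_zero, pow_one] at this
    exact hyC this
  set s := y ^ (2 ^ k) with hs
  have hs1 : s ∉ c.C := Nat.find_min hex (by omega)
  have hs2 : s * s ∈ c.C := by
    have := Nat.find_spec hex
    rwa [hk, pow_succ, pow_mul, pow_two] at this
  obtain ⟨S, hS⟩ := IsTwo.exists_sylow (x := s) ⟨k₀, by rw [hs, ← pow_mul, mul_comm, pow_mul, hk₀, one_pow]⟩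
  exact ⟨S, s, hS, hs1, hs2⟩

theorem sq_mem_C {s x : Q} (hs2 : s * s ∈ c.C) (hx : x * s⁻¹ ∈ c.C) : x * x ∈ c.C := by
  have h : x * x = x * s⁻¹ * (s * (x * s⁻¹) * s⁻¹) * (s * s) := by group
  rw [h]
  exact mul_mem (mul_mem hx (c.conj_C s hx)) hs2

/-- The involution of `⟨x⟩` modulo `N`. -/
theorem exists_top {S : Sylow 2 Q} {x : Q} (hxS : x ∈ S) (hxC : x ∉ c.C) (hx2 : x * x ∈ c.C) :
    haveI := c.normal
    ∃ e, c.J e ∧ e ∈ S ∧
      (QuotientGroup.mk' c.N x) ^ (orderOf (QuotientGroup.mk' c.N x) / 2) = QuotientGroup.mk' c.N e := by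
  haveI := c.normal
  set ρ := QuotientGroup.mk' c.N with hρ
  have hker : ∀ y, ρ y = 1 ↔ y ∈ c.N := fun y => QuotientGroup.eq_one_iff y
  obtain ⟨k₀, hk₀⟩ := isTwo_of_mem hxS
  obtain ⟨j, -, hj⟩ := (Nat.dvd_prime_pow Nat.prime_two).1
    (orderOf_dvd_of_pow_eq_one (show ρ x ^ (2 ^ k₀) = 1 by rw [← map_pow, hk₀, map_one]))
  match j, hj with
  | 0, hj => exact absurd (c.N_le_C ((hker x).1 (orderOf_eq_one_iff.1 (by rw [hj, pow_zero])))) hxC
  | 1, hj =>
    exfalso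
    refine c.no_sq_mem (isTwo_of_mem hxS) hxC ((hker _).1 ?_)
    rw [map_mul, ← pow_two, ← pow_one 2, ← hj, pow_orderOf_eq_one]
  | j + 2, hj =>
    set r := x ^ (2 ^ (j + 1)) with hr
    have hhalf : orderOf (ρ x) / 2 = 2 ^ (j + 1) := by rw [hj, pow_succ, Nat.mul_div_cancel _ two_pos]
    have hrC : r ∈ c.C := by
      rw [hr, pow_succ', pow_mul, pow_two]
      exact pow_mem hx2 _
    have hrN : r ∉ c.N := fun h => by
      have := orderOf_dvd_of_pow_eq_one (show ρ x ^ (2 ^ (j + 1)) = 1 by rw [← map_pow]; exact (hker _).2 h)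
      rw [hj] at this
      exact absurd ((Nat.pow_dvd_pow_iff_le_right (by norm_num)).1 this) (by omega)
    have hr2 : r * r ∈ c.N := (hker _).1 (by
      rw [map_mul, hr, map_pow, ← pow_add, ← two_mul, ← pow_succ', ← hj, pow_orderOf_eq_one])
    have hcx : Commute x (r * r) := ((Commute.refl x).pow_right _).mul_right ((Commute.refl x).pow_right _)
    obtain ⟨k, hk, hkk⟩ := c.sq_root hxC hr2 hcx
    have hck : Commute r k⁻¹ := (c.C_comm hrC hk).inv_right
    have hn : ∀ n ∈ c.N, r * k⁻¹ = n → False := fun n hn h => hrN (by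
      rw [show r = n * k by rw [← h, inv_mul_cancel_right]]
      exact mul_mem hn hk)
    refine ⟨r * k⁻¹, ⟨mul_mem hrC (inv_mem (c.N_le_C hk)), ?_, fun h => hn 1 (one_mem _) h,
      fun h => hn _ c.z_mem h⟩, mul_mem (pow_mem hxS _) (inv_mem (c.N_le S hk)), ?_⟩
    · rw [hck.symm.mul_mul_mul_comm, ← hkk]; group
    · rw [hhalf, map_mul, map_inv, (hker k).2 hk, inv_one, mul_one, hr, map_pow]

/-- Step E: each Sylow 2-subgroup contains one involution outside `N` up to `z`. -/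
theorem eq_mod_z {S : Sylow 2 Q} {u v : Q} (hu : c.J u) (huS : u ∈ S) (hv : c.J v) (hvS : v ∈ S) :
    v = u ∨ v = u * c.z := by
  classical
  haveI := c.normal
  obtain ⟨S', s, hs, hsC, hs2⟩ := c.exists_s
  haveI : Fact (Nat.Prime 2) := ⟨Nat.prime_two⟩
  obtain ⟨g₀, hg₀⟩ := MulAction.exists_smul_eq Q S' S
  set t := g₀ * s * g₀⁻¹ with ht
  have htS : t ∈ S := by
    rw [← hg₀, mem_smul_sylow, ht, show g₀⁻¹ * (g₀ * s * g₀⁻¹) * g₀ = s by group]; exact hs
  have htC : t ∉ c.C := fun h => hsC (by simpa [ht, mul_assoc] using c.conj_C g₀⁻¹ h)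
  have ht2 : t * t ∈ c.C := by
    rw [ht, show g₀ * s * g₀⁻¹ * (g₀ * s * g₀⁻¹) = g₀ * (s * s) * g₀⁻¹ by group]; exact c.conj_C g₀ hs2
  set ρ := QuotientGroup.mk' c.N with hρ
  set H : Subgroup Q := Subgroup.normalizer ((S : Subgroup Q) : Set Q) ⊓ c.C with hH
  letI : MulAction ↥H (Q ⧸ c.N) := MulAction.compHom (Q ⧸ c.N) ((MulAut.conj.comp ρ).comp H.subtype)
  have hsmul : ∀ (g : H) (w : Q), g • ρ w = ρ ((g : Q) * w * (g : Q)⁻¹) := fun g w => by
    show ρ (g : Q) * ρ w * (ρ (g : Q))⁻¹ = _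
    rw [map_mul, map_mul, map_inv]
  have hρz : ρ c.z = 1 := (QuotientGroup.eq_one_iff _).2 c.z_mem
  set O := MulAction.orbit ↥H (ρ u) with hO
  have hmemO : ∀ e, c.J e → e ∈ S → ρ e ∈ O := fun e he heS => by
    obtain ⟨g, hgC, hgN, hg⟩ := c.transitive hu huS he heS
    refine ⟨⟨g, hgN, hgC⟩, ?_⟩
    show (⟨g, hgN, hgC⟩ : H) • ρ u = ρ e
    rw [hsmul]
    rcases hg with h | h <;> rw [h]
    rw [map_mul, hρz, mul_one]
  -- the orbit is odd
  have hodd : Odd (Nat.card O) := by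
    rw [Nat.card_coe_set_eq, hO, ← MulAction.index_stabilizer]
    have hle : (S : Subgroup Q).subgroupOf H ≤ MulAction.stabilizer ↥H (ρ u) := fun g hg => by
      rw [MulAction.mem_stabilizer_iff, hsmul]
      rcases c.fixed_mod_z hu huS (Subgroup.mem_subgroupOf.1 hg) g.2.2 with h | h <;> rw [h]
      rw [map_mul, hρz, mul_one]
    refine Odd.of_dvd_nat ?_ (Subgroup.index_dvd_of_le hle)
    set K := Subgroup.normalizer ((S : Subgroup Q) : Set Q)
    have hidx : ((S : Subgroup Q).subgroupOf H).index ∣ ((S : Subgroup Q).subgroupOf K).index := by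
      haveI : ((S : Subgroup Q).subgroupOf K).Normal := Subgroup.normal_in_normalizer
      have h1 := Subgroup.relIndex_dvd_index_of_normal ((S : Subgroup Q).subgroupOf K) (H.subgroupOf K)
      rwa [Subgroup.relIndex_subgroupOf (inf_le_left : H ≤ K)] at h1
    refine Odd.of_dvd_nat (Nat.odd_iff.2 (Nat.two_dvd_ne_zero.1 fun h2 => S.not_dvd_index ?_)) hidx
    exact h2.trans (Subgroup.relIndex_dvd_index_of_le Subgroup.le_normalizer)
  -- the map to the orbit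
  let X := {x : Q // x ∈ S ∧ x * t⁻¹ ∈ c.C}
  have hXC : ∀ x : X, (x : Q) ∉ c.C := fun x h => htC (by simpa using mul_mem (inv_mem x.2.2) h)
  have hf : ∀ x : X, (ρ x.1) ^ (orderOf (ρ x.1) / 2) ∈ O := fun x => by
    obtain ⟨e, he, heS, h⟩ := c.exists_top x.2.1 (hXC x) (c.sq_mem_C ht2 x.2.2)
    rw [h]; exact hmemO e he heS
  let f : X → O := fun x => ⟨_, hf x⟩
  have hfib : ∀ w : O, Nat.card {x // f x = w} = Nat.card {x // f x = ⟨ρ u, MulAction.mem_orbit_self _⟩} := by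
    rintro ⟨w, g, rfl⟩
    have hgN : ∀ x, x ∈ S ↔ (g : Q) * x * (g : Q)⁻¹ ∈ S := fun x => Subgroup.mem_normalizer_iff.1 g.2.1 x
    have hgt : ∀ x : Q, x * t⁻¹ ∈ c.C ↔ (g : Q) * x * (g : Q)⁻¹ * t⁻¹ ∈ c.C := fun x => by
      have e : (g : Q) * x * (g : Q)⁻¹ * t⁻¹ = (g : Q) * (x * t⁻¹) * (t * (g : Q)⁻¹ * t⁻¹) := by group
      have hm : t * (g : Q)⁻¹ * t⁻¹ ∈ c.C := c.conj_C t (inv_mem g.2.2)
      rw [e, Subgroup.mul_mem_cancel_right _ hm, Subgroup.mul_mem_cancel_left _ g.2.2]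
    let φ : X ≃ X := (MulAut.conj (g : Q)).toEquiv.subtypeEquiv fun x => and_congr (hgN x) (hgt x)
    refine (Nat.card_congr (φ.subtypeEquiv fun x => ?_)).symm
    have hkey : (ρ (φ x).1) ^ (orderOf (ρ (φ x).1) / 2) = g • ((ρ x.1) ^ (orderOf (ρ x.1) / 2)) := by
      have e1 : ρ (φ x).1 = MulAut.conj (ρ (g : Q)) (ρ x.1) := by
        show ρ ((g : Q) * x.1 * (g : Q)⁻¹) = ρ (g : Q) * ρ x.1 * (ρ (g : Q))⁻¹
        rw [map_mul, map_mul, map_inv]
      rw [e1, MulEquiv.orderOf_eq, ← map_pow]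
      rfl
    simp only [f, Subtype.ext_iff]
    rw [hkey]
    exact ⟨fun h => by rw [h], fun h => MulAction.injective g h⟩
  have hcard : Nat.card X = Nat.card O * Nat.card {x // f x = ⟨ρ u, MulAction.mem_orbit_self _⟩} := by
    haveI : Fintype O := Fintype.ofFinite _
    rw [Nat.card_congr (Equiv.sigmaFiberEquiv f).symm, Nat.card_sigma, Finset.sum_congr rfl fun w _ => hfib w,
      Finset.sum_const, Finset.card_univ, smul_eq_mul, ← Nat.card_eq_fintype_card]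
  have hX : Nat.card X = Nat.card ↥((S : Subgroup Q) ⊓ c.C) := by
    refine Nat.card_congr ((Equiv.mulRight t⁻¹).subtypeEquiv fun x => ?_)
    show x ∈ S ∧ x * t⁻¹ ∈ c.C ↔ x * t⁻¹ ∈ (S : Subgroup Q) ∧ x * t⁻¹ ∈ c.C
    exact and_congr_left fun _ => ⟨fun h => mul_mem h (inv_mem htS), fun h => by
      have := mul_mem h htS
      rwa [inv_mul_cancel_right] at this⟩
  obtain ⟨a, ha⟩ := IsPGroup.iff_card.1 (S.2.to_le (inf_le_left : (S : Subgroup Q) ⊓ c.C ≤ _))
  have hone : Nat.card O = 1 := by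
    obtain ⟨b, -, hb⟩ := (Nat.dvd_prime_pow Nat.prime_two).1 (show Nat.card O ∣ 2 ^ a from ⟨_, by rw [← ha, ← hX, hcard]⟩)
    match b, hb with
    | 0, hb => simpa using hb
    | b + 1, hb => exact absurd hodd (by rw [hb, Nat.not_odd_iff_even]; exact ⟨2 ^ b, by ring⟩)
  haveI : Subsingleton O := (Nat.card_eq_one_iff_unique.1 hone).1
  have heq : ρ u = ρ v := congrArg Subtype.val (Subsingleton.elim (⟨_, hmemO u hu huS⟩ : O) ⟨_, hmemO v hv hvS⟩)
  have hN : u⁻¹ * v ∈ c.N := QuotientGroup.eq.1 heq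
  have h2 : u⁻¹ * v * (u⁻¹ * v) = 1 := by
    have hcm : Commute v (u⁻¹ * v) := c.C_comm hv.1 hN
    rw [mul_assoc, hcm.eq, mul_assoc, hv.2.1, mul_one, inv_eq_of_mul_eq_one_right hu.2.1, hu.2.1]
  rcases c.N_invol hN h2 with h | h
  · exact Or.inl (by rw [inv_mul_eq_one] at h; exact h.symm)
  · exact Or.inr (by rw [← h, mul_inv_cancel_left])

theorem odd_mem_le {K : Subgroup Q} (L : Subgroup ↥K) [L.Normal] (hL : L.index = 2) {x : Q} (hx : x ∈ K)
    (ho : Odd (orderOf x)) : (⟨x, hx⟩ : K) ∈ L := by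
  obtain ⟨m, hm⟩ := exists_pow_eq_self_of_coprime (x := (⟨x, hx⟩ : K)) (n := L.index)
    (by rw [hL, Subgroup.orderOf_mk]; exact (Nat.coprime_two_left).2 ho)
  rw [← hm]
  exact pow_mem (Subgroup.pow_index_mem L _) m

theorem core_quot_Z : haveI := c.Z_normal; Cfsg.pPrimeCore 2 (Q ⧸ c.Z) = ⊥ := by
  haveI := c.Z_normal
  haveI := Cfsg.Agent.Grp.pPrimeCore_isNormal (p := 2) (G := Q ⧸ c.Z)
  set π := QuotientGroup.mk' c.Z with hπ
  set K := (Cfsg.pPrimeCore 2 (Q ⧸ c.Z)).comap π with hK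
  have hZK : c.Z ≤ K := fun x hx => by
    rw [hK, Subgroup.mem_comap, hπ, QuotientGroup.mk'_apply, (QuotientGroup.eq_one_iff x).2 hx]
    exact one_mem _
  have hidx : (c.Z.subgroupOf K).index = Nat.card (Cfsg.pPrimeCore 2 (Q ⧸ c.Z)) := by
    show c.Z.relIndex K = _
    have hk : c.Z = π.ker := (QuotientGroup.ker_mk' c.Z).symm
    refine (congrArg (fun A => A.relIndex K) hk).trans ?_
    show π.ker.relIndex K = _
    rw [Subgroup.relIndex_ker, hK]
    show Nat.card ↥((Subgroup.comap π (Cfsg.pPrimeCore 2 (Q ⧸ c.Z))).map π) = _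
    rw [Subgroup.map_comap_eq_self_of_surjective (QuotientGroup.mk'_surjective c.Z)]
  have hcardZ : Nat.card (c.Z.subgroupOf K) = 2 := by
    rw [Nat.card_congr (Subgroup.subgroupOfEquivOfLe hZK).toEquiv, Z, Nat.card_zpowers]
    exact orderOf_eq_prime (by rw [pow_two]; exact c.z_sq) c.z_ne
  haveI : (c.Z.subgroupOf K).Normal := c.Z_normal.subgroupOf K
  have hco := Cfsg.Agent.Grp.pPrimeCore_coprime (p := 2) (G := Q ⧸ c.Z)
  obtain ⟨L, hL⟩ := Subgroup.exists_right_complement'_of_coprime (N := c.Z.subgroupOf K)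
    (by rw [hcardZ, hidx]; exact hco.symm)
  have hLi : L.index = 2 := hL.index_eq_card.trans hcardZ
  haveI : L.Normal := Subgroup.normal_of_index_eq_two hLi
  have hLodd : Odd (Nat.card L) := by
    rw [← hL.symm.index_eq_card, hidx]
    exact (Nat.coprime_two_right).1 hco
  set M := L.map K.subtype with hM
  have hMn : M.Normal := ⟨fun x hx g => by
    obtain ⟨y, hy, rfl⟩ := hx
    have hK' : g * (y : Q) * g⁻¹ ∈ K := (inferInstance : K.Normal).conj_mem _ y.2 g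
    refine ⟨⟨_, hK'⟩, odd_mem_le L hLi hK' ?_, rfl⟩
    rw [show orderOf (g * (y : Q) * g⁻¹) = orderOf y from
      ((orderOf_injective (MulAut.conj g).toMonoidHom (MulAut.conj g).injective _).trans (Subgroup.orderOf_coe y))]
    exact hLodd.of_dvd_nat (by rw [← Subgroup.orderOf_mk y hy]; exact orderOf_dvd_natCard _)⟩
  have hMbot : M = ⊥ := le_bot_iff.1 (c.core ▸ Cfsg.Agent.Grp.le_pPrimeCore hMn
    (by rw [hM, Subgroup.card_map_of_injective K.subtype_injective]; exact (Nat.coprime_two_right).2 hLodd))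
  rw [hM, Subgroup.map_eq_bot_iff_of_injective _ K.subtype_injective] at hMbot
  have h1 : Nat.card L = 1 := by rw [hMbot]; exact Subgroup.card_bot
  rw [← hL.symm.index_eq_card, hidx] at h1
  exact Subgroup.card_eq_one.1 h1

/-- Step F: the configuration is impossible. -/
theorem false (c : Ctx Q) : False := by
  haveI := c.Z_normal
  obtain ⟨S, T, hST⟩ := c.many
  obtain ⟨u, hu, huS⟩ := c.exists_J_mem S
  set π := QuotientGroup.mk' c.Z with hπ
  have hker : ∀ y, π y = 1 ↔ y ∈ c.Z := fun y => QuotientGroup.eq_one_iff y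
  have hu1 : π u ≠ 1 := fun h => (c.mem_Z.1 ((hker u).1 h)).elim hu.2.2.1 hu.2.2.2
  have hiso : Cfsg.IsIsolatedInvolution (π u) := by
    refine ⟨orderOf_eq_prime (by rw [pow_two, ← map_mul, hu.2.1, map_one]) hu1, fun g hg => ?_⟩
    obtain ⟨g, rfl⟩ := QuotientGroup.mk'_surjective c.Z g
    rw [← map_inv, ← map_mul, ← map_mul] at hg ⊢
    set u' := g * u * g⁻¹ with hu'
    have hJ : c.J u' := hu.conj g
    have hz : u' * u * u'⁻¹ * u⁻¹ ∈ c.Z := (hker _).1 (by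
      rw [map_mul, map_mul, map_mul, map_inv, map_inv, ← hg.eq, mul_inv_cancel_right, mul_inv_cancel])
    have hu'S : u' ∈ S := hu.single.mem_of_conj huS (isTwo_of_sq hJ.2.1) (by
      rw [show u' * u * u'⁻¹ = u' * u * u'⁻¹ * u⁻¹ * u by group]
      exact mul_mem (c.N_le S ((Subgroup.zpowers_le.2 c.z_mem) hz)) huS)
    rcases c.eq_mod_z hu huS hJ hu'S with h | h <;> rw [h]
    rw [map_mul, (hker _).2 (Subgroup.mem_zpowers c.z), mul_one]
  have hall : ∀ g : Q, g ∈ Subgroup.normalizer ((S : Subgroup Q) : Set Q) := fun g => by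
    have h := Cfsg.Agent.ZStar.commutator_mem_oddCore (Nat.card (Q ⧸ c.Z)) (Q ⧸ c.Z) rfl _ hiso (π g)
    rw [c.core_quot_Z, Subgroup.mem_bot, ← map_inv, ← map_inv, ← map_mul, ← map_mul, ← map_mul, hker] at h
    refine hu.single.normalizes huS ?_
    have e : g * u * g⁻¹ = (u * g * u⁻¹ * g⁻¹)⁻¹ * u := by group
    rw [e]
    exact mul_mem (inv_mem (c.N_le S ((Subgroup.zpowers_le.2 c.z_mem) h))) huS
  haveI : Fact (Nat.Prime 2) := ⟨Nat.prime_two⟩
  obtain ⟨g, hg⟩ := MulAction.exists_smul_eq Q S T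
  exact hST ((Sylow.smul_eq_iff_mem_normalizer.2 (hall g)).symm.trans hg)

end Ctx

/-- A normal 2-subgroup is cyclic and central. -/
theorem central_of_normal_two (hcyc : ∀ S T : Sylow 2 Q, S ≠ T → IsCyclic ↥((S : Subgroup Q) ⊓ (T : Subgroup Q)))
    (hcore : Cfsg.pPrimeCore 2 Q = ⊥) (hmany : ∃ S T : Sylow 2 Q, S ≠ T) (N : Subgroup Q) [hN : N.Normal]
    (h2 : IsPGroup 2 N) : IsCyclic N ∧ N ≤ Subgroup.center Q := by
  obtain ⟨S, T, hST⟩ := hmany
  have hle : N ≤ (S : Subgroup Q) ⊓ (T : Subgroup Q) :=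
    le_inf (h2.le_sylow_of_normal S) (h2.le_sylow_of_normal T)
  haveI := hcyc S T hST
  haveI hNc : IsCyclic N := isCyclic_of_injective (Subgroup.inclusion hle) (Subgroup.inclusion_injective _)
  refine ⟨hNc, ?_⟩
  obtain ⟨g₀, hg₀⟩ := hNc.exists_generator
  obtain ⟨k, hk⟩ := IsPGroup.iff_orderOf.1 h2 g₀
  have hgen : N ≤ Subgroup.zpowers (g₀ : Q) := fun n hn => by
    obtain ⟨j, hj⟩ := Subgroup.mem_zpowers_iff.1 (hg₀ ⟨n, hn⟩)
    exact ⟨j, by simpa using congrArg Subtype.val hj⟩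
  by_cases hk2 : k ≤ 1
  · intro n hn
    have hsq : (g₀ : Q) * (g₀ : Q) = 1 := by
      have h := pow_orderOf_eq_one (g₀ : Q)
      rw [Subgroup.orderOf_coe, hk] at h
      rcases Nat.le_one_iff_eq_zero_or_eq_one.1 hk2 with rfl | rfl <;> simp [pow_two] at h ⊢
      · simp [h]
      · exact h
    have hgc : (g₀ : Q) ∈ Subgroup.center Q := Subgroup.mem_center_iff.2 fun g => by
      by_cases h1 : (g₀ : Q) = 1
      · rw [h1, mul_one, one_mul]
      refine mul_inv_eq_iff_eq_mul.1 (eq_of_cyclic hNc (hN.conj_mem _ g₀.2 g) g₀.2 ?_ hsq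
        (fun h => h1 (conj_eq_one_iff.1 h)) h1)
      rw [show g * (g₀ : Q) * g⁻¹ * (g * (g₀ : Q) * g⁻¹) = g * ((g₀ : Q) * (g₀ : Q)) * g⁻¹ by group, hsq]
      group
    exact (Subgroup.zpowers_le.2 hgc) (hgen hn)
  by_contra hnc
  have hi4 : orderOf ((g₀ : Q) ^ (2 ^ (k - 2))) = 4 := by
    rw [orderOf_pow, Subgroup.orderOf_coe, hk, Nat.gcd_eq_right (pow_dvd_pow 2 (Nat.sub_le k 2)),
      Nat.pow_div (Nat.sub_le k 2) two_pos, show k - (k - 2) = 2 by omega]
    rfl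
  exact Ctx.false ⟨N, hN, h2, hcyc, hcore, ⟨S, T, hST⟩, hnc, _, pow_mem g₀.2 _, hi4⟩

end Cfsg.Agent.Invol.CycInter
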