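import Cfsg.Agent.Lib.Invol.CycInterMain
import Cfsg.Agent.Lib.Grp.Frattini

/-!
Reduction to the quotient by the odd core.
-/

set_option autoImplicit false
set_option linter.unusedSectionVars false
set_option linter.style.haveILetI false

namespace Cfsg.Agent.Invol.CycInter

open Subgroup

universe u

variable {G : Type u} [Group G] [Finite G]

theorem cyclic_quotient (hC : ∀ S T : Sylow 2 G, S ≠ T → IsCyclic ↥((S : Subgroup G) ⊓ (T : Subgroup G)))
    (O : Subgroup G) [O.Normal] (hO : Odd (Nat.card O)) (S T : Sylow 2 (G ⧸ O)) (hST : S ≠ T) :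
    IsCyclic ↥((S : Subgroup (G ⧸ O)) ⊓ (T : Subgroup (G ⧸ O))) := by
  haveI : Fact (Nat.Prime 2) := ⟨Nat.prime_two⟩
  set π := QuotientGroup.mk' O with hπ
  have hπs : Function.Surjective π := QuotientGroup.mk'_surjective O
  set D := (S : Subgroup (G ⧸ O)) ⊓ (T : Subgroup (G ⧸ O)) with hD
  obtain ⟨R⟩ : Nonempty (Sylow 2 ↥(D.comap π)) := inferInstance
  set B := (R : Subgroup ↥(D.comap π)).map (D.comap π).subtype with hB
  have hB2 : IsPGroup 2 B := R.2.map _
  have hext : ∀ P : Sylow 2 (G ⧸ O), D ≤ (P : Subgroup (G ⧸ O)) →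
      ∃ P' : Sylow 2 G, B ≤ (P' : Subgroup G) ∧ (P' : Subgroup G).map π = (P : Subgroup (G ⧸ O)) := by
    intro P hP
    set X := (P : Subgroup (G ⧸ O)).comap π with hX
    have hBX : B ≤ X := (Subgroup.map_subtype_le _).trans (Subgroup.comap_mono hP)
    obtain ⟨P₁, hP₁⟩ := (hB2.comap_of_injective X.subtype X.subtype_injective).exists_le_sylow
    have hX2 : ¬ 2 ∣ X.index := by
      rw [hX, Subgroup.index_comap_of_surjective _ hπs]; exact P.not_dvd_index
    have hidx : ¬ 2 ∣ ((P₁ : Subgroup X).map X.subtype).index := by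
      rw [Subgroup.index_map_subtype]
      exact Nat.prime_two.not_dvd_mul P₁.not_dvd_index hX2
    refine ⟨(P₁.2.map X.subtype).toSylow hidx, fun b hb => ⟨⟨b, hBX hb⟩, hP₁ hb, rfl⟩, ?_⟩
    have hle : ((P₁ : Subgroup X).map X.subtype).map π ≤ (P : Subgroup (G ⧸ O)) :=
      (Subgroup.map_mono (Subgroup.map_subtype_le _)).trans (Subgroup.map_comap_le _ _)
    exact ((Sylow.mapSurjective hπs ((P₁.2.map X.subtype).toSylow hidx)).3 P.2 hle).symm
  obtain ⟨S', hS', hSm⟩ := hext S inf_le_left
  obtain ⟨T', hT', hTm⟩ := hext T inf_le_right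
  have hne : S' ≠ T' := fun e => hST (Sylow.ext (hSm.symm.trans (e ▸ hTm)))
  haveI := hC S' T' hne
  haveI : IsCyclic B :=
    isCyclic_of_injective (Subgroup.inclusion (le_inf hS' hT')) (Subgroup.inclusion_injective _)
  have hdvd : ∀ b : B, π (b : G) ∈ D := by
    rintro ⟨b, r, -, rfl⟩
    exact r.2
  let f : B →* D := (π.comp B.subtype).codRestrict D hdvd
  refine isCyclic_of_surjective f ?_
  let g : ↥(D.comap π) →* D := π.subgroupComap D
  have hg : Function.Surjective g := π.subgroupComap_surjective_of_surjective D hπs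
  intro d
  have htop : (R : Subgroup ↥(D.comap π)).map g = ⊤ := by
    refine Subgroup.index_eq_one.1 (Nat.eq_one_of_dvd_coprimes ?_
      ((R : Subgroup ↥(D.comap π)).index_map_dvd hg) ((Subgroup.index_dvd_card _)))
    obtain ⟨a, ha⟩ := IsPGroup.iff_card.1 (S.2.to_le (inf_le_left : D ≤ _))
    rw [ha]
    exact Nat.Coprime.pow_right _ ((Nat.coprime_two_right).2 (Nat.not_even_iff_odd.1 fun h =>
      R.not_dvd_index (even_iff_two_dvd.1 h)))
  obtain ⟨r, hr, hrd⟩ := (htop ▸ Subgroup.mem_top d : d ∈ (R : Subgroup ↥(D.comap π)).map g)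
  exact ⟨⟨(r : G), r, hr, rfl⟩, hrd⟩

/-- A solvable normal subgroup is a cyclic central 2-group when the odd core is trivial. -/
theorem solvable_normal (hcyc : ∀ S T : Sylow 2 G, S ≠ T → IsCyclic ↥((S : Subgroup G) ⊓ (T : Subgroup G)))
    (hcore : Cfsg.pPrimeCore 2 G = ⊥) (hmany : ∃ S T : Sylow 2 G, S ≠ T) :
    ∀ (m : ℕ) (M : Subgroup G), M.Normal → Group.IsSolvable M → Nat.card M = m →
      IsPGroup 2 M ∧ IsCyclic M ∧ M ≤ Subgroup.center G := by
  intro m
  induction m using Nat.strong_induction_on with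
  | _ m ih =>
    intro M hM hsol hm
    haveI := hM
    suffices h2 : IsPGroup 2 M from ⟨h2, central_of_normal_two hcyc hcore hmany M h2⟩
    by_cases hbot : M = ⊥
    · subst hbot; exact IsPGroup.of_bot
    haveI : Nontrivial M := (Subgroup.nontrivial_iff_ne_bot M).2 hbot
    set M' := (commutator M).map M.subtype with hM'
    have hlt : Nat.card M' < m := by
      rw [hM', Subgroup.card_map_of_injective M.subtype_injective, ← hm]
      refine lt_of_le_of_ne (Nat.le_of_dvd Nat.card_pos (Subgroup.card_subgroup_dvd_card _)) fun he =>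
        (Group.IsSolvable.commutator_lt_top_of_nontrivial M).ne (Subgroup.eq_top_of_card_eq _ he)
    haveI : M'.Normal := ConjAct.normal_of_characteristic_of_normal
    have hs' : Group.IsSolvable M' :=
      solvable_of_solvable_injective (f := Subgroup.inclusion (Subgroup.map_subtype_le (commutator M)))
        (Subgroup.inclusion_injective _)
    obtain ⟨-, -, hcent⟩ := ih _ hlt M' inferInstance hs' rfl
    haveI : Group.IsNilpotent M := by
      haveI : Group.IsNilpotent (M ⧸ Subgroup.center M) := ?_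
      refine Subgroup.isNilpotent_of_ker_le_center (QuotientGroup.mk' (Subgroup.center M)) ?_
      · rw [QuotientGroup.ker_mk']
      · have hab : ∀ a b : M ⧸ Subgroup.center M, a * b = b * a := by
          intro a b
          obtain ⟨a, rfl⟩ := QuotientGroup.mk'_surjective _ a
          obtain ⟨b, rfl⟩ := QuotientGroup.mk'_surjective _ b
          rw [← commutatorElement_eq_one_iff_mul_comm, ← map_commutatorElement, QuotientGroup.mk'_apply,
            QuotientGroup.eq_one_iff]
          refine Subgroup.mem_center_iff.2 fun g => Subtype.ext ?_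
          exact Subgroup.mem_center_iff.1
            (hcent (Subgroup.mem_map_of_mem _ (Subgroup.commutator_mem_commutator (Subgroup.mem_top a) (Subgroup.mem_top b))))
            (g : G)
        letI : CommGroup (M ⧸ Subgroup.center M) := { (inferInstance : Group (M ⧸ Subgroup.center M)) with mul_comm := hab }
        infer_instance
    have hprimes : ∀ q : ℕ, q.Prime → q ∣ Nat.card M → q = 2 := fun q hq hqd => by
      by_contra hq2
      haveI : Fact q.Prime := ⟨hq⟩
      obtain ⟨P⟩ : Nonempty (Sylow q ↥M) := inferInstance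
      haveI : (P : Subgroup M).Characteristic := P.characteristic_of_normal inferInstance
      have hP : ((P : Subgroup M).map M.subtype) ≤ Cfsg.pPrimeCore 2 G := by
        refine Cfsg.Agent.Grp.le_pPrimeCore ConjAct.normal_of_characteristic_of_normal ?_
        rw [Subgroup.card_map_of_injective M.subtype_injective]
        obtain ⟨a, ha⟩ := IsPGroup.iff_card.1 P.2
        rw [ha]
        exact ((Nat.coprime_primes hq Nat.prime_two).2 hq2).pow_left a
      rw [hcore, le_bot_iff, Subgroup.map_eq_bot_iff_of_injective _ M.subtype_injective] at hP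
      have := P.dvd_card_of_dvd_card hqd
      rw [hP, Subgroup.card_bot] at this
      exact hq.one_lt.ne' (Nat.dvd_one.1 this)
    exact IsPGroup.of_card (n := (Nat.card M).primeFactorsList.length)
      (Nat.eq_prime_pow_of_unique_prime_dvd Nat.card_pos.ne' fun {d} hd hdd => hprimes d hd hdd)

/-- The statement, given the odd order theorem. -/
theorem main (hFT : ∀ (X : Type u) [Group X] [Finite X], Odd (Nat.card X) → Group.IsSolvable X)
    (hns : ¬ Group.IsSolvable G) (hC : ∀ S T : Sylow 2 G, S ≠ T → IsCyclic ↥((S : Subgroup G) ⊓ (T : Subgroup G)))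
    [(Cfsg.oddCore G).Normal] (N : Subgroup G) [N.Normal] (hN : Group.IsSolvable N) :
    IsCyclic ↥(N.map (QuotientGroup.mk' (Cfsg.oddCore G))) ∧
      IsPGroup 2 ↥(N.map (QuotientGroup.mk' (Cfsg.oddCore G))) ∧
      N.map (QuotientGroup.mk' (Cfsg.oddCore G)) ≤ Subgroup.center (G ⧸ Cfsg.oddCore G) := by
  haveI : Fact (Nat.Prime 2) := ⟨Nat.prime_two⟩
  set O := Cfsg.oddCore G with hOdef
  have hOodd : Odd (Nat.card O) := (Nat.coprime_two_right).1 Cfsg.Agent.Grp.pPrimeCore_coprime
  set Q := G ⧸ O
  have hmany : ∃ S T : Sylow 2 Q, S ≠ T := by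
    by_contra h
    push Not at h
    obtain ⟨S⟩ : Nonempty (Sylow 2 Q) := inferInstance
    haveI : Subsingleton (Sylow 2 Q) := ⟨h⟩
    haveI : (S : Subgroup Q).Normal := S.normal_of_subsingleton
    haveI : Group.IsNilpotent (S : Subgroup Q) := S.2.isNilpotent
    have hQS : Group.IsSolvable (Q ⧸ (S : Subgroup Q)) := hFT _ (Nat.not_even_iff_odd.1 fun he =>
      S.not_dvd_index (even_iff_two_dvd.1 he))
    have hQ : Group.IsSolvable Q :=
      solvable_of_ker_le_range (S : Subgroup Q).subtype (QuotientGroup.mk' (S : Subgroup Q)) (by simp)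
    have hOs : Group.IsSolvable O := hFT _ hOodd
    exact hns (solvable_of_ker_le_range O.subtype (QuotientGroup.mk' O) (by simp))
  have hcore : Cfsg.pPrimeCore 2 Q = ⊥ := Cfsg.Agent.Grp.pPrimeCore_quotient_eq_bot
  haveI hMn : (N.map (QuotientGroup.mk' O)).Normal :=
    Subgroup.Normal.map inferInstance _ (QuotientGroup.mk'_surjective O)
  have hMs : Group.IsSolvable ↥(N.map (QuotientGroup.mk' O)) :=
    solvable_of_surjective (f := (QuotientGroup.mk' O).subgroupMap N) ((QuotientGroup.mk' O).subgroupMap_surjective N)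
  obtain ⟨h2, hc, hle⟩ := solvable_normal (cyclic_quotient hC O hOodd) hcore hmany _ _ hMn hMs rfl
  exact ⟨hc, h2, hle⟩

end Cfsg.Agent.Invol.CycInter
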