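import Cfsg.Agent.Lib.Invol.CyclicSylowSetup
import Cfsg.Agent.Lib.Char.Constituent
import Cfsg.Agent.Lib.Char.Kernel

/-!
The principal block on a cyclic Sylow subgroup: multiplicity rows and their inner products.
-/

open scoped ComplexConjugate

set_option autoImplicit false
set_option linter.unusedSectionVars false
set_option linter.style.haveILetI false

namespace Cfsg.Agent.Invol.CyclicBlock

open Cfsg Cfsg.Agent.Block Cfsg.Agent.Block.PrinCol Cfsg.Agent.Char

universe u

variable {G : Type u} [Group G] [Fintype G] {p : ℕ} [Fact p.Prime] {q : ℕ} [NeZero q]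
  (D : Gen G p q) {M : Ideal AlgInt}

/-- The standard additive character, with values in `ℂ`. -/
noncomputable def psi (q : ℕ) [NeZero q] : AddChar (ZMod q) ℂ := ZMod.stdAddChar

theorem psi_sum (b : ZMod q) : ∑ x : ZMod q, psi q (x * b) = if b = 0 then (q : ℂ) else 0 := by
  rw [psi, AddChar.sum_mulShift b (ZMod.isPrimitive_stdAddChar q)]
  split_ifs <;> simp

theorem psi_sum' (b : ZMod q) : ∑ x : ZMod q, psi q (b * x) = if b = 0 then (q : ℂ) else 0 := by
  simp only [mul_comm b, psi_sum]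

theorem psi_conj (x : ZMod q) : conj (psi q x) = psi q (-x) := (AddChar.map_neg_eq_conj _ x).symm

/-- The row of a character: multiplicity of a character of the Sylow subgroup less that of the
trivial one. -/
noncomputable def Gen.nC (χ : IrrCharacter G) (i : ZMod q) : ℂ :=
  (q : ℂ)⁻¹ * ∑ j : ZMod q, (χ : G → ℂ) (D.pw j) * (psi q (-(i * j)) - 1)

theorem Gen.q_ne : (q : ℂ) ≠ 0 := Nat.cast_ne_zero.2 (NeZero.ne q)

theorem Gen.exists_rows (χ : IrrCharacter G) :
    ∃ (n : ZMod q → ℤ) (A : ℕ), (∀ i, D.nC χ i = n i) ∧ (∀ i, -(A : ℤ) ≤ n i) ∧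
      (charDegree (χ : G → ℂ) : ℂ) - ∑ i, (n i : ℂ) = (q : ℂ) * A := by
  let φ : Multiplicative (ZMod q) →* G :=
    { toFun := fun j => D.pw j.toAdd, map_one' := D.pw_zero, map_mul' := fun a b => D.pw_add _ _ }
  have hmult : ∀ i : ZMod q, ∃ m : ℕ,
      (q : ℂ)⁻¹ * ∑ j : ZMod q, (χ : G → ℂ) (D.pw j) * psi q (-(i * j)) = m := by
    intro i
    obtain ⟨m, hm⟩ := IsChar.classInner_nat (IsChar.comp φ (IsIrr.isCharacter χ.2))
      (IsIrr.isCharacter (isIrr_linear ((psi q).mulShift i).toMonoidHom.toHomUnits))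
    refine ⟨m, ?_⟩
    rw [← hm, classInner, show Nat.card (Multiplicative (ZMod q)) = q from Nat.card_zmod q]
    congr 1
    refine Fintype.sum_equiv Multiplicative.ofAdd _ _ fun j => ?_
    rw [← psi_conj]
    simp [φ, MonoidHom.toHomUnits, AddChar.mulShift_apply]
  choose m hm using hmult
  have hn : ∀ i, D.nC χ i = ((m i : ℤ) - m 0 : ℤ) := fun i => by
    push_cast
    rw [← hm i, ← hm 0, Gen.nC, ← mul_sub, ← Finset.sum_sub_distrib]
    congr 1
    refine Finset.sum_congr rfl fun j _ => ?_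
    simp [mul_sub]
  refine ⟨fun i => (m i : ℤ) - m 0, m 0, hn, fun i => by simp only; omega, ?_⟩
  simp only [← hn, Gen.nC, ← Finset.mul_sum]
  rw [← hm 0, Finset.sum_comm]
  have h : ∀ j : ZMod q, ∑ i : ZMod q, (χ : G → ℂ) (D.pw j) * (psi q (-(i * j)) - 1) =
      (if j = 0 then (q : ℂ) * (χ : G → ℂ) (D.pw j) else 0) - (q : ℂ) * (χ : G → ℂ) (D.pw j) := fun j => by
    rw [← Finset.mul_sum, Finset.sum_sub_distrib]
    simp only [← mul_neg, psi_sum, neg_eq_zero, Finset.sum_const, Finset.card_univ, ZMod.card,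
      nsmul_eq_mul, mul_one]
    split_ifs <;> ring
  rw [Finset.sum_congr rfl fun j _ => h j, Finset.sum_sub_distrib, Finset.sum_ite_eq' Finset.univ,
    if_pos (Finset.mem_univ _), D.pw_zero, charDeg_spec', ← Finset.mul_sum]
  have hq := Gen.q_ne (q := q)
  simp only [zero_mul, neg_zero, AddChar.map_zero_eq_one, mul_one]
  field_simp
  ring

/-- The row. -/
noncomputable def Gen.n (χ : IrrCharacter G) : ZMod q → ℤ := (D.exists_rows χ).choose

/-- The trivial multiplicity. -/
noncomputable def Gen.A (χ : IrrCharacter G) : ℕ := (D.exists_rows χ).choose_spec.choose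

theorem Gen.nC_eq (χ : IrrCharacter G) (i : ZMod q) : D.nC χ i = D.n χ i :=
  (D.exists_rows χ).choose_spec.choose_spec.1 i

theorem Gen.neg_A_le (χ : IrrCharacter G) (i : ZMod q) : -(D.A χ : ℤ) ≤ D.n χ i :=
  (D.exists_rows χ).choose_spec.choose_spec.2.1 i

theorem Gen.deg_eq (χ : IrrCharacter G) :
    (charDegree (χ : G → ℂ) : ℤ) = ∑ i, D.n χ i + (q : ℤ) * D.A χ := by
  have h : (charDegree (χ : G → ℂ) : ℂ) - ∑ i, (D.n χ i : ℂ) = (q : ℂ) * D.A χ :=
    (D.exists_rows χ).choose_spec.choose_spec.2.2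
  rw [sub_eq_iff_eq_add'] at h
  exact_mod_cast h

theorem Gen.n_zero (χ : IrrCharacter G) : D.n χ 0 = 0 := by
  have h : (D.n χ 0 : ℂ) = 0 := by rw [← D.nC_eq, Gen.nC]; simp
  exact_mod_cast h

theorem Gen.value_eq (χ : IrrCharacter G) {s : ZMod q} (hs : s ≠ 0) :
    (χ : G → ℂ) (D.pw s) = ∑ i, (D.n χ i : ℂ) * psi q (i * s) := by
  simp only [← D.nC_eq, Gen.nC, Finset.mul_sum, Finset.sum_mul]
  rw [Finset.sum_comm]
  have h : ∀ j : ZMod q, ∑ i : ZMod q,
      (q : ℂ)⁻¹ * ((χ : G → ℂ) (D.pw j) * (psi q (-(i * j)) - 1)) * psi q (i * s) =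
      if j = s then (χ : G → ℂ) (D.pw j) else 0 := fun j => by
    have e : ∀ i : ZMod q, (q : ℂ)⁻¹ * ((χ : G → ℂ) (D.pw j) * (psi q (-(i * j)) - 1)) * psi q (i * s) =
        (q : ℂ)⁻¹ * (χ : G → ℂ) (D.pw j) * (psi q (i * (s - j)) - psi q (i * s)) := fun i => by
      rw [show i * (s - j) = -(i * j) + i * s by ring, AddChar.map_add_eq_mul]; ring
    rw [Finset.sum_congr rfl fun i _ => e i, ← Finset.mul_sum, Finset.sum_sub_distrib, psi_sum,
      psi_sum, if_neg hs, sub_zero]
    simp only [sub_eq_zero, eq_comm (a := s)]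
    split_ifs
    · field_simp [Gen.q_ne (q := q)]
    · rw [mul_zero]
  rw [Finset.sum_congr rfl fun j _ => h j]
  simp

theorem Gen.sum_n (χ : IrrCharacter G) :
    (∑ i, (D.n χ i : ℂ)) = -∑ j ∈ Finset.univ.erase (0 : ZMod q), (χ : G → ℂ) (D.pw j) := by
  simp only [← D.nC_eq, Gen.nC, ← Finset.mul_sum]
  rw [Finset.sum_comm]
  have h : ∀ j : ZMod q, ∑ i : ZMod q, (χ : G → ℂ) (D.pw j) * (psi q (-(i * j)) - 1) =
      if j = 0 then 0 else -((q : ℂ) * (χ : G → ℂ) (D.pw j)) := fun j => by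
    rw [← Finset.mul_sum, Finset.sum_sub_distrib]
    simp only [← mul_neg, psi_sum, neg_eq_zero, Finset.sum_const, Finset.card_univ, ZMod.card,
      nsmul_eq_mul, mul_one]
    split_ifs <;> ring
  rw [Finset.sum_congr rfl fun j _ => h j, ← Finset.add_sum_erase _ _ (Finset.mem_univ (0 : ZMod q)),
    if_pos rfl, zero_add, Finset.sum_congr rfl fun j hj => if_neg (Finset.ne_of_mem_erase hj),
    Finset.sum_neg_distrib, ← Finset.mul_sum]
  field_simp [Gen.q_ne (q := q)]

theorem Gen.n_trivial {i : ZMod q} (hi : i ≠ 0) : D.n (trivialIrr G) i = -1 := by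
  have h : (D.n (trivialIrr G) i : ℂ) = ((-1 : ℤ) : ℂ) := by
    rw [← D.nC_eq, Gen.nC]
    simp only [trivialIrr, one_mul, Finset.sum_sub_distrib, ← mul_neg, psi_sum', if_neg hi,
      Finset.sum_const, Finset.card_univ, ZMod.card, nsmul_eq_mul, mul_one]
    have hs : ∑ x : ZMod q, psi q (i * -x) = 0 := by
      rw [← Equiv.sum_comp (Equiv.neg (ZMod q))]
      simp [psi_sum', hi]
    rw [hs]
    push_cast
    field_simp [Gen.q_ne (q := q)]
    ring
  exact_mod_cast h

/-- The principal block, as a finset. -/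
noncomputable def pB (M : Ideal AlgInt) (G : Type u) [Group G] [Fintype G] : Finset (IrrCharacter G) :=
  @Finset.filter _ (fun χ => χ ∈ principalBlock M G) (Classical.decPred _) Finset.univ

theorem mem_pB {χ : IrrCharacter G} : χ ∈ pB M G ↔ χ ∈ principalBlock M G := by simp [pB]

theorem sum_pB {A : Type*} [AddCommMonoid A] (f : IrrCharacter G → A) :
    ∑ᶠ χ ∈ principalBlock M G, f χ = ∑ χ ∈ pB M G, f χ := by
  classical
  rw [finsum_mem_block]
  exact Finset.sum_congr (by ext χ; simp [pB]) fun _ _ => rfl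

/-- Two columns of the principal block. -/
theorem Gen.column (hM : IsPModular p M) {j l : ZMod q} (hj : j ≠ 0) (hl : l ≠ 0)
    [Decidable (IsConj (D.pw j) (D.pw l))] :
    ∑ χ ∈ pB M G, (χ : G → ℂ) (D.pw j) * conj ((χ : G → ℂ) (D.pw l)) =
      if IsConj (D.pw j) (D.pw l) then (q : ℂ) else 0 := by
  classical
  rw [← sum_pB]
  split_ifs with h
  · obtain ⟨K, Q, hKn, hKQ, hQ⟩ := D.exists_complement hj
    obtain ⟨a, ha⟩ := D.exists_pPow
    rw [← RegProd.column_eq (q := q) hM (D.pow_q j) hKn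
      (by rw [← hKQ.index_eq_card]; exact Q.not_dvd_index)
      (by rw [hKQ.symm.index_eq_card, hQ]; exact ha) ha]
    refine finsum_congr fun χ => finsum_congr fun _ => ?_
    rw [IsClass.eq_of_isConj (irr_classFun χ) h]
  · rw [← section_orth hM (g := D.pw j) (h := D.pw l) (x := D.pw j) (z := D.pw l)
      ⟨1, mul_one _, Commute.one_right _, D.pow_q j, by simp [(Fact.out : p.Prime).one_lt.ne']⟩
      ⟨1, mul_one _, Commute.one_right _, D.pow_q l, by simp [(Fact.out : p.Prime).one_lt.ne']⟩ h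
      (isPBlock_principalBlock (G := G))]
    refine finsum_congr fun χ => finsum_congr fun _ => ?_
    rw [irr_apply_inv]

/-- The degree column is orthogonal to the others. -/
theorem Gen.column_one (hM : IsPModular p M) {j : ZMod q} (hj : j ≠ 0) :
    ∑ χ ∈ pB M G, (charDegree (χ : G → ℂ) : ℂ) * (χ : G → ℂ) (D.pw j) = 0 := by
  have hord : p ∣ orderOf (D.pw (-j)) := by
    obtain ⟨k, hk⟩ := D.pow_q (-j)
    rw [hk]
    refine dvd_pow_self p fun h0 => neg_ne_zero.2 hj (D.pw_eq_one_iff.1 ?_)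
    rw [← orderOf_eq_one_iff, hk, h0, pow_zero]
  have h := weak_orth hM (isPBlock_principalBlock (G := G)) (x := (1 : G)) (y := D.pw (-j))
    (by simp [(Fact.out : p.Prime).one_lt.ne']) hord
  rw [sum_pB] at h
  rw [← h]
  refine Finset.sum_congr rfl fun χ _ => ?_
  rw [charDeg_spec', ← irr_apply_inv, D.pw_neg, inv_inv]

/-- The inner product of two rows. -/
theorem Gen.gram (hM : IsPModular p M) {i l : ZMod q} (hi : i ≠ 0) (hl : l ≠ 0) :
    ∑ χ ∈ pB M G, D.n χ i * D.n χ l =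
      ((D.E.filter (fun t => l * t = i)).card : ℤ) + D.E.card := by
  classical
  have hq := Gen.q_ne (q := q)
  have hcol : ∀ j k : ZMod q, (psi q (-(i * j)) - 1) * (psi q (l * k) - 1) *
      ∑ χ ∈ pB M G, (χ : G → ℂ) (D.pw j) * conj ((χ : G → ℂ) (D.pw k)) =
      (psi q (-(i * j)) - 1) * (psi q (l * k) - 1) * ∑ t ∈ D.E, if k = t * j then (q : ℂ) else 0 := by
    intro j k
    by_cases hj : j = 0
    · simp [hj]
    by_cases hk : k = 0
    · simp [hk]
    congr 1
    rw [D.column hM hj hk]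
    split_ifs with h
    · obtain ⟨t, ht, rfl⟩ := D.conj_iff.1 h
      rw [Finset.sum_eq_single t]
      · rw [if_pos rfl]
      · intro s hs hst
        rw [if_neg fun he => hst (D.E_injOn hj hs ht he.symm)]
      · exact fun h' => absurd ht h'
    · symm
      refine Finset.sum_eq_zero fun t ht => if_neg fun he => h ?_
      exact D.conj_iff.2 ⟨t, ht, he⟩
  have key : (∑ χ ∈ pB M G, (D.n χ i : ℂ) * (D.n χ l : ℂ)) =
      ((D.E.filter (fun t => l * t = i)).card : ℂ) + D.E.card := by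
    have h1 : ∀ χ : IrrCharacter G, (D.n χ l : ℂ) =
        (q : ℂ)⁻¹ * ∑ k : ZMod q, conj ((χ : G → ℂ) (D.pw k)) * (psi q (l * k) - 1) := fun χ => by
      rw [show (D.n χ l : ℂ) = conj (D.n χ l : ℂ) from (map_intCast _ _).symm, ← D.nC_eq, Gen.nC]
      simp [map_sum, psi_conj]
    calc (∑ χ ∈ pB M G, (D.n χ i : ℂ) * (D.n χ l : ℂ))
        = ∑ j : ZMod q, ∑ k : ZMod q, (q : ℂ)⁻¹ * (q : ℂ)⁻¹ *
            ((psi q (-(i * j)) - 1) * (psi q (l * k) - 1) *
              ∑ χ ∈ pB M G, (χ : G → ℂ) (D.pw j) * conj ((χ : G → ℂ) (D.pw k))) := by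
          simp only [h1]
          simp only [← D.nC_eq, Gen.nC, Finset.mul_sum, Finset.sum_mul]
          rw [Finset.sum_comm]
          conv_lhs => enter [2, k]; rw [Finset.sum_comm]
          rw [Finset.sum_comm]
          exact Finset.sum_congr rfl fun j _ => Finset.sum_congr rfl fun k _ =>
            Finset.sum_congr rfl fun χ _ => by ring
      _ = ∑ t ∈ D.E, ∑ j : ZMod q, (q : ℂ)⁻¹ *
            (psi q (j * (l * t - i)) - psi q (j * (-i)) - psi q (j * (l * t)) + 1) := by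
          rw [Finset.sum_comm (s := D.E)]
          refine Finset.sum_congr rfl fun j _ => ?_
          simp only [hcol]
          simp only [Finset.mul_sum]
          rw [Finset.sum_comm]
          refine Finset.sum_congr rfl fun t _ => ?_
          rw [Finset.sum_eq_single (t * j) (fun k _ hk => by rw [if_neg hk]; ring)
            (fun h => absurd (Finset.mem_univ _) h), if_pos rfl,
            show j * (l * t - i) = -(i * j) + l * (t * j) by ring, AddChar.map_add_eq_mul,
            show j * (-i) = -(i * j) by ring, show j * (l * t) = l * (t * j) by ring]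
          field_simp
          ring
      _ = ∑ t ∈ D.E, ((if l * t = i then (1 : ℂ) else 0) + 1) := by
          refine Finset.sum_congr rfl fun t ht => ?_
          rw [← Finset.mul_sum, Finset.sum_add_distrib, Finset.sum_sub_distrib,
            Finset.sum_sub_distrib, psi_sum, psi_sum, psi_sum,
            if_neg (neg_ne_zero.2 hi), if_neg fun h => hl ((D.isUnit_E ht).mul_left_eq_zero.1 h)]
          simp only [Finset.sum_const, Finset.card_univ, ZMod.card, nsmul_eq_mul, mul_one, sub_eq_zero]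
          split_ifs <;> field_simp <;> ring
      _ = _ := by
          rw [Finset.sum_add_distrib, Finset.sum_boole]
          simp
  exact_mod_cast key

theorem Gen.orth (hM : IsPModular p M) (i : ZMod q) :
    ∑ χ ∈ pB M G, (charDegree (χ : G → ℂ) : ℤ) * D.n χ i = 0 := by
  have key : ∑ χ ∈ pB M G, (charDegree (χ : G → ℂ) : ℂ) * (D.n χ i : ℂ) = 0 := by
    simp only [← D.nC_eq, Gen.nC, Finset.mul_sum]
    rw [Finset.sum_comm]
    refine Finset.sum_eq_zero fun j _ => ?_
    by_cases hj : j = 0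
    · simp [hj]
    have e : ∀ χ : IrrCharacter G, (charDegree (χ : G → ℂ) : ℂ) *
        ((q : ℂ)⁻¹ * ((χ : G → ℂ) (D.pw j) * (psi q (-(i * j)) - 1))) =
        (q : ℂ)⁻¹ * (psi q (-(i * j)) - 1) * ((charDegree (χ : G → ℂ) : ℂ) * (χ : G → ℂ) (D.pw j)) :=
      fun χ => by ring
    rw [Finset.sum_congr rfl fun χ _ => e χ, ← Finset.mul_sum, D.column_one hM hj, mul_zero]
  exact_mod_cast key

/-- Rows are constant on orbits of the automizer. -/
theorem Gen.n_orbit (hM : IsPModular p M) {χ : IrrCharacter G} (hχ : χ ∈ pB M G) {t i : ZMod q}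
    (ht : t ∈ D.E) : D.n χ (t * i) = D.n χ i := by
  classical
  by_cases hi : i = 0
  · simp [hi]
  have hti : t * i ≠ 0 := fun h => hi ((D.isUnit_E ht).mul_right_eq_zero.1 h)
  obtain ⟨g, hg⟩ := isConj_iff.1 (D.conj_iff.2 ⟨t, ht, rfl⟩ : IsConj (D.pw i) (D.pw (t * i)))
  have hone : ∀ {a b : ZMod q}, a ≠ 0 → b ≠ 0 → (∃ s ∈ D.E, b * s = a) →
      (D.E.filter (fun s => b * s = a)).card = 1 := by
    intro a b _ hb ⟨s, hs, hsa⟩
    refine Finset.card_eq_one.2 ⟨s, ?_⟩
    ext r
    simp only [Finset.mem_filter, Finset.mem_singleton]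
    refine ⟨fun ⟨hr, hra⟩ => D.E_injOn hb hr hs ?_, fun h => h ▸ ⟨hs, hsa⟩⟩
    show r * b = s * b
    rw [mul_comm r, mul_comm s, hra, hsa]
  obtain ⟨r, hr, hrr⟩ := D.conj_iff.1 (D.conj_iff.2 ⟨t, ht, rfl⟩ : IsConj (D.pw i) (D.pw (t * i))).symm
  have h1 : ∑ φ ∈ pB M G, (D.n φ (t * i) - D.n φ i) ^ 2 = 0 := by
    have e : ∀ φ : IrrCharacter G, (D.n φ (t * i) - D.n φ i) ^ 2 = D.n φ (t * i) * D.n φ (t * i) -
        (D.n φ (t * i) * D.n φ i + D.n φ (t * i) * D.n φ i) + D.n φ i * D.n φ i := fun φ => by ring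
    rw [Finset.sum_congr rfl fun φ _ => e φ]
    simp only [Finset.sum_add_distrib, Finset.sum_sub_distrib]
    rw [D.gram hM hti hti, D.gram hM hti hi, D.gram hM hi hi,
      hone hti hti ⟨1, D.one_mem_E, mul_one _⟩, hone hi hi ⟨1, D.one_mem_E, mul_one _⟩,
      hone hti hi ⟨t, ht, mul_comm _ _⟩]
    ring
  exact sub_eq_zero.1 (sq_eq_zero_iff.1 ((Finset.sum_eq_zero_iff_of_nonneg fun φ _ => sq_nonneg _).1 h1 χ hχ))

end Cfsg.Agent.Invol.CyclicBlock
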