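import Cfsg.Agent.Lib.Invol.RegularProducts
import Cfsg.Prelude.Def_Transfer
import Mathlib.NumberTheory.Basic
import Mathlib.Analysis.SpecialFunctions.Complex.CircleAddChar

/-!
A cyclic Sylow subgroup as `ZMod q`: fusion, centralizers and sums over sections.
-/

open scoped ComplexConjugate

set_option autoImplicit false
set_option linter.unusedSectionVars false
set_option linter.style.haveILetI false

namespace Cfsg.Agent.Invol.CyclicBlock

open Cfsg Cfsg.Agent.Block Cfsg.Agent.Block.PrinCol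

universe u

variable {G : Type u} [Group G] [Finite G] {p : ℕ} [Fact p.Prime]

/-- A generator of a Sylow `p`-subgroup of order `q`. -/
structure Gen (G : Type u) [Group G] (p q : ℕ) where
  g₀ : G
  P : Sylow p G
  zp : Subgroup.zpowers g₀ = (P : Subgroup G)
  ord : orderOf g₀ = q

variable {q : ℕ} [NeZero q] (D : Gen G p q)

/-- The powers of the generator. -/
def Gen.pw (j : ZMod q) : G := D.g₀ ^ j.val

theorem Gen.pw_eq_pow {j : ZMod q} (n : ℕ) (h : (n : ZMod q) = j) : D.pw j = D.g₀ ^ n := by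
  rw [Gen.pw, pow_eq_pow_iff_modEq, D.ord, ← ZMod.natCast_eq_natCast_iff, ZMod.natCast_val,
    ZMod.cast_id, h]

theorem Gen.pw_zero : D.pw 0 = 1 := by rw [D.pw_eq_pow 0 (by simp), pow_zero]

theorem Gen.pw_one : D.pw 1 = D.g₀ := by rw [D.pw_eq_pow 1 (by simp), pow_one]

theorem Gen.pw_add (i j : ZMod q) : D.pw (i + j) = D.pw i * D.pw j := by
  rw [D.pw_eq_pow (i.val + j.val) (by simp), pow_add]; rfl

theorem Gen.pw_mul (t i : ZMod q) : D.pw (t * i) = (D.pw t) ^ i.val := by
  rw [D.pw_eq_pow (t.val * i.val) (by simp), pow_mul]; rfl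

theorem Gen.pw_injective : Function.Injective D.pw := by
  intro i j h
  rw [Gen.pw, Gen.pw, pow_eq_pow_iff_modEq, D.ord, ← ZMod.natCast_eq_natCast_iff] at h
  simpa using h

theorem Gen.pw_neg (i : ZMod q) : D.pw (-i) = (D.pw i)⁻¹ :=
  eq_inv_of_mul_eq_one_left (by rw [← D.pw_add, neg_add_cancel, D.pw_zero])

theorem Gen.pw_eq_one_iff {i : ZMod q} : D.pw i = 1 ↔ i = 0 := by
  rw [← D.pw_zero]; exact D.pw_injective.eq_iff

theorem Gen.pw_mem (i : ZMod q) : D.pw i ∈ (D.P : Subgroup G) :=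
  pow_mem (D.zp ▸ Subgroup.mem_zpowers D.g₀) _

theorem Gen.exists_pw {u : G} (hu : u ∈ (D.P : Subgroup G)) : ∃ i, D.pw i = u := by
  rw [← D.zp, Subgroup.mem_zpowers_iff] at hu
  obtain ⟨n, rfl⟩ := hu
  refine ⟨((n : ℤ) : ZMod q), ?_⟩
  rw [Gen.pw, ← zpow_natCast, zpow_eq_zpow_iff_modEq, D.ord, ← ZMod.intCast_eq_intCast_iff]
  simp

theorem Gen.card_P : Nat.card (D.P : Subgroup G) = q := by
  rw [← D.zp, Nat.card_zpowers, D.ord]

theorem Gen.exists_pPow (D : Gen G p q) : ∃ a : ℕ, q = p ^ a := by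
  rw [← D.card_P]; exact IsPGroup.iff_card.1 D.P.2

theorem Gen.pow_q : ∀ i : ZMod q, ∃ k : ℕ, orderOf (D.pw i) = p ^ k := fun i =>
  (IsPGroup.iff_orderOf.1 D.P.2 ⟨_, D.pw_mem i⟩).imp fun k hk => by rwa [Subgroup.orderOf_mk] at hk

theorem Gen.comm_P : IsMulCommutative (D.P : Subgroup G) := by
  refine ⟨⟨fun a b => Subtype.ext ?_⟩⟩
  obtain ⟨i, hi⟩ := D.exists_pw a.2
  obtain ⟨j, hj⟩ := D.exists_pw b.2
  show (a : G) * b = b * a
  rw [← hi, ← hj, ← D.pw_add, ← D.pw_add, add_comm]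

/-- The automizer, as a set of multipliers. -/
noncomputable def Gen.E : Finset (ZMod q) :=
  @Finset.filter (ZMod q) (fun t => IsConj D.g₀ (D.pw t)) (Classical.decPred _) Finset.univ

theorem Gen.mem_E {t : ZMod q} : t ∈ D.E ↔ IsConj D.g₀ (D.pw t) := by simp [Gen.E]

theorem Gen.one_mem_E : (1 : ZMod q) ∈ D.E := D.mem_E.2 (by rw [D.pw_one])

/-- Fusion in the Sylow subgroup is multiplication by the automizer. -/
theorem Gen.conj_iff {i l : ZMod q} : IsConj (D.pw i) (D.pw l) ↔ ∃ t ∈ D.E, l = t * i := by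
  haveI := D.comm_P
  constructor
  · intro h
    obtain ⟨g, hg⟩ := isConj_iff.1 h
    obtain ⟨n, hn, hn'⟩ := D.P.conj_eq_normalizer_conj_of_mem (D.pw i) g⁻¹ (D.pw_mem i)
      (by rw [inv_inv, hg]; exact D.pw_mem l)
    rw [inv_inv, hg] at hn'
    obtain ⟨t, ht⟩ := D.exists_pw (u := n⁻¹ * D.g₀ * n)
      (by
        have := (Subgroup.mem_normalizer_iff.1 (inv_mem hn) D.g₀).1 (D.pw_one ▸ D.pw_mem 1)
        simpa using this)
    refine ⟨t, D.mem_E.2 (isConj_iff.2 ⟨n⁻¹, by rw [inv_inv, ht]⟩), D.pw_injective ?_⟩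
    rw [D.pw_mul, ht, hn', Gen.pw]
    simpa using map_pow (MulAut.conj n⁻¹) D.g₀ i.val
  · rintro ⟨t, ht, rfl⟩
    obtain ⟨g, hg⟩ := isConj_iff.1 (D.mem_E.1 ht)
    refine isConj_iff.2 ⟨g, ?_⟩
    rw [D.pw_mul, ← hg, Gen.pw]
    simpa using map_pow (MulAut.conj g) D.g₀ i.val

theorem Gen.mul_mem_E {s t : ZMod q} (hs : s ∈ D.E) (ht : t ∈ D.E) : s * t ∈ D.E := by
  have h : IsConj (D.pw t) (D.pw (s * t)) := D.conj_iff.2 ⟨s, hs, rfl⟩
  exact D.mem_E.2 ((D.mem_E.1 ht).trans h)

/-- An element of the normalizer fixing a nontrivial element of the Sylow subgroup centralizes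
the Sylow subgroup. -/
theorem Gen.free {t i : ZMod q} (ht : t ∈ D.E) (hi : i ≠ 0) (hti : t * i = i) : t = 1 := by
  have hp : p.Prime := Fact.out
  haveI := D.comm_P
  obtain ⟨a, ha⟩ := D.exists_pPow
  obtain ⟨g, hg⟩ := isConj_iff.1 (D.mem_E.1 ht)
  obtain ⟨n, hn, hn'⟩ := D.P.conj_eq_normalizer_conj_of_mem D.g₀ g⁻¹ (D.pw_one ▸ D.pw_mem 1)
    (by rw [inv_inv, hg]; exact D.pw_mem t)
  rw [inv_inv, hg] at hn'
  have hconj : n⁻¹ * D.g₀ * n⁻¹⁻¹ = D.pw t := by rw [inv_inv, hn']
  obtain ⟨u, v, huv, -, hu, hv, huz, -⟩ := exists_pPart_zpowers (p := p) n⁻¹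
  -- the `p`-part of `n` lies in `P`, so acts trivially
  have huN : u ∈ Subgroup.normalizer ((D.P : Subgroup G) : Set G) :=
    Subgroup.zpowers_le.2 (inv_mem hn) huz
  have huP : u ∈ (D.P : Subgroup G) := by
    obtain ⟨k, hk⟩ := hu
    have hU : IsPGroup p (Subgroup.zpowers u) :=
      IsPGroup.of_card (n := k) (by rw [Nat.card_zpowers, hk])
    have hsup := hU.to_sup_of_normal_right' D.P.2 (Subgroup.zpowers_le.2 huN)
    have := D.P.3 hsup le_sup_right
    exact this ▸ (le_sup_left : Subgroup.zpowers u ≤ _) (Subgroup.mem_zpowers u)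
  have hvN : v ∈ Subgroup.normalizer ((D.P : Subgroup G) : Set G) := by
    have : v = u⁻¹ * n⁻¹ := by rw [← huv]; group
    rw [this]
    exact mul_mem (inv_mem huN) (inv_mem hn)
  have hvg : v * D.g₀ * v⁻¹ = D.pw t := by
    obtain ⟨w, hw⟩ := D.exists_pw (u := v * D.g₀ * v⁻¹)
      ((Subgroup.mem_normalizer_iff.1 hvN D.g₀).1 (D.pw_one ▸ D.pw_mem 1))
    obtain ⟨s, hs⟩ := D.exists_pw huP
    rw [← hconj, ← huv, ← hw]
    have e : u * v * D.g₀ * (u * v)⁻¹ = u * (v * D.g₀ * v⁻¹) * u⁻¹ := by group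
    rw [e, ← hw, ← hs, ← D.pw_add, ← D.pw_neg, ← D.pw_add]
    congr 1
    abel
  have hiter : ∀ k : ℕ, v ^ k * D.g₀ * (v ^ k)⁻¹ = D.pw (t ^ k) := by
    intro k
    induction k with
    | zero => simp [D.pw_one]
    | succ k ih =>
      rw [pow_succ v, show v ^ k * v * D.g₀ * (v ^ k * v)⁻¹ = v ^ k * (v * D.g₀ * v⁻¹) * (v ^ k)⁻¹ by group,
        hvg, pow_succ t, D.pw_mul (t ^ k) t, ← ih]
      simpa [Gen.pw] using map_pow (MulAut.conj (v ^ k)) D.g₀ t.val
  have hord : t ^ orderOf v = 1 := by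
    have := hiter (orderOf v)
    rw [pow_orderOf_eq_one] at this
    simp only [one_mul, inv_one, mul_one] at this
    rw [← D.pw_one] at this
    exact (D.pw_injective this).symm
  -- `t ≡ 1` modulo `p`
  have hp1 : (p : ZMod q) ∣ t - 1 := by
    by_contra hnd
    have hu' : IsUnit (t - 1) := by
      have hval : ¬ p ∣ (t - 1).val := by
        rintro ⟨c, hc⟩
        refine hnd ⟨(c : ZMod q), ?_⟩
        rw [← ZMod.natCast_zmod_val (t - 1), hc, Nat.cast_mul]
      rw [← ZMod.natCast_zmod_val (t - 1), ZMod.isUnit_iff_coprime]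
      exact (show (t - 1).val.Coprime (p ^ a) from Nat.Coprime.pow_right _ (hp.coprime_iff_not_dvd.2 hval).symm).coprime_dvd_right (dvd_of_eq ha)
    apply hi
    have : (t - 1) * i = 0 := by rw [sub_mul, one_mul, hti, sub_self]
    exact (hu'.mul_right_eq_zero).1 this
  have hpow : t ^ p ^ a = 1 := by
    have h := dvd_sub_pow_of_dvd_sub hp1 a
    rw [one_pow] at h
    obtain ⟨c, hc⟩ := h
    have h0 : (p : ZMod q) ^ (a + 1) = 0 := by
      rw [pow_succ, ← Nat.cast_pow, ← ha, ZMod.natCast_self, zero_mul]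
    rwa [h0, zero_mul, sub_eq_zero] at hc
  have hg1 := pow_gcd_eq_one.2 ⟨hord, hpow⟩
  rwa [Nat.Coprime.pow_right a (hp.coprime_iff_not_dvd.2 hv).symm, pow_one] at hg1

theorem Gen.isUnit_E {t : ZMod q} (ht : t ∈ D.E) : IsUnit t := by
  obtain ⟨a, ha⟩ := D.exists_pPow
  obtain ⟨g, hg⟩ := isConj_iff.1 (D.mem_E.1 ht)
  rw [← ZMod.natCast_zmod_val t, ZMod.isUnit_iff_coprime]
  have h : orderOf (D.pw t) = q := by rw [← hg, ← MulAut.conj_apply, MulEquiv.orderOf_eq, D.ord]
  rw [Gen.pw, orderOf_pow, D.ord] at h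
  rw [Nat.coprime_comm]
  exact Nat.dvd_one.1 ((Nat.div_eq_self.1 h).resolve_left (NeZero.ne q) ▸ dvd_rfl)

theorem Gen.E_injOn {i : ZMod q} (hi : i ≠ 0) : Set.InjOn (fun t => t * i) (D.E : Set (ZMod q)) := by
  intro s hs t ht h
  simp only at h
  obtain ⟨r, hr, hrs⟩ := D.conj_iff.1 ((D.mem_E.1 hs).symm.trans (D.mem_E.1 ht))
  have h1 : r * (s * i) = s * i := by rw [← mul_assoc, ← hrs, h]
  have hne : s * i ≠ 0 := fun h0 => hi ((D.isUnit_E hs).mul_right_eq_zero.1 h0)
  rw [hrs, D.free hr hne h1, one_mul]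

/-- The number of elements of the Sylow subgroup conjugate to a given one. -/
theorem Gen.card_class {i : ZMod q} (hi : i ≠ 0) [DecidablePred fun l => IsConj (D.pw i) (D.pw l)] :
    (Finset.univ.filter (fun l => IsConj (D.pw i) (D.pw l))).card = D.E.card := by
  refine (Finset.card_bij (fun t _ => t * i) (fun t ht => ?_) (fun s hs t ht h => D.E_injOn hi hs ht h)
    fun l hl => ?_).symm
  · simp only [Finset.mem_filter, Finset.mem_univ, true_and]
    exact D.conj_iff.2 ⟨t, ht, rfl⟩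
  · simp only [Finset.mem_filter, Finset.mem_univ, true_and] at hl
    obtain ⟨t, ht, rfl⟩ := D.conj_iff.1 hl
    exact ⟨t, ht, rfl⟩

/-- Every `p`-element is conjugate into the powers of the generator. -/
theorem Gen.exists_conj_pw {u : G} (hu : ∃ k : ℕ, orderOf u = p ^ k) :
    ∃ i, IsConj (D.pw i) u := by
  obtain ⟨k, hk⟩ := hu
  obtain ⟨Q, hQ⟩ := (IsPGroup.of_card (n := k) (by rw [Nat.card_zpowers, hk]) :
    IsPGroup p (Subgroup.zpowers u)).exists_le_sylow
  obtain ⟨t, ht⟩ := MulAction.exists_smul_eq G D.P Q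
  have huQ : u ∈ (Q : Subgroup G) := hQ (Subgroup.mem_zpowers u)
  rw [← ht, Sylow.smul_def, Sylow.pointwise_smul_def] at huQ
  obtain ⟨w, hw, rfl⟩ := (Subgroup.mem_map (f := (MulAut.conj t).toMonoidHom)).1 huQ
  obtain ⟨i, rfl⟩ := D.exists_pw hw
  exact ⟨i, isConj_iff.2 ⟨t, rfl⟩⟩

/-- The centralizer of a nontrivial element of the Sylow subgroup has a normal `p`-complement. -/
theorem Gen.exists_complement {i : ZMod q} (hi : i ≠ 0) :
    ∃ (K : Subgroup (Subgroup.centralizer ({D.pw i} : Set G))) (Q : Sylow p (Subgroup.centralizer ({D.pw i} : Set G))),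
      K.Normal ∧ K.IsComplement' (Q : Subgroup (Subgroup.centralizer ({D.pw i} : Set G))) ∧
      Nat.card (Q : Subgroup (Subgroup.centralizer ({D.pw i} : Set G))) = q := by
  haveI := D.comm_P
  set C := Subgroup.centralizer ({D.pw i} : Set G) with hC
  have hPC : (D.P : Subgroup G) ≤ C := fun w hw => by
    obtain ⟨j, rfl⟩ := D.exists_pw hw
    rw [hC, Subgroup.mem_centralizer_singleton_iff, ← D.pw_add, ← D.pw_add, add_comm]
  let Q : Sylow p C := D.P.subtype hPC
  have hQ : (Q : Subgroup C) = (D.P : Subgroup G).subgroupOf C := D.P.coe_subtype (h := hPC)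
  have hNC : Subgroup.normalizer ((Q : Subgroup C) : Set C) ≤
      Subgroup.centralizer ((Q : Subgroup C) : Set C) := by
    intro c hc
    have hmem : ∀ w : C, w ∈ (Q : Subgroup C) ↔ (w : G) ∈ (D.P : Subgroup G) := fun w => by
      rw [hQ, Subgroup.mem_subgroupOf]
    have h1 := (hmem _).1 ((Subgroup.mem_normalizer_iff.1 hc ⟨_, hPC (D.pw_mem 1)⟩).1
      ((hmem _).2 (D.pw_mem 1)))
    simp only [Subgroup.coe_mul, Subgroup.coe_inv, D.pw_one] at h1
    obtain ⟨t, ht⟩ := D.exists_pw h1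
    have hti : t * i = i := D.pw_injective (by
      rw [D.pw_mul, ht, conj_pow, show D.g₀ ^ i.val = D.pw i from rfl,
        Subgroup.mem_centralizer_singleton_iff.1 c.2]
      group)
    have ht1 : t = 1 := D.free (D.mem_E.2 (isConj_iff.2 ⟨c, ht.symm⟩)) hi hti
    rw [ht1, D.pw_one, eq_comm, mul_inv_eq_iff_eq_mul] at ht
    refine Subgroup.mem_centralizer_iff.2 fun w hw => Subtype.ext ?_
    obtain ⟨j, hj⟩ := D.exists_pw ((hmem w).1 hw)
    show (w : G) * c = c * w
    rw [← hj]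
    exact ((show Commute (c : G) D.g₀ from ht).pow_right j.val).eq.symm
  refine ⟨(MonoidHom.transferSylow Q hNC).ker, Q, MonoidHom.normal_ker _,
    MonoidHom.ker_transferSylow_isComplement' Q hNC, ?_⟩
  rw [hQ, Nat.card_congr (Subgroup.subgroupOfEquivOfLe hPC).toEquiv, D.card_P]

/-- The elements whose `p`-part is conjugate to `x`. -/
noncomputable def sec [Fintype G] (p : ℕ) (x : G) : Finset G :=
  @Finset.filter G (fun g => ∃ u, IsPPart p g u ∧ IsConj x u) (Classical.decPred _) Finset.univ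

/-- A sum over one section. -/
theorem sum_sec [Fintype G] {x : G} (hx : ∃ k : ℕ, orderOf x = p ^ k)
    {f : G → ℂ} (hf : IsClassFunction G f)
    {K : Subgroup (Subgroup.centralizer ({x} : Set G))}
    (hK : ∀ y : Subgroup.centralizer ({x} : Set G), ¬ p ∣ orderOf y ↔ y ∈ K) [Fintype K] :
    (Nat.card (Subgroup.centralizer ({x} : Set G)) : ℂ) * ∑ g ∈ sec p x, f g =
      (Nat.card G : ℂ) * ∑ y : K, f (x * ((y : Subgroup.centralizer ({x} : Set G)) : G)) := by
  classical
  have hord : ∀ t a : G, orderOf (t * a * t⁻¹) = orderOf a := fun t a => by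
    rw [← MulAut.conj_apply, MulEquiv.orderOf_eq]
  have hpart : ∀ t : G × K, IsPPart p
      (t.1 * (x * ((t.2 : Subgroup.centralizer ({x} : Set G)) : G)) * t.1⁻¹) (t.1 * x * t.1⁻¹) := by
    intro t
    have hc : Commute x ((t.2 : Subgroup.centralizer ({x} : Set G)) : G) :=
      (Subgroup.mem_centralizer_singleton_iff.1 (t.2 : Subgroup.centralizer ({x} : Set G)).2).symm
    refine ⟨t.1 * ((t.2 : Subgroup.centralizer ({x} : Set G)) : G) * t.1⁻¹, by group,
      hc.map (MulAut.conj t.1).toMonoidHom, ?_, ?_⟩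
    · obtain ⟨k, hk⟩ := hx
      exact ⟨k, by rw [hord, hk]⟩
    · rw [hord, Subgroup.orderOf_coe]; exact (hK _).2 t.2.2
  have hφ : ∀ t : G × K, t.1 * (x * ((t.2 : Subgroup.centralizer ({x} : Set G)) : G)) * t.1⁻¹ ∈
      sec p x := fun t => by
    simp only [sec, Finset.mem_filter, Finset.mem_univ, true_and]
    exact ⟨_, hpart t, isConj_iff.2 ⟨t.1, rfl⟩⟩
  have hfib : ∀ g ∈ sec p x, (Finset.univ.filter (fun t : G × K =>
      t.1 * (x * ((t.2 : Subgroup.centralizer ({x} : Set G)) : G)) * t.1⁻¹ = g)).card =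
      Nat.card (Subgroup.centralizer ({x} : Set G)) := by
    intro g hg
    simp only [sec, Finset.mem_filter, Finset.mem_univ, true_and] at hg
    obtain ⟨u, ⟨v, huv, hc, hu, hv⟩, hxu⟩ := hg
    obtain ⟨t₀, ht₀⟩ := isConj_iff.1 hxu
    have key : ∀ t : G × K, t.1 * (x * ((t.2 : Subgroup.centralizer ({x} : Set G)) : G)) * t.1⁻¹ = g →
        t.1 * x * t.1⁻¹ = u ∧ t.1 * ((t.2 : Subgroup.centralizer ({x} : Set G)) : G) * t.1⁻¹ = v := by
      intro t ht
      have h2 := pPart_unique (ht ▸ hpart t) ⟨v, huv, hc, hu, hv⟩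
      refine ⟨h2, mul_left_cancel (a := u) ?_⟩
      rw [huv, ← ht, ← h2]; group
    have hcardS : (Finset.univ.filter (fun t : G × K =>
        t.1 * (x * ((t.2 : Subgroup.centralizer ({x} : Set G)) : G)) * t.1⁻¹ = g)).card =
        (Finset.univ.filter (fun t : G => t * x * t⁻¹ = u)).card := by
      refine Finset.card_bij (fun t _ => t.1) (fun t ht => ?_) ?_ ?_
      · simp only [Finset.mem_filter, Finset.mem_univ, true_and] at ht ⊢
        exact (key t ht).1
      · intro a ha b hb hab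
        simp only [Finset.mem_filter, Finset.mem_univ, true_and] at ha hb
        refine Prod.ext hab (Subtype.ext (Subtype.ext ?_))
        have e1 := (key a ha).2
        rw [hab, ← (key b hb).2] at e1
        exact mul_left_cancel (mul_right_cancel e1)
      · intro t ht
        simp only [Finset.mem_filter, Finset.mem_univ, true_and] at ht
        have htv : Commute x (t⁻¹ * v * t) := by
          have := hc.map (MulAut.conj t⁻¹).toMonoidHom
          simpa [← ht, mul_assoc] using this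
        have hmem : t⁻¹ * v * t ∈ Subgroup.centralizer ({x} : Set G) :=
          Subgroup.mem_centralizer_singleton_iff.2 htv.eq.symm
        have hregv : ¬ p ∣ orderOf (⟨_, hmem⟩ : Subgroup.centralizer ({x} : Set G)) := by
          rw [Subgroup.orderOf_mk]
          rwa [show t⁻¹ * v * t = t⁻¹ * v * t⁻¹⁻¹ by rw [inv_inv], hord]
        refine ⟨(t, ⟨⟨_, hmem⟩, (hK _).1 hregv⟩), ?_, rfl⟩
        simp only [Finset.mem_filter, Finset.mem_univ, true_and]
        rw [← huv, ← ht]; group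
    rw [hcardS, Nat.card_eq_fintype_card, ← Finset.card_univ]
    refine Finset.card_bij' (fun t ht => ⟨t₀⁻¹ * t, ?_⟩) (fun c _ => t₀ * (c : G)) ?_ ?_ ?_ ?_
    · simp only [Finset.mem_filter, Finset.mem_univ, true_and] at ht
      rw [Subgroup.mem_centralizer_singleton_iff]
      have : t * x = u * t := by rw [← ht]; group
      calc t₀⁻¹ * t * x = t₀⁻¹ * (t * x) := mul_assoc _ _ _
        _ = t₀⁻¹ * (t₀ * x * t₀⁻¹ * t) := by rw [this, ht₀]
        _ = x * (t₀⁻¹ * t) := by group
    · exact fun _ _ => Finset.mem_univ _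
    · intro c _
      simp only [Finset.mem_filter, Finset.mem_univ, true_and]
      have hcx : (c : G) * x = x * c := Subgroup.mem_centralizer_singleton_iff.1 c.2
      rw [← ht₀, mul_inv_rev, show t₀ * (c : G) * x * ((c : G)⁻¹ * t₀⁻¹) =
        t₀ * ((c : G) * x) * (c : G)⁻¹ * t₀⁻¹ by group, hcx]
      group
    · intro t _; simp
    · intro c _; ext; simp
  have h1 : ∑ t : G × K, f (t.1 * (x * ((t.2 : Subgroup.centralizer ({x} : Set G)) : G)) * t.1⁻¹) =
      (Nat.card (Subgroup.centralizer ({x} : Set G)) : ℂ) * ∑ g ∈ sec p x, f g := by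
    rw [← Finset.sum_fiberwise_of_maps_to (t := sec p x) (fun t _ => hφ t), Finset.mul_sum]
    refine Finset.sum_congr rfl fun g hg => ?_
    rw [Finset.sum_congr rfl (g := fun _ => f g) fun t ht => by rw [(Finset.mem_filter.1 ht).2],
      Finset.sum_const, hfib g hg, nsmul_eq_mul]
  rw [← h1, Fintype.sum_prod_type, Finset.sum_congr rfl
    (g := fun _ => ∑ y : K, f (x * ((y : Subgroup.centralizer ({x} : Set G)) : G))) fun t _ =>
      Finset.sum_congr rfl fun y _ => hf _ t,
    Finset.sum_const, Finset.card_univ, nsmul_eq_mul, ← Nat.card_eq_fintype_card]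

/-- The sum of an irreducible character over a section. -/
theorem Gen.sum_sec_irr [Fintype G] {M : Ideal AlgInt} (hM : IsPModular p M) {i : ZMod q}
    (hi : i ≠ 0) (χ : IrrCharacter G) [DecidablePred (· ∈ principalBlock M G)] :
    (q : ℂ) * ∑ g ∈ sec p (D.pw i), (χ : G → ℂ) g =
      (Nat.card G : ℂ) * (if χ ∈ principalBlock M G then (χ : G → ℂ) (D.pw i) else 0) := by
  classical
  obtain ⟨K, Q, hKn, hKQ, hQ⟩ := D.exists_complement hi
  haveI := hKn
  obtain ⟨a, ha⟩ := D.exists_pPow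
  cases nonempty_fintype (Subgroup.centralizer ({D.pw i} : Set G))
  cases nonempty_fintype K
  have hidx : K.index = p ^ a := by rw [hKQ.symm.index_eq_card, hQ, ha]
  have hKp : ¬ p ∣ Nat.card K := by rw [← hKQ.index_eq_card]; exact Q.not_dvd_index
  have hK : ∀ y : (Subgroup.centralizer ({D.pw i} : Set G)), ¬ p ∣ orderOf y ↔ y ∈ K := fun y =>
    ⟨fun h => regular_mem_of_index_pPow hidx h, fun h hd => hKp (hd.trans (by
      rw [← Subgroup.orderOf_mk y h]; exact orderOf_dvd_natCard _))⟩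
  have hCcard : Nat.card (Subgroup.centralizer ({D.pw i} : Set G)) = q * Nat.card K := by
    rw [← Subgroup.card_mul_index K, hidx, mul_comm]
    exact congrArg (· * Nat.card K) ha.symm
  have h := sum_sec (D.pow_q i) (irr_classFun χ) hK
  rw [show Nat.card (Subgroup.centralizer ({D.pw i} : Set G)) = q * Nat.card K from hCcard,
    Nat.cast_mul] at h
  have hsum : ∑ y : K, (χ : G → ℂ) (D.pw i * ((y : (Subgroup.centralizer ({D.pw i} : Set G))) : G)) =
      (Nat.card K : ℂ) * (if χ ∈ principalBlock M G then (χ : G → ℂ) (D.pw i) else 0) := by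
    by_cases hχ : χ ∈ principalBlock M G
    · rw [if_pos hχ, Finset.sum_congr rfl fun y _ =>
        RegProd.value_eq_of_complement hM (D.pow_q i) hKn hKp y.2 hχ, Finset.sum_const,
        Finset.card_univ, nsmul_eq_mul, ← Nat.card_eq_fintype_card]
    · rw [if_neg hχ, mul_zero]
      obtain ⟨k, hk⟩ := D.pow_q i
      have hP : IsPGroup p (Subgroup.zpowers (D.pw i)) :=
        IsPGroup.of_card (n := k) (by rw [Nat.card_zpowers, hk])
      set S := Finset.univ.filter (fun ξ : IrrCharacter (Subgroup.centralizer ({D.pw i} : Set G)) =>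
        IsInducedBlock M (Subgroup.centralizer ({D.pw i} : Set G)) (blockOf M (ξ : (Subgroup.centralizer ({D.pw i} : Set G)) → ℂ)) (blockOf M (χ : G → ℂ))) with hS
      have e : ∀ y : K, (χ : G → ℂ) (D.pw i * ((y : (Subgroup.centralizer ({D.pw i} : Set G))) : G)) = ∑ ξ ∈ S,
          classInner (fun c : (Subgroup.centralizer ({D.pw i} : Set G)) => (χ : G → ℂ) (D.pw i * (c : G))) (ξ : (Subgroup.centralizer ({D.pw i} : Set G)) → ℂ) *
            (ξ : (Subgroup.centralizer ({D.pw i} : Set G)) → ℂ) (y : (Subgroup.centralizer ({D.pw i} : Set G))) := fun y => by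
        have e1 := value_eq_sum_inducing hM ⟨k, hk⟩ (isPBlock_blockOf (M := M) χ) ((hK _).2 y.2) χ
        rw [if_pos (mem_blockOf_self hM χ)] at e1
        exact e1.symm
      rw [Finset.sum_congr rfl fun y _ => e y, Finset.sum_comm]
      refine Finset.sum_eq_zero fun ξ hξ => ?_
      rw [← Finset.mul_sum]
      have hdef : InducedBlockDefined M (Subgroup.centralizer ({D.pw i} : Set G)) (blockOf M (ξ : (Subgroup.centralizer ({D.pw i} : Set G)) → ℂ)) := by
        refine inducedBlockDefined_brauer hM hP (Subgroup.zpowers_le.2 (centralizer_self_mem _)) ?_ ?_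
          (isPBlock_blockOf ξ)
        · exact Subgroup.centralizer_le (Set.singleton_subset_iff.2 (Subgroup.mem_zpowers _))
        · intro c hc
          refine Subgroup.centralizer_le_normalizer _ ?_
          rw [Subgroup.mem_centralizer_iff]
          intro w hw
          obtain ⟨j, rfl⟩ := Subgroup.mem_zpowers_iff.1 hw
          exact ((show Commute c (D.pw i) from
            Subgroup.mem_centralizer_singleton_iff.1 hc).zpow_right j).eq.symm
      have hnp : ξ ∉ principalBlock M (Subgroup.centralizer ({D.pw i} : Set G)) := by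
        intro hξ'
        have hb : blockOf M (ξ : (Subgroup.centralizer ({D.pw i} : Set G)) → ℂ) = principalBlock M (Subgroup.centralizer ({D.pw i} : Set G)) :=
          (pblock_eq_blockOf hM isPBlock_principalBlock hξ').symm
        have := induced_unique hM (Finset.mem_filter.1 hξ).2 ((principal_third_main hM hdef).2 hb)
        exact hχ (this ▸ mem_blockOf_self hM χ)
      have h0 : regTot p (ξ : (Subgroup.centralizer ({D.pw i} : Set G)) → ℂ) = 0 := not_not.1 fun h => hnp ((mem_principal_iff hM ξ).2 h)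
      rw [regTot, Finset.sum_subtype (p := fun y => y ∈ K) _ (fun y => by simp [hK y])] at h0
      rw [h0, mul_zero]
  rw [hsum] at h
  exact mul_left_cancel₀ (Nat.cast_ne_zero.2 (Nat.card_pos (α := K)).ne')
    (by linear_combination h)

end Cfsg.Agent.Invol.CyclicBlock
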