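import Mathlib
import Cfsg.Agent.Lib.Block.ClassMul
import Cfsg.Agent.Lib.Block.KleinFour

/-!
One class of involutions with centralizer dihedral of order eight: the order is `168` or `360`.

The class function with values `4` at the involutions and `2` at the elements of order four has norm
three, and the number of ways of writing its support as products of two involutions gives a
diophantine equation for the group order.
-/

set_option autoImplicit false
set_option linter.unusedSectionVars false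
set_option linter.style.haveILetI false

open scoped ComplexConjugate

namespace Cfsg.Agent.Invol.D8Order

open Cfsg Cfsg.Agent Cfsg.Agent.Block

universe u

/-- The arithmetic at the end. -/
theorem final_arith {n : ℕ} {x y : ℤ} (hm : ∃ m, n = 8 * m ∧ ¬ 2 ∣ m) (hx : 4 ∣ x - 1)
    (hy : y = -1 - x) (hx0 : x ≠ 0) (hy0 : y ≠ 0)
    (heq : (n : ℚ) * (1 + 1 / (x : ℚ) + 4 / (y : ℚ)) = 256) : n = 168 ∨ n = 360 := by
  obtain ⟨m, rfl, hm2⟩ := hm
  obtain ⟨k, hk⟩ := hx
  have hxq : (x : ℚ) ≠ 0 := Int.cast_ne_zero.2 hx0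
  have hyq : (-1 - (x : ℚ)) ≠ 0 := by
    have : (y : ℚ) ≠ 0 := Int.cast_ne_zero.2 hy0
    rw [hy] at this; push_cast at this; exact this
  rw [hy] at heq
  push_cast at heq
  field_simp at heq
  have h1 : (8 * (m : ℤ)) * ((x - 1) ^ 2) = 256 * (x * (x + 1)) := by
    have : ((8 * (m : ℤ)) * ((x - 1) ^ 2) : ℚ) = (256 * (x * (x + 1)) : ℤ) := by
      push_cast
      linear_combination -heq
    exact_mod_cast this
  have hx' : x = 4 * k + 1 := by linarith
  subst hx'
  have h2 : k ^ 2 * (m : ℤ) = 4 * ((4 * k + 1) * (2 * k + 1)) := by linarith [h1, sq_nonneg k]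
  have h2k : (2 : ℤ) ∣ k := by
    have h3 : (2 : ℤ) ∣ k ^ 2 * (m : ℤ) := ⟨2 * ((4 * k + 1) * (2 * k + 1)), by rw [h2]; ring⟩
    rcases Int.prime_two.dvd_or_dvd h3 with h | h
    · exact Int.prime_two.dvd_of_dvd_pow h
    · exact absurd (by exact_mod_cast h) hm2
  obtain ⟨j, rfl⟩ := h2k
  have h3 : j ^ 2 * (m : ℤ) = (8 * j + 1) * (4 * j + 1) := by linarith
  have hj : j ∣ 1 := ⟨j * (m : ℤ) - (32 * j + 12), by linear_combination -h3⟩
  rcases Int.isUnit_iff.1 (isUnit_of_dvd_one hj) with rfl | rfl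
  · right; norm_num at h3; omega
  · left; norm_num at h3; omega

theorem d8_central : ∀ x : DihedralGroup 4, (∀ w, w * x = x * w) → x * x = 1 → x ≠ 1 → x = .r 2 := by
  decide

theorem d8_involution : ∀ x : DihedralGroup 4, x * x = 1 → x ≠ 1 → x ≠ .r 2 → ∃ i, x = .sr i := by
  intro x
  cases x with
  | r i => revert i; decide
  | sr i => exact fun _ _ _ => ⟨i, rfl⟩

theorem d8_four : ∀ x : DihedralGroup 4, x * x ≠ 1 → x = .r 1 ∨ x = .r 3 := by decide

theorem d8_comm : ∀ x : DihedralGroup 4, x * .r 1 = .r 1 * x →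
    x = 1 ∨ x = .r 1 ∨ x = .r 2 ∨ x = .r 3 := by decide

theorem d8_refl : ∀ i : ZMod 4, (DihedralGroup.sr i) * .sr i = 1 ∧ DihedralGroup.sr i ≠ (1 : DihedralGroup 4) ∧
    DihedralGroup.sr i * .r 1 * (DihedralGroup.sr i)⁻¹ = (.r 1)⁻¹ := by decide

variable {G : Type u} [Group G] [Finite G]

/-- Averages over the conjugators reduce to sums over the class. -/
theorem sum_conj_eq [Fintype G] (x : G) (φ : G → ℂ) :
    ∑ g : G, φ (g * x * g⁻¹) = (Nat.card (Subgroup.centralizer ({x} : Set G)) : ℂ) *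
      ∑ u ∈ (open Classical in Finset.univ.filter (IsConj x)), φ u := by
  classical
  rw [Finset.mul_sum, ← Finset.sum_fiberwise_of_maps_to (g := fun g : G => g * x * g⁻¹)
    (fun g _ => Finset.mem_filter.2 ⟨Finset.mem_univ _, isConj_iff.2 ⟨g, rfl⟩⟩) (fun g => φ (g * x * g⁻¹))]
  refine Finset.sum_congr rfl fun u hu => ?_
  obtain ⟨g₀, hg₀⟩ := isConj_iff.1 (Finset.mem_filter.1 hu).2
  rw [Finset.sum_congr rfl (g := fun _ => φ u) fun g hg => by rw [(Finset.mem_filter.1 hg).2],
    Finset.sum_const, nsmul_eq_mul]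
  congr 2
  rw [Nat.card_eq_fintype_card]
  refine Finset.card_bij' (fun g hg => (⟨g₀⁻¹ * g, ?_⟩ : Subgroup.centralizer ({x} : Set G)))
    (fun c _ => g₀ * c) (fun g _ => Finset.mem_univ _) ?_ ?_ ?_
  · have h : g * x * g⁻¹ = g₀ * x * g₀⁻¹ := (Finset.mem_filter.1 hg).2.trans hg₀.symm
    rw [Subgroup.mem_centralizer_singleton_iff]
    calc g₀⁻¹ * g * x = g₀⁻¹ * (g * x * g⁻¹) * g := by group
      _ = x * (g₀⁻¹ * g) := by rw [h]; group
  · intro c _
    refine Finset.mem_filter.2 ⟨Finset.mem_univ _, ?_⟩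
    have hc := Subgroup.mem_centralizer_singleton_iff.1 c.2
    rw [← hg₀, show g₀ * (c : G) * x * (g₀ * c)⁻¹ = g₀ * ((c : G) * x) * (c : G)⁻¹ * g₀⁻¹ by group, hc]
    group
  · intro g _; show g₀ * (g₀⁻¹ * g) = g; group
  · intro c _; apply Subtype.ext; show g₀⁻¹ * (g₀ * c) = c; group

set_option maxHeartbeats 1600000 in
theorem order_eq (t : G) (ht : orderOf t = 2)
    (e : Subgroup.centralizer ({t} : Set G) ≃* DihedralGroup 4)
    (hone : ∀ u : G, orderOf u = 2 → IsConj t u) : Nat.card G = 168 ∨ Nat.card G = 360 := by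
  classical
  haveI := Fintype.ofFinite G
  haveI := Fact.mk Nat.prime_two
  set C := Subgroup.centralizer ({t} : Set G) with hC
  have htt : t * t = 1 := by rw [← pow_two, ← ht, pow_orderOf_eq_one]
  have ht1 : t ≠ 1 := fun h => by rw [h, orderOf_one] at ht; omega
  have htC : t ∈ C := Subgroup.mem_centralizer_singleton_iff.2 rfl
  have hC8 : Nat.card C = 8 := by rw [Nat.card_congr e.toEquiv, DihedralGroup.nat_card]
  -- coordinates
  set co : DihedralGroup 4 → G := fun d => (e.symm d : G) with hco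
  have hcoC : ∀ d, co d ∈ C := fun d => (e.symm d).2
  have hcomul : ∀ a b, co (a * b) = co a * co b := fun a b => by simp [hco]
  have hcoinv : ∀ a, co a⁻¹ = (co a)⁻¹ := fun a => by simp [hco]
  have hco1 : co 1 = 1 := by simp [hco]
  have hcoinj : Function.Injective co := fun a b h => e.symm.injective (Subtype.ext h)
  have hcosurj : ∀ g ∈ C, ∃ d, co d = g := fun g hg => ⟨e ⟨g, hg⟩, by simp [hco]⟩
  have hco2 : co (.r 2) = t := by
    obtain ⟨d, hd⟩ := hcosurj t htC
    have hcen : ∀ w, w * d = d * w := fun w => hcoinj (by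
      rw [hcomul, hcomul, hd]; exact Subgroup.mem_centralizer_singleton_iff.1 (hcoC w))
    rw [← d8_central d hcen (hcoinj (by rw [hcomul, hco1, hd, htt]))
      (fun h => ht1 (by rw [← hd, h, hco1])), hd]
  set f := co (.r 1) with hfdef
  have hff : f * f = t := by rw [hfdef, ← hcomul, ← hco2]; congr 1
  have hf4 : f ^ 4 = 1 := by rw [show 4 = 2 * 2 from rfl, pow_mul, pow_two f, hff, pow_two, htt]
  have hfi : f⁻¹ = co (.r 3) := by rw [hfdef, ← hcoinv]; congr 1
  have hfne : f * f ≠ 1 := by rw [hff]; exact ht1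
  have hfinv_ne : f ≠ f⁻¹ := fun h => hfne (by nth_rewrite 2 [h]; rw [mul_inv_cancel])
  have hnconj : ¬ IsConj t f := fun h => by
    obtain ⟨g, hg⟩ := isConj_iff.1 h
    refine hfne ?_
    rw [← hg, show g * t * g⁻¹ * (g * t * g⁻¹) = g * (t * t) * g⁻¹ by group, htt]
    group
  have hn1f : ¬ IsConj (1 : G) f := fun h => hfne (by rw [isConj_one_right.1 h, mul_one])
  have hn1t : ¬ IsConj (1 : G) t := fun h => ht1 (isConj_one_right.1 h)
  -- order four elements squaring to `t`
  have hsqt : ∀ w, w * w = t → w = f ∨ w = f⁻¹ := by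
    intro w hw
    have hwC : w ∈ C := Subgroup.mem_centralizer_singleton_iff.2 (by rw [← hw, mul_assoc])
    obtain ⟨d, rfl⟩ := hcosurj w hwC
    rcases d8_four d (fun h => ht1 (by rw [← hw, ← hcomul, h, hco1])) with rfl | rfl
    · exact Or.inl rfl
    · exact Or.inr hfi.symm
  have hCf : Nat.card (Subgroup.centralizer ({f} : Set G)) = 4 := by
    have hz : Subgroup.centralizer ({f} : Set G) = Subgroup.zpowers f := by
      refine le_antisymm (fun g hg => ?_) (Subgroup.zpowers_le.2 (Subgroup.mem_centralizer_singleton_iff.2 rfl))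
      have hgf := Subgroup.mem_centralizer_singleton_iff.1 hg
      have hgC : g ∈ C := Subgroup.mem_centralizer_singleton_iff.2 (by
        rw [← hff, ← mul_assoc, hgf, mul_assoc, hgf, ← mul_assoc])
      obtain ⟨d, rfl⟩ := hcosurj g hgC
      rcases d8_comm d (hcoinj (by rw [hcomul, hcomul]; exact hgf)) with rfl | rfl | rfl | rfl
      · rw [hco1]; exact one_mem _
      · exact Subgroup.mem_zpowers f
      · rw [hco2, ← hff]; exact mul_mem (Subgroup.mem_zpowers f) (Subgroup.mem_zpowers f)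
      · rw [← hfi]; exact inv_mem (Subgroup.mem_zpowers f)
    rw [hz, Nat.card_zpowers]
    exact orderOf_eq_prime_pow (p := 2) (n := 1) (by rw [pow_one, pow_two]; exact hfne) (by simpa using hf4)
  have hsr : ∀ u, u * u = 1 → u ≠ 1 → u ≠ t → u ∈ C → ∃ i, co (.sr i) = u := by
    intro u h2 h1 hne hu
    obtain ⟨d, rfl⟩ := hcosurj u hu
    obtain ⟨i, rfl⟩ := d8_involution d (hcoinj (by rw [hcomul, hco1, h2]))
      (fun h => h1 (by rw [h, hco1])) (fun h => hne (by rw [h, hco2]))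
    exact ⟨i, rfl⟩
  have hrefl_inv : ∀ i, co (.sr i) * f * (co (.sr i))⁻¹ = f⁻¹ := by
    intro i
    rw [hfdef, ← hcomul, ← hcoinv, ← hcoinv, ← hcomul]
    congr 1
    exact (d8_refl i).2.2
  have hfrev : IsConj f f⁻¹ := isConj_iff.2 ⟨_, hrefl_inv 0⟩
  have hreflK : ∀ i, IsConj t (co (.sr i)) := fun i => hone _ (orderOf_eq_prime
    (by rw [pow_two, ← hcomul, (d8_refl i).1, hco1])
    (fun h => (d8_refl i).2.1 (hcoinj (h.trans hco1.symm))))
  have hinvol : ∀ u, IsConj t u → u * u = 1 ∧ u ≠ 1 := by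
    intro u hu
    obtain ⟨g, rfl⟩ := isConj_iff.1 hu
    refine ⟨by rw [show g * t * g⁻¹ * (g * t * g⁻¹) = g * (t * t) * g⁻¹ by group, htt]; group, fun h => ht1 ?_⟩
    rwa [mul_inv_eq_one, mul_eq_left] at h
  set K := Finset.univ.filter (fun u : G => IsConj t u) with hK
  -- pairs with product conjugate to `t`
  have hA : K.filter (fun u => IsConj t (t * u)) = Finset.univ.image (fun i => co (.sr i)) := by
    ext u
    simp only [hK, Finset.mem_filter, Finset.mem_univ, true_and, Finset.mem_image]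
    constructor
    · rintro ⟨hu, htu⟩
      have h1 := hinvol u hu
      have h2 := hinvol _ htu
      have hc : u * t = t * u := by
        calc u * t = t * (t * u * (t * u)) * u := by
              rw [show t * (t * u * (t * u)) * u = (t * t) * u * t * (u * u) by group, htt, h1.1, one_mul, mul_one]
          _ = t * u := by rw [h2.1, mul_one]
      exact hsr u h1.1 h1.2 (fun h => h2.2 (by rw [h, htt])) (Subgroup.mem_centralizer_singleton_iff.2 hc)
    · rintro ⟨i, rfl⟩
      refine ⟨hreflK i, ?_⟩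
      rw [← hco2, ← hcomul, DihedralGroup.r_mul_sr, hco2]
      exact hreflK _
  -- pairs with product conjugate to `f`
  choose gz hgz using fun i : ZMod 4 => isConj_iff.1 (hreflK i)
  set w : ZMod 4 × Bool → G := fun ib => gz ib.1 * (if ib.2 then f else f⁻¹) * (gz ib.1)⁻¹ with hw
  have hw2 : ∀ ib, w ib * w ib = co (.sr ib.1) := by
    intro ib
    rw [← hgz ib.1]
    cases hb : ib.2
    · simp only [hw, hb, Bool.false_eq_true, ↓reduceIte]
      rw [show gz ib.1 * f⁻¹ * (gz ib.1)⁻¹ * (gz ib.1 * f⁻¹ * (gz ib.1)⁻¹) =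
        gz ib.1 * (f * f)⁻¹ * (gz ib.1)⁻¹ by group, hff, inv_eq_of_mul_eq_one_right htt]
    · simp only [hw, hb, ↓reduceIte]
      rw [← hff]; group
  have hwf : ∀ ib, IsConj f (w ib) := by
    intro ib
    cases hb : ib.2
    · refine hfrev.trans (isConj_iff.2 ⟨gz ib.1, ?_⟩)
      simp [hw, hb]
    · exact isConj_iff.2 ⟨gz ib.1, by simp [hw, hb]⟩
  have hwt : ∀ ib, t * w ib * t⁻¹ = (w ib)⁻¹ := by
    intro ib
    set g := gz ib.1
    have hcs : co (.sr ib.1) * t = t * co (.sr ib.1) :=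
      Subgroup.mem_centralizer_singleton_iff.1 (hcoC _)
    have hgC : g⁻¹ * t * g ∈ C := Subgroup.mem_centralizer_singleton_iff.2 (by
      calc g⁻¹ * t * g * t = g⁻¹ * (t * (g * t * g⁻¹)) * g := by group
        _ = g⁻¹ * ((g * t * g⁻¹) * t) * g := by rw [hgz, hcs]
        _ = t * (g⁻¹ * t * g) := by group)
    obtain ⟨i, hi⟩ := hsr (g⁻¹ * t * g)
      (by rw [show g⁻¹ * t * g * (g⁻¹ * t * g) = g⁻¹ * (t * t) * g by group, htt]; group)
      (fun h => ht1 (by
        calc t = g * (g⁻¹ * t * g) * g⁻¹ := by group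
          _ = 1 := by rw [h]; group))
      (fun h => by
        have h' : co (.sr ib.1) = co (.r 2) := by
          rw [hco2, ← hgz ib.1]
          calc g * t * g⁻¹ = g * (g⁻¹ * t * g) * g⁻¹ := by rw [h]
            _ = t := by group
        exact absurd (hcoinj h') (by simp)) hgC
    have hinv : (g⁻¹ * t * g) * f * (g⁻¹ * t * g)⁻¹ = f⁻¹ := by rw [← hi]; exact hrefl_inv i
    cases hb : ib.2
    · simp only [hw, hb, Bool.false_eq_true, ↓reduceIte]
      calc t * (g * f⁻¹ * g⁻¹) * t⁻¹ = g * ((g⁻¹ * t * g) * f * (g⁻¹ * t * g)⁻¹)⁻¹ * g⁻¹ := by group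
        _ = (g * f⁻¹ * g⁻¹)⁻¹ := by rw [hinv]; group
    · simp only [hw, hb, ↓reduceIte]
      calc t * (g * f * g⁻¹) * t⁻¹ = g * ((g⁻¹ * t * g) * f * (g⁻¹ * t * g)⁻¹) * g⁻¹ := by group
        _ = (g * f * g⁻¹)⁻¹ := by rw [hinv]; group
  have hti : t⁻¹ = t := inv_eq_of_mul_eq_one_right htt
  have hwinj : Function.Injective (fun ib => t * w ib) := by
    intro a b h
    have h' : w a = w b := mul_left_cancel h
    have h1 : a.1 = b.1 := DihedralGroup.sr.inj (hcoinj (by rw [← hw2 a, ← hw2 b, h']))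
    refine Prod.ext h1 ?_
    simp only [hw, h1] at h'
    have h2 := mul_left_cancel (mul_right_cancel h')
    cases ha : a.2 <;> cases hb : b.2 <;> simp only [ha, hb] at h2 ⊢ <;> simp at h2
    · exact absurd h2.symm hfinv_ne
    · exact absurd h2 hfinv_ne
  have hB : K.filter (fun u => IsConj f (t * u)) = Finset.univ.image (fun ib => t * w ib) := by
    ext u
    simp only [hK, Finset.mem_filter, Finset.mem_univ, true_and, Finset.mem_image]
    constructor
    · rintro ⟨hu, htu⟩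
      obtain ⟨g, hg⟩ := isConj_iff.1 htu
      have h1 := hinvol u hu
      set v := t * u
      have hv4 : v * v ≠ 1 := by
        rw [← hg, show g * f * g⁻¹ * (g * f * g⁻¹) = g * (f * f) * g⁻¹ by group]
        intro h
        exact hfne (by rwa [mul_inv_eq_one, mul_eq_left] at h)
      have hvt : t * v * t⁻¹ = v⁻¹ := by
        rw [hti, mul_inv_rev, inv_eq_of_mul_eq_one_right h1.1, hti, ← mul_assoc, htt, one_mul]
      have hz : (v * v) * (v * v) = 1 := by
        rw [← hg, show g * f * g⁻¹ * (g * f * g⁻¹) * (g * f * g⁻¹ * (g * f * g⁻¹)) =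
          g * (f * f * (f * f)) * g⁻¹ by group, hff, htt]
        group
      have hzC : v * v ∈ C := Subgroup.mem_centralizer_singleton_iff.2 (by
        symm
        calc t * (v * v) = (t * v * t⁻¹) * (t * v * t⁻¹) * t := by group
          _ = (v * v)⁻¹ * t := by rw [hvt]; group
          _ = v * v * t := by rw [inv_eq_of_mul_eq_one_right hz])
      have hzt : v * v ≠ t := by
        intro h
        refine hv4 ?_
        have : t * v = v * t := by rw [← h, mul_assoc]
        rw [← eq_inv_iff_mul_eq_one, ← hvt, this, mul_inv_cancel_right]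
      obtain ⟨i, hi⟩ := hsr _ hz hv4 hzt hzC
      rcases hsqt ((gz i)⁻¹ * v * gz i) (by
        calc (gz i)⁻¹ * v * gz i * ((gz i)⁻¹ * v * gz i) = (gz i)⁻¹ * (v * v) * gz i := by group
          _ = t := by rw [← hi, ← hgz i]; group) with h | h
      · refine ⟨(i, true), ?_⟩
        have hwv : w (i, true) = v := by simp only [hw, ↓reduceIte]; rw [← h]; group
        rw [hwv, show t * v = t * t * u from (mul_assoc t t u).symm, htt, one_mul]
      · refine ⟨(i, false), ?_⟩
        have hwv : w (i, false) = v := by simp only [hw, Bool.false_eq_true, ↓reduceIte]; rw [← h]; group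
        rw [hwv, show t * v = t * t * u from (mul_assoc t t u).symm, htt, one_mul]
    · rintro ⟨ib, rfl⟩
      refine ⟨hone _ (orderOf_eq_prime ?_ ?_), by rw [← mul_assoc, htt, one_mul]; exact hwf ib⟩
      · have h := hwt ib
        rw [hti] at h
        rw [pow_two, ← mul_assoc, h, inv_mul_cancel]
      · intro h
        have h' : w ib = t := by rw [← inv_eq_of_mul_eq_one_right h, hti]
        exact hnconj (h' ▸ hwf ib).symm
  -- the class function
  set F : G → ℂ := fun g => if IsConj t g then 4 else if IsConj f g then 2 else 0 with hF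
  have hFcl : IsClassFunction G F := by
    intro a b
    simp only [hF]
    have h : IsConj a (b * a * b⁻¹) := isConj_iff.2 ⟨b, rfl⟩
    have e1 : IsConj t (b * a * b⁻¹) ↔ IsConj t a := ⟨fun h' => h'.trans h.symm, fun h' => h'.trans h⟩
    have e2 : IsConj f (b * a * b⁻¹) ↔ IsConj f a := ⟨fun h' => h'.trans h.symm, fun h' => h'.trans h⟩
    simp only [e1, e2]
  have hG0 : (Nat.card G : ℂ) ≠ 0 := Nat.cast_ne_zero.2 Nat.card_pos.ne'
  -- the count
  have hcount : ∑ g : G, F (t * (g * t * g⁻¹)) = 256 := by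
    rw [sum_conj_eq t (fun u => F (t * u)), ← hC, hC8, ← hK]
    simp only [hF]
    rw [Finset.sum_ite, Finset.sum_ite, Finset.sum_const, Finset.sum_const, Finset.sum_const_zero, hA,
      Finset.filter_filter]
    have hB' : K.filter (fun u => ¬ IsConj t (t * u) ∧ IsConj f (t * u)) =
        Finset.univ.image (fun ib => t * w ib) := by
      rw [← hB]
      exact Finset.filter_congr fun u _ => ⟨fun h => h.2, fun h => ⟨fun h' => hnconj (h'.trans h.symm), h⟩⟩
    rw [hB', Finset.card_image_of_injective _ hwinj,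
      Finset.card_image_of_injective _ (fun a b h => DihedralGroup.sr.inj (hcoinj h))]
    simp
    norm_num
  -- character values
  have hvals : ∀ χ : IrrCharacter G, ∃ d a p c : ℤ, (χ : G → ℂ) 1 = d ∧ (χ : G → ℂ) t = a ∧
      (χ : G → ℂ) f = p ∧ 2 * c = a + p ∧ 4 ∣ d - a ∧ 0 < d := by
    intro χ
    obtain ⟨d, ρ, hρ⟩ := irr_isChar χ
    obtain ⟨b, c, -, hc, hk⟩ := Cfsg.Agent.Char.exists_rep_eigenbasis ρ f
    have h4 : ∀ i, c i ^ 4 = 1 := fun i => by
      obtain ⟨j, hj⟩ := orderOf_dvd_of_pow_eq_one hf4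
      rw [hj, pow_mul, hc i, one_pow]
    have hcases : ∀ i, c i = 1 ∨ c i = -1 ∨ c i = Complex.I ∨ c i = -Complex.I := by
      intro i
      have h : (c i - 1) * (c i + 1) * ((c i - Complex.I) * (c i + Complex.I)) = 0 := by
        have hI : Complex.I ^ 2 = -1 := Complex.I_sq
        linear_combination h4 i - (c i ^ 2 - 1) * hI
      rcases mul_eq_zero.1 h with h | h <;> rcases mul_eq_zero.1 h with h | h
      · exact Or.inl (sub_eq_zero.1 h)
      · exact Or.inr (Or.inl (eq_neg_of_add_eq_zero_left h))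
      · exact Or.inr (Or.inr (Or.inl (sub_eq_zero.1 h)))
      · exact Or.inr (Or.inr (Or.inr (eq_neg_of_add_eq_zero_left h)))
    set re : ℂ → ℤ := fun z => if z = 1 then 1 else if z = -1 then -1 else 0 with hre
    set im : ℂ → ℤ := fun z => if z = Complex.I then 1 else if z = -Complex.I then -1 else 0 with him
    have n1 : (-1 : ℂ) ≠ 1 := by norm_num
    have nI : Complex.I ≠ 1 ∧ Complex.I ≠ -1 ∧ -Complex.I ≠ 1 ∧ -Complex.I ≠ -1 ∧ -Complex.I ≠ Complex.I ∧
        (1 : ℂ) ≠ Complex.I ∧ (1 : ℂ) ≠ -Complex.I ∧ (-1 : ℂ) ≠ Complex.I ∧ (-1 : ℂ) ≠ -Complex.I := by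
      simp [Complex.ext_iff]
      norm_num
    obtain ⟨n2, n3, n4, n5, n6, n7, n8, n9, n10⟩ := nI
    have hci : ∀ i, c i = (re (c i) : ℂ) + (im (c i) : ℂ) * Complex.I := fun i => by
      rcases hcases i with h | h | h | h <;>
        simp [hre, him, h, n1, n2, n3, n4, n5, n6, n7, n8, n9, n10]
    have hsq : ∀ i, c i ^ 2 = ((re (c i) ^ 2 - im (c i) ^ 2 : ℤ) : ℂ) := fun i => by
      rcases hcases i with h | h | h | h <;>
        simp [hre, him, h, n1, n2, n3, n4, n5, n6, n7, n8, n9, n10, Complex.I_sq]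
    have hone' : ∀ i, re (c i) ^ 2 + im (c i) ^ 2 = 1 := fun i => by
      rcases hcases i with h | h | h | h <;> simp [hre, him, h, n1, n2, n3, n4, n5, n6, n7, n8, n9, n10]
    have hv1 := hk 1
    have hv2 := hk 2
    have hv0 := hk 0
    rw [pow_one] at hv1
    rw [pow_two, hff] at hv2
    rw [pow_zero] at hv0
    rw [hρ] at hv1 hv2 hv0
    simp only [pow_one, pow_zero, Finset.sum_const, Finset.card_univ, nsmul_eq_mul, mul_one] at hv1 hv0
    simp only [hsq] at hv2
    rw [← Int.cast_sum] at hv2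
    rw [Finset.sum_congr rfl fun i _ => hci i, Finset.sum_add_distrib, ← Finset.sum_mul, ← Int.cast_sum,
      ← Int.cast_sum] at hv1
    -- the value at `f` is real
    obtain ⟨g, hg⟩ := isConj_iff.1 hfrev
    have hreal : conj ((χ : G → ℂ) f) = (χ : G → ℂ) f := by
      rw [← irr_apply_inv, ← hg]
      exact (Cfsg.Agent.Char.IsIrr.classFun χ.2) f g
    have him0 : (∑ i, im (c i)) = 0 := by
      rw [hv1] at hreal
      have := congrArg Complex.im hreal
      simp at this
      exact_mod_cast (show ((∑ i, im (c i) : ℤ) : ℝ) = 0 by push_cast; linarith)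
    rw [him0, Int.cast_zero, zero_mul, add_zero] at hv1
    have heven : Even ((∑ i, (re (c i) ^ 2 - im (c i) ^ 2)) + ∑ i, re (c i)) := by
      have h0 : (∑ i, (re (c i) ^ 2 - im (c i) ^ 2)) + ∑ i, re (c i) + ∑ i, im (c i) =
          ∑ i, (re (c i) ^ 2 - im (c i) ^ 2 + re (c i) + im (c i)) := by
        simp only [Finset.sum_add_distrib]
      rw [him0, add_zero] at h0
      rw [h0]
      refine Finset.even_sum _ fun i _ => ?_
      rcases hcases i with h | h | h | h <;>
        simp [hre, him, h, n1, n2, n3, n4, n5, n6, n7, n8, n9, n10]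
    obtain ⟨c', hc'⟩ := heven
    refine ⟨∑ i, (re (c i) ^ 2 + im (c i) ^ 2), ∑ i, (re (c i) ^ 2 - im (c i) ^ 2),
      ∑ i, re (c i), c', ?_, hv2, hv1, by rw [hc']; ring, ?_, ?_⟩
    · rw [hv0]; simp [hone']
    · have h2 : ∑ i, (re (c i) ^ 2 + im (c i) ^ 2) - ∑ i, (re (c i) ^ 2 - im (c i) ^ 2) =
          2 * ∑ i, im (c i) ^ 2 := by
        rw [← Finset.sum_sub_distrib, Finset.mul_sum]
        exact Finset.sum_congr rfl fun i _ => by ring
      rw [h2, show (4 : ℤ) = 2 * 2 by norm_num]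
      refine mul_dvd_mul_left 2 ?_
      have h3 : 2 ∣ ∑ i, (im (c i) ^ 2 - im (c i)) := Finset.dvd_sum fun i _ => by
        rcases hcases i with h | h | h | h <;>
          simp [hre, him, h, n1, n2, n3, n4, n5, n6, n7, n8, n9, n10]
      rwa [Finset.sum_sub_distrib, him0, sub_zero] at h3
    · have := charDeg_pos χ
      rw [charDeg_spec'] at hv0
      simp [hone'] at hv0 ⊢
      omega
  choose d a p c hd ha hp hc hmod hdpos using hvals
  -- orthogonality
  have hcol : ∀ g h : G, ∀ v w' : IrrCharacter G → ℤ, (∀ χ : IrrCharacter G, (χ : G → ℂ) g = v χ) →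
      (∀ χ : IrrCharacter G, (χ : G → ℂ) h = w' χ) →
      ((∑ χ, v χ * w' χ : ℤ) : ℂ) = if IsConj g h then (Nat.card (Subgroup.centralizer ({h} : Set G)) : ℂ) else 0 := by
    intro g h v w' hv hw'
    refine Eq.trans ?_ ((Cfsg.Agent.Char.sum_irr_mul_conj g h).trans (by congr))
    rw [Int.cast_sum]
    refine Finset.sum_congr rfl fun χ _ => ?_
    rw [hv, hw', map_intCast, Int.cast_mul]
  have haa : ∑ χ, a χ * a χ = 8 := by
    have h := hcol t t a a ha ha
    rw [if_pos (IsConj.refl t), ← hC, hC8] at h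
    exact_mod_cast h
  have hpp : ∑ χ, p χ * p χ = 4 := by
    have h := hcol f f p p hp hp
    rw [if_pos (IsConj.refl f), hCf] at h
    exact_mod_cast h
  have hap : ∑ χ, a χ * p χ = 0 := by
    have h := hcol t f a p ha hp
    rw [if_neg hnconj] at h
    exact_mod_cast h
  have hda : ∑ χ, d χ * a χ = 0 := by
    have h := hcol 1 t d a hd ha
    rw [if_neg hn1t] at h
    exact_mod_cast h
  have hdp : ∑ χ, d χ * p χ = 0 := by
    have h := hcol 1 f d p hd hp
    rw [if_neg hn1f] at h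
    exact_mod_cast h
  have hinner : ∀ χ : IrrCharacter G, classInner F (χ : G → ℂ) = c χ := by
    intro χ
    have hcls : ∀ x : G, ∑ u ∈ Finset.univ.filter (IsConj x), conj ((χ : G → ℂ) u) =
        (Nat.card G : ℂ) / (Nat.card (Subgroup.centralizer ({x} : Set G)) : ℂ) * conj ((χ : G → ℂ) x) := by
      intro x
      have h := sum_conj_eq x (fun u => conj ((χ : G → ℂ) u))
      rw [Finset.sum_congr rfl (g := fun _ => conj ((χ : G → ℂ) x)) fun g _ => by
        rw [Cfsg.Agent.Char.IsIrr.classFun χ.2 x g], Finset.sum_const, Finset.card_univ,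
        ← Nat.card_eq_fintype_card, nsmul_eq_mul] at h
      have : (Nat.card (Subgroup.centralizer ({x} : Set G)) : ℂ) ≠ 0 := Nat.cast_ne_zero.2 Nat.card_pos.ne'
      field_simp
      linear_combination -h
    rw [classInner]
    simp only [hF, ite_mul, zero_mul]
    rw [Finset.sum_ite, Finset.sum_ite, Finset.sum_const_zero, add_zero, Finset.filter_filter,
      Finset.filter_congr (p := fun u => ¬ IsConj t u ∧ IsConj f u) (q := IsConj f)
        (fun u _ => ⟨fun h => h.2, fun h => ⟨fun h' => hnconj (h'.trans h.symm), h⟩⟩),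
      ← Finset.mul_sum, ← Finset.mul_sum, hcls, hcls, ← hC, hC8, hCf, ha, hp, map_intCast,
      map_intCast]
    have h2 : (2 : ℂ) * (c χ : ℂ) = (a χ : ℂ) + (p χ : ℂ) := by exact_mod_cast hc χ
    push_cast
    field_simp
    linear_combination -16 * h2
  have hsum : ∑ χ : IrrCharacter G, (c χ : ℂ) * (a χ : ℂ) * (a χ : ℂ) / (d χ : ℂ) =
      256 / (Nat.card G : ℂ) := by
    have h := sum_classFun_mul_conj hFcl t t
    rw [hcount] at h
    rw [div_eq_inv_mul (256 : ℂ), h]
    refine Finset.sum_congr rfl fun χ _ => ?_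
    rw [hinner, ha, hd]
  -- the three constituents
  set one := trivialIrr G with hone_def
  have hv1 : d one = 1 ∧ a one = 1 ∧ p one = 1 ∧ c one = 1 := by
    have e : ∀ g : G, (one : G → ℂ) g = 1 := fun g => rfl
    have h1 : d one = 1 := by have := hd one; rw [e] at this; exact_mod_cast this.symm
    have h2 : a one = 1 := by have := ha one; rw [e] at this; exact_mod_cast this.symm
    have h3 : p one = 1 := by have := hp one; rw [e] at this; exact_mod_cast this.symm
    exact ⟨h1, h2, h3, by have := hc one; omega⟩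
  obtain ⟨hd1, ha1, hp1, hc1⟩ := hv1
  have h2sum : ∀ v : IrrCharacter G → ℤ, ∑ χ, 2 * c χ * v χ = ∑ χ, a χ * v χ + ∑ χ, p χ * v χ := fun v => by
    rw [← Finset.sum_add_distrib]
    exact Finset.sum_congr rfl fun χ _ => by rw [hc χ]; ring
  have hca : ∑ χ, c χ * a χ = 4 := by
    have h := h2sum a
    rw [haa, Finset.sum_congr rfl fun χ _ => mul_comm (p χ) (a χ), hap] at h
    rw [Finset.sum_congr rfl fun χ _ => mul_assoc 2 (c χ) (a χ), ← Finset.mul_sum] at h
    omega
  have hcp : ∑ χ, c χ * p χ = 2 := by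
    have h := h2sum p
    rw [hap, hpp] at h
    rw [Finset.sum_congr rfl fun χ _ => mul_assoc 2 (c χ) (p χ), ← Finset.mul_sum] at h
    omega
  have hcc : ∑ χ, c χ * c χ = 3 := by
    have h := h2sum c
    rw [Finset.sum_congr rfl fun χ _ => mul_assoc 2 (c χ) (c χ), ← Finset.mul_sum,
      Finset.sum_congr rfl fun χ _ => mul_comm (a χ) (c χ),
      Finset.sum_congr rfl fun χ _ => mul_comm (p χ) (c χ), hca, hcp] at h
    omega
  have hcd : ∑ χ, c χ * d χ = 0 := by
    have h := h2sum d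
    rw [Finset.sum_congr rfl fun χ _ => mul_assoc 2 (c χ) (d χ), ← Finset.mul_sum,
      Finset.sum_congr rfl fun χ _ => mul_comm (a χ) (d χ),
      Finset.sum_congr rfl fun χ _ => mul_comm (p χ) (d χ), hda, hdp] at h
    omega
  set T := (Finset.univ.erase one).filter (fun χ => c χ ≠ 0) with hT
  have hrest : ∀ v : IrrCharacter G → ℤ, ∑ χ, c χ * v χ = c one * v one + ∑ χ ∈ T, c χ * v χ := by
    intro v
    rw [← Finset.add_sum_erase _ _ (Finset.mem_univ one), hT, Finset.sum_filter_of_ne]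
    intro χ _ h h0
    exact h (by rw [h0, zero_mul])
  have hTc : ∑ χ ∈ T, c χ * c χ = 2 := by
    have h := hrest c
    rw [hcc, hc1] at h
    linarith
  have hTone : ∀ χ ∈ T, c χ = 1 ∨ c χ = -1 := by
    intro χ hχ
    have h0 : c χ ≠ 0 := (Finset.mem_filter.1 hχ).2
    have h1 : c χ * c χ ≤ 2 := hTc ▸ Finset.single_le_sum (fun j _ => mul_self_nonneg (c j)) hχ
    have : c χ ≤ 1 := by nlinarith
    have : -1 ≤ c χ := by nlinarith
    omega
  have hT2 : T.card = 2 := by
    rw [Finset.sum_congr rfl (g := fun _ => (1 : ℤ)) fun χ hχ => by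
      rcases hTone χ hχ with h | h <;> rw [h] <;> rfl] at hTc
    simp at hTc
    omega
  obtain ⟨χ₁, χ₂, hne, hTeq⟩ := Finset.card_eq_two.1 hT2
  have hsum2 : ∀ v : IrrCharacter G → ℤ, ∑ χ, c χ * v χ = v one + (c χ₁ * v χ₁ + c χ₂ * v χ₂) := by
    intro v
    rw [hrest v, hTeq, Finset.sum_pair hne, hc1, one_mul]
  have hbound : ∀ v : IrrCharacter G → ℤ, v one = 1 → 1 + (v χ₁ * v χ₁ + v χ₂ * v χ₂) ≤ ∑ χ, v χ * v χ := by
    intro v hv
    have hsub : insert one T ⊆ Finset.univ := Finset.subset_univ _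
    have h := Finset.sum_le_sum_of_subset_of_nonneg hsub (f := fun χ => v χ * v χ)
      (fun j _ _ => mul_self_nonneg (v j))
    rw [Finset.sum_insert (by simp [hT]), hTeq, Finset.sum_pair hne, hv] at h
    linarith
  have h1T : χ₁ ∈ T := hTeq ▸ Finset.mem_insert_self _ _
  have h2T : χ₂ ∈ T := hTeq ▸ Finset.mem_insert_of_mem (Finset.mem_singleton_self _)
  have hsq1 : c χ₁ * c χ₁ = 1 := by rcases hTone _ h1T with h | h <;> rw [h] <;> rfl
  have hsq2 : c χ₂ * c χ₂ = 1 := by rcases hTone _ h2T with h | h <;> rw [h] <;> rfl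
  have hA : c χ₁ * a χ₁ + c χ₂ * a χ₂ = 3 := by have := hsum2 a; rw [hca, ha1] at this; linarith
  have hP : c χ₁ * p χ₁ + c χ₂ * p χ₂ = 1 := by have := hsum2 p; rw [hcp, hp1] at this; linarith
  have hD : c χ₁ * d χ₁ + c χ₂ * d χ₂ = -1 := by have := hsum2 d; rw [hcd, hd1] at this; linarith
  have hP1 : c χ₁ * p χ₁ = 2 - c χ₁ * a χ₁ := by linear_combination (-(c χ₁)) * hc χ₁ + 2 * hsq1
  have hP2 : c χ₂ * p χ₂ = 2 - c χ₂ * a χ₂ := by linear_combination (-(c χ₂)) * hc χ₂ + 2 * hsq2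
  have hPP : (c χ₁ * p χ₁) * (c χ₁ * p χ₁) + (c χ₂ * p χ₂) * (c χ₂ * p χ₂) ≤ 3 := by
    have e1 : (c χ₁ * p χ₁) * (c χ₁ * p χ₁) = p χ₁ * p χ₁ := by linear_combination (p χ₁ * p χ₁) * hsq1
    have e2 : (c χ₂ * p χ₂) * (c χ₂ * p χ₂) = p χ₂ * p χ₂ := by linear_combination (p χ₂ * p χ₂) * hsq2
    have := hbound p hp1
    rw [hpp] at this
    linarith
  have hdm : ∀ χ, c χ * c χ = 1 → 4 ∣ c χ * d χ - c χ * a χ := fun χ _ => by
    rw [← mul_sub]; exact dvd_mul_of_dvd_right (hmod χ) _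
  have hG8 : ∃ m, Nat.card G = 8 * m ∧ ¬ 2 ∣ m := by
    obtain ⟨S, hS⟩ := (IsPGroup.of_card (n := 3) (by rw [hC8]; rfl) : IsPGroup 2 C).exists_le_sylow
    haveI : Nontrivial (S : Subgroup G) :=
      Finite.one_lt_card_iff_nontrivial.1 (by have := Subgroup.card_le_of_le hS; omega)
    haveI := S.isPGroup'.center_nontrivial
    obtain ⟨⟨z, hz⟩, hzo⟩ := exists_prime_orderOf_dvd_card' (G := Subgroup.center (S : Subgroup G)) 2 (by
      obtain ⟨n, hn⟩ := IsPGroup.iff_card.1 (S.isPGroup'.to_subgroup (Subgroup.center (S : Subgroup G)))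
      rw [hn]
      refine dvd_pow_self 2 fun h0 => ?_
      have := Finite.one_lt_card (α := Subgroup.center (S : Subgroup G))
      rw [hn, h0, pow_zero] at this
      omega)
    rw [Subgroup.orderOf_mk, ← Subgroup.orderOf_coe] at hzo
    have hzc : ∀ s : (S : Subgroup G), (s : G) * z = z * s := fun s =>
      congrArg Subtype.val (Subgroup.mem_center_iff.1 hz s)
    have hzC : (z : G) ∈ C := Subgroup.mem_centralizer_singleton_iff.2 (hzc ⟨t, hS htC⟩).symm
    obtain ⟨dd, hdd⟩ := hcosurj z hzC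
    have hdd2 : dd = .r 2 := d8_central dd
      (fun w => hcoinj (by rw [hcomul, hcomul, hdd]; exact hzc ⟨co w, hS (hcoC w)⟩))
      (hcoinj (by
        rw [hcomul, hdd, hco1, ← pow_two]
        exact (congrArg (fun n => (z : G) ^ n) hzo.symm).trans (pow_orderOf_eq_one _)))
      (fun h => by rw [h, hco1] at hdd; rw [← hdd, orderOf_one] at hzo; omega)
    have hSC : (S : Subgroup G) = C := le_antisymm (fun s hs => Subgroup.mem_centralizer_singleton_iff.2 (by
      rw [← hco2, ← hdd2, hdd]; exact hzc ⟨s, hs⟩)) hS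
    refine ⟨(S : Subgroup G).index, ?_, S.not_dvd_index⟩
    rw [← (S : Subgroup G).card_mul_index, hSC, hC8]
  have hd1' := hdpos χ₁
  have hd2' := hdpos χ₂
  have heq : (Nat.card G : ℚ) * (1 + ((c χ₁ * a χ₁ : ℤ) : ℚ) ^ 2 / ((c χ₁ * d χ₁ : ℤ) : ℚ) +
      ((c χ₂ * a χ₂ : ℤ) : ℚ) ^ 2 / ((c χ₂ * d χ₂ : ℤ) : ℚ)) = 256 := by
    have hs : ∑ χ : IrrCharacter G, (c χ : ℂ) * (a χ : ℂ) * (a χ : ℂ) / (d χ : ℂ) =
        1 + (((c χ₁ : ℂ) * a χ₁ * a χ₁ / d χ₁) + ((c χ₂ : ℂ) * a χ₂ * a χ₂ / d χ₂)) := by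
      rw [← Finset.add_sum_erase _ _ (Finset.mem_univ one), hc1, ha1, hd1,
        ← Finset.sum_filter_of_ne (p := fun χ => c χ ≠ 0) (fun χ _ h h0 => h (by simp [h0])), ← hT,
        hTeq, Finset.sum_pair hne]
      norm_num
    rw [hsum] at hs
    have key : ∀ C' A' D' : ℂ, C' * C' = 1 → (C' * A') ^ 2 / (C' * D') = C' * A' * A' / D' := by
      intro C' A' D' h
      have hC0 : C' ≠ 0 := left_ne_zero_of_mul_eq_one h
      field_simp
    have : (((Nat.card G : ℚ) * (1 + ((c χ₁ * a χ₁ : ℤ) : ℚ) ^ 2 / ((c χ₁ * d χ₁ : ℤ) : ℚ) +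
        ((c χ₂ * a χ₂ : ℤ) : ℚ) ^ 2 / ((c χ₂ * d χ₂ : ℤ) : ℚ)) : ℚ) : ℂ) = ((256 : ℚ) : ℂ) := by
      push_cast
      rw [key _ _ _ (by exact_mod_cast hsq1), key _ _ _ (by exact_mod_cast hsq2), add_assoc, ← hs]
      field_simp
    exact_mod_cast this
  have hne1 : c χ₁ * d χ₁ ≠ 0 := mul_ne_zero (Finset.mem_filter.1 h1T).2 hd1'.ne'
  have hne2 : c χ₂ * d χ₂ ≠ 0 := mul_ne_zero (Finset.mem_filter.1 h2T).2 hd2'.ne'
  have hpos : ∀ u v : ℤ, u + v = 1 → u * u + v * v ≤ 3 → (u = 1 ∧ v = 0) ∨ (u = 0 ∧ v = 1) := by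
    intro u v h1 h2
    have : u ≤ 1 := by nlinarith
    have : 0 ≤ u := by nlinarith
    omega
  rcases hpos _ _ hP hPP with ⟨hu, hv⟩ | ⟨hu, hv⟩
  · have hA1 : c χ₁ * a χ₁ = 1 := by linarith
    have hA2 : c χ₂ * a χ₂ = 2 := by linarith
    rw [hA1, hA2] at heq
    refine final_arith hG8 (x := c χ₁ * d χ₁) (y := c χ₂ * d χ₂) (hA1 ▸ hdm _ hsq1) (by linarith)
      hne1 hne2 ?_
    rw [← heq]; norm_num
  · have hA1 : c χ₁ * a χ₁ = 2 := by linarith
    have hA2 : c χ₂ * a χ₂ = 1 := by linarith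
    rw [hA1, hA2] at heq
    refine final_arith hG8 (x := c χ₂ * d χ₂) (y := c χ₁ * d χ₁) (hA2 ▸ hdm _ hsq2) (by linarith)
      hne2 hne1 ?_
    rw [← heq]; norm_num; ring

end Cfsg.Agent.Invol.D8Order
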