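import Cfsg.Agent.Lib.Fus.Replacement
import Cfsg.Agent.Lib.Fus.ZJTheorem
import Cfsg.Prelude.Def_DStar
import Cfsg.Prelude.Def_PLocal

/-!
The subgroup `D*(S)` of a `p`-group.
-/

set_option autoImplicit false
set_option linter.style.haveILetI false
set_option linter.unusedSectionVars false

open scoped commutatorElement

namespace Cfsg.Agent.Invol

open Subgroup

variable {G : Type*} [Group G]

/-- The commutator subgroup of `A` and `x` is central in their join. -/
def IsClassTwoJoin (A : Subgroup G) (x : G) : Prop :=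
  ⁅⁅A ⊔ zpowers x, A ⊔ zpowers x⁆, A ⊔ zpowers x⁆ = ⊥

/-- Membership in the family of `D*` relative to a subgroup. -/
structure IsDMem (R A : Subgroup G) : Prop where
  le : A ≤ R
  comm : ∀ a ∈ A, ∀ b ∈ A, a * b = b * a
  cent : ∀ x ∈ R, IsClassTwoJoin A x → ∀ a ∈ A, a * x = x * a

theorem isClassTwoJoin_mono {A B : Subgroup G} (h : A ≤ B) {x : G} (hx : IsClassTwoJoin B x) :
    IsClassTwoJoin A x :=
  le_bot_iff.1 ((commutator_mono (commutator_mono (sup_le_sup_right h _) (sup_le_sup_right h _))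
    (sup_le_sup_right h _)).trans hx.le)

theorem isClassTwoJoin_map {H : Type*} [Group H] (f : G →* H) (hf : Function.Injective f)
    (A : Subgroup G) (x : G) : IsClassTwoJoin (A.map f) (f x) ↔ IsClassTwoJoin A x := by
  rw [IsClassTwoJoin, IsClassTwoJoin, ← MonoidHom.map_zpowers, ← Subgroup.map_sup, ← map_commutator,
    ← map_commutator, map_eq_bot_iff_of_injective _ hf]

theorem IsDMem.mono {R R' A : Subgroup G} (h : IsDMem R A) (hR : R' ≤ R) (hA : A ≤ R') :
    IsDMem R' A :=
  ⟨hA, h.comm, fun x hx => h.cent x (hR hx)⟩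

theorem isDMem_map {H : Type*} [Group H] (f : G →* H) (hf : Function.Injective f)
    {R A : Subgroup G} : IsDMem (R.map f) (A.map f) ↔ IsDMem R A := by
  constructor
  · refine fun h => ⟨fun a ha => ?_, fun a ha b hb => hf ?_, fun x hx hc a ha => hf ?_⟩
    · obtain ⟨r, hr, e⟩ := h.le (mem_map_of_mem f ha)
      exact hf e ▸ hr
    · rw [map_mul, map_mul]
      exact h.comm _ (mem_map_of_mem f ha) _ (mem_map_of_mem f hb)
    · rw [map_mul, map_mul]
      exact h.cent _ (mem_map_of_mem f hx) ((isClassTwoJoin_map f hf A x).2 hc) _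
        (mem_map_of_mem f ha)
  · refine fun h => ⟨map_mono h.le, ?_, ?_⟩
    · rintro _ ⟨a, ha, rfl⟩ _ ⟨b, hb, rfl⟩
      rw [← map_mul, h.comm a ha b hb, map_mul]
    · rintro _ ⟨x, hx, rfl⟩ hc _ ⟨a, ha, rfl⟩
      rw [← map_mul, h.cent x hx ((isClassTwoJoin_map f hf A x).1 hc) a ha, map_mul]

variable [Finite G] {p : ℕ} [Fact p.Prime]

/-- A member centralises every abelian subgroup that it normalises. -/
theorem IsDMem.centralizes {R A B : Subgroup G} (hR : IsPGroup p R) (h : IsDMem R A) (hBR : B ≤ R)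
    (hBc : ∀ x ∈ B, ∀ y ∈ B, x * y = y * x) (hAB : A ≤ normalizer (B : Set G)) :
    ∀ b ∈ B, ∀ a ∈ A, a * b = b * a := by
  let L : ℕ → Subgroup G := fun n => Nat.rec B (fun _ K => ⁅K, A⁆) n
  have hLB : ∀ n, L n ≤ B := by
    intro n
    induction n with
    | zero => exact le_rfl
    | succ n ih =>
      exact (commutator_mono ih le_rfl).trans (le_normalizer_iff_commutator_le_left.1 hAB)
  have hLR : ∀ n, L n ≤ R.lowerCentralSeries n := by
    intro n
    induction n with
    | zero => exact hBR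
    | succ n ih => exact commutator_mono ih h.le
  obtain ⟨n, hn⟩ : ∃ n, R.lowerCentralSeries n = ⊥ := by
    haveI := hR.isNilpotent
    obtain ⟨n, hn⟩ := Subgroup.nilpotent_iff_lowerCentralSeries.1 (inferInstance : Group.IsNilpotent R)
    refine ⟨n, ?_⟩
    have hmap : ∀ m, ((⊤ : Subgroup R).lowerCentralSeries m).map R.subtype =
        R.lowerCentralSeries m := by
      intro m
      induction m with
      | zero => simp [← MonoidHom.range_eq_map]
      | succ m ih => rw [Subgroup.lowerCentralSeries_succ, Subgroup.lowerCentralSeries_succ, map_commutator, ih,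
          ← MonoidHom.range_eq_map, range_subtype]
    rw [← hmap, hn, Subgroup.map_bot]
  have hstep : ∀ m, (∀ b ∈ L (m + 1), ∀ a ∈ A, a * b = b * a) →
      ∀ b ∈ L m, ∀ a ∈ A, a * b = b * a := by
    intro m hm b hb
    have hbB := hLB m hb
    refine h.cent b (hBR hbB) ?_
    set X := A ⊔ zpowers b with hX
    have hAX : A ≤ X := le_sup_left
    have hbX : b ∈ X := le_sup_right (a := A) (mem_zpowers b)
    have hL1 : L (m + 1) ≤ centralizer (X : Set G) := by
      refine le_centralizer_iff.1 (sup_le (fun a ha => mem_centralizer_iff.2 fun y hy =>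
        (hm y hy a ha).symm) ((zpowers_le).2 (mem_centralizer_iff.2 fun y hy => ?_)))
      exact hBc y (hLB (m + 1) hy) b hbB
    have hba : ∀ a ∈ A, ⁅b, a⁆ ∈ centralizer (X : Set G) := fun a ha =>
      hL1 (commutator_mem_commutator hb ha)
    refine commutator_eq_bot_iff_le_centralizer.2 (commutator_le.2 fun u hu v hv => ?_)
    have hmul : ∀ g w₁ w₂ : G, w₁ ∈ X →
        ⁅g, w₁⁆ ∈ centralizer (X : Set G) → ⁅g, w₂⁆ ∈ centralizer (X : Set G) →
        ⁅g, w₁ * w₂⁆ ∈ centralizer (X : Set G) := by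
      intro g w₁ w₂ hw h1 h2
      have h3 := mem_centralizer_iff.1 h2 w₁ hw
      rw [show ⁅g, w₁ * w₂⁆ = ⁅g, w₁⁆ * (w₁ * ⁅g, w₂⁆ * w₁⁻¹) by
        simp only [commutatorElement_def]; group, h3, mul_inv_cancel_right]
      exact mul_mem h1 h2
    have hinv : ∀ g w : G, w ∈ X → ⁅g, w⁆ ∈ centralizer (X : Set G) →
        ⁅g, w⁻¹⁆ ∈ centralizer (X : Set G) := by
      intro g w hw h1
      have h3 := mem_centralizer_iff.1 (inv_mem h1) w⁻¹ (inv_mem hw)
      rw [show ⁅g, w⁻¹⁆ = w⁻¹ * ⁅g, w⁆⁻¹ * w⁻¹⁻¹ by simp only [commutatorElement_def]; group,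
        h3, mul_inv_cancel_right]
      exact inv_mem h1
    have hclo : X = Subgroup.closure ((A : Set G) ∪ {b}) := by
      rw [Subgroup.closure_union, closure_eq, ← zpowers_eq_closure]
    have hgen : ∀ g ∈ (A : Set G) ∪ {b}, ∀ w ∈ X, ⁅g, w⁆ ∈ centralizer (X : Set G) := by
      intro g hg w hw
      rw [hclo] at hw
      refine (show w ∈ X ∧ ⁅g, w⁆ ∈ centralizer (X : Set G) from ?_).2
      induction hw using Subgroup.closure_induction with
      | mem w hw =>
        refine ⟨hclo ▸ subset_closure hw, ?_⟩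
        rcases hg with hg | hg <;> rcases hw with hw | hw
        · rw [commutatorElement_eq_one_iff_mul_comm.2 (h.comm g hg w hw)]; exact one_mem _
        · rw [Set.mem_singleton_iff] at hw
          rw [hw, ← commutatorElement_inv]
          exact inv_mem (hba g hg)
        · rw [Set.mem_singleton_iff] at hg
          rw [hg]; exact hba w hw
        · rw [Set.mem_singleton_iff] at hg hw
          rw [hg, hw, commutatorElement_self]; exact one_mem _
      | one => exact ⟨one_mem _, by rw [commutatorElement_one_right]; exact one_mem _⟩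
      | mul x y _ _ hx hy => exact ⟨mul_mem hx.1 hy.1, hmul g x y hx.1 hx.2 hy.2⟩
      | inv x _ hx => exact ⟨inv_mem hx.1, hinv g x hx.1 hx.2⟩
    replace hu : u ∈ Subgroup.closure ((A : Set G) ∪ {b}) := hclo ▸ hu
    refine (show u ∈ X ∧ ⁅v, u⁆ ∈ centralizer (X : Set G) from ?_).2 |> fun h1 => by
      rw [← commutatorElement_inv]; exact inv_mem h1
    induction hu using Subgroup.closure_induction with
    | mem u hu =>
      refine ⟨hclo ▸ subset_closure hu, ?_⟩
      rw [← commutatorElement_inv]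
      exact inv_mem (hgen u hu v hv)
    | one => exact ⟨one_mem _, by rw [commutatorElement_one_right]; exact one_mem _⟩
    | mul x y _ _ hx hy => exact ⟨mul_mem hx.1 hy.1, hmul v x y hx.1 hx.2 hy.2⟩
    | inv x _ hx => exact ⟨inv_mem hx.1, hinv v x hx.1 hx.2⟩
  have hn' : ∀ b ∈ L n, ∀ a ∈ A, a * b = b * a := fun b hb a _ => by
    rw [mem_bot.1 (hn.le (hLR n hb)), mul_one, one_mul]
  have hall : ∀ k, ∀ m, n ≤ m + k → ∀ b ∈ L m, ∀ a ∈ A, a * b = b * a := by
    intro k
    induction k with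
    | zero =>
      intro m hm b hb a _
      have : b ∈ R.lowerCentralSeries n := R.lowerCentralSeries_antitone (by omega) (hLR m hb)
      rw [mem_bot.1 (hn.le this), mul_one, one_mul]
    | succ k ih => exact fun m hm => hstep m (ih (m + 1) (by omega))
  exact hall n 0 (by omega)

/-- Two members commute. -/
theorem IsDMem.commute {R A B : Subgroup G} (hR : IsPGroup p R) (hA : IsDMem R A)
    (hB : IsDMem R B) : ∀ a ∈ A, ∀ b ∈ B, a * b = b * a := by
  induction hn : Nat.card R using Nat.strong_induction_on generalizing R A B with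
  | _ n IH =>
  by_cases hAR : A = R
  · exact fun a ha b hb => hA.comm a ha b (hAR ▸ hB.le hb)
  obtain ⟨M, hM, hAM⟩ : ∃ M : Subgroup R, IsCoatom M ∧ A.subgroupOf R ≤ M := by
    rcases IsCoatomic.eq_top_or_exists_le_coatom (A.subgroupOf R) with h | h
    · exact absurd (le_antisymm hA.le (subgroupOf_eq_top.1 h)) hAR
    · exact h
  haveI := hR.isNilpotent
  haveI hMn : M.Normal := NormalizerCondition.normal_of_coatom M Group.normalizerCondition_of_isNilpotent hM
  set M' := M.map R.subtype with hM'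
  have hAM' : A ≤ M' := fun a ha => ⟨⟨a, hA.le ha⟩, hAM (mem_subgroupOf.2 ha), rfl⟩
  have hM'R : M' ≤ R := map_subtype_le M
  have hlt : Nat.card M' < n := by
    refine hn ▸ Fus.card_lt_of_lt (lt_of_le_of_ne hM'R fun e => hM.1 (eq_top_iff.2 fun x _ => ?_))
    obtain ⟨y, hy, hyx⟩ := e.ge x.2
    exact Subtype.ext hyx ▸ hy
  have hconjM : ∀ r ∈ R, ∀ x ∈ M', r * x * r⁻¹ ∈ M' := by
    rintro r hr _ ⟨x, hx, rfl⟩
    exact ⟨⟨r, hr⟩ * x * ⟨r, hr⟩⁻¹, hMn.conj_mem x hx _, rfl⟩
  have hcj : ∀ r ∈ R, IsDMem M' (A.map (MulAut.conj r).toMonoidHom) := by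
    intro r hr
    have h1 := (isDMem_map (MulAut.conj r).toMonoidHom (MulAut.conj r).injective).2 hA
    refine h1.mono ?_ ?_
    · intro x hx
      exact ⟨r⁻¹ * x * r, mul_mem (mul_mem (inv_mem hr) (hM'R hx)) hr, by simp [mul_assoc]⟩
    · rintro _ ⟨a, ha, rfl⟩
      exact hconjM r hr a (hAM' ha)
  set S₀ := {x : G | ∃ r ∈ R, x ∈ A.map (MulAut.conj r).toMonoidHom} with hS₀
  have hS₀c : ∀ x ∈ S₀, ∀ y ∈ S₀, x * y = y * x := by
    rintro x ⟨r, hr, hx⟩ y ⟨s, hs, hy⟩
    exact IH _ hlt (hR.to_le hM'R) (hcj r hr) (hcj s hs) rfl x hx y hy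
  haveI := isMulCommutative_closure hS₀c
  set W := Subgroup.closure S₀ with hW
  have hWR : W ≤ R := (closure_le R).2 fun x ⟨r, hr, hx⟩ => hM'R ((hcj r hr).le hx)
  have hWc : ∀ x ∈ W, ∀ y ∈ W, x * y = y * x := fun x hx y hy =>
    congrArg Subtype.val (IsMulCommutative.is_comm.comm (⟨x, hx⟩ : W) ⟨y, hy⟩)
  have hRW : ∀ r ∈ R, ∀ x ∈ W, r * x * r⁻¹ ∈ W := by
    intro r hr x hx
    have : W ≤ W.comap (MulAut.conj r).toMonoidHom := by
      refine (closure_le _).2 ?_
      rintro y ⟨s, hs, a, ha, rfl⟩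
      exact subset_closure ⟨r * s, mul_mem hr hs, a, ha, by simp [mul_assoc]⟩
    exact this hx
  have hBW : B ≤ normalizer (W : Set G) := fun b hb =>
    Fus.mem_normalizer_of_forall (hRW b (hB.le hb)) fun x hx => by
      simpa using hRW b⁻¹ (inv_mem (hB.le hb)) x hx
  exact fun a ha b hb => (hB.centralizes hR hWR hWc hBW a
    (subset_closure ⟨1, one_mem R, a, ha, by simp⟩) b hb).symm

omit [Finite G] in
theorem mem_dStarFamily_iff {S : Type*} [Group S] (A : Subgroup S) :
    A ∈ dStarFamily S ↔ IsDMem (⊤ : Subgroup S) A := by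
  constructor
  · exact fun h => ⟨le_top, fun a ha b hb => congrArg Subtype.val
      (h.1.is_comm.comm (⟨a, ha⟩ : A) ⟨b, hb⟩), fun x _ => h.2 x⟩
  · exact fun h => ⟨⟨⟨fun a b => Subtype.ext (h.comm a a.2 b b.2)⟩⟩, fun x => h.cent x (mem_top x)⟩

/-- `D*(S)` lies in the family. -/
theorem dStar_isDMem {S : Type*} [Group S] [Finite S] (hS : IsPGroup p S) :
    IsDMem (⊤ : Subgroup S) (dStar S) := by
  have hc : ∀ a ∈ dStar S, ∀ b ∈ dStar S, a * b = b * a := by
    have h0 : dStar S ≤ centralizer (dStar S : Set S) :=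
      sSup_le fun A hA => le_centralizer_iff.2 (sSup_le fun B hB b hb => mem_centralizer_iff.2
        fun a ha => IsDMem.commute (hS.to_subgroup ⊤) ((mem_dStarFamily_iff A).1 hA)
          ((mem_dStarFamily_iff B).1 hB) a ha b hb)
    exact fun a ha b hb => mem_centralizer_iff.1 (h0 hb) a ha
  refine ⟨le_top, hc, fun x hx hcl a ha => ?_⟩
  have h1 : dStar S ≤ centralizer ({x} : Set S) := sSup_le fun A hA b hb =>
    mem_centralizer_iff.2 fun y hy => by
      rw [Set.mem_singleton_iff.1 hy]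
      exact (((mem_dStarFamily_iff A).1 hA).cent x hx
        (isClassTwoJoin_mono (le_sSup hA) hcl) b hb).symm
  exact (mem_centralizer_iff.1 (h1 ha) x rfl).symm

theorem le_dStar {S : Type*} [Group S] {A : Subgroup S} (h : IsDMem (⊤ : Subgroup S) A) :
    A ≤ dStar S := le_sSup ((mem_dStarFamily_iff A).2 h)

theorem dStarOf_isDMem {P : Subgroup G} (hP : IsPGroup p P) : IsDMem P (dStarOf P) := by
  have h := (isDMem_map P.subtype P.subtype_injective).2 (dStar_isDMem hP)
  rwa [← MonoidHom.range_eq_map, range_subtype] at h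

theorem IsDMem.le_dStarOf {P A : Subgroup G} (h : IsDMem P A) : A ≤ dStarOf P := by
  have he : (A.subgroupOf P).map P.subtype = A := by
    rw [subgroupOf_map_subtype, inf_eq_left.2 h.le]
  have h1 : IsDMem (⊤ : Subgroup P) (A.subgroupOf P) := by
    refine (isDMem_map P.subtype P.subtype_injective).1 ?_
    rw [← MonoidHom.range_eq_map, range_subtype, he]
    exact h
  rw [← he]
  exact map_mono (Invol.le_dStar h1)

/-- `D*(S)` is normalised by the automorphisms preserving `S`. -/
theorem conj_mem_dStarOf {P : Subgroup G} (hP : IsPGroup p P) {g x : G}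
    (hg : g ∈ normalizer (P : Set G)) (hx : x ∈ dStarOf P) : g * x * g⁻¹ ∈ dStarOf P := by
  have h1 := (isDMem_map (MulAut.conj g).toMonoidHom (MulAut.conj g).injective).2 (dStarOf_isDMem hP)
  rw [show P.map (MulAut.conj g).toMonoidHom = P from
    ext fun y => ⟨by rintro ⟨z, hz, rfl⟩; exact (mem_normalizer_iff.1 hg z).1 hz,
      fun hy => ⟨g⁻¹ * y * g, (mem_normalizer_iff''.1 hg y).1 hy, by simp [mul_assoc]⟩⟩] at h1
  exact h1.le_dStarOf ⟨x, hx, rfl⟩

end Cfsg.Agent.Invol
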