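import Mathlib
import Cfsg.Prelude
import Cfsg.Agent.Lib.Char.Kernel
import Cfsg.Agent.Lib.Char.Average
import Cfsg.Agent.Lib.Char.Quotient
import Cfsg.Agent.Lib.Grp.Coprime
import Cfsg.Agent.Lib.Grp.Solvable
import Cfsg.Agent.Lib.Grp.MaximalCentralizers

/-!
A faithful irreducible character of a solvable group with a non-normal Sylow `p`-subgroup has degree
divisible by a prime power congruent to `-1`, `0` or `1` modulo `p`.
-/

set_option autoImplicit false

open Cfsg
open scoped Pointwise ComplexConjugate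

namespace Cfsg.Agent.Invol.DegMod

open Cfsg.Agent.Char Cfsg.Agent.Grp

universe u

/-- The conclusion. -/
def Good (p n : ℕ) : Prop :=
  ∃ q : ℕ, IsPrimePow q ∧ q ∣ n ∧
    ((q : ℤ) ≡ -1 [ZMOD p] ∨ (q : ℤ) ≡ 0 [ZMOD p] ∨ (q : ℤ) ≡ 1 [ZMOD p])

theorem Good.of_dvd {p m n : ℕ} (h : Good p m) (hmn : m ∣ n) : Good p n := by
  obtain ⟨q, hq, hd, hc⟩ := h
  exact ⟨q, hq, hd.trans hmn, hc⟩

/-- A character with irreducible restriction is irreducible. -/
theorem irr_of_res_irr {H : Type u} [Group H] [Fintype H] (K : Subgroup H) [Fintype K] {f : H → ℂ}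
    (hf : IsCharacter H f) (hK : IsIrrCharacter K (fun k : K => f k)) : IsIrrCharacter H f := by
  classical
  obtain ⟨φ, hφ⟩ := IsChar.exists_constituent' hf (by simpa using IsIrr.one_ne_zero hK)
  obtain ⟨a, ha, hd⟩ := IsChar.exists_decomp_inner hf
  have hpos : 1 ≤ a φ := Nat.pos_of_ne_zero fun h0 => hφ (by rw [ha φ, h0, Nat.cast_zero])
  have hres := IsChar.res (IsIrr.isCharacter φ.2) K
  obtain ⟨n, hn⟩ := IsChar.one_eq_nat (IsIrr.isCharacter φ.2)
  obtain ⟨m, hm⟩ := IsChar.one_eq_nat hf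
  have hnm : n ≤ m := degree_le_of_constituent hf φ.2 hφ hm hn
  have hne : classInner (fun k : K => (φ : H → ℂ) k) (fun k : K => f k) ≠ 0 := by
    intro h0
    have hexp : (fun k : K => f k) = ∑ ψ : IrrCharacter H, (a ψ : ℂ) • fun k : K => (ψ : H → ℂ) k := by
      funext k
      rw [hd]
      simp [Finset.sum_apply]
    have h1 := classInner_self_irr hK
    -- orthogonality to `φ|K` forces `φ|K` to vanish
    have h2 : classInner (fun k : K => (φ : H → ℂ) k) (fun k : K => f k) =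
        ∑ ψ : IrrCharacter H, (a ψ : ℂ) *
          classInner (fun k : K => (φ : H → ℂ) k) (fun k : K => (ψ : H → ℂ) k) := by
      rw [hexp, classInner_sum_right]
      refine Finset.sum_congr rfl fun ψ _ => ?_
      rw [classInner_smul_right, map_natCast]
    choose b hb using fun ψ : IrrCharacter H =>
      IsChar.classInner_nat hres (IsChar.res (IsIrr.isCharacter ψ.2) K)
    simp only [hb] at h2
    rw [h0] at h2
    have h3 : ∑ ψ : IrrCharacter H, a ψ * b ψ = 0 := by exact_mod_cast h2.symm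
    have h4 := Finset.sum_eq_zero_iff.mp h3 φ (Finset.mem_univ _)
    have h5 : b φ = 0 := (mul_eq_zero.mp h4).resolve_left (by omega)
    have h6 := hb φ
    rw [h5, Nat.cast_zero, classInner_self_eq_zero] at h6
    exact IsIrr.one_ne_zero φ.2 (by simpa using congrFun h6 1)
  have hle : m ≤ n := degree_le_of_constituent hres hK hne (by simpa using hn) (by simpa using hm)
  rw [eq_of_constituent_degree hf φ.2 hφ (by rw [hm, hn, le_antisymm hle hnm])]
  exact φ.2

/-- Over an abelian quotient, a character with homogeneous restriction either vanishes off the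
normal subgroup, and then is fully ramified, or its support generates, and then it restricts
irreducibly. -/
theorem ramification {M : Type u} [Group M] [Fintype M] (K : Subgroup M) [K.Normal] [Fintype K]
    (hab : ∀ a b : M, a * b * a⁻¹ * b⁻¹ ∈ K) {χ : M → ℂ} (hχ : IsIrrCharacter M χ) {θ : K → ℂ}
    (hθ : IsIrrCharacter K θ) {e : ℕ} (he : ∀ k : K, χ k = e * θ k)
    (hsupp : (∀ m : M, m ∉ K → χ m = 0) ∨ Subgroup.closure {m : M | χ m ≠ 0} ⊔ K = ⊤) :
    e ^ 2 = K.index ∨ e = 1 := by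
  classical
  have hKc : (Nat.card K : ℂ) ≠ 0 := Nat.cast_ne_zero.mpr Nat.card_pos.ne'
  have hMc : (Nat.card M : ℂ) ≠ 0 := Nat.cast_ne_zero.mpr Nat.card_pos.ne'
  have hsumK : ∑ k : K, χ k * conj (χ k) = (e : ℂ) ^ 2 * Nat.card K := by
    have h1 := classInner_self_irr hθ
    simp only [classInner] at h1
    rw [inv_mul_eq_one₀ hKc] at h1
    rw [h1, Finset.mul_sum]
    refine Finset.sum_congr rfl fun k _ => ?_
    rw [he k, map_mul, map_natCast]
    ring
  have hext : ∀ F : M → ℂ, ∑ m : M, (if m ∈ K then F m else 0) = ∑ k : K, F k := fun F => by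
    rw [← Finset.sum_filter]
    exact (Finset.sum_subtype _ (by simp) F)
  have hM : ∑ m : M, χ m * conj (χ m) = Nat.card M := by
    have h1 := classInner_self_irr hχ
    simp only [classInner] at h1
    exact ((inv_mul_eq_one₀ hMc).mp h1).symm
  rcases hsupp with h0 | hgen
  · left
    have h1 : ∑ m : M, χ m * conj (χ m) = (e : ℂ) ^ 2 * Nat.card K := by
      rw [← hsumK, ← hext fun m => χ m * conj (χ m)]
      refine Finset.sum_congr rfl fun m _ => ?_
      split_ifs with hm
      · rfl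
      · simp [h0 m hm]
    rw [hM, ← K.card_mul_index, Nat.cast_mul, mul_comm] at h1
    exact_mod_cast (mul_right_cancel₀ hKc h1).symm
  · right
    have hcomm : ∀ a b : M ⧸ K, a * b = b * a := by
      intro a b
      induction a using QuotientGroup.induction_on with | _ x => ?_
      induction b using QuotientGroup.induction_on with | _ y => ?_
      rw [← mul_inv_eq_one, mul_inv_rev, ← mul_assoc]
      rw [← QuotientGroup.mk_mul, ← QuotientGroup.mk_inv, ← QuotientGroup.mk_inv,
        ← QuotientGroup.mk_mul, ← QuotientGroup.mk_mul]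
      exact (QuotientGroup.eq_one_iff _).mpr (hab x y)
    haveI : Fintype (M ⧸ K) := Fintype.ofFinite _
    have hkey : ∑ φ : IrrCharacter (M ⧸ K),
        classInner (fun m : M => (φ : M ⧸ K → ℂ) (m : M ⧸ K) * χ m) χ = (e : ℂ) ^ 2 := by
      simp only [classInner]
      rw [← Finset.mul_sum, Finset.sum_comm]
      have h1 : ∀ m : M, ∑ φ : IrrCharacter (M ⧸ K), (φ : M ⧸ K → ℂ) (m : M ⧸ K) * χ m * conj (χ m) =
          if m ∈ K then (K.index : ℂ) * (χ m * conj (χ m)) else 0 := by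
        intro m
        have h2 := regular_expansion (G := M ⧸ K) (m : M ⧸ K)
        simp only [fun φ : IrrCharacter (M ⧸ K) => IsIrr.one_of_comm hcomm φ.2, one_mul] at h2
        rw [← Finset.sum_mul, ← Finset.sum_mul, h2]
        by_cases hm : m ∈ K
        · rw [if_pos hm, if_pos ((QuotientGroup.eq_one_iff m).mpr hm), mul_assoc, Subgroup.index]
        · rw [if_neg hm, if_neg (fun h => hm ((QuotientGroup.eq_one_iff m).mp h)), zero_mul, zero_mul]
      rw [Finset.sum_congr rfl fun m _ => h1 m, hext fun m => (K.index : ℂ) * (χ m * conj (χ m)),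
        ← Finset.mul_sum, hsumK, ← K.card_mul_index, Nat.cast_mul]
      have hi : (K.index : ℂ) ≠ 0 := Nat.cast_ne_zero.mpr Subgroup.index_ne_zero_of_finite
      field_simp
    have hone : ∀ φ : IrrCharacter (M ⧸ K), classInner (fun m : M => (φ : M ⧸ K → ℂ) (m : M ⧸ K) * χ m) χ =
        if φ = ⟨_, isIrr_one⟩ then 1 else 0 := by
      intro φ
      obtain ⟨l, hl⟩ := linearHom_of_isCharacter (IsIrr.isCharacter φ.2)
        (IsIrr.one_of_comm hcomm φ.2)
      set l' : M →* ℂˣ := l.comp (QuotientGroup.mk' K) with hl'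
      have hfun : (fun m : M => (φ : M ⧸ K → ℂ) (m : M ⧸ K) * χ m) = fun m => (l' m : ℂ) * χ m :=
        funext fun m => by rw [hl]; rfl
      rw [hfun, classInner_irr_eq_ite (IsIrr.mul_linear hχ l') hχ]
      refine if_congr ⟨fun h => ?_, fun h => ?_⟩ rfl rfl
      · have hker : Subgroup.closure {m : M | χ m ≠ 0} ⊔ K ≤ l'.ker := by
          refine sup_le ((Subgroup.closure_le _).mpr fun m hm => ?_) fun k hk => ?_
          · refine MonoidHom.mem_ker.mpr (Units.ext ?_)
            exact (mul_eq_right₀ hm).mp (congrFun h m)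
          · show l (QuotientGroup.mk' K k) = 1
            rw [show QuotientGroup.mk' K k = 1 from (QuotientGroup.eq_one_iff k).mpr hk, map_one]
        refine Subtype.ext (funext fun q => ?_)
        obtain ⟨m, rfl⟩ := QuotientGroup.mk'_surjective K q
        rw [hl]
        show ((l' m : ℂˣ) : ℂ) = 1
        rw [MonoidHom.mem_ker.mp (hker (hgen ▸ Subgroup.mem_top m)), Units.val_one]
      · funext m
        have h1 : ((l' m : ℂˣ) : ℂ) = 1 := by
          have := congrFun hl (m : M ⧸ K)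
          rw [h] at this
          exact this.symm
        rw [h1, one_mul]
    rw [Finset.sum_congr rfl fun φ _ => hone φ, Finset.sum_ite_eq' Finset.univ,
      if_pos (Finset.mem_univ _)] at hkey
    have h2 : e ^ 2 = 1 := by exact_mod_cast hkey.symm
    exact (Nat.pow_eq_one.mp h2).resolve_right two_ne_zero

variable {G : Type u} [Group G]

/-- The intersection of the kernels of the constituents of a faithful character is trivial. -/
theorem eq_one_of_constituents [Fintype G] {χ : G → ℂ} (hχ : IsCharacter G χ)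
    (hfaith : ∀ g : G, χ g = χ 1 → g = 1) (N : Subgroup G) [Fintype N] {x : N}
    (h : ∀ φ : IrrCharacter N, classInner (fun n : N => χ n) (φ : N → ℂ) ≠ 0 →
      (φ : N → ℂ) x = (φ : N → ℂ) 1) : x = 1 := by
  by_contra hx
  have hne : (fun n : N => χ n) x ≠ (fun n : N => χ n) 1 := fun h1 =>
    hx (Subtype.ext (hfaith x (by simpa using h1)))
  obtain ⟨φ, hφ, hφx⟩ := exists_nonprincipal_constituent (IsChar.res hχ N) hne
  exact hφx (h φ hφ)

/-- Either some constituent on a normal subgroup gives the conclusion by induction, or its Sylow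
subgroups are normal in the group. -/
theorem good_or_pclosed [Fintype G] {p : ℕ} [Fact p.Prime] {χ : G → ℂ}
    (hχ : IsIrrCharacter G χ) (hfaith : ∀ g : G, χ g = χ 1 → g = 1) {n : ℕ} (hn : χ 1 = n)
    (N : Subgroup G) [N.Normal]
    (ih : ∀ (Q : Type u) [Group Q] [Fintype Q], Nat.card Q ≤ Nat.card N → Group.IsSolvable Q →
      ∀ θ : Q → ℂ, IsIrrCharacter Q θ → (∀ g : Q, θ g = θ 1 → g = 1) → ∀ m : ℕ, θ 1 = m →
      ∀ S : Sylow p Q, ¬ (S : Subgroup Q).Normal → Good p m)
    (hsol : Group.IsSolvable G) (X : Subgroup G) (hX : IsSylowIn p X N) :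
    Good p n ∨ X.Normal := by
  classical
  haveI : Fintype N := Fintype.ofFinite N
  obtain ⟨S, rfl⟩ := isSylowIn_iff.mp hX
  by_cases hgood : Good p n
  · exact .inl hgood
  refine .inr ?_
  suffices hS : (S : Subgroup N).Normal by
    haveI := S.characteristic_of_normal hS
    infer_instance
  have hres := IsChar.res (IsIrr.isCharacter hχ) N
  have hstep : ∀ φ : IrrCharacter N, classInner (fun x : N => χ x) (φ : N → ℂ) ≠ 0 →
      ((S : Subgroup N) ⊔ charKer (IsIrr.isCharacter φ.2)).Normal := by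
    intro φ hφ
    set L := charKer (IsIrr.isCharacter φ.2) with hL
    haveI : L.Normal := charKer_normal _
    haveI : Fintype (N ⧸ L) := Fintype.ofFinite _
    obtain ⟨θ, hθ, hθe⟩ := IsIrr.exists_factor_quotient φ.2 L fun k hk => (mem_charKer _).mp hk
    set S' := S.mapSurjective (QuotientGroup.mk'_surjective L) with hS'
    have hS'n : (S' : Subgroup (N ⧸ L)).Normal := by
      by_contra hSn
      apply hgood
      obtain ⟨c, hc⟩ := IsChar.classInner_nat hres (IsIrr.isCharacter φ.2)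
      obtain ⟨d, hd⟩ := IsChar.one_eq_nat (IsIrr.isCharacter φ.2)
      have h1 := clifford_one N hχ φ.2 hφ
      rw [hn, hc, hd] at h1
      have hdvd : d ∣ n := ⟨c * (inertia N (φ : N → ℂ)).index, by
        have : (n : ℂ) = ((d * (c * (inertia N (φ : N → ℂ)).index) : ℕ) : ℂ) := by
          rw [h1]; push_cast; ring
        exact_mod_cast this⟩
      refine Good.of_dvd (ih (N ⧸ L) (Nat.le_of_dvd Nat.card_pos (Subgroup.card_quotient_dvd_card L))
        inferInstance θ hθ ?_ d ?_ S' hSn) hdvd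
      · intro q hq
        obtain ⟨x, rfl⟩ := QuotientGroup.mk'_surjective L q
        refine (QuotientGroup.eq_one_iff x).mpr ((mem_charKer _).mpr ?_)
        rw [← hθe x, ← hθe 1, QuotientGroup.mk_one]
        exact hq
      · rw [← hd, ← hθe 1, QuotientGroup.mk_one]
    have h2 : (S : Subgroup N) ⊔ L = ((S : Subgroup N).map (QuotientGroup.mk' L)).comap
        (QuotientGroup.mk' L) := by
      rw [Subgroup.comap_map_eq, QuotientGroup.ker_mk']
    rw [h2]
    exact Subgroup.Normal.comap hS'n _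
  set U : Subgroup N := ⨅ φ : {φ : IrrCharacter N // classInner (fun x : N => χ x) (φ : N → ℂ) ≠ 0},
    (S : Subgroup N) ⊔ charKer (IsIrr.isCharacter φ.1.2) with hU
  have hUn : U.Normal := Subgroup.normal_iInf_normal fun φ => hstep φ.1 φ.2
  have hUp : IsPGroup p U := by
    obtain ⟨a, ha⟩ := IsPGroup.iff_card.mp S.isPGroup'
    intro x
    refine ⟨a, Subtype.ext ?_⟩
    refine eq_one_of_constituents (IsIrr.isCharacter hχ) hfaith N fun φ hφ => ?_
    set L := charKer (IsIrr.isCharacter φ.2) with hL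
    haveI : L.Normal := charKer_normal _
    have hxmem : (x : N) ∈ (S : Subgroup N) ⊔ L := (Subgroup.mem_iInf.mp x.2) ⟨φ, hφ⟩
    obtain ⟨s, hs, l, hl, he⟩ := Subgroup.mem_sup_of_normal_right.mp hxmem
    have hsa : s ^ p ^ a = 1 := by
      have h1 := pow_card_eq_one' (x := (⟨s, hs⟩ : (S : Subgroup N)))
      rw [ha] at h1
      simpa using congrArg Subtype.val h1
    have hmem : ((x ^ p ^ a : U) : N) ∈ L := by
      rw [SubgroupClass.coe_pow, ← QuotientGroup.eq_one_iff, QuotientGroup.mk_pow, ← he,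
        QuotientGroup.mk_mul, (QuotientGroup.eq_one_iff l).mpr hl, mul_one, ← QuotientGroup.mk_pow,
        hsa, QuotientGroup.mk_one]
    exact (mem_charKer _).mp hmem
  have heq := S.is_maximal' hUp (le_iInf fun φ => le_sup_left)
  rw [← heq]
  exact hUn

theorem index_eq_relIndex [Finite G] {H K : Subgroup G} [K.Normal] (h : K ⊔ H = ⊤) :
    H.index = H.relIndex K := by
  have h1 := card_sup_mul_card_inf_normal (H := H) (N := K)
  rw [sup_comm, h, Subgroup.card_top] at h1
  have h2 := relIndex_mul_card_inf K H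
  rw [inf_comm] at h2
  have h3 := H.card_mul_index
  refine Nat.eq_of_mul_eq_mul_left
    (Nat.mul_pos Nat.card_pos Nat.card_pos : 0 < Nat.card H * Nat.card ↥(H ⊓ K)) ?_
  calc Nat.card H * Nat.card ↥(H ⊓ K) * H.index
      = Nat.card H * H.index * Nat.card ↥(H ⊓ K) := by ring
    _ = Nat.card H * Nat.card K := by rw [h3, h1]
    _ = Nat.card H * Nat.card ↥(H ⊓ K) * H.relIndex K := by rw [← h2]; ring

theorem normal_of_commutator_le {M : Subgroup G} (h : commutator G ≤ M) : M.Normal :=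
  ⟨fun m hm g => by
    have h1 : g * m * g⁻¹ * m⁻¹ ∈ M :=
      h (Subgroup.commutator_mem_commutator (Subgroup.mem_top g) (Subgroup.mem_top m))
    have := mul_mem h1 hm
    rwa [inv_mul_cancel_right] at this⟩

/-- The induction. -/
theorem main_induction {p : ℕ} [hp : Fact p.Prime] : ∀ (k : ℕ) (G : Type u) [Group G] [Fintype G],
    Nat.card G = k → Group.IsSolvable G → ∀ χ : G → ℂ, IsIrrCharacter G χ →
    (∀ g : G, χ g = χ 1 → g = 1) → ∀ n : ℕ, χ 1 = n →
    ∀ P : Sylow p G, ¬ (P : Subgroup G).Normal → Good p n := by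
  intro k
  induction k using Nat.strong_induction_on with
  | _ k ih =>
  intro G _ _ hk hsol χ hχ hfaith n hn P hPn
  classical
  by_contra hgood
  have hpn : ¬ p ∣ n := fun hd => hgood
    ⟨p, hp.out.isPrimePow, hd, .inr (.inl (Int.modEq_zero_iff_dvd.mpr dvd_rfl))⟩
  have IH : ∀ (Q : Type u) [Group Q] [Fintype Q], Nat.card Q < Nat.card G → Group.IsSolvable Q →
      ∀ θ : Q → ℂ, IsIrrCharacter Q θ → (∀ g : Q, θ g = θ 1 → g = 1) → ∀ m : ℕ, θ 1 = m →
      ∀ S : Sylow p Q, ¬ (S : Subgroup Q).Normal → Good p m :=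
    fun Q _ _ hQ => ih _ (hk ▸ hQ) Q rfl
  have hclosed : ∀ N : Subgroup G, N.Normal → N ≠ ⊤ → ∀ X, IsSylowIn p X N → X.Normal := by
    intro N hN hNt X hX
    haveI := hN
    exact (good_or_pclosed hχ hfaith hn N
      (fun Q _ _ hQ => IH Q (hQ.trans_lt (card_lt_of_ne_top hNt))) hsol X hX).resolve_left hgood
  -- a proper normal subgroup has index divisible by `p`
  have hindex : ∀ N : Subgroup G, N.Normal → N ≠ ⊤ → p ∣ N.index := by
    intro N hN hNt
    haveI := hN
    by_contra hd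
    obtain ⟨a, ha⟩ := IsPGroup.iff_card.mp P.isPGroup'
    have hPN : (P : Subgroup G) ≤ N := le_of_coprime_index
      (ha ▸ Nat.Coprime.pow_left a (hp.out.coprime_iff_not_dvd.mpr hd))
    refine hPn (hclosed N hN hNt _ ⟨hPN, P.isPGroup', fun hd' => P.not_dvd_index ?_⟩)
    exact hd'.trans ⟨_, (Subgroup.relIndex_mul_index hPN).symm⟩
  haveI : Nontrivial G := by
    refine not_subsingleton_iff_nontrivial.mp fun hs => hPn ?_
    rw [show (P : Subgroup G) = ⊥ from Subsingleton.elim _ _]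
    infer_instance
  obtain ⟨M, hM, hcM⟩ : ∃ M : Subgroup G, IsCoatom M ∧ commutator G ≤ M := by
    rcases eq_top_or_exists_le_coatom (commutator G) with h | h
    · exact absurd h (Group.IsSolvable.commutator_lt_top_of_nontrivial G).ne
    · exact h
  haveI hMn : M.Normal := normal_of_commutator_le hcM
  have hMidx : M.index = p :=
    ((Nat.prime_dvd_prime_iff_eq hp.out (MaxCent.coatom_index_prime hM)).mp (hindex M hMn hM.1)).symm
  obtain ⟨Q, hQ⟩ := exists_isSylowIn p M
  have hQn : Q.Normal := hclosed M hMn hM.1 Q hQ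
  haveI := hQn
  have hQP : Q ≤ (P : Subgroup G) := hQ.2.1.le_sylow_of_normal P
  have hPM : ¬ (P : Subgroup G) ≤ M := fun hle => by
    have h1 : ¬ p ∣ M.index := fun hd => P.not_dvd_index
      (hd.trans ⟨_, ((Subgroup.relIndex_mul_index hle).symm.trans (mul_comm _ _))⟩)
    exact h1 (hMidx ▸ dvd_rfl)
  have hPMtop : (P : Subgroup G) ⊔ M = ⊤ := hM.2 _ (lt_of_le_not_ge le_sup_right
    fun h => hPM (le_sup_left.trans h))
  have hPMQ : (P : Subgroup G) ⊓ M = Q :=
    (hQ.eq_of_le (le_inf hQP hQ.1) inf_le_right (P.isPGroup'.to_le inf_le_left)).symm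
  haveI : Fintype M := Fintype.ofFinite M
  -- the restriction to `M` is irreducible
  have hχM : IsIrrCharacter M (fun m : M => χ m) := by
    obtain ⟨θ, hθ⟩ := IsChar.exists_constituent' (IsChar.res (IsIrr.isCharacter hχ) M)
      (by simpa using IsIrr.one_ne_zero hχ)
    obtain ⟨c, hc⟩ := IsChar.classInner_nat (IsChar.res (IsIrr.isCharacter hχ) M)
      (IsIrr.isCharacter θ.2)
    obtain ⟨d, hd⟩ := IsChar.one_eq_nat (IsIrr.isCharacter θ.2)
    have h1 := clifford_one M hχ θ.2 hθ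
    rw [hn, hc, hd] at h1
    have h1' : n = c * (inertia M (θ : M → ℂ)).index * d := by exact_mod_cast h1
    have hT : inertia M (θ : M → ℂ) = ⊤ := by
      rcases (hM.le_iff.mp (le_inertia M (IsIrr.classFun θ.2))) with h | h
      · exact h
      · exfalso
        refine hpn ?_
        rw [h1', h, hMidx]
        exact Dvd.intro_left c rfl |>.mul_right d
    have horb : conjOrbit M (θ : M → ℂ) = {(θ : M → ℂ)} :=
      Finset.eq_singleton_iff_unique_mem.mpr
        ⟨(mem_conjOrbit M).mpr ⟨1, conjN_one M _⟩, fun ψ hψ => by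
          obtain ⟨g, rfl⟩ := (mem_conjOrbit M).mp hψ
          exact (mem_inertia M).mp (hT ▸ Subgroup.mem_top g)⟩
    have hcl := clifford M hχ θ.2 hθ
    rw [horb, Finset.sum_singleton, hc] at hcl
    have hab : ∀ a b : G, a * b * a⁻¹ * b⁻¹ ∈ M := fun a b =>
      hcM (Subgroup.commutator_mem_commutator (Subgroup.mem_top a) (Subgroup.mem_top b))
    have hsupp : (∀ m : G, m ∉ M → χ m = 0) ∨ Subgroup.closure {m : G | χ m ≠ 0} ⊔ M = ⊤ := by
      refine (hM.le_iff.mp (le_sup_right (a := Subgroup.closure {m : G | χ m ≠ 0}))).symm.imp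
        (fun h m hm => ?_) id
      by_contra h0
      exact hm (h ▸ Subgroup.mem_sup_left (Subgroup.subset_closure h0))
    rcases ramification M hab hχ θ.2 (fun m => congrFun hcl m) hsupp with h | h
    · exfalso
      rw [hMidx] at h
      exact Nat.Prime.not_prime_pow (le_refl 2) (h ▸ hp.out)
    · rw [hcl, h, Nat.cast_one, one_smul]
      exact θ.2
  -- choose `K`
  have hQM : Q < M := by
    refine lt_of_le_of_ne hQ.1 fun h => hPn ?_
    have : (P : Subgroup G) = ⊤ := by
      refine le_antisymm le_top (hPMtop ▸ sup_le le_rfl ?_)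
      rw [← h]; exact hQP
    rw [this]; infer_instance
  obtain ⟨K, ⟨hKn, hQK, hKM⟩, hKmax⟩ := Set.Finite.exists_maximal
    (Set.toFinite {N : Subgroup G | N.Normal ∧ Q ≤ N ∧ N < M}) ⟨Q, hQn, le_rfl, hQM⟩
  haveI := hKn
  have hbetween : ∀ N : Subgroup G, N.Normal → K ≤ N → N ≤ M → N = K ∨ N = M := by
    intro N hN hKN hNM
    rcases eq_or_lt_of_le hNM with h | h
    · exact .inr h
    · exact .inl (le_antisymm (hKmax ⟨hN, hQK.trans hKN, h⟩ hKN) hKN)
  have hKpM : ¬ p ∣ K.relIndex M := fun hd => hQ.2.2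
    (hd.trans ⟨_, ((Subgroup.relIndex_mul_relIndex Q K M hQK hKM.le).symm.trans (mul_comm _ _))⟩)
  have hKQ' : ¬ p ∣ Q.relIndex K := fun hd => hQ.2.2
    (hd.trans ⟨_, (Subgroup.relIndex_mul_relIndex Q K M hQK hKM.le).symm⟩)
  set π := QuotientGroup.mk' K with hπ
  set Mb := M.map π with hMb
  haveI hMbn : Mb.Normal := hMn.map π (QuotientGroup.mk'_surjective K)
  have hMbne : Mb ≠ ⊥ := fun h => hKM.not_ge fun m hm =>
    (QuotientGroup.eq_one_iff m).mp (Subgroup.mem_bot.mp (h ▸ ⟨m, hm, rfl⟩))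
  have hMbmin : ∀ N : Subgroup (G ⧸ K), N.Normal → N ≤ Mb → N = ⊥ ∨ N = Mb := by
    intro N hN hle
    have h1 : K ≤ N.comap π := fun k hk => by
      show π k ∈ N
      rw [show π k = 1 from (QuotientGroup.eq_one_iff k).mpr hk]; exact one_mem _
    have h2 : N.comap π ≤ M := (Subgroup.comap_mono hle).trans (by
      rw [hMb, Subgroup.comap_map_eq, hπ, QuotientGroup.ker_mk']; exact sup_le le_rfl hKM.le)
    have h3 := Subgroup.map_comap_eq_self_of_surjective (QuotientGroup.mk'_surjective K) N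
    rcases hbetween _ (hN.comap π) h1 h2 with h | h
    · exact .inl (by rw [← h3, h, QuotientGroup.map_mk'_self])
    · exact .inr (by rw [← h3, h])
  obtain ⟨hMbab, r, hr, hpow⟩ := minimal_normal_solvable (N := Mb) inferInstance hMbne hMbmin
  haveI := Fact.mk hr
  have hMbcard : Nat.card Mb = K.relIndex M := by
    rw [← Subgroup.relIndex_bot_left, hMb, ← Subgroup.relIndex_comap, MonoidHom.comap_bot,
      QuotientGroup.ker_mk']
  obtain ⟨a, ha⟩ : ∃ a, Nat.card Mb = r ^ a := IsPGroup.iff_card.mp fun x => ⟨1, Subtype.ext (by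
    rw [pow_one]; simpa using hpow x x.2)⟩
  have ha0 : 0 < a := by
    rcases Nat.eq_zero_or_pos a with rfl | h
    · exact absurd (Subgroup.card_eq_one.mp (by simpa using ha)) hMbne
    · exact h
  have hcomm : ∀ x ∈ M, ∀ y ∈ M, x * y * x⁻¹ * y⁻¹ ∈ K := by
    intro x hx y hy
    refine (QuotientGroup.eq_one_iff _).mp ?_
    have h1 : π x * π y = π y * π x :=
      congrArg Subtype.val (mul_comm' (⟨π x, x, hx, rfl⟩ : Mb) ⟨π y, y, hy, rfl⟩)
    show π (x * y * x⁻¹ * y⁻¹) = 1
    rw [map_mul, map_mul, map_mul, map_inv, map_inv, h1]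
    group
  -- the number of conjugates of the image of `P` is `|M : K|`
  set Pb := P.mapSurjective (QuotientGroup.mk'_surjective K) with hPb
  have hPbM : (Pb : Subgroup (G ⧸ K)) ⊔ Mb = ⊤ := by
    show (P : Subgroup G).map π ⊔ M.map π = ⊤
    rw [← Subgroup.map_sup, hPMtop, Subgroup.map_top_of_surjective _ (QuotientGroup.mk'_surjective K)]
  have hKPne : K ⊔ (P : Subgroup G) ≠ ⊤ := by
    intro h
    refine hKM.not_ge fun m hm => ?_
    obtain ⟨k, hk, y, hy, rfl⟩ := Subgroup.mem_sup_of_normal_left.mp (h ▸ Subgroup.mem_top m)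
    have hyM : y ∈ M := by simpa using mul_mem (inv_mem (hKM.le hk)) hm
    exact mul_mem hk (hQK (hPMQ ▸ Subgroup.mem_inf.mpr ⟨hy, hyM⟩))
  have hqmod : r ^ a ≡ 1 [MOD p] := by
    set Nb := Subgroup.normalizer ((Pb : Subgroup (G ⧸ K)) : Set (G ⧸ K)) with hNb
    have hNM : Nb ⊔ Mb = ⊤ := top_le_iff.mp (hPbM ▸ sup_le_sup_right Subgroup.le_normalizer _)
    have hnor : (Nb ⊓ Mb).Normal := by
      refine ⟨fun x hx g => ?_⟩
      obtain ⟨hxN, hxM⟩ := Subgroup.mem_inf.mp hx
      obtain ⟨u, hu, v, hv, rfl⟩ := Subgroup.mem_sup_of_normal_right.mp (hNM ▸ Subgroup.mem_top g)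
      have hvx : v * x * v⁻¹ = x := by
        have h1 : v * x = x * v := congrArg Subtype.val (mul_comm' (⟨v, hv⟩ : Mb) ⟨x, hxM⟩)
        rw [h1, mul_inv_cancel_right]
      have he : u * v * x * (u * v)⁻¹ = u * (v * x * v⁻¹) * u⁻¹ := by group
      rw [he, hvx]
      exact Subgroup.mem_inf.mpr ⟨mul_mem (mul_mem hu hxN) (inv_mem hu), hMbn.conj_mem _ hxM u⟩
    rcases hMbmin _ hnor inf_le_right with h | h
    · have h1 := card_sylow_modEq_one p (G ⧸ K)
      rw [Sylow.card_eq_index_normalizer Pb] at h1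
      have h2 : (Subgroup.normalizer ((Pb : Subgroup (G ⧸ K)) : Set (G ⧸ K))).index = r ^ a := by
        rw [← ha, ← hNb, index_eq_relIndex (sup_comm Nb Mb ▸ hNM), ← Subgroup.inf_relIndex_right, h,
          Subgroup.relIndex_bot_left]
      have h3 : Nb.index ≡ 1 [MOD p] := h1
      rwa [show Nb.index = r ^ a from h2] at h3
    · exfalso
      have hN : Nb = ⊤ := top_le_iff.mp (hNM ▸ sup_le le_rfl (h ▸ inf_le_left))
      haveI hPbn : (Pb : Subgroup (G ⧸ K)).Normal := Subgroup.normalizer_eq_top_iff.mp hN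
      have hKP : (K ⊔ (P : Subgroup G)).Normal := by
        have h2 : K ⊔ (P : Subgroup G) = (Pb : Subgroup (G ⧸ K)).comap π := by
          show _ = ((P : Subgroup G).map π).comap π
          rw [Subgroup.comap_map_eq, hπ, QuotientGroup.ker_mk', sup_comm]
        rw [h2]; exact hPbn.comap π
      have hd := hindex _ hKP hKPne
      exact P.not_dvd_index (hd.trans ⟨_, ((Subgroup.relIndex_mul_index (le_sup_right :
        (P : Subgroup G) ≤ K ⊔ P)).symm.trans (mul_comm _ _))⟩)
  have hrpp : IsPrimePow (r ^ a) := hr.isPrimePow.pow ha0.ne'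
  -- constituents on `K`
  haveI : Fintype K := Fintype.ofFinite K
  obtain ⟨θ, hθ⟩ := IsChar.exists_constituent' (IsChar.res (IsIrr.isCharacter hχ) K)
    (by simpa using IsIrr.one_ne_zero hχ)
  obtain ⟨c, hc⟩ := IsChar.classInner_nat (IsChar.res (IsIrr.isCharacter hχ) K)
    (IsIrr.isCharacter θ.2)
  obtain ⟨d, hd⟩ := IsChar.one_eq_nat (IsIrr.isCharacter θ.2)
  set T := inertia K (θ : K → ℂ) with hT
  have h1' : n = c * T.index * d := by
    have h1 := clifford_one K hχ θ.2 hθ
    rw [hn, hc, hd] at h1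
    exact_mod_cast h1
  set K' := K.subgroupOf M with hK'
  haveI : K'.Normal := inferInstance
  haveI : Fintype K' := Fintype.ofFinite K'
  let e' : K' ≃* K := Subgroup.subgroupOfEquivOfLe hKM.le
  have he' : ∀ x : K', ((e' x : K) : G) = ((x : M) : G) := fun x => rfl
  -- every `G`-conjugate of `θ` is an `M`-conjugate
  have hMT : M ⊔ T = ⊤ := by
    refine top_le_iff.mp fun g _ => ?_
    have hθ' : IsIrrCharacter K' (fun x => (θ : K → ℂ) (e' x)) := IsIrr.comp_mulEquiv e' θ.2
    have hg' : IsIrrCharacter K' (fun x => conjN K g (θ : K → ℂ) (e' x)) :=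
      IsIrr.comp_mulEquiv e' (IsIrr.conjN K θ.2 g)
    have htr : ∀ ψ : K → ℂ, classInner (fun x : K' => χ ((x : M) : G)) (fun x => ψ (e' x)) =
        classInner (fun x : K => χ x) ψ := fun ψ => by
      rw [← classInner_comp_surjective e'.toMonoidHom e'.surjective (fun x : K => χ x) ψ]
      rfl
    have hc1 : classInner (fun x : K' => χ ((x : M) : G)) (fun x => (θ : K → ℂ) (e' x)) ≠ 0 := by
      rw [htr]; exact hθ
    have hc2 : classInner (fun x : K' => χ ((x : M) : G))
        (fun x => conjN K g (θ : K → ℂ) (e' x)) ≠ 0 := by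
      rw [htr, classInner_res_conjN K (IsIrr.classFun hχ)]; exact hθ
    obtain ⟨m, hm⟩ := exists_conj_of_constituents K' hχM hθ' hg' hc1 hc2
    have hmg : conjN K (m : G) (θ : K → ℂ) = conjN K g (θ : K → ℂ) := funext fun x => by
      obtain ⟨y, rfl⟩ := e'.surjective x
      rw [← congrFun hm y, conjN_apply, conjN_apply]
      exact congrArg (θ : K → ℂ) (Subtype.ext rfl)
    have hmem : g * (m : G)⁻¹ ∈ T := by
      rw [hT, mem_inertia, conjN_mul, ← hmg, ← conjN_mul, mul_inv_cancel, conjN_one]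
    have := mul_mem (Subgroup.mem_sup_right (S := M) hmem) (Subgroup.mem_sup_left m.2)
    rwa [inv_mul_cancel_right] at this
  have hKT : K ≤ T := le_inertia K (IsIrr.classFun θ.2)
  have hTM : (T ⊓ M).Normal := by
    refine ⟨fun x hx g => ?_⟩
    obtain ⟨hxT, hxM⟩ := Subgroup.mem_inf.mp hx
    obtain ⟨m, hm, t, ht, rfl⟩ := Subgroup.mem_sup_of_normal_left.mp (hMT ▸ Subgroup.mem_top g)
    have hy : t * x * t⁻¹ ∈ T := mul_mem (mul_mem ht hxT) (inv_mem ht)
    have hyM : t * x * t⁻¹ ∈ M := hMn.conj_mem _ hxM t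
    have he : m * t * x * (m * t)⁻¹ = (m * (t * x * t⁻¹) * m⁻¹ * (t * x * t⁻¹)⁻¹) * (t * x * t⁻¹) := by
      group
    rw [he]
    exact Subgroup.mem_inf.mpr ⟨mul_mem (hKT (hcomm m hm _ hyM)) hy,
      mul_mem (hKM.le (hcomm m hm _ hyM)) hyM⟩
  rcases hbetween _ hTM (le_inf hKT hKM.le) inf_le_right with h | h
  · -- a long orbit
    have h2 : T.index = r ^ a := by
      rw [← ha, hMbcard, index_eq_relIndex hMT, ← Subgroup.inf_relIndex_right, h]
    refine hgood ⟨r ^ a, hrpp, h1' ▸ h2 ▸ (Dvd.intro_left c rfl).mul_right d, .inr (.inr ?_)⟩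
    exact_mod_cast Int.natCast_modEq_iff.mpr hqmod
  have hTtop : T = ⊤ := top_le_iff.mp (hMT ▸ sup_le (h ▸ inf_le_left) le_rfl)
  have horb : conjOrbit K (θ : K → ℂ) = {(θ : K → ℂ)} :=
    Finset.eq_singleton_iff_unique_mem.mpr
      ⟨(mem_conjOrbit K).mpr ⟨1, conjN_one K _⟩, fun ψ hψ => by
        obtain ⟨g, rfl⟩ := (mem_conjOrbit K).mp hψ
        exact (mem_inertia K).mp (show g ∈ inertia K (θ : K → ℂ) by rw [← hT, hTtop]; exact Subgroup.mem_top g)⟩
  have hcl := clifford K hχ θ.2 hθ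
  rw [horb, Finset.sum_singleton, hc] at hcl
  have hrest : ∀ x : K', χ ((x : M) : G) = c * (θ : K → ℂ) (e' x) := fun x => congrFun hcl (e' x)
  set V := Subgroup.closure {g : G | g ∈ M ∧ χ g ≠ 0} ⊔ K with hV
  have hVn : V.Normal := by
    haveI : (Subgroup.closure {g : G | g ∈ M ∧ χ g ≠ 0}).Normal := by
      refine ⟨fun x hx g => ?_⟩
      induction hx using Subgroup.closure_induction with
      | mem y hy => exact Subgroup.subset_closure ⟨hMn.conj_mem _ hy.1 g,
          by rw [IsIrr.classFun hχ y g]; exact hy.2⟩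
      | one => simpa using one_mem _
      | mul y z _ _ hy hz =>
        rw [show g * (y * z) * g⁻¹ = (g * y * g⁻¹) * (g * z * g⁻¹) by group]
        exact mul_mem hy hz
      | inv y _ hy =>
        rw [show g * y⁻¹ * g⁻¹ = (g * y * g⁻¹)⁻¹ by group]
        exact inv_mem hy
    infer_instance
  have hVM : V ≤ M := sup_le ((Subgroup.closure_le _).mpr fun g hg => hg.1) hKM.le
  have hsupp : (∀ m : M, m ∉ K' → χ (m : G) = 0) ∨
      Subgroup.closure {m : M | χ (m : G) ≠ 0} ⊔ K' = ⊤ := by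
    rcases hbetween V hVn le_sup_right hVM with h1 | h1
    · refine .inl fun m hm => ?_
      by_contra h0
      exact hm (Subgroup.mem_subgroupOf.mpr
        (h1 ▸ Subgroup.mem_sup_left (Subgroup.subset_closure ⟨m.2, h0⟩)))
    · refine .inr ?_
      apply Subgroup.map_injective M.subtype_injective
      rw [Subgroup.map_sup, MonoidHom.map_closure, Subgroup.map_subgroupOf_eq_of_le hKM.le,
        ← MonoidHom.range_eq_map, Subgroup.range_subtype]
      refine Eq.trans ?_ h1
      rw [hV]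
      congr 2
      ext g
      constructor
      · rintro ⟨m, hm, rfl⟩; exact ⟨m.2, hm⟩
      · rintro ⟨hg, hg0⟩; exact ⟨⟨g, hg⟩, hg0, rfl⟩
  rcases ramification K' (fun x y => Subgroup.mem_subgroupOf.mpr (hcomm x x.2 y y.2)) hχM
    (IsIrr.comp_mulEquiv e' θ.2) hrest hsupp with h | h
  · -- fully ramified
    have h2 : c ^ 2 = r ^ a := by
      rw [h, ← ha, hMbcard]; rfl
    obtain ⟨b, hb, hcb⟩ := (Nat.dvd_prime_pow hr).mp (h2 ▸ dvd_pow_self c two_ne_zero)
    have hb0 : b ≠ 0 := by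
      intro h0
      rw [hcb, h0, pow_zero, one_pow] at h2
      exact absurd h2 (Nat.one_lt_pow ha0.ne' hr.one_lt).ne
    refine hgood ⟨c, hcb ▸ hr.isPrimePow.pow hb0, h1' ▸ ((dvd_mul_right c _).mul_right d), ?_⟩
    have h3 : (p : ℤ) ∣ ((c : ℤ) - 1) * ((c : ℤ) + 1) := by
      have h4 : ((c ^ 2 : ℕ) : ℤ) ≡ ((1 : ℕ) : ℤ) [ZMOD p] :=
        Int.natCast_modEq_iff.mpr (h2 ▸ hqmod)
      have h5 := Int.modEq_iff_dvd.mp h4.symm
      push_cast at h5
      rwa [show ((c : ℤ) - 1) * (c + 1) = (c : ℤ) ^ 2 - 1 by ring]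
    rcases (Nat.prime_iff_prime_int.mp hp.out).dvd_or_dvd h3 with h4 | h4
    · exact .inr (.inr (Int.modEq_iff_dvd.mpr h4).symm)
    · refine .inl (Int.modEq_iff_dvd.mpr ?_).symm
      simpa using h4
  -- irreducible restriction to `K`
  have hcn : d = n := by rw [h1', h, hTtop, Subgroup.index_top]; simp
  have hχK : IsIrrCharacter K (fun x : K => χ x) := by
    rw [hcl, h, Nat.cast_one, one_smul]; exact θ.2
  set H := K ⊔ (P : Subgroup G) with hH
  haveI : Fintype H := Fintype.ofFinite H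
  by_cases hPH : ((P : Subgroup G).subgroupOf H).Normal
  swap
  · set K'' := K.subgroupOf H with hK''
    haveI : Fintype K'' := Fintype.ofFinite K''
    have hχH : IsIrrCharacter H (fun x : H => χ x) := by
      refine irr_of_res_irr K'' (IsChar.res (IsIrr.isCharacter hχ) H) ?_
      exact IsIrr.comp_mulEquiv (Subgroup.subgroupOfEquivOfLe (le_sup_left : K ≤ H)) hχK
    exact hgood (IH H (card_lt_of_ne_top hKPne) inferInstance _ hχH
      (fun x hx => Subtype.ext (hfaith x (by simpa using hx))) n (by simpa using hn)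
      (P.subtype le_sup_right) hPH)
  -- `P` centralizes `K / Q`
  have hKPc : ∀ x ∈ (P : Subgroup G), ∀ k ∈ K, x * k * x⁻¹ * k⁻¹ ∈ Q := by
    intro x hx k hk
    rw [← hPMQ]
    refine Subgroup.mem_inf.mpr ⟨?_, hKM.le (mul_mem (hKn.conj_mem _ hk x) (inv_mem hk))⟩
    have h1 := hPH.conj_mem ⟨x⁻¹, le_sup_right (a := K) (inv_mem hx)⟩
      (Subgroup.mem_subgroupOf.mpr (inv_mem hx)) ⟨k, le_sup_left (b := (P : Subgroup G)) hk⟩
    rw [Subgroup.mem_subgroupOf] at h1
    have h2 : k * x⁻¹ * k⁻¹ ∈ (P : Subgroup G) := by simpa using h1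
    rw [show x * k * x⁻¹ * k⁻¹ = x * (k * x⁻¹ * k⁻¹) by group]
    exact mul_mem hx h2
  set C := (Subgroup.centralizer ((K.map (QuotientGroup.mk' Q) : Subgroup (G ⧸ Q)) : Set (G ⧸ Q))).comap
    (QuotientGroup.mk' Q) with hC
  haveI : (K.map (QuotientGroup.mk' Q)).Normal := hKn.map _ (QuotientGroup.mk'_surjective Q)
  have hPC : (P : Subgroup G) ≤ C := by
    intro x hx
    rw [hC, Subgroup.mem_comap, Subgroup.mem_centralizer_iff]
    rintro _ ⟨k, hk, rfl⟩
    rw [← map_mul, ← map_mul]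
    refine QuotientGroup.eq_iff_div_mem.mpr ?_
    rw [div_eq_mul_inv, show k * x * (x * k)⁻¹ = (x * k * x⁻¹ * k⁻¹)⁻¹ by group]
    exact inv_mem (hKPc x hx k hk)
  have hCtop : C = ⊤ := by
    by_contra hne
    exact P.not_dvd_index ((hindex C (Subgroup.Normal.comap inferInstance _) hne).trans
      ⟨_, ((Subgroup.relIndex_mul_index hPC).symm.trans (mul_comm _ _))⟩)
  have hcentQ : ∀ (g : G) (k : G), k ∈ K → g * k * g⁻¹ * k⁻¹ ∈ Q := by
    intro g k hk
    have h2 := Subgroup.mem_centralizer_iff.mp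
      (show QuotientGroup.mk' Q g ∈ Subgroup.centralizer _ from (hCtop ▸ Subgroup.mem_top g : g ∈ C))
      _ ⟨k, hk, rfl⟩
    refine (QuotientGroup.eq_one_iff _).mp ?_
    show QuotientGroup.mk' Q (g * k * g⁻¹ * k⁻¹) = 1
    rw [map_mul, map_mul, map_mul, map_inv, map_inv, ← h2]
    group
  -- `Q` is central
  haveI : Fintype Q := Fintype.ofFinite Q
  obtain ⟨ν, hν⟩ := IsChar.exists_constituent' (IsChar.res (IsIrr.isCharacter hχ) Q)
    (by simpa using IsIrr.one_ne_zero hχ)
  obtain ⟨f, hf⟩ := IsChar.classInner_nat (IsChar.res (IsIrr.isCharacter hχ) Q)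
    (IsIrr.isCharacter ν.2)
  obtain ⟨d', hd'⟩ := IsChar.one_eq_nat (IsIrr.isCharacter ν.2)
  have hν1 := clifford_one Q hχ ν.2 hν
  rw [hn, hf, hd'] at hν1
  have hν1' : n = f * (inertia Q (ν : Q → ℂ)).index * d' := by exact_mod_cast hν1
  have hd'1 : d' = 1 := by
    obtain ⟨b, hb⟩ := IsPGroup.iff_card.mp hQ.2.1
    obtain ⟨j, -, hj⟩ := (Nat.dvd_prime_pow hp.out).mp (hb ▸ IsIrr.degree_dvd_card ν.2 hd')
    rcases Nat.eq_zero_or_pos j with rfl | hj0
    · rw [hj, pow_zero]
    · exact absurd (hν1' ▸ Dvd.dvd.mul_left (hj ▸ dvd_pow_self p hj0.ne') _) hpn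
  obtain ⟨l, hl⟩ := linearHom_of_isCharacter (IsIrr.isCharacter ν.2) (by rw [hd', hd'1, Nat.cast_one])
  set T' := inertia Q (ν : Q → ℂ) with hT'
  have hQT : Q ≤ T' := le_inertia Q (IsIrr.classFun ν.2)
  set Q' := Q.subgroupOf K with hQ'
  haveI : Q'.Normal := inferInstance
  haveI : Fintype Q' := Fintype.ofFinite Q'
  let f' : Q' ≃* Q := Subgroup.subgroupOfEquivOfLe hQK
  have hKT' : K ⊔ T' = ⊤ := by
    refine top_le_iff.mp fun g _ => ?_
    have hν' : IsIrrCharacter Q' (fun x => (ν : Q → ℂ) (f' x)) := IsIrr.comp_mulEquiv f' ν.2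
    have hg' : IsIrrCharacter Q' (fun x => conjN Q g (ν : Q → ℂ) (f' x)) :=
      IsIrr.comp_mulEquiv f' (IsIrr.conjN Q ν.2 g)
    have htr : ∀ ψ : Q → ℂ, classInner (fun x : Q' => χ ((x : K) : G)) (fun x => ψ (f' x)) =
        classInner (fun x : Q => χ x) ψ := fun ψ => by
      rw [← classInner_comp_surjective f'.toMonoidHom f'.surjective (fun x : Q => χ x) ψ]
      rfl
    have hc1 : classInner (fun x : Q' => χ ((x : K) : G)) (fun x => (ν : Q → ℂ) (f' x)) ≠ 0 := by
      rw [htr]; exact hν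
    have hc2 : classInner (fun x : Q' => χ ((x : K) : G))
        (fun x => conjN Q g (ν : Q → ℂ) (f' x)) ≠ 0 := by
      rw [htr, classInner_res_conjN Q (IsIrr.classFun hχ)]; exact hν
    obtain ⟨m, hm⟩ := exists_conj_of_constituents Q' hχK hν' hg' hc1 hc2
    have hmg : conjN Q (m : G) (ν : Q → ℂ) = conjN Q g (ν : Q → ℂ) := funext fun x => by
      obtain ⟨y, rfl⟩ := f'.surjective x
      rw [← congrFun hm y, conjN_apply, conjN_apply]
      exact congrArg (ν : Q → ℂ) (Subtype.ext rfl)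
    have hmem : g * (m : G)⁻¹ ∈ T' := by
      rw [hT', mem_inertia, conjN_mul, ← hmg, ← conjN_mul, mul_inv_cancel, conjN_one]
    have := mul_mem (Subgroup.mem_sup_right (S := K) hmem) (Subgroup.mem_sup_left m.2)
    rwa [inv_mul_cancel_right] at this
  have hT'top : T' = ⊤ := by
    have hT'n : T'.Normal := by
      refine ⟨fun x hx g => ?_⟩
      obtain ⟨m, hm, t, ht, rfl⟩ := Subgroup.mem_sup_of_normal_left.mp (hKT' ▸ Subgroup.mem_top g)
      have hy : t * x * t⁻¹ ∈ T' := mul_mem (mul_mem ht hx) (inv_mem ht)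
      have hcq := hQT (hcentQ (t * x * t⁻¹) m hm)
      rw [show m * t * x * (m * t)⁻¹ =
        (t * x * t⁻¹ * m * (t * x * t⁻¹)⁻¹ * m⁻¹)⁻¹ * (t * x * t⁻¹) by group]
      exact mul_mem (inv_mem hcq) hy
    by_contra hne
    have h1 := hindex T' hT'n hne
    rw [index_eq_relIndex hKT'] at h1
    exact hKQ' (h1.trans (Subgroup.relIndex_dvd_of_le_left K hQT))
  have horbQ : conjOrbit Q (ν : Q → ℂ) = {(ν : Q → ℂ)} :=
    Finset.eq_singleton_iff_unique_mem.mpr
      ⟨(mem_conjOrbit Q).mpr ⟨1, conjN_one Q _⟩, fun ψ hψ => by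
        obtain ⟨g, rfl⟩ := (mem_conjOrbit Q).mp hψ
        exact (mem_inertia Q).mp (show g ∈ inertia Q (ν : Q → ℂ) by rw [← hT', hT'top]; exact Subgroup.mem_top g)⟩
  have hclQ := clifford Q hχ ν.2 hν
  rw [horbQ, Finset.sum_singleton, hf] at hclQ
  have hfn : f = n := by rw [hν1', hd'1, hT'top, Subgroup.index_top]; simp
  have hQc : ∀ q ∈ Q, ∀ g : G, g * q = q * g := by
    intro q hq g
    have hmem : g * q * g⁻¹ ∈ Q := hQn.conj_mem _ hq g
    have hgν : (ν : Q → ℂ) ⟨g * q * g⁻¹, hmem⟩ = (ν : Q → ℂ) ⟨q, hq⟩ := by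
      have h1 := congrFun ((mem_inertia Q).mp
        (show g ∈ inertia Q (ν : Q → ℂ) by rw [← hT', hT'top]; exact Subgroup.mem_top g)) ⟨q, hq⟩
      rw [conjN_apply] at h1
      exact h1
    rw [hl] at hgν
    have hlz : l (⟨g * q * g⁻¹, hmem⟩ * (⟨q, hq⟩ : Q)⁻¹) = 1 := by
      rw [map_mul, map_inv, mul_inv_eq_one]
      exact Units.ext hgν
    have hz : χ (g * q * g⁻¹ * q⁻¹) = χ 1 := by
      have h1 := congrFun hclQ (⟨g * q * g⁻¹, hmem⟩ * (⟨q, hq⟩ : Q)⁻¹)
      simp only [Pi.smul_apply, smul_eq_mul, hl, hlz, Units.val_one, mul_one, Subgroup.coe_mul,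
        Subgroup.coe_inv] at h1
      rw [h1, hfn, hn]
    have h2 := hfaith _ hz
    calc g * q = g * q * g⁻¹ * q⁻¹ * (q * g) := by group
      _ = q * g := by rw [h2, one_mul]
  -- `K` is abelian
  have hKab : ∀ x y : K, x * y = y * x := by
    intro x y
    refine Subtype.ext ?_
    show (x : G) * y = y * x
    set z : G := (x : G) * y * (x : G)⁻¹ * (y : G)⁻¹ with hz
    have hzQ : z ∈ Q := hcentQ x y y.2
    suffices hz1 : z = 1 by
      calc (x : G) * y = z * (y * x) := by rw [hz]; group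
        _ = y * x := by rw [hz1, one_mul]
    have hzc : ∀ g : G, g * z = z * g := hQc z hzQ
    have hpw : ∀ j : ℕ, (x : G) * (y : G) ^ j * (x : G)⁻¹ = z ^ j * (y : G) ^ j := fun j => by
      have h1 : (x : G) * y * (x : G)⁻¹ = z * y := by rw [hz]; group
      have h2 : ((x : G) * y * (x : G)⁻¹) ^ j = (x : G) * (y : G) ^ j * (x : G)⁻¹ := conj_pow
      rw [← h2, h1, Commute.mul_pow (hzc (y : G)).symm]
    have hym : (y : G) ^ Q.relIndex K ∈ Q := by
      have h1 : y ^ Q'.index ∈ Q' := Subgroup.pow_index_mem Q' y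
      rw [Subgroup.mem_subgroupOf, SubgroupClass.coe_pow] at h1
      exact h1
    have hzm : z ^ Q.relIndex K = 1 := by
      have h1 := hpw (Q.relIndex K)
      rw [hQc _ hym (x : G), mul_inv_cancel_right] at h1
      exact mul_eq_right.mp h1.symm
    obtain ⟨b, hb⟩ := hQ.2.1 ⟨z, hzQ⟩
    have hb' : z ^ p ^ b = 1 := by simpa using congrArg Subtype.val hb
    exact orderOf_eq_one_iff.mp (Nat.eq_one_of_dvd_coprimes
      ((hp.out.coprime_iff_not_dvd.mpr hKQ').pow_left b)
      (orderOf_dvd_of_pow_eq_one hb') (orderOf_dvd_of_pow_eq_one hzm))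
  have hn1 : χ 1 = 1 := by simpa using IsIrr.one_of_comm hKab hχK
  obtain ⟨l', hl'⟩ := linearHom_of_isCharacter (IsIrr.isCharacter hχ) hn1
  refine hPn ⟨fun x hx g => ?_⟩
  have h2 : g * x * g⁻¹ * x⁻¹ = 1 := by
    refine hfaith _ ?_
    rw [hl']
    simp only [map_mul, map_inv, map_one]
    rw [mul_comm (l' g) (l' x), mul_inv_cancel_right, mul_inv_cancel]
  rw [mul_inv_eq_one.mp h2]
  exact hx

end Cfsg.Agent.Invol.DegMod
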