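import Cfsg.Agent.Lib.Grp.DihedralClasses
import Cfsg.Agent.Lib.Grp.Coprime

/-!
# Normal 2-complements with a dihedral Sylow subgroup
-/

set_option autoImplicit false

namespace Cfsg.Agent.Grp.DihNPC

open DihedralGroup
open scoped Pointwise

variable {G : Type*} [Group G] [Finite G]

/-- An element of a dihedral group commuting with a reflection. -/
theorem commute_sr {h : ℕ} (hh : 0 < h) {i : ZMod (h + h)} {e : DihedralGroup (h + h)}
    (he : e * sr i = sr i * e) : e = 1 ∨ e = r ((h : ℕ) : ZMod (h + h)) ∨ e = sr i ∨ e = sr (i + ((h : ℕ) : ZMod (h + h))) := by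
  haveI : NeZero (h + h) := ⟨by omega⟩
  have key : ∀ j : ZMod (h + h), j + j = 0 → j = 0 ∨ j = (h : ℕ) := by
    intro j hj
    rw [← ZMod.natCast_zmod_val j] at hj ⊢
    rw [← Nat.cast_add, ZMod.natCast_eq_zero_iff] at hj
    obtain ⟨c, hc⟩ := hj
    have hlt := ZMod.val_lt j
    rcases c with _ | _ | c
    · left
      have : j.val = 0 := by omega
      rw [this, Nat.cast_zero]
    · right
      congr 1
      omega
    · exfalso; nlinarith
  cases e with
  | r j =>
    rw [r_mul_sr, sr_mul_r, sr.injEq] at he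
    rcases key j (by linear_combination (norm := ring) -he) with h0 | h0
    · exact .inl (by rw [h0]; rfl)
    · exact .inr (.inl (by rw [h0]))
  | sr j =>
    rw [sr_mul_sr, sr_mul_sr, r.injEq] at he
    rcases key (j - i) (by linear_combination (norm := ring) -he) with h0 | h0
    · exact .inr (.inr (.inl (by rw [sub_eq_zero.mp h0])))
    · exact .inr (.inr (.inr (by rw [← h0]; congr 1; ring)))

/-- If no reflection is fused to the central involution there is a normal 2-complement. -/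
theorem npc_of_not_fused (P : Sylow 2 G) {m : ℕ} [NeZero m] (hm2 : 2 ∣ m) (e : ↥(P : Subgroup G) ≃* DihedralGroup m)
    (hnf : ∀ i : ZMod m, ¬ IsConj ((e.symm (sr i) : ↥(P : Subgroup G)) : G)
      ((e.symm (r ((m / 2 : ℕ) : ZMod m)) : ↥(P : Subgroup G)) : G)) :
    Cfsg.HasNormalPComplement 2 G := by
  classical
  set h := m / 2 with hh
  have hm : m = h + h := by omega
  have hk0 : 0 < h := Nat.pos_of_ne_zero fun h0 => NeZero.ne m (by omega)
  set f : DihedralGroup m →* G := (P : Subgroup G).subtype.comp e.symm.toMonoidHom with hf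
  have hfinj : Function.Injective f := (P : Subgroup G).subtype_injective.comp e.symm.injective
  have hfP : ∀ d, f d ∈ (P : Subgroup G) := fun d => (e.symm d).2
  have hfrange : f.range = (P : Subgroup G) := by
    refine le_antisymm (by rintro _ ⟨d, rfl⟩; exact hfP d) fun a ha => ⟨e ⟨a, ha⟩, ?_⟩
    simp [hf]
  set z := f (r ((h : ℕ) : ZMod m)) with hz
  set s₀ := f (sr (0 : ZMod m)) with hs₀
  set s₁ := f (sr (1 : ZMod m)) with hs₁
  have hord : ∀ i : ZMod m, orderOf (f (sr i)) = 2 := fun i => by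
    rw [orderOf_injective f hfinj, orderOf_sr]
  -- every rotation involution is `z`
  have hrot : ∀ i : ZMod m, orderOf (r i) = 2 → i = ((h : ℕ) : ZMod m) := by
    intro i hi
    have hi0 : i ≠ 0 := by
      rintro rfl
      rw [show r (0 : ZMod m) = 1 from rfl, orderOf_one] at hi
      exact absurd hi (by norm_num)
    have h2 : i + i = 0 := by
      have := pow_orderOf_eq_one (r i)
      rw [hi, pow_two, r_mul_r, one_def] at this
      exact DihedralGroup.r.inj this
    rw [← ZMod.natCast_zmod_val i] at h2 ⊢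
    have hv : i.val ≠ 0 := by rwa [Ne, ZMod.val_eq_zero]
    have hlt : i.val < m := ZMod.val_lt i
    rw [← Nat.cast_add, ZMod.natCast_eq_zero_iff] at h2
    obtain ⟨c, hc⟩ := h2
    have hc1 : c = 1 := by
      rcases c with _ | _ | c
      · omega
      · rfl
      · nlinarith
    subst hc1
    congr 1
    omega
  have hconj : ∀ i j : ZMod m, f (r j) * f (sr i) * (f (r j))⁻¹ = f (sr (i - 2 * j)) := fun i j => by
    rw [← map_inv, ← map_mul, ← map_mul, r_mul_sr, inv_r, sr_mul_r]
    congr 2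
    ring
  have hsrcls : ∀ i : ZMod m, IsConj (f (sr i)) s₀ ∨ IsConj (f (sr i)) s₁ := by
    intro i
    have h2 : ((i.val % 2 : ℕ) : ZMod m) + 2 * ((i.val / 2 : ℕ) : ZMod m) = i := by
      have := congrArg (fun a : ℕ => (a : ZMod m)) (Nat.mod_add_div i.val 2)
      push_cast at this
      rw [this, ZMod.natCast_zmod_val]
    have h1 := hconj i ((i.val / 2 : ℕ) : ZMod m)
    have h3 : i - 2 * ((i.val / 2 : ℕ) : ZMod m) = ((i.val % 2 : ℕ) : ZMod m) := by
      rw [sub_eq_iff_eq_add]; exact h2.symm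
    rcases Nat.mod_two_eq_zero_or_one i.val with h0 | h0
    · rw [h3, h0, Nat.cast_zero] at h1
      exact Or.inl (isConj_iff.mpr ⟨_, h1⟩)
    · rw [h3, h0, Nat.cast_one] at h1
      exact Or.inr (isConj_iff.mpr ⟨_, h1⟩)
  have hnconj : ∀ N : Subgroup G, N.Normal → ∀ a b : G, IsConj a b → a ∈ N → b ∈ N := by
    intro N hN a b hab ha
    obtain ⟨c, rfl⟩ := isConj_iff.mp hab
    exact hN.conj_mem a ha c
  have htr : ∀ u : ZMod m, ∃ M : Subgroup G, M.Normal ∧ M.index = 2 ∧ f (sr u) ∉ M := by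
    intro u
    set Q : Subgroup G := (Subgroup.zpowers (r (1 : ZMod m))).map f with hQ
    have hQP : Q ≤ (P : Subgroup G) := by rintro _ ⟨d, -, rfl⟩; exact hfP d
    have hQi : Q.relIndex (P : Subgroup G) = 2 := by
      have h1 := Subgroup.relIndex_map_map_of_injective (f := f) (Subgroup.zpowers (r (1 : ZMod m))) ⊤ hfinj
      rw [← MonoidHom.range_eq_map, hfrange, ← hQ, Subgroup.relIndex_top_right] at h1
      rw [h1]
      have h2 := Subgroup.card_mul_index (Subgroup.zpowers (r (1 : ZMod m)))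
      rw [Nat.card_zpowers, orderOf_r_one, nat_card, mul_comm 2 m] at h2
      exact Nat.eq_of_mul_eq_mul_left (NeZero.pos m) h2
    have hQrot : ∀ g ∈ Q, ∃ i, f (r i) = g := by
      rintro _ ⟨d, hd, rfl⟩
      obtain ⟨i, rfl⟩ := Subgroup.mem_zpowers_iff.mp hd
      exact ⟨(i : ZMod m), by rw [r_one_zpow]⟩
    have huQ : f (sr u) ∉ Q := fun hmem => by
      obtain ⟨i, hi⟩ := hQrot _ hmem
      exact absurd (hfinj hi) (by simp)
    rcases Cfsg.Agent.S0111.result P Q hQP hQi _ (hord u) (hfP _) huQ with ⟨M, hMn, hMi, hMu⟩ | ⟨g, hg⟩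
    · exact ⟨M, hMn, hMi, hMu⟩
    · obtain ⟨i, hi⟩ := hQrot _ hg
      refine absurd (isConj_iff.mpr ⟨g, ?_⟩) (hnf u)
      show g * f (sr u) * g⁻¹ = z
      rw [← hi, hrot i]
      rw [← orderOf_injective f hfinj, hi]
      exact ((MulAut.conj g).orderOf_eq _).trans (hord u)
  obtain ⟨M₀, hM₀n, hM₀i, hM₀0⟩ := htr 0
  obtain ⟨M₁, hM₁n, hM₁i, hM₁1⟩ := htr 1
  haveI := hM₀n
  haveI := hM₁n
  haveI := Fact.mk Nat.prime_two
  set N := M₀ ⊓ M₁ with hN
  obtain ⟨S⟩ : Nonempty (Sylow 2 ↥N) := inferInstance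
  have hS2 : IsPGroup 2 ((S : Subgroup ↥N).map N.subtype) := S.isPGroup'.map _
  obtain ⟨R, hR⟩ := hS2.exists_le_sylow
  obtain ⟨t, ht⟩ := MulAction.exists_smul_eq G R P
  have hcyc : IsCyclic ↥(S : Subgroup ↥N) := by
    have hmem : ∀ x : ↥(S : Subgroup ↥N), t * ((x : ↥N) : G) * t⁻¹ ∈ (Subgroup.zpowers (r (1 : ZMod m))).map f := by
      intro x
      have hxP : t * ((x : ↥N) : G) * t⁻¹ ∈ (P : Subgroup G) := by
        rw [← ht, Sylow.coe_subgroup_smul]
        exact Subgroup.smul_mem_pointwise_smul _ (MulAut.conj t) _ (hR ⟨_, x.2, rfl⟩)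
      have hxN : t * ((x : ↥N) : G) * t⁻¹ ∈ N := (inferInstance : N.Normal).conj_mem _ (x : ↥N).2 t
      rw [← hfrange] at hxP
      obtain ⟨d, hd⟩ := hxP
      rw [← hd] at hxN ⊢
      cases d with
      | r i => exact ⟨r i, ⟨(i.val : ℤ), by show r (1 : ZMod m) ^ (i.val : ℤ) = r i; rw [r_one_zpow]; simp⟩, rfl⟩
      | sr i =>
        exfalso
        obtain ⟨hx0, hx1⟩ := Subgroup.mem_inf.mp hxN
        rcases hsrcls i with hc | hc
        · exact hM₀0 (hnconj M₀ hM₀n _ _ hc hx0)
        · exact hM₁1 (hnconj M₁ hM₁n _ _ hc hx1)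
    let ψ : ↥(S : Subgroup ↥N) →* ↥((Subgroup.zpowers (r (1 : ZMod m))).map f) :=
      MonoidHom.mk' (fun x => ⟨t * ((x : ↥N) : G) * t⁻¹, hmem x⟩) fun a b => Subtype.ext (by
        simp only [Subgroup.coe_mul]; group)
    haveI : IsCyclic ↥((Subgroup.zpowers (r (1 : ZMod m))).map f) := by
      rw [MonoidHom.map_zpowers]; infer_instance
    refine isCyclic_of_injective ψ fun a b hab => ?_
    have h1 := congrArg Subtype.val hab
    exact Subtype.ext (Subtype.ext (mul_left_cancel (mul_right_cancel h1)))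
  have hNnpc := Cfsg.Agent.Invol.hasNormalPComplement_of_closed (G := ↥N)
    (fun q hq _ => hq.two_le) S (Or.inl hcyc)
  rw [Transfer.hasNormalPComplement_iff_not_dvd] at hNnpc ⊢
  intro hd
  refine hNnpc (hd.trans ?_)
  obtain ⟨j, hj⟩ := Transfer.exists_pResidual_index (G := ↥N) 2
  haveI : (Cfsg.pResidual 2 ↥N).Characteristic := Transfer.pResidual_characteristic 2 ↥N
  have hidx : ∃ a, ((Cfsg.pResidual 2 ↥N).map N.subtype).index = 2 ^ a := by
    have h01 : N.index ∣ 2 ^ 2 := by
      have h1 := Subgroup.relIndex_inf_le (H := M₀) (K := M₁) (L := ⊤)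
      rw [pow_two, ← hM₀i]
      have h2 : N.relIndex M₀ ∣ 2 := by
        rw [hN, Subgroup.inf_relIndex_left, ← hM₁i]
        exact Subgroup.relIndex_dvd_index_of_normal M₁ M₀
      rw [← Subgroup.relIndex_mul_index (inf_le_left : N ≤ M₀), hM₀i]
      exact Nat.mul_dvd_mul_right h2 2
    obtain ⟨a, -, ha⟩ := (Nat.dvd_prime_pow Nat.prime_two).mp h01
    refine ⟨j + a, ?_⟩
    rw [Subgroup.index_map_subtype, hj, ha, pow_add]
  obtain ⟨a, ha⟩ := hidx
  refine (Subgroup.card_dvd_of_le (Transfer.pResidual_le_of_index ha)).trans ?_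
  rw [Subgroup.card_map_of_injective N.subtype_injective]

/-- The automiser condition forbids fusion of a reflection to the central involution. -/
theorem not_fused (P : Sylow 2 G) {h : ℕ} (hh : 0 < h) (e : ↥(P : Subgroup G) ≃* DihedralGroup (h + h))
    (hU : ∀ U : Subgroup G, U ≤ (P : Subgroup G) → IsKleinFour U →
      Subgroup.normalizer (U : Set G) ≤
        Subgroup.centralizer (U : Set G) ⊔ ((P : Subgroup G) ⊓ Subgroup.normalizer (U : Set G)))
    (i : ZMod (h + h)) :
    ¬ IsConj ((e.symm (sr i) : ↥(P : Subgroup G)) : G)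
      ((e.symm (r ((h : ℕ) : ZMod (h + h))) : ↥(P : Subgroup G)) : G) := by
  classical
  haveI : NeZero (h + h) := ⟨by omega⟩
  haveI := Fact.mk Nat.prime_two
  intro hc
  obtain ⟨g, hg⟩ := isConj_iff.mp hc
  set f : DihedralGroup (h + h) →* G := (P : Subgroup G).subtype.comp e.symm.toMonoidHom with hf
  have hfinj : Function.Injective f := (P : Subgroup G).subtype_injective.comp e.symm.injective
  have hfP : ∀ d, f d ∈ (P : Subgroup G) := fun d => (e.symm d).2
  have hfrange : ∀ a ∈ (P : Subgroup G), ∃ d, f d = a := fun a ha => ⟨e ⟨a, ha⟩, by simp [hf]⟩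
  set s := f (sr i) with hs
  set z := f (r ((h : ℕ) : ZMod (h + h))) with hz
  change g * s * g⁻¹ = z at hg
  have hhh : ((h : ℕ) : ZMod (h + h)) + (h : ℕ) = 0 := by rw [← Nat.cast_add, ZMod.natCast_self]
  have hneg : -((h : ℕ) : ZMod (h + h)) = (h : ℕ) := neg_eq_of_add_eq_zero_left hhh
  have hh0 : ((h : ℕ) : ZMod (h + h)) ≠ 0 := by
    rw [Ne, ZMod.natCast_eq_zero_iff]
    exact fun hd => absurd (Nat.le_of_dvd (by omega) hd) (by omega)
  have hzc : ∀ d, f d * z = z * f d := by
    intro d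
    rw [hz, ← map_mul, ← map_mul]
    congr 1
    cases d with
    | r j => rw [r_mul_r, r_mul_r]; exact congrArg r (add_comm _ _)
    | sr j =>
      rw [sr_mul_r, r_mul_sr]
      congr 1
      rw [sub_eq_add_neg, hneg]
  have hso : orderOf s = 2 := by rw [hs, orderOf_injective f hfinj, orderOf_sr]
  have hzo : orderOf z = 2 := by
    rw [← hg, ← hso]
    exact (MulAut.conj g).orderOf_eq s
  have hsz : s ≠ z := fun heq => by simpa using hfinj heq
  -- the four-group
  set U := Subgroup.zpowers s ⊔ Subgroup.zpowers z with hUdef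
  have hcomm : s * z = z * s := hzc _
  have hnorm : Subgroup.zpowers s ≤ Subgroup.normalizer ((Subgroup.zpowers z : Subgroup G) : Set G) :=
    (Subgroup.zpowers_le.mpr (by
      rw [Subgroup.zpowers_eq_closure, Subgroup.centralizer_closure]
      exact Subgroup.mem_centralizer_singleton_iff.mpr hcomm)).trans (Subgroup.centralizer_le_normalizer _)
  have hinf : Subgroup.zpowers s ⊓ Subgroup.zpowers z = ⊥ := by
    rw [Subgroup.eq_bot_iff_forall]
    intro x hx
    by_contra hx1
    have h2 : ∀ y : G, orderOf y = 2 → x ∈ Subgroup.zpowers y → x = y := by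
      intro y hy hxy
      have hfin : IsOfFinOrder y := isOfFinOrder_of_finite y
      obtain ⟨k, hk⟩ := hfin.mem_powers_iff_mem_zpowers.mpr hxy
      have hk2 : y ^ (k % 2) = x := by rw [← hk, ← hy, pow_mod_orderOf]
      rcases Nat.mod_two_eq_zero_or_one k with h0 | h0 <;> rw [h0] at hk2
      · exact absurd (by rw [← hk2, pow_zero]) hx1
      · rw [← hk2, pow_one]
    exact hsz ((h2 s hso hx.1).symm.trans (h2 z hzo hx.2))
  have hUc : Nat.card ↥U = 4 := by
    have h1 := Grp.card_sup_mul_card_inf hnorm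
    rw [hinf, Subgroup.card_bot, mul_one, Nat.card_zpowers, Nat.card_zpowers, hso, hzo] at h1
    exact h1
  have hUab : ∀ x ∈ U, ∀ y ∈ U, x * y = y * x := by
    have hcz : ∀ y : G, (∀ x ∈ ({s, z} : Set G), x * y = y * x) → U ≤ Subgroup.centralizer {y} := fun y hy =>
      sup_le (Subgroup.zpowers_le.mpr (Subgroup.mem_centralizer_singleton_iff.mpr (hy s (by simp))))
        (Subgroup.zpowers_le.mpr (Subgroup.mem_centralizer_singleton_iff.mpr (hy z (by simp))))
    intro x hx y hy
    have hyc : ∀ w ∈ ({s, z} : Set G), w * y = y * w := by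
      intro w hw
      have := hcz w (by
        rintro v (rfl | rfl) <;> rcases hw with rfl | rfl <;> first | rfl | exact hcomm | exact hcomm.symm) hy
      exact (Subgroup.mem_centralizer_singleton_iff.mp this).symm
    exact Subgroup.mem_centralizer_singleton_iff.mp (hcz y hyc hx)
  have hU2 : ∀ x ∈ U, x ^ 2 = 1 := by
    intro x hx
    obtain ⟨a, ha, b, hb, rfl⟩ := (Subgroup.coe_mul_of_left_le_normalizer_right _ _ hnorm).subset hx
    have ha2 : a ^ 2 = 1 := by
      obtain ⟨k, rfl⟩ := ha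
      rw [← zpow_natCast (s ^ k), ← zpow_mul, mul_comm, zpow_mul, zpow_natCast, ← hso, pow_orderOf_eq_one, one_zpow]
    have hb2 : b ^ 2 = 1 := by
      obtain ⟨k, rfl⟩ := hb
      rw [← zpow_natCast (z ^ k), ← zpow_mul, mul_comm, zpow_mul, zpow_natCast, ← hzo, pow_orderOf_eq_one, one_zpow]
    show (a * b) ^ 2 = 1
    rw [(hUab a (Subgroup.mem_sup_left ha) b (Subgroup.mem_sup_right hb) : a * b = b * a) |>
      fun hc => Commute.mul_pow hc 2, ha2, hb2, one_mul]
  haveI hK : IsKleinFour ↥U := by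
    haveI : Nontrivial ↥U := Finite.one_lt_card_iff_nontrivial.mp (by rw [hUc]; norm_num)
    exact ⟨hUc, (Monoid.exponent_eq_prime_iff Nat.prime_two).mpr fun x hx => orderOf_eq_prime (Subtype.ext (hU2 x x.2)) hx⟩
  have hUP : U ≤ (P : Subgroup G) := sup_le (Subgroup.zpowers_le.mpr (hfP _)) (Subgroup.zpowers_le.mpr (hfP _))
  have hfix : ∀ n ∈ Subgroup.normalizer (U : Set G), n * z = z * n := by
    intro n hn
    have hle : Subgroup.centralizer (U : Set G) ⊔ ((P : Subgroup G) ⊓ Subgroup.normalizer (U : Set G)) ≤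
        Subgroup.centralizer {z} := by
      refine sup_le (Subgroup.centralizer_le (Set.singleton_subset_iff.mpr
        (Subgroup.mem_sup_right (Subgroup.mem_zpowers z)))) fun a ha => ?_
      obtain ⟨d, rfl⟩ := hfrange a ha.1
      exact Subgroup.mem_centralizer_singleton_iff.mpr (hzc d)
    exact Subgroup.mem_centralizer_singleton_iff.mp (hle (hU U hUP hK hn))
  -- a Sylow subgroup centralising `s` and containing the four-group
  set Cs := Subgroup.centralizer ({s} : Set G) with hCs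
  have hUs : U ≤ Cs := sup_le (Subgroup.zpowers_le.mpr (Subgroup.mem_centralizer_singleton_iff.mpr rfl))
    (Subgroup.zpowers_le.mpr (Subgroup.mem_centralizer_singleton_iff.mpr hcomm.symm))
  have hgP : MulAut.conj g⁻¹ • (P : Subgroup G) ≤ Cs := by
    rw [← Grp.map_conj_eq_smul]
    rintro _ ⟨a, ha, rfl⟩
    obtain ⟨d, rfl⟩ := hfrange a ha
    refine Subgroup.mem_centralizer_singleton_iff.mpr ?_
    have hs' : s = g⁻¹ * z * g := by rw [← hg]; group
    rw [hs']
    show g⁻¹ * f d * g⁻¹⁻¹ * (g⁻¹ * z * g) = g⁻¹ * z * g * (g⁻¹ * f d * g⁻¹⁻¹)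
    calc g⁻¹ * f d * g⁻¹⁻¹ * (g⁻¹ * z * g) = g⁻¹ * (f d * z) * g := by group
      _ = g⁻¹ * (z * f d) * g := by rw [hzc]
      _ = g⁻¹ * z * g * (g⁻¹ * f d * g⁻¹⁻¹) := by group
  set Pc : Subgroup ↥Cs := (MulAut.conj g⁻¹ • (P : Subgroup G)).subgroupOf Cs with hPc
  have hPcp : IsPGroup 2 ↥Pc := by
    have : IsPGroup 2 ↥(MulAut.conj g⁻¹ • (P : Subgroup G)) := (g⁻¹ • P).isPGroup'
    exact this.comap_subtype
  have hPci : ¬ 2 ∣ Pc.index := fun hd => by
    have := (g⁻¹ • P).not_dvd_index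
    exact this (hd.trans (Subgroup.relIndex_dvd_index_of_le hgP))
  obtain ⟨T, hT⟩ := ((P.isPGroup'.to_le hUP).comap_subtype (K := Cs)).exists_le_sylow
  obtain ⟨c, hc⟩ := MulAction.exists_smul_eq ↥Cs (hPcp.toSylow hPci) T
  set x := (c : G) * g⁻¹ with hx
  have hxs : x * z * x⁻¹ = s := by
    rw [hx, ← hg]
    have hcs : (c : G) * s = s * c := Subgroup.mem_centralizer_singleton_iff.mp c.2
    calc (c : G) * g⁻¹ * (g * s * g⁻¹) * ((c : G) * g⁻¹)⁻¹ = (c : G) * s * (c : G)⁻¹ := by group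
      _ = s := by rw [hcs, mul_inv_cancel_right]
  set f' : DihedralGroup (h + h) →* G := (MulAut.conj x).toMonoidHom.comp f with hf'
  set T' := (T : Subgroup ↥Cs).map Cs.subtype with hT'
  have hTeq : T' = f'.range := by
    have hTc : (T : Subgroup ↥Cs) = MulAut.conj c • Pc := by rw [← hc]; rfl
    ext a
    constructor
    · rintro ⟨b, hb, rfl⟩
      rw [SetLike.mem_coe, hTc, ← Grp.map_conj_eq_smul] at hb
      obtain ⟨b', hb', rfl⟩ := hb
      have hb'' : (b' : G) ∈ MulAut.conj g⁻¹ • (P : Subgroup G) := hb'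
      rw [← Grp.map_conj_eq_smul] at hb''
      obtain ⟨q, hq, hqe⟩ := hb''
      obtain ⟨d, rfl⟩ := hfrange q hq
      refine ⟨d, ?_⟩
      show x * f d * x⁻¹ = (c : G) * (b' : G) * (c : G)⁻¹
      rw [← hqe, hx]
      show _ = (c : G) * (g⁻¹ * f d * g⁻¹⁻¹) * (c : G)⁻¹
      group
    · rintro ⟨d, rfl⟩
      have hmem : g⁻¹ * f d * g⁻¹⁻¹ ∈ MulAut.conj g⁻¹ • (P : Subgroup G) := by
        rw [← Grp.map_conj_eq_smul]; exact ⟨f d, hfP d, rfl⟩
      refine ⟨c * ⟨_, hgP hmem⟩ * c⁻¹, ?_, ?_⟩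
      · rw [SetLike.mem_coe, hTc, ← Grp.map_conj_eq_smul]
        exact ⟨⟨_, hgP hmem⟩, hmem, rfl⟩
      · show (c : G) * (g⁻¹ * f d * g⁻¹⁻¹) * (c : G)⁻¹ = x * f d * x⁻¹
        rw [hx]; group
  have hUT : U ≤ T' := fun a ha => ⟨⟨a, hUs ha⟩, hT ha, rfl⟩
  haveI hTn : Group.IsNilpotent ↥T' := (T.isPGroup'.map Cs.subtype).isNilpotent
  by_cases hTU : T' = U
  · -- then `U` is a Sylow subgroup
    have hrange : (P : Subgroup G) = U := by
      refine (Subgroup.eq_of_le_of_card_ge hUP ?_).symm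
      have h1 : Nat.card ↥(f'.range) = Nat.card ↥(P : Subgroup G) := by
        have hinj : Function.Injective f' := (MulAut.conj x).injective.comp hfinj
        rw [Nat.card_congr (MonoidHom.ofInjective hinj).toEquiv.symm, Nat.card_congr e.toEquiv]
      rw [← h1, ← hTeq, hTU]
    have hxN : x ∈ Subgroup.normalizer (U : Set G) := by
      rw [Grp.mem_normalizer_iff_smul]
      refine Subgroup.eq_of_le_of_card_ge ?_ (by rw [Grp.card_conj_smul])
      rw [← Grp.map_conj_eq_smul]
      rintro _ ⟨a, ha, rfl⟩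
      obtain ⟨d, rfl⟩ := hfrange a (hrange ▸ ha)
      rw [← hTU, hTeq]
      exact ⟨d, rfl⟩
    refine hsz (hxs.symm.trans ?_)
    rw [hfix x hxN, mul_inv_cancel_right]
  · have hlt : U.subgroupOf T' < ⊤ := lt_top_iff_ne_top.mpr fun h' =>
      hTU (le_antisymm (Subgroup.subgroupOf_eq_top.mp h') hUT)
    obtain ⟨y, hyn, hyU⟩ := SetLike.exists_of_lt (Group.normalizerCondition_of_isNilpotent _ hlt)
    refine hyU (Subgroup.mem_subgroupOf.mpr ?_)
    have hyN : (y : G) ∈ Subgroup.normalizer (U : Set G) := by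
      refine Subgroup.mem_normalizer_iff.mpr fun a => ⟨fun ha => ?_, fun ha => ?_⟩
      · exact Subgroup.mem_subgroupOf.mp ((Subgroup.mem_normalizer_iff.mp hyn ⟨a, hUT ha⟩).mp ha)
      · have ha' : a ∈ T' := by
          simpa [mul_assoc] using T'.mul_mem (T'.mul_mem (T'.inv_mem y.2) (hUT ha)) y.2
        exact Subgroup.mem_subgroupOf.mp ((Subgroup.mem_normalizer_iff.mp hyn ⟨a, ha'⟩).mpr ha)
    have hyz := hfix _ hyN
    obtain ⟨d, hd⟩ := hTeq.le y.2
    obtain ⟨w, hw⟩ := hTeq.le (hUT (Subgroup.mem_sup_right (Subgroup.mem_zpowers z)))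
    have hinj' : Function.Injective f' := (MulAut.conj x).injective.comp hfinj
    rw [← hd, ← hw, ← map_mul, ← map_mul] at hyz
    have hdw := hinj' hyz
    have hf'z : f' (r ((h : ℕ) : ZMod (h + h))) = s := hxs
    have hw2 : orderOf w = 2 := by rw [← orderOf_injective f' hinj', hw, hzo]
    cases w with
    | r j =>
      have hj : j = ((h : ℕ) : ZMod (h + h)) := by
        have h2 : j + j = 0 := by
          have := pow_orderOf_eq_one (r j)
          rw [hw2, pow_two, r_mul_r, one_def] at this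
          exact DihedralGroup.r.inj this
        have hj0 : j ≠ 0 := by
          rintro rfl
          rw [show r (0 : ZMod (h + h)) = 1 from rfl, orderOf_one] at hw2
          exact absurd hw2 (by norm_num)
        have := commute_sr hh (i := (0 : ZMod (h + h))) (e := r j) (by
          rw [r_mul_sr, sr_mul_r, zero_sub, zero_add, neg_eq_of_add_eq_zero_left h2])
        rcases this with h3 | h3 | h3 | h3
        · exact absurd (DihedralGroup.r.inj h3) hj0
        · exact DihedralGroup.r.inj h3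
        · simp at h3
        · simp at h3
      rw [hj, hf'z] at hw
      exact absurd hw hsz
    | sr j =>
      rw [← hd]
      rcases commute_sr hh hdw with h3 | h3 | h3 | h3
      · rw [h3, map_one]; exact U.one_mem
      · rw [h3, hf'z]; exact Subgroup.mem_sup_left (Subgroup.mem_zpowers s)
      · rw [h3, hw]; exact Subgroup.mem_sup_right (Subgroup.mem_zpowers z)
      · have e1 : sr (j + ((h : ℕ) : ZMod (h + h))) = sr j * r ((h : ℕ) : ZMod (h + h)) := (sr_mul_r _ _).symm
        rw [h3, e1, map_mul, hw, hf'z]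
        exact U.mul_mem (Subgroup.mem_sup_right (Subgroup.mem_zpowers z)) (Subgroup.mem_sup_left (Subgroup.mem_zpowers s))

/-- The four-group on a reflection and the central involution. -/
theorem exists_four (P : Sylow 2 G) {h : ℕ} (hh : 0 < h) (e : ↥(P : Subgroup G) ≃* DihedralGroup (h + h))
    (i : ZMod (h + h)) :
    ∃ U : Subgroup G, U ≤ (P : Subgroup G) ∧ IsKleinFour ↥U ∧
      orderOf ((e.symm (r ((h : ℕ) : ZMod (h + h))) : ↥(P : Subgroup G)) : G) = 2 ∧
      ((e.symm (r ((h : ℕ) : ZMod (h + h))) : ↥(P : Subgroup G)) : G) ≠ ((e.symm (sr i) : ↥(P : Subgroup G)) : G) ∧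
      ((e.symm (r ((h : ℕ) : ZMod (h + h))) : ↥(P : Subgroup G)) : G) ∈ U ∧
      ((e.symm (sr i) : ↥(P : Subgroup G)) : G) ∈ U := by
  classical
  haveI : NeZero (h + h) := ⟨by omega⟩
  haveI := Fact.mk Nat.prime_two
  set f : DihedralGroup (h + h) →* G := (P : Subgroup G).subtype.comp e.symm.toMonoidHom with hf
  have hfinj : Function.Injective f := (P : Subgroup G).subtype_injective.comp e.symm.injective
  have hfP : ∀ d, f d ∈ (P : Subgroup G) := fun d => (e.symm d).2
  set s := f (sr i) with hs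
  set z := f (r ((h : ℕ) : ZMod (h + h))) with hz
  have hhh : ((h : ℕ) : ZMod (h + h)) + (h : ℕ) = 0 := by rw [← Nat.cast_add, ZMod.natCast_self]
  have hneg : -((h : ℕ) : ZMod (h + h)) = (h : ℕ) := neg_eq_of_add_eq_zero_left hhh
  have hh0 : ((h : ℕ) : ZMod (h + h)) ≠ 0 := by
    rw [Ne, ZMod.natCast_eq_zero_iff]
    exact fun hd => absurd (Nat.le_of_dvd (by omega) hd) (by omega)
  have hzc : ∀ d, f d * z = z * f d := by
    intro d
    rw [hz, ← map_mul, ← map_mul]
    congr 1
    cases d with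
    | r j => rw [r_mul_r, r_mul_r]; exact congrArg r (add_comm _ _)
    | sr j =>
      rw [sr_mul_r, r_mul_sr]
      congr 1
      rw [sub_eq_add_neg, hneg]
  have hso : orderOf s = 2 := by rw [hs, orderOf_injective f hfinj, orderOf_sr]
  have hzo : orderOf z = 2 := by
    rw [hz, orderOf_injective f hfinj]
    refine orderOf_eq_prime ?_ ?_
    · rw [pow_two, r_mul_r, hhh, one_def]
    · rw [one_def]
      exact fun h1 => hh0 (DihedralGroup.r.inj h1)
  have hsz : s ≠ z := fun heq => by simpa using hfinj heq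
  -- the four-group
  set U := Subgroup.zpowers s ⊔ Subgroup.zpowers z with hUdef
  have hcomm : s * z = z * s := hzc _
  have hnorm : Subgroup.zpowers s ≤ Subgroup.normalizer ((Subgroup.zpowers z : Subgroup G) : Set G) :=
    (Subgroup.zpowers_le.mpr (by
      rw [Subgroup.zpowers_eq_closure, Subgroup.centralizer_closure]
      exact Subgroup.mem_centralizer_singleton_iff.mpr hcomm)).trans (Subgroup.centralizer_le_normalizer _)
  have hinf : Subgroup.zpowers s ⊓ Subgroup.zpowers z = ⊥ := by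
    rw [Subgroup.eq_bot_iff_forall]
    intro x hx
    by_contra hx1
    have h2 : ∀ y : G, orderOf y = 2 → x ∈ Subgroup.zpowers y → x = y := by
      intro y hy hxy
      have hfin : IsOfFinOrder y := isOfFinOrder_of_finite y
      obtain ⟨k, hk⟩ := hfin.mem_powers_iff_mem_zpowers.mpr hxy
      have hk2 : y ^ (k % 2) = x := by rw [← hk, ← hy, pow_mod_orderOf]
      rcases Nat.mod_two_eq_zero_or_one k with h0 | h0 <;> rw [h0] at hk2
      · exact absurd (by rw [← hk2, pow_zero]) hx1
      · rw [← hk2, pow_one]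
    exact hsz ((h2 s hso hx.1).symm.trans (h2 z hzo hx.2))
  have hUc : Nat.card ↥U = 4 := by
    have h1 := Grp.card_sup_mul_card_inf hnorm
    rw [hinf, Subgroup.card_bot, mul_one, Nat.card_zpowers, Nat.card_zpowers, hso, hzo] at h1
    exact h1
  have hUab : ∀ x ∈ U, ∀ y ∈ U, x * y = y * x := by
    have hcz : ∀ y : G, (∀ x ∈ ({s, z} : Set G), x * y = y * x) → U ≤ Subgroup.centralizer {y} := fun y hy =>
      sup_le (Subgroup.zpowers_le.mpr (Subgroup.mem_centralizer_singleton_iff.mpr (hy s (by simp))))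
        (Subgroup.zpowers_le.mpr (Subgroup.mem_centralizer_singleton_iff.mpr (hy z (by simp))))
    intro x hx y hy
    have hyc : ∀ w ∈ ({s, z} : Set G), w * y = y * w := by
      intro w hw
      have := hcz w (by
        rintro v (rfl | rfl) <;> rcases hw with rfl | rfl <;> first | rfl | exact hcomm | exact hcomm.symm) hy
      exact (Subgroup.mem_centralizer_singleton_iff.mp this).symm
    exact Subgroup.mem_centralizer_singleton_iff.mp (hcz y hyc hx)
  have hU2 : ∀ x ∈ U, x ^ 2 = 1 := by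
    intro x hx
    obtain ⟨a, ha, b, hb, rfl⟩ := (Subgroup.coe_mul_of_left_le_normalizer_right _ _ hnorm).subset hx
    have ha2 : a ^ 2 = 1 := by
      obtain ⟨k, rfl⟩ := ha
      rw [← zpow_natCast (s ^ k), ← zpow_mul, mul_comm, zpow_mul, zpow_natCast, ← hso, pow_orderOf_eq_one, one_zpow]
    have hb2 : b ^ 2 = 1 := by
      obtain ⟨k, rfl⟩ := hb
      rw [← zpow_natCast (z ^ k), ← zpow_mul, mul_comm, zpow_mul, zpow_natCast, ← hzo, pow_orderOf_eq_one, one_zpow]
    show (a * b) ^ 2 = 1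
    rw [(hUab a (Subgroup.mem_sup_left ha) b (Subgroup.mem_sup_right hb) : a * b = b * a) |>
      fun hc => Commute.mul_pow hc 2, ha2, hb2, one_mul]
  haveI hK : IsKleinFour ↥U := by
    haveI : Nontrivial ↥U := Finite.one_lt_card_iff_nontrivial.mp (by rw [hUc]; norm_num)
    exact ⟨hUc, (Monoid.exponent_eq_prime_iff Nat.prime_two).mpr fun x hx => orderOf_eq_prime (Subtype.ext (hU2 x x.2)) hx⟩
  have hUP : U ≤ (P : Subgroup G) := sup_le (Subgroup.zpowers_le.mpr (hfP _)) (Subgroup.zpowers_le.mpr (hfP _))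
  exact ⟨U, hUP, hK, hzo, hsz.symm, Subgroup.mem_sup_right (Subgroup.mem_zpowers z),
    Subgroup.mem_sup_left (Subgroup.mem_zpowers s)⟩

end Cfsg.Agent.Grp.DihNPC
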