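import Cfsg.Prelude
import Cfsg.Agent.Lib.Invol.DihedralNPC

/-!
# Four-subgroups of dihedral groups
-/

set_option autoImplicit false

namespace Cfsg.Agent.Invol.DihFour

open DihedralGroup

variable {m : ℕ} [NeZero m] {h : ZMod m}

theorem two_h_neg (hh : h + h = 0) : -h = h := neg_eq_of_add_eq_zero_left hh

/-- `{1, r h, sr i, sr (i + h)}`. -/
def four (hh : h + h = 0) (i : ZMod m) : Subgroup (DihedralGroup m) where
  carrier := {d | d = r 0 ∨ d = r h ∨ d = sr i ∨ d = sr (i + h)}
  one_mem' := Or.inl rfl
  mul_mem' := by
    have hn := neg_eq_of_add_eq_zero_left hh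
    have hh2 : ∀ x, h + (h + x) = x := fun x => by rw [← add_assoc, hh, zero_add]
    rintro a b (rfl | rfl | rfl | rfl) (rfl | rfl | rfl | rfl) <;>
      simp [r_mul_r, r_mul_sr, sr_mul_r, sr_mul_sr, hh, hh2, add_assoc, sub_eq_add_neg, hn, add_comm, add_left_comm]
  inv_mem' := by
    have hn := neg_eq_of_add_eq_zero_left hh
    rintro a (rfl | rfl | rfl | rfl) <;> simp [hn]

theorem mem_four {hh : h + h = 0} {i : ZMod m} {d : DihedralGroup m} :
    d ∈ four hh i ↔ d = r 0 ∨ d = r h ∨ d = sr i ∨ d = sr (i + h) := Iff.rfl

theorem rot_mem_normalizer (hh : h + h = 0) (i a : ZMod m) :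
    r a ∈ Subgroup.normalizer (four hh i : Set (DihedralGroup m)) ↔ a + a = 0 ∨ a + a = h := by
  have hn := two_h_neg hh
  constructor
  · intro ha
    have h1 := (Subgroup.mem_normalizer_iff.mp ha (sr i)).mp (mem_four.mpr (.inr (.inr (.inl rfl))))
    rw [r_mul_sr, inv_r, sr_mul_r, mem_four] at h1
    rcases h1 with h1 | h1 | h1 | h1
    · cases h1
    · cases h1
    · left; have := DihedralGroup.sr.inj h1; linear_combination -this
    · right; have := DihedralGroup.sr.inj h1; linear_combination -this - hh
  · intro ha
    refine Subgroup.mem_normalizer_fintype fun x hx => ?_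
    rcases mem_four.mp hx with rfl | rfl | rfl | rfl <;>
      simp only [r_mul_r, r_mul_sr, inv_r, sr_mul_r, mem_four]
    · left; congr 1; ring
    · right; left; congr 1; ring
    · rcases ha with ha | ha
      · right; right; left; congr 1; linear_combination -ha
      · right; right; right; congr 1; linear_combination -ha - hh
    · rcases ha with ha | ha
      · right; right; right; congr 1; linear_combination -ha
      · right; right; left; congr 1; linear_combination -ha

theorem refl_mem_normalizer (hh : h + h = 0) (i a : ZMod m) :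
    sr a ∈ Subgroup.normalizer (four hh i : Set (DihedralGroup m)) ↔
      (a - i) + (a - i) = 0 ∨ (a - i) + (a - i) = h := by
  have hn := two_h_neg hh
  constructor
  · intro ha
    have h1 := (Subgroup.mem_normalizer_iff.mp ha (sr i)).mp (mem_four.mpr (.inr (.inr (.inl rfl))))
    rw [sr_mul_sr, inv_sr, r_mul_sr, mem_four] at h1
    rcases h1 with h1 | h1 | h1 | h1
    · cases h1
    · cases h1
    · left; have := DihedralGroup.sr.inj h1; linear_combination this
    · right; have := DihedralGroup.sr.inj h1; linear_combination this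
  · intro ha
    refine Subgroup.mem_normalizer_fintype fun x hx => ?_
    rcases mem_four.mp hx with rfl | rfl | rfl | rfl <;>
      simp only [sr_mul_r, sr_mul_sr, inv_sr, r_mul_sr, mem_four]
    · left; congr 1; ring
    · right; left; congr 1; linear_combination -hh
    · rcases ha with ha | ha
      · right; right; left; congr 1; linear_combination ha
      · right; right; right; congr 1; linear_combination ha
    · rcases ha with ha | ha
      · right; right; right; congr 1; linear_combination ha - hh
      · right; right; left; congr 1; linear_combination ha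

theorem card_normalizer_le (hh : h + h = 0) (i j : ZMod m) :
    Nat.card ↥(Subgroup.normalizer (four hh j : Set (DihedralGroup m))) ≤
      Nat.card ↥(Subgroup.normalizer (four hh i : Set (DihedralGroup m))) := by
  let φ : DihedralGroup m → DihedralGroup m := fun d =>
    match d with
    | r a => r a
    | sr a => sr (a + (i - j))
  have hφ : Function.Injective φ := by
    rintro (a | a) (b | b) hab <;> simp [φ] at hab ⊢ <;> exact hab
  have hmem : ∀ d ∈ Subgroup.normalizer (four hh j : Set (DihedralGroup m)),
      φ d ∈ Subgroup.normalizer (four hh i : Set (DihedralGroup m)) := by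
    rintro (a | a) hd
    · exact (rot_mem_normalizer hh i a).mpr ((rot_mem_normalizer hh j a).mp hd)
    · refine (refl_mem_normalizer hh i (a + (i - j))).mpr ?_
      rcases (refl_mem_normalizer hh j a).mp hd with h1 | h1
      · left; linear_combination h1
      · right; linear_combination h1
  exact Nat.card_le_card_of_injective (fun d => ⟨φ d.1, hmem d.1 d.2⟩)
    fun d d' hd => Subtype.ext (hφ (congrArg Subtype.val hd))

theorem card_four (hh : h + h = 0) (h0 : h ≠ 0) (i : ZMod m) :
    Nat.card ↥(four hh i) = 4 := by
  classical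
  haveI : Fintype ↥(four hh i) := Fintype.ofFinite _
  rw [Nat.card_eq_fintype_card, Fintype.card_of_subtype ({r 0, r h, sr i, sr (i + h)} : Finset (DihedralGroup m))
    (fun d => by simp [mem_four])]
  have a1 : r h ≠ (1 : DihedralGroup m) := fun e => h0 (DihedralGroup.r.inj (e.trans one_def))
  have a2 : ∀ a : ZMod m, sr a ≠ (1 : DihedralGroup m) := fun a e => by rw [one_def] at e; cases e
  simp [h0, a1, Ne.symm a1, Ne.symm (a2 i), Ne.symm (a2 (i + h))]

theorem exponent_four (hh : h + h = 0) (i : ZMod m) : ∀ d ∈ four hh i, d * d = 1 := by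
  intro d hd
  rcases mem_four.mp hd with rfl | rfl | rfl | rfl <;>
    simp only [r_mul_r, sr_mul_sr, one_def, add_zero, hh, sub_self]

/-- Every four-subgroup is one of the standard ones. -/
theorem exists_eq_four {k : ℕ} (hm : m = k + k) (hk : 0 < k) (hh : ((k : ℕ) : ZMod m) + (k : ℕ) = 0)
    (V : Subgroup (DihedralGroup m)) (hV : IsKleinFour ↥V) : ∃ i, V = four hh i := by
  subst hm
  have h2 : ∀ d ∈ V, d * d = 1 := fun d hd => congrArg Subtype.val (IsKleinFour.mul_self (⟨d, hd⟩ : V))
  have hrot : ∀ a : ZMod (k + k), a + a = 0 → a = 0 ∨ a = (k : ℕ) := by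
    intro a ha
    rw [← ZMod.natCast_zmod_val a] at ha ⊢
    rw [← Nat.cast_add, ZMod.natCast_eq_zero_iff] at ha
    obtain ⟨c, hc⟩ := ha
    have hlt := ZMod.val_lt a
    rcases c with _ | _ | c
    · left
      have : a.val = 0 := by omega
      rw [this, Nat.cast_zero]
    · right
      congr 1
      omega
    · exfalso; nlinarith
  obtain ⟨i, hi⟩ : ∃ i, sr i ∈ V := by
    classical
    by_contra hcon
    push Not at hcon
    have hsub : ∀ d ∈ V, d = r 0 ∨ d = r ((k : ℕ) : ZMod (k + k)) := by
      rintro (a | a) hd
      · have := h2 _ hd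
        rw [r_mul_r, one_def, r.injEq] at this
        exact (hrot a this).imp (fun e => by rw [e]) (fun e => by rw [e])
      · exact absurd hd (hcon a)
    have h4 := IsKleinFour.card_four (G := ↥V)
    haveI : Fintype ↥V := Fintype.ofFinite _
    have h5 : Fintype.card ↥V ≤ ({r 0, r ((k : ℕ) : ZMod (k + k))} : Finset (DihedralGroup (k + k))).card := by
      rw [← Finset.card_univ]
      refine Finset.card_le_card_of_injOn Subtype.val (fun d _ => ?_) (fun _ _ _ _ h => Subtype.ext h)
      rcases hsub d.1 d.2 with e | e <;> simp [e]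
    rw [Nat.card_eq_fintype_card] at h4
    have := h5.trans Finset.card_le_two
    omega
  refine ⟨i, Subgroup.eq_of_le_of_card_ge (fun d hd => ?_) ?_⟩
  · have hc : d * sr i = sr i * d :=
      congrArg Subtype.val (mul_comm_of_klein (⟨d, hd⟩ : V) ⟨sr i, hi⟩)
    rcases Grp.DihNPC.commute_sr hk hc with e | e | e | e
    · exact mem_four.mpr (.inl e)
    · exact mem_four.mpr (.inr (.inl e))
    · exact mem_four.mpr (.inr (.inr (.inl e)))
    · exact mem_four.mpr (.inr (.inr (.inr e)))
  · rw [IsKleinFour.card_four (G := ↥V), card_four hh (by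
      rw [Ne, ZMod.natCast_eq_zero_iff]
      exact fun hd => absurd (Nat.le_of_dvd hk hd) (by omega))]
where
  mul_comm_of_klein {K : Type _} [Group K] [IsKleinFour K] (a b : K) : a * b = b * a := by
    have ha := IsKleinFour.mul_self a
    have hb := IsKleinFour.mul_self b
    have hab := IsKleinFour.mul_self (a * b)
    calc a * b = (a * b)⁻¹ := (inv_eq_of_mul_eq_one_right hab).symm
      _ = b⁻¹ * a⁻¹ := mul_inv_rev a b
      _ = b * a := by rw [inv_eq_of_mul_eq_one_right ha, inv_eq_of_mul_eq_one_right hb]

end Cfsg.Agent.Invol.DihFour
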