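import Cfsg.Prelude

/-!
# An inverted fixed point free element: counting fixed and inverted points
-/

set_option autoImplicit false

namespace Cfsg.Agent.Invol.DihTop

variable {G : Type*} [Group G] [Finite G]

theorem count {V : Subgroup G} (hV : V.Normal) {a x : G} (ha : a * a = 1) (hax : a * x * a = x⁻¹)
    (hfix : ∀ v ∈ V, v * x = x * v → v = 1) {k : ℕ} (hk : x ^ (2 * k + 1) = 1) :
    Nat.card ↥(V ⊓ Subgroup.centralizer ({a} : Set G)) ^ 2 = Nat.card ↥V ∧
      ∀ v ∈ V, a * v * a = v⁻¹ → ∃ w ∈ V, w * a * w⁻¹ * a = v := by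
  classical
  set C := V ⊓ Subgroup.centralizer ({a} : Set G) with hC
  have hainv : a⁻¹ = a := inv_eq_of_mul_eq_one_right ha
  have haa : ∀ y, a * (a * y) = y := fun y => by rw [← mul_assoc, ha, one_mul]
  have hconjx : ∀ n : ℕ, a * x ^ n * a = (x ^ n)⁻¹ := fun n => by
    have : (a * x * a⁻¹) ^ n = (x⁻¹) ^ n := by rw [hainv, hax]
    rwa [conj_pow, hainv, inv_pow] at this
  obtain ⟨a', ha'⟩ : ∃ b, b = a * x := ⟨_, rfl⟩
  have ha'2 : a' * a' = 1 := by rw [ha', ← mul_assoc, hax, inv_mul_cancel]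
  set y := x ^ k with hy
  have hya : y * a * y⁻¹ = a' := by
    have h1 : y * a = a * y⁻¹ := by
      rw [hy, ← hconjx k]; simp only [mul_assoc]; rw [haa]
    rw [h1, ha', mul_assoc]
    congr 1
    rw [← mul_inv_rev, ← pow_add]
    apply inv_eq_of_mul_eq_one_left
    rw [← hk, ← pow_succ']
    ring_nf
  have hconjV : ∀ g v : G, v ∈ V → g * v * g⁻¹ ∈ V := fun g v hv => hV.conj_mem v hv g
  set C' := V ⊓ Subgroup.centralizer ({a'} : Set G) with hC'
  have hCC' : Nat.card C = Nat.card C' := by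
    have : C.map (MulAut.conj y).toMonoidHom = C' := by
      rw [hC, hC', Subgroup.map_inf _ _ _ (MulAut.conj y).injective]
      congr 1
      · exact le_antisymm (by rintro _ ⟨v, hv, rfl⟩; exact hconjV y v hv)
          (fun v hv => ⟨y⁻¹ * v * y, by simpa using hconjV y⁻¹ v hv, by simp [mul_assoc]⟩)
      · rw [← hya]
        ext z
        rw [Subgroup.mem_map_equiv, Subgroup.mem_centralizer_singleton_iff, Subgroup.mem_centralizer_singleton_iff,
          MulAut.conj_symm_apply]
        constructor <;> intro h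
        · calc z * (y * a * y⁻¹) = y * (y⁻¹ * z * y * a) * y⁻¹ := by group
            _ = y * (a * (y⁻¹ * z * y)) * y⁻¹ := by rw [h]
            _ = y * a * y⁻¹ * z := by group
        · calc y⁻¹ * z * y * a = y⁻¹ * (z * (y * a * y⁻¹)) * y := by group
            _ = y⁻¹ * (y * a * y⁻¹ * z) * y := by rw [h]
            _ = a * (y⁻¹ * z * y) := by group
    rw [← this, Subgroup.card_map_of_injective (MulAut.conj y).injective]
  have hmem : ∀ {b z : G}, z ∈ V ⊓ Subgroup.centralizer ({b} : Set G) → z ∈ V ∧ z * b = b * z :=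
    fun h => ⟨h.1, Subgroup.mem_centralizer_singleton_iff.mp h.2⟩
  -- lower bound
  have hprod : Nat.card C * Nat.card C' ≤ Nat.card V := by
    rw [← Nat.card_prod]
    refine Nat.card_le_card_of_injective (fun z => (⟨(z.1 : G) * z.2, V.mul_mem z.1.2.1 z.2.2.1⟩ : V)) ?_
    rintro ⟨⟨u, hu⟩, ⟨w, hw⟩⟩ ⟨⟨u', hu'⟩, ⟨w', hw'⟩⟩ h
    have h' : u * w = u' * w' := congrArg Subtype.val h
    have e : u'⁻¹ * u = w' * w⁻¹ := by
      calc u'⁻¹ * u = u'⁻¹ * (u * w) * w⁻¹ := by group
        _ = w' * w⁻¹ := by rw [h']; group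
    set z := u'⁻¹ * u with hz
    have hzV : z ∈ V := V.mul_mem (V.inv_mem hu'.1) hu.1
    have h1 : Commute z a :=
      Commute.mul_left (Commute.inv_left (hmem hu').2) (hmem hu).2
    have h2 : Commute z a' := e ▸ Commute.mul_left (hmem hw').2 (Commute.inv_left (hmem hw).2)
    have h3 : Commute z x := by
      have : Commute z (a * a') := h1.mul_right h2
      rwa [ha', haa] at this
    have hz1 := hfix z hzV h3
    have hu1 : u = u' := by rw [hz, inv_mul_eq_one] at hz1; exact hz1.symm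
    subst hu1
    exact Prod.ext (Subtype.ext rfl) (Subtype.ext (mul_left_cancel h'))
  -- inverted elements
  let J := {v : V // a * (v : G) * a = (v : G)⁻¹}
  have hψ : Function.Bijective (fun w : V => (⟨(w : G) * x * (w : G)⁻¹ * x⁻¹, by
      rw [show (w : G) * x * (w : G)⁻¹ * x⁻¹ = w * (x * (w : G)⁻¹ * x⁻¹) by group]
      exact V.mul_mem w.2 (hconjV x _ (V.inv_mem w.2))⟩ : V)) := by
    rw [← Finite.injective_iff_bijective]
    intro u w h
    have h' : (u : G) * x * (u : G)⁻¹ * x⁻¹ = w * x * (w : G)⁻¹ * x⁻¹ := congrArg Subtype.val h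
    have h'' : (u : G) * x * (u : G)⁻¹ = w * x * (w : G)⁻¹ := mul_right_cancel h'
    have := hfix ((w : G)⁻¹ * u) (V.mul_mem (V.inv_mem w.2) u.2) (by
      calc (w : G)⁻¹ * u * x = (w : G)⁻¹ * ((u : G) * x * (u : G)⁻¹) * u := by group
        _ = (w : G)⁻¹ * ((w : G) * x * (w : G)⁻¹) * u := by rw [h'']
        _ = x * ((w : G)⁻¹ * u) := by group)
    exact Subtype.ext (inv_mul_eq_one.mp this).symm
  have hup : Nat.card J ≤ Nat.card C' := by
    have hex : ∀ v : J, ∃ w : C', (w : G) * x * (w : G)⁻¹ * x⁻¹ = (v.1 : G) := by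
      rintro ⟨v, hv⟩
      obtain ⟨w, hw⟩ := hψ.2 v
      have hw' : (w : G) * x * (w : G)⁻¹ * x⁻¹ = (v : G) := congrArg Subtype.val hw
      refine ⟨⟨w, w.2, Subgroup.mem_centralizer_singleton_iff.mpr ?_⟩, hw'⟩
      set b := (v : G) * a with hb
      have hb2 : b * b = 1 := by
        rw [hb, ← mul_assoc, mul_assoc _ a, mul_assoc, hv, mul_inv_cancel]
      have hba : b * a' = (w : G) * x * (w : G)⁻¹ := by
        rw [hb, ha', mul_assoc, haa, ← hw']; group
      have hinv : a' * ((w : G) * x * (w : G)⁻¹) * a' = ((w : G) * x * (w : G)⁻¹)⁻¹ := by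
        rw [← hba, mul_inv_rev, inv_eq_of_mul_eq_one_right hb2, inv_eq_of_mul_eq_one_right ha'2]
        simp only [mul_assoc]; rw [ha'2, mul_one]
      have hxa' : a' * x * a' = x⁻¹ := by
        calc a' * x * a' = a * x * (x * a) * x := by rw [ha']; group
          _ = a * (x ^ 2) * a * x := by rw [pow_two]; simp only [mul_assoc]
          _ = x⁻¹ := by rw [hconjx 2]; group
      set w' := a' * w * a' with hw'def
      have hia : a'⁻¹ = a' := inv_eq_of_mul_eq_one_right ha'2
      have e : w' * x * w'⁻¹ = (w : G) * x * (w : G)⁻¹ := by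
        calc w' * x * w'⁻¹ = a' * (w : G) * (a' * x * a') * (w : G)⁻¹ * a' := by
              rw [hw'def, mul_inv_rev, mul_inv_rev, hia]; simp only [mul_assoc]
          _ = a' * ((w : G) * x⁻¹ * (w : G)⁻¹) * a' := by rw [hxa']; group
          _ = (a' * ((w : G) * x * (w : G)⁻¹) * a')⁻¹ := by
              rw [mul_inv_rev, mul_inv_rev, hia]; group
          _ = (w : G) * x * (w : G)⁻¹ := by rw [hinv, inv_inv]
      have hw'V : w' ∈ V := by
        have := hconjV a' w w.2
        rwa [inv_eq_of_mul_eq_one_right ha'2] at this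
      have hone := hfix ((w : G)⁻¹ * w') (V.mul_mem (V.inv_mem w.2) hw'V) (by
        calc (w : G)⁻¹ * w' * x = (w : G)⁻¹ * (w' * x * w'⁻¹) * w' := by group
          _ = x * ((w : G)⁻¹ * w') := by rw [e]; group)
      have : w' = w := (inv_mul_eq_one.mp hone).symm
      calc (w : G) * a' = w' * a' := by rw [this]
        _ = a' * w := by rw [hw'def, mul_assoc, ha'2, mul_one]
    choose g hg using hex
    refine Nat.card_le_card_of_injective g fun u v huv => ?_
    exact Subtype.ext (Subtype.ext (by rw [← hg u, ← hg v, huv]))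
  let φ : V → J := fun w => ⟨⟨(w : G) * a * (w : G)⁻¹ * a, by
      have := hconjV a _ (V.inv_mem w.2)
      rw [hainv] at this
      simpa [mul_assoc] using V.mul_mem w.2 this⟩, by
    show a * ((w : G) * a * (w : G)⁻¹ * a) * a = ((w : G) * a * (w : G)⁻¹ * a)⁻¹
    simp [mul_assoc, hainv, ha]⟩
  let s : Set.range φ → V := fun z => z.2.choose
  have hsφ : ∀ z, φ (s z) = z.1 := fun z => z.2.choose_spec
  have hfib : Nat.card V ≤ Nat.card (Set.range φ) * Nat.card C := by
    rw [← Nat.card_prod]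
    refine Nat.card_le_card_of_injective
      (fun w => (⟨φ w, w, rfl⟩, ⟨(s ⟨φ w, w, rfl⟩ : G)⁻¹ * w, ?_⟩)) ?_
    · have h1 := congrArg (fun z : J => (z.1 : G)) (hsφ ⟨φ w, w, rfl⟩)
      set u := s ⟨φ w, w, rfl⟩
      have h2 : (u : G) * a * (u : G)⁻¹ = (w : G) * a * (w : G)⁻¹ := mul_right_cancel h1
      refine ⟨V.mul_mem (V.inv_mem u.2) w.2, Subgroup.mem_centralizer_singleton_iff.mpr ?_⟩
      calc (u : G)⁻¹ * w * a = (u : G)⁻¹ * ((w : G) * a * (w : G)⁻¹) * w := by group
        _ = (u : G)⁻¹ * ((u : G) * a * (u : G)⁻¹) * w := by rw [h2]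
        _ = a * ((u : G)⁻¹ * w) := by group
    · intro w w' h
      simp only [Prod.mk.injEq, Subtype.mk.injEq] at h
      obtain ⟨h1, h2⟩ := h
      have e : (⟨φ w, w, rfl⟩ : Set.range φ) = ⟨φ w', w', rfl⟩ := h1
      rw [e] at h2
      exact Subtype.ext (mul_left_cancel h2)
  have hrange : Nat.card (Set.range φ) ≤ Nat.card J := Nat.card_le_card_of_injective Subtype.val Subtype.val_injective
  have hc0 : 0 < Nat.card C := Nat.card_pos
  refine ⟨?_, fun v hv hinv => ?_⟩
  · rw [pow_two]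
    apply le_antisymm
    · calc Nat.card C * Nat.card C = Nat.card C * Nat.card C' := by rw [hCC']
        _ ≤ Nat.card V := hprod
    · exact hfib.trans (Nat.mul_le_mul_right _ (hrange.trans (hup.trans hCC'.ge)))
  · have hsurj : Function.Surjective φ := by
      rw [← Set.range_eq_univ]
      refine Set.eq_of_subset_of_ncard_le (Set.subset_univ _) ?_ (Set.toFinite _)
      rw [Set.ncard_univ, ← Nat.card_coe_set_eq]
      have h1 : Nat.card C * Nat.card C ≤ Nat.card (Set.range φ) * Nat.card C := by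
        refine le_trans ?_ hfib
        calc Nat.card C * Nat.card C = Nat.card C * Nat.card C' := by rw [hCC']
          _ ≤ Nat.card V := hprod
      exact (hup.trans hCC'.ge).trans (Nat.le_of_mul_le_mul_right h1 hc0)
    obtain ⟨w, hw⟩ := hsurj ⟨⟨v, hv⟩, hinv⟩
    exact ⟨w, w.2, congrArg (fun z : J => (z.1 : G)) hw⟩

end Cfsg.Agent.Invol.DihTop
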