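import Cfsg.Agent.Lib.Invol.ThreeCycleComponent

/-!
Subgroups of the symmetric group with quasisimple generalized Fitting subgroup and many double transpositions.

Two double transpositions moving exactly one common point give a 3-cycle; without 3-cycles the component
therefore respects a pairing of the points, or commutes with the product of four pairs, and is trivial.
-/

set_option autoImplicit false

namespace Cfsg.Agent.Invol.DoubleTr

open Equiv Equiv.Perm
open Cfsg.Agent.AltAut (cyc)
open Cfsg.Agent.Invol.ThreeCyc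

variable {n : ℕ} {H : Subgroup (Perm (Fin n))}

/-- A double transposition of `H`. -/
def DT (H : Subgroup (Perm (Fin n))) (a b c d : Fin n) : Prop :=
  ([a, b, c, d] : List (Fin n)).Nodup ∧ swap a b * swap c d ∈ H

/-- Its moved points. -/
def quad (a b c d : Fin n) : Finset (Fin n) := {a, b, c, d}

theorem mem_quad {a b c d x : Fin n} : x ∈ quad a b c d ↔ x = a ∨ x = b ∨ x = c ∨ x = d := by simp [quad]

theorem DT.distinct {a b c d : Fin n} (h : DT H a b c d) :
    a ≠ b ∧ a ≠ c ∧ a ≠ d ∧ b ≠ c ∧ b ≠ d ∧ c ≠ d := by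
  have := h.1
  simp at this
  tauto

theorem DT.card_quad {a b c d : Fin n} (h : DT H a b c d) : (quad a b c d).card = 4 := by
  obtain ⟨h1, h2, h3, h4, h5, h6⟩ := h.distinct
  rw [quad, Finset.card_insert_of_notMem (by simp [h1, h2, h3]), Finset.card_insert_of_notMem (by simp [h4, h5]),
    Finset.card_insert_of_notMem (by simp [h6]), Finset.card_singleton]

theorem DT.flip {a b c d : Fin n} (h : DT H a b c d) : DT H b a c d := by
  obtain ⟨h1, h2, h3, h4, h5, h6⟩ := h.distinct
  refine ⟨by simp [Ne.symm h1, h2, h3, h4, h5, h6], ?_⟩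
  rw [swap_comm b a]; exact h.2

theorem DT.rot {a b c d : Fin n} (h : DT H a b c d) : DT H c d a b := by
  obtain ⟨h1, h2, h3, h4, h5, h6⟩ := h.distinct
  refine ⟨by simp [h1, Ne.symm h2, Ne.symm h3, Ne.symm h4, Ne.symm h5, h6], ?_⟩
  have e : Commute (swap c d) (swap a b) := Equiv.Perm.Disjoint.commute fun x => by
    by_cases hx : x = c ∨ x = d
    · right
      rcases hx with rfl | rfl
      · exact swap_apply_of_ne_of_ne (Ne.symm h2) (Ne.symm h4)
      · exact swap_apply_of_ne_of_ne (Ne.symm h3) (Ne.symm h5)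
    · push Not at hx
      exact Or.inl (swap_apply_of_ne_of_ne hx.1 hx.2)
  rw [e.eq]; exact h.2

theorem DT.first {a b c d x : Fin n} (h : DT H a b c d) (hx : x ∈ quad a b c d) :
    ∃ b' c' d', DT H x b' c' d' ∧ quad x b' c' d' = quad a b c d := by
  rcases mem_quad.1 hx with rfl | rfl | rfl | rfl
  · exact ⟨b, c, d, h, rfl⟩
  · exact ⟨a, c, d, h.flip, by ext; simp only [mem_quad]; tauto⟩
  · exact ⟨d, a, b, h.rot, by ext; simp only [mem_quad]; tauto⟩
  · exact ⟨c, a, b, h.rot.flip, by ext; simp only [mem_quad]; tauto⟩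

theorem DT.conj {a b c d : Fin n} (h : DT H a b c d) {g : Perm (Fin n)} (hg : g ∈ H) :
    DT H (g a) (g b) (g c) (g d) := by
  refine ⟨List.Nodup.map g.injective h.1, ?_⟩
  have := H.mul_mem (H.mul_mem hg h.2) (H.inv_mem hg)
  rwa [show swap (g a) (g b) * swap (g c) (g d) = g * (swap a b * swap c d) * g⁻¹ by
    rw [swap_apply_apply, swap_apply_apply]; group]

theorem DT.image {a b c d : Fin n} (g : Perm (Fin n)) :
    (quad a b c d).image g = quad (g a) (g b) (g c) (g d) := by simp [quad, Finset.image_insert]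

theorem sw_ne : ∀ t : Fin 2, Equiv.swap 0 1 t ≠ t := by decide

/-- Two double transpositions with exactly one common moved point give a 3-cycle. -/
theorem three_of_meet {a b c d e f k : Fin n} (h : DT H a b c d) (h' : DT H a e f k)
    (he : e ∉ quad a b c d) (hf : f ∉ quad a b c d) (hk : k ∉ quad a b c d) :
    cyc a b e ∈ H := by
  obtain ⟨h1, h2, h3, h4, h5, h6⟩ := h.distinct
  obtain ⟨g1, g2, g3, g4, g5, g6⟩ := h'.distinct
  simp only [mem_quad, not_or] at he hf hk
  obtain ⟨e1, e2, e3, e4⟩ := he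
  obtain ⟨f1, f2, f3, f4⟩ := hf
  obtain ⟨k1, k2, k3, k4⟩ := hk
  have key : cyc a b e = (swap a b * swap c d * (swap a e * swap f k)) * (swap a b * swap c d * (swap a e * swap f k)) := by
    ext x
    simp only [cyc, Equiv.Perm.mul_apply]
    by_cases xa : x = a
    · subst xa; simp [swap_apply_of_ne_of_ne, *, Ne.symm h1, Ne.symm h2, Ne.symm h3, Ne.symm h4, Ne.symm h5, Ne.symm e2, Ne.symm e3, Ne.symm e4, Ne.symm g2, Ne.symm g3, Ne.symm g4, Ne.symm g5, Ne.symm f2, Ne.symm k2]
    by_cases xb : x = b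
    · subst xb; simp [swap_apply_of_ne_of_ne, *, Ne.symm h1, Ne.symm h2, Ne.symm h3, Ne.symm h4, Ne.symm h5, Ne.symm e2, Ne.symm e3, Ne.symm e4, Ne.symm g2, Ne.symm g3, Ne.symm g4, Ne.symm g5, Ne.symm f2, Ne.symm k2]
    by_cases xc : x = c
    · subst xc; simp [swap_apply_of_ne_of_ne, *, Ne.symm h1, Ne.symm h2, Ne.symm h3, Ne.symm h4, Ne.symm h5, Ne.symm h6, Ne.symm e2, Ne.symm e3, Ne.symm e4, Ne.symm g2, Ne.symm g3, Ne.symm f3, Ne.symm k3, Ne.symm f4, Ne.symm k4]
    by_cases xd : x = d
    · subst xd; simp [swap_apply_of_ne_of_ne, *, Ne.symm h1, Ne.symm h2, Ne.symm h3, Ne.symm h4, Ne.symm h5, Ne.symm h6, Ne.symm e2, Ne.symm e3, Ne.symm e4, Ne.symm g2, Ne.symm g3, Ne.symm f3, Ne.symm k3, Ne.symm f4, Ne.symm k4]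
    by_cases xe : x = e
    · subst xe; simp [swap_apply_of_ne_of_ne, *, Ne.symm h1, Ne.symm h2, Ne.symm h3, Ne.symm h4, Ne.symm h5, Ne.symm e2, Ne.symm e3, Ne.symm e4, Ne.symm g2, Ne.symm g3, Ne.symm g4, Ne.symm g5, Ne.symm f2, Ne.symm k2]
    by_cases xf : x = f
    · subst xf; simp [swap_apply_of_ne_of_ne, *, Ne.symm h2, Ne.symm h3, Ne.symm g2, Ne.symm g3, Ne.symm g4, Ne.symm g5, Ne.symm g6, Ne.symm f2, Ne.symm k2, Ne.symm e2]
    by_cases xk : x = k
    · subst xk; simp [swap_apply_of_ne_of_ne, *, Ne.symm h2, Ne.symm h3, Ne.symm g2, Ne.symm g3, Ne.symm g4, Ne.symm g5, Ne.symm g6, Ne.symm f2, Ne.symm k2, Ne.symm e2]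
    simp [swap_apply_of_ne_of_ne, *]
  rw [key]
  exact H.mul_mem (H.mul_mem h.2 h'.2) (H.mul_mem h.2 h'.2)

theorem meet_not_one {U : Finset (Fin n)}
    (h3 : ∀ x y w : Fin n, x ∈ U → y ∈ U → w ∈ U → x ≠ y → y ≠ w → x ≠ w → cyc x y w ∉ H)
    {a b c d a' b' c' d' : Fin n} (h : DT H a b c d) (h' : DT H a' b' c' d')
    (hU : quad a b c d ⊆ U) (hU' : quad a' b' c' d' ⊆ U) {x : Fin n} (hx : x ∈ quad a b c d)
    (hx' : x ∈ quad a' b' c' d') : ∃ y, y ≠ x ∧ y ∈ quad a b c d ∧ y ∈ quad a' b' c' d' := by
  obtain ⟨b₁, c₁, d₁, hA, hAq⟩ := h.first hx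
  obtain ⟨b₂, c₂, d₂, hB, hBq⟩ := h'.first hx'
  rw [← hAq, ← hBq]
  by_contra hcon
  push Not at hcon
  obtain ⟨g1, g2, g3, -⟩ := hB.distinct
  obtain ⟨a1, -⟩ := hA.distinct
  have hb : b₂ ∉ quad x b₁ c₁ d₁ := fun hm => hcon _ g1.symm hm (by simp [mem_quad])
  have hm := three_of_meet hA hB hb (fun hm => hcon _ g2.symm hm (by simp [mem_quad]))
    (fun hm => hcon _ g3.symm hm (by simp [mem_quad]))
  refine h3 x b₁ b₂ (hU hx) (hU (hAq ▸ by simp [mem_quad])) (hU' (hBq ▸ by simp [mem_quad])) a1 ?_ g1 hm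
  exact fun e => hb (e ▸ by simp [mem_quad])

variable (hF : Cfsg.IsQuasisimple ↥(Cfsg.generalizedFittingSubgroup ↥H))

include hF

/-- A homomorphism of `F*(H)` to a soluble group is trivial. -/
theorem hom_trivial {S : Type} [Group S] (hS : Group.IsSolvable S)
    (f : ↥(Cfsg.generalizedFittingSubgroup ↥H) →* S) : f = 1 := by
  have hp : f.range = ⊥ := by
    refine Grp.eq_bot_of_perfect_of_solvable ?_ (Grp.isSolvable_of_le le_top (by
      exact Group.isSolvable_of_surjective (f := (Subgroup.topEquiv (G := S)).symm.toMonoidHom) (MulEquiv.surjective _)))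
    rw [MonoidHom.range_eq_map, ← Subgroup.map_commutator, ← commutator_def, hF.1.commutator_eq_top]
  exact MonoidHom.ext fun x => Subgroup.mem_bot.1 (hp ▸ ⟨x, rfl⟩ : f x ∈ (⊥ : Subgroup S))

theorem solvable_perm_small {α : Type} [Fintype α] [DecidableEq α] (h : Fintype.card α ≤ 4) :
    Group.IsSolvable (Perm α) := by
  obtain ⟨i⟩ : Nonempty (α ↪ Fin 4) := Function.Embedding.nonempty_of_card_le (by simpa using h)
  exact Grp.isSolvable_of_injective (Perm.viaEmbeddingHom i) (Perm.viaEmbeddingHom_injective i)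
    Grp.Zas.isSolvable_sym_four

/-- `F*(H)` fixes pointwise any invariant set of at most four points. -/
theorem fixes_small {S : Finset (Fin n)} (hS : S.card ≤ 4)
    (hinv : ∀ k ∈ Cfsg.generalizedFittingSubgroup ↥H, ∀ x ∈ S, (k : Perm (Fin n)) x ∈ S) :
    ∀ k ∈ Cfsg.generalizedFittingSubgroup ↥H, ∀ x ∈ S, (k : Perm (Fin n)) x = x := by
  intro k hk x hx
  let f : ↥(Cfsg.generalizedFittingSubgroup ↥H) →* Perm {y // y ∈ S} :=
    { toFun := fun k => ((k : ↥H) : Perm (Fin n)).subtypePerm fun y =>
        ⟨fun hy => by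
          have := hinv _ ((Cfsg.generalizedFittingSubgroup ↥H).inv_mem k.2) _ hy
          simpa using this, hinv _ k.2 y⟩
      map_one' := Equiv.ext fun _ => Subtype.ext rfl
      map_mul' := fun _ _ => Equiv.ext fun _ => Subtype.ext rfl }
  have h := hom_trivial hF (solvable_perm_small hF (by simpa using hS)) f
  exact congrArg Subtype.val (DFunLike.congr_fun (DFunLike.congr_fun h ⟨k, hk⟩) (⟨x, hx⟩ : {y // y ∈ S}) :)

theorem not_all_fixed : ¬ ∀ k ∈ Cfsg.generalizedFittingSubgroup ↥H, ∀ x, (k : Perm (Fin n)) x = x := by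
  intro h
  haveI := Grp.IsQuasisimple.nontrivial hF
  obtain ⟨k, hk⟩ := exists_ne (1 : ↥(Cfsg.generalizedFittingSubgroup ↥H))
  exact hk (Subtype.ext (Subtype.ext (Equiv.ext fun x => h k k.2 x)))

/-- An abelian subgroup normal in `H` is centralised by `F*(H)`. -/
theorem abelian_normal_centralized {R : Subgroup ↥H} (hn : R.Normal) (hab : ∀ x ∈ R, ∀ y ∈ R, x * y = y * x) :
    ∀ k ∈ Cfsg.generalizedFittingSubgroup ↥H, ∀ r ∈ R, k * r = r * k := by
  haveI : IsMulCommutative ↥R := ⟨⟨fun x y => Subtype.ext (hab x x.2 y y.2)⟩⟩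
  exact fun k hk r hr => Subgroup.mem_centralizer_iff.1
    (solvable_subnormal_centralizes hF hn.isSubnormal (Group.isSolvable_of_comm mul_comm') hr) k hk

omit hF

section pairs

variable {p : ℕ} (E : Fin p × Fin 2 ↪ Fin n)

/-- The product of two pair transpositions. -/
def two (i j : Fin p) : Perm (Fin n) := swap (E (i, 0)) (E (i, 1)) * swap (E (j, 0)) (E (j, 1))

theorem DT_two {i j : Fin p} (hij : i ≠ j) (h : two E i j ∈ H) : DT H (E (i, 0)) (E (i, 1)) (E (j, 0)) (E (j, 1)) := by
  refine ⟨?_, h⟩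
  simp [E.injective.eq_iff, hij]

theorem mem_quad_two {i j l : Fin p} {r : Fin 2} :
    E (l, r) ∈ quad (E (i, 0)) (E (i, 1)) (E (j, 0)) (E (j, 1)) ↔ l = i ∨ l = j := by
  simp only [mem_quad, E.injective.eq_iff, Prod.mk.injEq]
  constructor
  · rintro (⟨h, -⟩ | ⟨h, -⟩ | ⟨h, -⟩ | ⟨h, -⟩)
    · exact Or.inl h
    · exact Or.inl h
    · exact Or.inr h
    · exact Or.inr h
  · rintro (rfl | rfl) <;> fin_cases r <;> simp

theorem two_apply {i j : Fin p} (hij : i ≠ j) (l : Fin p) (r : Fin 2) :
    two E i j (E (l, r)) = if l = i ∨ l = j then E (l, Equiv.swap 0 1 r) else E (l, r) := by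
  rw [two, Equiv.Perm.mul_apply]
  by_cases h1 : l = i
  · subst h1
    rw [if_pos (Or.inl rfl), swap_apply_of_ne_of_ne (x := E (l, r)) (a := E (j, 0)) (b := E (j, 1))
      (by simp [E.injective.eq_iff, hij]) (by simp [E.injective.eq_iff, hij])]
    fin_cases r <;> simp
  by_cases h2 : l = j
  · subst h2
    rw [if_pos (Or.inr rfl)]
    fin_cases r <;> simp [swap_apply_of_ne_of_ne, E.injective.eq_iff, h1]
  rw [if_neg (by tauto), swap_apply_of_ne_of_ne (x := E (l, r)) (by simp [E.injective.eq_iff, h2]) (by simp [E.injective.eq_iff, h2]),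
    swap_apply_of_ne_of_ne (by simp [E.injective.eq_iff, h1]) (by simp [E.injective.eq_iff, h1])]

theorem two_other {i j : Fin p} {x : Fin n} (hx : ∀ q, E q ≠ x) : two E i j x = x := by
  rw [two, Equiv.Perm.mul_apply, swap_apply_of_ne_of_ne (x := x) (hx _).symm (hx _).symm,
    swap_apply_of_ne_of_ne (hx _).symm (hx _).symm]

theorem two_commute {i j i' j' : Fin p} (hij : i ≠ j) (hij' : i' ≠ j') : two E i j * two E i' j' = two E i' j' * two E i j := by
  ext x
  simp only [Equiv.Perm.mul_apply]
  by_cases hx : ∃ q, E q = x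
  · obtain ⟨⟨l, r⟩, rfl⟩ := hx
    rw [two_apply E hij' l r, two_apply E hij l r]
    split_ifs with h1 h2 h2
    · rw [two_apply E hij, two_apply E hij', if_pos h2, if_pos h1]
    · rw [two_apply E hij, two_apply E hij', if_neg h2, if_pos h1]
    · rw [two_apply E hij, two_apply E hij', if_pos h2, if_neg h1]
    · rw [two_apply E hij, two_apply E hij', if_neg h2, if_neg h1]
  · push Not at hx
    rw [two_other E hx, two_other E hx, two_other E hx]

end pairs

include hF

/-- Without 3-cycles inside `U`, the component fixes `U` pointwise. -/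
theorem fixes_all {p : ℕ} (hp : 4 ≤ p) (E : Fin p × Fin 2 ↪ Fin n) (U : Finset (Fin n)) (hEU : ∀ q, E q ∈ U)
    (hUinv : ∀ h ∈ H, ∀ x ∈ U, h x ∈ U) (hfree : U.card ≤ 2 * p + 1)
    (htwo : ∀ i j, i ≠ j → two E i j ∈ H)
    (h3 : ∀ x y w : Fin n, x ∈ U → y ∈ U → w ∈ U → x ≠ y → y ≠ w → x ≠ w → cyc x y w ∉ H) :
    ∀ k ∈ Cfsg.generalizedFittingSubgroup ↥H, ∀ x ∈ U, (k : Perm (Fin n)) x = x := by
  classical
  set W : Finset (Fin n) := Finset.univ.map E with hW
  have memW : ∀ x, x ∈ W ↔ ∃ q, E q = x := fun x => by simp [hW]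
  have hWU : W ⊆ U := fun x hx => by obtain ⟨q, rfl⟩ := (memW x).1 hx; exact hEU q
  have hWc : W.card = 2 * p := by simp [hW, mul_comm]
  have hUW : (U \ W).card ≤ 1 := by rw [Finset.card_sdiff_of_subset hWU]; omega
  have h1of : ∀ s : Fin 2, s = 0 ∨ s = 1 := by decide
  -- the two kinds of blocks
  have dich : ∀ a b c d, DT H a b c d → quad a b c d ⊆ U →
      (∃ i j, i ≠ j ∧ quad a b c d = quad (E (i, 0)) (E (i, 1)) (E (j, 0)) (E (j, 1))) ∨
      (p = 4 ∧ quad a b c d ⊆ W ∧ ∀ i, (E (i, 0) ∈ quad a b c d ↔ E (i, 1) ∉ quad a b c d)) := by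
    intro a b c d h hU
    set B := quad a b c d with hB
    have hne1 : ∀ i j r, i ≠ j → E (i, r) ∈ B → E (i, Equiv.swap 0 1 r) ∉ B → E (j, 0) ∈ B ∨ E (j, 1) ∈ B := by
      intro i j r hij hm hm'
      obtain ⟨y, hy, hyB, hyq⟩ := meet_not_one h3 h (DT_two E hij (htwo i j hij)) hU (fun x hx => by
        rcases mem_quad.1 hx with rfl | rfl | rfl | rfl <;> exact hEU _) hm ((mem_quad_two E).2 (Or.inl rfl))
      rcases mem_quad.1 hyq with rfl | rfl | rfl | rfl
      · exfalso
        rcases h1of r with rfl | rfl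
        · exact hy rfl
        · exact hm' (by simpa using hyB)
      · exfalso
        rcases h1of r with rfl | rfl
        · exact hm' (by simpa using hyB)
        · exact hy rfl
      · exact Or.inl hyB
      · exact Or.inr hyB
    by_cases hsplit : ∃ i r, E (i, r) ∈ B ∧ E (i, Equiv.swap 0 1 r) ∉ B
    · right
      obtain ⟨i, r, hm, hm'⟩ := hsplit
      have hmeet : ∀ l, ∃ s, E (l, s) ∈ B := by
        intro l
        by_cases hl : i = l
        · exact ⟨r, hl ▸ hm⟩
        · rcases hne1 i l r hl hm hm' with h' | h'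
          · exact ⟨_, h'⟩
          · exact ⟨_, h'⟩
      choose s hs using hmeet
      have hinj : Function.Injective fun l => E (l, s l) := fun l l' e => (Prod.mk.injEq .. ▸ E.injective e).1
      have hsub : (Finset.univ.image fun l => E (l, s l)) ⊆ B := fun x hx => by
        obtain ⟨l, -, rfl⟩ := Finset.mem_image.1 hx; exact hs l
      have hc := Finset.card_le_card hsub
      rw [Finset.card_image_of_injective _ hinj, Finset.card_univ, Fintype.card_fin, h.card_quad] at hc
      have heq : (Finset.univ.image fun l => E (l, s l)) = B := Finset.eq_of_subset_of_card_le hsub (by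
        rw [Finset.card_image_of_injective _ hinj, Finset.card_univ, Fintype.card_fin, h.card_quad]; exact hp)
      refine ⟨by omega, fun x hx => ?_, fun l => ?_⟩
      · rw [← heq] at hx
        obtain ⟨l, -, rfl⟩ := Finset.mem_image.1 hx
        exact (memW _).2 ⟨_, rfl⟩
      · rw [← heq]
        simp only [Finset.mem_image, Finset.mem_univ, true_and, E.injective.eq_iff, Prod.mk.injEq]
        rcases h1of (s l) with e | e <;> constructor
        · rintro - ⟨l', rfl, e'⟩; rw [e] at e'; exact absurd e' (by decide)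
        · exact fun _ => ⟨l, rfl, e⟩
        · rintro ⟨l', rfl, e'⟩; rw [e] at e'; exact absurd e' (by decide)
        · exact fun hh => absurd ⟨l, rfl, e⟩ hh
    · left
      push Not at hsplit
      set I := (Finset.univ : Finset (Fin p)).filter (fun i => E (i, 0) ∈ B) with hI
      have hall : ∀ i r, E (i, r) ∈ B → i ∈ I := fun i r hm => by
        rcases h1of r with rfl | rfl
        · simp [hI, hm]
        · have := hsplit i 1 hm
          simp only [swap_apply_right] at this
          simp [hI, this]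
      have hBW : B ∩ W = (I ×ˢ (Finset.univ : Finset (Fin 2))).map E := by
        ext x
        simp only [Finset.mem_inter, memW, Finset.mem_map, Finset.mem_product, Finset.mem_univ, and_true]
        constructor
        · rintro ⟨hx, ⟨i, r⟩, rfl⟩; exact ⟨(i, r), hall i r hx, rfl⟩
        · rintro ⟨⟨i, r⟩, hi, rfl⟩
          simp only [hI, Finset.mem_filter, Finset.mem_univ, true_and] at hi
          refine ⟨?_, _, rfl⟩
          rcases h1of r with rfl | rfl
          · exact hi
          · simpa using hsplit i 0 hi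
      have hc1 := Finset.card_inter_add_card_sdiff B W
      have hc2 : (B \ W).card ≤ 1 := le_trans (Finset.card_le_card (Finset.sdiff_subset_sdiff hU le_rfl)) hUW
      rw [hBW, Finset.card_map, Finset.card_product, Finset.card_univ, Fintype.card_fin, h.card_quad] at hc1
      have hI2 : I.card = 2 := by omega
      obtain ⟨i, j, hij, hIij⟩ := Finset.card_eq_two.1 hI2
      refine ⟨i, j, hij, (Finset.eq_of_subset_of_card_le (fun x hx => ?_) (by
        rw [h.card_quad, (DT_two E hij (htwo i j hij)).card_quad])).symm⟩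
      have hmem : ∀ l ∈ I, ∀ r, E (l, r) ∈ B := fun l hl r => by
        have : E (l, r) ∈ B ∩ W := by
          rw [hBW]; exact Finset.mem_map.2 ⟨(l, r), Finset.mem_product.2 ⟨hl, Finset.mem_univ _⟩, rfl⟩
        exact (Finset.mem_inter.1 this).1
      rcases mem_quad.1 hx with rfl | rfl | rfl | rfl <;> exact hmem _ (by simp [hIij]) _
  have hblockW : ∀ a b c d, DT H a b c d → quad a b c d ⊆ U → quad a b c d ⊆ W := by
    intro a b c d h hU
    rcases dich a b c d h hU with ⟨i, j, -, e⟩ | ⟨-, hsub, -⟩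
    · intro x hx
      rw [e] at hx
      rcases mem_quad.1 hx with rfl | rfl | rfl | rfl <;> exact (memW _).2 ⟨_, rfl⟩
    · exact hsub
  have hne : ∀ l : Fin p, ∃ l', l' ≠ l := fun l => by
    haveI : Nontrivial (Fin p) := Fin.nontrivial_iff_two_le.2 (by omega)
    exact exists_ne l
  have hconjU : ∀ {i j}, i ≠ j → ∀ g ∈ H, quad (g (E (i, 0))) (g (E (i, 1))) (g (E (j, 0))) (g (E (j, 1))) ⊆ U := by
    intro i j _ g hg x hx
    rcases mem_quad.1 hx with rfl | rfl | rfl | rfl <;> exact hUinv g hg _ (hEU _)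
  have hWinv : ∀ g ∈ H, ∀ x ∈ W, g x ∈ W := by
    intro g hg x hx
    obtain ⟨⟨l, r⟩, rfl⟩ := (memW x).1 hx
    obtain ⟨l', hl'⟩ := hne l
    refine hblockW _ _ _ _ ((DT_two E hl'.symm (htwo l l' hl'.symm)).conj hg) (hconjU hl'.symm g hg) ?_
    rw [mem_quad]
    rcases h1of r with rfl | rfl <;> simp
  have hfixfree : ∀ g ∈ H, ∀ x ∈ U, x ∉ W → g x = x := by
    intro g hg x hx hxW
    have hgx : g x ∈ U \ W := Finset.mem_sdiff.2 ⟨hUinv g hg x hx, fun h => hxW (by
      have := hWinv g⁻¹ (H.inv_mem hg) _ h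
      simpa using this)⟩
    exact Finset.card_le_one.1 hUW _ hgx _ (Finset.mem_sdiff.2 ⟨hx, hxW⟩)
  suffices hpair : ∀ k ∈ Cfsg.generalizedFittingSubgroup ↥H, ∀ i r, ∃ s, (k : Perm (Fin n)) (E (i, r)) = E (i, s) by
    intro k hk x hx
    by_cases hxW : x ∈ W
    · obtain ⟨⟨i, r⟩, rfl⟩ := (memW x).1 hxW
      refine fixes_small hF (S := {E (i, 0), E (i, 1)}) (le_trans Finset.card_le_two (by norm_num)) ?_ k hk _ ?_
      · intro k' hk' y hy
        simp only [Finset.mem_insert, Finset.mem_singleton] at hy ⊢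
        rcases hy with rfl | rfl
        · obtain ⟨s, hs⟩ := hpair k' hk' i 0
          rw [hs]; rcases h1of s with rfl | rfl <;> simp
        · obtain ⟨s, hs⟩ := hpair k' hk' i 1
          rw [hs]; rcases h1of s with rfl | rfl <;> simp
      · rcases h1of r with rfl | rfl <;> simp
    · exact hfixfree _ k.2 x hx hxW
  by_cases hodd : ∃ a b c d, DT H a b c d ∧ quad a b c d ⊆ U ∧ p = 4 ∧ quad a b c d ⊆ W ∧
      ∀ i, (E (i, 0) ∈ quad a b c d ↔ E (i, 1) ∉ quad a b c d)
  · -- four pairs
    obtain ⟨a, b, c, d, hu, huU, rfl, huW, hu1⟩ := hodd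
    let R : Subgroup ↥H :=
      { carrier := {g | (∀ x, x ∉ W → (g : Perm (Fin n)) x = x) ∧ ∀ a b c d, DT H a b c d → quad a b c d ⊆ U →
          ((∀ x ∈ W, ((g : Perm (Fin n)) x ∈ quad a b c d ↔ x ∈ quad a b c d)) ∨
            (∀ x ∈ W, ((g : Perm (Fin n)) x ∈ quad a b c d ↔ x ∉ quad a b c d)))}
        one_mem' := ⟨fun _ _ => rfl, fun _ _ _ _ _ _ => Or.inl fun _ _ => Iff.rfl⟩
        mul_mem' := by
          rintro g g' ⟨hg, hgB⟩ ⟨hg', hgB'⟩
          refine ⟨fun x hx => ?_, fun a b c d h hU => ?_⟩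
          · show (g : Perm (Fin n)) ((g' : Perm (Fin n)) x) = x
            rw [hg' x hx, hg x hx]
          · have hin : ∀ x ∈ W, (g' : Perm (Fin n)) x ∈ W := hWinv _ g'.2
            rcases hgB a b c d h hU with e | e <;> rcases hgB' a b c d h hU with e' | e'
            · exact Or.inl fun x hx => (e _ (hin x hx)).trans (e' x hx)
            · exact Or.inr fun x hx => (e _ (hin x hx)).trans (e' x hx)
            · exact Or.inr fun x hx => (e _ (hin x hx)).trans (not_congr (e' x hx))
            · exact Or.inl fun x hx => (e _ (hin x hx)).trans ((not_congr (e' x hx)).trans not_not)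
        inv_mem' := by
          rintro g ⟨hg, hgB⟩
          refine ⟨fun x hx => ?_, fun a b c d h hU => ?_⟩
          · show (g : Perm (Fin n))⁻¹ x = x
            conv_lhs => rw [← hg x hx]
            simp
          · have hin : ∀ x ∈ W, ((g⁻¹ : ↥H) : Perm (Fin n)) x ∈ W := hWinv _ (g⁻¹).2
            have hgg : ∀ x, (g : Perm (Fin n)) (((g⁻¹ : ↥H) : Perm (Fin n)) x) = x := fun x => by simp
            rcases hgB a b c d h hU with e | e
            · refine Or.inl fun x hx => ?_
              have := e _ (hin x hx); rw [hgg] at this; exact this.symm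
            · refine Or.inr fun x hx => ?_
              have := e _ (hin x hx); rw [hgg] at this
              exact ⟨fun h1 h2 => this.1 h2 h1, fun h1 => by_contra fun h2 => h1 (this.2 h2)⟩ }
    have hRn : R.Normal := ⟨fun g hg h => by
      obtain ⟨hg, hgB⟩ := hg
      have hgg : ∀ x, (h : Perm (Fin n)) ((h : Perm (Fin n))⁻¹ x) = x := fun x => by simp
      refine ⟨fun x hx => ?_, fun a b c d hd hU => ?_⟩
      · show (h : Perm (Fin n)) ((g : Perm (Fin n)) ((h : Perm (Fin n))⁻¹ x)) = x
        rw [hg _ (fun hm => hx (by simpa using hWinv _ h.2 _ hm)), hgg]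
      · have hd' := hd.conj (H.inv_mem h.2)
        have hU' : quad ((h : Perm (Fin n))⁻¹ a) ((h : Perm (Fin n))⁻¹ b) ((h : Perm (Fin n))⁻¹ c) ((h : Perm (Fin n))⁻¹ d) ⊆ U := by
          intro y hy
          rcases mem_quad.1 hy with rfl | rfl | rfl | rfl <;>
            exact hUinv _ (H.inv_mem h.2) _ (hU (by simp [mem_quad]))
        have hmem : ∀ y, (h : Perm (Fin n)) y ∈ quad a b c d ↔
            y ∈ quad ((h : Perm (Fin n))⁻¹ a) ((h : Perm (Fin n))⁻¹ b) ((h : Perm (Fin n))⁻¹ c) ((h : Perm (Fin n))⁻¹ d) := fun y => by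
          simp only [mem_quad, Equiv.Perm.eq_inv_iff_eq]
        have hin : ∀ x ∈ W, (h : Perm (Fin n))⁻¹ x ∈ W := hWinv _ (H.inv_mem h.2)
        rcases hgB _ _ _ _ hd' hU' with e | e
        · refine Or.inl fun x hx => ?_
          show (h : Perm (Fin n)) ((g : Perm (Fin n)) ((h : Perm (Fin n))⁻¹ x)) ∈ quad a b c d ↔ _
          rw [hmem, e _ (hin x hx), ← hmem, hgg]
        · refine Or.inr fun x hx => ?_
          show (h : Perm (Fin n)) ((g : Perm (Fin n)) ((h : Perm (Fin n))⁻¹ x)) ∈ quad a b c d ↔ _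
          rw [hmem, e _ (hin x hx), ← hmem, hgg]⟩
    have hsep : ∀ x ∈ W, ∀ y ∈ W, (∀ a b c d, DT H a b c d → quad a b c d ⊆ U → (x ∈ quad a b c d ↔ y ∈ quad a b c d)) → x = y := by
      intro x hx y hy hxy
      obtain ⟨⟨i, r⟩, rfl⟩ := (memW x).1 hx
      obtain ⟨⟨j, s⟩, rfl⟩ := (memW y).1 hy
      have hij : i = j := by
        by_contra hne'
        obtain ⟨l, -, hl⟩ := Finset.exists_mem_notMem_of_card_lt_card (s := ({i, j} : Finset (Fin 4)))
          (t := Finset.univ) (lt_of_le_of_lt Finset.card_le_two (by simp))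
        simp only [Finset.mem_insert, Finset.mem_singleton, not_or] at hl
        have := hxy _ _ _ _ (DT_two E (Ne.symm hl.1) (htwo i l (Ne.symm hl.1))) (fun z hz => by
          rcases mem_quad.1 hz with rfl | rfl | rfl | rfl <;> exact hEU _)
        rw [mem_quad_two, mem_quad_two] at this
        rcases this.1 (Or.inl rfl) with e | e
        · exact hne' e.symm
        · exact hl.2 e.symm
      subst hij
      have := hxy a b c d hu huU
      rcases h1of r with rfl | rfl <;> rcases h1of s with rfl | rfl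
      · rfl
      · exact absurd this (fun h => by have := hu1 i; tauto)
      · exact absurd this (fun h => by have := hu1 i; tauto)
      · rfl
    have hRab : ∀ g ∈ R, ∀ g' ∈ R, g * g' = g' * g := by
      rintro g ⟨hg, hgB⟩ g' ⟨hg', hgB'⟩
      refine Subtype.ext (Equiv.ext fun x => ?_)
      show (g : Perm (Fin n)) ((g' : Perm (Fin n)) x) = (g' : Perm (Fin n)) ((g : Perm (Fin n)) x)
      by_cases hx : x ∈ W
      · refine hsep _ (hWinv _ g.2 _ (hWinv _ g'.2 _ hx)) _ (hWinv _ g'.2 _ (hWinv _ g.2 _ hx)) fun a b c d hd hU => ?_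
        have i1 := hWinv _ g.2 _ hx
        have i2 := hWinv _ g'.2 _ hx
        rcases hgB a b c d hd hU with e | e <;> rcases hgB' a b c d hd hU with e' | e' <;>
          rw [e _ i2, e' _ i1, e _ hx, e' _ hx]
      · rw [hg' x hx, hg x hx, hg' x hx]
    let z : ↥H := ⟨two E 0 1 * two E 2 3, H.mul_mem (htwo 0 1 (by decide)) (htwo 2 3 (by decide))⟩
    have hzap : ∀ i r, (z : Perm (Fin n)) (E (i, r)) = E (i, Equiv.swap 0 1 r) := by
      intro i r
      show two E 0 1 (two E 2 3 (E (i, r))) = _
      rw [two_apply E (by decide : (2 : Fin 4) ≠ 3)]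
      split_ifs with h
      · rw [two_apply E (by decide : (0 : Fin 4) ≠ 1), if_neg]
        rcases h with rfl | rfl <;> decide
      · rw [two_apply E (by decide : (0 : Fin 4) ≠ 1), if_pos]
        revert h; revert i; decide
    have hzR : z ∈ R := by
      refine ⟨fun x hx => ?_, fun a' b' c' d' hd hU => ?_⟩
      · have hx' : ∀ q, E q ≠ x := fun q e => hx ((memW x).2 ⟨q, e⟩)
        show two E 0 1 (two E 2 3 x) = x
        rw [two_other E hx', two_other E hx']
      · rcases dich a' b' c' d' hd hU with ⟨i, j, -, e⟩ | ⟨-, -, e⟩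
        · refine Or.inl fun x hx => ?_
          obtain ⟨⟨l, r⟩, rfl⟩ := (memW x).1 hx
          rw [hzap, e, mem_quad_two, mem_quad_two]
        · refine Or.inr fun x hx => ?_
          obtain ⟨⟨l, r⟩, rfl⟩ := (memW x).1 hx
          rw [hzap]
          rcases h1of r with rfl | rfl
          · simp only [swap_apply_left]; have := e l; tauto
          · simp only [swap_apply_right]; have := e l; tauto
    have hkz := abelian_normal_centralized hF hRn hRab
    have hmate : ∀ k ∈ Cfsg.generalizedFittingSubgroup ↥H, ∀ i r q, (k : Perm (Fin n)) (E (i, r)) = E q →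
        (k : Perm (Fin n)) (E (i, Equiv.swap 0 1 r)) = E (q.1, Equiv.swap 0 1 q.2) := by
      intro k hk i r q hq
      rw [← hzap, ← hzap]
      have := DFunLike.congr_fun (congrArg Subtype.val (hkz k hk z hzR)) (E (i, r))
      simp only [Subgroup.coe_mul, Equiv.Perm.mul_apply] at this
      rw [this, hq]
    have himg : ∀ k ∈ Cfsg.generalizedFittingSubgroup ↥H, ∀ i r, ∃ q, (k : Perm (Fin n)) (E (i, r)) = E q :=
      fun k _ i r => by
        obtain ⟨q, hq⟩ := (memW _).1 (hWinv _ k.2 _ ((memW (E (i, r))).2 ⟨_, rfl⟩))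
        exact ⟨q, hq.symm⟩
    choose F hF' using fun (k : ↥(Cfsg.generalizedFittingSubgroup ↥H)) i => himg k k.2 i 0
    have hFr : ∀ (k : ↥(Cfsg.generalizedFittingSubgroup ↥H)) i r, ∃ s, ((k : ↥H) : Perm (Fin n)) (E (i, r)) = E ((F k i).1, s) := by
      intro k i r
      rcases h1of r with rfl | rfl
      · exact ⟨(F k i).2, hF' k i⟩
      · exact ⟨_, by simpa using hmate k k.2 i 0 _ (hF' k i)⟩
    have hmul : ∀ k k' : ↥(Cfsg.generalizedFittingSubgroup ↥H), ∀ i, (F (k * k') i).1 = (F k (F k' i).1).1 := by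
      intro k k' i
      obtain ⟨s, hs⟩ := hFr k (F k' i).1 (F k' i).2
      have h1 := hF' (k * k') i
      rw [Subgroup.coe_mul, Subgroup.coe_mul, Equiv.Perm.mul_apply, hF' k' i, hs] at h1
      exact (congrArg Prod.fst (E.injective h1)).symm
    have hone : ∀ i, (F 1 i).1 = i := fun i => (congrArg Prod.fst (E.injective (hF' 1 i))).symm
    let f : ↥(Cfsg.generalizedFittingSubgroup ↥H) →* Perm (Fin 4) :=
      MonoidHom.mk'
        (fun k => ⟨fun i => (F k i).1, fun i => (F k⁻¹ i).1,
          fun i => (hmul k⁻¹ k i).symm.trans (by rw [inv_mul_cancel]; exact hone i),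
          fun i => (hmul k k⁻¹ i).symm.trans (by rw [mul_inv_cancel]; exact hone i)⟩)
        (fun k k' => Equiv.ext (hmul k k'))
    have hf := hom_trivial hF (solvable_perm_small hF (by simp)) f
    intro k hk i r
    obtain ⟨s, hs⟩ := hFr ⟨k, hk⟩ i r
    have he : (F ⟨k, hk⟩ i).1 = i := by
      have h := DFunLike.congr_fun (DFunLike.congr_fun hf ⟨k, hk⟩) i
      exact h
    rw [he] at hs
    exact ⟨s, hs⟩
  · -- the pairing is respected
    have hperm : ∀ g ∈ H, ∀ i, ∃ i', ∀ r, ∃ s, g (E (i, r)) = E (i', s) := by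
      intro g hg i
      obtain ⟨j, -, hj⟩ := Finset.exists_mem_notMem_of_card_lt_card (s := ({i} : Finset (Fin p))) (t := Finset.univ)
        (by simp; omega)
      obtain ⟨l, -, hl⟩ := Finset.exists_mem_notMem_of_card_lt_card (s := ({i, j} : Finset (Fin p))) (t := Finset.univ)
        (lt_of_le_of_lt Finset.card_le_two (by simp; omega))
      simp only [Finset.mem_singleton, Finset.mem_insert, not_or] at hj hl
      obtain ⟨⟨a0, s0⟩, h0⟩ := (memW _).1 (hWinv g hg _ ((memW (E (i, 0))).2 ⟨_, rfl⟩))
      obtain ⟨⟨a1, s1⟩, h1⟩ := (memW _).1 (hWinv g hg _ ((memW (E (i, 1))).2 ⟨_, rfl⟩))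
      refine ⟨a0, fun r => ?_⟩
      rcases h1of r with rfl | rfl
      · exact ⟨s0, h0.symm⟩
      refine ⟨s1, ?_⟩
      by_contra hne'
      have ha : a0 ≠ a1 := fun e => hne' (by rw [← h1, e])
      have key : ∀ m, i ≠ m → E (a0, Equiv.swap 0 1 s0) ∈ ({g (E (m, 0)), g (E (m, 1))} : Finset (Fin n)) ∧
          E (a1, Equiv.swap 0 1 s1) ∈ ({g (E (m, 0)), g (E (m, 1))} : Finset (Fin n)) := by
        intro m hm
        have hd := (DT_two E hm (htwo i m hm)).conj hg
        obtain ⟨u, v, huv, e⟩ : ∃ u v, u ≠ v ∧ quad (g (E (i, 0))) (g (E (i, 1))) (g (E (m, 0))) (g (E (m, 1))) =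
            quad (E (u, 0)) (E (u, 1)) (E (v, 0)) (E (v, 1)) := by
          refine (dich _ _ _ _ hd (hconjU hm g hg)).resolve_right fun hr => hodd ?_
          exact ⟨_, _, _, _, hd, hconjU hm g hg, hr⟩
        have both : ∀ (x : Fin p) (t : Fin 2), E (x, t) ∈ quad (g (E (i, 0))) (g (E (i, 1))) (g (E (m, 0))) (g (E (m, 1))) →
            E (x, Equiv.swap 0 1 t) ∈ quad (g (E (i, 0))) (g (E (i, 1))) (g (E (m, 0))) (g (E (m, 1))) := fun x t hx => by
          rw [e] at hx ⊢
          exact (mem_quad_two E).2 ((mem_quad_two E).1 hx)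
        have m0 := both a0 s0 (by rw [h0, mem_quad]; simp)
        have m1 := both a1 s1 (by rw [h1, mem_quad]; simp)
        have d0 : E (a0, Equiv.swap 0 1 s0) ≠ g (E (i, 0)) := by
          rw [← h0]; intro e'; exact sw_ne s0 (congrArg Prod.snd (E.injective e'))
        have d1 : E (a1, Equiv.swap 0 1 s1) ≠ g (E (i, 1)) := by
          rw [← h1]; intro e'; exact sw_ne s1 (congrArg Prod.snd (E.injective e'))
        have d2 : E (a0, Equiv.swap 0 1 s0) ≠ g (E (i, 1)) := by
          rw [← h1]; intro e'; exact ha (congrArg Prod.fst (E.injective e'))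
        have d3 : E (a1, Equiv.swap 0 1 s1) ≠ g (E (i, 0)) := by
          rw [← h0]; intro e'; exact ha (congrArg Prod.fst (E.injective e')).symm
        rw [mem_quad] at m0 m1
        simp only [Finset.mem_insert, Finset.mem_singleton]
        tauto
      have hj0 := (key j (Ne.symm hj)).1
      have hl0 := (key l (Ne.symm hl.1)).1
      simp only [Finset.mem_insert, Finset.mem_singleton] at hj0 hl0
      rcases hj0 with e | e <;> rcases hl0 with e' | e' <;>
        exact hl.2 (congrArg Prod.fst (E.injective (g.injective (e'.symm.trans e))))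
    let R : Subgroup ↥H := Subgroup.closure {x : ↥H | ∃ i j, i ≠ j ∧ (x : Perm (Fin n)) = two E i j}
    have hRn : R.Normal := by
      constructor
      intro x hx g
      have h : R ≤ R.comap (MulAut.conj g).toMonoidHom := by
        refine (Subgroup.closure_le _).2 ?_
        rintro y ⟨i, j, hij, hy⟩
        obtain ⟨i', hi'⟩ := hperm _ g.2 i
        obtain ⟨j', hj'⟩ := hperm _ g.2 j
        obtain ⟨u0, hu0⟩ := hi' 0
        obtain ⟨u1, hu1⟩ := hi' 1
        obtain ⟨v0, hv0⟩ := hj' 0
        obtain ⟨v1, hv1⟩ := hj' 1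
        have dd : ∀ {x y : Fin p × Fin 2}, x ≠ y → (g : Perm (Fin n)) (E x) ≠ (g : Perm (Fin n)) (E y) :=
          fun h => (g : Perm (Fin n)).injective.ne (E.injective.ne h)
        have hu : u0 ≠ u1 := fun e => dd (x := (i, 0)) (y := (i, 1)) (by simp) (by rw [hu0, hu1, e])
        have hv : v0 ≠ v1 := fun e => dd (x := (j, 0)) (y := (j, 1)) (by simp) (by rw [hv0, hv1, e])
        have hij' : i' ≠ j' := by
          intro e
          rcases h1of v0 with f | f <;> rcases h1of u0 with f' | f'
          · exact dd (x := (i, 0)) (y := (j, 0)) (by simp [hij]) (by rw [hu0, hv0, e, f, f'])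
          · exact dd (x := (i, 1)) (y := (j, 0)) (by simp [hij]) (by
              rw [hu1, hv0, e, f]; rcases h1of u1 with f'' | f''
              · rw [f'']
              · exact absurd (f'.trans f''.symm) hu)
          · exact dd (x := (i, 1)) (y := (j, 0)) (by simp [hij]) (by
              rw [hu1, hv0, e, f]; rcases h1of u1 with f'' | f''
              · exact absurd (f'.trans f''.symm) hu
              · rw [f''])
          · exact dd (x := (i, 0)) (y := (j, 0)) (by simp [hij]) (by rw [hu0, hv0, e, f, f'])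
        refine Subgroup.subset_closure ⟨i', j', hij', ?_⟩
        show (g : Perm (Fin n)) * (y : Perm (Fin n)) * (g : Perm (Fin n))⁻¹ = _
        rw [hy, two, two, show (g : Perm (Fin n)) * (swap (E (i, 0)) (E (i, 1)) * swap (E (j, 0)) (E (j, 1))) * (g : Perm (Fin n))⁻¹ =
          swap ((g : Perm (Fin n)) (E (i, 0))) ((g : Perm (Fin n)) (E (i, 1))) *
            swap ((g : Perm (Fin n)) (E (j, 0))) ((g : Perm (Fin n)) (E (j, 1))) by
            rw [swap_apply_apply, swap_apply_apply]; group, hu0, hu1, hv0, hv1]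
        have hsw : ∀ (l : Fin p) (a b : Fin 2), a ≠ b → swap (E (l, a)) (E (l, b)) = swap (E (l, 0)) (E (l, 1)) := by
          intro l a b hab
          rcases h1of a with rfl | rfl <;> rcases h1of b with rfl | rfl
          · exact absurd rfl hab
          · rfl
          · exact swap_comm _ _
          · exact absurd rfl hab
        rw [hsw i' _ _ hu, hsw j' _ _ hv]
      exact h hx
    have hRab : ∀ x ∈ R, ∀ y ∈ R, x * y = y * x := by
      haveI : IsMulCommutative ↥R := Subgroup.isMulCommutative_closure (by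
        rintro x ⟨i, j, hij, hx⟩ y ⟨i', j', hij', hy⟩
        exact Subtype.ext (by rw [Subgroup.coe_mul, Subgroup.coe_mul, hx, hy]; exact two_commute E hij hij'))
      exact fun x hx y hy => congrArg Subtype.val (mul_comm' (⟨x, hx⟩ : ↥R) ⟨y, hy⟩)
    have hkc := abelian_normal_centralized hF hRn hRab
    intro k hk i r
    obtain ⟨j, -, hj⟩ := Finset.exists_mem_notMem_of_card_lt_card (s := ({i} : Finset (Fin p))) (t := Finset.univ)
      (by simp; omega)
    obtain ⟨l, -, hl⟩ := Finset.exists_mem_notMem_of_card_lt_card (s := ({i, j} : Finset (Fin p))) (t := Finset.univ)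
      (lt_of_le_of_lt Finset.card_le_two (by simp; omega))
    simp only [Finset.mem_singleton, Finset.mem_insert, not_or] at hj hl
    obtain ⟨⟨x, s⟩, hx⟩ := (memW _).1 (hWinv _ k.2 _ ((memW (E (i, r))).2 ⟨_, rfl⟩))
    have key : ∀ m, i ≠ m → x = i ∨ x = m := by
      intro m hm
      by_contra hcon
      have h := DFunLike.congr_fun (congrArg Subtype.val
        (hkc k hk ⟨_, htwo i m hm⟩ (Subgroup.subset_closure ⟨i, m, hm, rfl⟩))) (E (i, r))
      simp only [Subgroup.coe_mul, Equiv.Perm.mul_apply] at h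
      rw [two_apply E hm, if_pos (Or.inl rfl), ← hx, two_apply E hm, if_neg hcon] at h
      have h' := (k : Perm (Fin n)).injective (h.trans hx)
      exact sw_ne r (congrArg Prod.snd (E.injective h'))
    refine ⟨s, ?_⟩
    rw [← hx]
    rcases key j (Ne.symm hj) with e | e
    · rw [e]
    · rcases key l (Ne.symm hl.1) with e' | e'
      · rw [e']
      · exact absurd (e'.symm.trans e) hl.2

theorem conclusion (hn : 8 ≤ n) (hS : ∃ P : Sylow 2 ↥(alternatingGroup (Fin n)),
      ((P : Subgroup ↥(alternatingGroup (Fin n))).map (alternatingGroup (Fin n)).subtype) ≤ H) :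
    ∃ m : ℕ, (m = n - 3 ∨ m = n - 2 ∨ m = n - 1 ∨ m = n) ∧
      Nonempty (↥(Cfsg.generalizedFittingSubgroup ↥H) ≃* ↥(alternatingGroup (Fin m))) := by
  classical
  haveI : Fact (Nat.Prime 2) := ⟨Nat.prime_two⟩
  obtain ⟨P, hP⟩ := hS
  obtain ⟨p, hp⟩ : ∃ p, p = n / 2 := ⟨_, rfl⟩
  have hp4 : 4 ≤ p := by omega
  let E₀ : Fin p × Fin 2 ↪ Fin n := ⟨fun q => ⟨2 * (q.1 : ℕ) + q.2, by have := q.1.2; have := q.2.2; omega⟩, fun a b e => by
    have e' : 2 * (a.1 : ℕ) + a.2 = 2 * (b.1 : ℕ) + b.2 := congrArg Fin.val e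
    have := a.2.2; have := b.2.2
    exact Prod.ext (Fin.ext (by omega)) (Fin.ext (by omega))⟩
  have hAlt : ∀ i j, i ≠ j → two E₀ i j ∈ alternatingGroup (Fin n) := fun i j hij => by
    rw [mem_alternatingGroup, two, map_mul, sign_swap (by simp [E₀.injective.eq_iff]),
      sign_swap (by simp [E₀.injective.eq_iff]), Int.units_mul_self]
  set Z : Subgroup ↥(alternatingGroup (Fin n)) :=
    Subgroup.closure {x | ∃ i j, i ≠ j ∧ (x : Perm (Fin n)) = two E₀ i j} with hZ
  have hZp : IsPGroup 2 ↥Z := by
    haveI : IsMulCommutative ↥Z := Subgroup.isMulCommutative_closure (by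
      rintro x ⟨i, j, hij, hx⟩ y ⟨i', j', hij', hy⟩
      exact Subtype.ext (by rw [Subgroup.coe_mul, Subgroup.coe_mul, hx, hy]; exact two_commute E₀ hij hij'))
    have h2 : ∀ x ∈ Z, x * x = 1 := by
      intro x hx
      induction hx using Subgroup.closure_induction with
      | mem x hx =>
        obtain ⟨i, j, hij, hx⟩ := hx
        refine Subtype.ext ?_
        rw [Subgroup.coe_mul, hx, Subgroup.coe_one]
        ext y
        simp only [Equiv.Perm.mul_apply, Equiv.Perm.one_apply]
        by_cases hy : ∃ q, E₀ q = y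
        · obtain ⟨⟨l, r⟩, rfl⟩ := hy
          rw [two_apply E₀ hij l r]
          split_ifs with h
          · rw [two_apply E₀ hij, if_pos h, Equiv.swap_apply_self]
          · rw [two_apply E₀ hij, if_neg h]
        · push Not at hy
          rw [two_other E₀ hy, two_other E₀ hy]
      | one => exact one_mul 1
      | mul x y hxZ hyZ hx hy =>
        rw [(show Commute y x from congrArg Subtype.val (mul_comm' (⟨y, hyZ⟩ : ↥Z) ⟨x, hxZ⟩)).mul_mul_mul_comm, hx, hy,
          one_mul]
      | inv x _ hx => rw [← mul_inv_rev, hx, inv_one]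
    exact fun x => ⟨1, Subtype.ext (by simpa [sq] using h2 x x.2)⟩
  obtain ⟨P₁, hZP⟩ := hZp.exists_le_sylow
  obtain ⟨g, hg⟩ := MulAction.exists_smul_eq ↥(alternatingGroup (Fin n)) P₁ P
  let E : Fin p × Fin 2 ↪ Fin n := E₀.trans (g : Perm (Fin n)).toEmbedding
  have htwo : ∀ i j, i ≠ j → two E i j ∈ H := fun i j hij => by
    refine hP ⟨g * ⟨two E₀ i j, hAlt i j hij⟩ * g⁻¹, ?_, ?_⟩
    · rw [← hg, SetLike.mem_coe, Sylow.coe_subgroup_smul]
      exact Subgroup.smul_mem_pointwise_smul _ (MulAut.conj g) _ (hZP (Subgroup.subset_closure ⟨i, j, hij, rfl⟩))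
    · show (g : Perm (Fin n)) * two E₀ i j * (g : Perm (Fin n))⁻¹ = _
      rw [two, two, show E (i, 0) = (g : Perm (Fin n)) (E₀ (i, 0)) from rfl,
        show E (i, 1) = (g : Perm (Fin n)) (E₀ (i, 1)) from rfl,
        show E (j, 0) = (g : Perm (Fin n)) (E₀ (j, 0)) from rfl,
        show E (j, 1) = (g : Perm (Fin n)) (E₀ (j, 1)) from rfl, swap_apply_apply, swap_apply_apply]
      group
  have h1of : ∀ s : Fin 2, s = 0 ∨ s = 1 := by decide
  have hpn : n ≤ 2 * p + 1 := by omega
  by_cases hbig : ∃ Δ : Finset (Fin n), Good H Δ ∧ (∀ d ∈ H, d.IsThreeCycle → ∀ u ∈ Δ, d u ∈ Δ) ∧ 5 ≤ Δ.card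
  · obtain ⟨Δ, hgood, hcl, h5⟩ := hbig
    obtain h | ⟨-, hK⟩ := altOn_cases hF hgood hcl
    · omega
    have hinv : ∀ h ∈ H, ∀ u ∈ Δ, h u ∈ Δ := by
      intro h hh u hu
      by_contra hout
      obtain ⟨v, hv, hvu⟩ := Finset.exists_mem_ne (by omega : 1 < Δ.card) u
      obtain ⟨w, hw, hw'⟩ := Finset.exists_mem_notMem_of_card_lt_card (s := {u, v}) (t := Δ)
        (lt_of_le_of_lt Finset.card_le_two (by omega))
      simp only [Finset.mem_insert, Finset.mem_singleton, not_or] at hw'
      have hn' : (Cfsg.generalizedFittingSubgroup ↥H).Normal := by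
        have := Grp.fittingSubgroup_isNormal (G := ↥H)
        rw [Cfsg.generalizedFittingSubgroup]; infer_instance
      have hc : (⟨cyc u v w, hgood u hu v hv w hw hvu.symm (Ne.symm hw'.2) (Ne.symm hw'.1)⟩ : ↥H) ∈
          Cfsg.generalizedFittingSubgroup ↥H := by
        rw [← hK]; exact cyc_mem_altOn hu hv hw hvu.symm (Ne.symm hw'.2)
      have hconj := hn'.conj_mem _ hc ⟨h, hh⟩
      rw [← hK] at hconj
      have h' : h * cyc u v w * h⁻¹ ∈ altOn Δ := hconj
      have := altOn_fix h' hout
      rw [AltAut.cyc_conj, AltAut.cyc_fst (h.injective.ne hvu.symm) (h.injective.ne (Ne.symm hw'.1))] at this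
      exact hvu (h.injective this)
    have hpairΔ : ∀ i r, E (i, r) ∈ Δ → E (i, Equiv.swap 0 1 r) ∈ Δ := by
      intro i r hm
      obtain ⟨j, -, hj⟩ := Finset.exists_mem_notMem_of_card_lt_card (s := ({i} : Finset (Fin p))) (t := Finset.univ)
        (by simp; omega)
      simp only [Finset.mem_singleton] at hj
      have := hinv _ (htwo i j (Ne.symm hj)) _ hm
      rwa [two_apply E (Ne.symm hj), if_pos (Or.inl rfl)] at this
    set out := (Finset.univ : Finset (Fin p)).filter (fun i => E (i, 0) ∉ Δ) with hout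
    have hout1 : out.card ≤ 1 := by
      rw [Finset.card_le_one]
      intro i hi j hj
      by_contra hij
      simp only [hout, Finset.mem_filter, Finset.mem_univ, true_and] at hi hj
      have hi' : ∀ r, E (i, r) ∉ Δ := fun r hm => hi (by
        rcases h1of r with rfl | rfl
        · exact hm
        · simpa using hpairΔ i 1 hm)
      have hj' : ∀ r, E (j, r) ∉ Δ := fun r hm => hj (by
        rcases h1of r with rfl | rfl
        · exact hm
        · simpa using hpairΔ j 1 hm)
      set t : ↥H := ⟨two E i j, htwo i j hij⟩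
      have htC : t ∈ Subgroup.centralizer (Cfsg.generalizedFittingSubgroup ↥H : Set ↥H) := by
        rw [← hK, Subgroup.mem_centralizer_iff]
        intro a ha
        refine Subtype.ext (Equiv.Perm.Disjoint.commute fun x => ?_).eq
        by_cases hx : x ∈ Δ
        · right
          show two E i j x = x
          rw [two, Equiv.Perm.mul_apply, swap_apply_of_ne_of_ne (x := x) (fun e => hj' 0 (by rw [← e]; exact hx)) (fun e => hj' 1 (by rw [← e]; exact hx)),
            swap_apply_of_ne_of_ne (fun e => hi' 0 (by rw [← e]; exact hx)) (fun e => hi' 1 (by rw [← e]; exact hx))]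
        · exact Or.inl (altOn_fix (Subgroup.mem_subgroupOf.1 ha) hx)
      have htA : t ∈ (altOn Δ).subgroupOf H := hK.ge (Grp.centralizer_gfitting_le htC)
      have := altOn_fix (Subgroup.mem_subgroupOf.1 htA) (hi' 0)
      rw [show (t : Perm (Fin n)) = two E i j from rfl, two_apply E hij, if_pos (Or.inl rfl)] at this
      exact sw_ne 0 (congrArg Prod.snd (E.injective this))
    have hcard : 2 * (p - 1) ≤ Δ.card := by
      have : (((Finset.univ : Finset (Fin p)) \ out) ×ˢ (Finset.univ : Finset (Fin 2))).card ≤ Δ.card :=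
        Finset.card_le_card_of_injOn E (fun q hq => by
          simp only [Finset.coe_product, Set.mem_prod, Finset.mem_coe, Finset.mem_sdiff, Finset.mem_univ, true_and,
            hout, Finset.mem_filter, not_not] at hq
          rcases h1of q.2 with e | e
          · rw [Finset.mem_coe, show q = (q.1, 0) from Prod.ext rfl e]; exact hq.1
          · rw [Finset.mem_coe, show q = (q.1, 1) from Prod.ext rfl e]; simpa using hpairΔ _ 0 hq.1) E.injective.injOn
      rw [Finset.card_product, Finset.card_univ_sdiff, Finset.card_univ, Fintype.card_fin, Fintype.card_fin] at this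
      omega
    have hΔn : Δ.card ≤ n := by simpa using Finset.card_le_univ Δ
    refine ⟨Δ.card, by omega, ⟨?_⟩⟩
    exact ((MulEquiv.subgroupCongr hK.symm).trans (Subgroup.subgroupOfEquivOfLe (altOn_le hgood))).trans
      ((Subgroup.equivMapOfInjective _ _ Perm.ofSubtype_injective).symm.trans
        (Equiv.altCongrHom (Fintype.equivFinOfCardEq (by rw [Fintype.card_coe]))))
  · exfalso
    push Not at hbig
    have hcent : ∀ d : ↥H, (d : Perm (Fin n)).IsThreeCycle →
        d ∈ Subgroup.centralizer (Cfsg.generalizedFittingSubgroup ↥H : Set ↥H) := by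
      rintro ⟨d, hd⟩ (hd3 : d.IsThreeCycle)
      obtain ⟨a, ha⟩ : ∃ a, d a ≠ a := by
        by_contra hcon
        push Not at hcon
        exact hd3.ne_one (Equiv.ext hcon)
      obtain ⟨e, h1, h2, -⟩ := AltAut.eq_cyc hd3 ha
      obtain ⟨Δ, ma, mb, mc, -, hgood, hcl⟩ := exists_closed (Ne.symm ha) h1 h2 (e ▸ hd)
      obtain ⟨-, hle⟩ | ⟨h5, -⟩ := altOn_cases hF hgood hcl
      · refine hle (Subgroup.mem_subgroupOf.2 ?_)
        show d ∈ altOn Δ
        rw [e]; exact cyc_mem_altOn ma mb mc (Ne.symm ha) h1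
      · exact absurd h5 (not_le.2 (hbig Δ hgood hcl))
    -- commuting 3-cycles
    have hsupp : ∀ d d' : ↥H, (d : Perm (Fin n)).IsThreeCycle → (d' : Perm (Fin n)).IsThreeCycle →
        ∀ x, x ∈ (d : Perm (Fin n)).support → x ∈ (d' : Perm (Fin n)).support →
          (d : Perm (Fin n)).support = (d' : Perm (Fin n)).support := by
      intro d d' hd hd' x hx hx'
      have hc := centralizer_fstar_comm hF (hcent d hd) (hcent d' hd')
      have hstep : ∀ y, y ∈ (d' : Perm (Fin n)).support → (d : Perm (Fin n)) y ∈ (d' : Perm (Fin n)).support := by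
        intro y hy
        rw [Equiv.Perm.mem_support] at hy ⊢
        intro e
        apply hy
        have := DFunLike.congr_fun (congrArg Subtype.val hc) y
        simp only [Subgroup.coe_mul, Equiv.Perm.mul_apply] at this
        exact (d : Perm (Fin n)).injective (this.trans e)
      rw [Equiv.Perm.mem_support] at hx
      obtain ⟨e, h1, h2, -⟩ := AltAut.eq_cyc hd hx
      refine Finset.eq_of_subset_of_card_le (fun y hy => ?_) (by rw [hd.card_support, hd'.card_support])
      rw [Equiv.Perm.mem_support, e] at hy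
      by_cases y1 : y = x
      · exact y1 ▸ hx'
      by_cases y2 : y = (d : Perm (Fin n)) x
      · exact y2 ▸ hstep x hx'
      by_cases y3 : y = (d : Perm (Fin n)) ((d : Perm (Fin n)) x)
      · exact y3 ▸ hstep _ (hstep x hx')
      exact absurd (AltAut.cyc_other y1 y2 y3) hy
    have hconj3 : ∀ (d h : ↥H), (d : Perm (Fin n)).IsThreeCycle → ((h * d * h⁻¹ : ↥H) : Perm (Fin n)).IsThreeCycle ∧
        ∀ x, x ∈ (d : Perm (Fin n)).support → (h : Perm (Fin n)) x ∈ ((h * d * h⁻¹ : ↥H) : Perm (Fin n)).support := by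
      intro d h hd
      constructor
      · unfold Equiv.Perm.IsThreeCycle at hd ⊢
        push_cast
        rw [Equiv.Perm.cycleType_conj]; exact hd
      · intro x hx
        simp only [Equiv.Perm.mem_support, Subgroup.coe_mul, Subgroup.coe_inv, Equiv.Perm.mul_apply] at hx ⊢
        simpa using fun e => hx ((h : Perm (Fin n)).injective e)
    have hclosed : ∀ d : ↥H, (d : Perm (Fin n)).IsThreeCycle → ∀ i r, E (i, r) ∈ (d : Perm (Fin n)).support →
        E (i, Equiv.swap 0 1 r) ∈ (d : Perm (Fin n)).support := by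
      intro d hd i r hm
      by_contra hout
      set S := (d : Perm (Fin n)).support with hS
      have hS3 : S.card = 3 := hd.card_support
      obtain ⟨j, hji, hj⟩ : ∃ j, j ≠ i ∧ ∀ s, E (j, s) ∉ S := by
        by_contra hcon
        push Not at hcon
        have hall : ∀ j, ∃ s, E (j, s) ∈ S := fun j => by
          by_cases e : j = i
          · exact ⟨r, e ▸ hm⟩
          · exact hcon j e
        choose s hs using hall
        have := Finset.card_le_card_of_injOn (s := (Finset.univ : Finset (Fin p))) (t := S) (fun j => E (j, s j))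
          (fun j _ => hs j) (fun a _ b _ e => congrArg Prod.fst (E.injective e))
        rw [Finset.card_univ, Fintype.card_fin] at this
        omega
      obtain ⟨y, hy, hyne⟩ := Finset.exists_mem_ne (by omega : 1 < S.card) (E (i, r))
      obtain ⟨h3', hmv⟩ := hconj3 d ⟨two E i j, htwo i j hji.symm⟩ hd
      have hyfix : two E i j y = y := by
        have c1 : ∀ s, y ≠ E (j, s) := fun s e => hj s (e ▸ hy)
        have c2 : ∀ s, y ≠ E (i, s) := fun s e => by
          rcases h1of r with rfl | rfl <;> rcases h1of s with rfl | rfl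
          · exact hyne e
          · exact hout (by simpa using e ▸ hy)
          · exact hout (by simpa using e ▸ hy)
          · exact hyne e
        rw [two, Equiv.Perm.mul_apply, swap_apply_of_ne_of_ne (c1 0) (c1 1), swap_apply_of_ne_of_ne (c2 0) (c2 1)]
      have heq := hsupp d _ hd h3' y hy (by have := hmv y hy; rwa [hyfix] at this)
      have := hmv _ hm
      rw [← heq] at this
      apply hout
      rwa [show ((⟨two E i j, htwo i j hji.symm⟩ : ↥H) : Perm (Fin n)) = two E i j from rfl, two_apply E hji.symm,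
        if_pos (Or.inl rfl)] at this
    by_cases h3 : ∃ d : ↥H, (d : Perm (Fin n)).IsThreeCycle
    · obtain ⟨d, hd⟩ := h3
      set W : Finset (Fin n) := Finset.univ.map E with hW
      have hWc : W.card = 2 * p := by simp [hW, mul_comm]
      have hshape : ∀ d : ↥H, (d : Perm (Fin n)).IsThreeCycle → ∃ f, f ∉ W ∧ f ∈ (d : Perm (Fin n)).support := by
        intro d hd
        by_contra hcon
        push Not at hcon
        set S := (d : Perm (Fin n)).support with hS
        set I := (Finset.univ : Finset (Fin p)).filter (fun i => E (i, 0) ∈ S) with hI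
        have heq : S = (I ×ˢ (Finset.univ : Finset (Fin 2))).map E := by
          ext x
          simp only [Finset.mem_map, Finset.mem_product, Finset.mem_univ, and_true, hI, Finset.mem_filter, true_and]
          constructor
          · intro hx
            obtain ⟨⟨i, r⟩, -, rfl⟩ := Finset.mem_map.1 (by_contra fun h => hcon x h hx : x ∈ W)
            refine ⟨(i, r), ?_, rfl⟩
            rcases h1of r with rfl | rfl
            · exact hx
            · have h := hclosed d hd i 1 hx; rwa [swap_apply_right] at h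
          · rintro ⟨⟨i, r⟩, hi, rfl⟩
            rcases h1of r with rfl | rfl
            · exact hi
            · have h := hclosed d hd i 0 hi; rwa [swap_apply_left] at h
        have hc := hd.card_support
        rw [← hS, heq, Finset.card_map, Finset.card_product, Finset.card_univ, Fintype.card_fin] at hc
        omega
      have huniqf : ∀ f f', f ∉ W → f' ∉ W → f = f' := fun f f' hf hf' =>
        Finset.card_le_one.1 (show (Finset.univ \ W).card ≤ 1 by
          rw [Finset.card_univ_sdiff, Fintype.card_fin, hWc]; omega) f (by simp [hf]) f' (by simp [hf'])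
      obtain ⟨f, hfW, hf⟩ := hshape d hd
      set S := (d : Perm (Fin n)).support with hS
      have huniq : ∀ d' : ↥H, (d' : Perm (Fin n)).IsThreeCycle → (d' : Perm (Fin n)).support = S := fun d' hd' => by
        obtain ⟨f', hf'W, hf'⟩ := hshape d' hd'
        exact hsupp d' d hd' hd f' hf' (huniqf f f' hfW hf'W ▸ hf)
      have hSinv : ∀ h ∈ H, ∀ x ∈ S, h x ∈ S := fun h hh x hx => by
        obtain ⟨h', hmv⟩ := hconj3 d ⟨h, hh⟩ hd
        rw [← huniq _ h']; exact hmv x hx
      have hUinv : ∀ h ∈ H, ∀ x ∈ Sᶜ, h x ∈ Sᶜ := fun h hh x hx => by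
        rw [Finset.mem_compl] at hx ⊢
        intro hm
        exact hx (by simpa using hSinv h⁻¹ (H.inv_mem hh) _ hm)
      have hn9 : 11 ≤ n := by
        have hodd : n ≠ 2 * p := fun e => hfW (by
          rw [Finset.eq_univ_of_card W (by rw [hWc, Fintype.card_fin, e])]; exact Finset.mem_univ f)
        by_contra hlt
        have hn' : n = 9 := by omega
        have hr : ∀ h : ↥H, ∀ x, (h : Perm (Fin n)) x ∈ S ↔ x ∈ S := fun h x =>
          ⟨fun hm => by simpa using hSinv _ (H.inv_mem h.2) _ hm, hSinv _ h.2 x⟩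
        have hrc : ∀ h : ↥H, ∀ x, (h : Perm (Fin n)) x ∈ Sᶜ ↔ x ∈ Sᶜ := fun h x => by
          rw [Finset.mem_compl, Finset.mem_compl, hr]
        let φ : ↥H →* Perm {x // x ∈ S} × Perm {x // x ∈ Sᶜ} :=
          { toFun := fun h => ((h : Perm (Fin n)).subtypePerm (hr h), (h : Perm (Fin n)).subtypePerm (hrc h))
            map_one' := Prod.ext (Equiv.ext fun _ => Subtype.ext rfl) (Equiv.ext fun _ => Subtype.ext rfl)
            map_mul' := fun _ _ => Prod.ext (Equiv.ext fun _ => Subtype.ext rfl) (Equiv.ext fun _ => Subtype.ext rfl) }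
        have hφ : Function.Injective φ := fun a b e => Subtype.ext (Equiv.ext fun x => by
          by_cases hx : x ∈ S
          · exact congrArg Subtype.val (DFunLike.congr_fun (congrArg Prod.fst e) ⟨x, hx⟩ :)
          · exact congrArg Subtype.val (DFunLike.congr_fun (congrArg Prod.snd e) ⟨x, Finset.mem_compl.2 hx⟩ :))
        have hdvd := Subgroup.card_dvd_of_injective φ hφ
        subst hn'
        rw [Nat.card_prod, Nat.card_perm, Nat.card_perm, Nat.card_eq_fintype_card (α := {x // x ∈ S}),
          Nat.card_eq_fintype_card (α := {x // x ∈ Sᶜ}), Fintype.card_coe, Fintype.card_coe, Finset.card_compl, Fintype.card_fin,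
          show S.card = 3 from hd.card_support] at hdvd
        have h64 : 64 ∣ Nat.card ↥H := by
          have h1 := Subgroup.card_dvd_of_le hP
          rw [Subgroup.card_map_of_injective Subtype.val_injective, P.card_eq_multiplicity, nat_card_alternatingGroup, Nat.card_eq_fintype_card (α := Fin 9),
            Fintype.card_fin] at h1
          refine dvd_trans ?_ h1
          rw [← show 2 ^ 6 = 64 by norm_num]
          refine pow_dvd_pow _ ?_
          refine ((Nat.prime_two.pow_dvd_iff_le_factorization (by norm_num [Nat.factorial])).1 ?_)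
          norm_num [Nat.factorial]
        exact absurd (h64.trans hdvd) (by norm_num [Nat.factorial])
      obtain ⟨p', hp'⟩ : ∃ p', p = p' + 1 := ⟨p - 1, by omega⟩
      subst hp'
      obtain ⟨i₀, hi₀⟩ : ∃ i₀, ∀ i r, E (i, r) ∈ S → i = i₀ := by
        by_cases hex : ∃ i r, E (i, r) ∈ S
        · obtain ⟨i, r, hir⟩ := hex
          refine ⟨i, fun j s hjs => ?_⟩
          by_contra hne
          have hle := Finset.card_le_card (s := ({E (i, r), E (i, Equiv.swap 0 1 r), E (j, s), E (j, Equiv.swap 0 1 s)} : Finset (Fin n)))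
            (t := S) (by
              intro x hx
              simp only [Finset.mem_insert, Finset.mem_singleton] at hx
              rcases hx with rfl | rfl | rfl | rfl
              · exact hir
              · exact hclosed d hd _ _ hir
              · exact hjs
              · exact hclosed d hd _ _ hjs)
          have e4 : ({E (i, r), E (i, Equiv.swap 0 1 r), E (j, s), E (j, Equiv.swap 0 1 s)} : Finset (Fin n)).card = 4 := by
            have sw : ∀ t : Fin 2, t ≠ Equiv.swap 0 1 t := by decide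
            rw [Finset.card_insert_of_notMem (by simp [E.injective.eq_iff, Ne.symm hne, sw r]),
              Finset.card_insert_of_notMem (by simp [E.injective.eq_iff, Ne.symm hne]),
              Finset.card_insert_of_notMem (by simp [E.injective.eq_iff, sw s]), Finset.card_singleton]
          rw [e4, show S.card = 3 from hd.card_support] at hle
          omega
        · push Not at hex
          exact ⟨⟨0, by omega⟩, fun i r h => absurd h (hex i r)⟩
      let E' : Fin p' × Fin 2 ↪ Fin n :=
        ⟨fun q => E (i₀.succAbove q.1, q.2), fun a b e => by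
          have h := E.injective e
          simp only [Prod.mk.injEq] at h
          exact Prod.ext (Fin.succAbove_right_injective h.1) h.2⟩
      have hfix := fixes_all hF (p := p') (by omega) E' Sᶜ
        (fun q => Finset.mem_compl.2 fun hm => Fin.succAbove_ne i₀ q.1 (hi₀ _ _ hm)) hUinv
        (by rw [Finset.card_compl, Fintype.card_fin, show S.card = 3 from hd.card_support]; omega)
        (fun i j hij => htwo _ _ (Fin.succAbove_right_injective.ne hij))
        (fun x y w hx hy _ hxy hyw hxw hm => by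
          have h' := huniq ⟨_, hm⟩ (AltAut.isThreeCycle_cyc hxy hyw hxw)
          refine Finset.mem_compl.1 hx (h' ▸ ?_)
          rw [Equiv.Perm.mem_support]
          show cyc x y w x ≠ x
          rw [AltAut.cyc_fst hxy hxw]; exact hxy.symm)
      refine not_all_fixed hF fun k hk x => ?_
      by_cases hx : x ∈ S
      · exact fixes_small hF (by rw [show S.card = 3 from hd.card_support]; norm_num)
          (fun k' _ y hy => hSinv _ k'.2 y hy) k hk x hx
      · exact hfix k hk x (Finset.mem_compl.2 hx)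
    · push Not at h3
      have hfix := fixes_all hF hp4 E Finset.univ (fun _ => Finset.mem_univ _) (fun _ _ _ _ => Finset.mem_univ _)
        (by rw [Finset.card_univ, Fintype.card_fin]; exact hpn) htwo
        (fun x y w _ _ _ hxy hyw hxw hm => h3 ⟨_, hm⟩ (AltAut.isThreeCycle_cyc hxy hyw hxw))
      exact not_all_fixed hF fun k hk x => hfix k hk x (Finset.mem_univ x)

end Cfsg.Agent.Invol.DoubleTr
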