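import Mathlib
import Cfsg.Agent.Lib.Invol.ElemCentralizers

/-!
# The degree of a group with elementary abelian centralizers of involutions
-/

namespace Cfsg.Agent.Invol.EC

variable {G : Type*} [Group G] [Finite G] {T : Sylow 2 G}

local notation "HH" => Subgroup.normalizer ((T : Subgroup G) : Set G)

theorem degree_arith {q N a b : ℕ} (hq : 4 ≤ q) (hcop : q.Coprime (q - 1)) (ha : Odd a) (hb : Odd b)
    (hqa : q - 1 ∣ a) (hb3 : 3 ≤ b) (hab : a * b ∣ N * (q - 1)) (hN : 1 < N)
    (heq : 2 * ((N - 1) * (q - 1)) = q * (a + b - 2)) : N = q + 1 := by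
  obtain ⟨σ, hσ⟩ : ∃ σ, a + b - 2 = 2 * σ := by
    obtain ⟨x, rfl⟩ := ha
    obtain ⟨y, rfl⟩ := hb
    exact ⟨x + y, by omega⟩
  have h1 : (N - 1) * (q - 1) = q * σ := by
    rw [hσ] at heq
    nlinarith
  obtain ⟨k, hk⟩ : q ∣ N - 1 := hcop.dvd_of_dvd_mul_right (Dvd.intro σ h1.symm)
  have hN' : N = q * k + 1 := by omega
  have hk1 : 1 ≤ k := by
    rcases Nat.eq_zero_or_pos k with rfl | hk0
    · omega
    · exact hk0
  obtain ⟨s, rfl⟩ := hqa
  have hσ2 : σ = k * (q - 1) := Nat.eq_of_mul_eq_mul_left (by omega : 0 < q)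
    (by rw [← h1, hk]; ring)
  have hdiv : s * b ∣ N := Nat.dvd_of_mul_dvd_mul_right (by omega : 0 < q - 1)
    (by rwa [show s * b * (q - 1) = (q - 1) * s * b by ring])
  have hle : s * b ≤ N := Nat.le_of_dvd (by omega) hdiv
  have hs1 : 1 ≤ s := by
    rcases Nat.eq_zero_or_pos s with rfl | hs0
    · simp at ha
    · exact hs0
  obtain ⟨r, rfl⟩ : ∃ r, q = r + 1 := ⟨q - 1, by omega⟩
  simp only [Nat.add_sub_cancel] at hσ hσ2 ha
  have hsum : r * s + b = 2 * (k * r) + 2 := by omega
  have hs : s < 2 * k := by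
    by_contra hge
    have : r * (2 * k) ≤ r * s := Nat.mul_le_mul_left r (not_lt.mp hge)
    nlinarith
  obtain ⟨x, hx⟩ : Odd s := (Nat.odd_mul.mp ha).2
  obtain ⟨y, hy⟩ : ∃ y, 2 * k = s + (2 * y + 1) := ⟨k - x - 1, by omega⟩
  have hb' : b = (2 * y + 1) * r + 2 := by nlinarith
  have hkxy : k = x + y + 1 := by omega
  subst hb' hx hkxy
  rw [hN'] at hle
  have h3 : (x + y + 1) * (r + 1) + 1 ≥ (2 * x + 1) * ((2 * y + 1) * r + 2) := by linarith
  have hxy : x + y = 0 := by
    by_contra hne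
    have h5 : 3 * (x + y) ≤ r * (x + y) := Nat.mul_le_mul_right _ (by omega)
    nlinarith [Nat.zero_le (x * y * r), Nat.pos_of_ne_zero hne, h3, h5]
  have hx0 : x = 0 := by omega
  have hy0 : y = 0 := by omega
  subst hx0 hy0
  rw [hN']
  ring

theorem index_eq (h : EC T) : (HH).index = Nat.card (T : Subgroup G) + 1 := by
  classical
  have := Fintype.ofFinite G
  set q := Nat.card (T : Subgroup G) with hqdef
  have hq4 := h.card_T_ge
  obtain ⟨u₀, hu0, -⟩ : ∃ u : G, u ∉ HH ∧ True := by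
    by_contra hc
    push Not at hc
    exact h.se.1 (top_le_iff.mp fun g _ => by
      by_contra hg
      exact (hc g hg))
  obtain ⟨t, htT, ht⟩ := h.exists_invol
  set u := u₀ * t * u₀⁻¹ with hudef
  have hu : orderOf u = 2 := by rw [hudef, orderOf_conj_eq, ht]
  have huH : u ∉ HH := fun hm => hu0 (by
    have h1 := stronglyEmbedded_fix h.se hu (g := 1) (h := u₀) (by simpa using hm)
      (by rw [hudef]; simpa [mul_assoc] using Subgroup.le_normalizer htT)
    simpa using h1)
  set N := (HH).index with hNdef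
  have hG : N * (q * (q - 1)) = Nat.card G := by rw [← h.card_H hu huH, hNdef, Subgroup.index_mul_card]
  have hN1 : 1 < N := by
    have h0 : (HH).index ≠ 0 := Subgroup.index_ne_zero_of_finite
    have h1 : (HH).index ≠ 1 := fun he => h.se.1 (Subgroup.index_eq_one.mp he)
    omega
  let I : Finset G := Finset.univ.filter fun x => orderOf x = 2
  have hI : I.card = N * (q - 1) := by
    have h1 : I = Finset.univ.filter fun x => IsConj t x := by
      ext x
      simp only [I, Finset.mem_filter, Finset.mem_univ, true_and]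
      exact ⟨fun hx => isConj_involutions h.se ht hx, fun hc => (orderOf_eq_of_isConj hc).symm.trans ht⟩
    rw [h1, Char.card_conjClass_finset, h.centralizer_eq htT ht]
    refine Nat.eq_of_mul_eq_mul_right (m := q) (by omega) ?_
    rw [hqdef, Subgroup.index_mul_card, ← hqdef, ← hG]
    ring
  have hCI : ∀ a ∈ I, (I.filter fun b => b * a = a * b).card = q - 1 := by
    intro a ha
    have ha2 : orderOf a = 2 := (Finset.mem_filter.mp ha).2
    obtain ⟨g, hg⟩ := isConj_iff.mp (isConj_involutions h.se ht ha2)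
    rw [← h.involutions_equiv, Nat.card_eq_fintype_card, Fintype.card_subtype]
    refine Finset.card_bij' (fun b _ => g⁻¹ * b * g) (fun s _ => g * s * g⁻¹) ?_ ?_ ?_ ?_
    · intro b hb
      simp only [I, Finset.mem_filter, Finset.mem_univ, true_and] at hb ⊢
      refine ⟨by rw [← hb.1, ← orderOf_conj_eq g⁻¹ b, inv_inv], Subgroup.le_normalizer ?_⟩
      show g⁻¹ * b * g ∈ (T : Subgroup G)
      rw [← h.centralizer_eq htT ht, Subgroup.mem_centralizer_singleton_iff]
      calc g⁻¹ * b * g * t = g⁻¹ * (b * (g * t * g⁻¹)) * g := by group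
        _ = g⁻¹ * (g * t * g⁻¹ * b) * g := by rw [hg, hb.2]
        _ = t * (g⁻¹ * b * g) := by group
    · intro s hs
      simp only [I, Finset.mem_filter, Finset.mem_univ, true_and] at hs ⊢
      refine ⟨by rw [orderOf_conj_eq, hs.1], ?_⟩
      have hsC : s ∈ Subgroup.centralizer ({t} : Set G) := by
        rw [h.centralizer_eq htT ht]; exact h.mem_T hs.2 hs.1
      rw [Subgroup.mem_centralizer_singleton_iff] at hsC
      calc g * s * g⁻¹ * a = g * (s * t) * g⁻¹ := by rw [← hg]; group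
        _ = g * (t * s) * g⁻¹ := by rw [hsC]
        _ = a * (g * s * g⁻¹) := by rw [← hg]; group
    · intro b _; group
    · intro s _; group
  let Z : Finset G := Finset.univ.filter fun z => Real' z
  let P : Finset (G × G) := (I ×ˢ I).filter fun p => p.2 * p.1 ≠ p.1 * p.2
  have hPcard : P.card = I.card * (I.card - (q - 1)) := by
    have h1 : P.card = ∑ a ∈ I, (I.filter fun b => b * a ≠ a * b).card := by
      rw [← Finset.card_sigma]
      refine Finset.card_bij' (fun p _ => (⟨p.1, p.2⟩ : Σ _ : G, G)) (fun x _ => (x.1, x.2)) ?_ ?_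
        (fun _ _ => rfl) (fun _ _ => rfl)
      · intro p hp
        simp only [P, Finset.mem_filter, Finset.mem_product, Finset.mem_sigma] at hp ⊢
        exact ⟨hp.1.1, hp.1.2, hp.2⟩
      · intro x hx
        simp only [P, Finset.mem_filter, Finset.mem_product, Finset.mem_sigma] at hx ⊢
        exact ⟨⟨hx.1, hx.2.1⟩, hx.2.2⟩
    rw [h1, Finset.sum_const_nat fun a ha => ?_]
    have h2 := Finset.card_filter_add_card_filter_not (s := I) (fun b => b * a = a * b)
    rw [hCI a ha] at h2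
    simp only [ne_eq] at h2 ⊢
    omega
  have hmaps : ∀ p ∈ P, p.1 * p.2 ∈ Z := by
    rintro ⟨a, b⟩ hp
    simp only [P, I, Finset.mem_filter, Finset.mem_product, Finset.mem_univ, true_and] at hp
    show a * b ∈ Z
    obtain ⟨⟨ha, hb⟩, hne⟩ := hp
    refine Finset.mem_filter.mpr ⟨Finset.mem_univ _, fun h1 => hne ?_, ?_, a, ha, conj_mul_eq_inv ha hb⟩
    · rw [eq_inv_of_mul_eq_one_right h1, inv_of_orderOf_two ha]
    · refine Nat.not_even_iff_odd.mp fun he => hne ?_
      obtain ⟨r, hr⟩ := he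
      set w := (a * b) ^ r with hw
      have hw2 : orderOf w = 2 := by
        have h0 := orderOf_pos (a * b)
        rw [hw, orderOf_pow, hr, Nat.gcd_eq_right ⟨2, by ring⟩, ← two_mul]
        exact Nat.mul_div_cancel _ (by omega)
      have h1 : a * w = w * a := by
        have h2 := mul_zpow_comm ha hb (r : ℤ)
        rwa [zpow_natCast, zpow_neg, zpow_natCast, inv_of_orderOf_two hw2] at h2
      have hcomm : (a * b) * w = w * (a * b) := (Commute.self_pow (a * b) r).eq
      have h3 : b * w = w * b := by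
        calc b * w = a * ((a * b) * w) := by rw [← mul_assoc, ← y_eq ha]
          _ = (a * w) * (a * b) := by rw [hcomm, mul_assoc]
          _ = w * (a * (a * b)) := by rw [h1, mul_assoc]
          _ = w * b := by rw [← y_eq ha]
      exact h.commute_of_mem hw2 h3 h1
  have hfib : ∀ z ∈ Z, (P.filter fun p => p.1 * p.2 = z).card =
      Nat.card (Subgroup.centralizer ({z} : Set G)) := by
    intro z hz
    have hz' : Real' z := (Finset.mem_filter.mp hz).2
    obtain ⟨a, ha, haz⟩ := hz'.2.2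
    have haa := mul_self_of_orderOf_two ha
    rw [Nat.card_eq_fintype_card, Fintype.card_subtype]
    refine Finset.card_bij' (fun p _ => a * p.1) (fun c _ => (a * c, a * c * z)) ?_ ?_ ?_ ?_
    · rintro ⟨x, y⟩ hp
      simp only [P, I, Finset.mem_filter, Finset.mem_product, Finset.mem_univ, true_and] at hp ⊢
      obtain ⟨⟨⟨hx, hy⟩, -⟩, hxy⟩ := hp
      rw [Subgroup.mem_centralizer_singleton_iff]
      refine mul_inv_eq_iff_eq_mul.mp ?_
      calc a * x * z * (a * x)⁻¹ = a * (x * z * x⁻¹) * a⁻¹ := by group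
        _ = a * z⁻¹ * a⁻¹ := by rw [← hxy, conj_mul_eq_inv hx hy]
        _ = z := by rw [← conj_inv, haz, inv_inv]
    · intro c hc
      simp only [P, I, Finset.mem_filter, Finset.mem_product, Finset.mem_univ, true_and] at hc ⊢
      have hcC : c ∈ Subgroup.centralizer ({z} : Set G) := hc
      have hzC : z ∈ Subgroup.centralizer ({z} : Set G) := Subgroup.mem_centralizer_singleton_iff.mpr rfl
      have hinvol : ∀ e ∈ Subgroup.centralizer ({z} : Set G), orderOf (a * e) = 2 := by
        intro e he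
        refine orderOf_two_iff.mpr ⟨?_, ?_⟩
        · calc a * e * (a * e) = (a * e * a⁻¹) * (a * a) * e := by group
            _ = 1 := by rw [h.real_inverts hz' ha haz he, haa, mul_one, inv_mul_cancel]
        · intro h1
          have := h.real_odd hz' he
          rw [eq_inv_of_mul_eq_one_right h1, orderOf_inv, ha] at this
          exact absurd this (by decide)
      have hac := hinvol c hcC
      have hacz : orderOf (a * c * z) = 2 := by rw [mul_assoc]; exact hinvol _ (mul_mem hcC hzC)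
      refine ⟨⟨⟨hac, hacz⟩, fun hcm => ?_⟩, by rw [← mul_assoc, mul_self_of_orderOf_two hac, one_mul]⟩
      have h1 : (a * c) * z = z * (a * c) := by
        have h2 : (a * c * z) * (a * c) = (a * c) * (a * c * z) := hcm
        rw [← mul_assoc (a * c), mul_self_of_orderOf_two hac, one_mul] at h2
        calc a * c * z = (a * c * z) * ((a * c) * (a * c)) := by rw [mul_self_of_orderOf_two hac, mul_one]
          _ = z * (a * c) := by rw [← mul_assoc, h2]
      exact hz'.1 (h.eq_one_of_odd hac h1.symm hz'.2.1)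
    · rintro ⟨x, y⟩ hp
      simp only [P, I, Finset.mem_filter, Finset.mem_product, Finset.mem_univ, true_and] at hp
      obtain ⟨⟨⟨hx, hy⟩, -⟩, hxy⟩ := hp
      rw [← hxy, ← mul_assoc a, haa, one_mul, ← mul_assoc, mul_self_of_orderOf_two hx, one_mul]
    · intro c _
      rw [← mul_assoc, haa, one_mul]
  have hPsum : P.card = ∑ z ∈ Z, Nat.card (Subgroup.centralizer ({z} : Set G)) := by
    rw [Finset.card_eq_sum_card_fiberwise (f := fun p => p.1 * p.2) (t := Z) fun p hp => hmaps p hp]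
    exact Finset.sum_congr rfl hfib
  -- the classes
  let K : G → Finset G := fun z => Finset.univ.filter fun y => Real' y ∧ ∃ g : G,
    Subgroup.centralizer ({y} : Set G) = (Subgroup.centralizer ({z} : Set G)).map (MulAut.conj g).toMonoidHom
  let A : G → ℕ := fun z => Nat.card (Subgroup.centralizer ({z} : Set G))
  have hKsub : ∀ z, K z ⊆ Z := fun z y hy =>
    Finset.mem_filter.mpr ⟨Finset.mem_univ _, (Finset.mem_filter.mp hy).2.1⟩
  have hKself : ∀ z, Real' z → z ∈ K z := fun z hz =>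
    Finset.mem_filter.mpr ⟨Finset.mem_univ _, hz, 1, by ext; simp⟩
  have hKA : ∀ z, ∀ y ∈ K z, A y = A z := fun z y hy => by
    obtain ⟨-, g, hg⟩ := (Finset.mem_filter.mp hy).2
    simp only [A, hg]
    exact Subgroup.card_map_of_injective (MulAut.conj g).injective
  have hKcard : ∀ z, Real' z → 2 * A z * (K z).card = Nat.card G * (A z - 1) := fun z hz => by
    have h1 := h.card_class hz
    have hc : Nat.card {y : G // Real' y ∧ ∃ g : G, Subgroup.centralizer ({y} : Set G) =
        (Subgroup.centralizer ({z} : Set G)).map (MulAut.conj g).toMonoidHom} = (K z).card := by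
      simp only [K]
      rw [Nat.card_eq_fintype_card, Fintype.card_subtype]
    rwa [hc] at h1
  have hAodd : ∀ z, Real' z → Odd (A z) ∧ 3 ≤ A z := by
    intro z hz
    have ho : Odd (A z) := Nat.not_even_iff_odd.mp fun he => by
      obtain ⟨w, hwC, hw⟩ := exists_orderOf_two_mem he
      have := h.real_odd hz hwC
      rw [hw] at this
      exact absurd this (by decide)
    refine ⟨ho, ?_⟩
    have hnt : Nontrivial (Subgroup.centralizer ({z} : Set G)) :=
      ⟨⟨⟨z, Subgroup.mem_centralizer_singleton_iff.mpr rfl⟩, 1, fun he => hz.1 (congrArg Subtype.val he)⟩⟩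
    have h2 : 1 < A z := Finite.one_lt_card
    obtain ⟨x, hx⟩ := ho
    omega
  have htrans : ∀ z w y, y ∈ K z → y ∈ K w → Real' w → w ∈ K z := by
    intro z w y hy hy' hw
    obtain ⟨-, g, hg⟩ := (Finset.mem_filter.mp hy).2
    obtain ⟨-, k, hk⟩ := (Finset.mem_filter.mp hy').2
    refine Finset.mem_filter.mpr ⟨Finset.mem_univ _, hw, k⁻¹ * g, ?_⟩
    ext c
    constructor
    · intro hc
      have hm : k * c * k⁻¹ ∈ Subgroup.centralizer ({y} : Set G) := hk ▸ ⟨c, hc, rfl⟩
      rw [hg] at hm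
      obtain ⟨x, hx, hxe⟩ := hm
      simp only [MulEquiv.coe_toMonoidHom, MulAut.conj_apply] at hxe
      exact ⟨x, hx, by
        show k⁻¹ * g * x * (k⁻¹ * g)⁻¹ = c
        rw [show k⁻¹ * g * x * (k⁻¹ * g)⁻¹ = k⁻¹ * (g * x * g⁻¹) * k by group, hxe]; group⟩
    · rintro ⟨x, hx, rfl⟩
      have hm : g * x * g⁻¹ ∈ Subgroup.centralizer ({y} : Set G) := hg ▸ ⟨x, hx, rfl⟩
      rw [hk] at hm
      obtain ⟨e, he, hee⟩ := hm
      simp only [MulEquiv.coe_toMonoidHom, MulAut.conj_apply] at hee ⊢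
      rw [show k⁻¹ * g * x * (k⁻¹ * g)⁻¹ = k⁻¹ * (g * x * g⁻¹) * k by group, ← hee,
        show k⁻¹ * (k * e * k⁻¹) * k = e by group]
      exact he
  -- the first class
  have hD := h.card_D hu huH
  obtain ⟨⟨d, hd⟩, hd1⟩ : ∃ d : ↥(HH ⊓ (HH).map (MulAut.conj u).toMonoidHom), d ≠ 1 := by
    have : Nontrivial ↥(HH ⊓ (HH).map (MulAut.conj u).toMonoidHom) :=
      Finite.one_lt_card_iff_nontrivial.mp (by rw [hD]; omega)
    exact exists_ne 1
  have hdR : Real' d := ⟨fun he => hd1 (Subtype.ext he), h.odd_D huH hd, u, hu, h.inverted hu huH hd⟩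
  have hqA : q - 1 ∣ A d := by
    rw [← hD]
    refine Subgroup.card_dvd_of_le fun e he => ?_
    exact Subgroup.mem_centralizer_singleton_iff.mpr (h.comm_D hu huH he hd)
  have hdisj : ∀ z w, Real' w → w ∉ K z → Disjoint (K z) (K w) := fun z w hw hn =>
    Finset.disjoint_left.mpr fun y hy hy' => hn (htrans z w y hy hy' hw)
  have hZsmall : Z.card + 2 ≤ Nat.card G := by
    have hsub : Z ⊆ (Finset.univ.erase 1).erase t := fun z hz => by
      have hz' : Real' z := (Finset.mem_filter.mp hz).2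
      refine Finset.mem_erase.mpr ⟨fun he => ?_, Finset.mem_erase.mpr ⟨hz'.1, Finset.mem_univ z⟩⟩
      have := hz'.2.1
      rw [he, ht] at this
      exact absurd this (by decide)
    have h1 := Finset.card_le_card hsub
    rw [Finset.card_erase_of_mem (Finset.mem_erase.mpr ⟨ne_one_of_orderOf_two ht, Finset.mem_univ t⟩),
      Finset.card_erase_of_mem (Finset.mem_univ 1), Finset.card_univ, ← Nat.card_eq_fintype_card] at h1
    have : Nontrivial G := ⟨⟨t, 1, ne_one_of_orderOf_two ht⟩⟩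
    have : 1 < Nat.card G := Finite.one_lt_card
    omega
  have hthird : ∀ z, Real' z → Nat.card G ≤ 3 * (K z).card := by
    intro z hz
    obtain ⟨-, h3⟩ := hAodd z hz
    have h1 := hKcard z hz
    obtain ⟨c, hc⟩ : ∃ c, A z = c + 3 := ⟨A z - 3, by omega⟩
    rw [hc, show c + 3 - 1 = c + 2 by omega] at h1
    nlinarith [Nat.zero_le (c * Nat.card G)]
  have hsumK : ∀ z, Real' z → 2 * ∑ y ∈ K z, A y = Nat.card G * (A z - 1) := fun z hz => by
    rw [Finset.sum_const_nat fun y hy => hKA z y hy, ← hKcard z hz]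
    ring
  have hP2 : 2 * P.card = 2 * (N * (q - 1)) * ((N - 1) * (q - 1)) := by
    rw [hPcard, hI, show N * (q - 1) - (q - 1) = (N - 1) * (q - 1) by rw [Nat.sub_mul, one_mul]]
    ring
  have hNq : 0 < N * (q - 1) := Nat.mul_pos (by omega) (by omega)
  by_cases hone : ∀ z ∈ Z, z ∈ K d
  · exfalso
    have hZK : Z = K d := (Finset.Subset.antisymm hone (hKsub d))
    have h1 : 2 * (N * (q - 1)) * ((N - 1) * (q - 1)) = N * (q - 1) * (q * (A d - 1)) := by
      rw [← hP2, hPsum, hZK, hsumK d hdR, ← hG]; ring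
    have h2 : 2 * ((N - 1) * (q - 1)) = q * (A d - 1) := Nat.eq_of_mul_eq_mul_left hNq (by linarith)
    have hcop : (q - 1).Coprime q := ((Nat.coprime_self_sub_left (by omega : 1 ≤ q)).mpr (Nat.coprime_one_left _))
    have h3 : q - 1 ∣ A d - 1 := hcop.dvd_of_dvd_mul_left ⟨2 * (N - 1), by rw [← h2]; ring⟩
    have h4 : q - 1 ∣ 1 := by
      have := Nat.dvd_sub hqA h3
      rwa [show A d - (A d - 1) = 1 by have := (hAodd d hdR).2; omega] at this
    have := Nat.le_of_dvd Nat.one_pos h4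
    omega
  push Not at hone
  obtain ⟨z, hzZ, hzK⟩ := hone
  have hzR : Real' z := (Finset.mem_filter.mp hzZ).2
  have hZ2 : Z = K d ∪ K z := by
    refine Finset.Subset.antisymm (fun w hw => ?_) (Finset.union_subset (hKsub d) (hKsub z))
    by_contra hcon
    rw [Finset.mem_union, not_or] at hcon
    have hwR : Real' w := (Finset.mem_filter.mp hw).2
    have hd3 : Disjoint (K d ∪ K z) (K w) := Finset.disjoint_union_left.mpr
      ⟨hdisj d w hwR hcon.1, hdisj z w hwR hcon.2⟩
    have h1 := Finset.card_le_card (Finset.union_subset (Finset.union_subset (hKsub d) (hKsub z)) (hKsub w))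
    rw [Finset.card_union_of_disjoint hd3, Finset.card_union_of_disjoint (hdisj d z hzR hzK)] at h1
    have := hthird d hdR
    have := hthird z hzR
    have := hthird w hwR
    omega
  have h1 : 2 * (N * (q - 1)) * ((N - 1) * (q - 1)) = N * (q - 1) * (q * (A d + A z - 2)) := by
    rw [← hP2, hPsum, hZ2, Finset.sum_union (hdisj d z hzR hzK), mul_add, hsumK d hdR, hsumK z hzR, ← hG,
      show A d + A z - 2 = (A d - 1) + (A z - 1) by have := (hAodd d hdR).2; have := (hAodd z hzR).2; omega]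
    ring
  have hq1 : q.Coprime (q - 1) := ((Nat.coprime_self_sub_right (by omega : 1 ≤ q)).mpr (Nat.coprime_one_right _))
  have hcopA : (A d).Coprime (A z) := by
    refine Nat.coprime_of_dvd fun p hp hpd hpz => hzK ?_
    exact Finset.mem_filter.mpr ⟨Finset.mem_univ z, hzR, h.conj_centralizer_of_prime hdR hzR hp hpd hpz⟩
  have hqodd : ∀ a : ℕ, Odd a → a.Coprime q := by
    intro a ha
    obtain ⟨m, -, hm⟩ := h.two_le
    rw [hqdef, hm]
    exact (Nat.coprime_two_right.mpr ha).pow_right _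
  have hdvd : A d * A z ∣ N * (q - 1) := by
    refine ((hqodd _ (hAodd d hdR).1).mul_left (hqodd _ (hAodd z hzR).1)).dvd_of_dvd_mul_left ?_
    rw [show q * (N * (q - 1)) = Nat.card G by rw [← hG]; ring]
    exact hcopA.mul_dvd_of_dvd_of_dvd (Subgroup.card_subgroup_dvd_card _) (Subgroup.card_subgroup_dvd_card _)
  exact degree_arith hq4 hq1 (hAodd d hdR).1 (hAodd z hzR).1 hqA (hAodd z hzR).2 hdvd hN1
    (Nat.eq_of_mul_eq_mul_left hNq (by linarith))

theorem regular (h : EC T) (x y : G ⧸ HH) (hx : x ≠ QuotientGroup.mk 1) (hy : y ≠ QuotientGroup.mk 1) :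
    ∃! t : G, t ∈ T ∧ t • x = y := by
  classical
  have := Fintype.ofFinite (G ⧸ HH)
  let f : ↥(T : Subgroup G) → {w : G ⧸ HH // w ≠ QuotientGroup.mk 1} := fun t => ⟨(t : G) • x, fun he => by
    have h1 : (t : G)⁻¹ • (QuotientGroup.mk 1 : G ⧸ HH) = QuotientGroup.mk 1 := by
      rw [MulAction.Quotient.smul_mk, QuotientGroup.eq]
      simpa using Subgroup.le_normalizer t.2
    exact hx (by rw [← h1, ← he, inv_smul_smul])⟩
  have hinj : Function.Injective f := by
    intro a b he
    have h1 : (a : G) • x = (b : G) • x := congrArg Subtype.val he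
    by_contra hne
    set c := (b : G)⁻¹ * a with hc
    have hcT : c ∈ (T : Subgroup G) := mul_mem (inv_mem b.2) a.2
    have hc1 : c ≠ 1 := fun h0 => hne (Subtype.ext (inv_mul_eq_one.mp h0).symm)
    have hc2 : orderOf c = 2 := orderOf_eq_prime (h.sq_eq_one hcT) hc1
    obtain ⟨g, rfl⟩ := QuotientGroup.mk_surjective x
    have hfix : c • (QuotientGroup.mk g : G ⧸ HH) = QuotientGroup.mk g := by rw [hc, mul_smul, h1, inv_smul_smul]
    have h2 := stronglyEmbedded_fix h.se hc2 (g := 1) (h := g) (by simpa using Subgroup.le_normalizer hcT)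
      (smul_coset_eq_iff.mp hfix)
    exact hx (QuotientGroup.eq.mpr (by simpa using inv_mem h2))
  have hcard : Nat.card ↥(T : Subgroup G) = Nat.card {w : G ⧸ HH // w ≠ QuotientGroup.mk 1} := by
    rw [Nat.card_eq_fintype_card (α := {w : G ⧸ HH // _}), Fintype.card_subtype_compl,
      Fintype.card_subtype_eq, ← Nat.card_eq_fintype_card, ← Subgroup.index_eq_card, h.index_eq,
      Nat.add_sub_cancel]
  obtain ⟨t, ht⟩ := ((Nat.bijective_iff_injective_and_card f).mpr ⟨hinj, hcard⟩).2 ⟨y, hy⟩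
  exact ⟨t, ⟨t.2, congrArg Subtype.val ht⟩, fun s hs => congrArg Subtype.val
    (hinj (a₁ := ⟨s, hs.1⟩) (a₂ := t) (Subtype.ext (hs.2.trans (congrArg Subtype.val ht).symm)))⟩

/-- A nontrivial element fixing two points fixes no third one. -/
theorem fix_three (h : EC T) {u : G} (hu : orderOf u = 2) (huH : u ∉ HH) {d : G}
    (hd : d ∈ HH ⊓ (HH).map (MulAut.conj u).toMonoidHom) (hd1 : d ≠ 1) {x : G ⧸ HH}
    (hx : d • x = x) : x = QuotientGroup.mk 1 ∨ x = QuotientGroup.mk u := by
  by_contra hcon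
  rw [not_or] at hcon
  have hu1 : (QuotientGroup.mk u : G ⧸ HH) ≠ QuotientGroup.mk 1 := fun he => huH (by
    simpa using QuotientGroup.eq.mp he)
  obtain ⟨t, ⟨htT, ht⟩, huniq⟩ := h.regular _ x hu1 hcon.1
  have hd2 : u⁻¹ * d * u ∈ HH := (mem_inf_map_conj.mp hd).2
  have hdu : d • (QuotientGroup.mk u : G ⧸ HH) = QuotientGroup.mk u := smul_coset_eq_iff.mpr hd2
  have hdT : d * t * d⁻¹ ∈ (T : Subgroup G) := (Subgroup.mem_normalizer_iff.mp hd.1 t).mp htT
  have h1 := huniq (d * t * d⁻¹) ⟨hdT, by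
    rw [mul_smul, mul_smul]
    conv_lhs => rw [show d⁻¹ • (QuotientGroup.mk u : G ⧸ HH) = QuotientGroup.mk u by
      conv_lhs => rw [← hdu]
      rw [inv_smul_smul], ht, hx]⟩
  rcases eq_or_ne t 1 with rfl | ht1
  · rw [one_smul] at ht
    exact hcon.2 ht.symm
  · exact hd1 (h.eq_one_of_odd (orderOf_eq_prime (h.sq_eq_one htT) ht1) (mul_inv_eq_iff_eq_mul.mp h1)
      (h.odd_D huH hd))

theorem exists_outside (h : EC T) : ∃ u : G, orderOf u = 2 ∧ u ∉ HH := by
  obtain ⟨t, htT, ht⟩ := h.exists_invol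
  obtain ⟨g, hg⟩ : ∃ g : G, g ∉ HH := by
    by_contra hc
    push Not at hc
    exact h.se.1 (top_le_iff.mp fun g _ => hc g)
  refine ⟨g * t * g⁻¹, by rw [orderOf_conj_eq, ht], fun hm => hg ?_⟩
  have h1 := stronglyEmbedded_fix h.se (by rw [orderOf_conj_eq, ht] : orderOf (g * t * g⁻¹) = 2)
    (g := 1) (h := g) (by simpa using hm) (by simpa [mul_assoc] using Subgroup.le_normalizer htT)
  simpa using h1

theorem mem_D_iff {u g : G} :
    g ∈ HH ⊓ (HH).map (MulAut.conj u).toMonoidHom ↔
      g • (QuotientGroup.mk 1 : G ⧸ HH) = QuotientGroup.mk 1 ∧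
        g • (QuotientGroup.mk u : G ⧸ HH) = QuotientGroup.mk u := by
  rw [mem_inf_map_conj, smul_coset_eq_iff, smul_coset_eq_iff, inv_one, one_mul, mul_one]

theorem D_transitive (h : EC T) {u : G} (hu : orderOf u = 2) (huH : u ∉ HH) {x y : G ⧸ HH}
    (hx : x ≠ QuotientGroup.mk 1) (hxu : x ≠ QuotientGroup.mk u) (hy : y ≠ QuotientGroup.mk 1)
    (hyu : y ≠ QuotientGroup.mk u) : ∃ d ∈ HH ⊓ (HH).map (MulAut.conj u).toMonoidHom, d • x = y := by
  classical
  have := Fintype.ofFinite (G ⧸ HH)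
  let f : ↥(HH ⊓ (HH).map (MulAut.conj u).toMonoidHom) →
      {w : G ⧸ HH // ¬ (w = QuotientGroup.mk 1 ∨ w = QuotientGroup.mk u)} := fun d => ⟨(d : G) • x, fun he => by
    have hd := mem_D_iff.mp (inv_mem d.2)
    rcases he with he | he
    · exact hx (by rw [← hd.1, ← he, inv_smul_smul])
    · exact hxu (by rw [← hd.2, ← he, inv_smul_smul])⟩
  have hinj : Function.Injective f := by
    intro a b he
    have h1 : (a : G) • x = (b : G) • x := congrArg Subtype.val he
    by_contra hne
    have hc1 : (b : G)⁻¹ * a ≠ 1 := fun h0 => hne (Subtype.ext (inv_mul_eq_one.mp h0).symm)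
    have hfix : ((b : G)⁻¹ * a) • x = x := by rw [mul_smul, h1, inv_smul_smul]
    exact (h.fix_three hu huH (mul_mem (inv_mem b.2) a.2) hc1 hfix).elim hx hxu
  have hne : (QuotientGroup.mk u : G ⧸ HH) ≠ QuotientGroup.mk 1 := fun he => huH (by
    simpa using QuotientGroup.eq.mp he)
  have hcard : Nat.card ↥(HH ⊓ (HH).map (MulAut.conj u).toMonoidHom) =
      Nat.card {w : G ⧸ HH // ¬ (w = QuotientGroup.mk 1 ∨ w = QuotientGroup.mk u)} := by
    rw [h.card_D hu huH, Nat.card_eq_fintype_card (α := {w : G ⧸ HH // _}), Fintype.card_subtype_compl,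
      ← Nat.card_eq_fintype_card (α := G ⧸ HH), ← Subgroup.index_eq_card, h.index_eq, Fintype.card_subtype,
      show (Finset.univ.filter fun w : G ⧸ HH => w = QuotientGroup.mk 1 ∨ w = QuotientGroup.mk u) =
        {QuotientGroup.mk 1, QuotientGroup.mk u} by ext; simp, Finset.card_pair hne.symm]
    omega
  obtain ⟨d, hd⟩ := ((Nat.bijective_iff_injective_and_card f).mpr ⟨hinj, hcard⟩).2 ⟨y, by
    rintro (he | he); exacts [hy he, hyu he]⟩
  exact ⟨d, d.2, congrArg Subtype.val hd⟩

theorem to_standard (h : EC T) {u : G} (hu : orderOf u = 2) (huH : u ∉ HH) {x₁ x₂ x₃ w : G ⧸ HH}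
    (h12 : x₁ ≠ x₂) (h13 : x₁ ≠ x₃) (h23 : x₂ ≠ x₃) (hw : w ≠ QuotientGroup.mk 1)
    (hwu : w ≠ QuotientGroup.mk u) :
    ∃ g : G, g • x₁ = QuotientGroup.mk 1 ∧ g • x₂ = QuotientGroup.mk u ∧ g • x₃ = w := by
  obtain ⟨a, rfl⟩ := QuotientGroup.mk_surjective x₁
  have ha : a⁻¹ • (QuotientGroup.mk a : G ⧸ HH) = QuotientGroup.mk 1 := by
    rw [MulAction.Quotient.smul_mk, smul_eq_mul, inv_mul_cancel]
  have hne : (QuotientGroup.mk u : G ⧸ HH) ≠ QuotientGroup.mk 1 := fun he => huH (by
    simpa using QuotientGroup.eq.mp he)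
  obtain ⟨t, ⟨htT, ht⟩, -⟩ := h.regular (a⁻¹ • x₂) _ (fun he => h12 (smul_left_cancel a⁻¹ (ha.trans he.symm))) hne
  have ht1 : t • (QuotientGroup.mk 1 : G ⧸ HH) = QuotientGroup.mk 1 :=
    smul_coset_eq_iff.mpr (by simpa using Subgroup.le_normalizer htT)
  obtain ⟨d, hd, hdx⟩ := h.D_transitive hu huH (x := (t * a⁻¹) • x₃) (y := w)
    (fun he => h13 (smul_left_cancel (t * a⁻¹) (Eq.trans (by rw [mul_smul, ha, ht1]) he.symm)))
    (fun he => h23 (smul_left_cancel (t * a⁻¹) (Eq.trans (by rw [mul_smul, ht]) he.symm))) hw hwu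
  refine ⟨d * (t * a⁻¹), ?_, ?_, by rw [mul_smul]; exact hdx⟩
  · rw [mul_smul, mul_smul, ha, ht1, (mem_D_iff.mp hd).1]
  · rw [mul_smul, mul_smul, ht, (mem_D_iff.mp hd).2]

theorem exists_third_point (h : EC T) {u : G} (huH : u ∉ HH) :
    ∃ w : G ⧸ HH, w ≠ QuotientGroup.mk 1 ∧ w ≠ QuotientGroup.mk u := by
  classical
  have := Fintype.ofFinite (G ⧸ HH)
  by_contra hc
  push Not at hc
  have hsub : (Finset.univ : Finset (G ⧸ HH)) ⊆ {QuotientGroup.mk 1, QuotientGroup.mk u} := fun w _ => by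
    simp only [Finset.mem_insert, Finset.mem_singleton]
    exact (em _).imp id (hc w)
  have h1 := (Finset.card_le_card hsub).trans Finset.card_le_two
  rw [Finset.card_univ, ← Nat.card_eq_fintype_card, ← Subgroup.index_eq_card, h.index_eq] at h1
  have := h.card_T_ge
  omega

end Cfsg.Agent.Invol.EC
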