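import Cfsg.Agent.Lib.Block.Zas.SharpEven
import Cfsg.Agent.Lib.Block.SmallPSL.Recognize

/-!
Groups in which every involution centralizer is an elementary abelian 2-group.

The Sylow 2-subgroups are trivial-intersection, and counting the involutions swapping a given pair makes the
stabiliser of two of them abelian of order `q - 1`, inverted by every swapping involution. A third Sylow
2-subgroup outside one orbit would make the fixed set of that stabiliser both even and odd; so there are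
`q + 1` of them and the action is sharply triply transitive.
-/

set_option autoImplicit false

namespace Cfsg.Agent.Invol.ElemCent

open MulAction

universe u

variable {G : Type u} [Group G] [Finite G]

/-- The hypotheses. -/
structure Hyp (T : Sylow 2 G) : Prop where
  nc : ¬ IsCyclic (T : Subgroup G)
  nn : ¬ (T : Subgroup G).Normal
  comm : ∀ t : G, orderOf t = 2 → ∀ a ∈ Subgroup.centralizer ({t} : Set G),
    ∀ b ∈ Subgroup.centralizer ({t} : Set G), a * b = b * a
  sq : ∀ t : G, orderOf t = 2 → ∀ c ∈ Subgroup.centralizer ({t} : Set G), c ^ 2 = 1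

variable {T : Sylow 2 G}

theorem stab_iff (P : Sylow 2 G) (g : G) : g • P = P ↔ g ∈ Subgroup.normalizer ((P : Subgroup G) : Set G) := by
  rw [← MulAction.mem_stabilizer_iff, Sylow.stabilizer_eq_normalizer]
  rfl

theorem q_ge (h : Hyp T) (P : Sylow 2 G) : 4 ≤ Nat.card ↥(P : Subgroup G) := by
  haveI : Fact (Nat.Prime 2) := ⟨Nat.prime_two⟩
  have e : Nat.card ↥(P : Subgroup G) = Nat.card ↥(T : Subgroup G) := by
    rw [P.card_eq_multiplicity, T.card_eq_multiplicity]
  rw [e]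
  obtain ⟨k, hk⟩ := IsPGroup.iff_card.1 T.2
  rcases Nat.lt_or_ge k 2 with hk2 | hk2
  · exfalso
    apply h.nc
    interval_cases k
    · haveI : Subsingleton ↥(T : Subgroup G) := (Nat.card_eq_one_iff_unique.1 hk).1
      infer_instance
    · exact isCyclic_of_prime_card (p := 2) hk
  · rw [hk]; exact (Nat.pow_le_pow_right two_pos hk2 : 2 ^ 2 ≤ 2 ^ k)

theorem cent_pgroup (h : Hyp T) {t : G} (ht : orderOf t = 2) :
    IsPGroup 2 ↥(Subgroup.centralizer ({t} : Set G)) := fun c =>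
  ⟨1, Subtype.ext (by simpa using h.sq t ht c c.2)⟩

/-- Each Sylow 2-subgroup is the centralizer of each of its involutions. -/
theorem cent_eq (h : Hyp T) (P : Sylow 2 G) {s : G} (hs : s ∈ (P : Subgroup G)) (hs2 : orderOf s = 2) :
    Subgroup.centralizer ({s} : Set G) = (P : Subgroup G) := by
  haveI : Fact (Nat.Prime 2) := ⟨Nat.prime_two⟩
  haveI : Nontrivial ↥(P : Subgroup G) := Finite.one_lt_card_iff_nontrivial.1 (by have := q_ge h P; omega)
  haveI := P.2.center_nontrivial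
  obtain ⟨k, hk⟩ := IsPGroup.iff_card.1 (P.2.to_subgroup (Subgroup.center ↥(P : Subgroup G)))
  have hk0 : k ≠ 0 := by
    rintro rfl
    have := (Finite.one_lt_card_iff_nontrivial (α := Subgroup.center ↥(P : Subgroup G))).2 inferInstance
    rw [hk, pow_zero] at this
    omega
  obtain ⟨z, hz⟩ := exists_prime_orderOf_dvd_card' (G := Subgroup.center ↥(P : Subgroup G)) 2 (hk ▸ dvd_pow_self 2 hk0)
  have hz' : orderOf ((z : ↥(P : Subgroup G)) : G) = 2 := by rw [Subgroup.orderOf_coe, Subgroup.orderOf_coe, hz]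
  have hle : (P : Subgroup G) ≤ Subgroup.centralizer ({((z : ↥(P : Subgroup G)) : G)} : Set G) := fun x hx =>
    Subgroup.mem_centralizer_singleton_iff.2 (congrArg Subtype.val (Subgroup.mem_center_iff.1 z.2 ⟨x, hx⟩))
  refine P.3 (cent_pgroup h hs2) fun x hx => ?_
  rw [Subgroup.mem_centralizer_singleton_iff]
  exact h.comm _ hz' x (hle hx) s (hle hs)

theorem sq_one (h : Hyp T) (P : Sylow 2 G) {x : G} (hx : x ∈ (P : Subgroup G)) : x * x = 1 := by
  haveI : Fact (Nat.Prime 2) := ⟨Nat.prime_two⟩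
  obtain ⟨k, hk⟩ := IsPGroup.iff_card.1 P.2
  have hk0 : k ≠ 0 := by
    rintro rfl
    have := q_ge h P
    rw [hk] at this
    omega
  obtain ⟨s, hs⟩ := exists_prime_orderOf_dvd_card' (G := ↥(P : Subgroup G)) 2 (hk ▸ dvd_pow_self 2 hk0)
  have hs' : orderOf (s : G) = 2 := by rw [Subgroup.orderOf_coe, hs]
  rw [← sq]
  exact h.sq _ hs' x (by rw [cent_eq h P s.2 hs']; exact hx)

theorem order_two (h : Hyp T) (P : Sylow 2 G) {x : G} (hx : x ∈ (P : Subgroup G)) (hx1 : x ≠ 1) : orderOf x = 2 :=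
  orderOf_eq_prime (p := 2) (by rw [sq]; exact sq_one h P hx) hx1

theorem ti (h : Hyp T) {P Q : Sylow 2 G} {s : G} (hP : s ∈ (P : Subgroup G)) (hQ : s ∈ (Q : Subgroup G))
    (hs : s ≠ 1) : P = Q :=
  Sylow.ext ((cent_eq h P hP (order_two h P hP hs)).symm.trans (cent_eq h Q hQ (order_two h P hP hs)))

theorem mem_of_fix {P : Sylow 2 G} {g : G} (hg : g * g = 1) (hf : g • P = P) : g ∈ (P : Subgroup G) := by
  haveI : Fact (Nat.Prime 2) := ⟨Nat.prime_two⟩
  have hp : IsPGroup 2 ↥(Subgroup.zpowers g) := by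
    rintro ⟨_, n, rfl⟩
    refine ⟨1, Subtype.ext ?_⟩
    push_cast
    rw [pow_two, ← (Commute.refl g).mul_zpow, hg, one_zpow]
  have hmem : g ∈ Subgroup.zpowers g ⊓ Subgroup.normalizer ((P : Subgroup G) : Set G) :=
    ⟨Subgroup.mem_zpowers g, (stab_iff P g).1 hf⟩
  have e := IsPGroup.inf_normalizer_sylow hp (Q := P)
  have hmem' : g ∈ Subgroup.zpowers g ⊓ (P : Subgroup G) := e.le hmem
  exact hmem'.2

theorem free (h : Hyp T) {P Q : Sylow 2 G} {t : G} (ht : t ∈ (P : Subgroup G)) (hf : t • Q = Q) (hne : P ≠ Q) :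
    t = 1 :=
  by_contra fun h1 => hne (ti h ht (mem_of_fix (sq_one h P ht) hf) h1)

theorem exists_other (h : Hyp T) (P : Sylow 2 G) : ∃ Q : Sylow 2 G, Q ≠ P := by
  haveI : Fact (Nat.Prime 2) := ⟨Nat.prime_two⟩
  by_contra hcon
  push Not at hcon
  exact h.nn (Subgroup.normalizer_eq_top_iff.1 (top_le_iff.1 fun g _ =>
    (stab_iff T g).1 ((hcon (g • T)).trans (hcon T).symm)))

theorem conj_of_ne (h : Hyp T) {P Q : Sylow 2 G} (hne : P ≠ Q) {s s' : G} (hs : s ∈ (P : Subgroup G))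
    (hs' : s' ∈ (Q : Subgroup G)) (h1 : s ≠ 1) (h1' : s' ≠ 1) : IsConj s s' := by
  have a := sq_one h P hs
  have b := sq_one h Q hs'
  have ia : s⁻¹ = s := inv_eq_of_mul_eq_one_right a
  have ib : s'⁻¹ = s' := inv_eq_of_mul_eq_one_right b
  set d := s * s' with hd
  have hsd : s * d * s⁻¹ = d⁻¹ := by
    rw [hd, ← mul_assoc, a, one_mul, mul_inv_rev, ib]
  have hsd' : ∀ j : ℕ, s * d ^ j = (d ^ j)⁻¹ * s := fun j => by
    rw [← inv_pow, ← hsd, conj_pow, inv_mul_cancel_right]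
  rcases Nat.even_or_odd (orderOf d) with ⟨m, hm⟩ | ⟨m, hm⟩
  · exfalso
    have hpos : 0 < orderOf d := orderOf_pos d
    set z := d ^ m with hz
    have hz2 : orderOf z = 2 := orderOf_eq_prime (p := 2)
      (by rw [hz, ← pow_mul, show m * 2 = orderOf d by omega, pow_orderOf_eq_one])
      (pow_ne_one_of_lt_orderOf (by omega) (by omega))
    have hzi : z⁻¹ = z := inv_eq_of_mul_eq_one_right (by rw [← sq, ← hz2, pow_orderOf_eq_one])
    have hcs : s * z = z * s := by rw [hz, hsd', ← hz, hzi]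
    have hcd : d * z = z * d := ((Commute.refl d).pow_right m).eq
    have hcs' : s' * z = z * s' := by
      have e : s' = s * d := by rw [hd, ← mul_assoc, a, one_mul]
      rw [e, mul_assoc, hcd, ← mul_assoc, hcs, mul_assoc]
    have hP : z ∈ (P : Subgroup G) := by
      rw [← cent_eq h P hs (order_two h P hs h1)]
      exact Subgroup.mem_centralizer_singleton_iff.2 hcs.symm
    have hQ : z ∈ (Q : Subgroup G) := by
      rw [← cent_eq h Q hs' (order_two h Q hs' h1')]
      exact Subgroup.mem_centralizer_singleton_iff.2 hcs'.symm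
    exact hne (ti h hP hQ (fun e => by rw [e, orderOf_one] at hz2; omega))
  · refine isConj_iff.2 ⟨(d ^ (m + 1))⁻¹, ?_⟩
    rw [inv_inv]
    have hd1 : d ^ (m + 1) * d ^ (m + 1) = d := by
      rw [← pow_add, show m + 1 + (m + 1) = orderOf d + 1 by omega, pow_succ, pow_orderOf_eq_one, one_mul]
    calc (d ^ (m + 1))⁻¹ * s * d ^ (m + 1) = (d ^ (m + 1))⁻¹ * (s * d ^ (m + 1)) := mul_assoc _ _ _
      _ = (d ^ (m + 1) * d ^ (m + 1))⁻¹ * s := by rw [hsd', mul_inv_rev, mul_assoc]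
      _ = s' := by rw [hd1, hd, mul_inv_rev, ia, ib, mul_assoc, a, mul_one]

theorem exists_mem_ne_one (h : Hyp T) (P : Sylow 2 G) : ∃ s ∈ (P : Subgroup G), s ≠ 1 := by
  haveI : Nontrivial ↥(P : Subgroup G) := Finite.one_lt_card_iff_nontrivial.1 (by have := q_ge h P; omega)
  obtain ⟨s, hs⟩ := exists_ne (1 : ↥(P : Subgroup G))
  exact ⟨s, s.2, fun e => hs (Subtype.ext e)⟩

theorem normalizer_trans (h : Hyp T) (P : Sylow 2 G) {s s' : G} (hs : s ∈ (P : Subgroup G))
    (hs' : s' ∈ (P : Subgroup G)) (h1 : s ≠ 1) (h1' : s' ≠ 1) :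
    ∃ g : G, g • P = P ∧ g * s * g⁻¹ = s' := by
  obtain ⟨Q, hQ⟩ := exists_other h P
  obtain ⟨w, hw, hw1⟩ := exists_mem_ne_one h Q
  obtain ⟨g, hg⟩ := isConj_iff.1 ((conj_of_ne h (Ne.symm hQ) hs hw h1 hw1).trans (conj_of_ne h hQ hw hs' hw1 h1'))
  refine ⟨g, ?_, hg⟩
  have hmem : s' ∈ ((g • P : Sylow 2 G) : Subgroup G) := by
    rw [← hg, Sylow.coe_subgroup_smul]
    exact Subgroup.smul_mem_pointwise_smul _ (MulAut.conj g) _ hs
  exact ti h hmem hs' h1'

/-- `|N(P)| = q (q - 1)`. -/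
theorem card_normalizer (h : Hyp T) (P : Sylow 2 G) :
    Nat.card ↥(Subgroup.normalizer ((P : Subgroup G) : Set G)) =
      Nat.card ↥(P : Subgroup G) * (Nat.card ↥(P : Subgroup G) - 1) := by
  classical
  haveI := Fintype.ofFinite G
  set N := Subgroup.normalizer ((P : Subgroup G) : Set G)
  obtain ⟨s, hs, hs1⟩ := exists_mem_ne_one h P
  have hPN : (P : Subgroup G) ≤ N := Subgroup.le_normalizer
  have hcP := cent_eq h P hs (order_two h P hs hs1)
  have hmaps : ∀ g ∈ (Finset.univ.filter fun g => g ∈ N), g * s * g⁻¹ ∈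
      (Finset.univ.filter fun x => x ∈ (P : Subgroup G)).erase 1 := fun g hg => by
    rw [Finset.mem_filter] at hg
    refine Finset.mem_erase.2 ⟨fun e => hs1 (conj_eq_one_iff.1 e), ?_⟩
    simp [(Subgroup.mem_normalizer_iff.1 hg.2 s).1 hs]
  have hcard : ∀ (S : Subgroup G), (Finset.univ.filter fun x => x ∈ S).card = Nat.card ↥S := fun S => by
    rw [Nat.card_eq_fintype_card, Fintype.card_subtype]
  rw [← hcard N, Finset.card_eq_sum_card_fiberwise hmaps,
    Finset.sum_congr rfl (g := fun _ => Nat.card ↥(P : Subgroup G)) (fun x hx => ?_), Finset.sum_const,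
    Finset.card_erase_of_mem (by simp), hcard, smul_eq_mul, mul_comm]
  obtain ⟨hx1, hx'⟩ := Finset.mem_erase.1 hx
  rw [Finset.mem_filter] at hx'
  obtain ⟨g₀, hg₀, hg₀'⟩ := normalizer_trans h P hs hx'.2 hs1 hx1
  rw [← hcard (P : Subgroup G)]
  refine Finset.card_bij' (fun g _ => g₀⁻¹ * g) (fun p _ => g₀ * p) ?_ ?_ ?_ ?_
  · intro g hg
    rw [Finset.mem_filter, Finset.mem_filter] at hg
    rw [Finset.mem_filter]
    refine ⟨Finset.mem_univ _, ?_⟩
    rw [← hcP, Subgroup.mem_centralizer_singleton_iff]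
    have e : g * s * g⁻¹ = g₀ * s * g₀⁻¹ := hg.2.trans hg₀'.symm
    calc g₀⁻¹ * g * s = g₀⁻¹ * (g * s * g⁻¹) * g := by group
      _ = s * (g₀⁻¹ * g) := by rw [e]; group
  · intro p hp
    rw [Finset.mem_filter] at hp
    rw [Finset.mem_filter, Finset.mem_filter]
    refine ⟨⟨Finset.mem_univ _, N.mul_mem ((stab_iff P g₀).1 hg₀) (hPN hp.2)⟩, ?_⟩
    have hp' : p * s = s * p := by
      have hc := hp.2
      rw [← hcP, Subgroup.mem_centralizer_singleton_iff] at hc
      exact hc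
    calc g₀ * p * s * (g₀ * p)⁻¹ = g₀ * (p * s) * p⁻¹ * g₀⁻¹ := by group
      _ = g₀ * s * g₀⁻¹ := by rw [hp']; group
      _ = x := hg₀'
  · intro g _; group
  · intro p _; group

/-- The stabiliser of two Sylow 2-subgroups. -/
def pair (P Q : Sylow 2 G) : Subgroup G :=
  Subgroup.normalizer ((P : Subgroup G) : Set G) ⊓ Subgroup.normalizer ((Q : Subgroup G) : Set G)

theorem mem_pair {P Q : Sylow 2 G} {g : G} : g ∈ pair P Q ↔ g • P = P ∧ g • Q = Q := by
  rw [pair, Subgroup.mem_inf, stab_iff, stab_iff]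

theorem pair_inf (h : Hyp T) {P Q : Sylow 2 G} (hne : P ≠ Q) {t : G} (ht : t ∈ (P : Subgroup G))
    (ht' : t ∈ pair P Q) : t = 1 :=
  free h ht (mem_pair.1 ht').2 hne

theorem pair_no_invol (h : Hyp T) {P Q : Sylow 2 G} (hne : P ≠ Q) {t : G} (ht : t * t = 1) (ht' : t ∈ pair P Q) :
    t = 1 :=
  pair_inf h hne (mem_of_fix ht (mem_pair.1 ht').1) ht'

theorem pair_card_le (h : Hyp T) {P Q : Sylow 2 G} (hne : P ≠ Q) :
    Nat.card ↥(pair P Q) ≤ Nat.card ↥(P : Subgroup G) - 1 := by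
  have hinj : Nat.card (↥(P : Subgroup G) × ↥(pair P Q)) ≤
      Nat.card ↥(Subgroup.normalizer ((P : Subgroup G) : Set G)) := by
    refine Nat.card_le_card_of_injective (fun x => ⟨(x.1 : G) * x.2, Subgroup.mul_mem _ (Subgroup.le_normalizer x.1.2)
      (Subgroup.mem_inf.1 x.2.2).1⟩) ?_
    rintro ⟨a, b⟩ ⟨a', b'⟩ e
    have e' : (a : G) * b = a' * b' := congrArg Subtype.val e
    have h1 : (a' : G)⁻¹ * a = b' * (b : G)⁻¹ := by
      rw [eq_mul_inv_iff_mul_eq, mul_assoc, e', inv_mul_cancel_left]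
    have h2 := pair_inf h hne (Subgroup.mul_mem _ (Subgroup.inv_mem _ a'.2) a.2)
      (h1 ▸ Subgroup.mul_mem _ b'.2 (Subgroup.inv_mem _ b.2))
    have e1 : a = a' := Subtype.ext (inv_mul_eq_one.1 h2).symm
    subst e1
    exact Prod.ext rfl (Subtype.ext (mul_left_cancel e'))
  rw [Nat.card_prod, card_normalizer h P] at hinj
  exact Nat.le_of_mul_le_mul_left hinj (by have := q_ge h P; omega)

/-- Involutions swapping a pair give the whole pair stabiliser, and invert it. -/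
theorem pair_swap (h : Hyp T) {P Q : Sylow 2 G} (hne : P ≠ Q) :
    Nat.card ↥(pair P Q) = Nat.card ↥(P : Subgroup G) - 1 ∧
      (∃ u : G, u * u = 1 ∧ u • P = Q) ∧
      ∀ u : G, u * u = 1 → u • P = Q → ∀ d ∈ pair P Q, u * d * u⁻¹ = d⁻¹ := by
  classical
  haveI := Fintype.ofFinite G
  haveI := Fintype.ofFinite (Sylow 2 G)
  haveI : Fact (Nat.Prime 2) := ⟨Nat.prime_two⟩
  set q := Nat.card ↥(P : Subgroup G) with hq
  set I := Finset.univ.filter fun g : G => g * g = 1 ∧ g ≠ 1 ∧ g • P ≠ P with hI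
  let J : Sylow 2 G → Finset G := fun R => I.filter fun g => g • P = R
  have hcardP : ∀ R : Sylow 2 G, Nat.card ↥(R : Subgroup G) = q := fun R => by
    rw [hq, R.card_eq_multiplicity, P.card_eq_multiplicity]
  have hsum : I.card = ∑ R ∈ Finset.univ.erase P, (J R).card :=
    Finset.card_eq_sum_card_fiberwise fun g hg => by
      rw [hI, Finset.mem_coe, Finset.mem_filter] at hg
      exact Finset.mem_erase.2 ⟨hg.2.2.2, Finset.mem_univ _⟩
  have hinvS : ∀ g : G, g * g = 1 → g ≠ 1 → ∃ R : Sylow 2 G, g ∈ (R : Subgroup G) := fun g hg _ => by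
    have hp : IsPGroup 2 ↥(Subgroup.zpowers g) := by
      rintro ⟨_, n, rfl⟩
      refine ⟨1, Subtype.ext ?_⟩
      push_cast
      rw [pow_two, ← (Commute.refl g).mul_zpow, hg, one_zpow]
    obtain ⟨R, hR⟩ := hp.exists_le_sylow
    exact ⟨R, hR (Subgroup.mem_zpowers g)⟩
  have hIcard : I.card = (q - 1) * (Finset.univ.erase P).card := by
    have hfib : ∀ R ∈ Finset.univ.erase P, ((Finset.univ.filter fun x => x ∈ (R : Subgroup G)).erase 1).card = q - 1 := by
      intro R _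
      rw [Finset.card_erase_of_mem (by simp), ← hcardP R, Nat.card_eq_fintype_card, Fintype.card_subtype]
    rw [mul_comm, ← smul_eq_mul, ← Finset.sum_const, ← Finset.sum_congr rfl hfib, ← Finset.card_biUnion]
    · congr 1
      ext g
      simp only [hI, Finset.mem_filter, Finset.mem_univ, true_and, Finset.mem_biUnion, Finset.mem_erase, and_true]
      constructor
      · rintro ⟨hg, hg1, hgP⟩
        obtain ⟨R, hR⟩ := hinvS g hg hg1
        refine ⟨R, fun e => hgP ?_, hg1, hR⟩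
        subst e
        exact (stab_iff R g).2 (Subgroup.le_normalizer hR)
      · rintro ⟨R, hRP, hg1, hR⟩
        exact ⟨sq_one h R hR, hg1, fun e => hg1 (free h hR e hRP)⟩
    · intro R _ R' _ hRR'
      rw [Function.onFun, Finset.disjoint_left]
      intro g hg hg'
      simp only [Finset.mem_erase, Finset.mem_filter, Finset.mem_univ, true_and] at hg hg'
      exact hRR' (ti h hg.2 hg'.2 hg.1)
  let D : Sylow 2 G → Finset G := fun R => Finset.univ.filter fun d => d ∈ pair P R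
  have hDc : ∀ R, (D R).card = Nat.card ↥(pair P R) := fun R => by
    rw [Nat.card_eq_fintype_card, Fintype.card_subtype]
  have hJ : ∀ R g, g ∈ J R → g * g = 1 ∧ g • P = R := fun R g hg => by
    simp only [J, hI, Finset.mem_filter, Finset.mem_univ, true_and] at hg
    exact ⟨hg.1.1, hg.2⟩
  have hmapJ : ∀ R, ∀ u ∈ J R, ∀ v ∈ J R, u * v ∈ pair P R ∧ u * (u * v) * u⁻¹ = (u * v)⁻¹ := by
    intro R u hu v hv
    obtain ⟨hu2, huR⟩ := hJ R u hu
    obtain ⟨hv2, hvR⟩ := hJ R v hv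
    have hu' : u • R = P := by rw [← huR, ← mul_smul, hu2, one_smul]
    have hv' : v • R = P := by rw [← hvR, ← mul_smul, hv2, one_smul]
    refine ⟨mem_pair.2 ⟨by rw [mul_smul, hvR, hu'], by rw [mul_smul, hv', huR]⟩, ?_⟩
    rw [← mul_assoc, hu2, one_mul, mul_inv_rev, inv_eq_of_mul_eq_one_right hu2, inv_eq_of_mul_eq_one_right hv2]
  have hJle : ∀ R ∈ Finset.univ.erase P, (J R).card ≤ q - 1 := by
    intro R hR
    rcases (J R).eq_empty_or_nonempty with e | ⟨u, hu⟩
    · rw [e, Finset.card_empty]; exact Nat.zero_le _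
    refine le_trans (Finset.card_le_card_of_injOn (t := D R) (fun v => u * v) (fun v hv => ?_) ?_) ?_
    · simp [D, (hmapJ R u hu v hv).1]
    · exact fun a _ b _ e => mul_left_cancel e
    · rw [hDc]; exact pair_card_le h (Finset.mem_erase.1 hR).1.symm
  have hQ : Q ∈ Finset.univ.erase P := Finset.mem_erase.2 ⟨hne.symm, Finset.mem_univ _⟩
  have heq : (J Q).card = q - 1 := by
    by_contra hlt
    have hlt' : (J Q).card < q - 1 := lt_of_le_of_ne (hJle Q hQ) hlt
    have := Finset.sum_lt_sum hJle ⟨Q, hQ, hlt'⟩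
    rw [← hsum, hIcard, Finset.sum_const, smul_eq_mul, mul_comm] at this
    exact lt_irrefl _ this
  have hq4 := q_ge h P
  obtain ⟨u₀, hu₀⟩ := Finset.card_pos.1 (show 0 < (J Q).card by omega)
  have hbij : ∀ u ∈ J Q, (J Q).image (fun v => u * v) = D Q := fun u hu => by
    refine Finset.eq_of_subset_of_card_le (fun d hd => ?_) ?_
    · obtain ⟨v, hv, rfl⟩ := Finset.mem_image.1 hd
      simp [D, (hmapJ Q u hu v hv).1]
    · rw [Finset.card_image_of_injective _ (fun a b e => mul_left_cancel e), heq, hDc]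
      exact pair_card_le h hne
  refine ⟨?_, ⟨u₀, hJ Q u₀ hu₀⟩, fun u hu2 huQ d hd => ?_⟩
  · rw [← hDc, ← hbij u₀ hu₀, Finset.card_image_of_injective _ (fun a b e => mul_left_cancel e), heq]
  · have hu : u ∈ J Q := by
      simp only [J, hI, Finset.mem_filter, Finset.mem_univ, true_and]
      exact ⟨⟨hu2, fun e => hne (by rw [← huQ, e, one_smul]), fun e => hne (e.symm.trans huQ)⟩, huQ⟩
    have hd' : d ∈ (J Q).image (fun v => u * v) := by rw [hbij u hu]; simp [D, hd]
    obtain ⟨v, hv, rfl⟩ := Finset.mem_image.1 hd'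
    exact (hmapJ Q u hu v hv).2

theorem pair_comm (h : Hyp T) {P Q : Sylow 2 G} (hne : P ≠ Q) :
    ∀ a ∈ pair P Q, ∀ b ∈ pair P Q, a * b = b * a := by
  obtain ⟨-, ⟨u, hu, huQ⟩, hinv⟩ := pair_swap h hne
  intro a ha b hb
  have e1 := hinv u hu huQ (a * b) ((pair P Q).mul_mem ha hb)
  rw [mul_inv_rev, ← hinv u hu huQ a ha, ← hinv u hu huQ b hb] at e1
  have e2 : u * (a * b) * u⁻¹ = u * (b * a) * u⁻¹ := e1.trans (by group)
  exact mul_left_cancel (mul_right_cancel e2)

/-- A nontrivial element of a pair stabiliser. -/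
theorem pair_ne_bot (h : Hyp T) {P Q : Sylow 2 G} (hne : P ≠ Q) : ∃ d ∈ pair P Q, d ≠ 1 := by
  have hc := (pair_swap h hne).1
  have := q_ge h P
  haveI : Nontrivial ↥(pair P Q) := Finite.one_lt_card_iff_nontrivial.1 (by omega)
  obtain ⟨d, hd⟩ := exists_ne (1 : ↥(pair P Q))
  exact ⟨d, d.2, fun e => hd (Subtype.ext e)⟩

theorem fix_point (h : Hyp T) {P Q : Sylow 2 G} (hne : P ≠ Q) {d : G} (hd : d ∈ pair P Q) (hd1 : d ≠ 1)
    {t : G} (ht : t ∈ (P : Subgroup G)) (hfix : d • (t • Q) = t • Q) : t = 1 := by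
  obtain ⟨hdP, hdQ⟩ := mem_pair.1 hd
  have hconj : d * t * d⁻¹ ∈ (P : Subgroup G) := (Subgroup.mem_normalizer_iff.1 ((stab_iff P d).1 hdP) t).1 ht
  have hsm : (d * t * d⁻¹) • Q = t • Q := by
    conv_rhs => rw [← hfix, ← mul_smul]
    rw [mul_smul (d * t), show d⁻¹ • Q = Q by rw [inv_smul_eq_iff, hdQ]]
  have heq : t⁻¹ * (d * t * d⁻¹) = 1 := free h (Subgroup.mul_mem _ (Subgroup.inv_mem _ ht) hconj)
    (by rw [mul_smul, hsm, inv_smul_smul]) hne
  by_contra ht1
  have hc : d ∈ (P : Subgroup G) := by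
    rw [← cent_eq h P ht (order_two h P ht ht1), Subgroup.mem_centralizer_singleton_iff]
    have e : d * t * d⁻¹ = t := (inv_mul_eq_one.1 heq).symm
    exact mul_inv_eq_iff_eq_mul.1 e
  exact hd1 (pair_inf h hne hc hd)

theorem commutes_normalizes (h : Hyp T) {P Q : Sylow 2 G} (hne : P ≠ Q) (R : Sylow 2 G) (hRP : R ≠ P) :
    ∃ R' : Sylow 2 G, (∃ t ∈ (P : Subgroup G), t • R = R') ∧ ∀ d ∈ pair P Q, d • R' = R' := by
  classical
  haveI := Fintype.ofFinite G
  obtain ⟨d₀, hd₀, hd₀1⟩ := pair_ne_bot h hne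
  have hPd : ∀ d ∈ pair P Q, ∀ t ∈ (P : Subgroup G), d * t * d⁻¹ ∈ (P : Subgroup G) := fun d hd t ht =>
    (Subgroup.mem_normalizer_iff.1 ((stab_iff P d).1 (mem_pair.1 hd).1) t).1 ht
  -- the action of the pair stabiliser preserves each `P`-orbit
  have horb : ∀ d ∈ pair P Q, ∃ t ∈ (P : Subgroup G), d • R = t • R := by
    intro d hd
    let f : ↥(P : Subgroup G) → Sylow 2 G := fun t => (t : G) • R
    have hf : Function.Injective f := fun a b e => Subtype.ext (inv_mul_eq_one.1 (free h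
      (Subgroup.mul_mem _ (Subgroup.inv_mem _ b.2) a.2)
      (show ((b : G)⁻¹ * a) • R = R by rw [mul_smul]; exact inv_smul_eq_iff.2 e) hRP.symm)).symm
    set N := Subgroup.normalizer ((P : Subgroup G) : Set G)
    set D' := pair P R
    have hmul : Function.Bijective (fun x : ↥(P : Subgroup G) × ↥D' =>
        (⟨(x.1 : G) * x.2, N.mul_mem (Subgroup.le_normalizer x.1.2) (Subgroup.mem_inf.1 x.2.2).1⟩ : ↥N)) := by
      refine (Nat.bijective_iff_injective_and_card _).2 ⟨?_, ?_⟩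
      · rintro ⟨a, b⟩ ⟨a', b'⟩ e
        have e' : (a : G) * b = a' * b' := congrArg Subtype.val e
        have h1 : (a' : G)⁻¹ * a = b' * (b : G)⁻¹ := by
          rw [eq_mul_inv_iff_mul_eq, mul_assoc, e', inv_mul_cancel_left]
        have h2 := pair_inf h hRP.symm (Subgroup.mul_mem _ (Subgroup.inv_mem _ a'.2) a.2)
          (h1 ▸ Subgroup.mul_mem _ b'.2 (Subgroup.inv_mem _ b.2))
        have e1 : a = a' := Subtype.ext (inv_mul_eq_one.1 h2).symm
        subst e1
        exact Prod.ext rfl (Subtype.ext (mul_left_cancel e'))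
      · rw [Nat.card_prod, (pair_swap h hRP.symm).1, card_normalizer h P]
    obtain ⟨⟨a, b⟩, hab⟩ := hmul.2 ⟨d, (Subgroup.mem_inf.1 hd).1⟩
    have hab' : (a : G) * b = d := congrArg Subtype.val hab
    exact ⟨a, a.2, by rw [← hab', mul_smul, (mem_pair.1 b.2).2]⟩
  obtain ⟨y, hy, hy'⟩ := horb d₀ hd₀
  -- solve for the fixed point of `d₀`
  let φ : ↥(P : Subgroup G) → ↥(P : Subgroup G) := fun x =>
    ⟨(x : G)⁻¹ * (d₀ * x * d₀⁻¹), Subgroup.mul_mem _ (Subgroup.inv_mem _ x.2) (hPd d₀ hd₀ _ x.2)⟩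
  have hφ : Function.Injective φ := fun a b e => by
    have e' : (a : G)⁻¹ * (d₀ * a * d₀⁻¹) = (b : G)⁻¹ * (d₀ * b * d₀⁻¹) := congrArg Subtype.val e
    have hc : (b : G) * (a : G)⁻¹ = d₀ * ((b : G) * (a : G)⁻¹) * d₀⁻¹ := by
      calc (b : G) * (a : G)⁻¹ = (b : G) * ((a : G)⁻¹ * (d₀ * a * d₀⁻¹)) * (d₀ * a * d₀⁻¹)⁻¹ := by group
        _ = d₀ * ((b : G) * (a : G)⁻¹) * d₀⁻¹ := by rw [e']; group
    have h1 := fix_point h hne hd₀ hd₀1 (Subgroup.mul_mem _ b.2 (Subgroup.inv_mem _ a.2)) (by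
      conv_rhs => rw [hc, mul_smul, mul_smul, show d₀⁻¹ • Q = Q by rw [inv_smul_eq_iff, (mem_pair.1 hd₀).2]])
    exact Subtype.ext (mul_inv_eq_one.1 h1).symm
  obtain ⟨x, hx⟩ := (Finite.injective_iff_surjective.1 hφ) ⟨y⁻¹, Subgroup.inv_mem _ hy⟩
  have hxe : (x : G)⁻¹ * (d₀ * x * d₀⁻¹) = y⁻¹ := congrArg Subtype.val hx
  have hfix : d₀ • ((x : G) • R) = (x : G) • R := by
    calc d₀ • ((x : G) • R) = (d₀ * x * d₀⁻¹) • (d₀ • R) := by rw [← mul_smul, ← mul_smul, inv_mul_cancel_right]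
      _ = ((x : G) * ((x : G)⁻¹ * (d₀ * x * d₀⁻¹)) * y) • R := by rw [hy', ← mul_smul, mul_inv_cancel_left]
      _ = (x : G) • R := by rw [hxe, inv_mul_cancel_right]
  refine ⟨(x : G) • R, ⟨x, x.2, rfl⟩, fun d hd => ?_⟩
  obtain ⟨t, ht, hte⟩ := horb d hd
  have hxP : (d * (x : G) * d⁻¹) * t ∈ (P : Subgroup G) := Subgroup.mul_mem _ (hPd d hd _ x.2) ht
  have hdx : d • ((x : G) • R) = ((d * (x : G) * d⁻¹) * t) • R := by
    rw [mul_smul _ t, ← hte, ← mul_smul, ← mul_smul, inv_mul_cancel_right]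
  set w := (d * (x : G) * d⁻¹) * t * (x : G)⁻¹ with hw
  have hwR : w • ((x : G) • R) = d • ((x : G) • R) := by
    rw [hdx, hw, ← mul_smul, inv_mul_cancel_right]
  have hne' : P ≠ (x : G) • R := fun e => hRP (by
    have h1 : (x : G)⁻¹ • P = R := (congrArg ((x : G)⁻¹ • ·) e).trans (inv_smul_smul _ _)
    rw [← h1, (stab_iff P _).2 (Subgroup.le_normalizer (Subgroup.inv_mem _ x.2))])
  have hw1 : w = 1 := fix_point h hne'
    (Subgroup.mem_inf.2 ⟨(Subgroup.mem_inf.1 hd₀).1, (stab_iff _ _).1 hfix⟩) hd₀1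
    (Subgroup.mul_mem _ hxP (Subgroup.inv_mem _ x.2)) (by
      rw [hwR, ← mul_smul d₀ d, pair_comm h hne d₀ hd₀ d hd, mul_smul, hfix])
  rw [hw1, one_smul] at hwR
  exact hwR.symm

/-- A Sylow 2-subgroup acts regularly on the others. -/
theorem orbit_all (h : Hyp T) {P Q : Sylow 2 G} (hne : P ≠ Q) (R : Sylow 2 G) (hRP : R ≠ P) :
    ∃ t ∈ (P : Subgroup G), t • Q = R := by
  classical
  haveI : Fact (Nat.Prime 2) := ⟨Nat.prime_two⟩
  by_contra hcon
  obtain ⟨R', ⟨t, ht, htR⟩, hR'⟩ := commutes_normalizes h hne R hRP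
  have hR'Q : R' ≠ Q := fun e => hcon ⟨t⁻¹, Subgroup.inv_mem _ ht, by rw [← e, ← htR, inv_smul_smul]⟩
  have hR'P : R' ≠ P := fun e => hRP (by
    have h1 : t⁻¹ • P = R := by rw [← e, ← htR, inv_smul_smul]
    rw [← h1, (stab_iff P _).2 (Subgroup.le_normalizer (Subgroup.inv_mem _ ht))])
  set D := pair P Q with hD
  set F := {S : Sylow 2 G // ∀ d ∈ D, d • S = S}
  have hFpair : ∀ {A B : Sylow 2 G}, (∀ d ∈ D, d • A = A) → (∀ d ∈ D, d • B = B) → A ≠ B → pair A B = D := by
    intro A B hA hB hAB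
    refine (Subgroup.eq_of_le_of_card_ge (fun d hd => mem_pair.2 ⟨hA d hd, hB d hd⟩) ?_).symm
    rw [(pair_swap h hAB).1, (pair_swap h hne).1, A.card_eq_multiplicity, P.card_eq_multiplicity]
  have hPF : ∀ d ∈ D, d • P = P := fun d hd => (mem_pair.1 hd).1
  have hQF : ∀ d ∈ D, d • Q = Q := fun d hd => (mem_pair.1 hd).2
  -- an involution without fixed points
  obtain ⟨-, ⟨u, hu, huQ⟩, hinv⟩ := pair_swap h hne
  have hu1 : u ≠ 1 := fun e => hne (by rw [← huQ, e, one_smul])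
  have huF : ∀ S : Sylow 2 G, (∀ d ∈ D, d • S = S) → ∀ d ∈ D, d • (u • S) = u • S := by
    intro S hS d hd
    have e := hinv u hu huQ d⁻¹ (D.inv_mem hd)
    rw [inv_inv] at e
    rw [← e, ← mul_smul, inv_mul_cancel_right, mul_smul, hS _ (D.inv_mem hd)]
  let σ : F → F := fun S => ⟨u • S.1, huF S.1 S.2⟩
  have hσ : Function.Involutive σ := fun S => Subtype.ext (show u • (u • S.1) = S.1 by rw [← mul_smul, hu, one_smul])
  have hnofix : ∀ S : F, σ S ≠ S := by
    intro S e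
    have e' : u • S.1 = S.1 := congrArg Subtype.val e
    have huS : u ∈ (S.1 : Subgroup G) := mem_of_fix hu e'
    obtain ⟨d, hd, hd1⟩ := pair_ne_bot h hne
    have h1 : d * u * d⁻¹ * u⁻¹ ∈ (S.1 : Subgroup G) := Subgroup.mul_mem _
      ((Subgroup.mem_normalizer_iff.1 ((stab_iff S.1 d).1 (S.2 d hd)) u).1 huS) (Subgroup.inv_mem _ huS)
    have h2 : d * u * d⁻¹ * u⁻¹ = d * d := by
      rw [mul_assoc d, mul_assoc d, hinv u hu huQ d⁻¹ (D.inv_mem hd), inv_inv]
    rw [h2] at h1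
    have h2D : (d * d) * (d * d) = 1 := sq_one h S.1 h1
    have h3 : d * d = 1 := pair_no_invol h hne h2D (D.mul_mem hd hd)
    exact hd1 (pair_no_invol h hne h3 hd)
  have heven : Even (Nat.card F) := by
    haveI := Fintype.ofFinite F
    rw [Nat.card_eq_fintype_card, ← Finset.card_univ]
    have hz : ((Finset.univ : Finset F).card : ZMod 2) = 0 := by
      rw [Finset.card_eq_sum_ones, Nat.cast_sum, Nat.cast_one]
      exact Finset.sum_involution (fun S _ => σ S) (fun _ _ => CharTwo.add_self_eq_zero 1) (fun S _ _ => hnofix S)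
        (fun S _ => Finset.mem_univ _) (fun S _ => hσ S)
    exact ZMod.natCast_eq_zero_iff_even.1 hz
  -- transitive odd centralizer
  set C := Subgroup.centralizer (D : Set G) with hC
  have hCodd : Odd (Nat.card ↥C) := by
    rw [← Nat.not_even_iff_odd, even_iff_two_dvd]
    intro h2
    obtain ⟨s, hs⟩ := exists_prime_orderOf_dvd_card' (G := ↥C) 2 h2
    obtain ⟨d, hd, hd1⟩ := pair_ne_bot h hne
    have hs' : orderOf (s : G) = 2 := by rw [Subgroup.orderOf_coe, hs]
    have hdC : d ∈ Subgroup.centralizer ({(s : G)} : Set G) :=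
      Subgroup.mem_centralizer_singleton_iff.2 (Subgroup.mem_centralizer_iff.1 s.2 d hd)
    exact hd1 (pair_no_invol h hne (by rw [← sq]; exact h.sq _ hs' d hdC) hd)
  have hCF : ∀ c ∈ C, ∀ S : Sylow 2 G, (∀ d ∈ D, d • S = S) → ∀ d ∈ D, d • (c • S) = c • S := by
    intro c hc S hS d hd
    rw [← mul_smul, Subgroup.mem_centralizer_iff.1 hc d hd, mul_smul, hS d hd]
  letI : MulAction ↥C F :=
    { smul := fun c S => ⟨(c : G) • S.1, hCF c c.2 S.1 S.2⟩
      one_smul := fun S => Subtype.ext (one_smul G S.1)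
      mul_smul := fun a b S => Subtype.ext (mul_smul (a : G) b S.1) }
  have htrans : ∀ A B : F, A ≠ B → ∃ c : ↥C, c • A = B := by
    intro A B hAB
    have hAB' : A.1 ≠ B.1 := fun e => hAB (Subtype.ext e)
    obtain ⟨S, hS, hSA, hSB⟩ : ∃ S : Sylow 2 G, (∀ d ∈ D, d • S = S) ∧ S ≠ A.1 ∧ S ≠ B.1 := by
      by_cases hP1 : P = A.1 ∨ P = B.1
      · by_cases hQ1 : Q = A.1 ∨ Q = B.1
        · refine ⟨R', hR', ?_, ?_⟩
          · rintro rfl
            rcases hP1 with e | e <;> rcases hQ1 with e' | e'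
            · exact hne (e.trans e'.symm)
            · exact hR'P e.symm
            · exact hR'Q e'.symm
            · exact hne (e.trans e'.symm)
          · rintro rfl
            rcases hP1 with e | e <;> rcases hQ1 with e' | e'
            · exact hne (e.trans e'.symm)
            · exact hR'Q e'.symm
            · exact hR'P e.symm
            · exact hne (e.trans e'.symm)
        · push Not at hQ1
          exact ⟨Q, hQF, hQ1.1, hQ1.2⟩
      · push Not at hP1
        exact ⟨P, hPF, hP1.1, hP1.2⟩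
    obtain ⟨-, ⟨v, hv, hvS⟩, hvinv⟩ := pair_swap h (Ne.symm hSA)
    obtain ⟨-, ⟨w, hw, hwB⟩, hwinv⟩ := pair_swap h hSB
    have hvi := hvinv v hv hvS
    have hwi := hwinv w hw hwB
    rw [hFpair A.2 hS (Ne.symm hSA)] at hvi
    rw [hFpair hS B.2 hSB] at hwi
    have hc : w * v ∈ C := by
      rw [hC, Subgroup.mem_centralizer_iff]
      intro d hd
      have e : (w * v) * d * (w * v)⁻¹ = d := by
        calc (w * v) * d * (w * v)⁻¹ = w * (v * d * v⁻¹) * w⁻¹ := by group
          _ = d := by rw [hvi d hd, hwi d⁻¹ (D.inv_mem hd), inv_inv]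
      exact (mul_inv_eq_iff_eq_mul.1 e).symm
    exact ⟨⟨w * v, hc⟩, Subtype.ext (show (w * v) • A.1 = B.1 by rw [mul_smul, hvS, hwB])⟩
  have hodd : Odd (Nat.card F) := by
    haveI : MulAction.IsPretransitive ↥C F := ⟨fun A B => by
      by_cases e : A = B
      · exact ⟨1, by rw [e, one_smul]⟩
      · exact htrans A B e⟩
    have hdvd : Nat.card F ∣ Nat.card ↥C := by
      rw [← MulAction.index_stabilizer_of_transitive ↥C (⟨P, hPF⟩ : F)]
      exact Subgroup.index_dvd_card _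
    exact hCodd.of_dvd_nat hdvd
  exact Nat.not_even_iff_odd.2 hodd heven

theorem card_sylow (h : Hyp T) : Nat.card (Sylow 2 G) = Nat.card ↥(T : Subgroup G) + 1 := by
  classical
  haveI := Fintype.ofFinite (Sylow 2 G)
  obtain ⟨Q, hQ⟩ := exists_other h T
  let f : Option ↥(T : Subgroup G) → Sylow 2 G := fun o => o.elim T fun t => (t : G) • Q
  have hfT : ∀ t : ↥(T : Subgroup G), (t : G) • Q ≠ T := fun t e => hQ (by
    have h1 : Q = (t : G)⁻¹ • T := (inv_smul_smul _ _).symm.trans (congrArg ((t : G)⁻¹ • ·) e)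
    rw [h1, (stab_iff T _).2 (Subgroup.le_normalizer (Subgroup.inv_mem _ t.2))])
  have hf : Function.Bijective f := by
    refine ⟨?_, fun R => ?_⟩
    · rintro (_ | a) (_ | b) e
      · rfl
      · exact absurd e.symm (hfT b)
      · exact absurd e (hfT a)
      · exact congrArg some (Subtype.ext (inv_mul_eq_one.1 (free h (Subgroup.mul_mem _ (Subgroup.inv_mem _ b.2) a.2)
          (show ((b : G)⁻¹ * a) • Q = Q by rw [mul_smul]; exact inv_smul_eq_iff.2 e) hQ.symm)).symm)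
    · by_cases hR : R = T
      · exact ⟨none, hR.symm⟩
      · obtain ⟨t, ht, e⟩ := orbit_all h hQ.symm R hR
        exact ⟨some ⟨t, ht⟩, e⟩
  rw [← Nat.card_congr (Equiv.ofBijective f hf), Finite.card_option]

theorem triple_trivial (h : Hyp T) {A B C : Sylow 2 G} (hAB : A ≠ B) (hAC : A ≠ C) (hBC : B ≠ C) {g : G}
    (hA : g • A = A) (hB : g • B = B) (hC : g • C = C) : g = 1 := by
  by_contra hg
  obtain ⟨t, ht, rfl⟩ := orbit_all h hAB C hAC.symm
  have := fix_point h hAB (mem_pair.2 ⟨hA, hB⟩) hg ht hC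
  exact hBC (by rw [this, one_smul])

theorem conclusion (h : Hyp T) : ∃ (F : Type) (_ : Field F) (_ : Fintype F),
    Fintype.card F = Nat.card ↥(T : Subgroup G) ∧ Nonempty (G ≃* Matrix.ProjectiveSpecialLinearGroup (Fin 2) F) := by
  classical
  haveI : Fact (Nat.Prime 2) := ⟨Nat.prime_two⟩
  haveI := Fintype.ofFinite (Sylow 2 G)
  obtain ⟨f, hf⟩ := IsPGroup.iff_card.1 T.2
  have hq := q_ge h T
  have hf1 : 1 ≤ f := by
    by_contra h0
    interval_cases f
    rw [hf] at hq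
    norm_num at hq
  have hcardS := card_sylow h
  have hα : Fintype.card (Sylow 2 G) = 2 ^ f + 1 := by rw [← Nat.card_eq_fintype_card, hcardS, hf]
  set ρ := MulAction.toPermHom G (Sylow 2 G) with hρ
  have hne3 : ∀ x : Fin 3 ↪ Sylow 2 G, x 0 ≠ x 1 ∧ x 0 ≠ x 2 ∧ x 1 ≠ x 2 := fun x =>
    ⟨x.injective.ne (by decide), x.injective.ne (by decide), x.injective.ne (by decide)⟩
  have hρinj : Function.Injective ρ := by
    refine (injective_iff_map_eq_one ρ).2 fun g hg => ?_
    have hfix : ∀ P : Sylow 2 G, g • P = P := fun P => DFunLike.congr_fun hg P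
    obtain ⟨x⟩ : Nonempty (Fin 3 ↪ Sylow 2 G) := Function.Embedding.nonempty_of_card_le (by
      rw [Fintype.card_fin, hα, ← hf]; omega)
    exact triple_trivial h (hne3 x).1 (hne3 x).2.1 (hne3 x).2.2 (hfix _) (hfix _) (hfix _)
  let e : G ≃* ↥ρ.range := MonoidHom.ofInjective hρinj
  have hsharp : ∀ x : Fin 3 ↪ Sylow 2 G, MulAction.stabilizer ↥ρ.range x = ⊥ := by
    intro x
    refine (Subgroup.eq_bot_iff_forall _).2 fun π hπ => ?_
    obtain ⟨_, g, rfl⟩ := π
    have hx : ∀ i, g • x i = x i := fun i => DFunLike.congr_fun (MulAction.mem_stabilizer_iff.1 hπ) i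
    refine Subtype.ext ?_
    show ρ g = 1
    rw [triple_trivial h (hne3 x).1 (hne3 x).2.1 (hne3 x).2.2 (hx _) (hx _) (hx _), map_one]
  have h3 : MulAction.IsMultiplyPretransitive ↥ρ.range (Sylow 2 G) 3 := by
    refine ⟨fun x y => ?_⟩
    have hG : Nat.card G = Nat.card (Fin 3 ↪ Sylow 2 G) := by
      haveI := Fintype.ofFinite G
      rw [Nat.card_eq_fintype_card (α := Fin 3 ↪ Sylow 2 G), Fintype.card_embedding_eq, Fintype.card_fin, hα,
        ← Subgroup.card_mul_index (Subgroup.normalizer ((T : Subgroup G) : Set G)),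
        show (Subgroup.normalizer ((T : Subgroup G) : Set G)).index = Nat.card (Sylow 2 G) from (Sylow.card_eq_index_normalizer T).symm,
        card_normalizer h T, hcardS, hf]
      obtain ⟨r, hr⟩ : ∃ r, 2 ^ f = r + 2 := ⟨2 ^ f - 2, by rw [hf] at hq; omega⟩
      rw [hr]
      simp only [Nat.descFactorial_succ, Nat.descFactorial_zero, mul_one, Nat.sub_zero, Nat.add_sub_cancel]
      rw [show r + 2 + 1 - 2 = r + 1 by omega, show r + 2 - 1 = r + 1 by omega]
      ring
    have hbij : Function.Bijective (fun π : ↥ρ.range => π • x) := by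
      refine (Nat.bijective_iff_injective_and_card _).2 ⟨fun a b e' => ?_, ?_⟩
      · have hmem : b⁻¹ * a ∈ MulAction.stabilizer ↥ρ.range x := by
          rw [MulAction.mem_stabilizer_iff, mul_smul]
          exact inv_smul_eq_iff.2 e'
        rw [hsharp, Subgroup.mem_bot] at hmem
        exact (inv_mul_eq_one.1 hmem).symm
      · rw [← hG, Nat.card_congr e.toEquiv]
    exact hbij.2 y
  obtain ⟨F, iF, iFF, hF, ⟨e'⟩⟩ := Block.Zas.sharp_two_pow hf1 hα ρ.range h3 hsharp
  obtain ⟨e''⟩ := Block.SmallPSL.pgl_iso_psl hf1 hF hF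
  exact ⟨F, iF, iFF, hF.trans hf.symm, ⟨e.trans (e'.trans e'')⟩⟩

end Cfsg.Agent.Invol.ElemCent
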