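import Mathlib
import Cfsg.Prelude.Def_CaseTheorems
import Cfsg.Agent.Lib.Grp.Cores
import Cfsg.Agent.Lib.Grp.Components
import Cfsg.Agent.Lib.Grp.CoprimeAbelian
import Cfsg.Agent.Lib.Grp.Signalizer

/-!
An elementary abelian 2-group of order at least 8 whose elements have centralisers without components,
one of them of even characteristic: the odd cores generate an abelian group of odd order.
-/

set_option autoImplicit false

namespace Cfsg.Agent.Invol.EvenCore

open Subgroup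

variable {X : Type*} [Group X] [Finite X]

/-- `O(C(y))`, as a subgroup of `X`. -/
abbrev coreC (y : X) : Subgroup X :=
  (Cfsg.oddCore ↥(centralizer ({y} : Set X))).map (centralizer ({y} : Set X)).subtype

theorem coprime_coreC (y : X) : (Nat.card ↥(coreC y)).Coprime 2 := by
  rw [coreC, card_map_of_injective (subtype_injective _)]
  exact Grp.pPrimeCore_coprime

omit [Finite X] in
theorem coreC_le (y : X) : coreC y ≤ centralizer ({y} : Set X) := map_subtype_le _

omit [Finite X] in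
theorem conj_mem_coreC {y c a : X} (hc : c ∈ centralizer ({y} : Set X)) (ha : a ∈ coreC y) :
    c * a * c⁻¹ ∈ coreC y := by
  obtain ⟨a, ha, rfl⟩ := ha
  exact ⟨⟨c, hc⟩ * a * ⟨c, hc⟩⁻¹, Grp.pPrimeCore_isNormal.conj_mem a ha ⟨c, hc⟩, rfl⟩

omit [Finite X] in
theorem centralizer_le_normalizer (y : X) : centralizer ({y} : Set X) ≤ normalizer (coreC y : Set X) :=
  Grp.invariant_iff.1 fun _ hc _ ha => conj_mem_coreC hc ha

omit [Finite X] in
theorem inf_eq_bot_of_two {Q P : Subgroup X} (hQ : IsPGroup 2 Q) (hP : (Nat.card P).Coprime 2) :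
    P ⊓ Q = ⊥ := by
  rw [eq_bot_iff]
  intro x hx
  obtain ⟨hxP, hxQ⟩ := mem_inf.1 hx
  obtain ⟨k, hk⟩ := IsPGroup.iff_orderOf.1 hQ ⟨x, hxQ⟩
  rw [Subgroup.orderOf_mk] at hk
  have h1 := orderOf_dvd_natCard P hxP
  rw [hk] at h1
  exact mem_bot.2 (orderOf_eq_one_iff.1 (hk.trans (Nat.eq_one_of_dvd_coprimes (hP.symm.pow_left k) dvd_rfl h1)))

/-- An odd-order subgroup commuting with a 2-element `t` and normalised by the fixed points of `t` on a
2-group centralises that 2-group. -/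
theorem centralizes_two {Q P : Subgroup X} (hQ : IsPGroup 2 Q) (hP : (Nat.card P).Coprime 2) {t : X}
    (ht : t ^ 2 = 1) (htQ : t ∈ normalizer (Q : Set X)) (hPQ : P ≤ normalizer (Q : Set X))
    (hPt : ∀ a ∈ P, Commute t a)
    (hfix : Q ⊓ centralizer ({t} : Set X) ≤ normalizer (P : Set X)) :
    P ≤ centralizer (Q : Set X) := by
  haveI : Fact (Nat.Prime 2) := ⟨Nat.prime_two⟩
  have hz : IsPGroup 2 (zpowers t) := by
    rintro ⟨_, k, rfl⟩
    refine ⟨1, Subtype.ext ?_⟩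
    push_cast
    rw [← zpow_natCast, ← zpow_mul, mul_comm, zpow_mul, zpow_natCast]
    simp [ht]
  refine Grp.thompson_PQ (zpowers t) P hz hP
    (zpowers_le.2 (mem_centralizer_iff.2 fun a ha => (hPt a ha).eq.symm)) Q hQ (zpowers_le.2 htQ) hPQ ?_
  intro q hq
  rw [← Grp.centralizer_singleton_eq_zpowers] at hq
  obtain ⟨hqQ, hqC⟩ := mem_inf.1 hq
  refine mem_centralizer_iff.2 fun a ha => ?_
  have h1 : a * q * a⁻¹ * q⁻¹ ∈ P ⊓ Q := by
    refine mem_inf.2 ⟨?_, Q.mul_mem ((mem_normalizer_iff.1 (hPQ ha) q).1 hqQ) (Q.inv_mem hqQ)⟩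
    rw [show a * q * a⁻¹ * q⁻¹ = a * (q * a⁻¹ * q⁻¹) by group]
    exact P.mul_mem ha ((mem_normalizer_iff.1 (hfix (mem_inf.2 ⟨hqQ, hqC⟩)) _).1 (P.inv_mem ha))
  rw [inf_eq_bot_of_two hQ hP, mem_bot] at h1
  calc a * q = (a * q * a⁻¹ * q⁻¹) * q * a := by group
    _ = q * a := by rw [h1, one_mul]

variable {Y : Subgroup X}

/-- The hypotheses on `Y` and `z`. -/
structure Setup (Y : Subgroup X) (z : X) : Prop where
  ea : Cfsg.IsElementaryAbelian 2 Y
  card : 8 ≤ Nat.card Y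
  lay : ∀ x ∈ Y, x ≠ 1 → Cfsg.layer ↥(centralizer ({x} : Set X)) = ⊥
  mem : z ∈ Y
  char : Cfsg.generalizedFittingSubgroup ↥(centralizer ({z} : Set X)) =
    Cfsg.pCore 2 ↥(centralizer ({z} : Set X))

variable {z : X}

omit [Finite X] in
theorem Setup.comm (h : Setup Y z) {a b : X} (ha : a ∈ Y) (hb : b ∈ Y) : a * b = b * a :=
  congrArg Subtype.val (h.ea.1.is_comm.comm (⟨a, ha⟩ : Y) ⟨b, hb⟩)

omit [Finite X] in
theorem Setup.sq (h : Setup Y z) {a : X} (ha : a ∈ Y) : a ^ 2 = 1 := h.ea.2 a ha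

omit [Finite X] in
theorem Setup.mem_cent (h : Setup Y z) {a b : X} (ha : a ∈ Y) (hb : b ∈ Y) :
    a ∈ centralizer ({b} : Set X) := mem_centralizer_singleton_iff.2 (h.comm ha hb)

/-- `C(z) ∩ C(x)` has no normal subgroup of odd order. -/
theorem eq_bot_of_normalized (h : Setup Y z) {x : X} (hx : x ∈ Y) {P : Subgroup X}
    (hP : (Nat.card P).Coprime 2) (hPz : P ≤ centralizer ({z} : Set X)) (hPx : ∀ a ∈ P, Commute x a)
    (hn : centralizer ({z} : Set X) ⊓ centralizer ({x} : Set X) ≤ normalizer (P : Set X)) : P = ⊥ := by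
  set C := centralizer ({z} : Set X) with hC
  set Q := (Cfsg.pCore 2 ↥C).map C.subtype with hQ
  have hQp : IsPGroup 2 Q := Grp.pCore_isPGroup.map _
  have hCQ : C ≤ normalizer (Q : Set X) := Grp.invariant_iff.1 fun c hc a ha => by
    obtain ⟨a, ha, rfl⟩ := ha
    exact ⟨⟨c, hc⟩ * a * ⟨c, hc⟩⁻¹, Grp.pCore_isNormal.conj_mem a ha ⟨c, hc⟩, rfl⟩
  have hc := centralizes_two hQp hP (h.sq hx) (hCQ (h.mem_cent hx h.mem)) (hPz.trans hCQ) hPx
    ((inf_le_inf_right _ (map_subtype_le _)).trans hn)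
  rw [eq_bot_iff, ← inf_eq_bot_of_two hQp hP]
  refine fun a ha => mem_inf.2 ⟨ha, ?_⟩
  have hF : (⟨a, hPz ha⟩ : ↥C) ∈ centralizer (Cfsg.generalizedFittingSubgroup ↥C : Set ↥C) := by
    rw [h.char]
    exact mem_centralizer_iff.2 fun q hq => Subtype.ext (mem_centralizer_iff.1 (hc ha) (q : X) ⟨q, hq, rfl⟩)
  have := Grp.centralizer_gfitting_le hF
  rw [h.char] at this
  exact ⟨_, this, rfl⟩

/-- `z` inverts `O(C(x))`. -/
theorem inverts (h : Setup Y z) {x : X} (hx : x ∈ Y) : ∀ a ∈ coreC x, z * a * z⁻¹ = a⁻¹ := by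
  have hb : coreC x ⊓ centralizer ({z} : Set X) = ⊥ := by
    refine eq_bot_of_normalized h hx ((coprime_coreC x).coprime_dvd_left (card_dvd_of_le inf_le_left))
      inf_le_right (fun a ha => ?_) (Grp.le_normalizer_inf' (inf_le_right.trans (centralizer_le_normalizer x))
        (inf_le_left.trans le_normalizer))
    exact (mem_centralizer_singleton_iff.1 (coreC_le x (mem_inf.1 ha).1)).symm
  intro a ha
  have hzz : z * z = 1 := by rw [← sq]; exact h.sq h.mem
  have hn : ∀ b ∈ coreC x, z * b * z⁻¹ ∈ coreC x := fun b hb =>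
    conj_mem_coreC (h.mem_cent h.mem hx) hb
  let φ : ↥(coreC x) →* ↥(coreC x) :=
    { toFun := fun b => ⟨z * b * z⁻¹, hn b b.2⟩
      map_one' := Subtype.ext (by simp)
      map_mul' := fun b c => Subtype.ext (by simp [mul_assoc]) }
  have hfp : MonoidHom.FixedPointFree φ := fun b hb' => by
    have e : z * (b : X) * z⁻¹ = b := congrArg Subtype.val hb'
    have : (b : X) ∈ coreC x ⊓ centralizer ({z} : Set X) := mem_inf.2 ⟨b.2,
      mem_centralizer_singleton_iff.2 (mul_inv_eq_iff_eq_mul.1 e).symm⟩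
    rw [hb, mem_bot] at this
    exact Subtype.ext this
  have hinv : Function.Involutive φ := fun b => Subtype.ext (by
    show z * (z * (b : X) * z⁻¹) * z⁻¹ = b
    rw [inv_eq_of_mul_eq_one_right hzz, show z * (z * (b : X) * z) * z = (z * z) * b * (z * z) by group, hzz,
      one_mul, mul_one])
  exact congrArg Subtype.val (congrFun (hfp.coe_eq_inv_of_involutive hinv) ⟨a, ha⟩)

theorem coreC_comm (h : Setup Y z) {x : X} (hx : x ∈ Y) {a b : X} (ha : a ∈ coreC x) (hb : b ∈ coreC x) :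
    Commute a b := by
  have e := inverts h hx _ (mul_mem ha hb)
  rw [show z * (a * b) * z⁻¹ = (z * a * z⁻¹) * (z * b * z⁻¹) by group, inverts h hx a ha, inverts h hx b hb,
    mul_inv_rev] at e
  exact (Commute.inv_inv_iff).1 e

/-- A balance property. -/
theorem balance (h : Setup Y z) {x y : X} (hx : x ∈ Y) (hx1 : x ≠ 1) (hy : y ∈ Y) :
    coreC y ⊓ centralizer ({x} : Set X) ≤ coreC x := by
  set D := coreC y ⊓ centralizer ({x} : Set X) with hD
  have hDodd : (Nat.card D).Coprime 2 := (coprime_coreC y).coprime_dvd_left (card_dvd_of_le inf_le_left)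
  set C := centralizer ({x} : Set X) with hC
  set Q := (Cfsg.pCore 2 ↥C).map C.subtype with hQ
  have hQp : IsPGroup 2 Q := Grp.pCore_isPGroup.map _
  have hCQ : C ≤ normalizer (Q : Set X) := Grp.invariant_iff.1 fun c hc a ha => by
    obtain ⟨a, ha, rfl⟩ := ha
    exact ⟨⟨c, hc⟩ * a * ⟨c, hc⟩⁻¹, Grp.pCore_isNormal.conj_mem a ha ⟨c, hc⟩, rfl⟩
  have hDy : ∀ a ∈ D, Commute y a := fun a ha =>
    (mem_centralizer_singleton_iff.1 (coreC_le y (mem_inf.1 ha).1)).symm
  have hDQ := centralizes_two hQp hDodd (h.sq hy) (hCQ (h.mem_cent hy hx)) (inf_le_right.trans hCQ) hDy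
    (Grp.le_normalizer_inf' (inf_le_right.trans (centralizer_le_normalizer y))
      (inf_le_left.trans ((map_subtype_le _).trans le_normalizer)))
  intro d hd
  obtain ⟨hdy, hdx⟩ := mem_inf.1 hd
  have hodd : Odd (orderOf d) := by
    rw [← Nat.coprime_two_right]
    exact hDodd.coprime_dvd_left (orderOf_dvd_natCard D hd)
  have hdO : ∀ a ∈ coreC x, d * a = a * d := by
    intro a ha
    have h1 := inverts h hx _ (conj_mem_coreC hdx ha)
    rw [show z * (d * a * d⁻¹) * z⁻¹ = (z * d * z⁻¹) * (z * a * z⁻¹) * (z * d * z⁻¹)⁻¹ by group,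
      inverts h hy d hdy, inverts h hx a ha] at h1
    have h1' := inv_inj.2 h1
    simp only [mul_inv_rev, inv_inv] at h1'
    have hc2 : Commute (d ^ 2) a := by
      show d ^ 2 * a = a * d ^ 2
      calc d ^ 2 * a = d * (d * a * d⁻¹) * d := by rw [sq]; group
        _ = d * (d⁻¹ * a * d) * d := by rw [← h1']; group
        _ = a * d ^ 2 := by rw [sq]; group
    obtain ⟨k, hk⟩ := hodd
    have hd2 : d = (d ^ 2) ^ (k + 1) := by
      rw [← pow_mul, show 2 * (k + 1) = orderOf d + 1 by omega, pow_succ, pow_orderOf_eq_one, one_mul]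
    rw [hd2]
    exact (hc2.pow_left (k + 1)).eq
  set d' : ↥C := ⟨d, hdx⟩ with hd'
  have hF : Cfsg.fittingSubgroup ↥C ≤ Cfsg.pCore 2 ↥C ⊔ Cfsg.oddCore ↥C := by
    rw [Grp.fittingSubgroup_eq_iSup_pCore]
    refine iSup_le fun q => ?_
    by_cases hq : (q : ℕ) = 2
    · rw [hq]; exact le_sup_left
    · refine le_trans (Grp.le_pPrimeCore Grp.pCore_isNormal ?_) le_sup_right
      haveI := Fact.mk q.2
      obtain ⟨n, hn⟩ := IsPGroup.iff_card.1 (Grp.pCore_isPGroup (p := (q : ℕ)) (G := ↥C))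
      rw [hn]
      exact ((Nat.coprime_primes q.2 Nat.prime_two).2 hq).pow_left n
  have hdF : d' ∈ Cfsg.fittingSubgroup ↥C := by
    refine Grp.centralizer_fitting_le_of_layer_eq_bot (h.lay x hx hx1) ?_
    refine centralizer_le (SetLike.coe_subset_coe.2 hF) ?_
    rw [sup_eq_closure, centralizer_closure]
    refine mem_centralizer_iff.2 ?_
    rintro q (hq | hq)
    · exact Subtype.ext (mem_centralizer_iff.1 (hDQ hd) (q : X) ⟨q, hq, rfl⟩)
    · exact Subtype.ext (hdO (q : X) ⟨q, hq, rfl⟩).symm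
  haveI := Grp.pCore_isNormal (p := 2) (G := ↥C)
  haveI := Grp.pPrimeCore_isNormal (p := 2) (G := ↥C)
  obtain ⟨u, hu, v, hv, huv⟩ := mem_sup_of_normal_right.1 (hF hdF)
  have hcomm : Commute u v := by
    have hcop : (Nat.card ↥(Cfsg.pCore 2 ↥C)).Coprime (Nat.card ↥(Cfsg.oddCore ↥C)) := by
      obtain ⟨n, hn⟩ := IsPGroup.iff_card.1 (Grp.pCore_isPGroup (p := 2) (G := ↥C))
      rw [hn]
      exact (Grp.pPrimeCore_coprime (p := 2) (G := ↥C)).symm.pow_left n
    exact (mem_centralizer_iff.1 (Grp.commute_of_coprime_normal hcop hu) v hv).symm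
  obtain ⟨n, hn⟩ := (Grp.pCore_isPGroup (p := 2) (G := ↥C)) ⟨u, hu⟩
  have hun : u ^ 2 ^ n = 1 := congrArg Subtype.val hn
  have hpow : d' ^ 2 ^ n ∈ Cfsg.oddCore ↥C := by
    rw [← huv, hcomm.mul_pow, hun, one_mul]
    exact pow_mem hv _
  have hcop : (orderOf d').Coprime (2 ^ n) := by
    rw [hd', Subgroup.orderOf_mk]
    exact (Nat.coprime_two_right.2 hodd).pow_right n
  obtain ⟨m, hm⟩ := exists_pow_eq_self_of_coprime hcop.symm
  exact ⟨d', hm ▸ pow_mem hpow m, rfl⟩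

theorem coreC_commute (h : Setup Y z) {y w : X} (hy : y ∈ Y) (hw : w ∈ Y) :
    coreC y ≤ centralizer (coreC w : Set X) := by
  haveI : Fact (Nat.Prime 2) := ⟨Nat.prime_two⟩
  have hY1 : Y ≠ ⊥ := fun e => by
    have := h.card; rw [e, card_bot] at this; omega
  have hnd : ∀ u : X, ¬ 2 ∣ Nat.card ↥(coreC u) := fun u =>
    Nat.prime_two.coprime_iff_not_dvd.1 (coprime_coreC u).symm
  have hinv : ∀ u ∈ Y, Y ≤ normalizer (coreC u : Set X) := fun u hu a ha =>
    centralizer_le_normalizer u (h.mem_cent ha hu)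
  refine Grp.le_of_hyperplanes h.ea hY1 _ (hnd y) (hinv y hy) fun D hD hDi => ?_
  rw [Subgroup.le_centralizer_iff]
  refine Grp.le_of_hyperplanes h.ea hY1 _ (hnd w) (hinv w hw) fun D' hD' hDi' => ?_
  obtain ⟨x, hxD, hx1⟩ : ∃ x ∈ D ⊓ D', x ≠ 1 := by
    refine (bot_or_exists_ne_one _).resolve_left fun e => ?_
    have h1 := Subgroup.relIndex_inf_le (H := D) (K := D') (L := Y)
    rw [e, relIndex_bot_left, hDi, hDi'] at h1
    have := h.card
    omega
  obtain ⟨hxD, hxD'⟩ := mem_inf.1 hxD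
  intro b hb
  refine mem_centralizer_iff.2 fun a ha => ?_
  obtain ⟨ha1, ha2⟩ := mem_inf.1 ha
  obtain ⟨hb1, hb2⟩ := mem_inf.1 hb
  exact (coreC_comm h (hD hxD)
    (balance h (hD hxD) hx1 hy (mem_inf.2 ⟨ha1, mem_centralizer_singleton_iff.2 (mem_centralizer_iff.1 ha2 x hxD).symm⟩))
    (balance h (hD hxD) hx1 hw (mem_inf.2 ⟨hb1, mem_centralizer_singleton_iff.2 (mem_centralizer_iff.1 hb2 x hxD').symm⟩))).eq

omit [Finite X] in
theorem orderOf_odd_closure {s : Set X} (hc : ∀ a ∈ s, ∀ b ∈ s, a * b = b * a)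
    (hodd : ∀ a ∈ s, Odd (orderOf a)) {x : X} (hx : x ∈ closure s) : Odd (orderOf x) := by
  have hA := isMulCommutative_closure hc
  induction hx using closure_induction with
  | mem a ha => exact hodd a ha
  | one => simp
  | mul a b ha hb h1 h2 =>
    have hab : Commute a b := congrArg Subtype.val (hA.is_comm.comm (⟨a, ha⟩ : closure s) ⟨b, hb⟩)
    exact (h1.mul h2).of_dvd_nat (hab.orderOf_mul_dvd_mul_orderOf)
  | inv a _ h1 => rwa [orderOf_inv]

theorem odd_iSup (h : Setup Y z) :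
    Odd (Nat.card ↥(⨆ y : {y : X // y ∈ Y ∧ y ≠ 1}, coreC (y : X))) := by
  rw [Subgroup.iSup_eq_closure]
  set s := ⋃ y : {y : X // y ∈ Y ∧ y ≠ 1}, (coreC (y : X) : Set X) with hs
  rw [← Nat.not_even_iff_odd, even_iff_two_dvd]
  intro h2
  haveI : Fact (Nat.Prime 2) := ⟨Nat.prime_two⟩
  obtain ⟨⟨g, hg⟩, hg2⟩ := exists_prime_orderOf_dvd_card' 2 h2
  rw [Subgroup.orderOf_mk] at hg2
  have := orderOf_odd_closure (s := s) ?_ ?_ hg
  · rw [hg2] at this
    exact absurd this (by decide)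
  · simp only [hs, Set.mem_iUnion, SetLike.mem_coe]
    rintro a ⟨y, ha⟩ b ⟨w, hb⟩
    exact (mem_centralizer_iff.1 (coreC_commute h y.2.1 w.2.1 ha) b hb).symm
  · simp only [hs, Set.mem_iUnion, SetLike.mem_coe]
    rintro a ⟨y, ha⟩
    exact Nat.coprime_two_right.1 ((coprime_coreC _).coprime_dvd_left (orderOf_dvd_natCard _ ha))

theorem map_coreC (n y : X) : (coreC y).map (MulAut.conj n).toMonoidHom ≤ coreC (n * y * n⁻¹) := by
  set C := centralizer ({n * y * n⁻¹} : Set X) with hC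
  have hle : (coreC y).map (MulAut.conj n).toMonoidHom ≤ C := by
    rintro _ ⟨a, ha, rfl⟩
    have e := mem_centralizer_singleton_iff.1 (coreC_le y ha)
    refine mem_centralizer_singleton_iff.2 ?_
    show n * a * n⁻¹ * (n * y * n⁻¹) = n * y * n⁻¹ * (n * a * n⁻¹)
    calc n * a * n⁻¹ * (n * y * n⁻¹) = n * (a * y) * n⁻¹ := by group
      _ = n * (y * a) * n⁻¹ := by rw [e]
      _ = _ := by group
  rw [coreC, ← map_subgroupOf_eq_of_le hle]
  refine map_mono (Grp.le_pPrimeCore ⟨fun a ha c => ?_⟩ ?_)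
  · rw [mem_subgroupOf] at ha ⊢
    obtain ⟨b, hb, hbe⟩ := ha
    have hbe' : n * b * n⁻¹ = (a : X) := hbe
    refine ⟨n⁻¹ * (c : X) * n * b * (n⁻¹ * (c : X) * n)⁻¹, conj_mem_coreC ?_ hb, ?_⟩
    · have e := mem_centralizer_singleton_iff.1 c.2
      refine mem_centralizer_singleton_iff.2 ?_
      calc n⁻¹ * (c : X) * n * y = n⁻¹ * ((c : X) * (n * y * n⁻¹)) * n := by group
        _ = n⁻¹ * ((n * y * n⁻¹) * (c : X)) * n := by rw [e]
        _ = _ := by group
    · show n * _ * n⁻¹ = (c : X) * (a : X) * (c : X)⁻¹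
      rw [← hbe']; group
  · rw [Nat.card_congr (subgroupOfEquivOfLe hle).toEquiv, card_map_of_injective (MulAut.conj n).injective]
    exact coprime_coreC y

theorem normalizer_le (Y : Subgroup X) :
    normalizer (Y : Set X) ≤
      normalizer ((⨆ y : {y : X // y ∈ Y ∧ y ≠ 1}, coreC (y : X) : Subgroup X) : Set X) := by
  refine Grp.invariant_iff.1 fun n hn w hw => ?_
  have h : (⨆ y : {y : X // y ∈ Y ∧ y ≠ 1}, coreC (y : X)).map (MulAut.conj n).toMonoidHom ≤
      ⨆ y : {y : X // y ∈ Y ∧ y ≠ 1}, coreC (y : X) := by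
    rw [Subgroup.map_iSup]
    refine iSup_le fun y => (map_coreC n (y : X)).trans ?_
    exact le_iSup (fun y : {y : X // y ∈ Y ∧ y ≠ 1} => coreC (y : X))
      ⟨n * y * n⁻¹, (mem_normalizer_iff.1 hn _).1 y.2.1, fun e => y.2.2 (conj_eq_one_iff.1 e)⟩
  exact h ⟨w, hw, rfl⟩

end Cfsg.Agent.Invol.EvenCore
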