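import Cfsg.Agent.Lib.Invol.ExtClosedMoment
import Cfsg.Agent.Lib.Invol.IsolatedFactor
import Cfsg.Agent.Lib.Grp.Frattini
import Cfsg.Agent.S3021

/-!
# An extremely closed abelian 2-subgroup is normal modulo the odd core
-/

set_option linter.unusedSectionVars false
set_option linter.style.haveILetI false

namespace Cfsg.Agent.ExtClosed

open Cfsg Cfsg.Agent.Block

universe u

variable {G : Type u} [Group G] [Finite G] {H : Subgroup G}

omit [Finite G] in
/-- `H ⊔ O` is normal when the normalizer of `H` and a normal subgroup `O` generate. -/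
theorem normal_sup_of_top {O : Subgroup G} [hO : O.Normal]
    (h : Subgroup.normalizer (H : Set G) ⊔ O = ⊤) : (H ⊔ O).Normal := by
  refine Subgroup.normalizer_eq_top_iff.1 (eq_top_iff.2 (h.ge.trans (sup_le ?_ ?_)))
  · intro g hg
    refine Subgroup.mem_normalizer_iff.2 ?_
    have key : ∀ g ∈ Subgroup.normalizer (H : Set G), ∀ x ∈ H ⊔ O, g * x * g⁻¹ ∈ H ⊔ O := by
      intro g hg x hx
      have h1 : (H ⊔ O).map (MulAut.conj g).toMonoidHom ≤ H ⊔ O := by
        rw [Subgroup.map_sup]
        refine sup_le_sup ?_ ?_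
        · rintro _ ⟨a, ha, rfl⟩
          simpa using (Subgroup.mem_normalizer_iff.1 hg a).1 ha
        · rintro _ ⟨a, ha, rfl⟩
          simpa using hO.conj_mem a ha g
      exact h1 ⟨x, hx, by simp⟩
    intro x
    refine ⟨key g hg x, fun hx => ?_⟩
    have := key g⁻¹ (inv_mem hg) _ hx
    simpa [mul_assoc] using this
  · exact le_trans le_sup_right Subgroup.le_normalizer

/-- Values of the characters of the principal block off the odd core of a pair. -/
theorem value_eq {M : Ideal AlgInt} (hM : IsPModular 2 M) (hH2 : IsPGroup 2 H)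
    (hab : IsMulCommutative H) (hcl : IsExtremelyClosed H)
    (hnc : ∀ a ∈ H, a ≠ 1 → a ∉ Subgroup.center G)
    (ih : ∀ C : Subgroup G, H ≤ C → C ≠ ⊤ →
      Subgroup.normalizer (H.subgroupOf C : Set C) ⊔ oddCore C = ⊤)
    {χ : IrrCharacter G} (hχ : χ ∈ principalBlock M G) {g k a : G} (hk : k ∈ core H g)
    (ha : a ∈ H) (ha1 : a ≠ 1) : (χ : G → ℂ) (k * a) = (χ : G → ℂ) a := by
  classical
  haveI : Fact (Nat.Prime 2) := ⟨Nat.prime_two⟩
  cases nonempty_fintype G
  have hxT : k * a ∈ join H g := mul_mem (core_le g hk) (le_join g ha)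
  obtain ⟨u, v, huv, hcomm, ⟨i, hu⟩, hv, huz, hvz⟩ := exists_pPart_zpowers (p := 2) (k * a)
  have huT : u ∈ join H g := Subgroup.zpowers_le.2 hxT huz
  have hvT : v ∈ join H g := Subgroup.zpowers_le.2 hxT hvz
  have hvK : v ∈ core H g := mem_core_of_odd hH2 hab hcl hvT hv
  set T := join H g with hT
  let P : Sylow 2 T := (hH2.comap_subtype (K := T)).toSylow (not_dvd_index hH2 hab hcl g)
  have hPc : (P : Subgroup T) = H.subgroupOf T := IsPGroup.toSylow_coe _ _
  obtain ⟨t, ht⟩ := Invol.exists_conj_mem_sylow (x := (⟨u, huT⟩ : T))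
    (by rwa [Subgroup.orderOf_mk]) P
  change _ ∈ (P : Subgroup T) at ht
  rw [hPc, Subgroup.mem_subgroupOf] at ht
  simp only [Subgroup.coe_mul, Subgroup.coe_inv] at ht
  obtain ⟨k₀, hk₀, a₀, ha₀, et⟩ := exists_dec hH2 hab hcl t.2
  set k₁ := a₀⁻¹ * k₀ * a₀ with hk₁def
  have hk₁ : k₁ ∈ core H g := by
    have := conj_mem_core (inv_mem (le_join g ha₀)) hk₀
    rwa [inv_inv] at this
  set a' := k₁ * u * k₁⁻¹ with ha'def
  have ha' : a' ∈ H := by
    have := mul_mem (mul_mem (inv_mem ha₀) ht) ha₀
    rw [et] at this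
    rwa [show a₀⁻¹ * (k₀ * a₀ * u * (k₀ * a₀)⁻¹) * a₀ = a' by rw [ha'def, hk₁def]; group] at this
  set c := k₁ * v * k₁⁻¹ with hcdef
  have hcK : c ∈ core H g := mul_mem (mul_mem hk₁ hvK) (inv_mem hk₁)
  have hx' : k₁ * (k * a) * k₁⁻¹ = a' * c := by rw [← huv, ha'def, hcdef]; group
  have haa : a' = a := by
    refine (dec_unique hH2 (k := a' * c * a'⁻¹)
      (k' := k₁ * k * (a * k₁⁻¹ * a⁻¹)) (g := g) (conj_mem_core (le_join g ha') hcK)
      (mul_mem (mul_mem hk₁ hk) (conj_mem_core (le_join g ha) (inv_mem hk₁))) ha' ha ?_).1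
    rw [inv_mul_cancel_right, ← hx']
    group
  rw [haa] at hx'
  have hca : Commute c a := by
    rw [← haa, ha'def, hcdef]
    exact (hcomm.symm.map (MulAut.conj k₁).toMonoidHom : Commute _ _)
  rw [← irr_classFun χ (k * a) k₁, hx']
  -- the odd element lies in the odd core of the centralizer
  set C := Subgroup.centralizer ({a} : Set G) with hC
  have hHC : H ≤ C := fun b hb => Subgroup.mem_centralizer_singleton_iff.2
    (congrArg Subtype.val (hab.is_comm.comm (⟨b, hb⟩ : H) ⟨a, ha⟩))
  have hCtop : C ≠ ⊤ := fun he => hnc a ha ha1 (Subgroup.mem_center_iff.2 fun w =>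
    Subgroup.mem_centralizer_singleton_iff.1 (he ▸ Subgroup.mem_top w : w ∈ C))
  haveI : (oddCore C).Normal := Grp.pPrimeCore_isNormal
  have hn := normal_sup_of_top (ih C hHC hCtop)
  have hcC : c ∈ C := Subgroup.mem_centralizer_singleton_iff.2 hca.eq
  set B := (oddCore C).map C.subtype with hB
  have hBn : H ≤ Subgroup.normalizer (B : Set G) := fun b hb =>
    BS.mem_normalizer_of_conj_le fun w hw => by
      obtain ⟨w, hw, rfl⟩ := hw
      exact ⟨⟨b, hHC hb⟩ * w * ⟨b, hHC hb⟩⁻¹,
        (inferInstance : (oddCore C).Normal).conj_mem w hw _, rfl⟩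
  have hB2 : ¬ 2 ∣ Nat.card B := by
    rw [hB, Subgroup.card_map_of_injective Subtype.val_injective]
    exact Grp.pPrimeCore_not_dvd
  have hcB : c ∈ B := by
    refine mem_of_conj_le hH2 hab hcl hcK hBn hB2 fun b hb => ?_
    have h1 := hn.conj_mem (⟨b, hHC hb⟩ : C) (Subgroup.mem_sup_left hb) ⟨c, hcC⟩
    have h2 := Subgroup.mem_map_of_mem C.subtype h1
    rw [Subgroup.map_sup, Subgroup.map_subgroupOf_eq_of_le hHC] at h2
    exact h2
  obtain ⟨s, hs, hsc⟩ := hcB
  rw [← hsc]
  exact ZStar.value_eq_of_core hM (pPow_of_mem hH2 ha) hs hχ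

/-- An extremely closed abelian 2-subgroup is normal modulo the odd core. -/
theorem normalizer_sup_oddCore : ∀ (n : ℕ) (G : Type u) [Group G] [Finite G], Nat.card G = n →
    ∀ H : Subgroup G, IsPGroup 2 H → IsMulCommutative H → IsExtremelyClosed H →
      Subgroup.normalizer (H : Set G) ⊔ oddCore G = ⊤ := by
  intro n
  induction n using Nat.strong_induction_on with
  | _ n ih =>
    intro G _ _ hn H hH2 hab hcl
    classical
    haveI : Fact (Nat.Prime 2) := ⟨Nat.prime_two⟩
    haveI hON : (oddCore G).Normal := Grp.pPrimeCore_isNormal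
    by_cases hHbot : H = ⊥
    · subst hHbot
      rw [Subgroup.normalizer_eq_top, top_sup_eq]
    have habmap : ∀ (K : Subgroup G) [K.Normal],
        IsMulCommutative ↥(H.map (QuotientGroup.mk' K)) := fun K _ =>
      ⟨⟨by
        rintro ⟨_, a, ha, rfl⟩ ⟨_, b, hb, rfl⟩
        refine Subtype.ext ?_
        show QuotientGroup.mk' K a * QuotientGroup.mk' K b =
          QuotientGroup.mk' K b * QuotientGroup.mk' K a
        rw [← map_mul, ← map_mul]
        exact congrArg _ (congrArg Subtype.val (hab.is_comm.comm (⟨a, ha⟩ : H) ⟨b, hb⟩))⟩⟩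
    -- the odd core is trivial
    by_cases hO : oddCore G = ⊥
    swap
    · have hlt : Nat.card (G ⧸ oddCore G) < n := by
        rw [← hn, Subgroup.card_eq_card_quotient_mul_card_subgroup (oddCore G)]
        exact lt_mul_of_one_lt_right Nat.card_pos ((Subgroup.one_lt_card_iff_ne_bot _).2 hO)
      have h1 := ih _ hlt _ rfl (H.map (QuotientGroup.mk' (oddCore G))) (hH2.map _) (habmap _)
        (isExtremelyClosed_map hH2 hab hcl Grp.pPrimeCore_not_dvd)
      haveI : (pPrimeCore 2 G).Normal := hON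
      rw [show oddCore (G ⧸ oddCore G) = ⊥ from Grp.pPrimeCore_quotient_eq_bot, sup_bot_eq,
        Subgroup.normalizer_eq_top_iff] at h1
      refine normalizer_sup_of_normal hH2 hab hcl hON Grp.pPrimeCore_not_dvd ?_
      have h2 := h1.comap (QuotientGroup.mk' (oddCore G))
      rwa [Subgroup.comap_map_eq, QuotientGroup.ker_mk'] at h2
    rw [hO, sup_bot_eq]
    -- a proper subgroup
    have hih : ∀ C : Subgroup G, H ≤ C → C ≠ ⊤ →
        Subgroup.normalizer (H.subgroupOf C : Set C) ⊔ oddCore C = ⊤ := by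
      intro C hHC hC
      refine ih _ ?_ C rfl _ (hH2.comap_subtype) ⟨⟨fun a b => by
        refine Subtype.ext (Subtype.ext ?_)
        have := congrArg Subtype.val
          (hab.is_comm.comm (⟨((a : C) : G), a.2⟩ : H) ⟨((b : C) : G), b.2⟩)
        simpa using this⟩⟩
        (isExtremelyClosed_subgroupOf hcl hHC)
      rw [← hn]
      rcases (Nat.le_of_dvd Nat.card_pos (Subgroup.card_subgroup_dvd_card C)).lt_or_eq with h1 | h1
      · exact h1
      · exact absurd (Subgroup.eq_top_of_card_eq C h1) hC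
    by_cases hgen : ∃ D : Subgroup G, D.Normal ∧ H ≤ D ∧ D ≠ ⊤
    · obtain ⟨D, hDn, hHD, hD⟩ := hgen
      have h1 := hih D hHD hD
      have hOD : oddCore D = ⊥ := by
        rw [← Subgroup.map_eq_bot_iff_of_injective _ (f := D.subtype) Subtype.val_injective,
          Grp.pPrimeCore_map_eq D, show pPrimeCore 2 G = ⊥ from hO, bot_inf_eq]
      rw [hOD, sup_bot_eq] at h1
      refine eq_top_iff.2 fun g _ => BS.mem_normalizer_of_conj_le fun a ha => ?_
      refine (hcl g).le ⟨conj_mem_join g ha, Subgroup.mem_normalizer_iff.2 fun b => ?_⟩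
      have hd : g * a * g⁻¹ ∈ D := hDn.conj_mem a (hHD ha) g
      have h2 : (⟨_, hd⟩ : D) ∈ Subgroup.normalizer (H.subgroupOf D : Set D) :=
        h1 ▸ Subgroup.mem_top _
      refine ⟨fun hb => (Subgroup.mem_normalizer_iff.1 h2 ⟨b, hHD hb⟩).1 hb, fun hb => ?_⟩
      have hbD : b ∈ D := by
        have := mul_mem (mul_mem (inv_mem hd) (hHD hb)) hd
        rwa [show (g * a * g⁻¹)⁻¹ * (g * a * g⁻¹ * b * (g * a * g⁻¹)⁻¹) * (g * a * g⁻¹) = b by
          group] at this
      exact (Subgroup.mem_normalizer_iff.1 h2 ⟨b, hbD⟩).2 hb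
    push Not at hgen
    -- a central element
    by_cases hc : ∃ a ∈ H, a ≠ 1 ∧ a ∈ Subgroup.center G
    · obtain ⟨a, ha, ha1, hac⟩ := hc
      set A := H ⊓ Subgroup.center G with hA
      have hA1 : A ≠ ⊥ := fun h => ha1 (Subgroup.mem_bot.1 (h ▸ (⟨ha, hac⟩ : a ∈ A)))
      haveI hAn : A.Normal := ⟨fun x hx w => by
        rw [Subgroup.mem_center_iff.1 hx.2 w, mul_inv_cancel_right]; exact hx⟩
      have hlt : Nat.card (G ⧸ A) < n := by
        rw [← hn, Subgroup.card_eq_card_quotient_mul_card_subgroup A]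
        exact lt_mul_of_one_lt_right Nat.card_pos ((Subgroup.one_lt_card_iff_ne_bot _).2 hA1)
      have h1 := ih _ hlt _ rfl (H.map (QuotientGroup.mk' A)) (hH2.map _) (habmap _)
        (isExtremelyClosed_map_le hcl inf_le_left)
      suffices hOA : oddCore (G ⧸ A) = ⊥ by
        rw [hOA, sup_bot_eq, Subgroup.normalizer_eq_top_iff] at h1
        have h2 := h1.comap (QuotientGroup.mk' A)
        rw [Subgroup.comap_map_eq, QuotientGroup.ker_mk', sup_eq_left.2 inf_le_left] at h2
        exact Subgroup.normalizer_eq_top_iff.2 h2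
      haveI : (oddCore (G ⧸ A)).Normal := Grp.pPrimeCore_isNormal
      set L := (oddCore (G ⧸ A)).comap (QuotientGroup.mk' A) with hL
      haveI hLn : L.Normal := Subgroup.Normal.comap inferInstance _
      have hAL : A ≤ L := fun x hx => by
        rw [hL, Subgroup.mem_comap,
          show QuotientGroup.mk' A x = 1 from (QuotientGroup.eq_one_iff x).2 hx]
        exact one_mem _
      have hA2 : IsPGroup 2 A := hH2.to_le inf_le_left
      have hidx : ¬ 2 ∣ (A.subgroupOf L).index := by
        have hm : Function.Surjective ((QuotientGroup.mk' A).subgroupComap (oddCore (G ⧸ A))) :=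
          MonoidHom.subgroupComap_surjective_of_surjective _ _ (QuotientGroup.mk'_surjective A)
        have hk : ((QuotientGroup.mk' A).subgroupComap (oddCore (G ⧸ A))).ker = A.subgroupOf L := by
          ext x
          rw [MonoidHom.mem_ker, Subgroup.mem_subgroupOf, ← QuotientGroup.eq_one_iff, Subtype.ext_iff]
          rfl
        rw [← hk, Subgroup.index_ker, MonoidHom.range_eq_top.2 hm, Subgroup.card_top]
        exact Grp.pPrimeCore_not_dvd
      let Q : Sylow 2 L := (hA2.of_equiv (Subgroup.subgroupOfEquivOfLe hAL).symm).toSylow hidx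
      have hQ : Subgroup.normalizer (Q : Set L) ≤ Subgroup.centralizer (Q : Set L) := fun x _ =>
        Subgroup.mem_centralizer_iff.2 fun q hq => by
          have hq' : (q : L) ∈ (Q : Subgroup L) := hq
          rw [show (Q : Subgroup L) = A.subgroupOf L from IsPGroup.toSylow_coe _ _] at hq'
          exact Subtype.ext (Subgroup.mem_center_iff.1 hq'.2 (x : G)).symm
      set N := (MonoidHom.transferSylow Q hQ).ker
      have hNle : N ≤ pPrimeCore 2 L := Grp.le_pPrimeCore inferInstance
        ((Nat.prime_two.coprime_iff_not_dvd).2 (MonoidHom.not_dvd_card_ker_transferSylow Q hQ)).symm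
      have hN : N = ⊥ := eq_bot_iff.2 (hNle.trans (le_of_eq (by
        rw [← Subgroup.map_eq_bot_iff_of_injective _ (f := L.subtype) Subtype.val_injective,
          Grp.pPrimeCore_map_eq L, show pPrimeCore 2 G = ⊥ from hO, bot_inf_eq])))
      have hQtop : A.subgroupOf L = ⊤ := by
        have := (MonoidHom.ker_transferSylow_isComplement' Q hQ).sup_eq_top
        rw [show (MonoidHom.transferSylow Q hQ).ker = ⊥ from hN, bot_sup_eq,
          show (Q : Subgroup L) = A.subgroupOf L from IsPGroup.toSylow_coe _ _] at this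
        exact this
      have hLA : L ≤ A := Subgroup.subgroupOf_eq_top.1 hQtop
      refine eq_bot_iff.2 fun x hx => ?_
      obtain ⟨x, rfl⟩ := QuotientGroup.mk'_surjective A x
      exact Subgroup.mem_bot.2 ((QuotientGroup.eq_one_iff x).2 (hLA hx))
    push Not at hc
    -- the involution
    exfalso
    obtain ⟨P, hHP⟩ := hH2.exists_le_sylow
    have hPN := ((S3021.result H hH2 hcl).2 P hHP).1
    haveI : (H.subgroupOf (P : Subgroup G)).Normal := Subgroup.normal_subgroupOf_of_le_normalizer hPN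
    haveI : Group.IsNilpotent (P : Subgroup G) := P.isPGroup'.isNilpotent
    have hne : H.subgroupOf (P : Subgroup G) ≠ ⊥ := fun h => hHbot (by
      rw [← Subgroup.map_subgroupOf_eq_of_le hHP, h, Subgroup.map_bot])
    have hI := Grp.inf_center_ne_bot (H.subgroupOf (P : Subgroup G)) hne
    have hev : Even (Nat.card ↥(H.subgroupOf (P : Subgroup G) ⊓ Subgroup.center _)) := by
      obtain ⟨i, hi⟩ := IsPGroup.iff_card.1 (P.isPGroup'.to_subgroup
        (H.subgroupOf (P : Subgroup G) ⊓ Subgroup.center _))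
      rw [hi, even_iff_two_dvd]
      refine dvd_pow_self 2 fun h0 => ?_
      rw [h0, pow_zero] at hi
      exact hI (Subgroup.card_eq_one.1 hi)
    obtain ⟨z, ⟨hzH, hzc⟩, hz⟩ := Invol.exists_orderOf_two_mem hev
    have hz' : orderOf (z : G) = 2 := by rwa [Subgroup.orderOf_coe]
    have hPz : (P : Subgroup G) ≤ Subgroup.centralizer ({(z : G)} : Set G) := fun s hs =>
      Subgroup.mem_centralizer_singleton_iff.2
        (congrArg Subtype.val (Subgroup.mem_center_iff.1 hzc ⟨s, hs⟩))
    obtain ⟨M, hM⟩ := Cfsg.Agent.Char.exists_isPModular 2 Nat.prime_two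
    have hval : ∀ χ ∈ principalBlock M G, ∀ g : G, ∀ k ∈ core H g, ∀ a ∈ H, a ≠ 1 →
        (χ : G → ℂ) (k * a) = (χ : G → ℂ) a := fun χ hχ g k hk a ha ha1 =>
      value_eq hM hH2 hab hcl hc hih hχ hk ha ha1
    have hiso : IsIsolatedInvolution (z : G) := by
      refine ⟨hz', fun g hg => ?_⟩
      obtain ⟨n, hn, k, hk, e⟩ := conj_dec hH2 hab hcl g hzH
      have hb := (Subgroup.mem_normalizer_iff.1 hn (z : G)).1 hzH
      have hnz : n * (z : G) * n⁻¹ = z :=
        eq_of_isConj hM hH2 hab hcl hgen hval hzH hz' hPN hPz hb (isConj_iff.2 ⟨n, rfl⟩)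
      simp only [Subgroup.coe_subtype] at e
      rw [hnz] at e
      rw [e] at hg ⊢
      have hz2 := Invol.mul_self_of_orderOf_two hz'
      have hkk : k * k = 1 := by
        have hsq : (k * (z : G)) * (k * z) = 1 := by
          rw [← e, conj_mul, hz2, mul_one, mul_inv_cancel]
        have h3 : Commute (z : G) k := by
          have := hg.mul_right (Commute.refl (z : G)).inv_right
          rwa [mul_inv_cancel_right] at this
        calc k * k = k * k * ((z : G) * z) := by rw [hz2, mul_one]
          _ = (k * (z : G)) * (k * z) := by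
            rw [mul_assoc k (z : G) (k * z), ← mul_assoc (z : G) k z, h3.eq]; simp [mul_assoc]
          _ = 1 := hsq
      have hk1 : k = 1 := by
        rw [← orderOf_eq_one_iff]
        rcases (Nat.dvd_prime Nat.prime_two).1 (orderOf_dvd_of_pow_eq_one
          (show k ^ 2 = 1 by rw [pow_two, hkk])) with h4 | h4
        · exact h4
        · exact absurd (dvd_of_eq h4.symm) (not_dvd_orderOf (core_odd g) hk)
      rw [hk1, one_mul]
    have hcomm : ∀ g : G, (z : G) * g * (z : G)⁻¹ * g⁻¹ = 1 := fun g => by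
      have := ZStar.commutator_mem_oddCore _ G rfl (z : G) hiso g
      rw [show pPrimeCore 2 G = ⊥ from hO] at this
      exact Subgroup.mem_bot.1 this
    refine hc (z : G) hzH (Invol.ne_one_of_orderOf_two hz') (Subgroup.mem_center_iff.2 fun g => ?_)
    exact (mul_inv_eq_iff_eq_mul.1 (mul_inv_eq_one.1 (hcomm g))).symm

end Cfsg.Agent.ExtClosed
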