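import Cfsg.Prelude.Def_SubgroupEmbedding
import Cfsg.Prelude.Def_CaseTheorems
import Cfsg.Agent.Lib.Invol.Sylow
import Cfsg.Agent.Lib.Grp.Cores
import Cfsg.Agent.Lib.Invol.BSLocal
import Cfsg.Agent.S3020

/-!
# Extremely closed abelian 2-subgroups: the pairs of conjugates

For an extremely closed abelian 2-subgroup `H` the subgroup generated by `H` and a conjugate is a
semidirect product of an odd normal subgroup with `H`.
-/

set_option linter.unusedSectionVars false
set_option linter.style.haveILetI false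

namespace Cfsg.Agent.ExtClosed

open Cfsg

variable {G : Type*} [Group G] [Finite G]

/-- An element of a 2-subgroup lying in a subgroup of odd order is trivial. -/
theorem eq_one_of_mem_odd {H B : Subgroup G} (hH2 : IsPGroup 2 H) (hB : ¬ 2 ∣ Nat.card B) {x : G}
    (hxH : x ∈ H) (hxB : x ∈ B) : x = 1 := by
  obtain ⟨k, hk⟩ := IsPGroup.iff_orderOf.1 hH2 ⟨x, hxH⟩
  rw [Subgroup.orderOf_mk] at hk
  have h2 : orderOf x ∣ Nat.card B := by
    rw [← Subgroup.orderOf_mk x hxB]; exact orderOf_dvd_natCard _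
  rw [← orderOf_eq_one_iff]
  exact Nat.eq_one_of_dvd_coprimes (Nat.Coprime.pow_left k (Nat.prime_two.coprime_iff_not_dvd.2 hB))
    (dvd_of_eq hk) h2

/-- A product `b * a`. -/
theorem mem_sup_dec {H B : Subgroup G} (hB : H ≤ Subgroup.normalizer (B : Set G)) {x : G}
    (hx : x ∈ H ⊔ B) : ∃ b ∈ B, ∃ a ∈ H, x = b * a := by
  rw [← SetLike.mem_coe, sup_comm, Subgroup.coe_mul_of_right_le_normalizer_left B H hB] at hx
  obtain ⟨b, hb, a, ha, rfl⟩ := hx
  exact ⟨b, hb, a, ha, rfl⟩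

/-- An element of odd order of `H ⊔ B` lies in `B`. -/
theorem mem_of_odd_sup {H B : Subgroup G} (hH2 : IsPGroup 2 H)
    (hB : H ≤ Subgroup.normalizer (B : Set G)) (hB2 : ¬ 2 ∣ Nat.card B) {x : G}
    (hx : x ∈ H ⊔ B) (hodd : ¬ 2 ∣ orderOf x) : x ∈ B := by
  obtain ⟨b, hb, a, ha, rfl⟩ := mem_sup_dec hB hx
  set S := H ⊔ B with hS
  haveI : (B.subgroupOf S).Normal := Subgroup.normal_subgroupOf_of_le_normalizer
    (sup_le hB Subgroup.le_normalizer)
  let φ := QuotientGroup.mk' (B.subgroupOf S)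
  have hbS : b ∈ S := Subgroup.mem_sup_right hb
  have haS : a ∈ S := Subgroup.mem_sup_left ha
  have heq : φ ⟨b * a, hx⟩ = φ ⟨a, haS⟩ := by
    have h1 : φ ⟨b, hbS⟩ = 1 := (QuotientGroup.eq_one_iff _).2 hb
    rw [show (⟨b * a, hx⟩ : S) = ⟨b, hbS⟩ * ⟨a, haS⟩ from rfl, map_mul, h1, one_mul]
  have hd1 : orderOf (φ ⟨b * a, hx⟩) ∣ orderOf (b * a) := by
    rw [← Subgroup.orderOf_mk _ hx]; exact orderOf_map_dvd φ _
  obtain ⟨k, hk⟩ := IsPGroup.iff_orderOf.1 hH2 ⟨a, ha⟩
  rw [Subgroup.orderOf_mk] at hk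
  have hd2 : orderOf (φ ⟨b * a, hx⟩) ∣ 2 ^ k := by
    rw [heq, ← hk, ← Subgroup.orderOf_mk a haS]; exact orderOf_map_dvd φ _
  have h1 := Nat.eq_one_of_dvd_coprimes
    ((Nat.prime_two.coprime_iff_not_dvd.2 hodd).pow_left k) hd2 hd1
  rw [orderOf_eq_one_iff, QuotientGroup.mk'_apply, QuotientGroup.eq_one_iff] at h1
  exact h1

theorem not_dvd_orderOf {B : Subgroup G} (hB : ¬ 2 ∣ Nat.card B) {x : G} (hx : x ∈ B) :
    ¬ 2 ∣ orderOf x := fun h => hB (h.trans (by
  rw [← Subgroup.orderOf_mk x hx]; exact orderOf_dvd_natCard _))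

/-- The subgroup generated by `H` and a conjugate. -/
def join (H : Subgroup G) (g : G) : Subgroup G := H ⊔ H.map (MulAut.conj g).toMonoidHom

/-- Its odd core, as a subgroup of the whole group. -/
def core (H : Subgroup G) (g : G) : Subgroup G :=
  (Cfsg.pPrimeCore 2 ↥(join H g)).map (join H g).subtype

variable {H : Subgroup G}

theorem le_join (g : G) : H ≤ join H g := le_sup_left

theorem conj_mem_join (g : G) {a : G} (ha : a ∈ H) : g * a * g⁻¹ ∈ join H g :=
  Subgroup.mem_sup_right ⟨a, ha, by simp⟩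

theorem core_le (g : G) : core H g ≤ join H g := Subgroup.map_subtype_le _

theorem core_odd (g : G) : ¬ 2 ∣ Nat.card (core H g) := by
  haveI : Fact (Nat.Prime 2) := ⟨Nat.prime_two⟩
  rw [core, Subgroup.card_map_of_injective Subtype.val_injective]
  exact Grp.pPrimeCore_not_dvd

theorem conj_mem_core {g l k : G} (hl : l ∈ join H g) (hk : k ∈ core H g) :
    l * k * l⁻¹ ∈ core H g := by
  obtain ⟨k, hk, rfl⟩ := hk
  exact ⟨⟨l, hl⟩ * k * ⟨l, hl⟩⁻¹,
    (Grp.pPrimeCore_isNormal (p := 2) (G := ↥(join H g))).conj_mem k hk _, rfl⟩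

theorem le_normalizer_core (g : G) : join H g ≤ Subgroup.normalizer (core H g : Set G) := by
  intro l hl
  refine Subgroup.mem_normalizer_iff.2 fun x => ⟨conj_mem_core hl, fun hx => ?_⟩
  have := conj_mem_core (inv_mem hl) hx
  simpa [mul_assoc] using this

section

variable (hH2 : IsPGroup 2 H) (hab : IsMulCommutative H) (hcl : IsExtremelyClosed H)
include hH2 hab hcl

theorem join_eq (g : G) : H ⊔ core H g = join H g := by
  haveI : Fact (Nat.Prime 2) := ⟨Nat.prime_two⟩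
  exact (S3020.result H hH2 hab hcl g (join H g) rfl).1

theorem exists_dec {g x : G} (hx : x ∈ join H g) : ∃ k ∈ core H g, ∃ a ∈ H, x = k * a :=
  mem_sup_dec ((le_join g).trans (le_normalizer_core g)) (by rwa [join_eq hH2 hab hcl g])

omit hab hcl in
theorem dec_unique {g k k' a a' : G} (hk : k ∈ core H g) (hk' : k' ∈ core H g) (ha : a ∈ H)
    (ha' : a' ∈ H) (h : k * a = k' * a') : a = a' ∧ k = k' := by
  have e : k'⁻¹ * k = a' * a⁻¹ := by
    rw [eq_mul_inv_iff_mul_eq, mul_assoc, h, inv_mul_cancel_left]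
  have h1 := eq_one_of_mem_odd hH2 (core_odd g) (mul_mem ha' (inv_mem ha))
    (e ▸ mul_mem (inv_mem hk') hk)
  have haa : a' = a := mul_inv_eq_one.1 h1
  exact ⟨haa.symm, by rw [haa] at h; exact mul_right_cancel h⟩

theorem mem_core_of_odd {g x : G} (hx : x ∈ join H g) (hodd : ¬ 2 ∣ orderOf x) : x ∈ core H g :=
  mem_of_odd_sup hH2 ((le_join g).trans (le_normalizer_core g)) (core_odd g)
    (by rwa [join_eq hH2 hab hcl g]) hodd

/-- `H` is a Sylow subgroup of each pair. -/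
theorem not_dvd_index (g : G) : ¬ 2 ∣ (H.subgroupOf (join H g)).index := by
  set T := join H g with hT
  set H' := H.subgroupOf T with hH'
  set K' := (core H g).subgroupOf T with hK'
  have hc : Subgroup.IsComplement' K' H' := by
    refine Subgroup.isComplement'_of_disjoint_and_mul_eq_univ ?_ (Set.eq_univ_of_forall fun x => ?_)
    · rw [Subgroup.disjoint_def]
      intro x hxK hxH
      exact Subtype.ext (eq_one_of_mem_odd hH2 (core_odd g) hxH hxK)
    · obtain ⟨k, hk, a, ha, e⟩ := exists_dec hH2 hab hcl x.2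
      exact ⟨⟨k, core_le g hk⟩, hk, ⟨a, le_join g ha⟩, ha, Subtype.ext e.symm⟩
  rw [hc.index_eq_card, hK', Nat.card_congr (Subgroup.subgroupOfEquivOfLe (core_le g)).toEquiv]
  exact core_odd g

/-- Every conjugate of `H` is conjugate to it by an element of the odd core of the pair. -/
theorem exists_conj_core (g : G) :
    ∃ k ∈ core H g, k⁻¹ * g ∈ Subgroup.normalizer (H : Set G) := by
  classical
  haveI : Fact (Nat.Prime 2) := ⟨Nat.prime_two⟩
  set T := join H g with hT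
  set H' := H.subgroupOf T with hH'
  have hidx : ¬ 2 ∣ H'.index := not_dvd_index hH2 hab hcl g
  let P : Sylow 2 T := (hH2.comap_subtype (K := T)).toSylow hidx
  have hPc : (P : Subgroup T) = H' := IsPGroup.toSylow_coe _ _
  obtain ⟨Q, hQ⟩ := ((hH2.map (MulAut.conj g).toMonoidHom).comap_subtype (K := T)).exists_le_sylow
  obtain ⟨t, ht⟩ := MulAction.exists_smul_eq T P Q
  obtain ⟨k, hk, a0, ha0, e⟩ := exists_dec hH2 hab hcl t.2
  refine ⟨k, hk, BS.mem_normalizer_of_conj_le fun a ha => ?_⟩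
  have hmem : (⟨g * a * g⁻¹, conj_mem_join g ha⟩ : T) ∈ Q :=
    hQ (show g * a * g⁻¹ ∈ H.map (MulAut.conj g).toMonoidHom from ⟨a, ha, by simp⟩)
  rw [← ht] at hmem
  change _ ∈ ((t • P : Sylow 2 T) : Subgroup T) at hmem
  rw [Sylow.coe_subgroup_smul, Subgroup.mem_pointwise_smul_iff_inv_smul_mem, hPc] at hmem
  have h2 : (t : G)⁻¹ * (g * a * g⁻¹) * (t : G) ∈ H := by
    simpa [hH', Subgroup.mem_subgroupOf, MulAut.smul_def, MulAut.conj_inv_apply] using hmem
  rw [e] at h2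
  have h3 := mul_mem (mul_mem ha0 h2) (inv_mem ha0)
  have h4 : k⁻¹ * g * a * (k⁻¹ * g)⁻¹ ∈ H := by
    rwa [show a0 * ((k * a0)⁻¹ * (g * a * g⁻¹) * (k * a0)) * a0⁻¹ =
      k⁻¹ * g * a * (k⁻¹ * g)⁻¹ by group] at h3
  exact h4

/-- An element of the odd core conjugating `H` into `H ⊔ B` lies in `B`. -/
theorem mem_of_conj_le {g k : G} (hk : k ∈ core H g) {B : Subgroup G}
    (hB : H ≤ Subgroup.normalizer (B : Set G)) (hB2 : ¬ 2 ∣ Nat.card B)
    (hle : ∀ a ∈ H, k * a * k⁻¹ ∈ H ⊔ B) : k ∈ B := by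
  obtain ⟨k', hk', hn⟩ := exists_conj_core hH2 hab hcl k
  have hjg : join H k ≤ join H g := sup_le (le_join g) (by
    rintro _ ⟨a, ha, rfl⟩
    simpa using mul_mem (mul_mem (core_le g hk) (le_join g ha)) (inv_mem (core_le g hk)))
  have hjB : join H k ≤ H ⊔ B := sup_le le_sup_left (by
    rintro _ ⟨a, ha, rfl⟩
    simpa using hle a ha)
  have hodd := not_dvd_orderOf (core_odd k) hk'
  have hk'g : k' ∈ core H g := mem_core_of_odd hH2 hab hcl (hjg (core_le k hk')) hodd
  have h1 : k'⁻¹ * k ∈ H := by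
    have : k'⁻¹ * k ∈ join H g ⊓ Subgroup.normalizer (H : Set G) :=
      ⟨core_le g (mul_mem (inv_mem hk'g) hk), hn⟩
    exact (hcl g).le this
  have h2 := eq_one_of_mem_odd hH2 (core_odd g) h1 (mul_mem (inv_mem hk'g) hk)
  rw [← inv_mul_eq_one.1 h2]
  exact mem_of_odd_sup hH2 hB hB2 (hjB (core_le k hk')) hodd

/-- A conjugate of an element of `H` is, in the odd core of the pair, a conjugate of an element
fused to it in the normalizer. -/
theorem conj_dec (g : G) {b : G} (hb : b ∈ H) :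
    ∃ n ∈ Subgroup.normalizer (H : Set G), ∃ k ∈ core H g, g * b * g⁻¹ = k * (n * b * n⁻¹) := by
  obtain ⟨k, hk, hn⟩ := exists_conj_core hH2 hab hcl g
  refine ⟨k⁻¹ * g, hn, k * ((k⁻¹ * g) * b * (k⁻¹ * g)⁻¹ * k⁻¹ * ((k⁻¹ * g) * b * (k⁻¹ * g)⁻¹)⁻¹),
    mul_mem hk (conj_mem_core (le_join g ((Subgroup.mem_normalizer_iff.1 hn b).1 hb)) (inv_mem hk)),
    ?_⟩
  group

/-- Fusion in `H` is controlled by its normalizer. -/
theorem exists_fusion {a b g : G} (ha : a ∈ H) (hb : b ∈ H) (h : g * a * g⁻¹ = b) :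
    ∃ n ∈ Subgroup.normalizer (H : Set G), n * a * n⁻¹ = b := by
  obtain ⟨n, hn, k, hk, e⟩ := conj_dec hH2 hab hcl g ha
  refine ⟨n, hn, (dec_unique hH2 hk (one_mem _) ((Subgroup.mem_normalizer_iff.1 hn a).1 ha) hb
    ?_).1⟩
  rw [← e, h, one_mul]

/-- If `H` stays in the normal subgroup `H ⊔ B`, the group is `N(H) B`. -/
theorem normalizer_sup_of_normal {B : Subgroup G} (hB : B.Normal) (hB2 : ¬ 2 ∣ Nat.card B)
    (hn : (H ⊔ B).Normal) : Subgroup.normalizer (H : Set G) ⊔ B = ⊤ := by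
  refine eq_top_iff.2 fun g _ => ?_
  obtain ⟨k, hk, hkn⟩ := exists_conj_core hH2 hab hcl g
  have hkB : k ∈ B := mem_of_conj_le hH2 hab hcl hk
    (by rw [Subgroup.normalizer_eq_top]; exact le_top) hB2
    (fun a ha => hn.conj_mem a (Subgroup.mem_sup_left ha) k)
  rw [show g = k * (k⁻¹ * g) by group]
  exact mul_mem (Subgroup.mem_sup_right hkB) (Subgroup.mem_sup_left hkn)

omit hH2 hab in
/-- A subgroup containing `H` inherits extreme closure. -/
theorem isExtremelyClosed_subgroupOf {M : Subgroup G} (hM : H ≤ M) :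
    IsExtremelyClosed (H.subgroupOf M) := by
  intro m
  refine le_antisymm ?_ (le_inf le_sup_left Subgroup.le_normalizer)
  rintro x ⟨hx1, hx2⟩
  refine (hcl (m : G)).le ⟨?_, Subgroup.mem_normalizer_iff.2 fun a => ⟨fun ha => ?_, fun ha => ?_⟩⟩
  · have := Subgroup.mem_map_of_mem M.subtype hx1
    rw [Subgroup.map_sup, Subgroup.map_subgroupOf_eq_of_le hM] at this
    refine (sup_le_sup le_rfl ?_ : _ ≤ join H (m : G)) this
    rintro _ ⟨_, ⟨a, ha, rfl⟩, rfl⟩
    exact ⟨a, ha, by simp⟩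
  · exact (Subgroup.mem_normalizer_iff.1 hx2 ⟨a, hM ha⟩).1 ha
  · have haM : a ∈ M := by
      have := M.mul_mem (M.mul_mem (M.inv_mem x.2) (hM ha)) x.2
      simpa [mul_assoc] using this
    exact (Subgroup.mem_normalizer_iff.1 hx2 ⟨a, haM⟩).2 ha

/-- Extreme closure passes to the quotient by a normal subgroup of odd order. -/
theorem isExtremelyClosed_map {B : Subgroup G} [B.Normal] (hB2 : ¬ 2 ∣ Nat.card B) :
    IsExtremelyClosed (H.map (QuotientGroup.mk' B)) := by
  intro g'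
  obtain ⟨g, rfl⟩ := QuotientGroup.mk'_surjective B g'
  refine le_antisymm ?_ (le_inf le_sup_left Subgroup.le_normalizer)
  rintro x' ⟨hx1, hx2⟩
  have hle : H.map (QuotientGroup.mk' B) ⊔ (H.map (QuotientGroup.mk' B)).map
      (MulAut.conj (QuotientGroup.mk' B g)).toMonoidHom ≤ (join H g).map (QuotientGroup.mk' B) := by
    refine sup_le (Subgroup.map_mono (le_join g)) ?_
    rintro _ ⟨_, ⟨a, ha, rfl⟩, rfl⟩
    exact ⟨g * a * g⁻¹, conj_mem_join g ha, by simp⟩
  obtain ⟨l, hl, rfl⟩ := hle hx1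
  obtain ⟨k, hk, a0, ha0, rfl⟩ := exists_dec hH2 hab hcl hl
  have hkB : k ∈ B := by
    refine mem_of_conj_le hH2 hab hcl hk (by rw [Subgroup.normalizer_eq_top]; exact le_top) hB2
      fun a ha => ?_
    have hconj : k * a0 * (a0⁻¹ * a * a0) * (k * a0)⁻¹ = k * a * k⁻¹ := by group
    have := (Subgroup.mem_normalizer_iff.1 hx2 (QuotientGroup.mk' B (a0⁻¹ * a * a0))).1
      (Subgroup.mem_map_of_mem _ (mul_mem (mul_mem (inv_mem ha0) ha) ha0))
    rw [← map_inv, ← map_mul, ← map_mul, hconj, ← Subgroup.mem_comap,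
      Subgroup.comap_map_eq, QuotientGroup.ker_mk'] at this
    exact this
  exact ⟨a0, ha0, by rw [map_mul, show QuotientGroup.mk' B k = 1 from (QuotientGroup.eq_one_iff k).2 hkB,
    one_mul]⟩

omit hH2 hab in
/-- Extreme closure passes to the quotient by a normal subgroup contained in `H`. -/
theorem isExtremelyClosed_map_le {Z : Subgroup G} [Z.Normal] (hZ : Z ≤ H) :
    IsExtremelyClosed (H.map (QuotientGroup.mk' Z)) := by
  intro g'
  obtain ⟨g, rfl⟩ := QuotientGroup.mk'_surjective Z g'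
  refine le_antisymm ?_ (le_inf le_sup_left Subgroup.le_normalizer)
  rintro x' ⟨hx1, hx2⟩
  have hle : H.map (QuotientGroup.mk' Z) ⊔ (H.map (QuotientGroup.mk' Z)).map
      (MulAut.conj (QuotientGroup.mk' Z g)).toMonoidHom ≤ (join H g).map (QuotientGroup.mk' Z) := by
    refine sup_le (Subgroup.map_mono (le_join g)) ?_
    rintro _ ⟨_, ⟨a, ha, rfl⟩, rfl⟩
    exact ⟨g * a * g⁻¹, conj_mem_join g ha, by simp⟩
  obtain ⟨l, hl, rfl⟩ := hle hx1
  have hcm : (H.map (QuotientGroup.mk' Z)).comap (QuotientGroup.mk' Z) = H := by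
    rw [Subgroup.comap_map_eq, QuotientGroup.ker_mk', sup_eq_left.2 hZ]
  have hln : l ∈ Subgroup.normalizer (H : Set G) := by
    refine Subgroup.mem_normalizer_iff.2 fun a => ?_
    have h := Subgroup.mem_normalizer_iff.1 hx2 (QuotientGroup.mk' Z a)
    rw [← map_inv, ← map_mul, ← map_mul, ← Subgroup.mem_comap, ← Subgroup.mem_comap, hcm] at h
    exact h
  exact ⟨l, (hcl g).le ⟨hl, hln⟩, rfl⟩

end

end Cfsg.Agent.ExtClosed
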