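import Cfsg.Agent.Lib.Block.ClassMul
import Cfsg.Agent.Lib.Char.Schur
import Cfsg.Agent.Lib.Block.Central

/-!
# Averages of an irreducible character over a product of two subgroups

An irreducible character is positive definite, so its average over `A B` is at least its average
over a subgroup containing `A` and `B`.
-/

open scoped ComplexConjugate

namespace Cfsg.Agent.ExtClosed

open Cfsg Cfsg.Agent.Block

universe u

variable {G : Type u} [Group G] [Finite G]

theorem sum_div_self {A : Subgroup G} [Fintype A] (F : G → ℂ) :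
    ∑ a₁ : A, ∑ a₂ : A, F ((a₂ : G) * (a₁ : G)⁻¹) = (Nat.card A : ℂ) * ∑ a : A, F a := by
  rw [Finset.sum_congr rfl fun a₁ _ => Fintype.sum_equiv (Equiv.mulRight a₁⁻¹)
    (fun a₂ : A => F ((a₂ : G) * (a₁ : G)⁻¹)) (fun a : A => F a) (fun a₂ => by simp),
    Finset.sum_const, Finset.card_univ, nsmul_eq_mul, Nat.card_eq_fintype_card]

theorem sum_inv_mul_self {A : Subgroup G} [Fintype A] (F : G → ℂ) :
    ∑ a₁ : A, ∑ a₂ : A, F ((a₁ : G)⁻¹ * (a₂ : G)) = (Nat.card A : ℂ) * ∑ a : A, F a := by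
  rw [Finset.sum_congr rfl fun a₁ _ => Fintype.sum_equiv (Equiv.mulLeft a₁⁻¹)
    (fun a₂ : A => F ((a₁ : G)⁻¹ * (a₂ : G))) (fun a : A => F a) (fun a₂ => by simp),
    Finset.sum_const, Finset.card_univ, nsmul_eq_mul, Nat.card_eq_fintype_card]

theorem mul_sum_le_of_le (χ : IrrCharacter G) {A B L : Subgroup G} [Fintype A] [Fintype B]
    [Fintype L] (hA : A ≤ L) (hB : B ≤ L) :
    (Nat.card A : ℝ) * Nat.card B * (∑ l : L, (χ : G → ℂ) l).re ≤
      (Nat.card L : ℝ) * (∑ a : A, ∑ b : B, (χ : G → ℂ) ((a : G) * (b : G))).re := by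
  classical
  cases nonempty_fintype G
  set K : ℂ := (Nat.card G : ℂ) / (χ : G → ℂ) 1 with hK
  have hconv : ∀ x y : G, ∑ g : G, conj ((χ : G → ℂ) (g * x)) * (χ : G → ℂ) (g * y) =
      K * (χ : G → ℂ) (x⁻¹ * y) := by
    intro x y
    have h := Cfsg.Agent.Char.sum_mul_conj_shift χ.2 (x⁻¹ * y)
    rw [hK, div_mul_eq_mul_div, ← h]
    refine Fintype.sum_equiv (Equiv.mulRight x) _ _ fun g => ?_
    simp [mul_assoc]
  have hconv2 : ∀ {ι κ : Type u} [Fintype ι] [Fintype κ] (x : ι → G) (y : κ → G),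
      ∑ g : G, conj (∑ i, (χ : G → ℂ) (g * x i)) * (∑ j, (χ : G → ℂ) (g * y j)) =
        K * ∑ i, ∑ j, (χ : G → ℂ) ((x i)⁻¹ * y j) := by
    intro ι κ _ _ x y
    simp only [map_sum, Finset.sum_mul_sum]
    rw [Finset.sum_comm, Finset.mul_sum]
    refine Finset.sum_congr rfl fun i _ => ?_
    rw [Finset.sum_comm, Finset.mul_sum]
    exact Finset.sum_congr rfl fun j _ => hconv _ _
  set SA := ∑ a : A, ∑ b : B, (χ : G → ℂ) ((a : G) * (b : G)) with hSA
  set SL := ∑ l : L, (χ : G → ℂ) l with hSL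
  set P : G → ℂ := fun g => ∑ p : B × A, (χ : G → ℂ) (g * ((p.1 : G) * (p.2 : G))) with hP
  set Q : G → ℂ := fun g => ∑ l : L, (χ : G → ℂ) (g * (l : G)) with hQ
  set cA : ℂ := (Nat.card A : ℂ) with hcA
  set cB : ℂ := (Nat.card B : ℂ) with hcB
  set cL : ℂ := (Nat.card L : ℂ) with hcL
  have hPP : ∑ g : G, conj (P g) * P g = K * (cA * cB * SA) := by
    simp only [hP, hconv2]
    congr 1
    simp only [Fintype.sum_prod_type]
    rw [show cA * cB * SA = cB * ∑ b : B, cA * ∑ a : A, (χ : G → ℂ) ((a : G) * (b : G)) by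
      rw [hSA, Finset.sum_comm, ← Finset.mul_sum]; ring,
      ← sum_inv_mul_self (fun y => cA * ∑ a : A, (χ : G → ℂ) ((a : G) * y))]
    refine Finset.sum_congr rfl fun b₁ _ => ?_
    rw [Finset.sum_comm]
    refine Finset.sum_congr rfl fun b₂ _ => ?_
    rw [hcA, ← sum_div_self (fun x => (χ : G → ℂ) (x * ((b₁ : G)⁻¹ * (b₂ : G))))]
    refine Finset.sum_congr rfl fun a₁ _ => Finset.sum_congr rfl fun a₂ _ => ?_
    rw [← Block.irr_classFun χ (((b₁ : G) * a₁)⁻¹ * ((b₂ : G) * a₂)) (a₂ : G)]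
    group
  have hPQ : ∑ g : G, conj (P g) * Q g = K * (cA * cB * SL) := by
    simp only [hP, hQ, hconv2]
    congr 1
    have hterm : ∀ p : B × A,
        ∑ l : L, (χ : G → ℂ) (((p.1 : G) * (p.2 : G))⁻¹ * (l : G)) = SL := fun p =>
      Fintype.sum_equiv (Equiv.mulLeft (⟨_, mul_mem (hB p.1.2) (hA p.2.2)⟩ : L)⁻¹) _ _
        fun l => by simp
    rw [Finset.sum_congr rfl fun p _ => hterm p]
    simp [hcA, hcB, Nat.card_eq_fintype_card, mul_comm]
  have hQP : ∑ g : G, conj (Q g) * P g = K * (cA * cB * SL) := by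
    simp only [hP, hQ, hconv2]
    congr 1
    have hterm : ∀ p : B × A,
        ∑ l : L, (χ : G → ℂ) ((l : G)⁻¹ * ((p.1 : G) * (p.2 : G))) = SL := fun p =>
      Fintype.sum_equiv ((Equiv.inv L).trans (Equiv.mulRight ⟨_, mul_mem (hB p.1.2) (hA p.2.2)⟩))
        _ _ fun l => by simp
    rw [Finset.sum_comm, Finset.sum_congr rfl fun p _ => hterm p]
    simp [hcA, hcB, Nat.card_eq_fintype_card, mul_comm]
  have hQQ : ∑ g : G, conj (Q g) * Q g = K * (cL * SL) := by
    simp only [hQ, hconv2]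
    congr 1
    exact sum_inv_mul_self (χ : G → ℂ)
  have hmain : ∑ g : G, conj (cL * P g - cA * cB * Q g) * (cL * P g - cA * cB * Q g) =
      K * (cL * cA * cB * (cL * SA - cA * cB * SL)) := by
    calc ∑ g : G, conj (cL * P g - cA * cB * Q g) * (cL * P g - cA * cB * Q g)
        = cL * cL * ∑ g : G, conj (P g) * P g - cL * (cA * cB) * ∑ g : G, conj (P g) * Q g -
            cL * (cA * cB) * ∑ g : G, conj (Q g) * P g +
            (cA * cB) * (cA * cB) * ∑ g : G, conj (Q g) * Q g := by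
          simp only [Finset.mul_sum, ← Finset.sum_sub_distrib, ← Finset.sum_add_distrib]
          refine Finset.sum_congr rfl fun g _ => ?_
          simp only [map_sub, map_mul, hcA, hcB, hcL, Complex.conj_natCast]
          ring
      _ = _ := by rw [hPP, hPQ, hQP, hQQ]; ring
  have hre := congrArg Complex.re hmain
  rw [Complex.re_sum] at hre
  have hpos : (0 : ℝ) ≤ ∑ g : G,
      (conj (cL * P g - cA * cB * Q g) * (cL * P g - cA * cB * Q g)).re :=
    Finset.sum_nonneg fun g _ => by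
      rw [mul_comm, Complex.mul_conj, Complex.ofReal_re]; exact Complex.normSq_nonneg _
  rw [hre, hK, charDeg_spec', show (Nat.card G : ℂ) / (charDegree (χ : G → ℂ) : ℂ) =
    (((Nat.card G : ℝ) / (charDegree (χ : G → ℂ) : ℝ) : ℝ) : ℂ) by push_cast; ring,
    Complex.re_ofReal_mul, hcA, hcB, hcL] at hpos
  rw [show (Nat.card L : ℂ) * (Nat.card A : ℂ) * (Nat.card B : ℂ) *
        ((Nat.card L : ℂ) * SA - (Nat.card A : ℂ) * (Nat.card B : ℂ) * SL) =
      (((Nat.card L : ℝ) * Nat.card A * Nat.card B : ℝ) : ℂ) *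
        (((Nat.card L : ℝ) : ℂ) * SA - (((Nat.card A : ℝ) * Nat.card B : ℝ) : ℂ) * SL) by
      push_cast; ring, Complex.re_ofReal_mul, Complex.sub_re, Complex.re_ofReal_mul,
    Complex.re_ofReal_mul] at hpos
  have h1 : (0 : ℝ) < (Nat.card G : ℝ) / (charDegree (χ : G → ℂ) : ℝ) :=
    div_pos (Nat.cast_pos.2 Nat.card_pos) (Nat.cast_pos.2 (charDeg_pos χ))
  have h2 : (0 : ℝ) < (Nat.card L : ℝ) * Nat.card A * Nat.card B :=
    mul_pos (mul_pos (Nat.cast_pos.2 Nat.card_pos) (Nat.cast_pos.2 Nat.card_pos))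
      (Nat.cast_pos.2 Nat.card_pos)
  have := nonneg_of_mul_nonneg_right (nonneg_of_mul_nonneg_right hpos h1) h2
  linarith

end Cfsg.Agent.ExtClosed
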