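import Cfsg.Agent.Lib.Invol.ExtClosedBasic
import Cfsg.Agent.Lib.Invol.ExtClosedPos
import Cfsg.Agent.Lib.Invol.ZStar

/-!
# The third moment of the principal block on an extremely closed abelian 2-subgroup

If the conjugates of `H` generate the group, an involution of `H` centralized by a Sylow
2-subgroup containing `H` has no other conjugate in `H`.
-/

open scoped ComplexConjugate

set_option linter.unusedSectionVars false
set_option linter.style.haveILetI false

namespace Cfsg.Agent.ExtClosed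

open Cfsg Cfsg.Agent.Block

universe u

variable {G : Type u} [Group G] [Finite G] {M : Ideal AlgInt} {H : Subgroup G}

theorem sum_mul_self (H : Subgroup G) [Fintype H] (F : G → ℂ) :
    ∑ a : H, ∑ b : H, F ((a : G) * (b : G)) = (Nat.card H : ℂ) * ∑ a : H, F a := by
  rw [Finset.sum_congr rfl fun a _ => Fintype.sum_equiv (Equiv.mulLeft a)
    (fun b : H => F ((a : G) * (b : G))) (fun b : H => F b) (fun b => by simp),
    Finset.sum_const, Finset.card_univ, nsmul_eq_mul, Nat.card_eq_fintype_card]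

theorem orbit_card_odd (hH2 : IsPGroup 2 H) (hab : IsMulCommutative H) (hcl : IsExtremelyClosed H)
    [Fintype H] {z : G} (hzH : z ∈ H) {P : Sylow 2 G}
    (hPN : (P : Subgroup G) ≤ Subgroup.normalizer (H : Set G))
    (hPz : (P : Subgroup G) ≤ Subgroup.centralizer ({z} : Set G))
    [DecidablePred fun a : H => IsConj z (a : G)] :
    ¬ 2 ∣ (Finset.univ.filter fun a : H => IsConj z (a : G)).card := by
  classical
  haveI : Fact (Nat.Prime 2) := ⟨Nat.prime_two⟩
  set N := Subgroup.normalizer (H : Set G) with hN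
  set St := (Subgroup.centralizer ({z} : Set G)).subgroupOf N with hSt
  have hwell : ∀ a b : N, QuotientGroup.leftRel St a b →
      (a : G) * z * (a : G)⁻¹ = (b : G) * z * (b : G)⁻¹ := by
    intro a b hr
    rw [QuotientGroup.leftRel_apply, hSt, Subgroup.mem_subgroupOf,
      Subgroup.mem_centralizer_singleton_iff] at hr
    simp only [Subgroup.coe_mul, Subgroup.coe_inv] at hr
    calc (a : G) * z * (a : G)⁻¹ = (a : G) * (z * ((a : G)⁻¹ * b)) * (b : G)⁻¹ := by group
      _ = (a : G) * ((a : G)⁻¹ * b * z) * (b : G)⁻¹ := by rw [hr]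
      _ = _ := by group
  let f : N ⧸ St → {a : H // IsConj z (a : G)} := Quotient.lift
    (fun a : N => ⟨⟨(a : G) * z * (a : G)⁻¹, (Subgroup.mem_normalizer_iff.1 a.2 z).1 hzH⟩,
      isConj_iff.2 ⟨a, rfl⟩⟩)
    (fun a b hr => Subtype.ext (Subtype.ext (hwell a b hr)))
  have hf : Function.Bijective f := by
    constructor
    · rintro ⟨a⟩ ⟨b⟩ he
      refine Quotient.sound (?_ : QuotientGroup.leftRel St a b)
      have he' : (a : G) * z * (a : G)⁻¹ = (b : G) * z * (b : G)⁻¹ :=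
        congrArg (fun c : {a : H // IsConj z (a : G)} => ((c : H) : G)) he
      rw [QuotientGroup.leftRel_apply, hSt, Subgroup.mem_subgroupOf,
        Subgroup.mem_centralizer_singleton_iff]
      simp only [Subgroup.coe_mul, Subgroup.coe_inv]
      calc (a : G)⁻¹ * b * z = (a : G)⁻¹ * ((b : G) * z * (b : G)⁻¹) * b := by group
        _ = (a : G)⁻¹ * ((a : G) * z * (a : G)⁻¹) * b := by rw [he']
        _ = _ := by group
    · rintro ⟨⟨a, ha⟩, hc⟩
      obtain ⟨g, hg⟩ := isConj_iff.1 hc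
      obtain ⟨n, hn, e⟩ := exists_fusion hH2 hab hcl hzH ha hg
      exact ⟨QuotientGroup.mk ⟨n, hn⟩, Subtype.ext (Subtype.ext e)⟩
  have hcard : (Finset.univ.filter fun a : H => IsConj z (a : G)).card = St.index := by
    rw [Subgroup.index, Nat.card_congr (Equiv.ofBijective f hf), Nat.card_eq_fintype_card,
      Fintype.card_subtype]
  rw [hcard]
  have hPSt : Nat.card (P : Subgroup G) ∣ Nat.card St := by
    rw [← Nat.card_congr (Subgroup.subgroupOfEquivOfLe hPN).toEquiv]
    exact Subgroup.card_dvd_of_le fun x hx => hPz hx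
  intro h2
  have h3 : Nat.card (P : Subgroup G) * 2 ∣ Nat.card G :=
    ((mul_dvd_mul hPSt h2).trans (dvd_of_eq St.card_mul_index)).trans
      (Subgroup.card_subgroup_dvd_card N)
  rw [← (P : Subgroup G).card_mul_index, Nat.mul_dvd_mul_iff_left Nat.card_pos] at h3
  exact P.not_dvd_index h3

set_option maxHeartbeats 1600000 in
/-- The key step. -/
theorem eq_of_isConj (hM : IsPModular 2 M) (hH2 : IsPGroup 2 H) (hab : IsMulCommutative H)
    (hcl : IsExtremelyClosed H)
    (hgen : ∀ K : Subgroup G, K.Normal → H ≤ K → K = ⊤)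
    (hval : ∀ χ ∈ principalBlock M G, ∀ g : G, ∀ k ∈ core H g, ∀ a ∈ H, a ≠ 1 →
      (χ : G → ℂ) (k * a) = (χ : G → ℂ) a)
    {z : G} (hzH : z ∈ H) (hz : orderOf z = 2) {P : Sylow 2 G}
    (hPN : (P : Subgroup G) ≤ Subgroup.normalizer (H : Set G))
    (hPz : (P : Subgroup G) ≤ Subgroup.centralizer ({z} : Set G))
    {a₀ : G} (ha₀ : a₀ ∈ H) (hc₀ : IsConj z a₀) : a₀ = z := by
  classical
  haveI : Fact (Nat.Prime 2) := ⟨Nat.prime_two⟩
  cases nonempty_fintype G
  by_contra hne
  set S := Finset.univ.filter (fun χ : IrrCharacter G => χ ∈ principalBlock M G) with hS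
  have hSmem : ∀ {χ}, χ ∈ S → χ ∈ principalBlock M G := fun h => (Finset.mem_filter.1 h).2
  set h : ℕ := Nat.card H with hh
  have hpow : ∀ {x : G}, x ∈ H → ∃ k : ℕ, orderOf x = 2 ^ k := fun hx => pPow_of_mem hH2 hx
  have hz1 : z ≠ 1 := Invol.ne_one_of_orderOf_two hz
  -- the multiplicity of the trivial character of `H`
  have hTd : ∀ χ : IrrCharacter G, ∃ d : ℕ, (∑ a : H, (χ : G → ℂ) a) = (h : ℂ) * d := by
    intro χ
    obtain ⟨d, hd⟩ := Cfsg.Agent.Char.IsChar.classInner_nat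
      (Cfsg.Agent.Char.IsChar.res (irr_isChar χ) H) (Cfsg.Agent.Char.IsChar.one (G := H))
    refine ⟨d, ?_⟩
    rw [← hd, classInner, hh, ← mul_assoc,
      mul_inv_cancel₀ (Nat.cast_ne_zero.2 Nat.card_pos.ne'), one_mul]
    simp
  choose d hd using hTd
  set e : IrrCharacter G → ℕ := fun χ => charDegree (χ : G → ℂ) with he
  have he1 : ∀ χ : IrrCharacter G, (χ : G → ℂ) 1 = (e χ : ℂ) := fun χ => charDeg_spec' χ
  have hepos : ∀ χ, (0 : ℝ) < (e χ : ℝ) := fun χ => Nat.cast_pos.2 (charDeg_pos χ)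
  set y : IrrCharacter G → ℝ := fun χ => (h : ℝ) * d χ - e χ with hy
  have hyC : ∀ χ, ((y χ : ℝ) : ℂ) = (∑ a : H, (χ : G → ℂ) a) - (χ : G → ℂ) 1 := fun χ => by
    rw [hd, he1]; simp [hy]
  have hyerase : ∀ χ, ((y χ : ℝ) : ℂ) = ∑ a ∈ Finset.univ.erase (1 : H), (χ : G → ℂ) a := fun χ => by
    rw [hyC, Finset.sum_erase_eq_sub (Finset.mem_univ _), OneMemClass.coe_one]
  -- orthogonality
  have horth : ∀ x : G, ¬ 2 ∣ orderOf x →
      ∑ χ ∈ S, (χ : G → ℂ) x * ((y χ : ℝ) : ℂ) = 0 := by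
    intro x hx
    simp only [hyerase, Finset.mul_sum]
    rw [Finset.sum_comm]
    refine Finset.sum_eq_zero fun a ha => ?_
    have ha1 : (a : G)⁻¹ ≠ 1 := fun h1 => (Finset.mem_erase.1 ha).1 (Subtype.ext (inv_eq_one.1 h1))
    obtain ⟨k, hk⟩ := hpow (inv_mem a.2)
    have h2 : 2 ∣ orderOf ((a : G)⁻¹) := by
      rcases Nat.eq_zero_or_pos k with rfl | hk0
      · rw [pow_zero, orderOf_eq_one_iff] at hk
        exact absurd hk ha1
      · rw [hk]; exact dvd_pow_self 2 hk0.ne'
    have := weak_orth hM (isPBlock_principalBlock (G := G)) hx h2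
    rw [finsum_mem_block] at this
    rw [← this]
    refine Finset.sum_congr rfl fun χ _ => ?_
    rw [irr_apply_inv, Complex.conj_conj]
  -- pairs of conjugates
  have hR : ∀ g : G, ∃ n ∈ Subgroup.normalizer (H : Set G), ∀ a b : H,
      ∑ χ ∈ S, (χ : G → ℂ) ((a : G) * (g * b * g⁻¹)) * ((y χ : ℝ) : ℂ) =
        ∑ χ ∈ S, (χ : G → ℂ) ((a : G) * (n * b * n⁻¹)) * ((y χ : ℝ) : ℂ) := by
    intro g
    obtain ⟨k, hk, hn⟩ := exists_conj_core hH2 hab hcl g
    refine ⟨k⁻¹ * g, hn, fun a b => ?_⟩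
    set b' := k⁻¹ * g * b * (k⁻¹ * g)⁻¹ with hb'
    have hb'H : b' ∈ H := (Subgroup.mem_normalizer_iff.1 hn b).1 b.2
    set k'' := ((a : G) * k * (a : G)⁻¹) * ((a : G) * b' * k⁻¹ * ((a : G) * b')⁻¹) with hk''
    have hk''K : k'' ∈ core H g := mul_mem (conj_mem_core (le_join g a.2) hk)
      (conj_mem_core (le_join g (mul_mem a.2 hb'H)) (inv_mem hk))
    have e1 : (a : G) * (g * b * g⁻¹) = k'' * ((a : G) * b') := by
      rw [hk'', hb']; group
    rw [e1]
    by_cases h1 : (a : G) * b' = 1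
    · rw [h1, mul_one, horth _ (not_dvd_orderOf (core_odd g) hk''K),
        horth 1 (by rw [orderOf_one]; norm_num)]
    · exact Finset.sum_congr rfl fun χ hχ => by
        rw [hval χ (hSmem hχ) g k'' hk''K _ (mul_mem a.2 hb'H) h1]
  -- the third moment
  have hmoment : ∑ χ ∈ S, y χ * ((h : ℝ) * d χ) ^ 2 / e χ =
      (h : ℝ) * ∑ χ ∈ S, y χ * ((h : ℝ) * d χ) := by
    have hGne : (Nat.card G : ℂ) ≠ 0 := Nat.cast_ne_zero.2 Nat.card_pos.ne'
    have hL : ∀ χ : IrrCharacter G, ∑ g : G, ∑ a : H, ∑ b : H, (χ : G → ℂ) ((a : G) * (g * b * g⁻¹)) =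
        (Nat.card G : ℂ) * ((h : ℂ) * d χ) ^ 2 / (χ : G → ℂ) 1 := by
      intro χ
      rw [Finset.sum_comm, Finset.sum_congr rfl fun a _ => Finset.sum_comm]
      simp only [sum_mul_conj]
      rw [← hd, sq, Finset.sum_mul_sum, Finset.mul_sum, Finset.sum_div]
      refine Finset.sum_congr rfl fun a _ => ?_
      rw [Finset.mul_sum, Finset.sum_div]
      exact Finset.sum_congr rfl fun b _ => by ring
    have key : ∑ χ ∈ S, (∑ g : G, ∑ a : H, ∑ b : H, (χ : G → ℂ) ((a : G) * (g * b * g⁻¹))) *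
        ((y χ : ℝ) : ℂ) = (Nat.card G : ℂ) * ((h : ℂ) * ∑ χ ∈ S, ((h : ℂ) * d χ) * ((y χ : ℝ) : ℂ)) := by
      simp only [Finset.sum_mul]
      rw [Finset.sum_comm]
      have hg : ∀ g : G, ∑ χ ∈ S, ∑ a : H, ∑ b : H,
          (χ : G → ℂ) ((a : G) * (g * b * g⁻¹)) * ((y χ : ℝ) : ℂ) =
            (h : ℂ) * ∑ χ ∈ S, ((h : ℂ) * d χ) * ((y χ : ℝ) : ℂ) := by
        intro g
        obtain ⟨n, hn, hn2⟩ := hR g
        rw [Finset.sum_comm, Finset.sum_congr rfl fun a _ => Finset.sum_comm]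
        simp only [hn2]
        let φ : H → H := fun b => ⟨n * b * n⁻¹, (Subgroup.mem_normalizer_iff.1 hn b).1 b.2⟩
        have hφ : Function.Bijective φ := Finite.injective_iff_bijective.1 fun b c hbc =>
          Subtype.ext (mul_left_cancel (mul_right_cancel (congrArg Subtype.val hbc)))
        rw [Finset.sum_congr rfl fun (a : H) _ => Fintype.sum_bijective φ hφ
          (fun b : H => ∑ χ ∈ S, (χ : G → ℂ) ((a : G) * (n * b * n⁻¹)) * ((y χ : ℝ) : ℂ))
          (fun b : H => ∑ χ ∈ S, (χ : G → ℂ) ((a : G) * (b : G)) * ((y χ : ℝ) : ℂ)) fun b => rfl,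
          sum_mul_self H (fun x => ∑ χ ∈ S, (χ : G → ℂ) x * ((y χ : ℝ) : ℂ)), Finset.sum_comm]
        simp only [← Finset.sum_mul, hd]
        rfl
      rw [Finset.sum_congr rfl fun g _ => hg g, Finset.sum_const, Finset.card_univ, nsmul_eq_mul,
        Nat.card_eq_fintype_card]
    rw [← Complex.ofReal_inj]
    refine mul_left_cancel₀ hGne ?_
    push_cast
    rw [Finset.mul_sum (a := (Nat.card G : ℂ))]
    refine Eq.trans (Finset.sum_congr rfl fun χ _ => ?_) (key.trans ?_)
    · rw [hL χ, he1]; ring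
    · congr 2
      exact Finset.sum_congr rfl fun χ _ => by ring
  -- the first moment
  have hfirst : ∑ χ ∈ S, y χ * (e χ : ℝ) = 0 := by
    rw [← Complex.ofReal_inj]
    push_cast
    rw [← horth 1 (by rw [orderOf_one]; norm_num)]
    exact Finset.sum_congr rfl fun χ _ => by rw [he1]; ring
  have hcube : ∑ χ ∈ S, y χ ^ 3 / e χ = ((h : ℝ) - 2) * ∑ χ ∈ S, y χ ^ 2 := by
    have h1 : ∀ χ : IrrCharacter G, y χ ^ 3 / e χ =
        y χ * ((h : ℝ) * d χ) ^ 2 / e χ - 2 * (y χ * ((h : ℝ) * d χ)) + y χ * e χ := by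
      intro χ
      have := (hepos χ).ne'
      field_simp
      simp only [hy]
      ring
    have h2 : ∑ χ ∈ S, y χ ^ 2 = ∑ χ ∈ S, y χ * ((h : ℝ) * d χ) - ∑ χ ∈ S, y χ * e χ := by
      rw [← Finset.sum_sub_distrib]
      exact Finset.sum_congr rfl fun χ _ => by simp only [hy]; ring
    simp only [h1]
    rw [Finset.sum_add_distrib, Finset.sum_sub_distrib, ← Finset.mul_sum, hmoment, h2, hfirst]
    ring
  -- the bound for nontrivial characters
  have hbound : ∀ χ ∈ S, χ ≠ trivialIrr G → ((h : ℝ) - 1) * y χ ≤ e χ := by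
    intro χ hχ hχne
    have hde : d χ < e χ := by
      have hle : ∀ a : H, ((χ : G → ℂ) a).re ≤ (e χ : ℝ) := fun a =>
        (Complex.re_le_norm _).trans ((Cfsg.Agent.Char.IsChar.norm_le (irr_isChar χ) a).trans
          (by rw [he1, Complex.norm_natCast]))
      have hsum : ∑ a : H, ((χ : G → ℂ) a).re = (h : ℝ) * d χ := by
        rw [← Complex.re_sum, hd]; simp
      by_contra hcon
      push Not at hcon
      have hall : ∀ a : H, ((χ : G → ℂ) a).re = (e χ : ℝ) := by
        intro a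
        refine (Finset.sum_eq_sum_iff_of_le fun b _ => hle b).1 (le_antisymm
          (Finset.sum_le_sum fun b _ => hle b) ?_) a (Finset.mem_univ a)
        rw [hsum, Finset.sum_const, Finset.card_univ, nsmul_eq_mul, hh, Nat.card_eq_fintype_card]
        exact mul_le_mul_of_nonneg_left (Nat.cast_le.2 hcon) (Nat.cast_nonneg _)
      have hK : H ≤ Cfsg.Agent.Char.charKer (irr_isChar χ) := fun a ha =>
        (Cfsg.Agent.Char.mem_charKer _).2 (by
          rw [he1, Cfsg.Agent.Char.eq_ofReal_of_re_eq (hall ⟨a, ha⟩) (by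
            have := Cfsg.Agent.Char.IsChar.norm_le (irr_isChar χ) a
            rwa [he1, Complex.norm_natCast] at this)]
          simp)
      have htop := hgen _ (Cfsg.Agent.Char.charKer_normal _) hK
      have hconst : ∀ g : G, (χ : G → ℂ) g = (e χ : ℂ) := fun g => by
        rw [← he1]; exact (Cfsg.Agent.Char.mem_charKer _).1 (htop ▸ Subgroup.mem_top g)
      have hn := Cfsg.Agent.Char.classInner_self_irr χ.2
      simp only [classInner, hconst, Complex.conj_natCast, Finset.sum_const, Finset.card_univ,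
        nsmul_eq_mul, Nat.card_eq_fintype_card] at hn
      rw [← mul_assoc, inv_mul_cancel₀ (Nat.cast_ne_zero.2 Fintype.card_pos.ne'), one_mul] at hn
      have he2 : e χ = 1 := by
        have : e χ * e χ = 1 := by exact_mod_cast hn
        exact Nat.eq_one_of_mul_eq_one_right this
      exact hχne (Subtype.ext (funext fun g => by rw [hconst, he2, Nat.cast_one]; rfl))
    -- the averages over the pairs
    have hpair : ∀ g : G, (h : ℝ) ^ 2 * y χ ≤
        ((h : ℝ) - 1) * (∑ a : H, ∑ b : H, (χ : G → ℂ) ((a : G) * (g * b * g⁻¹))).re := by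
      intro g
      set L := join H g with hL
      set K := core H g with hK
      set B := H.map (MulAut.conj g).toMonoidHom with hB
      let ψ : K × H → L := fun p => ⟨p.1 * p.2, mul_mem (core_le g p.1.2) (le_join g p.2.2)⟩
      have hψ : Function.Bijective ψ := by
        constructor
        · rintro ⟨k, a⟩ ⟨k', a'⟩ hpp
          obtain ⟨e1, e2⟩ := dec_unique hH2 k.2 k'.2 a.2 a'.2 (congrArg Subtype.val hpp)
          exact Prod.ext (Subtype.ext e2) (Subtype.ext e1)
        · intro x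
          obtain ⟨k, hk, a, ha, e1⟩ := exists_dec hH2 hab hcl x.2
          exact ⟨(⟨k, hk⟩, ⟨a, ha⟩), Subtype.ext e1.symm⟩
      have hcardL : (Nat.card L : ℝ) = Nat.card K * (h : ℝ) := by
        rw [← Nat.card_congr (Equiv.ofBijective ψ hψ), Nat.card_prod, Nat.cast_mul]
      have hSL : (∑ l : L, (χ : G → ℂ) l) =
          (∑ k : K, (χ : G → ℂ) k) + (Nat.card K : ℂ) * ((y χ : ℝ) : ℂ) := by
        rw [← Fintype.sum_bijective ψ hψ (fun p => (χ : G → ℂ) ((p.1 : G) * (p.2 : G))) _ fun p => rfl,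
          Fintype.sum_prod_type, hyerase, Finset.mul_sum]
        rw [Finset.sum_comm, ← Finset.add_sum_erase _ _ (Finset.mem_univ (1 : H))]
        congr 1
        · exact Finset.sum_congr rfl fun k _ => by simp
        · refine Finset.sum_congr rfl fun a ha => ?_
          rw [Finset.sum_congr rfl fun (k : K) _ => hval χ (hSmem hχ) g k k.2 a a.2
            fun h1 => (Finset.mem_erase.1 ha).1 (Subtype.ext h1), Finset.sum_const, Finset.card_univ,
            nsmul_eq_mul, Nat.card_eq_fintype_card]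
      have i1 := mul_sum_le_of_le χ (core_le (H := H) g) (core_le (H := H) g)
      rw [sum_mul_self K, ← hK, ← hL, hcardL, ← Complex.ofReal_natCast, Complex.re_ofReal_mul] at i1
      have i2 := mul_sum_le_of_le χ (A := H) (B := B) (L := L) (le_join g) le_sup_right
      have hBc : (Nat.card B : ℝ) = (h : ℝ) := by
        rw [hB, Subgroup.card_map_of_injective (MulAut.conj g).injective]
      have hSB : (∑ a : H, ∑ b : B, (χ : G → ℂ) ((a : G) * (b : G))) =
          ∑ a : H, ∑ b : H, (χ : G → ℂ) ((a : G) * (g * b * g⁻¹)) :=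
        Finset.sum_congr rfl fun a _ => (Fintype.sum_equiv
          (Subgroup.equivMapOfInjective H _ (MulAut.conj g).injective).toEquiv
          (fun b : H => (χ : G → ℂ) ((a : G) * (g * b * g⁻¹)))
          (fun b : B => (χ : G → ℂ) ((a : G) * (b : G))) fun b => rfl).symm
      rw [hSB, hBc, hcardL] at i2
      rw [hSL, Complex.add_re, ← Complex.ofReal_natCast, Complex.re_ofReal_mul, Complex.ofReal_re]
        at i1 i2
      have hKpos : (0 : ℝ) < (Nat.card K : ℝ) := Nat.cast_pos.2 Nat.card_pos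
      have hhpos : (0 : ℝ) < (h : ℝ) := Nat.cast_pos.2 Nat.card_pos
      have hh1 : (1 : ℝ) ≤ (h : ℝ) := Nat.one_le_cast.2 Nat.card_pos
      set A := (∑ k : K, (χ : G → ℂ) k).re
      set X := (∑ a : H, ∑ b : H, (χ : G → ℂ) ((a : G) * (g * b * g⁻¹))).re
      have j1 : (Nat.card K : ℝ) * y χ ≤ ((h : ℝ) - 1) * A :=
        le_of_mul_le_mul_left (a := (Nat.card K : ℝ) * Nat.card K) (by nlinarith) (mul_pos hKpos hKpos)
      have j2 : (h : ℝ) * (A + Nat.card K * y χ) ≤ Nat.card K * X :=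
        le_of_mul_le_mul_left (a := (h : ℝ)) (by nlinarith) hhpos
      refine le_of_mul_le_mul_left (a := (Nat.card K : ℝ)) ?_ hKpos
      have j3 := mul_le_mul_of_nonneg_left j2 (sub_nonneg.2 hh1)
      have j4 := mul_le_mul_of_nonneg_left j1 hhpos.le
      nlinarith
    have havg : (h : ℝ) ^ 2 * y χ * e χ ≤ ((h : ℝ) - 1) * ((h : ℝ) * d χ) ^ 2 := by
      have hs := Finset.sum_le_sum (s := Finset.univ) fun g (_ : g ∈ _) => hpair g
      simp only [← Finset.mul_sum, ← Complex.re_sum, Finset.sum_const, Finset.card_univ,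
        nsmul_eq_mul] at hs
      rw [Finset.sum_comm, Finset.sum_congr rfl fun a _ => Finset.sum_comm] at hs
      simp only [sum_mul_conj] at hs
      rw [show (∑ a : H, ∑ b : H, (Nat.card G : ℂ) * (χ : G → ℂ) a * (χ : G → ℂ) b / (χ : G → ℂ) 1) =
          (((Nat.card G : ℝ) * ((h : ℝ) * d χ) ^ 2 / e χ : ℝ) : ℂ) by
        simp only [he1, ← Finset.sum_div, ← Finset.mul_sum, ← Finset.sum_mul, hd]
        push_cast; ring, Complex.ofReal_re, ← Nat.card_eq_fintype_card] at hs
      have hG : (0 : ℝ) < (Nat.card G : ℝ) := Nat.cast_pos.2 Nat.card_pos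
      have hep := hepos χ
      rw [mul_div_assoc', le_div_iff₀ hep] at hs
      refine le_of_mul_le_mul_left (a := (Nat.card G : ℝ)) ?_ hG
      linarith
    have h2 : y χ * e χ ≤ ((h : ℝ) - 1) * (d χ : ℝ) ^ 2 := by
      refine le_of_mul_le_mul_left (a := (h : ℝ) ^ 2) ?_ (pow_pos (Nat.cast_pos.2 Nat.card_pos) 2)
      linarith
    have hde' : (d χ : ℝ) + 1 ≤ (e χ : ℝ) := by exact_mod_cast hde
    have h3 : ((h : ℝ) - 1) * d χ ≤ e χ := by
      by_contra hcon
      push Not at hcon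
      simp only [hy] at h2
      nlinarith [mul_pos (sub_pos.2 hcon) (show (0 : ℝ) < e χ - d χ by linarith)]
    simp only [hy]
    nlinarith [mul_le_mul_of_nonneg_left h3 (Nat.cast_nonneg (α := ℝ) h)]
  -- the involution
  have hz2 : z * z = 1 := Invol.mul_self_of_orderOf_two hz
  choose zv hzv using fun χ : IrrCharacter G => char_involution_int χ hz2
  set Ω := Finset.univ.filter fun a : H => IsConj z (a : G) with hΩ
  set n := Ω.card with hn
  set Q : ℤ := ∑ χ ∈ S, zv χ * zv χ with hQ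
  have hz_orth : ∀ a : H, ∑ χ ∈ S, (zv χ : ℂ) * (χ : G → ℂ) a =
      if IsConj z (a : G) then (Q : ℂ) else 0 := by
    intro a
    split_ifs with hc
    · rw [hQ]; push_cast
      refine Finset.sum_congr rfl fun χ _ => ?_
      rw [← Cfsg.Agent.Char.IsClass.eq_of_isConj (irr_classFun χ) hc, hzv]
    · have := principal_pElem_orth hM (y := z) (x := (a : G)) ⟨1, by rw [hz, pow_one]⟩ (hpow a.2) hc
      rw [finsum_mem_block] at this
      have h2 := congrArg conj this
      rw [map_zero, map_sum] at h2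
      rw [← h2]
      refine Finset.sum_congr rfl fun χ _ => ?_
      rw [map_mul, Complex.conj_conj, hzv, map_intCast]
  have hzT : ∑ χ ∈ S, zv χ * ((h : ℤ) * d χ) = (n : ℤ) * Q := by
    apply Int.cast_injective (α := ℂ)
    push_cast
    simp only [← hd, Finset.mul_sum]
    rw [Finset.sum_comm, Finset.sum_congr rfl fun a _ => hz_orth a, ← Finset.sum_filter,
      Finset.sum_const, nsmul_eq_mul]
  have hze : ∑ χ ∈ S, zv χ * (e χ : ℤ) = 0 := by
    apply Int.cast_injective (α := ℂ)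
    push_cast
    simp only [← he1]
    simpa [isConj_one_left, hz1] using hz_orth 1
  have htS : trivialIrr G ∈ S :=
    Finset.mem_filter.2 ⟨Finset.mem_univ _, trivial_mem_principalBlock hM⟩
  have ht1 : zv (trivialIrr G) = 1 := by
    have := hzv (trivialIrr G)
    rw [show (trivialIrr G : G → ℂ) z = 1 from rfl] at this
    exact_mod_cast this.symm
  have hQpos : 0 < Q := lt_of_lt_of_le (by rw [ht1]; norm_num)
    (Finset.single_le_sum (f := fun χ => zv χ * zv χ) (fun χ _ => mul_self_nonneg _) htS)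
  have hodd : ¬ 2 ∣ n := orbit_card_odd hH2 hab hcl hzH hPN hPz
  have hn2 : 1 < n := Finset.one_lt_card.2 ⟨⟨z, hzH⟩,
    Finset.mem_filter.2 ⟨Finset.mem_univ _, IsConj.refl z⟩, ⟨a₀, ha₀⟩,
    Finset.mem_filter.2 ⟨Finset.mem_univ _, hc₀⟩, fun h1 => hne (congrArg Subtype.val h1).symm⟩
  have hn3 : 3 ≤ n := by omega
  have hnh : n + 1 ≤ h := by
    have h1 : (1 : H) ∉ Ω := fun hm => hz1 (isConj_one_left.1 (Finset.mem_filter.1 hm).2)
    have h2 : Ω.card < (Finset.univ : Finset H).card :=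
      Finset.card_lt_card ⟨Finset.subset_univ _, fun h3 => h1 (h3 (Finset.mem_univ _))⟩
    rw [hh, Nat.card_eq_fintype_card]
    exact h2
  have hQh : (h : ℤ) ≤ Q := by
    obtain ⟨k, hk⟩ := IsPGroup.iff_card.1 hH2
    have hdvd : (h : ℤ) ∣ (n : ℤ) * Q :=
      ⟨∑ χ ∈ S, zv χ * d χ, by rw [← hzT, Finset.mul_sum]; exact Finset.sum_congr rfl fun χ _ => by ring⟩
    have hco : Int.gcd (h : ℤ) (n : ℤ) = 1 := by
      rw [Int.gcd_natCast_natCast, hh, hk]
      exact (Nat.prime_two.coprime_iff_not_dvd.2 hodd).pow_left k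
    exact Int.le_of_dvd hQpos (Int.dvd_of_dvd_mul_right_of_gcd_one hdvd hco)
  -- the sum of the squares
  have hzy : ∑ χ ∈ S, (zv χ : ℝ) * y χ = (n : ℝ) * (Q : ℝ) := by
    have h1 : ∑ χ ∈ S, zv χ * (((h : ℤ) * d χ) - e χ) = (n : ℤ) * Q := by
      simp only [mul_sub, Finset.sum_sub_distrib, hzT, hze, sub_zero]
    have h2 := congrArg (fun t : ℤ => (t : ℝ)) h1
    simp only [hy]
    push_cast at h2
    exact h2
  have hd1 : d (trivialIrr G) = 1 := by
    have h1 := hd (trivialIrr G)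
    simp only [show ∀ g, (trivialIrr G : G → ℂ) g = 1 from fun _ => rfl, Finset.sum_const,
      Finset.card_univ, nsmul_eq_mul, mul_one, hh, Nat.card_eq_fintype_card] at h1
    have : Fintype.card H = Fintype.card H * d (trivialIrr G) := by exact_mod_cast h1
    exact Nat.eq_of_mul_eq_mul_left Fintype.card_pos (by rw [← this, mul_one])
  have he0 : e (trivialIrr G) = 1 := charDeg_trivial
  set m : ℝ := (h : ℝ) - 1 with hm
  have hy0 : y (trivialIrr G) = m := by simp [hy, hd1, he0, hm]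
  have hsq : (n : ℝ) ^ 2 * Q + (m - n) ^ 2 ≤ ∑ χ ∈ S, y χ ^ 2 := by
    have h1 := Finset.single_le_sum (f := fun χ => (y χ - n * zv χ) ^ 2)
      (fun χ _ => sq_nonneg _) htS
    have h2 : ∑ χ ∈ S, (y χ - n * zv χ) ^ 2 = ∑ χ ∈ S, y χ ^ 2 - (n : ℝ) ^ 2 * Q := by
      simp only [sub_sq, Finset.sum_add_distrib, Finset.sum_sub_distrib, mul_pow, ← Finset.mul_sum]
      rw [Finset.sum_congr rfl fun χ _ =>
        show (2 * y χ * (n * (zv χ : ℝ))) = 2 * (n : ℝ) * ((zv χ : ℝ) * y χ) by ring,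
        ← Finset.mul_sum, hzy, hQ]
      push_cast
      simp only [sq]
      ring
    rw [h2] at h1
    simp only [hy0, ht1, Int.cast_one, mul_one] at h1
    linarith
  set R := ∑ χ ∈ S.erase (trivialIrr G), y χ ^ 2 with hRdef
  have hS2 : ∑ χ ∈ S, y χ ^ 2 = m ^ 2 + R := by
    rw [← Finset.add_sum_erase _ _ htS, hy0]
  have hnR : (n : ℝ) + 1 ≤ (h : ℝ) := by exact_mod_cast hnh
  have hn3R : (3 : ℝ) ≤ (n : ℝ) := by exact_mod_cast hn3
  have hm3 : 3 ≤ m := by simp only [hm]; linarith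
  have hS3 : m * ∑ χ ∈ S, y χ ^ 3 / e χ ≤ m ^ 4 + R := by
    rw [← Finset.add_sum_erase _ _ htS, hy0, he0, Nat.cast_one, div_one, mul_add, hRdef,
      Finset.mul_sum, show m * m ^ 3 = m ^ 4 by ring]
    refine add_le_add le_rfl (Finset.sum_le_sum fun χ hχ => ?_)
    have hb := hbound χ (Finset.mem_of_mem_erase hχ) (Finset.ne_of_mem_erase hχ)
    rw [mul_div_assoc', div_le_iff₀ (hepos χ)]
    have := mul_le_mul_of_nonneg_left hb (sq_nonneg (y χ))
    linarith
  rw [hcube, hS2] at hS3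
  rw [hS2] at hsq
  have hQR : m + 1 ≤ (Q : ℝ) := by
    simp only [hm]
    have : ((h : ℤ) : ℝ) ≤ (Q : ℝ) := Int.cast_le.2 hQh
    simpa using this
  have hh2 : (h : ℝ) - 2 = m - 1 := by simp only [hm]; ring
  rw [hh2] at hS3
  have hlow : 3 * m + 18 ≤ R := by
    have h1 := mul_le_mul_of_nonneg_left hQR (sq_nonneg (n : ℝ))
    nlinarith [mul_nonneg (sub_nonneg.2 hn3R) (show (0 : ℝ) ≤ m by linarith),
      mul_nonneg (sub_nonneg.2 hn3R) (show (0 : ℝ) ≤ (n : ℝ) by linarith)]
  have hup : R * (m ^ 2 - m - 1) ≤ m ^ 3 := by nlinarith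
  have h5 : 0 ≤ m ^ 2 - m - 1 := by nlinarith
  have h6 := mul_le_mul_of_nonneg_right hlow h5
  nlinarith [mul_nonneg (sub_nonneg.2 hm3) (sq_nonneg m), mul_nonneg (sub_nonneg.2 hm3)
    (show (0 : ℝ) ≤ m by linarith)]

end Cfsg.Agent.ExtClosed
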