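import Mathlib
import Cfsg.Agent.Lib.Transfer.HallWielandt

/-!
The transfer from a group into the quotient of an involution centralizer `H` by a subgroup containing
its "squares-to-commutator" elements, for `O₂(H)` extraspecial and self-centralizing.
-/

set_option autoImplicit false

namespace Cfsg.Agent.Invol.ExtraTransfer

open Cfsg.Agent.Transfer.HallWielandt
open scoped commutatorElement

variable {G : Type*} [Group G]

theorem abelianization_of_surjective {U : Type*} [Group U] :
    Function.Surjective (Abelianization.of : U →* Abelianization U) := fun w => QuotientGroup.mk_surjective w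

theorem prod_univ_elem_two {U : Type*} [CommGroup U] [Fintype U] (h : ∀ u : U, u * u = 1)
    (h3 : 3 ≤ Fintype.card U) : ∏ u : U, u = 1 := by
  classical
  have claim : ∀ a : U, a ≠ 1 → ∏ u : U, u = 1 ∨ ∏ u : U, u = a := by
    intro a ha
    have hN : (QuotientGroup.mk' (Subgroup.zpowers a)) (∏ u : U, u) = 1 := by
      rw [map_prod]
      refine Finset.prod_involution (fun u _ => u * a) (fun u _ => ?_) (fun u _ _ => ?_) (fun u _ => Finset.mem_univ _)
        (fun u _ => by rw [mul_assoc, h, mul_one])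
      · rw [← map_mul, ← mul_assoc, h, one_mul]
        exact (QuotientGroup.eq_one_iff _).mpr (Subgroup.mem_zpowers a)
      · exact fun hc => ha (mul_eq_left.mp hc)
    obtain ⟨i, hi⟩ := (QuotientGroup.eq_one_iff _).mp hN
    rw [← hi]
    have h2 : a ^ (2 : ℤ) = 1 := by rw [zpow_two]; exact h a
    rcases Int.even_or_odd' i with ⟨j, rfl | rfl⟩
    · left; show a ^ (2 * j) = 1; rw [zpow_mul, h2, one_zpow]
    · right; show a ^ (2 * j + 1) = a; rw [zpow_add, zpow_mul, h2, one_zpow, one_mul, zpow_one]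
  obtain ⟨a, ha, b, hb, hab⟩ := Finset.one_lt_card.mp (show 1 < (Finset.univ.erase (1 : U)).card by
    rw [Finset.card_erase_of_mem (Finset.mem_univ _), Finset.card_univ]; omega)
  rcases claim a (Finset.mem_erase.mp ha).1 with h1 | h1
  · exact h1
  · rcases claim b (Finset.mem_erase.mp hb).1 with h2 | h2
    · exact h2
    · exact absurd (h1.symm.trans h2) hab

section
variable {H : Subgroup G} {A : Type*} [CommGroup A]

open Classical in
/-- The term of `q` in the transfer of `x` computed with the section `s`. -/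
noncomputable def term (φ : H →* A) (s : G ⧸ H → G) (x : G) (q : G ⧸ H) : A :=
  if h : (s (x • q))⁻¹ * x * s q ∈ H then φ ⟨_, h⟩ else 1

theorem transfer_eq_prod_term [Finite G] [Fintype (G ⧸ H)] (φ : H →* A) (s : G ⧸ H → G)
    (hs : ∀ q, (s q : G ⧸ H) = q) (x : G) : φ.transfer x = ∏ q : G ⧸ H, term φ s x q := by
  let T : H.LeftTransversal := ⟨Set.range s, Subgroup.isComplement_range_left hs⟩
  rw [MonoidHom.transfer_def φ T, ← Equiv.prod_comp (MulAction.toPerm x⁻¹) (fun q => term φ s x q)]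
  unfold Subgroup.leftTransversals.diff
  refine Finset.prod_congr (Finset.ext fun _ => by simp) fun q _ => ?_
  have hT : ∀ p, (T.2.leftQuotientEquiv p : G) = s p := fun p => Subgroup.IsComplement.leftQuotientEquiv_apply hs p
  have hmem : (s (x • (x⁻¹ • q)))⁻¹ * x * s (x⁻¹ • q) ∈ H := by
    rw [mul_assoc, ← QuotientGroup.eq, hs, ← smul_eq_mul x, ← MulAction.Quotient.smul_mk, hs]
  rw [MulAction.toPerm_apply, term, dif_pos hmem]
  refine congrArg φ (Subtype.ext ?_)
  show _ = (s ((x : G) • (x⁻¹ • q)))⁻¹ * x * s (x⁻¹ • q)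
  simp only [Subgroup.smul_apply_eq_smul_apply_inv_smul, hT, smul_inv_smul, smul_eq_mul, mul_assoc]

theorem fixVal_mul [Finite G] (φ : H →* A) {a b : G} {q : G ⧸ H} (ha : a • q = q) (hb : b • q = q) :
    fixVal φ (a * b) q = fixVal φ a q * fixVal φ b q := by
  have ha' := (smul_eq_iff q).1 ha
  have hb' := (smul_eq_iff q).1 hb
  have hab' := (smul_eq_iff q).1 (show (a * b) • q = q by rw [mul_smul, hb, ha])
  rw [fixVal, dif_pos hab', fixVal, dif_pos ha', fixVal, dif_pos hb', ← map_mul]
  exact congrArg φ (Subtype.ext (by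
    show q.out⁻¹ * (a * b) * q.out = q.out⁻¹ * a * q.out * (q.out⁻¹ * b * q.out)
    group))

theorem fixVal_one [Finite G] (φ : H →* A) (q : G ⧸ H) : fixVal φ 1 q = 1 := by
  have h := fixVal_mul φ (one_smul G q) (one_smul G q)
  rw [one_mul] at h
  exact mul_eq_right.mp h.symm

end

/-- the data of the setting -/
structure Setting (z : G) (H E : Subgroup G) : Prop where
  le : E ≤ H
  zmem : z ∈ E
  zz : z * z = 1
  central : ∀ h ∈ H, h * z = z * h
  normal : ∀ h ∈ H, ∀ e ∈ E, h * e * h⁻¹ ∈ E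
  comm : ∀ a ∈ E, ∀ b ∈ E, a * b = b * a ∨ a * b = z * (b * a)
  cen : ∀ a ∈ E, (∀ b ∈ E, a * b = b * a) → a = 1 ∨ a = z
  sq : ∀ a ∈ E, a * a = 1 ∨ a * a = z
  zder : ∃ a ∈ E, ∃ b ∈ E, a * b * a⁻¹ * b⁻¹ = z
  fixed : ∀ q : G ⧸ H, (∀ k ∈ E, k • q = q) → q = ((1 : G) : G ⧸ H)

theorem transfer_eq_self_of_kills [Finite G] {z : G} {H E : Subgroup G} (S : Setting z H E) (hE2 : IsPGroup 2 E)
    {A : Type*} [CommGroup A] (hA : ∀ a : A, a * a = 1) (φ : H →* A)
    (hzval : ∀ r : G ⧸ H, r ≠ ((1 : G) : G ⧸ H) → z • r = r → fixVal φ z r = 1)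
    (htwo : ∀ r : G ⧸ H, r ≠ ((1 : G) : G ⧸ H) → z • r = r → (MulAction.stabilizer E r).index = 2 →
      ∀ c : E, (c : G) • r = r → fixVal φ (c : G) r = 1) (x : H) :
    φ.transfer (x : G) = φ x := by
  classical
  haveI := Fintype.ofFinite (G ⧸ H)
  let Ωb : G ⧸ H := ((1 : G) : G ⧸ H)
  have hEbase : ∀ k ∈ E, k • Ωb = Ωb := fun k hk => by
    rw [MulAction.Quotient.smul_mk, QuotientGroup.eq, smul_eq_mul, mul_one, mul_one]; exact inv_mem (S.le hk)
  have hHbase : ∀ k ∈ H, k • Ωb = Ωb := fun k hk => by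
    rw [MulAction.Quotient.smul_mk, QuotientGroup.eq, smul_eq_mul, mul_one, mul_one]; exact inv_mem hk
  have hzfix : ∀ k ∈ H, ∀ q : G ⧸ H, z • (k • q) = k • q ↔ z • q = q := fun k hk q => by
    rw [smul_smul, ← S.central k hk, ← smul_smul]
    exact (MulAction.injective k).eq_iff
  -- choices
  let orb : G ⧸ H → Set (G ⧸ H) := fun q => MulAction.orbit E q
  let rep : G ⧸ H → G ⧸ H := fun q => (show Set.Nonempty (MulAction.orbit E q) from ⟨q, MulAction.mem_orbit_self q⟩).some
  have hsome : ∀ {u v : Set (G ⧸ H)} (hu : u.Nonempty) (hv : v.Nonempty), u = v → hu.some = hv.some := by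
    intro u v hu hv h; subst h; rfl
  have horb_eq : ∀ {q p : G ⧸ H}, p ∈ orb q → rep p = rep q := by
    intro q p hp
    have h : MulAction.orbit E p = MulAction.orbit E q := MulAction.orbit_eq_iff.mpr hp
    exact hsome _ _ h
  have hrep_mem : ∀ q, rep q ∈ orb q := fun q => (show Set.Nonempty (MulAction.orbit E q) from ⟨q, MulAction.mem_orbit_self q⟩).some_mem
  have hrep_idem : ∀ q, rep (rep q) = rep q := fun q => horb_eq (hrep_mem q)
  have hkex : ∀ q, ∃ k : E, k • rep q = q := fun q => by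
    obtain ⟨k, hk⟩ := MulAction.mem_orbit_symm.mp (hrep_mem q)
    exact ⟨k, hk⟩
  choose kq hkq using hkex
  let m : G ⧸ H → G ⧸ H := fun q => (show Set.Nonempty ({q, z • q} : Set (G ⧸ H)) from ⟨q, Or.inl rfl⟩).some
  have hm_mem : ∀ q, m q = q ∨ m q = z • q := fun q =>
    (show Set.Nonempty ({q, z • q} : Set (G ⧸ H)) from ⟨q, Or.inl rfl⟩).some_mem
  have hm_z : ∀ q, m (z • q) = m q := fun q => by
    have h : ({z • q, z • (z • q)} : Set (G ⧸ H)) = {q, z • q} := by
      rw [smul_smul, S.zz, one_smul, Set.pair_comm]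
    exact hsome _ _ h
  let s : G ⧸ H → G := fun q =>
    if z • q = q then (kq q : G) * (rep q).out else if m q = q then q.out else z * (m q).out
  have hs : ∀ q, (s q : G ⧸ H) = q := by
    intro q
    simp only [s]
    split_ifs with h1 h2
    · rw [← smul_eq_mul, ← MulAction.Quotient.smul_mk, QuotientGroup.out_eq']
      exact hkq q
    · exact QuotientGroup.out_eq' q
    · rw [← smul_eq_mul, ← MulAction.Quotient.smul_mk, QuotientGroup.out_eq', (hm_mem q).resolve_left h2,
        smul_smul, S.zz, one_smul]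
  have hmem : ∀ (g : G) (q : G ⧸ H), (s (g • q))⁻¹ * g * s q ∈ H := fun g q => by
    rw [mul_assoc, ← QuotientGroup.eq, hs, ← smul_eq_mul g, ← MulAction.Quotient.smul_mk, hs]
  rw [transfer_eq_prod_term φ s hs, ← Finset.prod_filter_mul_prod_filter_not Finset.univ (fun q => z • q = q)]
  have hmoved : ∏ q ∈ Finset.univ.filter (fun q => ¬ z • q = q), term φ s x q = 1 := by
    refine Finset.prod_involution (fun q _ => z • q) (fun q hq => ?_) (fun q hq _ => (Finset.mem_filter.mp hq).2)
      (fun q hq => Finset.mem_filter.mpr ⟨Finset.mem_univ _, fun h => (Finset.mem_filter.mp hq).2 (MulAction.injective z h)⟩)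
      (fun q _ => by rw [smul_smul, S.zz, one_smul])
    have hq' := (Finset.mem_filter.mp hq).2
    have hsz : ∀ p : G ⧸ H, ¬ z • p = p → s (z • p) = z * s p := by
      intro p hp
      have hp' : ¬ z • (z • p) = z • p := fun h => hp (MulAction.injective z h)
      simp only [s, if_neg hp, if_neg hp', hm_z]
      by_cases h : m p = p
      · rw [if_pos h, h, if_neg (fun h' => hp h'.symm)]
      · rw [if_neg h, (hm_mem p).resolve_left h, if_pos rfl, ← mul_assoc, S.zz, one_mul]
    have hxq : ¬ z • ((x : G) • q) = (x : G) • q := fun h => hq' ((hzfix _ x.2 q).mp h)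
    have hcom : (x : G) • (z • q) = z • ((x : G) • q) := by rw [smul_smul, smul_smul, S.central _ x.2]
    have : term φ s x (z • q) = term φ s x q := by
      rw [term, dif_pos (hmem _ _), term, dif_pos (hmem _ _)]
      refine congrArg φ (Subtype.ext ?_)
      show (s ((x : G) • z • q))⁻¹ * x * s (z • q) = (s ((x : G) • q))⁻¹ * x * s q
      rw [hcom, hsz _ hxq, hsz _ hq', mul_inv_rev, mul_assoc, mul_assoc (s ((x : G) • q))⁻¹, ← mul_assoc (x : G),
        S.central _ x.2, mul_assoc z, inv_mul_cancel_left, ← mul_assoc]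
    rw [this]
    exact hA _
  rw [hmoved, mul_one]
  have hzb : z • Ωb = Ωb := hEbase z S.zmem
  have hbm : Ωb ∈ Finset.univ.filter (fun q : G ⧸ H => z • q = q) := Finset.mem_filter.mpr ⟨Finset.mem_univ _, hzb⟩
  rw [← Finset.mul_prod_erase _ _ hbm]
  have hterm : term φ s (x : G) Ωb = φ x := by
    have hsb : s Ωb ∈ H := by
      have := hs Ωb
      rwa [eq_comm, QuotientGroup.eq, inv_one, one_mul] at this
    rw [term, dif_pos (hmem _ _), show (⟨_, hmem (x : G) Ωb⟩ : H) = ⟨_, hsb⟩⁻¹ * x * ⟨_, hsb⟩ from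
      Subtype.ext (by simp only [hHbase _ x.2, Subgroup.coe_mul, Subgroup.coe_inv]), map_mul, map_mul, map_inv,
      mul_comm, mul_inv_cancel_left]
  rw [hterm]
  suffices hrest : ∏ q ∈ (Finset.univ.filter (fun q => z • q = q)).erase Ωb, term φ s x q = 1 by rw [hrest, mul_one]
  set Ω := (Finset.univ.filter (fun q => z • q = q)).erase Ωb with hΩ
  have hΩmem : ∀ q, q ∈ Ω ↔ q ≠ Ωb ∧ z • q = q := fun q => by simp [hΩ]
  have hΩH : ∀ q ∈ Ω, ∀ k ∈ H, k • q ∈ Ω := fun q hq k hk => by
    rw [hΩmem] at hq ⊢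
    exact ⟨fun h => hq.1 (MulAction.injective k (h.trans (hHbase k hk).symm)), (hzfix k hk q).mpr hq.2⟩
  have hΩrep : ∀ q ∈ Ω, rep q ∈ Ω := fun q hq => by
    obtain ⟨k, hk⟩ := hrep_mem q
    rw [← hk]
    exact hΩH q hq _ (S.le k.2)
  -- the abelianization of `E` and the invariant of an orbit
  let W := Abelianization E
  have hder : ∀ c : E, Abelianization.of c = 1 → (c : G) = 1 ∨ (c : G) = z := by
    intro c hc
    have hc' : c ∈ commutator E := by rw [← Abelianization.ker_of]; exact hc
    have key : commutator E ≤ (Subgroup.zpowers (⟨z, S.zmem⟩ : E)) := by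
      rw [commutator_def, Subgroup.commutator_le]
      intro a _ b _
      rcases S.comm a a.2 b b.2 with h | h
      · rw [show ⁅a, b⁆ = 1 from Subtype.ext (by
          simp only [commutatorElement_def, Subgroup.coe_mul, Subgroup.coe_inv, Subgroup.coe_one]
          rw [h]; group)]
        exact one_mem _
      · rw [show ⁅a, b⁆ = ⟨z, S.zmem⟩ from Subtype.ext (by
          simp only [commutatorElement_def, Subgroup.coe_mul, Subgroup.coe_inv]
          rw [h]; group)]
        exact Subgroup.mem_zpowers _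
    obtain ⟨i, hi⟩ := key hc'
    have h2 : (⟨z, S.zmem⟩ : E) ^ (2 : ℤ) = 1 := by rw [zpow_two]; exact Subtype.ext S.zz
    rcases Int.even_or_odd' i with ⟨j, rfl | rfl⟩
    · left
      have : c = 1 := by rw [← hi]; show (⟨z, S.zmem⟩ : E) ^ (2 * j) = 1; rw [zpow_mul, h2, one_zpow]
      rw [this]; rfl
    · right
      have : c = ⟨z, S.zmem⟩ := by
        rw [← hi]; show (⟨z, S.zmem⟩ : E) ^ (2 * j + 1) = _; rw [zpow_add, zpow_mul, h2, one_zpow, one_mul, zpow_one]
      rw [this]
  have hzof : Abelianization.of (⟨z, S.zmem⟩ : E) = 1 := by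
    obtain ⟨a, ha, b, hb, hab⟩ := S.zder
    rw [show (⟨z, S.zmem⟩ : E) = ⟨a, ha⟩ * ⟨b, hb⟩ * (⟨a, ha⟩)⁻¹ * (⟨b, hb⟩)⁻¹ from Subtype.ext hab.symm,
      map_mul, map_mul, map_mul, map_inv, map_inv, mul_comm (Abelianization.of (⟨a, ha⟩ : E)), mul_inv_cancel_right,
      mul_inv_cancel]
  have hWsq : ∀ w : W, w * w = 1 := by
    intro w
    obtain ⟨c, rfl⟩ := abelianization_of_surjective w
    rw [← map_mul]
    rcases S.sq c c.2 with h | h
    · rw [show c * c = 1 from Subtype.ext h, map_one]
    · rw [show c * c = ⟨z, S.zmem⟩ from Subtype.ext h, hzof]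
  have hwell : ∀ r : G ⧸ H, r ∈ Ω → z • r = r → ∀ a b : E, (a : G) • r = r → (b : G) • r = r →
      Abelianization.of a = Abelianization.of b → fixVal φ (a : G) r = fixVal φ (b : G) r := by
    intro r hrΩ hr a b ha hb hab
    rcases hder (a * b⁻¹) (by rw [map_mul, map_inv, hab, mul_inv_cancel]) with h | h
    · rw [Subgroup.coe_mul, Subgroup.coe_inv, mul_inv_eq_one] at h
      rw [h]
    · rw [Subgroup.coe_mul, Subgroup.coe_inv, mul_inv_eq_iff_eq_mul] at h
      rw [h, fixVal_mul φ hr hb, hzval r ((hΩmem r).mp hrΩ).1 hr, one_mul]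
  let O : G ⧸ H → Finset (G ⧸ H) := fun r => Finset.univ.filter (fun q => rep q = r)
  let P : G ⧸ H → W := fun r => ∏ q ∈ O r, Abelianization.of (kq q)
  let St : G ⧸ H → Subgroup E := fun r => MulAction.stabilizer E r
  let K : G ⧸ H → A := fun r => if h : ∃ a : St r, Abelianization.of (a : E) = P r then fixVal φ (h.choose : G) r else 1
  have hOorb : ∀ r, rep r = r → ∀ q, q ∈ O r ↔ q ∈ orb r := fun r hr q => by
    simp only [O, Finset.mem_filter, Finset.mem_univ, true_and]
    exact ⟨fun h => h ▸ MulAction.mem_orbit_symm.mp (hrep_mem q), fun h => (horb_eq h).trans hr⟩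
  have hOcard : ∀ r, rep r = r → (O r).card = (St r).index := fun r hr => by
    rw [MulAction.index_stabilizer, ← Set.ncard_coe_finset]
    exact congrArg Set.ncard (Set.ext fun q => hOorb r hr q)
  have hPex : ∀ r ∈ Ω, rep r = r → (St r).index ≠ 2 → ∃ a : St r, Abelianization.of (a : E) = P r := by
    intro r hr hrr hne
    have hr' := (hΩmem r).mp hr
    let W0 : Subgroup W := (St r).map Abelianization.of
    have hmk : ∀ k : E, Abelianization.of k ∈ W0 → (k : G) • r = r := by
      rintro k ⟨a, ha, hak⟩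
      rcases hder (k * a⁻¹) (by rw [map_mul, map_inv, hak, mul_inv_cancel]) with h | h
      · rw [Subgroup.coe_mul, Subgroup.coe_inv, mul_inv_eq_one] at h
        rw [h]; exact ha
      · rw [Subgroup.coe_mul, Subgroup.coe_inv, mul_inv_eq_iff_eq_mul] at h
        rw [h, mul_smul, show (a : G) • r = r from ha, hr'.2]
    haveI := Fintype.ofFinite (W ⧸ W0)
    have hbij : ∀ u : W ⧸ W0, ∃! q, q ∈ O r ∧ QuotientGroup.mk' W0 (Abelianization.of (kq q)) = u := by
      intro u
      obtain ⟨w, rfl⟩ := QuotientGroup.mk'_surjective W0 u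
      obtain ⟨k, rfl⟩ := abelianization_of_surjective w
      have hin : (k : G) • r ∈ O r := (hOorb r hrr _).mpr ⟨k, rfl⟩
      refine ⟨(k : G) • r, ⟨hin, ?_⟩, ?_⟩
      · have h1 := hkq ((k : G) • r)
        rw [(Finset.mem_filter.mp hin).2] at h1
        rw [QuotientGroup.mk'_eq_mk']
        refine ⟨Abelianization.of ((kq ((k : G) • r))⁻¹ * k), ⟨_, ?_, rfl⟩, by rw [← map_mul, mul_inv_cancel_left]⟩
        rw [SetLike.mem_coe, MulAction.mem_stabilizer_iff, mul_smul, inv_smul_eq_iff]
        exact h1.symm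
      · rintro q ⟨hq, hqe⟩
        obtain ⟨v, hv, hve⟩ := (QuotientGroup.mk'_eq_mk' W0).mp hqe
        have h1 := hkq q
        rw [(Finset.mem_filter.mp hq).2] at h1
        have hfix := hmk ((kq q)⁻¹ * k) (by rw [map_mul, map_inv, ← hve, inv_mul_cancel_left]; exact hv)
        rw [Subgroup.coe_mul, Subgroup.coe_inv, mul_smul, inv_smul_eq_iff] at hfix
        rw [hfix]; exact h1.symm
    have hcardU : Fintype.card (W ⧸ W0) = (O r).card := by
      rw [← Finset.card_univ]
      refine (Finset.card_bij (fun q _ => QuotientGroup.mk' W0 (Abelianization.of (kq q))) (fun _ _ => Finset.mem_univ _)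
        (fun a ha b hb h => ?_) (fun u _ => ?_)).symm
      · exact (hbij _).unique ⟨ha, h⟩ ⟨hb, rfl⟩
      · obtain ⟨q, ⟨hq, hqe⟩, -⟩ := hbij u
        exact ⟨q, hq, hqe⟩
    have h3 : 3 ≤ Fintype.card (W ⧸ W0) := by
      rw [hcardU, hOcard r hrr]
      have h1 : (St r).index ≠ 1 := fun h => hr'.1 (S.fixed r fun k hk => by
        have : (⟨k, hk⟩ : E) ∈ St r := by rw [Subgroup.index_eq_one.mp h]; exact Subgroup.mem_top _
        exact this)
      have := (St r).index_ne_zero_of_finite
      omega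
    have hP : QuotientGroup.mk' W0 (P r) = 1 := by
      rw [map_prod, ← prod_univ_elem_two (U := W ⧸ W0) (fun u => by
        induction u using QuotientGroup.induction_on with
        | H w => rw [← QuotientGroup.mk_mul, hWsq]; rfl) h3]
      refine Finset.prod_bij (fun q _ => QuotientGroup.mk' W0 (Abelianization.of (kq q))) (fun _ _ => Finset.mem_univ _)
        (fun a ha b hb h => (hbij _).unique ⟨ha, h⟩ ⟨hb, rfl⟩) (fun u _ => ?_) (fun _ _ => rfl)
      obtain ⟨q, ⟨hq, hqe⟩, -⟩ := hbij u
      exact ⟨q, hq, hqe⟩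
    obtain ⟨a, ha, hae⟩ := (QuotientGroup.eq_one_iff _).mp hP
    exact ⟨⟨a, ha⟩, hae⟩
  have horbterm : ∀ r ∈ Ω, rep r = r → ∏ q ∈ O r, term φ s x q = K r * K (rep ((x : G) • r)) := by
    intro r hr hrr
    set r' := rep ((x : G) • r) with hr'def
    have hr'rep : rep r' = r' := hrep_idem _
    have hr'Ω : r' ∈ Ω := hΩrep _ (hΩH r hr _ x.2)

    have he1 : (kq ((x : G) • r) : G) • r' = (x : G) • r := hkq _
    set e₁ := kq ((x : G) • r)
    let α : E →* E :=
      { toFun := fun k => ⟨x * k * (x : G)⁻¹, S.normal _ x.2 _ k.2⟩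
        map_one' := Subtype.ext (by simp)
        map_mul' := fun a b => Subtype.ext (by simp only [Subgroup.coe_mul]; group) }
    have hxO : ∀ q, q ∈ O r ↔ (x : G) • q ∈ O r' := by
      intro q
      rw [hOorb r hrr, hOorb r' hr'rep]
      constructor
      · rintro ⟨k, rfl⟩
        refine ⟨α k * e₁, ?_⟩
        show (x * (k : G) * (x : G)⁻¹ * e₁) • r' = (x : G) • ((k : G) • r)
        rw [mul_smul, he1, smul_smul, smul_smul, inv_mul_cancel_right]
      · rintro ⟨k, hk⟩
        have hk' : (k : G) • r' = (x : G) • q := hk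
        refine ⟨⟨(x : G)⁻¹ * ((k : G) * (e₁ : G)⁻¹) * x, ?_⟩, ?_⟩
        · simpa using S.normal _ (inv_mem x.2) _ (mul_mem k.2 (inv_mem e₁.2))
        · show ((x : G)⁻¹ * ((k : G) * (e₁ : G)⁻¹) * x) • r = q
          rw [mul_smul, mul_smul, ← he1, mul_smul, inv_smul_smul, hk', inv_smul_smul]
    have hcard : (St r).index = (St r').index := by
      rw [← hOcard r hrr, ← hOcard r' hr'rep]
      refine Finset.card_bij (fun q _ => (x : G) • q) (fun q hq => (hxO q).mp hq)
        (fun a _ b _ h => MulAction.injective _ h) (fun p hp => ⟨(x : G)⁻¹ • p, ?_, smul_inv_smul _ _⟩)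
      rw [hxO, smul_inv_smul]; exact hp
    let d : G ⧸ H → E := fun q => (kq ((x : G) • q))⁻¹ * α (kq q) * e₁
    have hh : r'.out⁻¹ * ((e₁ : G)⁻¹ * x) * r.out ∈ H := by
      rw [mul_assoc, ← QuotientGroup.eq, QuotientGroup.out_eq', ← smul_eq_mul ((e₁ : G)⁻¹ * x),
        ← MulAction.Quotient.smul_mk, QuotientGroup.out_eq', mul_smul, ← he1, inv_smul_smul]
    have hd : ∀ q ∈ O r, (d q : G) • r' = r' ∧ term φ s x q = fixVal φ (d q : G) r' * φ ⟨_, hh⟩ := by
      intro q hq
      have h1 : (kq q : G) • r = q := by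
        have := hkq q; rwa [(Finset.mem_filter.mp hq).2] at this
      have h2 : (kq ((x : G) • q) : G) • r' = (x : G) • q := by
        have := hkq ((x : G) • q); rwa [(Finset.mem_filter.mp ((hxO q).mp hq)).2] at this
      have hdfix : (d q : G) • r' = r' := by
        show ((kq ((x : G) • q) : G)⁻¹ * (x * (kq q : G) * (x : G)⁻¹) * e₁) • r' = r'
        rw [mul_smul, he1, mul_smul, inv_smul_eq_iff, h2, smul_smul, inv_mul_cancel_right, mul_smul, h1]
      refine ⟨hdfix, ?_⟩
      have hqΩ : q ∈ Ω := by rw [← h1]; exact hΩH r hr _ (S.le (kq q).2)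
      have hsq : s q = kq q * r.out := by
        simp only [s, if_pos ((hΩmem q).mp hqΩ).2, (Finset.mem_filter.mp hq).2]
      have hsxq : s ((x : G) • q) = kq ((x : G) • q) * r'.out := by
        simp only [s, if_pos ((hΩmem _).mp (hΩH q hqΩ _ x.2)).2, (Finset.mem_filter.mp ((hxO q).mp hq)).2]
      rw [term, dif_pos (hmem _ _), fixVal, dif_pos ((smul_eq_iff r').1 hdfix), ← map_mul]
      refine congrArg φ (Subtype.ext ?_)
      show (s ((x : G) • q))⁻¹ * x * s q = r'.out⁻¹ *
        ((kq ((x : G) • q) : G)⁻¹ * (x * (kq q : G) * (x : G)⁻¹) * e₁) * r'.out * (r'.out⁻¹ * ((e₁ : G)⁻¹ * x) * r.out)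
      rw [hsq, hsxq]
      group
    rw [Finset.prod_congr rfl (fun q hq => (hd q hq).2), Finset.prod_mul_distrib, Finset.prod_const]
    by_cases h2 : (St r).index = 2
    · have hK : ∀ p, p ≠ Ωb → z • p = p → (St p).index = 2 → K p = 1 := fun p hp' hp hi => by
        simp only [K]
        split_ifs with h
        · exact htwo p hp' hp hi _ h.choose.2
        · rfl
      rw [Finset.prod_eq_one (fun q hq => htwo r' ((hΩmem r').mp hr'Ω).1 ((hΩmem r').mp hr'Ω).2 (hcard ▸ h2) _ (hd q hq).1),
        hOcard r hrr, h2, pow_two, hA, hK r ((hΩmem r).mp hr).1 ((hΩmem r).mp hr).2 h2, hK r' ((hΩmem r').mp hr'Ω).1 ((hΩmem r').mp hr'Ω).2 (hcard ▸ h2), one_mul]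
    · obtain ⟨b0, hb0⟩ : Even (St r).index := by
        obtain ⟨n, hn⟩ := hE2.index (St r)
        rcases n with - | n
        · exfalso
          refine ((hΩmem r).mp hr).1 (S.fixed r fun k hk => ?_)
          have : (⟨k, hk⟩ : E) ∈ St r := by
            have h1 : (St r).index = 1 := by simpa using hn
            rw [Subgroup.index_eq_one.mp h1]; exact Subgroup.mem_top _
          exact this
        · exact ⟨2 ^ n, by rw [hn, pow_succ]; ring⟩
      rw [hOcard r hrr, hb0, pow_add, hA, mul_one]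
      have ha0 := hPex r hr hrr h2
      have ha1 := hPex r' hr'Ω hr'rep (hcard ▸ h2)
      have hK0 : K r = fixVal φ (ha0.choose : G) r := by simp only [K]; rw [dif_pos ha0]
      have hK1 : K r' = fixVal φ (ha1.choose : G) r' := by simp only [K]; rw [dif_pos ha1]
      obtain ⟨a0, hae0, hK0⟩ : ∃ a : St r, Abelianization.of (a : E) = P r ∧ K r = fixVal φ (a : G) r :=
        ⟨_, ha0.choose_spec, hK0⟩
      obtain ⟨a1, hae1, hK1⟩ : ∃ a : St r', Abelianization.of (a : E) = P r' ∧ K r' = fixVal φ (a : G) r' :=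
        ⟨_, ha1.choose_spec, hK1⟩
      let Φ : St r' →* W × A :=
        { toFun := fun a => (Abelianization.of (a : E), fixVal φ (a : G) r')
          map_one' := Prod.ext (map_one _) (fixVal_one φ r')
          map_mul' := fun a b => Prod.ext (map_mul _ _ _) (fixVal_mul φ a.2 b.2) }
      obtain ⟨b, hb⟩ : ∏ q ∈ O r, (Abelianization.of (d q), fixVal φ (d q : G) r') ∈ Φ.range :=
        prod_mem fun q hq => ⟨⟨d q, (hd q hq).1⟩, rfl⟩
      have hb1 : Abelianization.of (b : E) = ∏ q ∈ O r, Abelianization.of (d q) := by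
        have := congrArg Prod.fst hb; rwa [Prod.fst_prod] at this
      have hb2 : fixVal φ (b : G) r' = ∏ q ∈ O r, fixVal φ (d q : G) r' := by
        have := congrArg Prod.snd hb; rwa [Prod.snd_prod] at this
      rw [← hb2]
      let c : E := (e₁)⁻¹ * α a0 * e₁
      have hcfix : (c : G) • r' = r' := by
        show ((e₁ : G)⁻¹ * (x * ((a0 : E) : G) * (x : G)⁻¹) * e₁) • r' = r'
        rw [mul_smul, he1, mul_smul, inv_smul_eq_iff, he1, smul_smul, inv_mul_cancel_right, mul_smul,
          show ((a0 : E) : G) • r = r from a0.2]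
      have hprodk : ∏ q ∈ O r, Abelianization.of (kq ((x : G) • q)) = P r' := by
        refine Finset.prod_bij (fun q _ => (x : G) • q) (fun q hq => (hxO q).mp hq)
          (fun a _ b _ h => MulAction.injective _ h) (fun p hp => ⟨(x : G)⁻¹ • p, ?_, smul_inv_smul _ _⟩)
          (fun _ _ => rfl)
        rw [hxO, smul_inv_smul]; exact hp
      have hpw : Abelianization.of e₁ ^ (O r).card = 1 := by
        rw [hOcard r hrr, hb0, pow_add, hWsq]
      have hof : Abelianization.of ((a1 : E)⁻¹ * c) = Abelianization.of (b : E) := by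
        have hα : ∏ q ∈ O r, Abelianization.of (α (kq q)) = Abelianization.of (α (a0 : E)) := by
          have h := congrArg (Abelianization.map α) hae0
          simp only [P, map_prod, Abelianization.map_of] at h
          exact h.symm
        rw [hb1]
        simp only [d, map_mul, map_inv, Finset.prod_mul_distrib, Finset.prod_inv_distrib, Finset.prod_const]
        rw [hprodk, hα, hpw, mul_one, ← hae1]
        simp only [c, map_mul, map_inv]
        rw [mul_comm (Abelianization.of e₁)⁻¹, inv_mul_cancel_right]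
      have hinvfix : ((a1 : E)⁻¹ : E) • r' = r' := (inv_mem a1.2 : _ ∈ St r')
      have hfin : fixVal φ (((a1 : E)⁻¹ * c : E) : G) r' = fixVal φ (b : G) r' :=
        hwell r' hr'Ω ((hΩmem r').mp hr'Ω).2 _ _ (by rw [Subgroup.coe_mul, mul_smul, hcfix]; exact hinvfix) b.2 hof
      rw [← hfin, Subgroup.coe_mul, fixVal_mul φ (a := (((a1 : E)⁻¹ : E) : G)) (b := (c : G)) hinvfix hcfix, mul_comm (K r), hK0, hK1]
      congr 1
      · have h1 := fixVal_mul φ (a := ((a1 : E) : G)⁻¹) (b := ((a1 : E) : G)) hinvfix (show ((a1 : E) : G) • r' = r' from a1.2)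
        rw [inv_mul_cancel, fixVal_one] at h1
        calc fixVal φ (((a1 : E)⁻¹ : E) : G) r'
            = fixVal φ ((a1 : E) : G)⁻¹ r' * (fixVal φ ((a1 : E) : G) r' * fixVal φ ((a1 : E) : G) r') := by
              rw [hA, mul_one]; rfl
          _ = fixVal φ ((a1 : E) : G) r' := by rw [← mul_assoc, ← h1, one_mul]
      · show fixVal φ ((e₁ : G)⁻¹ * (x * ((a0 : E) : G) * (x : G)⁻¹) * e₁) r' = _
        rw [← fixVal_smul, he1, fixVal_smul]
        congr 1
        group
  rw [← Finset.prod_fiberwise_of_maps_to (g := rep) (t := Ω.image rep) (fun q hq => Finset.mem_image_of_mem _ hq)]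
  have hfib : ∀ r ∈ Ω.image rep, Ω.filter (fun q => rep q = r) = O r ∧ r ∈ Ω ∧ rep r = r := by
    intro r hr
    obtain ⟨q₀, hq₀, rfl⟩ := Finset.mem_image.mp hr
    refine ⟨Finset.ext fun q => ?_, hΩrep _ hq₀, hrep_idem _⟩
    simp only [O, Finset.mem_filter, Finset.mem_univ, true_and, and_iff_right_iff_imp]
    intro h
    rw [← hkq q, h]
    exact hΩH _ (hΩrep _ hq₀) _ (S.le (kq q).2)
  rw [Finset.prod_congr rfl (fun r hr => (hfib r hr).1 ▸ horbterm r (hfib r hr).2.1 (hfib r hr).2.2),
    Finset.prod_mul_distrib]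
  have hperm : ∏ r ∈ Ω.image rep, K (rep ((x : G) • r)) = ∏ r ∈ Ω.image rep, K r := by
    have hinj : Set.InjOn (fun r => rep ((x : G) • r)) (Ω.image rep : Set (G ⧸ H)) := by
      intro a ha b hb h
      rw [← (hfib a ha).2.2, ← (hfib b hb).2.2]
      obtain ⟨k, hk⟩ := hrep_mem ((x : G) • a)
      obtain ⟨l, hl⟩ := hrep_mem ((x : G) • b)
      have hkl : (k : G) • ((x : G) • a) = (l : G) • ((x : G) • b) := hk.trans (h.trans hl.symm)
      apply horb_eq
      refine ⟨⟨(x : G)⁻¹ * ((k : G)⁻¹ * (l : G)) * x, ?_⟩, ?_⟩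
      · simpa using S.normal _ (inv_mem x.2) _ (mul_mem (inv_mem k.2) l.2)
      · show ((x : G)⁻¹ * ((k : G)⁻¹ * (l : G)) * x) • b = a
        rw [mul_smul, mul_smul, mul_smul, ← hkl, inv_smul_smul, inv_smul_smul]
    have hmaps : (Ω.image rep).image (fun r => rep ((x : G) • r)) = Ω.image rep := by
      refine Finset.eq_of_subset_of_card_le (fun p hp => ?_) (by rw [Finset.card_image_of_injOn hinj])
      obtain ⟨r, hr, rfl⟩ := Finset.mem_image.mp hp
      exact Finset.mem_image_of_mem _ (hΩH r (hfib r hr).2.1 _ x.2)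
    conv_rhs => rw [← hmaps, Finset.prod_image hinj]
  rw [hperm]
  exact hA _

theorem transfer_eq_self [Finite G] {z : G} {H E : Subgroup G} (S : Setting z H E) (hE2 : IsPGroup 2 E)
    (h9 : 8 < Nat.card E) {A : Type*} [CommGroup A] (hA : ∀ a : A, a * a = 1) (φ : H →* A)
    (hkill : ∀ h : H, Abelianization.of (h * h) = 1 → φ h = 1) (x : H) :
    φ.transfer (x : G) = φ x := by
  classical
  have hzval : ∀ r : G ⧸ H, z • r = r → fixVal φ z r = 1 := by
    intro r hr
    rw [fixVal, dif_pos ((smul_eq_iff r).1 hr)]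
    refine hkill _ ?_
    rw [show (⟨_, (smul_eq_iff r).1 hr⟩ : H) * ⟨_, (smul_eq_iff r).1 hr⟩ = 1 from Subtype.ext (by
      show r.out⁻¹ * z * r.out * (r.out⁻¹ * z * r.out) = 1
      rw [show r.out⁻¹ * z * r.out * (r.out⁻¹ * z * r.out) = r.out⁻¹ * (z * z) * r.out by group, S.zz]; group), map_one]
  -- stabilizers of index two contribute nothing
  let St : G ⧸ H → Subgroup E := fun r => MulAction.stabilizer E r
  have htwo : ∀ r, z • r = r → (St r).index = 2 → ∀ c : E, (c : G) • r = r → fixVal φ (c : G) r = 1 := by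
    intro r hr hi c hc
    obtain ⟨a, ha, b, hb, hab⟩ : ∃ a ∈ St r, ∃ b ∈ St r, a * b ≠ b * a := by
      by_contra hcon
      push Not at hcon
      obtain ⟨u, hu⟩ : ∃ u : E, u ∉ St r := by
        by_contra h
        push Not at h
        rw [show St r = ⊤ from (Subgroup.eq_top_iff' _).mpr h, Subgroup.index_top] at hi
        omega
      have hcu : ∀ a ∈ St r, a * u = u * a → (a : G) = 1 ∨ (a : G) = z := fun a ha hau => by
        refine S.cen a a.2 fun e he => ?_
        by_cases hem : (⟨e, he⟩ : E) ∈ St r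
        · exact congrArg Subtype.val (hcon a ha _ hem)
        · have h1 := hcon a ha _ (((Subgroup.mul_mem_iff_of_index_two hi).mpr (iff_of_false hem hu)))
          rw [← mul_assoc, mul_assoc _ u a, ← hau, ← mul_assoc] at h1
          exact congrArg Subtype.val (mul_right_cancel h1)
      have hsmall : Nat.card (St r) ≤ 4 := by
        by_cases hall : ∀ a ∈ St r, a * u = u * a
        · have hsub : ∀ a : St r, ((a : E) : G) ∈ ({1, z} : Finset G) := fun a => by
            simpa using hcu a a.2 (hall a a.2)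
          refine (Nat.card_le_card_of_injective (fun a => (⟨_, hsub a⟩ : ({1, z} : Finset G)))
            fun a b h => Subtype.ext (Subtype.ext (Subtype.mk.inj h))).trans ?_
          rw [Nat.card_eq_finsetCard]
          exact Finset.card_le_two.trans (by norm_num)
        · push Not at hall
          obtain ⟨a₀, ha₀, ha₀u⟩ := hall
          have hsub : ∀ a : St r, ((a : E) : G) ∈ ({1, z, (a₀ : G)⁻¹, z * (a₀ : G)⁻¹} : Finset G) := fun a => by
            by_cases hau : (a : E) * u = u * a
            · rcases hcu a a.2 hau with h | h <;> simp [h]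
            · have h1 := (S.comm _ (a : E).2 _ u.2).resolve_left fun h => hau (Subtype.ext h)
              have h2 := (S.comm _ a₀.2 _ u.2).resolve_left fun h => ha₀u (Subtype.ext h)
              have h3 : ((a : E) * a₀) * u = u * ((a : E) * a₀) := by
                apply Subtype.ext
                simp only [Subgroup.coe_mul]
                calc ((a : E) : G) * a₀ * u = ((a : E) : G) * (z * ((u : G) * a₀)) := by rw [mul_assoc, h2]
                  _ = z * (((a : E) : G) * u) * a₀ := by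
                    rw [← mul_assoc, S.central _ (S.le (a : E).2)]; simp only [mul_assoc]
                  _ = (u : G) * ((a : E) * a₀) := by rw [h1, ← mul_assoc z z, S.zz, one_mul, mul_assoc]
              rcases hcu _ (mul_mem a.2 ha₀) h3 with h | h
              · rw [Subgroup.coe_mul, mul_eq_one_iff_eq_inv] at h
                simp [h]
              · rw [Subgroup.coe_mul, ← eq_mul_inv_iff_mul_eq] at h
                simp [h]
          refine (Nat.card_le_card_of_injective (fun a => (⟨_, hsub a⟩ : ({1, z, (a₀ : G)⁻¹, z * (a₀ : G)⁻¹} : Finset G)))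
            fun a b h => Subtype.ext (Subtype.ext (Subtype.mk.inj h))).trans ?_
          rw [Nat.card_eq_finsetCard]
          exact Finset.card_le_four
      have := (St r).card_mul_index
      rw [hi] at this
      omega
    have hz' : (a : G) * b * (a : G)⁻¹ * (b : G)⁻¹ = z := by
      rw [(S.comm _ a.2 _ b.2).resolve_left fun h => hab (Subtype.ext h)]; group
    have hc' := (smul_eq_iff r).1 hc
    have ha' := (smul_eq_iff r).1 ha
    have hb' := (smul_eq_iff r).1 hb
    rw [fixVal, dif_pos hc']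
    refine hkill _ ?_
    rcases S.sq c c.2 with h | h
    · rw [show (⟨_, hc'⟩ : H) * ⟨_, hc'⟩ = 1 from Subtype.ext (by
        show r.out⁻¹ * (c : G) * r.out * (r.out⁻¹ * (c : G) * r.out) = 1
        rw [show r.out⁻¹ * (c : G) * r.out * (r.out⁻¹ * (c : G) * r.out) = r.out⁻¹ * ((c : G) * c) * r.out by group, h]
        group), map_one]
    · rw [show (⟨_, hc'⟩ : H) * ⟨_, hc'⟩ = ⟨_, ha'⟩ * ⟨_, hb'⟩ * (⟨_, ha'⟩)⁻¹ * (⟨_, hb'⟩)⁻¹ from Subtype.ext (by
        show r.out⁻¹ * (c : G) * r.out * (r.out⁻¹ * (c : G) * r.out) = r.out⁻¹ * (a : G) * r.out *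
          (r.out⁻¹ * (b : G) * r.out) * (r.out⁻¹ * (a : G) * r.out)⁻¹ * (r.out⁻¹ * (b : G) * r.out)⁻¹
        rw [show r.out⁻¹ * (c : G) * r.out * (r.out⁻¹ * (c : G) * r.out) = r.out⁻¹ * ((c : G) * c) * r.out by group, h,
          ← hz']
        group), map_mul, map_mul, map_mul, map_inv, map_inv]
      rw [mul_comm (Abelianization.of (⟨_, ha'⟩ : H)), mul_inv_cancel_right, mul_inv_cancel]
  exact transfer_eq_self_of_kills S hE2 hA φ (fun r _ hr => hzval r hr) (fun r _ hr => htwo r hr) x

end Cfsg.Agent.Invol.ExtraTransfer
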