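import Mathlib
import Cfsg.Prelude.Def_Transfer

/-!
A faithful representation of an extraspecial group of order `p^(2w+1)` over `r` elements has degree at
least `n p^w`, where `n` is the multiplicative order of `r` modulo `p`.
-/

set_option autoImplicit false

namespace Cfsg.Agent.Invol.ExtraRep

open Polynomial

theorem exists_ker_ne_bot {R M : Type*} [CommRing R] [AddCommGroup M] [Module R M]
    (T : Module.End R M) (s : Multiset R[X]) (v : M) (hv : v ≠ 0) (h : aeval T s.prod v = 0) :
    ∃ f ∈ s, LinearMap.ker (aeval T f) ≠ ⊥ := by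
  induction s using Multiset.induction_on with
  | empty => simp at h; exact absurd h hv
  | cons a s ih =>
    rw [Multiset.prod_cons, map_mul, Module.End.mul_apply] at h
    by_cases hw : aeval T s.prod v = 0
    · obtain ⟨f, hf, hk⟩ := ih hw
      exact ⟨f, Multiset.mem_cons_of_mem hf, hk⟩
    · exact ⟨a, Multiset.mem_cons_self _ _, fun e => hw (by
        rw [← Submodule.mem_bot (R := R), ← e]; exact h)⟩

/-- Over a field in which the centre acts by scalars, the translates of coset representatives of the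
centre are linearly independent. -/
theorem degree_ge {K W E : Type*} [Field K] [AddCommGroup W] [Module K W] [Module.Finite K W]
    [Nontrivial W] [Group E] [Finite E] (ρ : E →* Module.End K W)
    (hcenter : ∀ c ∈ Subgroup.center E, c ≠ 1 → ∃ k : K, k ≠ 1 ∧ ρ c = k • 1)
    (hcomm : ∀ y d : E, y * d * y⁻¹ * d⁻¹ ∈ Subgroup.center E) (hcard : (Nat.card E : K) ≠ 0) :
    (Subgroup.center E).index ≤ Module.finrank K W * Module.finrank K W := by
  classical
  cases nonempty_fintype E
  have hzero : ∀ d ∉ Subgroup.center E, ∑ y : E, ρ (y * d * y⁻¹) = 0 := by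
    intro d hd
    obtain ⟨y₀, hy₀⟩ : ∃ y₀, y₀ * d * y₀⁻¹ * d⁻¹ ≠ 1 := by
      by_contra hall
      simp only [not_exists, not_not] at hall
      exact hd (Subgroup.mem_center_iff.mpr fun y => by
        have := hall y
        rwa [mul_inv_eq_one, mul_inv_eq_iff_eq_mul] at this)
    obtain ⟨k, hk1, hk⟩ := hcenter _ (hcomm y₀ d) hy₀
    have he : ∑ y : E, ρ (y * d * y⁻¹) = k • ∑ y : E, ρ (y * d * y⁻¹) := by
      rw [Finset.smul_sum]
      refine (Fintype.sum_equiv (Equiv.mulLeft y₀) _ _ fun y => ?_).symm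
      have hc := Subgroup.mem_center_iff.mp (hcomm y d)
      have e : Equiv.mulLeft y₀ y * d * (Equiv.mulLeft y₀ y)⁻¹ =
          (y₀ * d * y₀⁻¹ * d⁻¹) * (y * d * y⁻¹) := by
        rw [Equiv.coe_mulLeft, show y₀ * y * d * (y₀ * y)⁻¹ =
            (y₀ * (y * d * y⁻¹ * d⁻¹)) * (d * y₀⁻¹) by group, hc y₀,
          show y * d * y⁻¹ * d⁻¹ * y₀ * (d * y₀⁻¹) =
            (y * d * y⁻¹ * d⁻¹) * (y₀ * d * y₀⁻¹ * d⁻¹) * d by group,
          ← hc (y₀ * d * y₀⁻¹ * d⁻¹)]
        group
      rw [e, map_mul ρ (y₀ * d * y₀⁻¹ * d⁻¹), hk, smul_mul_assoc, one_mul]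
    have h2 : (k - 1) • (∑ y : E, ρ (y * d * y⁻¹)) = 0 := by rw [sub_smul, one_smul, ← he, sub_self]
    exact (smul_eq_zero.mp h2).resolve_left (sub_ne_zero.mpr hk1)
  let rep : E ⧸ Subgroup.center E → E := Quotient.out
  letI := Fintype.ofFinite (E ⧸ Subgroup.center E)
  have hli : LinearIndependent K fun q => ρ (rep q) := by
    rw [Fintype.linearIndependent_iff]
    intro g hg q₀
    have h : ∑ y : E, ρ y * ((∑ q, g q • ρ (rep q)) * ρ (rep q₀)⁻¹) * ρ y⁻¹ = 0 :=
      Finset.sum_eq_zero fun y _ => by rw [hg, zero_mul, mul_zero, zero_mul]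
    simp only [Finset.sum_mul, Finset.mul_sum, smul_mul_assoc, mul_smul_comm, ← map_mul] at h
    rw [Finset.sum_comm] at h
    simp only [← Finset.smul_sum] at h
    rw [Finset.sum_eq_single q₀] at h
    · simp only [mul_inv_cancel, mul_one, map_one, Finset.sum_const, Finset.card_univ,
        ← Nat.card_eq_fintype_card, ← Nat.cast_smul_eq_nsmul K, smul_smul] at h
      exact (mul_eq_zero.mp ((smul_eq_zero.mp h).resolve_right one_ne_zero)).resolve_right hcard
    · intro q _ hq
      rw [hzero, smul_zero]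
      intro hc
      apply hq
      rw [← Quotient.out_eq q, ← Quotient.out_eq q₀]
      refine QuotientGroup.eq.mpr ?_
      have h1 := (Subgroup.center E).inv_mem ((inferInstance : (Subgroup.center E).Normal).conj_mem _ hc (rep q)⁻¹)
      rwa [show ((rep q)⁻¹ * (rep q * (rep q₀)⁻¹) * (rep q)⁻¹⁻¹)⁻¹ = (rep q)⁻¹ * rep q₀ by group] at h1
    · exact fun hh => absurd (Finset.mem_univ _) hh
  have := hli.fintype_card_le_finrank
  rwa [Module.finrank_linearMap, ← Nat.card_eq_fintype_card, ← Subgroup.index] at this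

theorem card_ge {p r : ℕ} [hp : Fact p.Prime] [hr : Fact r.Prime] (hpr : p ≠ r) {E : Type*} [Group E] [Finite E]
    {V : Type*} [AddCommGroup V] [Module (ZMod r) V] [Finite V] (hP : IsPGroup p E) (w : ℕ)
    (hZ : Nat.card (Subgroup.center E) = p) (hindex : (Subgroup.center E).index = p ^ (2 * w))
    (hcomm : ∀ y d : E, y * d * y⁻¹ * d⁻¹ ∈ Subgroup.center E)
    (ρ : E →* Module.End (ZMod r) V) (hinj : Function.Injective ρ)
    (n : ℕ) (hmin : ∀ k : ℕ, 1 ≤ k → p ∣ r ^ k - 1 → n ≤ k) :
    r ^ (n * p ^ w) ≤ Nat.card V := by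
  classical
  obtain ⟨z, hz⟩ : ∃ z : Subgroup.center E, z ≠ 1 := by
    have : Nontrivial (Subgroup.center E) := Finite.one_lt_card_iff_nontrivial.mp (hZ ▸ hp.out.one_lt)
    exact exists_ne 1
  have hgen : ∀ c ∈ Subgroup.center E, ∃ k : ℕ, (z : E) ^ k = c := by
    intro c hc
    have h : (⟨c, hc⟩ : Subgroup.center E) ∈ Submonoid.powers z :=
      mem_powers_of_prime_card hZ hz
    obtain ⟨k, hk⟩ := h
    exact ⟨k, by simpa using congrArg Subtype.val hk⟩
  have hzp : (z : E) ^ p = 1 := by
    have := pow_card_eq_one' (G := Subgroup.center E) (x := z)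
    rw [hZ] at this
    simpa using congrArg Subtype.val this
  obtain ⟨T, hT⟩ : ∃ T, T = ρ (z : E) := ⟨_, rfl⟩
  have hTne : T ≠ 1 := fun e => hz (Subtype.ext (hinj (by rw [← hT, e, Subgroup.coe_one, map_one])))
  obtain ⟨v, hv⟩ : ∃ v, (T - 1) v ≠ 0 := by
    by_contra hall
    simp only [not_exists, not_not] at hall
    exact hTne (sub_eq_zero.mp (LinearMap.ext hall))
  obtain ⟨g, hg⟩ : ∃ g : (ZMod r)[X], g = ∑ i ∈ Finset.range p, X ^ i := ⟨_, rfl⟩
  have hgX : g * (X - 1) = X ^ p - 1 := by rw [hg, geom_sum_mul]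
  have hgne : g ≠ 0 := fun e => by
    rw [e, zero_mul] at hgX
    exact X_pow_sub_C_ne_zero hp.out.pos (1 : ZMod r) (by rw [C_1]; exact hgX.symm)
  have hgv : aeval T g ((T - 1) v) = 0 := by
    have e : aeval T g * (T - 1) = 0 := by
      rw [show T - 1 = aeval T (X - 1 : (ZMod r)[X]) by rw [map_sub, aeval_X, map_one], ← map_mul, hgX, map_sub,
        map_pow, aeval_X, map_one, hT, ← map_pow, hzp, map_one, sub_self]
    exact LinearMap.congr_fun e v
  obtain ⟨u, hu⟩ := UniqueFactorizationMonoid.factors_prod hgne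
  have hv2 : aeval T (UniqueFactorizationMonoid.factors g).prod ((T - 1) v) = 0 := by
    have e := hgv
    rw [← hu, mul_comm, map_mul, Module.End.mul_apply] at e
    have hU := (u.isUnit.map (aeval T : (ZMod r)[X] →ₐ[ZMod r] Module.End (ZMod r) V))
    rw [Module.End.isUnit_iff] at hU
    exact hU.1 (by rw [e, map_zero])
  obtain ⟨f, hf, hker⟩ := exists_ker_ne_bot T _ _ hv hv2
  have hfirr : Irreducible f := UniqueFactorizationMonoid.irreducible_of_factor f hf
  have hfg : f ∣ g := UniqueFactorizationMonoid.dvd_of_mem_factors hf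
  haveI : Fact (Irreducible f) := ⟨hfirr⟩
  -- the root
  obtain ⟨x, hx⟩ : ∃ x : AdjoinRoot f, x = AdjoinRoot.root f := ⟨_, rfl⟩
  have hxp : x ^ p = 1 := by
    have h : AdjoinRoot.mk f (X ^ p - 1) = 0 := AdjoinRoot.mk_eq_zero.mpr (hgX ▸ dvd_mul_of_dvd_left hfg _)
    rw [map_sub, map_pow, AdjoinRoot.mk_X, map_one, sub_eq_zero] at h
    rw [hx, h]
  have hpK : (p : AdjoinRoot f) ≠ 0 := by
    intro e
    rw [← map_natCast (AdjoinRoot.of f), map_eq_zero, ZMod.natCast_eq_zero_iff] at e
    exact hpr ((Nat.prime_dvd_prime_iff_eq hr.out hp.out).mp e).symm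
  have hx1 : x ≠ 1 := by
    intro e
    have h : AdjoinRoot.mk f g = 0 := AdjoinRoot.mk_eq_zero.mpr hfg
    rw [hg, map_sum] at h
    simp only [map_pow, AdjoinRoot.mk_X, ← hx, e, one_pow, Finset.sum_const, Finset.card_range, nsmul_eq_mul,
      mul_one] at h
    exact hpK h
  have hord : orderOf x = p := orderOf_eq_prime hxp hx1
  haveI : Module.Finite (ZMod r) (AdjoinRoot f) := (AdjoinRoot.powerBasis hfirr.ne_zero).finite
  haveI : Finite (AdjoinRoot f) := Module.finite_of_finite (ZMod r)
  have hcardK : Nat.card (AdjoinRoot f) = r ^ f.natDegree := by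
    rw [Module.natCard_eq_pow_finrank (K := ZMod r), Nat.card_zmod,
      (AdjoinRoot.powerBasis hfirr.ne_zero).finrank, AdjoinRoot.powerBasis_dim]
  have hdeg : n ≤ f.natDegree := by
    refine hmin _ hfirr.natDegree_pos ?_
    rw [← hcardK, ← hord]
    cases nonempty_fintype (AdjoinRoot f)
    rw [Nat.card_eq_fintype_card]
    exact orderOf_dvd_of_pow_eq_one (FiniteField.pow_card_sub_one_eq_one x fun e => by
      rw [e, zero_pow hp.out.ne_zero] at hxp
      exact zero_ne_one hxp)
  -- the module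
  let U := LinearMap.ker (aeval T f)
  haveI : Nontrivial U := Submodule.nontrivial_iff_ne_bot.mpr hker
  have hcz : ∀ e : E, Commute T (ρ e) := fun e => by
    rw [hT, commute_iff_eq, ← map_mul, ← map_mul, Subgroup.mem_center_iff.mp z.2 e]
  have hinv : ∀ (e : E), ∀ u ∈ U, ρ e u ∈ U := fun e u hu => by
    rw [LinearMap.mem_ker] at hu ⊢
    have h : Commute (aeval T f) (ρ e) :=
      (Algebra.commute_of_mem_adjoin_singleton_of_commute (aeval_mem_adjoin_singleton (ZMod r) T) (hcz e).symm).symm
    rw [← Module.End.mul_apply, h.eq, Module.End.mul_apply, hu, map_zero]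
  let T' : Module.End (ZMod r) U := (ρ (z : E)).restrict (hinv z)
  have haev : ∀ (q : (ZMod r)[X]) (u : U), (aeval T' q u : V) = aeval T q u := by
    intro q u
    induction q using Polynomial.induction_on' generalizing u with
    | add a b ha hb => simp [ha, hb]
    | monomial k a =>
      simp only [aeval_monomial, Module.End.mul_apply, Module.algebraMap_end_apply, SetLike.val_smul]
      congr 1
      induction k generalizing u with
      | zero => rfl
      | succ k ih => rw [pow_succ, pow_succ, Module.End.mul_apply, Module.End.mul_apply, ih, hT]; rfl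
  have hT'f : aeval T' f = 0 := LinearMap.ext fun u => Subtype.ext (by
    rw [haev]; exact LinearMap.mem_ker.mp u.2)
  let φ : AdjoinRoot f →+* Module.End (ZMod r) U :=
    Ideal.Quotient.lift (Ideal.span {f}) (aeval T' : (ZMod r)[X] →ₐ[ZMod r] Module.End (ZMod r) U).toRingHom
      (fun a ha => by
        obtain ⟨c, rfl⟩ := Ideal.mem_span_singleton.mp ha
        show aeval T' (f * c) = 0
        rw [map_mul, hT'f, zero_mul])
  have hφ : ∀ q : (ZMod r)[X], φ (AdjoinRoot.mk f q) = aeval T' q := fun q => rfl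
  letI instK : Module (AdjoinRoot f) U := Module.compHom U φ
  haveI : Module.Finite (AdjoinRoot f) U := Module.Finite.of_finite
  have hsmul : ∀ (k : AdjoinRoot f) (u : U), k • u = φ k u := fun _ _ => rfl
  have hxact : ∀ (k : ℕ) (u : U), ((x ^ k • u : U) : V) = ρ ((z : E) ^ k) u := by
    intro k u
    rw [hsmul, map_pow, hx]
    have e : φ (AdjoinRoot.root f) = T' := by rw [← AdjoinRoot.mk_X, hφ, aeval_X]
    rw [e, ← aeval_X_pow (R := ZMod r) T', haev, aeval_X_pow, hT, map_pow]
  have hlin : ∀ (e : E) (k : AdjoinRoot f) (u : U),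
      (ρ e).restrict (hinv e) (k • u) = k • (ρ e).restrict (hinv e) u := by
    intro e k u
    obtain ⟨q, rfl⟩ := AdjoinRoot.mk_surjective k
    have e' : φ (AdjoinRoot.mk f q) = aeval T' q := hφ q
    apply Subtype.ext
    rw [hsmul, hsmul, e', LinearMap.coe_restrict_apply, haev, haev, LinearMap.coe_restrict_apply]
    have h : Commute (aeval T q) (ρ e) :=
      (Algebra.commute_of_mem_adjoin_singleton_of_commute (aeval_mem_adjoin_singleton (ZMod r) T) (hcz e).symm).symm
    rw [← Module.End.mul_apply, ← Module.End.mul_apply, h.eq]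
  let ρ' : E →* Module.End (AdjoinRoot f) U :=
    { toFun := fun e =>
        { toFun := fun u => (ρ e).restrict (hinv e) u
          map_add' := fun a b => map_add _ a b
          map_smul' := hlin e }
      map_one' := LinearMap.ext fun u => Subtype.ext (by simp)
      map_mul' := fun a b => LinearMap.ext fun u => Subtype.ext (by simp) }
  have hdim := degree_ge (K := AdjoinRoot f) (W := U) ρ' (fun c hc hc1 => by
    obtain ⟨k, rfl⟩ := hgen c hc
    refine ⟨x ^ k, fun e => hc1 ?_, LinearMap.ext fun u => Subtype.ext ?_⟩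
    · rw [← orderOf_dvd_iff_pow_eq_one, hord] at e
      obtain ⟨j, rfl⟩ := e
      rw [pow_mul, hzp, one_pow]
    · exact (hxact k u).symm) hcomm (by
    obtain ⟨j, hj⟩ := hP.exists_card_eq
    rw [hj, Nat.cast_pow]
    exact pow_ne_zero _ hpK)
  rw [hindex, two_mul, pow_add] at hdim
  have hw : p ^ w ≤ Module.finrank (AdjoinRoot f) U := Nat.mul_self_le_mul_self_iff.mp hdim
  calc r ^ (n * p ^ w) ≤ r ^ (f.natDegree * Module.finrank (AdjoinRoot f) U) :=
        Nat.pow_le_pow_right hr.out.pos (Nat.mul_le_mul hdeg hw)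
    _ = Nat.card U := by rw [pow_mul, ← hcardK, ← Module.natCard_eq_pow_finrank]
    _ ≤ Nat.card V := Nat.card_le_card_of_injective Subtype.val Subtype.val_injective

/-- Automorphisms as linear maps. -/
def autToEnd (r : ℕ) (A : Type*) [CommGroup A] [Module (ZMod r) (Additive A)] :
    MulAut A →* Module.End (ZMod r) (Additive A) where
  toFun ψ := (MonoidHom.toAdditive ψ.toMonoidHom).toZModLinearMap r
  map_one' := rfl
  map_mul' _ _ := rfl

theorem autToEnd_injective (r : ℕ) (A : Type*) [CommGroup A] [Module (ZMod r) (Additive A)] :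
    Function.Injective (autToEnd r A) := fun _ _ h =>
  MulEquiv.ext fun a => congrArg Additive.toMul (LinearMap.congr_fun h (Additive.ofMul a))

theorem card_ge_aut_aux {p r : ℕ} (hp : p.Prime) (hr : r.Prime) (hpr : p ≠ r) {E : Type*} [Group E] [Finite E]
    {A : Type*} [CommGroup A] [Finite A] [Module (ZMod r) (Additive A)] (hP : IsPGroup p E) (w : ℕ)
    (hZ : Nat.card (Subgroup.center E) = p) (hindex : (Subgroup.center E).index = p ^ (2 * w))
    (hcomm : ∀ y d : E, y * d * y⁻¹ * d⁻¹ ∈ Subgroup.center E)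
    (φ : E →* MulAut A) (hinj : Function.Injective φ)
    (n : ℕ) (hmin : ∀ k : ℕ, 1 ≤ k → p ∣ r ^ k - 1 → n ≤ k) :
    r ^ (n * p ^ w) ≤ Nat.card A := by
  let ρ : E →* Module.End (ZMod r) (Additive A) := MonoidHom.comp (autToEnd r A) φ
  haveI := Fact.mk hp
  haveI := Fact.mk hr
  have h := card_ge (V := Additive A) hpr hP w hZ hindex hcomm ρ ((autToEnd_injective r A).comp hinj) n hmin
  rwa [show Nat.card (Additive A) = Nat.card A from Nat.card_congr Additive.toMul] at h

/-- The bound for an action by automorphisms on an elementary abelian group. -/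
theorem card_ge_mulAut {p r : ℕ} (hp : p.Prime) (hr : r.Prime) (hpr : p ≠ r) {E : Type*} [Group E] [Finite E]
    {A : Type*} [CommGroup A] [Finite A] (hexp : ∀ a : A, a ^ r = 1) (hP : IsPGroup p E) (w : ℕ)
    (hZ : Nat.card (Subgroup.center E) = p) (hindex : (Subgroup.center E).index = p ^ (2 * w))
    (hcomm : ∀ y d : E, y * d * y⁻¹ * d⁻¹ ∈ Subgroup.center E)
    (φ : E →* MulAut A) (hinj : Function.Injective φ)
    (n : ℕ) (hmin : ∀ k : ℕ, 1 ≤ k → p ∣ r ^ k - 1 → n ≤ k) :
    r ^ (n * p ^ w) ≤ Nat.card A := by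
  exact @card_ge_aut_aux p r hp hr hpr E _ _ A _ _ (AddCommGroup.zmodModule fun a => hexp (Additive.toMul a))
    hP w hZ hindex hcomm φ hinj n hmin

end Cfsg.Agent.Invol.ExtraRep
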