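import Mathlib
import Cfsg.Prelude.Def_Transfer
import Cfsg.Agent.Lib.Fus.Extraspecial

/-!
Transvection and Siegel automorphisms of extraspecial 2-groups; the non-splitting of `Aut Q` over
`Inn Q` when there are three orthogonal hyperbolic pairs.
-/

set_option autoImplicit false
set_option linter.style.haveILetI false
set_option linter.unusedSectionVars false

open scoped Classical commutatorElement

namespace Cfsg.Agent.Invol.ExtraAut

open Subgroup

variable {Q : Type*} [Group Q]

/-- `z` is the commutator of any two noncommuting elements. -/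
structure CommData (z : Q) : Prop where
  sq : z * z = 1
  ne : z ≠ 1
  central : ∀ x : Q, z * x = x * z
  swap : ∀ x y : Q, x * y ≠ y * x → y * x = x * y * z

variable {z : Q}

/-- The value of the commutator form. -/
noncomputable def cm (z x a : Q) : Q := if x * a = a * x then 1 else z

theorem CommData.cm_cases (x a : Q) :
    (x * a = a * x ∧ cm z x a = 1) ∨ (x * a ≠ a * x ∧ cm z x a = z) := by
  by_cases h : x * a = a * x
  · exact Or.inl ⟨h, if_pos h⟩
  · exact Or.inr ⟨h, if_neg h⟩

theorem CommData.swap_cm (hz : CommData z) (x a : Q) : a * x = x * a * cm z x a := by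
  rcases CommData.cm_cases (z := z) x a with ⟨h, e⟩ | ⟨h, e⟩ <;> rw [e]
  · rw [mul_one, h]
  · exact hz.swap x a h

theorem CommData.cm_eq (hz : CommData z) {x a c : Q} (h : a * x = x * a * c) : cm z x a = c := by
  rw [hz.swap_cm x a] at h
  exact mul_left_cancel h

theorem CommData.cm_central (hz : CommData z) (x a y : Q) : cm z x a * y = y * cm z x a := by
  rcases CommData.cm_cases (z := z) x a with ⟨-, e⟩ | ⟨-, e⟩ <;> rw [e]
  · rw [one_mul, mul_one]
  · exact hz.central y

theorem CommData.cm_sq (hz : CommData z) (x a : Q) : cm z x a * cm z x a = 1 := by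
  rcases CommData.cm_cases (z := z) x a with ⟨-, e⟩ | ⟨-, e⟩ <;> rw [e]
  · rw [one_mul]
  · exact hz.sq

theorem CommData.cm_mul (hz : CommData z) (x y a : Q) :
    cm z (x * y) a = cm z x a * cm z y a := by
  refine hz.cm_eq ?_
  calc a * (x * y) = x * (a * y) * cm z x a := by
        rw [← mul_assoc, hz.swap_cm x a, mul_assoc (x * a), hz.cm_central x a y]
        simp [mul_assoc]
    _ = x * y * a * (cm z x a * cm z y a) := by
        rw [hz.swap_cm y a, hz.cm_central x a (cm z y a)]
        simp [mul_assoc]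

theorem CommData.cm_comm (hz : CommData z) (x a : Q) : cm z a x = cm z x a := by
  refine hz.cm_eq ?_
  rw [hz.swap_cm x a, mul_assoc (x * a), hz.cm_sq, mul_one]

theorem CommData.cm_of_ne {x a : Q} (h : x * a ≠ a * x) : cm z x a = z := if_neg h

theorem CommData.cm_of_eq {x a : Q} (h : x * a = a * x) : cm z x a = 1 := if_pos h

theorem CommData.cm_zleft (hz : CommData z) (a : Q) : cm z z a = 1 :=
  CommData.cm_of_eq (hz.central a)

/-- The map `x ↦ x a^[x,a]`. -/
noncomputable def tvFun (a x : Q) : Q := if x * a = a * x then x else x * a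

theorem tvFun_eq {a x : Q} (h : x * a = a * x) : tvFun a x = x := if_pos h

theorem tvFun_ne {a x : Q} (h : x * a ≠ a * x) : tvFun a x = x * a := if_neg h

theorem tvFun_mul (hz : CommData z) {a : Q} (ha : a * a = z) (x y : Q) :
    tvFun a (x * y) = tvFun a x * tvFun a y := by
  have hm := hz.cm_mul x y a
  by_cases hx : x * a = a * x <;> by_cases hy : y * a = a * y
  · have : x * y * a = a * (x * y) := by rw [mul_assoc, hy, ← mul_assoc, hx, mul_assoc]
    rw [tvFun_eq this, tvFun_eq hx, tvFun_eq hy]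
  · have : x * y * a ≠ a * (x * y) := fun h => hz.ne (by
      rw [CommData.cm_of_eq h, CommData.cm_of_eq hx, CommData.cm_of_ne hy, one_mul] at hm
      exact hm.symm)
    rw [tvFun_ne this, tvFun_eq hx, tvFun_ne hy, mul_assoc]
  · have : x * y * a ≠ a * (x * y) := fun h => hz.ne (by
      rw [CommData.cm_of_eq h, CommData.cm_of_eq hy, CommData.cm_of_ne hx, mul_one] at hm
      exact hm.symm)
    rw [tvFun_ne this, tvFun_eq hy, tvFun_ne hx, mul_assoc, hy, mul_assoc]
  · have : x * y * a = a * (x * y) := by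
      have h := hz.swap_cm (x * y) a
      rw [hm, CommData.cm_of_ne hx, CommData.cm_of_ne hy, hz.sq, mul_one] at h
      exact h.symm
    rw [tvFun_eq this, tvFun_ne hx, tvFun_ne hy]
    calc x * y = x * y * (z * z) := by rw [hz.sq, mul_one]
      _ = x * y * ((a * a) * z) := by rw [ha]
      _ = x * (y * a * z) * a := by simp only [mul_assoc]; rw [← hz.central a]
      _ = x * (a * y) * a := by rw [← hz.swap y a hy]
      _ = x * a * (y * a) := by simp only [mul_assoc]

theorem tvFun_twice (hz : CommData z) {a : Q} (ha : a * a = z) (x : Q) :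
    tvFun a (tvFun a x) = x * cm z x a := by
  by_cases hx : x * a = a * x
  · rw [tvFun_eq hx, tvFun_eq hx, CommData.cm_of_eq hx, mul_one]
  · have : x * a * a ≠ a * (x * a) := fun h => hx (mul_right_cancel (h.trans (mul_assoc _ _ _).symm))
    rw [tvFun_ne hx, tvFun_ne this, CommData.cm_of_ne hx, mul_assoc, ha]

theorem tvFun_four (hz : CommData z) {a : Q} (ha : a * a = z) (x : Q) :
    tvFun a (tvFun a (tvFun a (tvFun a x))) = x := by
  rw [tvFun_twice hz ha x, tvFun_twice hz ha, hz.cm_mul]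
  have h : cm z (cm z x a) a = 1 := CommData.cm_of_eq (hz.cm_central x a a)
  rw [h, mul_one, mul_assoc, hz.cm_sq, mul_one]

/-- The transvection automorphism. -/
noncomputable def tv (hz : CommData z) {a : Q} (ha : a * a = z) : MulAut Q where
  toFun := tvFun a
  invFun x := tvFun a (tvFun a (tvFun a x))
  left_inv x := tvFun_four hz ha x
  right_inv x := tvFun_four hz ha x
  map_mul' := tvFun_mul hz ha

/-- The map `x ↦ x f^[x,e] e^[x,f] z^([x,e][x,f])`. -/
noncomputable def sgFun (z e f x : Q) : Q :=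
  if x * e = e * x then (if x * f = f * x then x else x * e)
  else (if x * f = f * x then x * f else x * (f * e * z))

variable {e f : Q}

theorem sgFun_cases (x : Q) :
    (x * e = e * x ∧ x * f = f * x ∧ sgFun z e f x = x) ∨
    (x * e = e * x ∧ x * f ≠ f * x ∧ sgFun z e f x = x * e) ∨
    (x * e ≠ e * x ∧ x * f = f * x ∧ sgFun z e f x = x * f) ∨
    (x * e ≠ e * x ∧ x * f ≠ f * x ∧ sgFun z e f x = x * (f * e * z)) := by
  unfold sgFun
  by_cases h1 : x * e = e * x <;> by_cases h2 : x * f = f * x <;> simp [h1, h2]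

theorem sgFun_mul (hz : CommData z) (he : e * e = 1) (hf : f * f = 1) (hef : e * f = f * e)
    (x y : Q) : sgFun z e f (x * y) = sgFun z e f x * sgFun z e f y := by
  have hee : ∀ t : Q, e * (e * t) = t := fun t => by rw [← mul_assoc, he, one_mul]
  have hff : ∀ t : Q, f * (f * t) = t := fun t => by rw [← mul_assoc, hf, one_mul]
  have hfe : ∀ t : Q, f * (e * t) = e * (f * t) := fun t => by rw [← mul_assoc, ← hef, mul_assoc]
  have hzz : ∀ t : Q, z * (z * t) = t := fun t => by rw [← mul_assoc, hz.sq, one_mul]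
  have hzc : ∀ t u : Q, t * (z * u) = z * (t * u) := fun t u => by
    rw [← mul_assoc, ← hz.central, mul_assoc]
  have hme := hz.cm_mul x y e
  have hmf := hz.cm_mul x y f
  have hye := hz.swap_cm y e
  have hyf := hz.swap_cm y f
  have hye' : ∀ t : Q, e * (y * t) = y * (e * (cm z y e * t)) := fun t => by
    rw [← mul_assoc, hye]; simp only [mul_assoc]
  have hyf' : ∀ t : Q, f * (y * t) = y * (f * (cm z y f * t)) := fun t => by
    rw [← mul_assoc, hyf]; simp only [mul_assoc]
  rcases sgFun_cases (z := z) (e := e) (f := f) (x * y) with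
      ⟨p1, p2, hp⟩ | ⟨p1, p2, hp⟩ | ⟨p1, p2, hp⟩ | ⟨p1, p2, hp⟩ <;>
    rcases sgFun_cases (z := z) (e := e) (f := f) x with
      ⟨q1, q2, hq⟩ | ⟨q1, q2, hq⟩ | ⟨q1, q2, hq⟩ | ⟨q1, q2, hq⟩ <;>
      rcases sgFun_cases (z := z) (e := e) (f := f) y with
        ⟨r1, r2, hr⟩ | ⟨r1, r2, hr⟩ | ⟨r1, r2, hr⟩ | ⟨r1, r2, hr⟩ <;>
  first
    | (exfalso
       simp only [CommData.cm_of_eq, CommData.cm_of_ne, p1, p2, q1, q2, r1, r2, ne_eq,
         not_false_eq_true, hz.sq, one_mul, mul_one] at hme hmf
       first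
         | exact hz.ne hme | exact hz.ne hme.symm | exact hz.ne hmf | exact hz.ne hmf.symm)
    | (rw [hp, hq, hr]; done)
    | (rw [hp, hq, hr]
       first
         | rw [CommData.cm_of_eq r1] at hye hye'
         | rw [CommData.cm_of_ne r1] at hye hye'
       first
         | rw [CommData.cm_of_eq r2] at hyf hyf'
         | rw [CommData.cm_of_ne r2] at hyf hyf'
       try simp only [one_mul, mul_one, mul_assoc] at hye hyf hye' hyf'
       simp only [mul_assoc, hye', hyf', hye, hyf, hee, hff, hfe, hzz, hzc, he, hf, hz.sq, mul_one,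
         ← hz.central, ← hef]
       try simp only [mul_assoc, hye', hyf', hye, hyf, hee, hff, hfe, hzz, hzc, he, hf, hz.sq, mul_one,
         ← hz.central, ← hef])

theorem sgFun_twice (hz : CommData z) (he : e * e = 1) (hf : f * f = 1) (hef : e * f = f * e)
    (x : Q) : sgFun z e f (sgFun z e f x) = x := by
  have hfix : ∀ w : Q, w * e = e * w → w * f = f * w → sgFun z e f w = w := fun w h1 h2 => by
    simp [sgFun, h1, h2]
  have e1 : sgFun z e f e = e := hfix e rfl hef
  have f1 : sgFun z e f f = f := hfix f hef.symm rfl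
  have z1 : sgFun z e f z = z := hfix z (hz.central e) (hz.central f)
  have hm := sgFun_mul hz he hf hef
  rcases sgFun_cases (z := z) (e := e) (f := f) x with
      ⟨q1, q2, hq⟩ | ⟨q1, q2, hq⟩ | ⟨q1, q2, hq⟩ | ⟨q1, q2, hq⟩
  · rw [hq, hq]
  · rw [hq, hm, hq, e1, mul_assoc, he, mul_one]
  · rw [hq, hm, hq, f1, mul_assoc, hf, mul_one]
  · rw [hq, hm, hm, hm, hq, f1, e1, z1, mul_assoc]
    calc x * (f * e * z * (f * e * z)) = x * (f * e * (f * e) * (z * z)) := by
          simp only [mul_assoc]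
          rw [← mul_assoc z f, hz.central f, mul_assoc f z, ← mul_assoc z e, hz.central e,
            mul_assoc e z]
      _ = x := by
          rw [hz.sq, mul_one, hef.symm, mul_assoc, ← mul_assoc f e, ← hef, mul_assoc e f, hf,
            mul_one, he, mul_one]

/-- The Siegel automorphism. -/
noncomputable def sg (hz : CommData z) (he : e * e = 1) (hf : f * f = 1) (hef : e * f = f * e) :
    MulAut Q where
  toFun := sgFun z e f
  invFun := sgFun z e f
  left_inv x := sgFun_twice hz he hf hef x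
  right_inv x := sgFun_twice hz he hf hef x
  map_mul' := sgFun_mul hz he hf hef

theorem conj_apply_cm (hz : CommData z) (p x : Q) : MulAut.conj p x = x * cm z x p := by
  rw [MulAut.conj_apply, hz.swap_cm x p, mul_assoc (x * p), hz.cm_central x p p⁻¹]
  simp [mul_assoc]

/-- Three orthogonal hyperbolic pairs obstruct a splitting of `Aut Q` over the inner automorphisms. -/
theorem no_complement (hz : CommData z) {u e f g h k : Q}
    (hu : u * u = z) (he : e * e = 1) (hf : f * f = 1)
    (hue : u * e = e * u) (huf : u * f = f * u) (hef : e * f = f * e)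
    (hgu : g * u = u * g) (hge : g * e ≠ e * g)
    (hhu : h * u = u * h) (hhe : h * e = e * h) (hhf : h * f ≠ f * h)
    (hku : k * u ≠ u * k) (hke : k * e = e * k) (hkf : k * f = f * k)
    (L : Subgroup (MulAut Q)) : ¬ (MulAut.conj : Q →* MulAut Q).range.IsComplement' L := by
  intro hL
  set I := (MulAut.conj : Q →* MulAut Q).range with hI
  obtain ⟨v, hv⟩ : ∃ v, v = u * e := ⟨_, rfl⟩
  have hvv : v * v = z := by
    rw [hv, mul_assoc, ← mul_assoc e u, ← hue, mul_assoc u e, he, mul_one, hu]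
  have huv : u * v = v * u := by rw [hv, mul_assoc u e u, ← hue]
  have hev : e * v = v * e := by rw [hv, ← mul_assoc, ← hue]
  have hfv : f * v = v * f := by rw [hv, ← mul_assoc, ← huf, mul_assoc, ← hef, mul_assoc]
  set α := tv hz hu * tv hz hvv with hα
  set β := tv hz hu * sg hz he hf hef with hβ
  -- the inner automorphisms form a normal subgroup
  haveI hIn : I.Normal := ⟨fun c ⟨p, hp⟩ γ => ⟨γ p, by
    ext x; simp [← hp, MulAut.conj_apply]⟩⟩
  have hsq : ∀ {a : Q} (ha : a * a = z), tv hz ha * tv hz ha ∈ I := fun {a} ha => ⟨a, by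
    ext x
    rw [MulAut.mul_apply, conj_apply_cm hz]
    exact (tvFun_twice hz ha x).symm⟩
  have hssq : sg hz he hf hef * sg hz he hf hef = 1 := by
    ext x; exact sgFun_twice hz he hf hef x
  set π := QuotientGroup.mk' I with hπ
  have hcomm : ∀ {a b : Q} (ha : a * a = z) (hb : b * b = z), a * b = b * a →
      tv hz ha * tv hz hb = tv hz hb * tv hz ha := by
    intro a b ha hb hab
    ext x
    show tvFun a (tvFun b x) = tvFun b (tvFun a x)
    have hta : tvFun a b = b := tvFun_eq hab.symm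
    have htb : tvFun b a = a := tvFun_eq hab
    by_cases h1 : x * a = a * x <;> by_cases h2 : x * b = b * x
    · rw [tvFun_eq h2, tvFun_eq h1, tvFun_eq h2]
    · rw [tvFun_ne h2, tvFun_mul hz ha, tvFun_eq h1, hta, tvFun_ne h2]
    · rw [tvFun_eq h2, tvFun_ne h1, tvFun_mul hz hb, tvFun_eq h2, htb]
    · rw [tvFun_ne h2, tvFun_ne h1, tvFun_mul hz ha, tvFun_ne h1, hta, tvFun_mul hz hb,
        tvFun_ne h2, htb, mul_assoc, mul_assoc, hab]
  have hts : ∀ {a : Q} (ha : a * a = z), a * e = e * a → a * f = f * a →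
      tv hz ha * sg hz he hf hef = sg hz he hf hef * tv hz ha := by
    intro a ha hae haf
    ext x
    show tvFun a (sgFun z e f x) = sgFun z e f (tvFun a x)
    have hsa : sgFun z e f a = a := by simp [sgFun, hae, haf]
    have hte : tvFun a e = e := tvFun_eq hae.symm
    have htf : tvFun a f = f := tvFun_eq haf.symm
    have htz : tvFun a z = z := tvFun_eq (hz.central a)
    by_cases h1 : x * a = a * x
    · rw [tvFun_eq h1]
      rcases sgFun_cases (z := z) (e := e) (f := f) x with
          ⟨-, -, hq⟩ | ⟨-, -, hq⟩ | ⟨-, -, hq⟩ | ⟨-, -, hq⟩ <;>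
        rw [hq] <;> simp only [tvFun_mul hz ha, tvFun_eq h1, hte, htf, htz]
    · rw [tvFun_ne h1, sgFun_mul hz he hf hef, hsa]
      rcases sgFun_cases (z := z) (e := e) (f := f) x with
          ⟨-, -, hq⟩ | ⟨-, -, hq⟩ | ⟨-, -, hq⟩ | ⟨-, -, hq⟩ <;>
        rw [hq] <;> simp only [tvFun_mul hz ha, tvFun_ne h1, hte, htf, htz, mul_assoc]
      · rw [hae]
      · rw [haf]
      · rw [← mul_assoc a f, haf, mul_assoc, ← mul_assoc a e, hae, mul_assoc, ← hz.central a]
  have hπα : π α * π α = 1 := by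
    rw [← map_mul, QuotientGroup.mk'_apply, QuotientGroup.eq_one_iff, hα, mul_assoc,
      ← mul_assoc (tv hz hvv), ← hcomm hu hvv huv, mul_assoc (tv hz hu) (tv hz hvv), ← mul_assoc]
    exact mul_mem (hsq hu) (hsq hvv)
  have hπβ : π β * π β = 1 := by
    rw [← map_mul, QuotientGroup.mk'_apply, QuotientGroup.eq_one_iff, hβ, mul_assoc,
      ← mul_assoc (sg hz he hf hef), ← hts hu hue huf, mul_assoc (tv hz hu) (sg hz he hf hef),
      hssq, mul_one]
    exact hsq hu
  have hαβ : α * β = β * α := by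
    have h1 := hts hu hue huf
    have h2 := hts hvv hev.symm hfv.symm
    have h3 := hcomm hu hvv huv
    rw [hα, hβ]
    calc tv hz hu * tv hz hvv * (tv hz hu * sg hz he hf hef)
        = tv hz hu * (tv hz hvv * tv hz hu) * sg hz he hf hef := by simp only [mul_assoc]
      _ = tv hz hu * tv hz hu * (tv hz hvv * sg hz he hf hef) := by
          rw [← h3]; simp only [mul_assoc]
      _ = tv hz hu * (tv hz hu * sg hz he hf hef) * tv hz hvv := by
          rw [h2]; simp only [mul_assoc]
      _ = tv hz hu * (sg hz he hf hef * tv hz hu) * tv hz hvv := by rw [← h1]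
      _ = tv hz hu * sg hz he hf hef * (tv hz hu * tv hz hvv) := by simp only [mul_assoc]
  -- representatives in `L`
  have hrep : ∀ γ : MulAut Q, ∃ p : Q, γ * MulAut.conj p ∈ L := by
    intro γ
    obtain ⟨⟨c, l⟩, hcl⟩ := (hL.existsUnique γ).exists
    obtain ⟨p, hp⟩ := hIn.conj_mem _ (I.inv_mem c.2) γ⁻¹
    refine ⟨p, ?_⟩
    rw [hp, inv_inv, ← mul_assoc, ← mul_assoc, mul_inv_cancel, one_mul, ← hcl, inv_mul_cancel_left]
    exact l.2
  obtain ⟨p, hp⟩ := hrep α
  obtain ⟨q, hq⟩ := hrep β
  have hdis : ∀ γ ∈ L, π γ = 1 → γ = 1 := fun γ h1 h2 =>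
    Subgroup.disjoint_def.1 hL.disjoint ((QuotientGroup.eq_one_iff γ).1 h2) h1
  have hπc : ∀ r : Q, π (MulAut.conj r) = 1 := fun r => (QuotientGroup.eq_one_iff _).2 ⟨r, rfl⟩
  set A := α * MulAut.conj p with hA
  set B := β * MulAut.conj q with hB
  have hAA : A * A = 1 := hdis _ (mul_mem hp hp) (by
    rw [map_mul, hA, map_mul, hπc, mul_one, hπα])
  have hBB : B * B = 1 := hdis _ (mul_mem hq hq) (by
    rw [map_mul, hB, map_mul, hπc, mul_one, hπβ])
  have hAB : A * B = B * A := by
    have h1 := hdis _ (mul_mem (mul_mem hp hq) (inv_mem (mul_mem hq hp))) (by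
      have hπαβ : π α * π β = π β * π α := by rw [← map_mul π α β, hαβ, map_mul π β α]
      rw [map_mul π (A * B), map_inv, map_mul π A B, map_mul π B A, hA, hB, map_mul π α,
        map_mul π β, hπc, hπc, mul_one, mul_one, hπαβ, mul_inv_cancel])
    exact mul_inv_eq_one.1 h1
  set P := fun x => cm z x p with hP
  set R := fun x => cm z x q with hR
  -- the values of the automorphisms
  have hAx : ∀ x, A x = α x * P x := by
    intro x
    show α (MulAut.conj p x) = _
    rw [conj_apply_cm hz, map_mul]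
    rcases CommData.cm_cases (z := z) x p with ⟨-, e'⟩ | ⟨-, e'⟩ <;> simp only [hP, e']
    · rw [map_one]
    · congr 1
      show tvFun u (tvFun v z) = z
      rw [tvFun_eq (hz.central v), tvFun_eq (hz.central u)]
  have hBx : ∀ x, B x = β x * R x := by
    intro x
    show β (MulAut.conj q x) = _
    rw [conj_apply_cm hz, map_mul]
    rcases CommData.cm_cases (z := z) x q with ⟨-, e'⟩ | ⟨-, e'⟩ <;> simp only [hR, e']
    · rw [map_one]
    · congr 1
      show tvFun u (sgFun z e f z) = z
      rw [show sgFun z e f z = z by simp [sgFun, hz.central e, hz.central f],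
        tvFun_eq (hz.central u)]
  have hαa : ∀ x, α x = tvFun u (tvFun v x) := fun x => rfl
  have hβa : ∀ x, β x = tvFun u (sgFun z e f x) := fun x => rfl
  have hgv : g * v ≠ v * g := fun h0 => hge (by
    rw [hv, ← mul_assoc, hgu, mul_assoc, mul_assoc u e g] at h0
    exact mul_left_cancel h0)
  have hhv : h * v = v * h := by rw [hv, ← mul_assoc, hhu, mul_assoc, hhe, mul_assoc]
  have hkv : k * v ≠ v * k := fun h0 => hku (by
    rw [hv, ← mul_assoc, mul_assoc u e k, ← hke, ← mul_assoc u k e] at h0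
    exact mul_right_cancel h0)
  have αg : α g = g * v := by
    rw [hαa, tvFun_ne hgv, tvFun_mul hz hu, tvFun_eq hgu, tvFun_eq huv.symm]
  have αv : α v = v := by rw [hαa, tvFun_eq rfl, tvFun_eq huv.symm]
  have αu : α u = u := by rw [hαa, tvFun_eq huv, tvFun_eq rfl]
  have αe : α e = e := by rw [hαa, tvFun_eq hev, tvFun_eq hue.symm]
  have αh : α h = h := by rw [hαa, tvFun_eq hhv, tvFun_eq hhu]
  have αk : α k = k * (e * z) := by
    rw [hαa, tvFun_ne hkv, tvFun_mul hz hu, tvFun_ne hku, tvFun_eq huv.symm, hv, mul_assoc,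
      ← mul_assoc u u, hu, hz.central e]
  have βh : β h = h * e := by
    rw [hβa, show sgFun z e f h = h * e by simp [sgFun, hhe, hhf], tvFun_mul hz hu, tvFun_eq hhu,
      tvFun_eq hue.symm]
  have βe : β e = e := by
    rw [hβa, show sgFun z e f e = e by simp [sgFun, hef], tvFun_eq hue.symm]
  have βk : β k = k * u := by
    rw [hβa, show sgFun z e f k = k by simp [sgFun, hke, hkf], tvFun_ne hku]
  have βz : β z = z := by
    rw [hβa, show sgFun z e f z = z by simp [sgFun, hz.central e, hz.central f],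
      tvFun_eq (hz.central u)]
  have hPc : ∀ x y : Q, P x * y = y * P x := fun x y => hz.cm_central x p y
  have hRc : ∀ x y : Q, R x * y = y * R x := fun x y => hz.cm_central x q y
  have hPm : ∀ x y : Q, P (x * y) = P x * P y := fun x y => hz.cm_mul x y p
  have hRm : ∀ x y : Q, R (x * y) = R x * R y := fun x y => hz.cm_mul x y q
  have hPP : ∀ x, P x * P x = 1 := fun x => hz.cm_sq x p
  have hRR : ∀ x, R x * R x = 1 := fun x => hz.cm_sq x q
  have hPz : P z = 1 := hz.cm_zleft p
  have hRz : R z = 1 := hz.cm_zleft q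
  have hAc : ∀ x, A (R x) = R x := fun x => by
    rcases CommData.cm_cases (z := z) x q with ⟨-, e'⟩ | ⟨-, e'⟩ <;> simp only [hR, e', map_one]
    rw [hAx, hPz, mul_one, hαa, tvFun_eq (hz.central v), tvFun_eq (hz.central u)]
  have hBc : ∀ x, B (P x) = P x := fun x => by
    rcases CommData.cm_cases (z := z) x p with ⟨-, e'⟩ | ⟨-, e'⟩ <;> simp only [hP, e', map_one]
    rw [hBx, hRz, mul_one, βz]
  have hAc' : ∀ x, A (P x) = P x := fun x => by
    rcases CommData.cm_cases (z := z) x p with ⟨-, e'⟩ | ⟨-, e'⟩ <;> simp only [hP, e', map_one]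
    rw [hAx, hPz, mul_one, hαa, tvFun_eq (hz.central v), tvFun_eq (hz.central u)]
  have hBc' : ∀ x, B (R x) = R x := fun x => by
    rcases CommData.cm_cases (z := z) x q with ⟨-, e'⟩ | ⟨-, e'⟩ <;> simp only [hR, e', map_one]
    rw [hBx, hRz, mul_one, βz]
  -- `P v = z`
  have h1 : P v = z := by
    have h0 := congrArg (fun γ : MulAut Q => γ g) hAA
    simp only [MulAut.mul_apply, MulAut.one_apply] at h0
    rw [hAx g, αg, map_mul, hAc', map_mul, hAx g, hAx v, αg, αv] at h0
    have h5 : g * v * P g * (v * P v) * P g = g * (z * P v) := by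
      rw [mul_assoc (g * v), hPc g (v * P v), mul_assoc, mul_assoc, mul_assoc, hPP, mul_one,
        ← mul_assoc v, hvv]
    rw [h5] at h0
    have h6 : z * P v = 1 := mul_left_cancel (h0.trans (mul_one g).symm)
    calc P v = z * z * P v := by rw [hz.sq, one_mul]
      _ = z := by rw [mul_assoc, h6, mul_one]
  -- `R e = 1`
  have h2 : R e = 1 := by
    have h0 := congrArg (fun γ : MulAut Q => γ h) hBB
    simp only [MulAut.mul_apply, MulAut.one_apply] at h0
    rw [hBx h, βh, map_mul, hBc', map_mul, hBx h, hBx e, βh, βe] at h0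
    have h5 : h * e * R h * (e * R e) * R h = h * R e := by
      rw [mul_assoc (h * e), hRc h (e * R e), mul_assoc, mul_assoc, mul_assoc, hRR, mul_one,
        ← mul_assoc e, he, one_mul]
    rw [h5] at h0
    exact mul_left_cancel (h0.trans (mul_one h).symm)
  -- `P e = 1`
  have h3 : P e = 1 := by
    have h0 := congrArg (fun γ : MulAut Q => γ h) hAB
    simp only [MulAut.mul_apply] at h0
    rw [hBx h, hAx h, βh, αh, map_mul, hAc, map_mul, map_mul, hBc, hAx h, hAx e, αh, αe,
      hBx h, βh] at h0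
    have h5 : h * P h * (e * P e) * R h = h * e * R h * P h * P e := by
      calc h * P h * (e * P e) * R h = h * e * (P h * P e * R h) := by
            rw [mul_assoc h (P h), ← mul_assoc (P h) e, hPc h e]; simp only [mul_assoc]
        _ = h * e * R h * P h * P e := by
            rw [← hRc h (P h * P e)]; simp only [mul_assoc]
    rw [h5] at h0
    exact mul_left_cancel (h0.trans (mul_one _).symm)
  -- `P u = 1`
  have h4 : P u = 1 := by
    have h0 := congrArg (fun γ : MulAut Q => γ k) hAB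
    simp only [MulAut.mul_apply] at h0
    rw [hBx k, hAx k, βk, αk, map_mul, hAc, map_mul, hAx k, hAx u, αk, αu, map_mul, hBc, map_mul,
      map_mul, hBx k, hBx e, hBx z, hRz, βk, βe, βz, mul_one, h2, mul_one] at h0
    have h5 : k * (e * z) * P k * (u * P u) * R k = k * u * R k * (e * z) * P k * P u := by
      calc k * (e * z) * P k * (u * P u) * R k = k * (e * z) * u * (P k * P u * R k) := by
            rw [mul_assoc (k * (e * z)), ← mul_assoc (P k) u, hPc k u]; simp only [mul_assoc]
        _ = k * u * (e * z) * (R k * (P k * P u)) := by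
            rw [hRc k, mul_assoc k (e * z) u, mul_assoc e z u, hz.central u, ← mul_assoc e u z,
              ← hue]
            simp only [mul_assoc]
        _ = k * u * R k * (e * z) * P k * P u := by
            rw [← mul_assoc _ (R k), mul_assoc (k * u) (e * z) (R k), ← hRc k (e * z)]
            simp only [mul_assoc]
    rw [h5] at h0
    exact mul_left_cancel (h0.trans (mul_one _).symm)
  exact hz.ne (by rw [← h1, hv, hPm, h4, h3, one_mul])

/-- An extraspecial 2-group with a large elementary abelian subgroup has no complement to its inner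
automorphisms. -/
theorem no_complement_of_plus [Finite Q] (hQ : Cfsg.IsExtraspecial 2 Q) (E : Subgroup Q)
    (hE : Cfsg.IsElementaryAbelian 2 E) (hcard : 16 ≤ Nat.card E)
    (L : Subgroup (MulAut Q)) : ¬ (MulAut.conj : Q →* MulAut Q).range.IsComplement' L := by
  obtain ⟨-, hcomm⟩ := Fus.extraspecial_two_facts hQ
  have hZ2 : Nat.card (center Q) = 2 := hQ.2
  obtain ⟨z', hz1⟩ : ∃ z' : center Q, z' ≠ 1 := by
    haveI : Nontrivial (center Q) := Finite.one_lt_card_iff_nontrivial.1 (by rw [hZ2]; norm_num)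
    exact exists_ne 1
  set z := (z' : Q) with hzdef
  have hzcases : ∀ c ∈ center Q, c = 1 ∨ c = z := by
    intro c hc
    by_contra hne
    push Not at hne
    have h3 : ({1, z', ⟨c, hc⟩} : Finset (center Q)).card = 3 := by
      rw [Finset.card_insert_of_notMem, Finset.card_pair]
      · exact fun h => hne.2 (congrArg Subtype.val h).symm
      · simp only [Finset.mem_insert, Finset.mem_singleton, not_or]
        exact ⟨hz1.symm, fun h => hne.1 (congrArg Subtype.val h).symm⟩
    haveI := Fintype.ofFinite (center Q)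
    have := Finset.card_le_univ ({1, z', ⟨c, hc⟩} : Finset (center Q))
    rw [Nat.card_eq_fintype_card] at hZ2
    omega
  have hz : CommData z := by
    refine ⟨?_, fun h => hz1 (Subtype.ext h), fun x => (Subgroup.mem_center_iff.1 z'.2 x).symm,
      fun x y hne => ?_⟩
    · rcases hzcases (z * z) (mul_mem z'.2 z'.2) with h | h
      · exact h
      · exact absurd (mul_eq_right.1 h) fun h => hz1 (Subtype.ext h)
    · rcases hzcases _ (hcomm y x) with h | h
      · exact absurd (commutatorElement_eq_one_iff_mul_comm.1 h).symm hne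
      · rw [← (Subgroup.mem_center_iff.1 z'.2 (x * y)).symm, ← hzdef, ← h, commutatorElement_def]
        group
  have hEc : ∀ x ∈ E, ∀ y ∈ E, x * y = y * x := fun x hx y hy =>
    congrArg Subtype.val (hE.1.is_comm.comm ⟨x, hx⟩ ⟨y, hy⟩)
  have hE2 : ∀ x ∈ E, x * x = 1 := fun x hx => by rw [← pow_two]; exact hE.2 x hx
  have hpick : ∀ K : Subgroup Q, 2 < Nat.card K → ∃ x ∈ K, ∃ y, x * y ≠ y * x := by
    intro K hK
    by_contra hcon
    push Not at hcon
    have : K ≤ center Q := fun x hx => Subgroup.mem_center_iff.2 fun y => (hcon x hx y).symm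
    have := card_le_of_le this
    omega
  have hprod : ∀ {x a b : Q}, x * a ≠ a * x → x * b = b * x → x * (a * b) ≠ a * b * x :=
    fun {x a b} h1 h2 h => h1 (mul_right_cancel (b := b) (by
      rw [mul_assoc, h, mul_assoc, ← h2, ← mul_assoc]))
  have hprod0 : ∀ {x a b : Q}, x * a = a * x → x * b = b * x → x * (a * b) = a * b * x :=
    fun {x a b} h1 h2 => by rw [← mul_assoc, h1, mul_assoc, h2, ← mul_assoc]
  have hprod2 : ∀ {x a b : Q}, x * a ≠ a * x → x * b ≠ b * x → x * (a * b) = a * b * x := by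
    intro x a b h1 h2
    rw [mul_assoc a b x, hz.swap x b h2, ← mul_assoc a, ← mul_assoc a x b, hz.swap x a h1]
    calc x * (a * b) = x * (a * b) * (z * z) := by rw [hz.sq, mul_one]
      _ = x * a * z * b * z := by
          simp only [mul_assoc]; rw [← mul_assoc z b, hz.central b, mul_assoc b z z]
  obtain ⟨e, heE, g, hge⟩ := hpick E (by omega)
  set K₁ := E ⊓ centralizer ({g} : Set Q) with hK₁
  have hK₁c : Nat.card E ≤ 2 * Nat.card K₁ := Fus.card_centralizer_step hQ E g
  obtain ⟨h, hhK, f₀, hhf₀⟩ := hpick K₁ (by omega)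
  have hhg : h * g = g * h := mem_centralizer_singleton_iff.1 hhK.2
  have hhe : h * e = e * h := hEc h hhK.1 e heE
  obtain ⟨f₁, hhf₁, hef₁⟩ : ∃ f₁, h * f₁ ≠ f₁ * h ∧ e * f₁ = f₁ * e := by
    by_cases h0 : e * f₀ = f₀ * e
    · exact ⟨f₀, hhf₀, h0⟩
    · exact ⟨f₀ * g, hprod hhf₀ hhg, hprod2 h0 hge⟩
  obtain ⟨f, hff, hhf, hef⟩ : ∃ f, f * f = 1 ∧ h * f ≠ f * h ∧ e * f = f * e := by
    by_cases h0 : f₁ * f₁ = 1
    · exact ⟨f₁, h0, hhf₁, hef₁⟩
    · refine ⟨f₁ * h, ?_, hprod hhf₁ rfl, hprod0 hef₁ (hEc e heE h hhK.1)⟩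
      have h1 : f₁ * f₁ = z := (hzcases _ (by
        rw [← pow_two]; exact (Fus.extraspecial_two_facts hQ).1 f₁)).resolve_left h0
      calc f₁ * h * (f₁ * h) = f₁ * (h * f₁) * h := by simp only [mul_assoc]
        _ = f₁ * (f₁ * h * z) * h := by rw [hz.swap f₁ h (fun a => hhf₁ a.symm)]
        _ = f₁ * f₁ * z * (h * h) := by
            simp only [mul_assoc]; rw [← mul_assoc h z, ← hz.central h, mul_assoc]
        _ = 1 := by rw [h1, hz.sq, hE2 h hhK.1, one_mul]
  set K₂ := K₁ ⊓ centralizer ({f} : Set Q) with hK₂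
  have hK₂c : Nat.card K₁ ≤ 2 * Nat.card K₂ := Fus.card_centralizer_step hQ K₁ f
  obtain ⟨k, hkK, u₀, hku₀⟩ := hpick K₂ (by omega)
  have hkg : k * g = g * k := mem_centralizer_singleton_iff.1 hkK.1.2
  have hkf : k * f = f * k := mem_centralizer_singleton_iff.1 hkK.2
  have hke : k * e = e * k := hEc k hkK.1.1 e heE
  have hkh : k * h = h * k := hEc k hkK.1.1 h hhK.1
  obtain ⟨u₁, hku₁, heu₁⟩ : ∃ u₁, k * u₁ ≠ u₁ * k ∧ e * u₁ = u₁ * e := by
    by_cases h0 : e * u₀ = u₀ * e
    · exact ⟨u₀, hku₀, h0⟩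
    · exact ⟨u₀ * g, hprod hku₀ hkg, hprod2 h0 hge⟩
  obtain ⟨u₂, hku₂, heu₂, hhu₂⟩ : ∃ u₂, k * u₂ ≠ u₂ * k ∧ e * u₂ = u₂ * e ∧ h * u₂ = u₂ * h := by
    by_cases h0 : h * u₁ = u₁ * h
    · exact ⟨u₁, hku₁, heu₁, h0⟩
    · exact ⟨u₁ * f, hprod hku₁ hkf, hprod0 heu₁ hef, hprod2 h0 hhf⟩
  obtain ⟨u₃, hku₃, heu₃, hhu₃, hgu₃⟩ : ∃ u₃, k * u₃ ≠ u₃ * k ∧ e * u₃ = u₃ * e ∧
      h * u₃ = u₃ * h ∧ g * u₃ = u₃ * g := by
    by_cases h0 : g * u₂ = u₂ * g
    · exact ⟨u₂, hku₂, heu₂, hhu₂, h0⟩
    · exact ⟨u₂ * e, hprod hku₂ hke, hprod0 heu₂ rfl, hprod0 hhu₂ hhe,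
        hprod2 h0 (fun a => hge a.symm)⟩
  obtain ⟨u₄, hku₄, heu₄, hhu₄, hgu₄, hfu₄⟩ : ∃ u₄, k * u₄ ≠ u₄ * k ∧ e * u₄ = u₄ * e ∧
      h * u₄ = u₄ * h ∧ g * u₄ = u₄ * g ∧ f * u₄ = u₄ * f := by
    by_cases h0 : f * u₃ = u₃ * f
    · exact ⟨u₃, hku₃, heu₃, hhu₃, hgu₃, h0⟩
    · exact ⟨u₃ * h, hprod hku₃ hkh, hprod0 heu₃ hhe.symm, hprod0 hhu₃ rfl, hprod0 hgu₃ hhg.symm,
        hprod2 h0 (fun a => hhf a.symm)⟩
  obtain ⟨u, huu, hku, heu, hhu, hgu, hfu⟩ : ∃ u, u * u = z ∧ k * u ≠ u * k ∧ e * u = u * e ∧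
      h * u = u * h ∧ g * u = u * g ∧ f * u = u * f := by
    by_cases h0 : u₄ * u₄ = z
    · exact ⟨u₄, h0, hku₄, heu₄, hhu₄, hgu₄, hfu₄⟩
    · refine ⟨u₄ * k, ?_, hprod hku₄ rfl, hprod0 heu₄ hke.symm, hprod0 hhu₄ hkh.symm,
        hprod0 hgu₄ hkg.symm, hprod0 hfu₄ hkf.symm⟩
      have h1 : u₄ * u₄ = 1 := (hzcases _ (by
        rw [← pow_two]; exact (Fus.extraspecial_two_facts hQ).1 u₄)).resolve_right h0
      calc u₄ * k * (u₄ * k) = u₄ * (k * u₄) * k := by simp only [mul_assoc]
        _ = u₄ * (u₄ * k * z) * k := by rw [hz.swap u₄ k (fun a => hku₄ a.symm)]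
        _ = u₄ * u₄ * z * (k * k) := by
            simp only [mul_assoc]; rw [← mul_assoc k z, ← hz.central k, mul_assoc]
        _ = z := by rw [h1, hE2 k hkK.1.1, one_mul, mul_one]
  exact no_complement hz huu (hE2 e heE) hff heu.symm hfu.symm hef hgu (fun a => hge a.symm)
    hhu hhe hhf hku hke hkf L

end Cfsg.Agent.Invol.ExtraAut
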