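import Mathlib
import Cfsg.Prelude.Def_Transfer
import Cfsg.Agent.Lib.Grp.Frattini

/-!
An orthogonal group of a hyperbolic quadratic space over two elements lifts to an extension of an
extraspecial `2`-group: the normalizer of that group in its representation over three elements.
-/

set_option autoImplicit false

namespace Cfsg.Agent.Invol.ExtraExtension

variable {n : ℕ}

/-- The quadratic space. -/
abbrev W (n : ℕ) : Type := (Fin n → ZMod 2) × (Fin n → ZMod 2)

/-- Matrices of the representation. -/
abbrev Mat (n : ℕ) : Type := Matrix (Fin n → ZMod 2) (Fin n → ZMod 2) (ZMod 3)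

/-- The sign of an element of `ZMod 2`. -/
def s (t : ZMod 2) : ZMod 3 := if t = 0 then 1 else -1

theorem s_zero : s 0 = 1 := rfl
theorem s_one : s 1 = -1 := rfl
theorem s_add : ∀ a b : ZMod 2, s (a + b) = s a * s b := by decide
theorem s_mul_self : ∀ a : ZMod 2, s a * s a = 1 := by decide
theorem s_inj : ∀ a b : ZMod 2, s a = s b → a = b := by decide
theorem s_ne : ∀ a : ZMod 2, s a ≠ 0 := by decide
theorem unit_three : ∀ c : ZMod 3, c ≠ 0 → ∃ t : ZMod 2, c = s t := by decide
theorem two_cases : ∀ t : ZMod 2, t = 0 ∨ t = 1 := by decide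
theorem add_self : ∀ t : ZMod 2, t + t = 0 := by decide
theorem add_eq_zero' : ∀ a b : ZMod 2, a + b = 0 → a = b := by decide

/-- The bilinear form giving the cocycle. -/
def β (u v : W n) : ZMod 2 := u.1 ⬝ᵥ v.2

theorem β_add_left (u u' v : W n) : β (u + u') v = β u v + β u' v := add_dotProduct _ _ _
theorem β_add_right (u v v' : W n) : β u (v + v') = β u v + β u v' := dotProduct_add _ _ _
theorem β_zero (u : W n) : β u 0 = 0 := dotProduct_zero _
theorem zero_β (u : W n) : β 0 u = 0 := zero_dotProduct _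

theorem vec_self {ι : Type} (a : ι → ZMod 2) : a + a = 0 := funext fun i => add_self (a i)

theorem W_self (u : W n) : u + u = 0 := Prod.ext (vec_self _) (vec_self _)

/-- The representation. -/
def σ (u : W n) : Mat n := fun x y => if y = x + u.1 then s (u.2 ⬝ᵥ x) else 0

theorem σ_zero : σ (0 : W n) = 1 := by
  ext x y
  simp only [σ, Prod.fst_zero, Prod.snd_zero, add_zero, zero_dotProduct, s_zero, Matrix.one_apply]
  exact if_congr eq_comm rfl rfl

theorem σ_mul (u v : W n) : σ u * σ v = s (β u v) • σ (u + v) := by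
  classical
  ext x z
  rw [Matrix.mul_apply, Finset.sum_eq_single (x + u.1)]
  · simp only [σ, if_true, Matrix.smul_apply, smul_eq_mul, Prod.fst_add, Prod.snd_add, add_assoc]
    by_cases h : z = x + (u.1 + v.1)
    · rw [if_pos h, if_pos h, ← s_add, ← s_add]
      congr 1
      rw [add_dotProduct, dotProduct_add, β, dotProduct_comm u.1 v.2]
      abel
    · rw [if_neg h, if_neg h, mul_zero, mul_zero]
  · intro y _ hy
    simp [σ, hy]
  · exact fun h => absurd (Finset.mem_univ _) h

theorem σ_inv (u : W n) : σ u * (s (β u u) • σ u) = 1 := by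
  rw [Matrix.mul_smul, σ_mul, smul_smul, s_mul_self, one_smul, W_self, σ_zero]

theorem inv_σ (u : W n) : (s (β u u) • σ u) * σ u = 1 := by
  rw [Matrix.smul_mul, σ_mul, smul_smul, s_mul_self, one_smul, W_self, σ_zero]

theorem shift_char (d : Fin n → ZMod 2) (hd : d ≠ 0) :
    ∃ e, ∀ x : Fin n → ZMod 2, s (d ⬝ᵥ (x + e)) = -s (d ⬝ᵥ x) := by
  obtain ⟨i, hi⟩ := Function.ne_iff.mp hd
  have h1 : d i = 1 := (two_cases _).resolve_left hi
  refine ⟨Pi.single i (1 : ZMod 2), fun x => ?_⟩
  rw [dotProduct_add, dotProduct_single, h1, mul_one, s_add, s_one, mul_neg, mul_one]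

theorem neg_self_eq : ∀ a : ZMod 3, -a = a → a = 0 := by decide

theorem sum_char (d : Fin n → ZMod 2) (hd : d ≠ 0) : ∑ x : Fin n → ZMod 2, s (d ⬝ᵥ x) = 0 := by
  obtain ⟨e, h2⟩ := shift_char d hd
  have h : ∑ x : Fin n → ZMod 2, s (d ⬝ᵥ (x + e)) = ∑ x : Fin n → ZMod 2, s (d ⬝ᵥ x) :=
    Equiv.sum_comp (Equiv.addRight e) (fun x => s (d ⬝ᵥ x))
  rw [Finset.sum_congr rfl fun x _ => h2 x, Finset.sum_neg_distrib] at h
  exact neg_self_eq _ h

theorem indep : LinearIndependent (ZMod 3) (σ (n := n)) := by
  classical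
  rw [Fintype.linearIndependent_iff]
  intro c hc ⟨a, b⟩
  have hrow : ∀ x, ∑ b' : Fin n → ZMod 2, c (a, b') * s (b' ⬝ᵥ x) = 0 := by
    intro x
    have h := congrFun (congrFun hc x) (x + a)
    simp only [Matrix.sum_apply, Matrix.smul_apply, Matrix.zero_apply, smul_eq_mul, Fintype.sum_prod_type] at h
    rw [Finset.sum_eq_single a] at h
    · simpa [σ] using h
    · intro a' _ ha'
      refine Finset.sum_eq_zero fun b' _ => ?_
      simp [σ, Ne.symm ha']
    · exact fun hh => absurd (Finset.mem_univ _) hh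
  have h : ∑ x : Fin n → ZMod 2, s (b ⬝ᵥ x) * ∑ b' : Fin n → ZMod 2, c (a, b') * s (b' ⬝ᵥ x) = 0 :=
    Finset.sum_eq_zero fun x _ => by rw [hrow, mul_zero]
  simp only [Finset.mul_sum] at h
  rw [Finset.sum_comm] at h
  have h2 : ∀ b' : Fin n → ZMod 2, ∑ x : Fin n → ZMod 2, s (b ⬝ᵥ x) * (c (a, b') * s (b' ⬝ᵥ x)) =
      c (a, b') * ∑ x : Fin n → ZMod 2, s ((b + b') ⬝ᵥ x) := by
    intro b'
    rw [Finset.mul_sum]
    exact Finset.sum_congr rfl fun x _ => by rw [add_dotProduct, s_add]; ring
  rw [Finset.sum_congr rfl fun b' _ => h2 b', Finset.sum_eq_single b] at h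
  · have hne : (2 : ZMod 3) ^ n ≠ 0 := pow_ne_zero _ (by decide)
    simp only [vec_self, zero_dotProduct, s_zero, Finset.sum_const, Finset.card_univ, Fintype.card_fun,
      ZMod.card, Fintype.card_fin, nsmul_eq_mul, mul_one, Nat.cast_pow, Nat.cast_ofNat] at h
    exact (mul_eq_zero.mp h).resolve_right hne
  · intro b' _ hb'
    rw [sum_char (b + b') (fun e => hb' (funext fun i => (add_eq_zero' _ _ (congrFun e i)).symm)), mul_zero]
  · exact fun hh => absurd (Finset.mem_univ _) hh

theorem span_top : Submodule.span (ZMod 3) (Set.range (σ (n := n))) = ⊤ := by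
  refine indep.span_eq_top_of_card_eq_finrank ?_
  simp [Module.finrank_matrix, Fintype.card_prod]

/-- A matrix commuting with all of the representation is scalar. -/
theorem scalar_of_commute (g : Mat n) (h : ∀ u, g * σ u = σ u * g) : ∃ c, g = Matrix.scalar _ c := by
  classical
  have hall : ∀ M : Mat n, g * M = M * g := by
    intro M
    have hM : M ∈ Submodule.span (ZMod 3) (Set.range (σ (n := n))) := by rw [span_top]; trivial
    induction hM using Submodule.span_induction with
    | mem x hx => obtain ⟨u, rfl⟩ := hx; exact h u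
    | zero => simp
    | add x y _ _ hx hy => rw [mul_add, add_mul, hx, hy]
    | smul a x _ hx => rw [Matrix.mul_smul, Matrix.smul_mul, hx]
  refine ⟨g 0 0, ?_⟩
  ext i j
  have h1 := congrFun (congrFun (hall (Matrix.single j 0 (1 : ZMod 3))) i) 0
  rw [Matrix.mul_single_apply_same, mul_one] at h1
  rw [Matrix.scalar_apply, Matrix.diagonal_apply]
  split_ifs with hij
  · subst hij
    rw [h1, Matrix.single_mul_apply_same, one_mul]
  · rw [h1, Matrix.single_mul_apply_of_ne (h := hij)]

/-- An isometry is realised by conjugation with an invertible matrix. -/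
theorem realise (k : W n ≃ₗ[ZMod 2] W n) (hk : ∀ u, β (k u) (k u) = β u u) :
    ∃ g : GL (Fin n → ZMod 2) (ZMod 3), ∀ u, ∃ t, (g : Mat n) * σ u = (s t • σ (k u)) * (g : Mat n) := by
  classical
  -- a function whose coboundary is the difference of the cocycles
  obtain ⟨γ, hγ⟩ : ∃ γ : W n → W n → ZMod 2, ∀ u v, γ u v = β (k u) (k v) + β u v := ⟨_, fun _ _ => rfl⟩
  have hγl : ∀ u u' v, γ (u + u') v = γ u v + γ u' v := fun u u' v => by
    rw [hγ, hγ, hγ, map_add, β_add_left, β_add_left]; abel
  have hγr : ∀ u v v', γ u (v + v') = γ u v + γ u v' := fun u v v' => by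
    rw [hγ, hγ, hγ, map_add, β_add_right, β_add_right]; abel
  have hγd : ∀ u, γ u u = 0 := fun u => by rw [hγ, hk, add_self]
  have hγs : ∀ u v, γ u v = γ v u := fun u v => by
    have := hγd (u + v)
    rw [hγl, hγr, hγr, hγd, hγd, zero_add, add_zero] at this
    exact add_eq_zero' _ _ this
  let bs := Module.finBasis (ZMod 2) (W n)
  let Γ : W n →ₗ[ZMod 2] W n →ₗ[ZMod 2] ZMod 2 := LinearMap.mk₂ (ZMod 2) γ hγl
    (fun c u v => by
      rcases two_cases c with rfl | rfl
      · simp only [zero_smul]; rw [hγ, map_zero, zero_β, zero_β, add_zero]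
      · simp)
    hγr
    (fun c u v => by
      rcases two_cases c with rfl | rfl
      · simp only [zero_smul]; rw [hγ, map_zero, β_zero, β_zero, add_zero]
      · simp)
  let M : Matrix (Fin _) (Fin _) (ZMod 2) := Matrix.of fun i j => if i < j then γ (bs i) (bs j) else 0
  let δ := Matrix.toLinearMap₂ bs bs M
  have hδ : ∀ u v, δ u v + δ v u = γ u v := by
    have heq : δ + δ.flip = Γ := by
      refine LinearMap.ext_basis bs bs fun i j => ?_
      simp only [LinearMap.add_apply, LinearMap.flip_apply, δ, Matrix.toLinearMap₂_apply_basis, Γ, LinearMap.mk₂_apply, M, Matrix.of_apply]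
      rcases lt_trichotomy i j with h | h | h
      · rw [if_pos h, if_neg h.asymm, add_zero]
      · subst h; rw [if_neg (lt_irrefl _), add_zero, hγd]
      · rw [if_neg h.asymm, if_pos h, zero_add, hγs]
    intro u v
    exact LinearMap.congr_fun (LinearMap.congr_fun heq u) v
  obtain ⟨f, hf⟩ : ∃ f : W n → ZMod 2, ∀ u, f u = δ u u := ⟨_, fun _ => rfl⟩
  have hfadd : ∀ u v, f (u + v) = f u + f v + γ u v := fun u v => by
    rw [hf, hf, hf, ← hδ]; simp only [map_add, LinearMap.add_apply]; abel
  obtain ⟨τ, hτ⟩ : ∃ τ : W n → Mat n, ∀ u, τ u = s (f u) • σ (k u) := ⟨_, fun _ => rfl⟩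
  have hτ_mul : ∀ u v, τ u * τ v = s (β u v) • τ (u + v) := fun u v => by
    rw [hτ, hτ, hτ, Matrix.smul_mul, Matrix.mul_smul, σ_mul, map_add, smul_smul, smul_smul, smul_smul, ← s_add, ← s_add,
      ← s_add, hfadd, hγ]
    congr 2
    linear_combination -(add_self (β u v))
  -- the intertwiner
  let T : Mat n → Mat n := fun X => ∑ u, τ u * X * (s (β u u) • σ u)
  have hint : ∀ X v, τ v * T X = T X * σ v := by
    intro X v
    show τ v * (∑ u, τ u * X * (s (β u u) • σ u)) = (∑ u, τ u * X * (s (β u u) • σ u)) * σ v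
    rw [Finset.mul_sum, Finset.sum_mul]
    refine Fintype.sum_equiv (Equiv.addLeft v) _ _ fun u => ?_
    rw [Equiv.coe_addLeft, ← mul_assoc, ← mul_assoc, hτ_mul]
    simp only [Matrix.smul_mul, Matrix.mul_smul, smul_smul, Matrix.mul_assoc, σ_mul]
    rw [show v + u + v = u by rw [add_comm v u, add_assoc, W_self, add_zero]]
    congr 1
    rw [← s_add, ← s_add]
    congr 1
    rw [β_add_left, β_add_left, β_add_right, β_add_right]
    linear_combination -(add_self (β v v)) - add_self (β u v)
  obtain ⟨X, hX⟩ : ∃ X, T X ≠ 0 := by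
    by_contra hall
    simp only [not_exists, not_not] at hall
    have key : ∀ r i, τ 0 r i = 0 := by
      intro r i
      have hsum : ∑ u, (τ u r i * s (β u u)) • σ u = 0 := by
        ext j c
        have h := congrFun (congrFun (hall (Matrix.single i j 1)) r) c
        simp only [T, Matrix.sum_apply, Matrix.zero_apply] at h
        simp only [Matrix.sum_apply, Matrix.zero_apply, Matrix.smul_apply, smul_eq_mul]
        refine Eq.trans (Finset.sum_congr rfl fun u _ => ?_) h
        rw [Matrix.mul_smul, Matrix.smul_apply, smul_eq_mul, Matrix.mul_apply, Finset.sum_eq_single j]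
        · rw [Matrix.mul_single_apply_same, mul_one]; ring
        · intro b _ hb
          rw [Matrix.mul_single_apply_of_ne (hbj := hb), zero_mul]
        · exact fun hh => absurd (Finset.mem_univ _) hh
      have h := Fintype.linearIndependent_iff.mp indep _ hsum 0
      exact (mul_eq_zero.mp h).resolve_right (s_ne _)
    have h := key 0 0
    rw [hτ, map_zero, σ_zero, Matrix.smul_apply, Matrix.one_apply_eq, smul_eq_mul, mul_one] at h
    exact s_ne _ h
  have hunit : IsUnit (T X) := by
    rw [← Matrix.mulVec_injective_iff_isUnit]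
    intro a b hab
    by_contra hne
    obtain ⟨i, hi⟩ := Function.ne_iff.mp hne
    have hker : ∀ M : Mat n, (T X).mulVec (M.mulVec (a - b)) = 0 := by
      intro M
      have hM : M ∈ Submodule.span (ZMod 3) (Set.range (σ (n := n))) := by rw [span_top]; trivial
      induction hM using Submodule.span_induction with
      | mem x hx =>
        obtain ⟨u, rfl⟩ := hx
        rw [Matrix.mulVec_mulVec, ← hint, ← Matrix.mulVec_mulVec, Matrix.mulVec_sub, hab, sub_self, Matrix.mulVec_zero]
      | zero => simp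
      | add x y _ _ hx hy => rw [Matrix.add_mulVec, Matrix.mulVec_add, hx, hy, add_zero]
      | smul c x _ hx => rw [Matrix.smul_mulVec, Matrix.mulVec_smul, hx, smul_zero]
    refine hX (Matrix.ext_of_mulVec_single fun j => ?_)
    have h := hker (Matrix.single j i ((a - b) i)⁻¹)
    rw [Matrix.single_mulVec] at h
    rw [Matrix.zero_mulVec]
    refine Eq.trans (congrArg (T X).mulVec ?_) h
    ext l
    by_cases hl : l = j
    · subst hl
      simp [Pi.single_apply, Function.update_apply, inv_mul_cancel₀ (sub_ne_zero.mpr hi)]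
    · simp [Pi.single_apply, Function.update_apply, hl]
  obtain ⟨g, hg⟩ := hunit
  exact ⟨g, fun u => ⟨f u, by rw [hg, ← hτ, hint]⟩⟩

end Cfsg.Agent.Invol.ExtraExtension
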