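import Cfsg.Agent.Lib.Invol.ExtraspecialExtension

/-!
The group of pairs (matrix, isometry) realising conjugation: an extension of an extraspecial group
of order `2^(2n+1)` by any group of isometries.
-/

set_option autoImplicit false

namespace Cfsg.Agent.Invol.ExtraExtension

variable {n : ℕ}

/-- Invertible matrices of the representation. -/
abbrev GLn (n : ℕ) : Type := GL (Fin n → ZMod 2) (ZMod 3)

/-- The elements `± σ u`. -/
def E (t : ZMod 2) (u : W n) : GLn n where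
  val := s t • σ u
  inv := s t • (s (β u u) • σ u)
  val_inv := by rw [Matrix.smul_mul, Matrix.mul_smul, smul_smul, s_mul_self, one_smul, σ_inv]
  inv_val := by rw [Matrix.smul_mul, Matrix.mul_smul, smul_smul, s_mul_self, one_smul, inv_σ]

theorem E_val (t : ZMod 2) (u : W n) : (E t u : Mat n) = s t • σ u := rfl

theorem E_mul (t t' : ZMod 2) (u v : W n) : E t u * E t' v = E (t + t' + β u v) (u + v) := by
  apply Units.ext
  rw [Units.val_mul, E_val, E_val, E_val, Matrix.smul_mul, Matrix.mul_smul, σ_mul, smul_smul, smul_smul,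
    s_add, s_add]

theorem E_zero : E 0 (0 : W n) = 1 := by
  apply Units.ext
  rw [E_val, s_zero, one_smul, σ_zero, Units.val_one]

theorem E_inj {t t' : ZMod 2} {u v : W n} (h : E t u = E t' v) : t = t' ∧ u = v := by
  have h' : s t • σ u = s t' • σ v := congrArg Units.val h
  have huv : u = v := indep.eq_of_smul_apply_eq_smul_apply _ _ _ _ (s_ne t) h'
  subst huv
  exact ⟨s_inj _ _ (smul_left_injective _ (indep.ne_zero u) h'), rfl⟩

theorem E_conj (t : ZMod 2) (u v : W n) :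
    (E t u : Mat n) * σ v = (s (β u v + β v u) • σ v) * (E t u : Mat n) := by
  rw [E_val, Matrix.smul_mul, Matrix.smul_mul, Matrix.mul_smul, σ_mul, σ_mul, smul_smul, smul_smul,
    smul_smul, add_comm v u, s_add]
  congr 1
  linear_combination (-(s t * s (β u v))) * s_mul_self (β v u)

/-- A pairing vanishing against everything comes from zero. -/
theorem eq_zero_of_pairing {w : W n} (h : ∀ u, β w u + β u w = 0) : w = 0 := by
  have h1 : w.1 = 0 := funext fun i => by
    have := h (0, Pi.single i 1)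
    simpa [β, dotProduct_single, zero_dotProduct] using this
  have h2 : w.2 = 0 := funext fun i => by
    have := h (Pi.single i 1, 0)
    simpa [β, single_dotProduct, dotProduct_zero] using this
  exact Prod.ext h1 h2

/-- Every additive functional is a pairing. -/
theorem exists_pairing (ε : W n → ZMod 2) (hε : ∀ u v, ε (u + v) = ε u + ε v) :
    ∃ w, ∀ u, β w u + β u w = ε u := by
  obtain ⟨L, hL⟩ : ∃ L : W n →ₗ[ZMod 2] ZMod 2, ∀ u, L u = ε u :=
    ⟨(AddMonoidHom.mk' ε hε).toZModLinearMap 2, fun _ => rfl⟩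
  refine ⟨(fun i => L (0, Pi.single i 1), fun i => L (Pi.single i 1, 0)), fun u => ?_⟩
  have h1 := LinearMap.pi_apply_eq_sum_univ (L.comp (LinearMap.inl (ZMod 2) _ _)) u.1
  have h2 := LinearMap.pi_apply_eq_sum_univ (L.comp (LinearMap.inr (ZMod 2) _ _)) u.2
  have hu : ε u = L (u.1, 0) + L (0, u.2) := by
    rw [← map_add, Prod.mk_add_mk, add_zero, zero_add, hL]
  have hs : ∀ i : Fin n, (fun j : Fin n => if i = j then (1 : ZMod 2) else 0) = Pi.single i 1 := fun i => by
    funext j; simp [Pi.single_apply, eq_comm]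
  simp only [LinearMap.comp_apply, LinearMap.inl_apply, LinearMap.inr_apply, hs, smul_eq_mul] at h1 h2
  rw [hu, h1, h2, add_comm]
  simp only [β, dotProduct]
  congr 1
  exact Finset.sum_congr rfl fun i _ => mul_comm _ _

/-- The group of pairs realising conjugation. -/
def extGroup (K₀ : Subgroup (W n ≃ₗ[ZMod 2] W n)) : Subgroup (GLn n × (W n ≃ₗ[ZMod 2] W n)) where
  carrier := {p | p.2 ∈ K₀ ∧ ∀ u, ∃ t, (p.1 : Mat n) * σ u = (s t • σ (p.2 u)) * (p.1 : Mat n)}
  one_mem' := ⟨K₀.one_mem, fun u => ⟨0, by simp [s_zero]⟩⟩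
  mul_mem' := by
    intro a b ha hb
    refine ⟨K₀.mul_mem ha.1 hb.1, fun u => ?_⟩
    obtain ⟨t, ht⟩ := hb.2 u
    obtain ⟨t', ht'⟩ := ha.2 (b.2 u)
    refine ⟨t + t', ?_⟩
    show ((a.1 * b.1 : GLn n) : Mat n) * σ u = (s (t + t') • σ (a.2 (b.2 u))) * ((a.1 * b.1 : GLn n) : Mat n)
    rw [Units.val_mul, Matrix.mul_assoc, ht, Matrix.smul_mul, Matrix.mul_smul, ← Matrix.mul_assoc, ht',
      Matrix.smul_mul, Matrix.smul_mul, smul_smul, Matrix.smul_mul, Matrix.mul_assoc, s_add]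
  inv_mem' := by
    intro a ha
    refine ⟨K₀.inv_mem ha.1, fun u => ?_⟩
    obtain ⟨t, ht⟩ := ha.2 (a.2⁻¹ u)
    rw [show a.2 (a.2⁻¹ u) = u from a.2.apply_symm_apply u] at ht
    refine ⟨t, ?_⟩
    show ((a.1⁻¹ : GLn n) : Mat n) * σ u = (s t • σ (a.2⁻¹ u)) * ((a.1⁻¹ : GLn n) : Mat n)
    have h : ((a.1⁻¹ : GLn n) : Mat n) * ((a.1 : Mat n) * σ (a.2⁻¹ u)) =
        ((a.1⁻¹ : GLn n) : Mat n) * (s t • σ u * (a.1 : Mat n)) := congrArg _ ht
    rw [Units.inv_mul_cancel_left, Matrix.smul_mul, Matrix.mul_smul, ← Matrix.mul_assoc] at h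
    rw [h, Matrix.smul_mul, Matrix.smul_mul, smul_smul, s_mul_self, one_smul, Matrix.mul_assoc, Units.mul_inv,
      Matrix.mul_one]

variable (K₀ : Subgroup (W n ≃ₗ[ZMod 2] W n))

/-- The projection to the isometries. -/
def proj : extGroup K₀ →* K₀ where
  toFun r := ⟨r.1.2, r.2.1⟩
  map_one' := rfl
  map_mul' _ _ := rfl

theorem proj_surjective (hK : ∀ k ∈ K₀, ∀ u, β (k u) (k u) = β u u) : Function.Surjective (proj K₀) := by
  intro k
  obtain ⟨g, hg⟩ := realise k.1 (hK k.1 k.2)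
  exact ⟨⟨(g, k.1), k.2, hg⟩, rfl⟩

theorem E_mem (t : ZMod 2) (u : W n) : ((E t u, 1) : GLn n × (W n ≃ₗ[ZMod 2] W n)) ∈ extGroup K₀ :=
  ⟨K₀.one_mem, fun v => ⟨_, E_conj t u v⟩⟩

theorem kernel_param (r : extGroup K₀) (hr : r.1.2 = 1) : ∃ t u, r.1.1 = E t u := by
  obtain ⟨g, hg⟩ : ∃ g, g = r.1.1 := ⟨_, rfl⟩
  have h : ∀ u, ∃ t, (g : Mat n) * σ u = (s t • σ u) * (g : Mat n) := fun u => by
    obtain ⟨t, ht⟩ := r.2.2 u
    rw [hr, ← hg] at ht
    exact ⟨t, ht⟩
  choose ε hε using h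
  have hεadd : ∀ u v, ε (u + v) = ε u + ε v := by
    intro u v
    have h1 : (g : Mat n) * (σ u * σ v) = (s (β u v) * s (ε (u + v))) • (σ (u + v) * (g : Mat n)) := by
      rw [σ_mul, Matrix.mul_smul, hε, Matrix.smul_mul, smul_smul]
    have h2 : (g : Mat n) * (σ u * σ v) = (s (β u v) * s (ε u + ε v)) • (σ (u + v) * (g : Mat n)) := by
      rw [← Matrix.mul_assoc, hε, Matrix.mul_assoc, hε, ← Matrix.mul_assoc, Matrix.smul_mul, Matrix.mul_smul,
        σ_mul, smul_smul, smul_smul, Matrix.smul_mul, s_add]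
      congr 1
      ring
    have hne : σ (u + v) * (g : Mat n) ≠ 0 := fun e =>
      indep.ne_zero (u + v) (by rw [← Matrix.mul_one (σ (u + v)), ← Units.mul_inv g, ← Matrix.mul_assoc, e,
        Matrix.zero_mul])
    exact s_inj _ _ (mul_left_cancel₀ (s_ne _) (smul_left_injective _ hne (h1.symm.trans h2)))
  obtain ⟨w, hw⟩ := exists_pairing ε hεadd
  obtain ⟨N, hN⟩ : ∃ N : GLn n, N = (E 0 w)⁻¹ * g := ⟨_, rfl⟩
  have hcomm : ∀ u, (N : Mat n) * σ u = σ u * (N : Mat n) := by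
    intro u
    have h1 : ((E 0 w : GLn n) : Mat n) * (σ u * (N : Mat n)) = (g : Mat n) * σ u := by
      rw [← Matrix.mul_assoc, E_conj, Matrix.mul_assoc, ← Units.val_mul, hN, mul_inv_cancel_left, hw, hε]
    have h2 : ((E 0 w : GLn n) : Mat n) * ((N : Mat n) * σ u) = (g : Mat n) * σ u := by
      rw [← Matrix.mul_assoc, ← Units.val_mul, hN, mul_inv_cancel_left]
    have h3 := congrArg (fun X => (((E 0 w)⁻¹ : GLn n) : Mat n) * X) (h2.trans h1.symm)
    simpa only [Units.inv_mul_cancel_left] using h3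
  obtain ⟨c, hc⟩ := scalar_of_commute _ hcomm
  have hc0 : c ≠ 0 := by
    intro e
    rw [e, map_zero] at hc
    exact not_isUnit_zero (hc ▸ N.isUnit)
  obtain ⟨t, ht⟩ := unit_three c hc0
  refine ⟨t, w, ?_⟩
  rw [← hg, show g = E 0 w * N by rw [hN, mul_inv_cancel_left]]
  apply Units.ext
  rw [Units.val_mul, hc, ht, E_val, E_val, s_zero, one_smul]
  ext i j
  rw [Matrix.scalar_apply, Matrix.mul_diagonal, Matrix.smul_apply, smul_eq_mul, mul_comm]

end Cfsg.Agent.Invol.ExtraExtension
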