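import Cfsg.Agent.Lib.Invol.ExtraspecialExtensionGroup

/-!
The extension of an extraspecial group by a group of isometries of a hyperbolic quadratic space over
two elements.
-/

set_option autoImplicit false

namespace Cfsg.Agent.Invol.ExtraExtension

variable {n : ℕ}

open scoped commutatorElement

set_option maxHeartbeats 1000000 in
theorem exists_extension (hn : 1 ≤ n) (K₀ : Subgroup (W n ≃ₗ[ZMod 2] W n))
    (hK : ∀ k ∈ K₀, ∀ u, β (k u) (k u) = β u u) :
    ∃ (R : Type) (_ : Group R) (_ : Finite R) (π : R →* K₀) (χ : ↥π.ker →* Multiplicative (W n)),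
      Function.Surjective π ∧ Cfsg.IsExtraspecial 2 ↥π.ker ∧ Nat.card ↥π.ker = 2 ^ (2 * n + 1) ∧
      Function.Surjective χ ∧ χ.ker = Subgroup.center ↥π.ker ∧
      (∀ (r : R) (a : ↥π.ker) (h : r * a * r⁻¹ ∈ π.ker),
        Multiplicative.toAdd (χ ⟨r * a * r⁻¹, h⟩) = (π r).1 (Multiplicative.toAdd (χ a))) ∧
      ∀ a : ↥π.ker, a * a = 1 ↔ β (Multiplicative.toAdd (χ a)) (Multiplicative.toAdd (χ a)) = 0 := by
  classical
  have hfinE : Finite (W n ≃ₗ[ZMod 2] W n) := Finite.of_injective _ DFunLike.coe_injective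
  have hparam : ∀ a : (proj K₀).ker, ∃ t u, a.1.1.1 = E t u := fun a =>
    kernel_param K₀ a.1 (congrArg Subtype.val (MonoidHom.mem_ker.mp a.2))
  choose T V hTV using hparam
  have hext : ∀ a b : (proj K₀).ker, a.1.1.1 = b.1.1.1 → a = b := fun a b h =>
    Subtype.ext (Subtype.ext (Prod.ext h ((congrArg Subtype.val (MonoidHom.mem_ker.mp a.2)).trans
      (congrArg Subtype.val (MonoidHom.mem_ker.mp b.2)).symm)))
  have hval : ∀ a b, (a = b) ↔ T a = T b ∧ V a = V b := fun a b =>
    ⟨fun h => by subst h; exact ⟨rfl, rfl⟩, fun h => hext a b (by rw [hTV, hTV, h.1, h.2])⟩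
  have hmul : ∀ a b, T (a * b) = T a + T b + β (V a) (V b) ∧ V (a * b) = V a + V b := fun a b =>
    E_inj (by
      rw [← hTV, ← E_mul, ← hTV, ← hTV]
      rfl)
  have hone : T 1 = 0 ∧ V 1 = 0 := E_inj (by rw [← hTV, E_zero]; rfl)
  have hmk : ∀ t u, ∃ a, T a = t ∧ V a = u := fun t u =>
    ⟨⟨⟨(E t u, 1), E_mem K₀ t u⟩, MonoidHom.mem_ker.mpr rfl⟩, E_inj ((hTV _).symm)⟩
  let χ : ↥(proj K₀).ker →* Multiplicative (W n) :=
    MonoidHom.mk' (fun a => Multiplicative.ofAdd (V a)) fun a b => by
      rw [(hmul a b).2]; rfl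
  have hχ : ∀ a, Multiplicative.toAdd (χ a) = V a := fun _ => rfl
  have hker : ∀ a, a ∈ χ.ker ↔ V a = 0 := fun a =>
    ⟨fun h => congrArg Multiplicative.toAdd (MonoidHom.mem_ker.mp h),
      fun h => MonoidHom.mem_ker.mpr (congrArg Multiplicative.ofAdd h)⟩
  have hcard : Nat.card ↥(proj K₀).ker = 2 ^ (2 * n + 1) := by
    have hbij : Function.Bijective (fun a => (T a, V a)) :=
      ⟨fun a b h => (hval a b).mpr ⟨congrArg Prod.fst h, congrArg Prod.snd h⟩, fun x => by
        obtain ⟨a, h1, h2⟩ := hmk x.1 x.2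
        exact ⟨a, Prod.ext h1 h2⟩⟩
    rw [Nat.card_eq_of_bijective _ hbij]
    simp only [Nat.card_prod, Nat.card_fun, Nat.card_zmod, Nat.card_fin]
    ring
  have hcenter : χ.ker = Subgroup.center ↥(proj K₀).ker := by
    ext a
    rw [hker, Subgroup.mem_center_iff]
    constructor
    · intro ha b
      rw [hval]
      simp only [(hmul _ _).1, (hmul _ _).2, ha, zero_β, β_zero, add_zero, zero_add, add_comm (T b)]
      exact ⟨trivial, trivial⟩
    · intro ha
      refine eq_zero_of_pairing fun u => ?_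
      obtain ⟨b, -, hb⟩ := hmk 0 u
      have h := congrArg T (ha b)
      rw [(hmul _ _).1, (hmul _ _).1, hb] at h
      linear_combination -h + add_self (β u (V a))
  have hsurj : Function.Surjective χ := fun x => by
    obtain ⟨a, -, ha⟩ := hmk 0 (Multiplicative.toAdd x)
    exact ⟨a, Multiplicative.toAdd.injective ((hχ a).trans ha)⟩
  have hsq : ∀ a, T (a * a) = β (V a) (V a) ∧ V (a * a) = 0 := fun a => by
    rw [(hmul a a).1, (hmul a a).2, add_self, zero_add, W_self]; exact ⟨rfl, rfl⟩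
  have hP : IsPGroup 2 ↥(proj K₀).ker := IsPGroup.of_card hcard
  have hZ : Nat.card ↥(Subgroup.center ↥(proj K₀).ker) = 2 := by
    rw [← hcenter]
    have hbij : Function.Bijective (fun a : χ.ker => T a.1) :=
      ⟨fun a b h => Subtype.ext ((hval _ _).mpr ⟨h, ((hker _).mp a.2).trans ((hker _).mp b.2).symm⟩), fun t => by
        obtain ⟨a, h1, h2⟩ := hmk t 0
        exact ⟨⟨a, (hker a).mpr h2⟩, h1⟩⟩
    rw [Nat.card_eq_of_bijective _ hbij, Nat.card_zmod]
  have hcle : commutator ↥(proj K₀).ker ≤ χ.ker := Abelianization.commutator_subset_ker χ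
  have hcge : χ.ker ≤ commutator ↥(proj K₀).ker := by
    obtain ⟨a, ha1, ha2⟩ := hmk 0 (Pi.single ⟨0, hn⟩ 1, 0)
    obtain ⟨b, hb1, hb2⟩ := hmk 0 (0, Pi.single ⟨0, hn⟩ 1)
    obtain ⟨z, hz1, hz2⟩ := hmk 1 0
    have hab : a * b = z * (b * a) := by
      rw [hval]
      simp only [(hmul _ _).1, (hmul _ _).2, ha1, ha2, hb1, hb2, hz1, hz2, zero_β, β_zero, add_zero, zero_add]
      exact ⟨by simp [β], add_comm _ _⟩
    have hz : z ∈ commutator ↥(proj K₀).ker := by
      have e : ⁅a, b⁆ = z := by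
        rw [commutatorElement_def, hab]; group
      rw [← e]
      exact Subgroup.commutator_mem_commutator (Subgroup.mem_top a) (Subgroup.mem_top b)
    intro c hc
    rcases two_cases (T c) with h | h
    · rw [(hval c 1).mpr ⟨h.trans hone.1.symm, ((hker c).mp hc).trans hone.2.symm⟩]
      exact Subgroup.one_mem _
    · rw [(hval c z).mpr ⟨h.trans hz1.symm, ((hker c).mp hc).trans hz2.symm⟩]
      exact hz
  have hcomm : commutator ↥(proj K₀).ker = Subgroup.center _ := hcenter ▸ le_antisymm hcle hcge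
  refine ⟨extGroup K₀, inferInstance, inferInstance, proj K₀, χ, proj_surjective K₀ hK,
    ⟨⟨hP, le_antisymm ?_ (hcomm ▸ Grp.pGroup_commutator_le_frattini hP), hcomm⟩, hZ⟩, hcard, hsurj, hcenter,
    ?_, ?_⟩
  · refine le_trans (Grp.frattini_le_of_elementary Nat.prime_two hcle fun a => ?_) hcenter.le
    exact (hker _).mpr (by rw [pow_two]; exact (hsq a).2)
  · intro r a h
    obtain ⟨t, ht⟩ := r.2.2 (V a)
    rw [hχ, hχ]
    show _ = r.1.2 (V a)
    refine (E_inj (t := T ⟨_, h⟩) (t' := T a + t) ?_).2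
    rw [← hTV]
    show r.1.1 * a.1.1.1 * r.1.1⁻¹ = E (T a + t) (r.1.2 (V a))
    rw [mul_inv_eq_iff_eq_mul, hTV]
    apply Units.ext
    rw [Units.val_mul, Units.val_mul, E_val, E_val, Matrix.mul_smul, ht, Matrix.smul_mul, Matrix.smul_mul,
      smul_smul, s_add]
  · intro a
    rw [hχ, hval, (hsq a).1, (hsq a).2, hone.1, hone.2]
    exact and_iff_left rfl

theorem exists_coordinates {U : Type*} [AddCommGroup U] [Module (ZMod 2) U] [Module.Finite (ZMod 2) U]
    (hn : Module.finrank (ZMod 2) U = 2 * n) (q : QuadraticForm (ZMod 2) U)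
    (hnd : (QuadraticMap.polarBilin q).Nondegenerate) (W₀ : Submodule (ZMod 2) U)
    (hW : Module.finrank (ZMod 2) ↥W₀ = n) (hW0 : ∀ w ∈ W₀, q w = 0) :
    ∃ Λ : W n ≃ₗ[ZMod 2] U, ∀ w, q (Λ w) = β w w := by
  classical
  obtain ⟨B, hB⟩ : ∃ B, B = QuadraticMap.polarBilin q := ⟨_, rfl⟩
  have hq : ∀ x y, q (x + y) = q x + q y + B x y := fun x y => by
    rw [hB, QuadraticMap.polarBilin_apply_apply]; exact QuadraticMap.map_add q x y
  have hsym : ∀ x y, B x y = B y x := fun x y => by
    rw [hB, QuadraticMap.polarBilin_apply_apply, QuadraticMap.polarBilin_apply_apply, QuadraticMap.polar_comm]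
  have hWB : ∀ x ∈ W₀, ∀ y ∈ W₀, B x y = 0 := fun x hx y hy => by
    have := hq x y
    rw [hW0 _ (W₀.add_mem hx hy), hW0 _ hx, hW0 _ hy, zero_add, zero_add] at this
    exact this.symm
  let b := Module.finBasisOfFinrankEq (ZMod 2) W₀ hW
  let ψ : U →ₗ[ZMod 2] Module.Dual (ZMod 2) W₀ := W₀.subtype.dualMap.comp B
  have hψ : Function.Surjective ψ := by
    refine (LinearMap.dualMap_surjective_of_injective W₀.injective_subtype).comp ?_
    refine (LinearMap.injective_iff_surjective_of_finrank_eq_finrank (Subspace.dual_finrank_eq).symm).mp ?_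
    rw [hB]
    exact LinearMap.ker_eq_bot.mp (LinearMap.separatingLeft_iff_ker_eq_bot.mp hnd.1)
  choose c hc using fun i => hψ (b.coord i)
  have hcw : ∀ i j, B (c i) (b j : U) = if i = j then 1 else 0 := fun i j => by
    have := LinearMap.congr_fun (hc i) (b j)
    rw [Module.Basis.coord_apply, Module.Basis.repr_self, Finsupp.single_apply] at this
    simp only [eq_comm (a := i)]
    exact this
  let m : Fin n → Fin n → ZMod 2 := fun i j => if i = j then q (c i) else if j < i then B (c i) (c j) else 0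
  let d : Fin n → U := fun i => c i + ∑ j, m i j • (b j : U)
  have hmem : ∀ v : Fin n → ZMod 2, (∑ j, v j • (b j : U)) ∈ W₀ := fun v =>
    W₀.sum_mem fun j _ => W₀.smul_mem _ (b j).2
  have hcd : ∀ (i : Fin n) (v : Fin n → ZMod 2), B (c i) (∑ j, v j • (b j : U)) = v i := fun i v => by
    simp [map_sum, hcw]
  have hdw : ∀ i j, B (d i) (b j : U) = if i = j then 1 else 0 := fun i j => by
    show B (c i + ∑ k, m i k • (b k : U)) (b j : U) = _
    rw [map_add, LinearMap.add_apply, hcw, hWB _ (hmem _) _ (b j).2, add_zero]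
  have hdq : ∀ i, q (d i) = 0 := fun i => by
    show q (c i + ∑ k, m i k • (b k : U)) = 0
    rw [hq, hW0 _ (hmem _), hcd, add_zero]
    simp only [m, if_true]
    exact add_self _
  have hdd : ∀ i j, i ≠ j → B (d i) (d j) = 0 := fun i j hij => by
    show B (c i + ∑ k, m i k • (b k : U)) (c j + ∑ k, m j k • (b k : U)) = 0
    rw [map_add (B _), map_add B, LinearMap.add_apply, LinearMap.add_apply, hcd,
      hWB _ (hmem _) _ (hmem _), add_zero, hsym (∑ k, m i k • (b k : U)), hcd]
    simp only [m, if_neg hij, if_neg hij.symm]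
    rcases lt_or_gt_of_ne hij with h | h
    · rw [if_neg h.asymm, if_pos h, hsym (c j) (c i)]; simp [add_self]
    · rw [if_pos h, if_neg h.asymm]; simp [add_self]
  have hqs : ∀ (v : Fin n → ZMod 2) (t : Finset (Fin n)), q (∑ i ∈ t, v i • d i) = 0 := by
    intro v t
    induction t using Finset.induction_on with
    | empty => simp
    | insert i t hi ih =>
      rw [Finset.sum_insert hi, hq, ih, QuadraticMap.map_smul, hdq, smul_zero, zero_add, zero_add]
      rw [map_smul, LinearMap.smul_apply, map_sum, Finset.sum_eq_zero fun j hj => by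
        rw [map_smul, hdd i j (fun e => hi (e ▸ hj)), smul_zero], smul_zero]
  let Λ : W n →ₗ[ZMod 2] U :=
    (Fintype.linearCombination (ZMod 2) d).coprod (Fintype.linearCombination (ZMod 2) fun j => (b j : U))
  have hΛ : ∀ w : W n, Λ w = (∑ i, w.1 i • d i) + ∑ j, w.2 j • (b j : U) := fun w => by
    simp [Λ, Fintype.linearCombination_apply]
  have hinj : Function.Injective Λ := by
    rw [injective_iff_map_eq_zero]
    intro w hw
    have h1 : w.1 = 0 := funext fun j => by
      have h := congrArg (fun x => B x (b j : U)) hw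
      rw [hΛ, map_add B, LinearMap.add_apply, hWB _ (hmem _) _ (b j).2, add_zero, map_sum B,
        LinearMap.sum_apply, map_zero B, LinearMap.zero_apply] at h
      simpa [hdw] using h
    have h2 : w.2 = 0 := by
      rw [hΛ, h1] at hw
      simp only [Pi.zero_apply, zero_smul, Finset.sum_const_zero, zero_add] at hw
      funext j
      refine Fintype.linearIndependent_iff.mp b.linearIndependent w.2 (Subtype.ext ?_) j
      simpa using hw
    exact Prod.ext h1 h2
  have hfin : Module.finrank (ZMod 2) (W n) = Module.finrank (ZMod 2) U := by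
    rw [hn, Module.finrank_prod, Module.finrank_fintype_fun_eq_card, Fintype.card_fin, two_mul]
  refine ⟨LinearEquiv.ofBijective Λ ⟨hinj, (LinearMap.injective_iff_surjective_of_finrank_eq_finrank hfin).mp hinj⟩,
    fun w => ?_⟩
  show q (Λ w) = β w w
  rw [hΛ, hq, hqs, hW0 _ (hmem _), zero_add, zero_add, map_sum B, LinearMap.sum_apply]
  refine Finset.sum_congr rfl fun i _ => ?_
  rw [map_smul, LinearMap.smul_apply, smul_eq_mul]
  congr 1
  simp [map_sum, hdw]

end Cfsg.Agent.Invol.ExtraExtension
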