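import Cfsg.Agent.Lib.Invol.FusionChain
import Cfsg.Agent.Lib.Invol.Closed

/-!
Conjugation families, well placed subgroups, and the passage from local control by conjugacy
functors to control in the whole group.
-/

set_option autoImplicit false
set_option linter.style.haveILetI false

open scoped Pointwise commutatorElement

namespace Cfsg.Agent.Invol

variable {G : Type*} [Group G]

/-- The conjugation of `A` by `g` (on the right) is done step by step in members of `𝓕`. -/
inductive FamChain (𝓕 : Set (Subgroup G)) : Set G → G → Prop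
  | nil (A : Set G) : FamChain 𝓕 A 1
  | cons {A : Set G} (T : Subgroup G) (x : G) {y : G} :
      T ∈ 𝓕 → x ∈ Subgroup.normalizer (T : Set G) → A ⊆ (T : Set G) →
      FamChain 𝓕 ((fun a => x⁻¹ * a * x) '' A) y → FamChain 𝓕 A (x * y)

theorem FamChain.mono {𝓕 : Set (Subgroup G)} {A : Set G} {g : G} (h : FamChain 𝓕 A g) :
    ∀ {B : Set G}, B ⊆ A → FamChain 𝓕 B g := by
  induction h with
  | nil A => exact fun _ => .nil _
  | cons T x hT hx hA _ ih => exact fun hB => .cons T x hT hx (hB.trans hA) (ih (Set.image_mono hB))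

theorem FamChain.trans {𝓕 : Set (Subgroup G)} {A : Set G} {g : G} (h : FamChain 𝓕 A g) :
    ∀ {k : G}, FamChain 𝓕 ((fun a => g⁻¹ * a * g) '' A) k → FamChain 𝓕 A (g * k) := by
  induction h with
  | nil A =>
    intro k hk
    rw [one_mul]
    simpa using hk
  | @cons A T x y hT hx hA _ ih =>
    intro k hk
    rw [mul_assoc]
    refine .cons T x hT hx hA (ih ?_)
    have he : (fun a => y⁻¹ * a * y) '' ((fun a => x⁻¹ * a * x) '' A) =
        (fun a => (x * y)⁻¹ * a * (x * y)) '' A := by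
      rw [Set.image_image]
      simp [mul_assoc]
    rwa [he]

theorem FamChain.exists_fin {𝓕 : Set (Subgroup G)} {A : Set G} {g : G} (h : FamChain 𝓕 A g) :
    ∃ (n : ℕ) (T : Fin n → Subgroup G) (x : Fin n → G), (List.ofFn x).prod = g ∧
      (∀ i, T i ∈ 𝓕) ∧ (∀ i, x i ∈ Subgroup.normalizer ((T i : Subgroup G) : Set G)) ∧
      (∀ h : 0 < n, A ⊆ T ⟨0, h⟩) ∧
      ∀ (i : Fin n) (h : i.val + 1 < n),
        (fun a => (((List.ofFn x).take (i.val + 1)).prod)⁻¹ * a * ((List.ofFn x).take (i.val + 1)).prod) '' A ⊆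
          T ⟨i.val + 1, h⟩ := by
  induction h with
  | nil A => exact ⟨0, Fin.elim0, Fin.elim0, by simp, fun i => i.elim0, fun i => i.elim0,
      fun h => absurd h (lt_irrefl 0), fun i => i.elim0⟩
  | @cons A T x y hT hx hA _ ih =>
    obtain ⟨n, Ts, xs, hprod, hm, hn, h0, hstep⟩ := ih
    refine ⟨n + 1, Fin.cons T Ts, Fin.cons x xs, ?_, ?_, ?_, fun _ => ?_, ?_⟩
    · rw [List.ofFn_succ, List.prod_cons]
      simp [hprod]
    · intro i
      refine Fin.cases ?_ ?_ i
      · simpa using hT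
      · intro j; simpa using hm j
    · intro i
      refine Fin.cases ?_ ?_ i
      · simpa using hx
      · intro j; simpa using hn j
    · exact hA
    · intro i hi
      have hl : List.ofFn (Fin.cons x xs) = x :: List.ofFn xs := by
        rw [List.ofFn_succ]; simp
      rw [hl, List.take_succ_cons, List.prod_cons]
      have hq : (Fin.cons T Ts : Fin (n + 1) → Subgroup G) ⟨i.val + 1, hi⟩ = Ts ⟨i.val, by omega⟩ := rfl
      rw [hq]
      have he : (fun a => (x * ((List.ofFn xs).take i.val).prod)⁻¹ * a * (x * ((List.ofFn xs).take i.val).prod)) '' A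
          = (fun a => (((List.ofFn xs).take i.val).prod)⁻¹ * a * ((List.ofFn xs).take i.val).prod) ''
            ((fun a => x⁻¹ * a * x) '' A) := by
        rw [Set.image_image]
        simp [mul_assoc]
      rw [he]
      obtain ⟨iv, hiv⟩ := i
      cases iv with
      | zero =>
        simp only [List.take_zero, List.prod_nil, inv_one, one_mul, mul_one, Set.image_id']
        exact h0 (by simp only at hi; omega)
      | succ j => exact hstep ⟨j, by simp only at hi; omega⟩ (by simp only at hi ⊢; omega)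

variable [Finite G] {p : ℕ} [hp : Fact p.Prime]

theorem isConjugationFamily_of_chain (S : Sylow p G) {𝓕 : Set (Subgroup G)}
    (hle : ∀ T ∈ 𝓕, T ≤ (S : Subgroup G))
    (h : ∀ (A : Set G) (g : G), A ⊆ (S : Subgroup G) →
      (fun a => g⁻¹ * a * g) '' A ⊆ (S : Subgroup G) → FamChain 𝓕 A g) :
    Cfsg.IsConjugationFamily 𝓕 (S : Subgroup G) :=
  ⟨hle, fun A g _ hA hg => (h A g hA hg).exists_fin⟩

omit [Finite G] hp in
theorem map_conj_normalizer (U : Subgroup G) (g : G) :
    (Subgroup.normalizer (U : Set G)).map (MulAut.conj g).toMonoidHom =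
      Subgroup.normalizer ((U.map (MulAut.conj g).toMonoidHom : Subgroup G) : Set G) :=
  Subgroup.map_equiv_normalizer_eq U (MulAut.conj g)

/-- Two tame conjugates are conjugate together with their normalisers in `S`. -/
theorem exists_conj_tame (S : Sylow p G) {D U : Subgroup G}
    (hD : ¬ p ∣ ((S : Subgroup G) ⊓ Subgroup.normalizer (D : Set G)).relIndex (Subgroup.normalizer (D : Set G)))
    (hU : ¬ p ∣ ((S : Subgroup G) ⊓ Subgroup.normalizer (U : Set G)).relIndex (Subgroup.normalizer (U : Set G)))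
    {g : G} (hg : D.map (MulAut.conj g).toMonoidHom = U) :
    ∃ h : G, D.map (MulAut.conj h).toMonoidHom = U ∧
      ((S : Subgroup G) ⊓ Subgroup.normalizer (D : Set G)).map (MulAut.conj h).toMonoidHom =
        (S : Subgroup G) ⊓ Subgroup.normalizer (U : Set G) := by
  set RD := (S : Subgroup G) ⊓ Subgroup.normalizer (D : Set G) with hRD
  set RU := (S : Subgroup G) ⊓ Subgroup.normalizer (U : Set G) with hRU
  have hN : (Subgroup.normalizer (D : Set G)).map (MulAut.conj g).toMonoidHom =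
      Subgroup.normalizer (U : Set G) := by rw [map_conj_normalizer, hg]
  have h1 : Grp.IsSylowIn p (RD.map (MulAut.conj g).toMonoidHom) (Subgroup.normalizer (U : Set G)) := by
    refine ⟨hN ▸ Subgroup.map_mono inf_le_right, (S.isPGroup'.to_inf_left).map _, ?_⟩
    rw [← hN, Subgroup.relIndex_map_map_of_injective _ _ (MulAut.conj g).injective]
    exact hD
  obtain ⟨k, hk, hkR⟩ := h1.conj (⟨inf_le_right, S.isPGroup'.to_inf_left, hU⟩ :
    Grp.IsSylowIn p RU (Subgroup.normalizer (U : Set G)))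
  refine ⟨k * g, ?_, ?_⟩
  · rw [← map_conj_map_conj, hg, Grp.map_conj_eq_smul]
    exact Grp.mem_normalizer_iff_smul.1 hk
  · rw [← map_conj_map_conj, Grp.map_conj_eq_smul, hkR]

/-- A set of subgroups of `S` meeting every class in a tame member is a conjugation family. -/
theorem famChain_of_tame (S : Sylow p G) {𝓕 : Set (Subgroup G)}
    (hle : ∀ T ∈ 𝓕, T ≤ (S : Subgroup G))
    (h : ∀ T : Subgroup G, T ≤ (S : Subgroup G) → ∃ U ∈ 𝓕, (∃ g : G, T.map (MulAut.conj g).toMonoidHom = U) ∧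
      ¬ p ∣ ((S : Subgroup G) ⊓ Subgroup.normalizer (U : Set G)).relIndex (Subgroup.normalizer (U : Set G))) :
    ∀ (A : Set G) (g : G), A ⊆ (S : Subgroup G) → (fun a => g⁻¹ * a * g) '' A ⊆ (S : Subgroup G) →
      FamChain 𝓕 A g := by
  suffices H : ∀ m, ∀ (A : Set G) (g : G), A ⊆ (S : Set G) →
      (fun a => g⁻¹ * a * g) '' A ⊆ (S : Set G) →
      Nat.card G - A.ncard ≤ m → FamChain 𝓕 A g from fun A g h1 h2 => H _ A g h1 h2 le_rfl
  intro m
  induction m using Nat.strong_induction_on with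
  | _ m IH =>
  intro A g hA hAg hm
  have hchain := Transfer.alperin S A g hA hAg
  have step : ∀ (B : Set G) (Q : Sylow p G) (x : G), B.ncard = A.ncard → Transfer.TameStep S Q x →
      B ⊆ (((S : Subgroup G) ⊓ (Q : Subgroup G) : Subgroup G) : Set G) → FamChain 𝓕 B x := by
    intro B Q x hB hT hBD
    set D := (S : Subgroup G) ⊓ (Q : Subgroup G) with hD
    have hDS : D ≤ (S : Subgroup G) := inf_le_left
    obtain ⟨U, hU𝓕, ⟨k, hk⟩, hUt⟩ := h D hDS
    rcases eq_or_lt_of_le hDS with he | hlt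
    · have hUS : U = (S : Subgroup G) := Subgroup.eq_of_le_of_card_ge (hle U hU𝓕) (by
        rw [← hk, Subgroup.card_map_of_injective (MulAut.conj k).injective, he])
      rw [← mul_one x]
      exact .cons U x hU𝓕 (by rw [hUS, ← he]; exact hT.1) (by rw [hUS, ← he]; exact hBD) (.nil _)
    obtain ⟨l, hlD, hlR⟩ := exists_conj_tame S hT.2.1 hUt hk
    set N := Subgroup.normalizer (D : Set G) with hN
    set R := (S : Subgroup G) ⊓ N with hR
    have hDR : D ≤ R := le_inf hDS Subgroup.le_normalizer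
    have hDRlt : (D : Set G).ncard < (R : Set G).ncard :=
      Set.ncard_lt_ncard (Transfer.lt_inf_normalizer S hlt) (Set.toFinite _)
    have hBle : B.ncard ≤ (D : Set G).ncard := Set.ncard_le_ncard hBD (Set.toFinite _)
    have hGR : (R : Set G).ncard ≤ Nat.card G := Set.ncard_le_card _
    -- the right conjugation by `l⁻¹`
    have himg : (fun a => l⁻¹⁻¹ * a * l⁻¹) '' (R : Set G) =
        (((S : Subgroup G) ⊓ Subgroup.normalizer (U : Set G) : Subgroup G) : Set G) := by
      rw [← hlR, Subgroup.coe_map, inv_inv]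
      rfl
    have c1 : FamChain 𝓕 (R : Set G) l⁻¹ := by
      refine IH (Nat.card G - (R : Set G).ncard) (by omega) _ _ (fun a ha => ha.1) ?_ le_rfl
      rw [himg]
      exact fun a ha => ha.1
    have c2 : FamChain 𝓕 ((fun a => l⁻¹⁻¹ * a * l⁻¹) '' (R : Set G)) l := by
      refine IH (Nat.card G - (R : Set G).ncard) (by omega) _ _ ?_ ?_ ?_
      · rw [himg]; exact fun a ha => ha.1
      · rw [Set.image_image]
        rintro _ ⟨a, ha, rfl⟩
        show l⁻¹ * (l⁻¹⁻¹ * a * l⁻¹) * l ∈ (S : Subgroup G)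
        rw [show l⁻¹ * (l⁻¹⁻¹ * a * l⁻¹) * l = a by group]
        exact ha.1
      · rw [Set.ncard_image_of_injective _ (fun a b h => by simpa using h)]
    have hxU : l * x * l⁻¹ ∈ Subgroup.normalizer (U : Set G) := by
      rw [← hlD, ← map_conj_normalizer]
      exact conj_mem_map_conj hT.1
    have hmem : (fun a => l⁻¹⁻¹ * a * l⁻¹) '' B ⊆ (U : Set G) := by
      rintro _ ⟨a, ha, rfl⟩
      show l⁻¹⁻¹ * a * l⁻¹ ∈ U
      rw [inv_inv, ← hlD]
      exact conj_mem_map_conj (hBD ha)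
    have h3 : FamChain 𝓕 ((fun a => l⁻¹⁻¹ * a * l⁻¹) '' B) (l * x * l⁻¹ * l) :=
      .cons U _ hU𝓕 hxU hmem (c2.mono (by
        rintro _ ⟨_, ⟨a, ha, rfl⟩, rfl⟩
        refine ⟨x⁻¹ * a * x, hDR ((Subgroup.mem_normalizer_iff''.1 hT.1 a).1 (hBD ha)), ?_⟩
        group))
    have h4 := (c1.mono (hBD.trans fun a ha => hDR ha)).trans h3
    rwa [show l⁻¹ * (l * x * l⁻¹ * l) = x by group] at h4
  suffices key : ∀ (B : Set G) (y : G), Transfer.AlperinChain S B y → B.ncard = A.ncard → FamChain 𝓕 B y from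
    key A g hchain rfl
  intro B y hBy
  induction hBy with
  | nil B => exact fun _ => .nil _
  | @cons B Q x y hT hB _ ih =>
    intro hc
    refine (step B Q x hc hT hB).trans (ih ?_)
    rw [Set.ncard_image_of_injective _ (fun a b h => by simpa using h), hc]

variable {W : Subgroup G → Subgroup G}

omit [Finite G] hp in
theorem isWellPlaced_succ (hW : Cfsg.IsConjugacyFunctor p W) (S : Sylow p G) {U : Subgroup G}
    (h : Cfsg.IsWellPlaced p W (S : Subgroup G) U) :
    Cfsg.IsWellPlaced p W (S : Subgroup G) (W ((S : Subgroup G) ⊓ Subgroup.normalizer (U : Set G))) := by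
  refine ⟨(hW _ S.isPGroup'.to_inf_left).1.trans inf_le_left, fun i => ?_⟩
  have key : ∀ i, Cfsg.functorTower W (S : Subgroup G) (W ((S : Subgroup G) ⊓ Subgroup.normalizer (U : Set G))) i =
      Cfsg.functorTower W (S : Subgroup G) U (i + 1) := by
    intro i
    induction i with
    | zero => rfl
    | succ i ih => simp only [Cfsg.functorTower] at ih ⊢; rw [ih]
  rw [key]
  exact h.2 (i + 1)

omit [Finite G] hp in
/-- `N_S(U)` normalises the next term of the tower. -/
theorem inf_normalizer_le_succ (hW : Cfsg.IsConjugacyFunctor p W) (S : Sylow p G) (U : Subgroup G) :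
    (S : Subgroup G) ⊓ Subgroup.normalizer (U : Set G) ≤ (S : Subgroup G) ⊓
      Subgroup.normalizer ((W ((S : Subgroup G) ⊓ Subgroup.normalizer (U : Set G)) : Subgroup G) : Set G) :=
  le_inf inf_le_left (Subgroup.le_normalizer.trans (conjFunctor_normalizer_le hW S.isPGroup'.to_inf_left))

/-- The well placed subgroups form a conjugation family. -/
theorem famChain_wellPlaced (S : Sylow p G)
    (hex : ∀ T : Subgroup G, T ≤ (S : Subgroup G) →
      ∃ g : G, Cfsg.IsWellPlaced p W (S : Subgroup G) (T.map (MulAut.conj g).toMonoidHom)) :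
    ∀ (A : Set G) (g : G), A ⊆ (S : Subgroup G) → (fun a => g⁻¹ * a * g) '' A ⊆ (S : Subgroup G) →
      FamChain {T : Subgroup G | Cfsg.IsWellPlaced p W (S : Subgroup G) T} A g :=
  famChain_of_tame S (fun T hT => hT.1) fun T hT => by
    obtain ⟨g, hg⟩ := hex T hT
    exact ⟨_, hg, ⟨g, rfl⟩, hg.2 0⟩

/-- Control of strong fusion does not depend on the Sylow subgroup. -/
theorem fusionIn_sylow (hW : Cfsg.IsConjugacyFunctor p W) {H R : Subgroup G}
    (h : Cfsg.ControlsStrongFusionIn p W H) (hR : Grp.IsSylowIn p R H) {A : Set G} {g : G}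
    (hg : g ∈ H) (hA : A ⊆ R) (hgA : ∀ a ∈ A, g * a * g⁻¹ ∈ R) :
    ∃ x ∈ H ⊓ Subgroup.normalizer ((W R : Subgroup G) : Set G), ∀ a ∈ A, x * a * x⁻¹ = g * a * g⁻¹ := by
  obtain ⟨T, hTH, hTp, hTi, hT⟩ := h
  obtain ⟨k, hk, hkT⟩ := Grp.IsSylowIn.conj (X := T) ⟨hTH, hTp, hTi⟩ hR
  rw [← Grp.map_conj_eq_smul] at hkT
  obtain ⟨x, hx, he⟩ := hT ((fun a => k⁻¹ * a * k) '' A) (k⁻¹ * g * k)
    (mul_mem (mul_mem (inv_mem hk) hg) hk)
    (by rintro _ ⟨a, ha, rfl⟩; exact mem_map_conj.1 (hkT ▸ hA ha))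
    (by
      rintro _ ⟨_, ⟨a, ha, rfl⟩, rfl⟩
      have h1 := mem_map_conj.1 (hkT ▸ hgA a ha)
      show k⁻¹ * g * k * (k⁻¹ * a * k) * (k⁻¹ * g * k)⁻¹ ∈ T
      rwa [show k⁻¹ * g * k * (k⁻¹ * a * k) * (k⁻¹ * g * k)⁻¹ = k⁻¹ * (g * a * g⁻¹) * k by group])
  refine ⟨k * x * k⁻¹, ⟨H.mul_mem (H.mul_mem hk hx.1) (H.inv_mem hk), ?_⟩, fun a ha => ?_⟩
  · rw [← hkT, (hW T hTp).2.2 k, ← map_conj_normalizer]
    exact conj_mem_map_conj hx.2
  · have h1 := he _ ⟨a, ha, rfl⟩
    calc k * x * k⁻¹ * a * (k * x * k⁻¹)⁻¹ = k * (x * (k⁻¹ * a * k) * x⁻¹) * k⁻¹ := by group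
      _ = k * (k⁻¹ * g * k * (k⁻¹ * a * k) * (k⁻¹ * g * k)⁻¹) * k⁻¹ := by rw [h1]
      _ = g * a * g⁻¹ := by group

/-- Local control of strong fusion at the well placed subgroups gives control. -/
theorem fusion_of_wellPlaced (hW : Cfsg.IsConjugacyFunctor p W) (S : Sylow p G)
    (hloc : ∀ T : Subgroup G, T ≠ ⊥ → Cfsg.IsWellPlaced p W (S : Subgroup G) T →
      Cfsg.ControlsStrongFusionIn p W (Subgroup.normalizer ((T : Subgroup G) : Set G))) :
    ∀ U : Subgroup G, U ≠ ⊥ → Cfsg.IsWellPlaced p W (S : Subgroup G) U →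
      ∀ (A : Set G) (x : G), x ∈ Subgroup.normalizer (U : Set G) →
        A ⊆ (((S : Subgroup G) ⊓ Subgroup.normalizer (U : Set G) : Subgroup G) : Set G) →
        (∀ a ∈ A, x * a * x⁻¹ ∈ (S : Subgroup G) ⊓ Subgroup.normalizer (U : Set G)) →
        ∃ n ∈ Subgroup.normalizer ((W (S : Subgroup G) : Subgroup G) : Set G),
          ∀ a ∈ A, n * a * n⁻¹ = x * a * x⁻¹ := by
  suffices H : ∀ j, ∀ U : Subgroup G, U ≠ ⊥ → Cfsg.IsWellPlaced p W (S : Subgroup G) U →
      Nat.card (S : Subgroup G) - Nat.card ↥((S : Subgroup G) ⊓ Subgroup.normalizer (U : Set G)) ≤ j →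
      ∀ (A : Set G) (x : G), x ∈ Subgroup.normalizer (U : Set G) →
        A ⊆ (((S : Subgroup G) ⊓ Subgroup.normalizer (U : Set G) : Subgroup G) : Set G) →
        (∀ a ∈ A, x * a * x⁻¹ ∈ (S : Subgroup G) ⊓ Subgroup.normalizer (U : Set G)) →
        ∃ n ∈ Subgroup.normalizer ((W (S : Subgroup G) : Subgroup G) : Set G),
          ∀ a ∈ A, n * a * n⁻¹ = x * a * x⁻¹ from fun U h1 h2 => H _ U h1 h2 le_rfl
  intro j
  induction j using Nat.strong_induction_on with
  | _ j IH =>
  intro U hU hwp hj A x hx hA hxA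
  set R := (S : Subgroup G) ⊓ Subgroup.normalizer (U : Set G) with hR
  obtain ⟨n, hn, hne⟩ := fusionIn_sylow hW (hloc U hU hwp)
    (⟨inf_le_right, S.isPGroup'.to_inf_left, hwp.2 0⟩ : Grp.IsSylowIn p R _) hx hA hxA
  rcases eq_or_lt_of_le (inf_le_left : R ≤ (S : Subgroup G)) with he | hlt
  · exact ⟨n, by rw [← show R = (S : Subgroup G) from he]; exact hn.2, hne⟩
  have hR1 : R ≠ ⊥ := fun h => hU (le_bot_iff.1 (h ▸ (le_inf hwp.1 Subgroup.le_normalizer : U ≤ R)))
  have hle := inf_normalizer_le_succ hW S U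
  have hlt' : Nat.card R <
      Nat.card ↥((S : Subgroup G) ⊓ Subgroup.normalizer ((W R : Subgroup G) : Set G)) :=
    card_lt_card_inf_normalizer S hW hlt
  have hcS := Subgroup.card_le_of_le
    (inf_le_left : (S : Subgroup G) ⊓ Subgroup.normalizer ((W R : Subgroup G) : Set G) ≤ (S : Subgroup G))
  obtain ⟨m, hm, hme⟩ := IH
    (Nat.card (S : Subgroup G) -
      Nat.card ↥((S : Subgroup G) ⊓ Subgroup.normalizer ((W R : Subgroup G) : Set G)))
    (by omega) (W R) ((hW R S.isPGroup'.to_inf_left).2.1 hR1) (isWellPlaced_succ hW S hwp) le_rfl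
    A n hn.2 (fun a ha => hle (hA ha)) fun a ha => hle (by rw [hne a ha]; exact hxA a ha)
  exact ⟨m, hm, fun a ha => (hme a ha).trans (hne a ha)⟩

/-- Control of transfer does not depend on the Sylow subgroup. -/
theorem transferIn_sylow (hW : Cfsg.IsConjugacyFunctor p W) {H R : Subgroup G}
    (h : Cfsg.ControlsTransferIn p W H) (hR : Grp.IsSylowIn p R H) :
    R ⊓ ⁅H, H⁆ = R ⊓ ⁅H ⊓ Subgroup.normalizer ((W R : Subgroup G) : Set G),
      H ⊓ Subgroup.normalizer ((W R : Subgroup G) : Set G)⁆ := by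
  obtain ⟨T, hTH, hTp, hTi, hT⟩ := h
  obtain ⟨k, hk, hkT⟩ := Grp.IsSylowIn.conj (X := T) ⟨hTH, hTp, hTi⟩ hR
  rw [← Grp.map_conj_eq_smul] at hkT
  have hH : H.map (MulAut.conj k).toMonoidHom = H := by
    rw [Grp.map_conj_eq_smul]
    exact Grp.mem_normalizer_iff_smul.1 (Subgroup.le_normalizer hk)
  have h1 := congrArg (Subgroup.map (MulAut.conj k).toMonoidHom) hT
  rw [Subgroup.map_inf _ _ _ (MulAut.conj k).injective, Subgroup.map_inf _ _ _ (MulAut.conj k).injective,
    Subgroup.map_commutator, Subgroup.map_commutator, Subgroup.map_inf _ _ _ (MulAut.conj k).injective,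
    map_conj_normalizer, hH, hkT, ← (hW T hTp).2.2 k, hkT] at h1
  exact h1

/-- Local control of transfer at the well placed subgroups. -/
theorem transfer_of_wellPlaced (hW : Cfsg.IsConjugacyFunctor p W) (S : Sylow p G)
    (hloc : ∀ T : Subgroup G, T ≠ ⊥ → Cfsg.IsWellPlaced p W (S : Subgroup G) T →
      Cfsg.ControlsTransferIn p W (Subgroup.normalizer ((T : Subgroup G) : Set G))) :
    ∀ U : Subgroup G, U ≠ ⊥ → Cfsg.IsWellPlaced p W (S : Subgroup G) U →
      ((S : Subgroup G) ⊓ Subgroup.normalizer (U : Set G)) ⊓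
          ⁅Subgroup.normalizer (U : Set G), Subgroup.normalizer (U : Set G)⁆ ≤
        (S : Subgroup G) ⊓ ⁅Subgroup.normalizer ((W (S : Subgroup G) : Subgroup G) : Set G),
          Subgroup.normalizer ((W (S : Subgroup G) : Subgroup G) : Set G)⁆ := by
  suffices H : ∀ j, ∀ U : Subgroup G, U ≠ ⊥ → Cfsg.IsWellPlaced p W (S : Subgroup G) U →
      Nat.card (S : Subgroup G) - Nat.card ↥((S : Subgroup G) ⊓ Subgroup.normalizer (U : Set G)) ≤ j →
      ((S : Subgroup G) ⊓ Subgroup.normalizer (U : Set G)) ⊓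
          ⁅Subgroup.normalizer (U : Set G), Subgroup.normalizer (U : Set G)⁆ ≤
        (S : Subgroup G) ⊓ ⁅Subgroup.normalizer ((W (S : Subgroup G) : Subgroup G) : Set G),
          Subgroup.normalizer ((W (S : Subgroup G) : Subgroup G) : Set G)⁆ from fun U h1 h2 => H _ U h1 h2 le_rfl
  intro j
  induction j using Nat.strong_induction_on with
  | _ j IH =>
  intro U hU hwp hj
  set R := (S : Subgroup G) ⊓ Subgroup.normalizer (U : Set G) with hR
  rw [transferIn_sylow hW (hloc U hU hwp)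
    (⟨inf_le_right, S.isPGroup'.to_inf_left, hwp.2 0⟩ : Grp.IsSylowIn p R _)]
  refine le_trans (inf_le_inf le_rfl (Subgroup.commutator_mono inf_le_right inf_le_right)) ?_
  rcases eq_or_lt_of_le (inf_le_left : R ≤ (S : Subgroup G)) with he | hlt
  · rw [show R = (S : Subgroup G) from he]
  have hR1 : R ≠ ⊥ := fun h => hU (le_bot_iff.1 (h ▸ (le_inf hwp.1 Subgroup.le_normalizer : U ≤ R)))
  have hlt' : Nat.card R <
      Nat.card ↥((S : Subgroup G) ⊓ Subgroup.normalizer ((W R : Subgroup G) : Set G)) :=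
    card_lt_card_inf_normalizer S hW hlt
  have hcS := Subgroup.card_le_of_le
    (inf_le_left : (S : Subgroup G) ⊓ Subgroup.normalizer ((W R : Subgroup G) : Set G) ≤ (S : Subgroup G))
  exact le_trans (inf_le_inf (inf_normalizer_le_succ hW S U) le_rfl) (IH
    (Nat.card (S : Subgroup G) -
      Nat.card ↥((S : Subgroup G) ⊓ Subgroup.normalizer ((W R : Subgroup G) : Set G)))
    (by omega) (W R) ((hW R S.isPGroup'.to_inf_left).2.1 hR1) (isWellPlaced_succ hW S hwp) le_rfl)

end Cfsg.Agent.Invol
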