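import Cfsg.Agent.Lib.Invol.FamilyChain

/-!
Families of conjugacy functors: control in the normalisers of the tame subgroups gives control.
-/

set_option autoImplicit false
set_option linter.style.haveILetI false

open scoped Pointwise commutatorElement

namespace Cfsg.Agent.Invol

variable {G : Type*} [Group G] [Finite G] {p : ℕ} [hp : Fact p.Prime]
  {𝒲 : Set (Subgroup G → Subgroup G)}

/-- Control of strong fusion in `H` gives chains in any Sylow subgroup of `H`. -/
theorem chn_of_familyIn (h𝒲 : ∀ W ∈ 𝒲, Cfsg.IsConjugacyFunctor p W) {H R : Subgroup G}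
    (h : Cfsg.FamilyControlsStrongFusionIn p 𝒲 H) (hR : Grp.IsSylowIn p R H) {A : Set G} {g : G}
    (hg : g ∈ H) (hA : A ⊆ R) (hgA : ∀ a ∈ A, g * a * g⁻¹ ∈ R) : Chn 𝒲 R A g := by
  obtain ⟨T, hTH, hTp, hTi, hT⟩ := h
  obtain ⟨k, hk, hkT⟩ := Grp.IsSylowIn.conj (X := T) ⟨hTH, hTp, hTi⟩ hR
  rw [← Grp.map_conj_eq_smul] at hkT
  obtain ⟨n, c, hc0, hcs, hcm, hce⟩ := hT ((fun a => k⁻¹ * a * k) '' A) (k⁻¹ * g * k)
    (H.mul_mem (H.mul_mem (H.inv_mem hk) hg) hk)
    (by rintro _ ⟨a, ha, rfl⟩; exact mem_map_conj.1 (hkT ▸ hA ha))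
    (by
      rintro _ ⟨_, ⟨a, ha, rfl⟩, rfl⟩
      have h1 := mem_map_conj.1 (hkT ▸ hgA a ha)
      show k⁻¹ * g * k * (k⁻¹ * a * k) * (k⁻¹ * g * k)⁻¹ ∈ T
      rwa [show k⁻¹ * g * k * (k⁻¹ * a * k) * (k⁻¹ * g * k)⁻¹ = k⁻¹ * (g * a * g⁻¹) * k by group])
  have himg : ∀ (i : Fin (n + 1)), ∀ a ∈ A, k * c i * k⁻¹ * a * (k * c i * k⁻¹)⁻¹ ∈ R := by
    intro i a ha
    rw [← hkT, show k * c i * k⁻¹ * a * (k * c i * k⁻¹)⁻¹ = k * (c i * (k⁻¹ * a * k) * (c i)⁻¹) * k⁻¹ by group]
    exact conj_mem_map_conj (hcm i ⟨_, ⟨a, ha, rfl⟩, rfl⟩)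
  refine ⟨k * c (Fin.last n) * k⁻¹, ?_, fun a ha => ?_⟩
  · suffices key : ∀ i, Reach 𝒲 R A (k * c i * k⁻¹) from key _
    intro i
    induction i using Fin.induction with
    | zero => rw [hc0, mul_one, mul_inv_cancel]; exact .one
    | succ i ih =>
      obtain ⟨W, hW, hx⟩ := hcs i
      have hy : k * (c i.succ * (c i.castSucc)⁻¹) * k⁻¹ ∈ Subgroup.normalizer ((W R : Subgroup G) : Set G) := by
        rw [← hkT, (h𝒲 W hW T hTp).2.2 k, ← map_conj_normalizer]
        exact conj_mem_map_conj hx.2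
      have e : k * (c i.succ * (c i.castSucc)⁻¹) * k⁻¹ * (k * c i.castSucc * k⁻¹) = k * c i.succ * k⁻¹ := by
        group
      have h1 := ih.step ⟨W, hW, hy⟩ (fun a ha => by rw [e]; exact himg i.succ a ha)
      rwa [e] at h1
  · have h1 := hce _ ⟨a, ha, rfl⟩
    calc k * c (Fin.last n) * k⁻¹ * a * (k * c (Fin.last n) * k⁻¹)⁻¹
        = k * (c (Fin.last n) * (k⁻¹ * a * k) * (c (Fin.last n))⁻¹) * k⁻¹ := by group
      _ = k * (k⁻¹ * g * k * (k⁻¹ * a * k) * (k⁻¹ * g * k)⁻¹) * k⁻¹ := by rw [h1]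
      _ = g * a * g⁻¹ := by group

/-- Chains give control in the whole group. -/
theorem familyIn_top_of_chn (S : Sylow p G)
    (h : ∀ (A : Set G) (g : G), A ⊆ (S : Subgroup G) → (∀ a ∈ A, g * a * g⁻¹ ∈ (S : Subgroup G)) →
      Chn 𝒲 (S : Subgroup G) A g) : Cfsg.FamilyControlsStrongFusionIn p 𝒲 ⊤ := by
  refine ⟨S, le_top, S.isPGroup', by rw [Subgroup.relIndex_top_right]; exact S.not_dvd_index, ?_⟩
  intro A g _ hA hgA
  obtain ⟨d, hd, hde⟩ := h A g hA (fun a ha => hgA ⟨a, ha, rfl⟩)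
  suffices key : ∃ (n : ℕ) (c : Fin (n + 1) → G), c 0 = 1 ∧
      (∀ i : Fin n, ∃ W ∈ 𝒲,
        c i.succ * (c i.castSucc)⁻¹ ∈ ⊤ ⊓ Subgroup.normalizer ((W (S : Subgroup G) : Subgroup G) : Set G)) ∧
      (∀ i : Fin (n + 1), (fun a => c i * a * (c i)⁻¹) '' A ⊆ (S : Subgroup G)) ∧ c (Fin.last n) = d by
    obtain ⟨n, c, h0, h1, h2, h3⟩ := key
    exact ⟨n, c, h0, h1, h2, h3 ▸ hde⟩
  clear hde hgA
  induction hd with
  | one => exact ⟨0, fun _ => 1, rfl, Fin.elim0, fun _ => by simpa using hA, rfl⟩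
  | @step c₀ x _ hx hxa ih =>
    obtain ⟨n, c, h0, h1, h2, h3⟩ := ih
    refine ⟨n + 1, Fin.snoc c (x * c₀), ?_, ?_, ?_, Fin.snoc_last _ _⟩
    · rw [show (0 : Fin (n + 1 + 1)) = (0 : Fin (n + 1)).castSucc from rfl, Fin.snoc_castSucc, h0]
    · intro i
      induction i using Fin.lastCases with
      | last =>
        obtain ⟨W, hW, hxN⟩ := hx
        refine ⟨W, hW, Subgroup.mem_top _, ?_⟩
        rw [Fin.snoc_castSucc, Fin.succ_last, Fin.snoc_last, h3, mul_inv_cancel_right]
        exact hxN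
      | cast i =>
        rw [Fin.snoc_castSucc, ← Fin.castSucc_succ, Fin.snoc_castSucc]
        exact h1 i
    · intro i
      induction i using Fin.lastCases with
      | last => rw [Fin.snoc_last]; exact Set.image_subset_iff.mpr hxa
      | cast i => rw [Fin.snoc_castSucc]; exact h2 i

/-- Local control of strong fusion by a family gives control in the whole group. -/
theorem family_fusion_of_local (S : Sylow p G) (h𝒲 : ∀ W ∈ 𝒲, Cfsg.IsConjugacyFunctor p W)
    (hloc : ∀ T : Subgroup G, T ≤ (S : Subgroup G) → T ≠ ⊥ →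
      ¬ p ∣ ((S : Subgroup G) ⊓ Subgroup.normalizer ((T : Subgroup G) : Set G)).relIndex
        (Subgroup.normalizer ((T : Subgroup G) : Set G)) →
      Cfsg.FamilyControlsStrongFusionIn p 𝒲 (Subgroup.normalizer ((T : Subgroup G) : Set G))) :
    ∀ (A : Set G) (g : G), A ⊆ (S : Subgroup G) → (∀ a ∈ A, g * a * g⁻¹ ∈ (S : Subgroup G)) →
      Chn 𝒲 (S : Subgroup G) A g := by
  let R : Set G → G → Prop := fun A g => Chn 𝒲 (S : Subgroup G) A g
  have hone : ∀ A, R A 1 := fun A => chn_one A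
  have hmul : ∀ (A : Set G) (x y : G), R A x → R ((fun a => x * a * x⁻¹) '' A) y → R A (y * x) :=
    fun A x y h1 h2 => Chn.comp h1 h2
  have main : ∀ j : ℕ, ∀ D : Subgroup G, Tame S D → D ≠ ⊥ →
      Nat.card (S : Subgroup G) < Nat.card ↥((S : Subgroup G) ⊓ Subgroup.normalizer (D : Set G)) + j →
      ∀ (A : Set G) (x : G), x ∈ Subgroup.normalizer (D : Set G) →
        A ⊆ (((S : Subgroup G) ⊓ Subgroup.normalizer (D : Set G) : Subgroup G) : Set G) →
        (∀ a ∈ A, x * a * x⁻¹ ∈ (S : Subgroup G) ⊓ Subgroup.normalizer (D : Set G)) → R A x := by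
    intro j
    induction j with
    | zero =>
      intro D _ _ h
      have := Subgroup.card_le_of_le (inf_le_left : (S : Subgroup G) ⊓ Subgroup.normalizer (D : Set G) ≤ (S : Subgroup G))
      omega
    | succ j ih =>
      intro D hD hD1 _ A x hx hA hxA
      set T := (S : Subgroup G) ⊓ Subgroup.normalizer (D : Set G) with hT
      have hTp : IsPGroup p T := S.isPGroup'.to_le inf_le_left
      obtain ⟨c, hc, he⟩ := chn_of_familyIn h𝒲 (hloc D hD.1 hD1 hD.2.2.2) hD.2 hx hA hxA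
      refine Chn.congr he (hc.induct_steps hA (R := R) hone hmul fun B y hB hy hyB => ?_)
      obtain ⟨W, hW, hyW⟩ := hy
      rcases eq_or_lt_of_le (inf_le_left : T ≤ (S : Subgroup G)) with he' | hlt
      · exact chn_step ⟨W, hW, by rw [← show T = (S : Subgroup G) from he']; exact hyW⟩ fun b hb =>
          (inf_le_left : T ≤ (S : Subgroup G)) (hyB b hb)
      set U := W T with hU
      have hT1 : T ≠ ⊥ := fun h => hD1 (le_bot_iff.mp (h ▸ hD.le_inf))
      have hU1 : U ≠ ⊥ := (h𝒲 W hW T hTp).2.1 hT1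
      have hUT : U ≤ T := (h𝒲 W hW T hTp).1
      set X := (S : Subgroup G) ⊓ Subgroup.normalizer (U : Set G) with hX
      have hTX : Nat.card T < Nat.card X := card_lt_card_inf_normalizer S (h𝒲 W hW) hlt
      have hTleX : T ≤ X := le_inf inf_le_left
        (Subgroup.le_normalizer.trans (conjFunctor_normalizer_le (h𝒲 W hW) hTp))
      obtain ⟨h, hU', hXle⟩ := exists_tame_conj S (hUT.trans inf_le_left : U ≤ (S : Subgroup G))
      have hUne : U.map (MulAut.conj h).toMonoidHom ≠ ⊥ := by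
        rwa [ne_eq, Subgroup.map_eq_bot_iff_of_injective _ (MulAut.conj h).injective]
      have hlow : ∀ D', Tame S D' → Nat.card T < Nat.card D' →
          ∀ n ∈ Subgroup.normalizer (D' : Set G), ∀ A' : Set G, A' ⊆ D' → R A' n := by
        intro D' hD' hlt' n hn A' hA'
        refine ih D' hD' ?_ ?_ A' n hn (fun a ha => hD'.le_inf (hA' ha))
          fun a ha => hD'.le_inf ((Subgroup.mem_normalizer_iff.1 hn a).1 (hA' ha))
        · rintro rfl
          rw [Subgroup.card_bot] at hlt'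
          have : 0 < Nat.card T := Nat.card_pos
          omega
        · have := hD'.card_le
          omega
      have c1 : R (X : Set G) h := by
        refine alperin_induct_big S R hone hmul (Nat.card T) hlow (fun a ha => ha.1)
          (by rintro _ ⟨a, ha, rfl⟩; exact (hXle ⟨a, ha, rfl⟩).1) ?_
        rwa [Subgroup.closure_eq]
      have c3 : R ((fun a => h * a * h⁻¹) '' (X : Set G)) h⁻¹ := by
        refine alperin_induct_big S R hone hmul (Nat.card T) hlow
          (by rintro _ ⟨a, ha, rfl⟩; exact (hXle ⟨a, ha, rfl⟩).1) ?_ ?_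
        · rintro _ ⟨_, ⟨a, ha, rfl⟩, rfl⟩
          show h⁻¹ * (h * a * h⁻¹) * h⁻¹⁻¹ ∈ (S : Subgroup G)
          rw [show h⁻¹ * (h * a * h⁻¹) * h⁻¹⁻¹ = a by group]
          exact ha.1
        · rw [card_closure_image, Subgroup.closure_eq]
          exact hTX
      have hyN : h * y * h⁻¹ ∈ Subgroup.normalizer ((U.map (MulAut.conj h).toMonoidHom : Subgroup G) : Set G) := by
        rw [← map_conj_normalizer]
        exact conj_mem_map_conj hyW
      have c2 : R ((fun a => h * a * h⁻¹) '' B) (h * y * h⁻¹) := by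
        refine ih _ hU' hUne ?_ _ _ hyN ?_ ?_
        · have h1 := Subgroup.card_le_of_le hXle
          rw [Subgroup.card_map_of_injective (f := (MulAut.conj h).toMonoidHom) (MulAut.conj h).injective,
            ← hX] at h1
          omega
        · rintro _ ⟨b, hb, rfl⟩
          exact hXle ⟨b, hTleX (hB hb), rfl⟩
        · rintro _ ⟨b, hb, rfl⟩
          rw [show h * y * h⁻¹ * (h * b * h⁻¹) * (h * y * h⁻¹)⁻¹ = h * (y * b * y⁻¹) * h⁻¹ by group]
          exact hXle ⟨_, hTleX (hyB b hb), rfl⟩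
      have c23 := hmul _ _ _ c2 (Chn.mono (B := (fun a => h * a * h⁻¹) '' (X : Set G)) (by
        rintro _ ⟨_, ⟨b, hb, rfl⟩, rfl⟩
        refine ⟨y * b * y⁻¹, hTleX (hyB b hb), ?_⟩
        group) c3)
      have := hmul _ _ _ (Chn.mono (fun b hb => hTleX (hB hb)) c1) c23
      rwa [show h⁻¹ * (h * y * h⁻¹) * h = y by group] at this
  intro A g hA hgA
  refine alperin_induct S R hone hmul (fun D hD n hn A' hA' => ?_) hA
    (by rintro _ ⟨a, ha, rfl⟩; exact hgA a ha)
  by_cases hD1 : D = ⊥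
  · refine chn_of_fixed fun a ha => ?_
    have h0 : a ∈ (⊥ : Subgroup G) := hD1 ▸ hA' ha
    rw [Subgroup.mem_bot.1 h0]; simp
  exact main (Nat.card (S : Subgroup G) + 1) D hD hD1 (by omega) A' n hn (fun a ha => hD.le_inf (hA' ha))
    fun a ha => hD.le_inf ((Subgroup.mem_normalizer_iff.1 hn a).1 (hA' ha))

/-- Control of transfer in `H`, seen in any Sylow subgroup of `H`. -/
theorem foc_of_familyIn (h𝒲 : ∀ W ∈ 𝒲, Cfsg.IsConjugacyFunctor p W) {H R : Subgroup G}
    (h : Cfsg.FamilyControlsTransferIn p 𝒲 H) (hR : Grp.IsSylowIn p R H) :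
    R ⊓ ⁅H, H⁆ ≤ Foc 𝒲 R := by
  obtain ⟨T, hTH, hTp, hTi, hT⟩ := h
  obtain ⟨k, hk, hkT⟩ := Grp.IsSylowIn.conj (X := T) ⟨hTH, hTp, hTi⟩ hR
  rw [← Grp.map_conj_eq_smul] at hkT
  have hH : H.map (MulAut.conj k).toMonoidHom = H := by
    rw [Grp.map_conj_eq_smul]
    exact Grp.mem_normalizer_iff_smul.1 (Subgroup.le_normalizer hk)
  have h1 : (T ⊓ ⁅H, H⁆).map (MulAut.conj k).toMonoidHom = R ⊓ ⁅H, H⁆ := by
    rw [Subgroup.map_inf _ _ _ (MulAut.conj k).injective, Subgroup.map_commutator, hH, hkT]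
  rw [← h1, hT, Subgroup.map_le_iff_le_comap]
  refine iSup₂_le fun W hW => ?_
  rw [← Subgroup.map_le_iff_le_comap, Subgroup.map_inf _ _ _ (MulAut.conj k).injective,
    Subgroup.map_commutator, hkT]
  refine le_trans (inf_le_inf le_rfl (Subgroup.commutator_mono ?_ ?_)) (le_foc hW) <;>
  · refine (Subgroup.map_mono inf_le_right).trans ?_
    rw [map_conj_normalizer, ← (h𝒲 W hW T hTp).2.2 k, hkT]

/-- Local control of transfer by a family gives control in the whole group. -/
theorem family_transfer_of_local (S : Sylow p G) (h𝒲 : ∀ W ∈ 𝒲, Cfsg.IsConjugacyFunctor p W)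
    (hloc : ∀ T : Subgroup G, T ≤ (S : Subgroup G) → T ≠ ⊥ →
      ¬ p ∣ ((S : Subgroup G) ⊓ Subgroup.normalizer ((T : Subgroup G) : Set G)).relIndex
        (Subgroup.normalizer ((T : Subgroup G) : Set G)) →
      Cfsg.FamilyControlsTransferIn p 𝒲 (Subgroup.normalizer ((T : Subgroup G) : Set G))) :
    Cfsg.FamilyControlsTransferIn p 𝒲 ⊤ := by
  refine ⟨S, le_top, S.isPGroup', by rw [Subgroup.relIndex_top_right]; exact S.not_dvd_index, ?_⟩
  simp only [top_inf_eq]
  refine le_antisymm ?_ (le_inf (foc_le_left 𝒲 _) (foc_le_commutator 𝒲 _))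
  set F := Foc 𝒲 (S : Subgroup G) with hF
  let R : Set G → G → Prop := fun A g => ∀ a ∈ A, a⁻¹ * (g * a * g⁻¹) ∈ F
  have hone : ∀ A, R A 1 := fun A a _ => by simp
  have hmul : ∀ (A : Set G) (x y : G), R A x → R ((fun a => x * a * x⁻¹) '' A) y → R A (y * x) := by
    intro A x y h1 h2 a ha
    have h := mul_mem (h1 a ha) (h2 _ ⟨a, ha, rfl⟩)
    simpa [mul_assoc] using h
  let Ψ : Subgroup G → Prop := fun D =>
    ((S : Subgroup G) ⊓ Subgroup.normalizer (D : Set G)) ⊓
      ⁅Subgroup.normalizer (D : Set G), Subgroup.normalizer (D : Set G)⁆ ≤ F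
  have hΨR : ∀ D : Subgroup G, Tame S D → Ψ D →
      ∀ n ∈ Subgroup.normalizer (D : Set G), ∀ A : Set G, A ⊆ D → R A n := by
    intro D hD h n hn A hA a ha
    have haN : a ∈ Subgroup.normalizer (D : Set G) := Subgroup.le_normalizer (hA ha)
    have h1 : n * a * n⁻¹ ∈ D := (Subgroup.mem_normalizer_iff.mp hn a).mp (hA ha)
    have h2 := mul_mem (inv_mem (hA ha)) h1
    refine h ⟨hD.le_inf h2, ?_⟩
    have h3 := Subgroup.commutator_mem_commutator (inv_mem haN) hn
    simpa [commutatorElement_def, mul_assoc] using h3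
  have main : ∀ j : ℕ, ∀ D : Subgroup G, Tame S D → D ≠ ⊥ →
      Nat.card (S : Subgroup G) < Nat.card ↥((S : Subgroup G) ⊓ Subgroup.normalizer (D : Set G)) + j → Ψ D := by
    intro j
    induction j with
    | zero =>
      intro D _ _ h
      have := Subgroup.card_le_of_le (inf_le_left : (S : Subgroup G) ⊓ Subgroup.normalizer (D : Set G) ≤ (S : Subgroup G))
      omega
    | succ j ih =>
      intro D hD hD1 _
      set T := (S : Subgroup G) ⊓ Subgroup.normalizer (D : Set G) with hT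
      have hTp : IsPGroup p T := S.isPGroup'.to_le inf_le_left
      refine le_trans (foc_of_familyIn h𝒲 (hloc D hD.1 hD1 hD.2.2.2) hD.2) (iSup₂_le fun W hW => ?_)
      rcases eq_or_lt_of_le (inf_le_left : T ≤ (S : Subgroup G)) with he | hlt
      · rw [← hT, show T = (S : Subgroup G) from he]; exact le_foc hW
      set U := W T with hU
      have hT1 : T ≠ ⊥ := fun h => hD1 (le_bot_iff.mp (h ▸ hD.le_inf))
      have hU1 : U ≠ ⊥ := (h𝒲 W hW T hTp).2.1 hT1
      have hUT : U ≤ T := (h𝒲 W hW T hTp).1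
      set X := (S : Subgroup G) ⊓ Subgroup.normalizer (U : Set G) with hX
      have hTX : Nat.card T < Nat.card X := card_lt_card_inf_normalizer S (h𝒲 W hW) hlt
      obtain ⟨h, hU', hXle⟩ := exists_tame_conj S (hUT.trans inf_le_left : U ≤ (S : Subgroup G))
      have hUne : U.map (MulAut.conj h).toMonoidHom ≠ ⊥ := by
        rwa [ne_eq, Subgroup.map_eq_bot_iff_of_injective _ (MulAut.conj h).injective]
      have hΨU : Ψ (U.map (MulAut.conj h).toMonoidHom) := by
        refine ih _ hU' hUne ?_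
        have h1 := Subgroup.card_le_of_le hXle
        rw [Subgroup.card_map_of_injective (f := (MulAut.conj h).toMonoidHom) (MulAut.conj h).injective,
          ← hX] at h1
        omega
      rintro y ⟨hyT, hyN⟩
      have hyX : y ∈ X := ⟨(inf_le_left : T ≤ (S : Subgroup G)) hyT,
        Subgroup.le_normalizer.trans (conjFunctor_normalizer_le (h𝒲 W hW) hTp) hyT⟩
      have hR : R (X : Set G) h := by
        refine alperin_induct_big S R hone hmul (Nat.card T) (fun D' hD' hlt' => ?_)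
          (fun a ha => ha.1) (by rintro _ ⟨a, ha, rfl⟩; exact (hXle ⟨a, ha, rfl⟩).1)
          (by rwa [Subgroup.closure_eq])
        refine hΨR D' hD' (ih D' hD' ?_ ?_)
        · rintro rfl
          rw [Subgroup.card_bot] at hlt'
          have : 0 < Nat.card T := Nat.card_pos
          omega
        · have := hD'.card_le
          omega
      have hy' : h * y * h⁻¹ ∈ F := by
        refine hΨU ⟨hXle ⟨y, hyX, rfl⟩, ?_⟩
        rw [← map_conj_normalizer, ← Subgroup.map_commutator]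
        exact conj_mem_map_conj hyN
      have h2 := mul_mem hy' (inv_mem (hR y hyX))
      simpa [mul_assoc] using h2
  rw [inf_comm, ← commutator_def]
  refine Transfer.commutator_inf_sylow_le S fun x hx u hu => ?_
  by_cases hx1 : x = 1
  · subst hx1; simp
  have h1 : 1 < Nat.card (Subgroup.closure ({x} : Set G)) := by
    rw [← Subgroup.zpowers_eq_closure, Nat.card_zpowers]
    exact lt_of_le_of_ne (orderOf_pos x) fun h => hx1 (orderOf_eq_one_iff.mp h.symm)
  refine alperin_induct_big S R hone hmul 1 (fun D hD hlt => ?_) (Set.singleton_subset_iff.mpr hx)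
    (by rintro _ ⟨a, rfl, rfl⟩; exact hu) h1 x rfl
  refine hΨR D hD (main (Nat.card (S : Subgroup G) + 1) D hD ?_ (by omega))
  rintro rfl
  simp at hlt

end Cfsg.Agent.Invol
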