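import Mathlib
import Cfsg.Agent.Lib.Grp.Coprime
import Cfsg.Agent.Lib.Invol.ZStar

/-!
A coprime automorphism fixing the centraliser of an involution of a simple group is trivial.

The cosets of the fixed subgroup `C` form a set on which every conjugate of the involution has exactly one
fixed point. Pairs of conjugates moving the base point to the same place give elements `d` of `C`; coprime
Sylow arguments bound the number of such pairs through the fixed points of `d`, against Cauchy–Schwarz.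
-/

set_option autoImplicit false

namespace Cfsg.Agent.Invol.FixCent

universe u

variable {G : Type u} [Group G]

/-- The fixed points of an automorphism. -/
def fixedBy (α : MulAut G) : Subgroup G where
  carrier := {g | α g = g}
  one_mem' := map_one α
  mul_mem' := fun {a b} (ha : α a = a) (hb : α b = b) => show α (a * b) = a * b by rw [map_mul, ha, hb]
  inv_mem' := fun {a} (ha : α a = a) => show α a⁻¹ = a⁻¹ by rw [map_inv, ha]

theorem mem_fixedBy {α : MulAut G} {g : G} : g ∈ fixedBy α ↔ α g = g := Iff.rfl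

variable [Finite G]

/-- The hypotheses. -/
structure Setup (α : MulAut G) (τ : G) : Prop where
  cop : (orderOf α).Coprime (Nat.card G)
  ord : orderOf τ = 2
  fix : ∀ c : G, Commute c τ → α c = c

variable {α : MulAut G} {τ : G}

omit [Finite G] in
theorem iterate_eq {g c : G} (hg : α g = g * c) (hc : α c = c) : ∀ m : ℕ, (α ^ m) g = g * c ^ m
  | 0 => by simp
  | m + 1 => by
    rw [pow_succ', MulAut.mul_apply, iterate_eq hg hc m, map_mul, map_pow, hg, hc, mul_assoc, ← pow_succ']

theorem eq_of_diff (hcop : (orderOf α).Coprime (Nat.card G)) {g : G} (h : g⁻¹ * α g ∈ fixedBy α) : α g = g := by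
  set c := g⁻¹ * α g with hc
  have hg : α g = g * c := by rw [hc, mul_inv_cancel_left]
  have h1 := iterate_eq hg h (orderOf α)
  rw [pow_orderOf_eq_one, MulAut.one_apply] at h1
  have h2 : c ^ orderOf α = 1 := mul_left_cancel (h1.symm.trans (mul_one g).symm)
  have h3 := Nat.eq_one_of_dvd_coprimes hcop (orderOf_dvd_of_pow_eq_one h2) (orderOf_dvd_natCard c)
  rw [orderOf_eq_one_iff.1 h3, mul_one] at hg
  exact hg

/-- A conjugate of `τ` in the fixed subgroup is a conjugate inside it. -/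
theorem mem_of_conj_mem (hS : Setup α τ) {g : G} (h : g * τ * g⁻¹ ∈ fixedBy α) : g ∈ fixedBy α := by
  refine eq_of_diff hS.cop (hS.fix _ ?_)
  have hτ : α τ = τ := hS.fix τ (Commute.refl τ)
  have h' : α g * τ * (α g)⁻¹ = g * τ * g⁻¹ := by
    have := (mem_fixedBy.1 h)
    rwa [map_mul, map_mul, map_inv, hτ] at this
  show g⁻¹ * α g * τ = τ * (g⁻¹ * α g)
  calc g⁻¹ * α g * τ = g⁻¹ * (α g * τ * (α g)⁻¹) * α g := by group
    _ = g⁻¹ * (g * τ * g⁻¹) * α g := by rw [h']
    _ = τ * (g⁻¹ * α g) := by group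

omit [Finite G] in
theorem smul_mk_eq_iff {C : Subgroup G} {x g : G} :
    x • (g : G ⧸ C) = (g : G ⧸ C) ↔ g⁻¹ * x * g ∈ C := by
  rw [MulAction.Quotient.smul_coe, eq_comm, QuotientGroup.eq, smul_eq_mul, mul_assoc]

/-- A conjugate of `τ` fixes only one point. -/
theorem unique_fixed (hS : Setup α τ) {x : G} (hx : IsConj τ x) {ω ω' : G ⧸ fixedBy α}
    (h : x • ω = ω) (h' : x • ω' = ω') : ω = ω' := by
  obtain ⟨a, rfl⟩ := isConj_iff.1 hx
  induction ω using QuotientGroup.induction_on with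
  | _ g =>
    induction ω' using QuotientGroup.induction_on with
    | _ g' =>
      rw [smul_mk_eq_iff] at h h'
      have e : ∀ w : G, w⁻¹ * (a * τ * a⁻¹) * w ∈ fixedBy α → w⁻¹ * a ∈ fixedBy α := fun w hw =>
        mem_of_conj_mem hS (by convert hw using 1; group)
      rw [QuotientGroup.eq]
      have := mul_mem (e g h) (inv_mem (e g' h'))
      convert this using 1
      group

theorem smul_base {x : G} : x • ((1 : G) : G ⧸ fixedBy α) = ((1 : G) : G ⧸ fixedBy α) ↔ x ∈ fixedBy α := by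
  rw [smul_mk_eq_iff]; simp

omit [Finite G] in
/-- `{k | k d k⁻¹ = d^±1}`. -/
def stab (d : G) : Subgroup G where
  carrier := {k | k * d * k⁻¹ = d ∨ k * d * k⁻¹ = d⁻¹}
  one_mem' := Or.inl (by group)
  mul_mem' := fun {a b} (ha : a * d * a⁻¹ = d ∨ a * d * a⁻¹ = d⁻¹) (hb : b * d * b⁻¹ = d ∨ b * d * b⁻¹ = d⁻¹) => by
    show a * b * d * (a * b)⁻¹ = d ∨ a * b * d * (a * b)⁻¹ = d⁻¹
    rw [show a * b * d * (a * b)⁻¹ = a * (b * d * b⁻¹) * a⁻¹ by group]
    rcases hb with hb | hb <;> rw [hb]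
    · exact ha
    · rw [← conj_inv]
      rcases ha with ha | ha <;> rw [ha]
      · exact Or.inr rfl
      · exact Or.inl (inv_inv d)
  inv_mem' := fun {a} (ha : a * d * a⁻¹ = d ∨ a * d * a⁻¹ = d⁻¹) => by
    show a⁻¹ * d * a⁻¹⁻¹ = d ∨ a⁻¹ * d * a⁻¹⁻¹ = d⁻¹
    rcases ha with ha | ha
    · left
      nth_rewrite 1 [← ha]
      group
    · right
      have h : a * d⁻¹ * a⁻¹ = d := by rw [← conj_inv, ha, inv_inv]
      nth_rewrite 1 [← h]
      group

/-- A coprime automorphism fixes a Sylow 2-subgroup of an invariant subgroup. -/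
theorem exists_invariant_two (hcop : (orderOf α).Coprime (Nat.card G)) (K : Subgroup G)
    (hK : ∀ k ∈ K, α k ∈ K) :
    ∃ P : Subgroup G, IsPGroup 2 P ∧ P.map α.toMonoidHom = P ∧
      ∀ x ∈ K, x ^ 2 = 1 → ∃ k ∈ K, k * x * k⁻¹ ∈ P := by
  haveI : Fact (Nat.Prime 2) := ⟨Nat.prime_two⟩
  haveI : Finite (MulAut G) := Finite.of_injective (fun e : MulAut G => (e : G → G)) DFunLike.coe_injective
  let φ : ↥(Subgroup.zpowers α) →* MulAut G := (Subgroup.zpowers α).subtype
  haveI : Finite (G ⋊[φ] ↥(Subgroup.zpowers α)) := Finite.of_equiv _ SemidirectProduct.equivProd.symm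
  let inl : G →* G ⋊[φ] ↥(Subgroup.zpowers α) := SemidirectProduct.inl
  set A := (SemidirectProduct.inr : ↥(Subgroup.zpowers α) →* G ⋊[φ] ↥(Subgroup.zpowers α)).range with hA
  set K' := K.map inl with hK'
  have hinj : Function.Injective inl := SemidirectProduct.inl_injective
  have hKn : ∀ (n : ℤ), ∀ k ∈ K, (α ^ n) k ∈ K := by
    have h1 : K.map α.toMonoidHom = K := Subgroup.eq_of_le_of_card_ge
      (by rintro _ ⟨k, hk, rfl⟩; exact hK k hk) (Subgroup.card_map_of_injective α.injective).ge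
    have h2 : ∀ k ∈ K, α⁻¹ k ∈ K := fun k hk => by
      rw [← h1] at hk
      obtain ⟨k', hk', rfl⟩ := hk
      simpa using hk'
    intro n
    induction n using Int.induction_on with
    | zero => intro k hk; simpa using hk
    | succ i ih => intro k hk; rw [zpow_add_one, MulAut.mul_apply]; exact ih _ (hK k hk)
    | pred i ih => intro k hk; rw [zpow_sub_one, MulAut.mul_apply]; exact ih _ (h2 k hk)
  have hAK : A ≤ Subgroup.normalizer (K' : Set (G ⋊[φ] ↥(Subgroup.zpowers α))) := by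
    refine fun a ha => ?_
    obtain ⟨b, rfl⟩ := ha
    obtain ⟨n, hn⟩ := b.2
    refine Subgroup.mem_normalizer_iff.2 fun y => ⟨?_, fun hy => ?_⟩
    · rintro ⟨k, hk, rfl⟩
      refine ⟨φ b k, ?_, (SemidirectProduct.inl_aut (φ := φ) b k).trans (by rw [map_inv])⟩
      show (b : MulAut G) k ∈ K
      rw [← hn]; exact hKn n k hk
    · obtain ⟨k, hk, hke⟩ := hy
      refine ⟨φ b⁻¹ k, ?_, ?_⟩
      · show ((b⁻¹ : ↥(Subgroup.zpowers α)) : MulAut G) k ∈ K
        rw [Subgroup.coe_inv, ← hn, ← zpow_neg]; exact hKn _ k hk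
      · show inl (φ b⁻¹ k) = y
        rw [show inl (φ b⁻¹ k) = (SemidirectProduct.inr b)⁻¹ * inl k * SemidirectProduct.inr b from
          (SemidirectProduct.inl_aut (φ := φ) b⁻¹ k).trans (by rw [map_inv, inv_inv]), hke]
        group
  have hcop' : (Nat.card A).Coprime (Nat.card K') := by
    rw [hA, Nat.card_congr (MonoidHom.ofInjective SemidirectProduct.inr_injective).toEquiv.symm,
      Nat.card_zpowers, hK', Subgroup.card_map_of_injective hinj]
    exact hcop.coprime_dvd_right (Subgroup.card_subgroup_dvd_card K)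
  have hsolv : Group.IsSolvable A := by
    refine Group.isSolvable_of_comm ?_
    rintro ⟨_, a, rfl⟩ ⟨_, b, rfl⟩
    exact Subtype.ext (by
      show SemidirectProduct.inr a * SemidirectProduct.inr b = SemidirectProduct.inr b * SemidirectProduct.inr a
      rw [← map_mul, ← map_mul, mul_comm'])
  obtain ⟨P', hP', hAP⟩ := Grp.exists_invariant_sylow A K' hAK hcop' (Or.inl hsolv) 2
  refine ⟨P'.comap inl, hP'.2.1.comap_of_injective inl hinj, ?_, fun x hx hx2 => ?_⟩
  · refine Subgroup.eq_of_le_of_card_ge ?_ (Subgroup.card_map_of_injective α.injective).ge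
    rintro _ ⟨y, hy, rfl⟩
    show inl (α y) ∈ P'
    have hα : (α : MulAut G) ∈ Subgroup.zpowers α := Subgroup.mem_zpowers α
    rw [show inl (α y) = SemidirectProduct.inr (⟨α, hα⟩ : ↥(Subgroup.zpowers α)) * inl y *
      (SemidirectProduct.inr (⟨α, hα⟩ : ↥(Subgroup.zpowers α)))⁻¹ by
        rw [← map_inv]; exact SemidirectProduct.inl_aut (φ := φ) ⟨α, hα⟩ y]
    exact (Subgroup.mem_normalizer_iff.1 (hAP ⟨_, rfl⟩) _).1 hy
  · have hzK : Subgroup.zpowers (inl x) ≤ K' := Subgroup.zpowers_le.2 (Subgroup.mem_map_of_mem _ hx)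
    have hz : IsPGroup 2 ↥(Subgroup.zpowers (inl x)) := by
      rintro ⟨_, n, rfl⟩
      refine ⟨1, Subtype.ext ?_⟩
      push_cast
      rw [← zpow_natCast, ← zpow_mul, mul_comm, zpow_mul, zpow_natCast, ← map_pow]
      simp [hx2]
    obtain ⟨Y, hY, -, hxY⟩ := Grp.exists_invariant_sylow_ge ⊥ K' bot_le (by simp) (Or.inl inferInstance) hzK hz bot_le
    obtain ⟨k', hk', hkY⟩ := hY.conj hP'
    obtain ⟨k, hk, rfl⟩ := hk'
    refine ⟨k, hk, ?_⟩
    show inl (k * x * k⁻¹) ∈ P'
    rw [← hkY, map_mul, map_mul, map_inv]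
    exact ⟨inl x, hxY (Subgroup.mem_zpowers _), by simp⟩

theorem odd_points (hS : Setup α τ) : Odd (Nat.card (G ⧸ fixedBy α)) := by
  classical
  haveI : Fact (Nat.Prime 2) := ⟨Nat.prime_two⟩
  have hp : IsPGroup 2 ↥(Subgroup.zpowers τ) := IsPGroup.of_card (n := 1) (by rw [Nat.card_zpowers, hS.ord, pow_one])
  have h := hp.card_modEq_card_fixedPoints (α := G ⧸ fixedBy α)
  have h1 : MulAction.fixedPoints ↥(Subgroup.zpowers τ) (G ⧸ fixedBy α) = {((1 : G) : G ⧸ fixedBy α)} := by
    ext ω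
    rw [Set.mem_singleton_iff, MulAction.mem_fixedPoints]
    constructor
    · intro hω
      exact unique_fixed hS (IsConj.refl τ) (hω ⟨τ, Subgroup.mem_zpowers τ⟩)
        (smul_base.2 (hS.fix τ (Commute.refl τ)))
    · rintro rfl ⟨t, n, rfl⟩
      exact smul_base.2 ((fixedBy α).zpow_mem (hS.fix τ (Commute.refl τ)) n)
  have hc : Nat.card (MulAction.fixedPoints ↥(Subgroup.zpowers τ) (G ⧸ fixedBy α)) = 1 := by
    rw [h1]; simp
  rw [Nat.ModEq, hc] at h
  exact Nat.odd_iff.2 (by simpa using h)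

/-- An involution of `stab d` conjugate to `τ` has its fixed point in the orbit of the base point. -/
theorem exists_stab_point (hS : Setup α τ) {d x : G} (hd : α d = d) (hx : IsConj τ x) (hxd : x ∈ stab d) :
    ∃ k ∈ stab d, x • (k : G ⧸ fixedBy α) = (k : G ⧸ fixedBy α) := by
  haveI : Fact (Nat.Prime 2) := ⟨Nat.prime_two⟩
  obtain ⟨P, hPp, hPα, hP⟩ := exists_invariant_two hS.cop (stab d) (fun k hk => by
    have h : k * d * k⁻¹ = d ∨ k * d * k⁻¹ = d⁻¹ := hk
    show α k * d * (α k)⁻¹ = d ∨ α k * d * (α k)⁻¹ = d⁻¹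
    rcases h with h | h
    · left
      conv_rhs => rw [← hd, ← h, map_mul, map_mul, map_inv, hd]
    · right
      conv_rhs => rw [← hd, ← map_inv, ← h, map_mul, map_mul, map_inv, hd])
  have hx2 : x ^ 2 = 1 := by
    obtain ⟨a, rfl⟩ := isConj_iff.1 hx
    rw [conj_pow, show τ ^ 2 = 1 by rw [← hS.ord, pow_orderOf_eq_one], mul_one, mul_inv_cancel]
  obtain ⟨k, hk, hkP⟩ := hP x hxd hx2
  have hnd : ¬ 2 ∣ Nat.card (G ⧸ fixedBy α) := fun h =>
    Nat.not_even_iff_odd.2 (odd_points hS) (even_iff_two_dvd.2 h)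
  obtain ⟨s, hs⟩ := hPp.nonempty_fixed_point_of_prime_not_dvd_card (G ⧸ fixedBy α) hnd
  induction s using QuotientGroup.induction_on with
  | _ g =>
    have hfix : ∀ q ∈ P, g⁻¹ * q * g ∈ fixedBy α := fun q hq => smul_mk_eq_iff.1 (hs ⟨q, hq⟩)
    have hy : IsConj τ (k * x * k⁻¹) := hx.trans (isConj_iff.2 ⟨k, rfl⟩)
    obtain ⟨q, hq, hqe⟩ : k * x * k⁻¹ ∈ P.map α.toMonoidHom := hPα.symm ▸ hkP
    have hαg : (k * x * k⁻¹) • ((α g : G) : G ⧸ fixedBy α) = ((α g : G) : G ⧸ fixedBy α) := by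
      rw [smul_mk_eq_iff, ← hqe]
      have h := hfix q hq
      show (α g)⁻¹ * α q * α g ∈ fixedBy α
      rw [← map_inv, ← map_mul, ← map_mul, mem_fixedBy.1 h]
      exact h
    have e := unique_fixed hS hy (smul_mk_eq_iff.2 (hfix _ hkP)) hαg
    have hg : g ∈ fixedBy α := eq_of_diff hS.cop (QuotientGroup.eq.1 e)
    refine ⟨k⁻¹, inv_mem hk, smul_mk_eq_iff.2 ?_⟩
    rw [inv_inv]
    have h := mul_mem (mul_mem hg (hfix _ hkP)) (inv_mem hg)
    convert h using 1
    group

set_option maxHeartbeats 1600000 in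
/-- The conjugates of `τ` commuting pairwise: only `τ` itself is fixed. -/
theorem conj_eq_self (hS : Setup α τ) (hα : α ≠ 1) [IsSimpleGroup G] :
    ∀ g : G, g * τ * g⁻¹ ∈ fixedBy α → g * τ * g⁻¹ = τ := by
  classical
  haveI : Fintype G := Fintype.ofFinite G
  haveI : Fintype (G ⧸ fixedBy α) := Fintype.ofFinite _
  set b : G ⧸ fixedBy α := ((1 : G) : G ⧸ fixedBy α) with hb
  have htr : ∀ ω : G ⧸ fixedBy α, ∃ g : G, g • b = ω := fun ω => MulAction.exists_smul_eq G b ω
  have hpt : ∀ x : G, IsConj τ x → ∃ ω : G ⧸ fixedBy α, x • ω = ω := fun x hx => by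
    obtain ⟨a, rfl⟩ := isConj_iff.1 hx
    exact ⟨(a : G ⧸ fixedBy α), smul_mk_eq_iff.2 (by
      rw [show a⁻¹ * (a * τ * a⁻¹) * a = τ by group]; exact hS.fix τ (Commute.refl τ))⟩
  set pt : G → G ⧸ fixedBy α := fun x => if h : IsConj τ x then (hpt x h).choose else b with hptdef
  have pt_spec : ∀ x, IsConj τ x → x • pt x = pt x := fun x hx => by
    simp only [hptdef, dif_pos hx]; exact (hpt x hx).choose_spec
  set J := Finset.univ.filter (fun x : G => IsConj τ x) with hJ
  have memJ : ∀ x, x ∈ J ↔ IsConj τ x := fun x => by simp [hJ]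
  set JC := J.filter (fun x => pt x = b) with hJC
  have memJC : ∀ x, x ∈ JC ↔ IsConj τ x ∧ x ∈ fixedBy α := fun x => by
    rw [hJC, Finset.mem_filter, memJ]
    refine and_congr_right fun hx => ⟨fun h => smul_base.1 (by have h' := pt_spec x hx; rwa [h] at h'), fun h =>
      unique_fixed hS hx (pt_spec x hx) (smul_base.2 h)⟩
  set Jout := J.filter (fun x => pt x ≠ b) with hJout
  have memOut : ∀ x, x ∈ Jout ↔ IsConj τ x ∧ x ∉ fixedBy α := fun x => by
    have h := memJC x
    rw [hJC, Finset.mem_filter, memJ] at h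
    rw [hJout, Finset.mem_filter, memJ]
    tauto
  intro g₀ hg₀
  by_contra hne
  have hj : 2 ≤ JC.card := by
    refine Finset.one_lt_card.2 ⟨τ, (memJC _).2 ⟨IsConj.refl τ, hS.fix τ (Commute.refl τ)⟩, _,
      (memJC _).2 ⟨isConj_iff.2 ⟨g₀, rfl⟩, hg₀⟩, Ne.symm hne⟩
  have hfib : ∀ ω, (J.filter (fun x => pt x = ω)).card = JC.card := by
    intro ω
    obtain ⟨g, rfl⟩ := htr ω
    refine Finset.card_bij' (fun x _ => g⁻¹ * x * g) (fun x _ => g * x * g⁻¹) ?_ ?_ ?_ ?_
    · intro x hx
      rw [Finset.mem_filter, memJ] at hx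
      refine (memJC _).2 ⟨hx.1.trans (isConj_iff.2 ⟨g⁻¹, by group⟩), smul_base.1 ?_⟩
      have h := pt_spec x hx.1
      rw [hx.2] at h
      show (g⁻¹ * x * g) • b = b
      rw [mul_smul, mul_smul, h, inv_smul_smul]
    · intro x hx
      rw [memJC] at hx
      have hc : IsConj τ (g * x * g⁻¹) := hx.1.trans (isConj_iff.2 ⟨g, rfl⟩)
      rw [Finset.mem_filter, memJ]
      refine ⟨hc, unique_fixed hS hc (pt_spec _ hc) ?_⟩
      rw [mul_smul, mul_smul, inv_smul_smul, smul_base.2 hx.2]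
    · intro x _; group
    · intro x _; group
  set n := Fintype.card (G ⧸ fixedBy α) with hn
  set E := (Finset.univ : Finset (G ⧸ fixedBy α)).erase b with hE
  have hEc : E.card = n - 1 := by rw [hE, Finset.card_erase_of_mem (Finset.mem_univ b), Finset.card_univ]
  have hout : Jout.card = (n - 1) * JC.card := by
    rw [Finset.card_eq_sum_card_fiberwise (f := pt) (t := E) (s := Jout) (fun x hx => by
      rw [hE]; exact Finset.mem_erase.2 ⟨(Finset.mem_filter.1 hx).2, Finset.mem_univ _⟩)]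
    rw [Finset.sum_congr rfl (g := fun _ => JC.card) (fun ω hω => ?_), Finset.sum_const, smul_eq_mul, hEc]
    rw [← hfib ω]
    congr 1
    ext x
    simp only [hJout, Finset.mem_filter]
    refine ⟨fun h => ⟨h.1.1, h.2⟩, fun h => ⟨⟨h.1, ?_⟩, h.2⟩⟩
    rw [h.2]; exact (Finset.mem_erase.1 hω).1
  have hsq : ∀ x, IsConj τ x → x * x = 1 := fun x hx => by
    obtain ⟨a, rfl⟩ := isConj_iff.1 hx
    rw [← sq, conj_pow, show τ ^ 2 = 1 by rw [← hS.ord, pow_orderOf_eq_one], mul_one, mul_inv_cancel]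
  -- pairs moving the base point to the same place
  have hmove : ∀ x ∈ Jout, x • b ∈ E := fun x hx => Finset.mem_erase.2
    ⟨fun h => ((memOut x).1 hx).2 (smul_base.1 h), Finset.mem_univ _⟩
  set k : G ⧸ fixedBy α → ℕ := fun ω => (Jout.filter (fun x => x • b = ω)).card with hk
  have hsum : ∑ ω ∈ E, k ω = Jout.card := (Finset.card_eq_sum_card_fiberwise hmove).symm
  set PP := (Jout ×ˢ Jout).filter (fun q => q.1 • b = q.2 • b) with hPP
  have hPPc : PP.card = ∑ ω ∈ E, k ω ^ 2 := by
    rw [Finset.card_eq_sum_card_fiberwise (f := fun q : G × G => q.1 • b) (t := E) (s := PP)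
      (fun q hq => hmove _ (Finset.mem_product.1 (Finset.mem_filter.1 hq).1).1)]
    refine Finset.sum_congr rfl fun ω _ => ?_
    rw [hk, sq, ← Finset.card_product]
    congr 1
    ext q
    simp only [hPP, Finset.mem_filter, Finset.mem_product]
    constructor
    · rintro ⟨⟨⟨h1, h2⟩, h3⟩, h4⟩; exact ⟨⟨h1, h4⟩, h2, h3 ▸ h4⟩
    · rintro ⟨⟨h1, h4⟩, h2, h5⟩; exact ⟨⟨⟨h1, h2⟩, h4.trans h5.symm⟩, h4⟩
  have hCS : Jout.card ^ 2 ≤ (n - 1) * PP.card := by
    rw [hPPc, ← hsum, ← hEc]; exact sq_sum_le_card_mul_sum_sq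
  set D := (Finset.univ : Finset G).filter (fun d => d ∈ fixedBy α ∧ d ≠ 1) with hD
  have hoff : (PP.filter (fun q => q.1 ≠ q.2)).card ≤
      ∑ d ∈ D, (Jout.filter (fun x => IsConj τ (x * d))).card := by
    rw [← Finset.card_sigma]
    refine Finset.card_le_card_of_injOn (fun q => ⟨q.1 * q.2, q.1⟩) ?_ ?_
    · intro q hq
      rw [Finset.mem_coe, Finset.mem_filter, hPP, Finset.mem_filter, Finset.mem_product] at hq
      obtain ⟨⟨⟨h1, h2⟩, h3⟩, h4⟩ := hq
      have hs1 := hsq _ ((memOut _).1 h1).1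
      simp only [Finset.mem_coe, Finset.mem_sigma, hD, Finset.mem_filter, Finset.mem_univ, true_and]
      refine ⟨⟨smul_base.1 ?_, fun e => h4 ?_⟩, h1, ?_⟩
      · show (q.1 * q.2) • b = b
        rw [mul_smul, ← h3, ← mul_smul, hs1, one_smul]
      · rw [← mul_one q.1, ← e, ← mul_assoc, hs1, one_mul]
      · rw [← mul_assoc, hs1, one_mul]; exact ((memOut _).1 h2).1
    · intro q _ q' _ h
      have h1 : q.1 = q'.1 := congrArg (fun s : (_ : G) × G => s.2) h
      have h2 : q.1 * q.2 = q'.1 * q'.2 := congrArg (fun s : (_ : G) × G => s.1) h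
      rw [h1] at h2
      exact Prod.ext h1 (mul_left_cancel h2)
  have hin : ∑ d ∈ D, (JC.filter (fun x => IsConj τ (x * d))).card ≤ JC.offDiag.card := by
    rw [← Finset.card_sigma]
    refine Finset.card_le_card_of_injOn (fun s => (s.2, s.2 * s.1)) ?_ ?_
    · intro s hs
      simp only [Finset.mem_coe, Finset.mem_sigma, hD, Finset.mem_filter, Finset.mem_univ, true_and] at hs
      obtain ⟨⟨hd, hd1⟩, hx, hxd⟩ := hs
      simp only [Finset.mem_coe, Finset.mem_offDiag]
      refine ⟨hx, (memJC _).2 ⟨hxd, mul_mem ((memJC _).1 hx).2 hd⟩, fun e => hd1 ?_⟩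
      exact mul_left_cancel (a := s.2) (by rw [mul_one]; exact e.symm)
    · intro s _ s' _ h
      obtain ⟨h1, h2⟩ := Prod.mk.injEq .. ▸ h
      rw [h1] at h2
      exact Sigma.ext (mul_left_cancel h2) (heq_of_eq h1)
  have hbound : ∀ d ∈ D, (Jout.filter (fun x => IsConj τ (x * d))).card ≤
      (n - 2) * (JC.filter (fun x => IsConj τ (x * d))).card := by
    intro d hd
    simp only [hD, Finset.mem_filter, Finset.mem_univ, true_and] at hd
    obtain ⟨hdC, hd1⟩ := hd
    set F := (Finset.univ.filter (fun ω : G ⧸ fixedBy α => d • ω = ω)).erase b with hF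
    have hFc : F.card ≤ n - 2 := by
      have hbF : b ∈ Finset.univ.filter (fun ω : G ⧸ fixedBy α => d • ω = ω) := by
        exact Finset.mem_filter.2 ⟨Finset.mem_univ _, smul_base.2 hdC⟩
      rw [hF, Finset.card_erase_of_mem hbF]
      have hlt : (Finset.univ.filter (fun ω : G ⧸ fixedBy α => d • ω = ω)).card < n := by
        rw [hn, ← Finset.card_univ]
        refine Finset.card_lt_card (Finset.filter_ssubset.2 ?_)
        by_contra hall
        push Not at hall
        have hmem : d ∈ (fixedBy α).normalCore := fun g => by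
          have h := smul_mk_eq_iff.1 (hall ((g⁻¹ : G) : G ⧸ fixedBy α) (Finset.mem_univ _))
          rwa [inv_inv] at h
        rcases (Subgroup.normalCore_normal (fixedBy α)).eq_bot_or_eq_top with h | h
        · rw [h, Subgroup.mem_bot] at hmem; exact hd1 hmem
        · refine hα (MulEquiv.ext fun y => ?_)
          exact (show y ∈ fixedBy α from (fixedBy α).normalCore_le (h ▸ Subgroup.mem_top y))
      omega
    have hmemK : ∀ x, IsConj τ x → IsConj τ (x * d) → x ∈ stab d := fun x hx hxd => by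
      right
      have h1 := hsq _ hxd
      have h2 := hsq _ hx
      rw [inv_eq_of_mul_eq_one_right h2]
      calc x * d * x = (x * d * (x * d)) * d⁻¹ := by group
        _ = d⁻¹ := by rw [h1, one_mul]
    have hpoint : ∀ x ∈ Jout.filter (fun x => IsConj τ (x * d)),
        ∃ k ∈ stab d, pt x = (k : G ⧸ fixedBy α) := fun x hx => by
      rw [Finset.mem_filter, memOut] at hx
      obtain ⟨k, hk, hke⟩ := exists_stab_point hS hdC hx.1.1 (hmemK x hx.1.1 hx.2)
      exact ⟨k, hk, unique_fixed hS hx.1.1 (pt_spec x hx.1.1) hke⟩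
    have hmaps : ∀ x ∈ Jout.filter (fun x => IsConj τ (x * d)), pt x ∈ F := fun x hx => by
      obtain ⟨k, hk, hke⟩ := hpoint x hx
      have hxo := ((Finset.mem_filter.1 hx).1)
      refine Finset.mem_erase.2 ⟨(Finset.mem_filter.1 hxo).2, Finset.mem_filter.2 ⟨Finset.mem_univ _, ?_⟩⟩
      rw [hke, smul_mk_eq_iff]
      have h' : k⁻¹ * d * k⁻¹⁻¹ = d ∨ k⁻¹ * d * k⁻¹⁻¹ = d⁻¹ := inv_mem hk
      rw [inv_inv] at h'
      rcases h' with h' | h' <;> rw [h']
      · exact hdC
      · exact inv_mem hdC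
    rw [Finset.card_eq_sum_card_fiberwise hmaps]
    refine le_trans (Finset.sum_le_card_nsmul F _ ((JC.filter (fun x => IsConj τ (x * d))).card) fun ω _ => ?_) ?_
    · by_cases hemp : ((Jout.filter (fun x => IsConj τ (x * d))).filter (fun x => pt x = ω)).Nonempty
      · obtain ⟨x₀, hx₀⟩ := hemp
        rw [Finset.mem_filter] at hx₀
        obtain ⟨k, hk, hke⟩ := hpoint x₀ hx₀.1
        refine Finset.card_le_card_of_injOn (fun x => k⁻¹ * x * k) ?_ ?_
        · intro x hx
          rw [Finset.mem_coe, Finset.mem_filter, Finset.mem_filter, memOut] at hx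
          obtain ⟨⟨⟨hxJ, -⟩, hxd⟩, hxω⟩ := hx
          have hc : IsConj τ (k⁻¹ * x * k) := hxJ.trans (isConj_iff.2 ⟨k⁻¹, by group⟩)
          rw [Finset.mem_coe, Finset.mem_filter, memJC]
          refine ⟨⟨hc, ?_⟩, ?_⟩
          · have h := pt_spec x hxJ
            rw [hxω, ← hx₀.2, hke, smul_mk_eq_iff] at h
            exact h
          · have h2 : IsConj τ (x * d⁻¹) := by
              have h3 := hsq _ hxd
              have h4 := hsq _ hxJ
              refine hxd.trans (isConj_iff.2 ⟨d, ?_⟩)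
              calc d * (x * d) * d⁻¹ = d * x := by group
                _ = x⁻¹ * (x * d * (x * d)) * d⁻¹ := by group
                _ = x * d⁻¹ := by rw [h3, mul_one, inv_eq_of_mul_eq_one_right h4]
            have h' : k * d * k⁻¹ = d ∨ k * d * k⁻¹ = d⁻¹ := hk
            rcases h' with h' | h'
            · refine hxd.trans (isConj_iff.2 ⟨k⁻¹, ?_⟩)
              nth_rewrite 1 [← h']
              group
            · refine h2.trans (isConj_iff.2 ⟨k⁻¹, ?_⟩)
              rw [← h']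
              group
        · intro x _ x' _ h
          exact mul_left_cancel (mul_right_cancel h)
      · rw [Finset.not_nonempty_iff_eq_empty.1 hemp]
        simp
    · rw [smul_eq_mul]
      exact Nat.mul_le_mul_right _ hFc
  have hoff' : (PP.filter (fun q => q.1 ≠ q.2)).card ≤ (n - 2) * JC.offDiag.card :=
    hoff.trans ((Finset.sum_le_sum hbound).trans (by rw [← Finset.mul_sum]; exact Nat.mul_le_mul_left _ hin))
  have hdiag : PP.card ≤ Jout.card + (PP.filter (fun q => q.1 ≠ q.2)).card := by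
    rw [← Finset.card_filter_add_card_filter_not (s := PP) (fun q => q.1 = q.2)]
    refine Nat.add_le_add_right (Finset.card_le_card_of_injOn (fun q => q.1) ?_ ?_) _
    · intro q hq
      rw [Finset.mem_coe, Finset.mem_filter, hPP, Finset.mem_filter, Finset.mem_product] at hq
      exact hq.1.1.1
    · intro q hq q' hq' h
      rw [Finset.mem_coe, Finset.mem_filter] at hq hq'
      exact Prod.ext h (hq.2.symm.trans (h.trans hq'.2))
  rw [Finset.offDiag_card] at hoff'
  rw [hout] at hCS hdiag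
  have h3 : 3 ≤ n := by
    rcases Nat.lt_or_ge n 3 with h | h
    · exfalso
      have ho := odd_points hS
      rw [Nat.card_eq_fintype_card, ← hn] at ho
      have h1 : n = 1 := by
        obtain ⟨i, hi⟩ := ho
        omega
      haveI : Subsingleton (G ⧸ fixedBy α) := Fintype.card_le_one_iff_subsingleton.1 h1.le
      exact hα (MulEquiv.ext fun y => show α y = y from smul_base.1 (Subsingleton.elim _ b))
    · exact h
  obtain ⟨j, hjj⟩ : ∃ j, JC.card = j + 2 := ⟨JC.card - 2, by omega⟩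
  obtain ⟨m, hm⟩ : ∃ m, n = m + 3 := ⟨n - 3, by omega⟩
  rw [hjj, hm] at hCS hdiag hoff'
  have e1 : m + 3 - 1 = m + 2 := by omega
  have e2 : m + 3 - 2 = m + 1 := by omega
  have e3 : (j + 2) * (j + 2) - (j + 2) = (j + 2) * (j + 1) := by
    rw [Nat.sub_eq_iff_eq_add (by nlinarith)]; ring
  rw [e1] at hCS hdiag
  rw [e2, e3] at hoff'
  have hP : (m + 2) * (j + 2) ^ 2 ≤ PP.card := by
    refine Nat.le_of_mul_le_mul_left ?_ (show 0 < m + 2 by omega)
    calc (m + 2) * ((m + 2) * (j + 2) ^ 2) = ((m + 2) * (j + 2)) ^ 2 := by ring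
      _ ≤ _ := hCS
  nlinarith

/-- A nontrivial coprime automorphism of a nonabelian simple group moves some element of `C(τ)`. -/
theorem exists_moved [IsSimpleGroup G] (hG : ¬ IsMulCommutative G) (hα : α ≠ 1)
    (hcop : (orderOf α).Coprime (Nat.card G)) (hτ : orderOf τ = 2) :
    ∃ c ∈ Subgroup.centralizer ({τ} : Set G), α c ≠ c := by
  by_contra hcon
  push Not at hcon
  have hS : Setup α τ := ⟨hcop, hτ, fun c hc => hcon c (Subgroup.mem_centralizer_singleton_iff.2 hc.eq)⟩
  have hiso : Cfsg.IsIsolatedInvolution τ := ⟨hτ, fun g hg =>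
    conj_eq_self hS hα g (hS.fix _ hg.symm)⟩
  obtain ⟨N, hN, hodd, hcomm⟩ := ZStar.exists_odd_normal hiso
  rcases hN.eq_bot_or_eq_top with rfl | rfl
  · have hc : τ ∈ Subgroup.center G := Subgroup.mem_center_iff.2 fun g => by
      have h := Subgroup.mem_bot.1 (hcomm g)
      calc g * τ = (τ * g * τ⁻¹ * g⁻¹) * g * τ := by rw [h, one_mul]
        _ = τ * g := by group
    rcases (inferInstance : (Subgroup.center G).Normal).eq_bot_or_eq_top with h | h
    · rw [h, Subgroup.mem_bot] at hc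
      rw [hc, orderOf_one] at hτ
      exact absurd hτ (by decide)
    · exact hG ⟨⟨fun a b => Subgroup.mem_center_iff.1 (h ▸ Subgroup.mem_top b : b ∈ Subgroup.center G) a⟩⟩
  · rw [Subgroup.card_top] at hodd
    have h2 : 2 ∣ Nat.card G := hτ ▸ orderOf_dvd_natCard τ
    exact Nat.not_even_iff_odd.2 hodd (even_iff_two_dvd.2 h2)

end Cfsg.Agent.Invol.FixCent
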