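import Cfsg.Prelude.Def_Transfer
import Cfsg.Agent.Lib.Grp.CoprimeAbelian
import Cfsg.Agent.Lib.Grp.AmbivalentSolvable
import Cfsg.Agent.Lib.Grp.Frattini
import Cfsg.Agent.Lib.Grp.Basic
import Cfsg.Agent.Lib.Fus.DihedralAut
import Cfsg.Agent.Lib.Block.SharplySolvable

/-!
A 2-group with a noncyclic abelian odd group of automorphisms, each fixing at most one involution.

The fixed subgroups generate the group; the moved ones are quaternion groups of order 8 with a common
centre, each stabilised pointwise by a subgroup of order 3, and they centralise one another.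
-/

set_option autoImplicit false

open scoped commutatorElement

namespace Cfsg.Agent.Invol.FixOne

universe u

variable {W : Type u} [Group W]

/-- The fixed points of an automorphism. -/
def fx (e : MulAut W) : Subgroup W := e.toMonoidHom.eqLocus (MonoidHom.id W)

theorem mem_fx {e : MulAut W} {x : W} : x ∈ fx e ↔ e x = x := Iff.rfl

/-- The common fixed points. -/
def fixAll (E : Subgroup (MulAut W)) : Subgroup W := ⨅ e ∈ E, fx e

theorem mem_fixAll {E : Subgroup (MulAut W)} {x : W} : x ∈ fixAll E ↔ ∀ e ∈ E, e x = x := by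
  simp only [fixAll, Subgroup.mem_iInf, mem_fx]

/-- Invariance under a group of automorphisms. -/
def Inv (E : Subgroup (MulAut W)) (U : Subgroup W) : Prop := ∀ e ∈ E, ∀ u ∈ U, e u ∈ U

theorem inv_inf {E : Subgroup (MulAut W)} {U V : Subgroup W} (hU : Inv E U) (hV : Inv E V) :
    Inv E (U ⊓ V) := fun e he u hu =>
  Subgroup.mem_inf.2 ⟨hU e he u (Subgroup.mem_inf.1 hu).1, hV e he u (Subgroup.mem_inf.1 hu).2⟩

theorem inv_top {E : Subgroup (MulAut W)} : Inv E (⊤ : Subgroup W) := fun _ _ _ _ => Subgroup.mem_top _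

theorem inv_char {E : Subgroup (MulAut W)} (U : Subgroup W) [hU : U.Characteristic] : Inv E U := by
  intro e _ u hu
  have h := Subgroup.characteristic_iff_map_le.1 hU e
  exact h (Subgroup.mem_map_of_mem _ hu)

theorem inv_fx {E : Subgroup (MulAut W)} (hc : ∀ a ∈ E, ∀ b ∈ E, a * b = b * a) {a : MulAut W} (ha : a ∈ E) :
    Inv E (fx a) := by
  intro e he u hu
  rw [mem_fx] at hu ⊢
  rw [← MulAut.mul_apply, hc a ha e he, MulAut.mul_apply, hu]

theorem inv_centralizer {E : Subgroup (MulAut W)} {U : Subgroup W} (hU : Inv E U) :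
    Inv E (Subgroup.centralizer (U : Set W)) := by
  intro e he c hc
  rw [Subgroup.mem_centralizer_iff] at hc ⊢
  intro u hu
  have h := hc (e⁻¹ u) (hU e⁻¹ (E.inv_mem he) u hu)
  have h' := congrArg e h
  rwa [map_mul, map_mul, MulAut.apply_inv_self] at h'

/-- The pointwise stabiliser of a subgroup in `E`. -/
def kerOn (E : Subgroup (MulAut W)) (U : Subgroup W) : Subgroup (MulAut W) where
  carrier := {a | a ∈ E ∧ ∀ u ∈ U, a u = u}
  one_mem' := ⟨E.one_mem, fun _ _ => rfl⟩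
  mul_mem' := fun {a b} ha hb => ⟨E.mul_mem ha.1 hb.1, fun u hu => by
    rw [MulAut.mul_apply, hb.2 u hu, ha.2 u hu]⟩
  inv_mem' := fun {a} ha => ⟨E.inv_mem ha.1, fun u hu => by
    conv_lhs => rw [← ha.2 u hu]
    rw [MulAut.inv_apply_self]⟩

theorem mem_kerOn {E : Subgroup (MulAut W)} {U : Subgroup W} {a : MulAut W} :
    a ∈ kerOn E U ↔ a ∈ E ∧ ∀ u ∈ U, a u = u := Iff.rfl

/-- The restriction to an invariant subgroup. -/
def res (E : Subgroup (MulAut W)) (U : Subgroup W) (hU : Inv E U) : ↥E →* MulAut ↥U where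
  toFun e :=
    { toFun := fun u => ⟨(e : MulAut W) u, hU _ e.2 _ u.2⟩
      invFun := fun u => ⟨(e : MulAut W)⁻¹ u, hU _ (E.inv_mem e.2) _ u.2⟩
      left_inv := fun u => Subtype.ext (MulAut.inv_apply_self _ _ _)
      right_inv := fun u => Subtype.ext (MulAut.apply_inv_self _ _ _)
      map_mul' := fun u v => Subtype.ext (map_mul (e : MulAut W) _ _) }
  map_one' := MulEquiv.ext fun _ => Subtype.ext rfl
  map_mul' _ _ := MulEquiv.ext fun _ => Subtype.ext rfl

theorem res_ker {E : Subgroup (MulAut W)} {U : Subgroup W} (hU : Inv E U) :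
    (res E U hU).ker = (kerOn E U).subgroupOf E := by
  ext e
  rw [MonoidHom.mem_ker, Subgroup.mem_subgroupOf, mem_kerOn]
  constructor
  · intro h
    refine ⟨e.2, fun u hu => ?_⟩
    exact congrArg Subtype.val (DFunLike.congr_fun h (⟨u, hu⟩ : ↥U))
  · exact fun h => MulEquiv.ext fun u => Subtype.ext (h.2 u u.2)

variable [Finite W]

instance : Finite (MulAut W) := Finite.of_injective (fun e : MulAut W => (e : W → W)) DFunLike.coe_injective

/-- The hypotheses. -/
structure Hyp (p : ℕ) (E : Subgroup (MulAut W)) : Prop where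
  pw : IsPGroup 2 W
  odd : p ≠ 2
  pe : IsPGroup p ↥E
  comm : ∀ a ∈ E, ∀ b ∈ E, a * b = b * a
  nc : ¬ IsCyclic ↥E
  one : ∀ e ∈ E, e ≠ 1 → ∀ x y : W, orderOf x = 2 → orderOf y = 2 → e x = x → e y = y → x = y

variable {p : ℕ} [hp : Fact p.Prime] {E : Subgroup (MulAut W)}

theorem cop (h : Hyp p E) (V : Type u) [Group V] [Finite V] (hV : IsPGroup 2 V) :
    (Nat.card ↥E).Coprime (Nat.card V) := by
  haveI : Fact (Nat.Prime 2) := ⟨Nat.prime_two⟩
  obtain ⟨a, ha⟩ := IsPGroup.iff_card.1 h.pe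
  obtain ⟨b, hb⟩ := IsPGroup.iff_card.1 hV
  rw [ha, hb]
  exact Nat.Coprime.pow a b ((Nat.coprime_primes hp.out Nat.prime_two).2 h.odd)

theorem gen_le (h : Hyp p E) {U T : Subgroup W} (hU : Inv E U)
    (hT : ∀ e ∈ E, e ≠ 1 → ∀ u ∈ U, e u = u → u ∈ T) : U ≤ T := by
  let φ : ↥E →* MulAut W := E.subtype
  haveI : Finite (W ⋊[φ] ↥E) := Finite.of_equiv _ SemidirectProduct.equivProd.symm
  let inl : W →* W ⋊[φ] ↥E := SemidirectProduct.inl
  set A := (SemidirectProduct.inr : ↥E →* W ⋊[φ] ↥E).range with hA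
  set K := U.map inl with hK
  have hinj : Function.Injective inl := SemidirectProduct.inl_injective
  have hAK : A ≤ Subgroup.normalizer (K : Set (W ⋊[φ] ↥E)) := by
    refine fun a ha => ?_
    obtain ⟨b, rfl⟩ := ha
    refine Subgroup.mem_normalizer_iff.2 fun y => ⟨?_, fun hy => ?_⟩
    · rintro ⟨k, hk, rfl⟩
      exact ⟨φ b k, hU _ b.2 k hk, (SemidirectProduct.inl_aut (φ := φ) b k).trans (by rw [map_inv])⟩
    · obtain ⟨k, hk, hke⟩ := hy
      refine ⟨φ b⁻¹ k, hU _ (b⁻¹).2 k hk, ?_⟩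
      show inl (φ b⁻¹ k) = y
      rw [show inl (φ b⁻¹ k) = (SemidirectProduct.inr b)⁻¹ * inl k * SemidirectProduct.inr b from
        (SemidirectProduct.inl_aut (φ := φ) b⁻¹ k).trans (by rw [map_inv, inv_inv]), hke]
      group
  haveI : IsMulCommutative A := ⟨⟨by
    rintro ⟨_, a, rfl⟩ ⟨_, b, rfl⟩
    exact Subtype.ext (by
      show SemidirectProduct.inr a * SemidirectProduct.inr b = SemidirectProduct.inr b * SemidirectProduct.inr a
      rw [← map_mul, ← map_mul, show a * b = b * a from Subtype.ext (h.comm _ a.2 _ b.2)])⟩⟩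
  have hcardA : Nat.card A = Nat.card ↥E :=
    Nat.card_congr (MonoidHom.ofInjective SemidirectProduct.inr_injective).toEquiv.symm
  have hcopA : (Nat.card A).Coprime (Nat.card K) := by
    rw [hcardA, hK, Subgroup.card_map_of_injective hinj]
    exact cop h ↥U (h.pw.to_subgroup U)
  have hnc : ¬ IsCyclic A := fun hc => h.nc
    ((MonoidHom.ofInjective (f := (SemidirectProduct.inr : ↥E →* W ⋊[φ] ↥E))
      SemidirectProduct.inr_injective).symm.isCyclic.1 hc)
  have hgen := Grp.generated_by_centralizers A K hnc hAK hcopA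
  have hle : K ≤ T.map inl := by
    refine le_trans hgen.ge ?_
    refine iSup₂_le fun a ha => ?_
    obtain ⟨⟨b, rfl⟩, hb1⟩ := ha
    rintro _ ⟨⟨u, hu, rfl⟩, hc⟩
    refine Subgroup.mem_map_of_mem _ (hT _ b.2 (fun e => hb1 ?_) u hu ?_)
    · rw [show b = 1 from Subtype.ext e, map_one]
    · apply hinj
      show inl (φ b u) = inl u
      refine (SemidirectProduct.inl_aut (φ := φ) b u).trans ?_
      have hc' := Subgroup.mem_centralizer_singleton_iff.1 hc
      rw [map_inv, ← hc', mul_inv_cancel_right]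
  exact (Subgroup.map_le_map_iff_of_injective hinj).1 hle

/-- A coprime automorphism moving `y` by a fixed element fixes `y`. -/
theorem diff_eq_one (h : Hyp p E) {e : MulAut W} (he : e ∈ E) {y d : W} (hd : e d = d) (hy : e y = y * d) :
    d = 1 := by
  have hit : ∀ m : ℕ, (e ^ m) y = y * d ^ m := by
    intro m
    induction m with
    | zero => simp
    | succ m ih => rw [pow_succ', MulAut.mul_apply, ih, map_mul, map_pow, hy, hd, mul_assoc, ← pow_succ']
  have h1 := hit (orderOf e)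
  rw [pow_orderOf_eq_one, MulAut.one_apply] at h1
  have h2 : d ^ orderOf e = 1 := (mul_eq_left (a := y)).1 h1.symm
  have hcop : (orderOf e).Coprime (orderOf d) :=
    Nat.Coprime.coprime_dvd_left (Subgroup.orderOf_dvd_natCard E he)
      ((cop h W h.pw).coprime_dvd_right (orderOf_dvd_natCard d))
  exact orderOf_eq_one_iff.1 (Nat.eq_one_of_dvd_coprimes hcop (orderOf_dvd_of_pow_eq_one h2) dvd_rfl)

theorem fixed_of_aut_two (h : Hyp p E) {U : Subgroup W} (hU : Inv E U) (ha : IsPGroup 2 (MulAut ↥U)) :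
    U ≤ fixAll E := by
  intro u hu
  rw [mem_fixAll]
  intro e he
  have h1 : res E U hU ⟨e, he⟩ = 1 := by
    obtain ⟨k, hk⟩ := ha (res E U hU ⟨e, he⟩)
    obtain ⟨m, hm⟩ := h.pe ⟨e, he⟩
    have h2 : res E U hU ⟨e, he⟩ ^ p ^ m = 1 := by rw [← map_pow, hm, map_one]
    exact orderOf_eq_one_iff.1 (Nat.eq_one_of_dvd_coprimes
      (Nat.Coprime.pow k m ((Nat.coprime_primes Nat.prime_two hp.out).2 h.odd.symm))
      (orderOf_dvd_of_pow_eq_one hk) (orderOf_dvd_of_pow_eq_one h2))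
  exact congrArg Subtype.val (DFunLike.congr_fun h1 ⟨u, hu⟩)

theorem fixed_of_cyclic (h : Hyp p E) {U : Subgroup W} (hU : Inv E U) [IsCyclic ↥U] : U ≤ fixAll E := by
  haveI : Fact (Nat.Prime 2) := ⟨Nat.prime_two⟩
  refine fixed_of_aut_two h hU ?_
  obtain ⟨k, hk⟩ := IsPGroup.iff_card.1 (h.pw.to_subgroup U)
  rcases Nat.eq_zero_or_pos k with rfl | hk0
  · exact IsPGroup.of_card (n := 0) (by rw [IsCyclic.card_mulAut, hk, pow_zero, Nat.totient_one])
  · exact IsPGroup.of_card (n := k - 1) (by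
      rw [IsCyclic.card_mulAut, hk, Nat.totient_prime_pow Nat.prime_two hk0]; simp)

/-- A moved invariant subgroup with one involution has order 8, and `p = 3`. -/
theorem moved_shape (h : Hyp p E) {U : Subgroup W} (hU : Inv E U)
    (hu : ∀ x ∈ U, ∀ y ∈ U, orderOf x = 2 → orderOf y = 2 → x = y) (hmv : ¬ U ≤ fixAll E) :
    Nat.card ↥U = 8 ∧ Nat.card ↥E = 3 * Nat.card ↥(kerOn E U) := by
  haveI : Fact (Nat.Prime 2) := ⟨Nat.prime_two⟩
  have hu' : ∀ x y : ↥U, orderOf x = 2 → orderOf y = 2 → x = y := fun x y hx hy =>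
    Subtype.ext (hu _ x.2 _ y.2 (by rw [Subgroup.orderOf_coe]; exact hx) (by rw [Subgroup.orderOf_coe]; exact hy))
  rcases Grp.Ambivalent.cyclic_or_quaternion (h.pw.to_subgroup U) hu' with hc | ⟨n, ⟨φ⟩⟩
  · exact absurd (fixed_of_cyclic h hU) hmv
  · rcases Nat.eq_zero_or_pos n with rfl | hn
    · have φ' : ↥U ≃* QuaternionGroup 2 := φ
      have h8 : Nat.card ↥U = 8 := by
        rw [Nat.card_congr φ'.toEquiv, Nat.card_eq_fintype_card]; rfl
      have hd : Nat.card ↥(res E U hU).range ∣ 24 := by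
        refine (Subgroup.card_subgroup_dvd_card _).trans ?_
        rw [Nat.card_congr (MulAut.congr φ').toEquiv]
        exact Block.SharpTwo.q8_aut_card_dvd
      obtain ⟨m, hm⟩ := IsPGroup.iff_card.1
        (IsPGroup.of_surjective h.pe (res E U hU).rangeRestrict (MonoidHom.rangeRestrict_surjective _))
      rw [hm] at hd
      have hd3 : p ^ m ∣ 3 := by
        refine (Nat.Coprime.pow_left m ?_).dvd_of_dvd_mul_left (show p ^ m ∣ 8 * 3 from hd)
        exact Nat.Coprime.pow_right 3 ((Nat.coprime_primes hp.out Nat.prime_two).2 h.odd)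
      rcases (Nat.dvd_prime Nat.prime_three).1 hd3 with h1 | h3
      · exfalso
        refine hmv fun u hu => mem_fixAll.2 fun e he => ?_
        have hb : (res E U hU).range = ⊥ := Subgroup.eq_bot_of_card_eq _ (hm.trans h1)
        have he1 : res E U hU ⟨e, he⟩ ∈ (res E U hU).range := ⟨_, rfl⟩
        rw [hb, Subgroup.mem_bot] at he1
        exact congrArg Subtype.val (DFunLike.congr_fun he1 ⟨u, hu⟩)
      · refine ⟨h8, ?_⟩
        have hidx := Subgroup.index_ker (res E U hU)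
        rw [hm, h3, res_ker] at hidx
        have hmul := Subgroup.card_mul_index ((kerOn E U).subgroupOf E)
        rw [hidx, Nat.card_congr (Subgroup.subgroupOfEquivOfLe (H := kerOn E U) (fun a ha => ha.1)).toEquiv,
          mul_comm] at hmul
        exact hmul.symm
    · exfalso
      refine hmv (fixed_of_aut_two h hU ?_)
      exact Fus.isPGroup_mulAut_congr φ (Fus.isPGroup_mulAut_quaternionGroup (by omega))

theorem nontrivial_W (h : Hyp p E) : Nontrivial W := by
  by_contra hn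
  rw [not_nontrivial_iff_subsingleton] at hn
  haveI : Subsingleton (MulAut W) := ⟨fun a b => MulEquiv.ext fun x => Subsingleton.elim _ _⟩
  exact h.nc inferInstance

/-- The common central involution. -/
theorem exists_z (h : Hyp p E) : ∃ z : W, z ∈ Subgroup.center W ∧ orderOf z = 2 ∧ z ∈ fixAll E := by
  haveI : Fact (Nat.Prime 2) := ⟨Nat.prime_two⟩
  haveI := nontrivial_W h
  haveI := h.pw.center_nontrivial
  let Ω : Subgroup W :=
    { carrier := {x | x ∈ Subgroup.center W ∧ x ^ 2 = 1}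
      one_mem' := ⟨Subgroup.one_mem _, one_pow _⟩
      mul_mem' := fun {a b} ha hb => ⟨Subgroup.mul_mem _ ha.1 hb.1, by
        rw [(show Commute a b from (Subgroup.mem_center_iff.1 ha.1 b).symm).mul_pow, ha.2, hb.2, mul_one]⟩
      inv_mem' := fun {a} ha => ⟨Subgroup.inv_mem _ ha.1, by rw [inv_pow, ha.2, inv_one]⟩ }
  have hΩ : Inv E Ω := fun e he u hu =>
    ⟨inv_char (Subgroup.center W) e he u hu.1, by rw [← map_pow, hu.2, map_one]⟩
  obtain ⟨k, hk0, hk⟩ := (h.pw.to_subgroup (Subgroup.center W)).exists_card_eq.elim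
    (fun k hk => (⟨k, Nat.pos_of_ne_zero (by
      rintro rfl
      have := (Finite.one_lt_card_iff_nontrivial (α := Subgroup.center W)).2 inferInstance
      rw [hk, pow_zero] at this
      omega), hk⟩ : ∃ k, 0 < k ∧ Nat.card (Subgroup.center W) = 2 ^ k))
  obtain ⟨x, hx⟩ := exists_prime_orderOf_dvd_card' (G := Subgroup.center W) 2 (hk ▸ dvd_pow_self 2 hk0.ne')
  have hxΩ : (x : W) ∈ Ω := ⟨x.2, by rw [← Subgroup.coe_pow, ← hx, pow_orderOf_eq_one]; rfl⟩
  by_contra hcon
  push Not at hcon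
  have hb : Ω ≤ ⊥ := gen_le h hΩ fun e he he1 u hu hue => by
    rw [Subgroup.mem_bot]
    by_contra hu1
    have ho : orderOf u = 2 := orderOf_eq_prime hu.2 hu1
    refine hcon u hu.1 ho (mem_fixAll.2 fun a ha => (h.one e he he1 _ u ?_ ho ?_ hue))
    · rw [MulEquiv.orderOf_eq]; exact ho
    · rw [← MulAut.mul_apply, h.comm e he a ha, MulAut.mul_apply, hue]
  have h1 : x = 1 := Subtype.ext (Subgroup.mem_bot.1 (hb hxΩ))
  rw [h1, orderOf_one] at hx
  exact absurd hx (by decide)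

/-- The distinguished involution. -/
structure Cent (E : Subgroup (MulAut W)) (z : W) : Prop where
  cen : z ∈ Subgroup.center W
  ord : orderOf z = 2
  fix : z ∈ fixAll E

variable {z : W}

theorem z_mul_z (hz : Cent E z) : z * z = 1 := by rw [← sq, ← hz.ord, pow_orderOf_eq_one]

theorem z_ne_one (hz : Cent E z) : z ≠ 1 := fun h => by
  have := hz.ord
  rw [h, orderOf_one] at this
  exact absurd this (by decide)

theorem mem_fx_z (hz : Cent E z) {e : MulAut W} (he : e ∈ E) : z ∈ fx e := mem_fx.2 (mem_fixAll.1 hz.fix e he)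

theorem eq_z (h : Hyp p E) (hz : Cent E z) {e : MulAut W} (he : e ∈ E) (he1 : e ≠ 1) {x : W} (hx : e x = x)
    (hx2 : x * x = 1) (hx1 : x ≠ 1) : x = z :=
  h.one e he he1 x z (orderOf_eq_prime (p := 2) (by rw [sq, hx2]) hx1) hz.ord hx (mem_fx_z hz he)

omit hp in
theorem mem_zpowers_z (hz : Cent E z) {x : W} : x ∈ Subgroup.zpowers z ↔ x = 1 ∨ x = z := by
  constructor
  · intro hx
    obtain ⟨n, rfl⟩ := Subgroup.mem_zpowers_iff.1 hx
    rcases Int.even_or_odd n with ⟨m, rfl⟩ | ⟨m, rfl⟩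
    · exact Or.inl (by rw [zpow_add, ← (Commute.refl z).mul_zpow, z_mul_z hz, one_zpow])
    · refine Or.inr ?_
      rw [zpow_add_one, show (2 : ℤ) * m = m + m by ring, zpow_add, ← (Commute.refl z).mul_zpow, z_mul_z hz,
        one_zpow, one_mul]
  · rintro (rfl | rfl)
    · exact Subgroup.one_mem _
    · exact Subgroup.mem_zpowers _

omit hp in
theorem inv_zpowers (hz : Cent E z) : Inv E (Subgroup.zpowers z) := by
  intro e he u hu
  rcases (mem_zpowers_z hz).1 hu with rfl | rfl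
  · rw [map_one]; exact Subgroup.one_mem _
  · rw [mem_fixAll.1 hz.fix e he]; exact Subgroup.mem_zpowers _

/-- A moved fixed subgroup. -/
def Piece (E : Subgroup (MulAut W)) (Q : Subgroup W) : Prop := ∃ e ∈ E, e ≠ 1 ∧ fx e = Q ∧ ¬ Q ≤ fixAll E

theorem Piece.inv (h : Hyp p E) {Q : Subgroup W} (hQ : Piece E Q) : Inv E Q := by
  obtain ⟨e, he, -, rfl, -⟩ := hQ
  exact inv_fx h.comm he

theorem Piece.shape (h : Hyp p E) {Q : Subgroup W} (hQ : Piece E Q) :
    Nat.card ↥Q = 8 ∧ Nat.card ↥E = 3 * Nat.card ↥(kerOn E Q) := by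
  obtain ⟨e, he, he1, rfl, hmv⟩ := hQ
  exact moved_shape h (inv_fx h.comm he) (fun x hx y hy ox oy => h.one e he he1 x y ox oy hx hy) hmv

theorem Piece.unique (h : Hyp p E) (hz : Cent E z) {Q : Subgroup W} (hQ : Piece E Q) {x : W} (hx : x ∈ Q)
    (hx2 : x * x = 1) (hx1 : x ≠ 1) : x = z := by
  obtain ⟨e, he, he1, rfl, -⟩ := hQ
  exact eq_z h hz he he1 hx hx2 hx1

theorem Piece.z_mem (hz : Cent E z) {Q : Subgroup W} (hQ : Piece E Q) : z ∈ Q := by
  obtain ⟨e, he, -, rfl, -⟩ := hQ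
  exact mem_fx_z hz he

/-- The common fixed points form `⟨z⟩`. -/
theorem fixAll_le (h : Hyp p E) (hz : Cent E z) : fixAll E ≤ Subgroup.zpowers z := by
  haveI : Fact (Nat.Prime 2) := ⟨Nat.prime_two⟩
  obtain ⟨e, he, he1, hmv⟩ : ∃ e ∈ E, e ≠ 1 ∧ ¬ fx e ≤ fixAll E := by
    by_contra hcon
    push Not at hcon
    have htop : (⊤ : Subgroup W) ≤ fixAll E := gen_le h inv_top fun e he he1 u _ hu => hcon e he he1 hu
    refine h.nc ?_
    haveI : Subsingleton ↥E := ⟨fun a b => Subtype.ext (MulEquiv.ext fun x => by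
      rw [mem_fixAll.1 (htop (Subgroup.mem_top x)) _ a.2, mem_fixAll.1 (htop (Subgroup.mem_top x)) _ b.2])⟩
    infer_instance
  have hQ : Piece E (fx e) := ⟨e, he, he1, rfl, hmv⟩
  intro u hu
  by_contra hu'
  rw [mem_zpowers_z hz, not_or] at hu'
  have hZQ : fixAll E ≤ fx e := fun x hx => mem_fixAll.1 hx e he
  set S := (fixAll E).subgroupOf (fx e) with hS
  have hcS : 3 ≤ Nat.card ↥S := by
    classical
    rw [hS, Nat.card_congr (Subgroup.subgroupOfEquivOfLe hZQ).toEquiv]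
    haveI := Fintype.ofFinite ↥(fixAll E)
    rw [Nat.card_eq_fintype_card]
    refine le_trans (le_of_eq ?_) (Finset.card_le_univ
      ({⟨1, Subgroup.one_mem _⟩, ⟨z, hz.fix⟩, ⟨u, hu⟩} : Finset ↥(fixAll E)))
    rw [Finset.card_insert_of_notMem (by simp [eq_comm, z_ne_one hz, hu'.1]),
      Finset.card_insert_of_notMem (by simp [Ne.symm hu'.2]), Finset.card_singleton]
  have h8 := (hQ.shape h).1
  have hmul := S.card_mul_index
  rw [h8] at hmul
  have hi : S.index ≠ 1 := fun hi => hmv (Subgroup.subgroupOf_eq_top.1 (Subgroup.index_eq_one.1 hi))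
  have hi2 : S.index = 2 := by
    have hd : S.index ∣ 8 := ⟨Nat.card ↥S, by rw [← hmul, mul_comm]⟩
    have hle : S.index ≤ 2 := by nlinarith
    have : S.index ≠ 0 := Subgroup.index_ne_zero_of_finite
    omega
  refine hmv fun y hy => mem_fixAll.2 fun a ha => ?_
  by_cases hyS : (⟨y, hy⟩ : ↥(fx e)) ∈ S
  · exact mem_fixAll.1 hyS a ha
  · have hay : a y ∈ fx e := inv_fx h.comm he a ha y hy
    have hne : (⟨a y, hay⟩ : ↥(fx e)) ∉ S := fun hm => hyS <| Subgroup.mem_subgroupOf.2 <| by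
      have h1 := mem_fixAll.1 (Subgroup.mem_subgroupOf.1 hm) a⁻¹ (E.inv_mem ha)
      simp only [MulAut.inv_apply_self] at h1
      show y ∈ fixAll E
      rw [h1]
      exact Subgroup.mem_subgroupOf.1 hm
    have hd : (⟨y, hy⟩ : ↥(fx e))⁻¹ * ⟨a y, hay⟩ ∈ S := by
      rw [Subgroup.mul_mem_iff_of_index_two hi2, inv_mem_iff]
      exact iff_of_false hyS hne
    have hd' : a (y⁻¹ * a y) = y⁻¹ * a y := mem_fixAll.1 hd a ha
    have h1 := diff_eq_one h ha hd' (y := y) (by rw [mul_inv_cancel_left])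
    exact (inv_mul_eq_one.1 h1).symm

theorem fixAll_eq (h : Hyp p E) (hz : Cent E z) : fixAll E = Subgroup.zpowers z :=
  le_antisymm (fixAll_le h hz) (Subgroup.zpowers_le.2 hz.fix)

theorem Piece.not_le (h : Hyp p E) (hz : Cent E z) {Q : Subgroup W} (hQ : Piece E Q) :
    ¬ Q ≤ Subgroup.zpowers z := by
  obtain ⟨e, -, -, -, hmv⟩ := hQ
  rw [← fixAll_eq h hz]
  exact hmv

/-- Generation by the pieces inside an invariant subgroup. -/
theorem gen_pieces (h : Hyp p E) (hz : Cent E z) {U T : Subgroup W} (hU : Inv E U) (hzT : z ∈ T)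
    (hT : ∀ Q, Piece E Q → U ⊓ Q ≤ T) : U ≤ T := by
  refine gen_le h hU fun e he he1 u hu hue => ?_
  by_cases hmv : fx e ≤ fixAll E
  · exact (Subgroup.zpowers_le.2 hzT) (fixAll_le h hz (hmv hue))
  · exact hT _ ⟨e, he, he1, rfl, hmv⟩ (Subgroup.mem_inf.2 ⟨hu, hue⟩)

/-- An invariant subgroup meets a piece in `⟨z⟩` or contains it. -/
theorem Piece.inf_cases (h : Hyp p E) (hz : Cent E z) {Q U : Subgroup W} (hQ : Piece E Q) (hU : Inv E U) :
    Q ≤ U ∨ U ⊓ Q ≤ Subgroup.zpowers z := by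
  haveI : Fact (Nat.Prime 2) := ⟨Nat.prime_two⟩
  by_cases hmv : U ⊓ Q ≤ fixAll E
  · exact Or.inr (hmv.trans (fixAll_le h hz))
  · left
    obtain ⟨e, he, he1, he2, -⟩ := id hQ
    have hsh := moved_shape h (inv_inf hU (hQ.inv h)) (fun x hx y hy ox oy => h.one e he he1 x y ox oy
      (by rw [← he2] at hx; exact (Subgroup.mem_inf.1 hx).2) (by rw [← he2] at hy; exact (Subgroup.mem_inf.1 hy).2)) hmv
    have := Subgroup.eq_of_le_of_card_ge (inf_le_right : U ⊓ Q ≤ Q) (by rw [hsh.1, (hQ.shape h).1])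
    exact inf_eq_right.1 this

theorem Piece.inf_eq (h : Hyp p E) (hz : Cent E z) {Q R : Subgroup W} (hQ : Piece E Q) (hR : Piece E R)
    (hne : Q ≠ R) : R ⊓ Q ≤ Subgroup.zpowers z := by
  rcases hQ.inf_cases h hz (hR.inv h) with hle | hle
  · exact absurd (Subgroup.eq_of_le_of_card_ge hle (by rw [(hR.shape h).1, (hQ.shape h).1])) hne
  · exact hle

theorem Piece.sq_eq (h : Hyp p E) (hz : Cent E z) {Q : Subgroup W} (hQ : Piece E Q) {x : W} (hx : x ∈ Q)
    (hx' : x ∉ Subgroup.zpowers z) : x * x = z := by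
  have h8 := (hQ.shape h).1
  have hx1 : x ≠ 1 := fun e => hx' (e ▸ Subgroup.one_mem _)
  have hdvd : orderOf x ∣ 2 ^ 3 := by
    have := Subgroup.orderOf_dvd_natCard Q hx
    rwa [h8] at this
  obtain ⟨k, hk, hkeq⟩ := (Nat.dvd_prime_pow Nat.prime_two).1 hdvd
  have hk2 : k = 2 := by
    interval_cases k
    · exact absurd (orderOf_eq_one_iff.1 (by simpa using hkeq)) hx1
    · exfalso
      refine hx' ((mem_zpowers_z hz).2 (Or.inr (hQ.unique h hz hx ?_ hx1)))
      rw [← sq, ← pow_one 2, ← hkeq, pow_orderOf_eq_one]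
    · rfl
    · exfalso
      haveI : IsCyclic ↥Q := isCyclic_of_orderOf_eq_card ⟨x, hx⟩ (by rw [Subgroup.orderOf_mk, hkeq, h8]; norm_num)
      exact hQ.not_le h hz ((fixed_of_cyclic h (hQ.inv h)).trans (fixAll_le h hz))
  rw [hk2] at hkeq
  refine hQ.unique h hz (Q.mul_mem hx hx) ?_ ?_
  · rw [← sq, ← sq, ← pow_mul, show 2 * 2 = orderOf x by rw [hkeq]; norm_num, pow_orderOf_eq_one]
  · intro e
    have := orderOf_dvd_of_pow_eq_one (show x ^ 2 = 1 by rw [sq, e])
    rw [hkeq] at this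
    norm_num at this

theorem Piece.conj (h : Hyp p E) (hz : Cent E z) {Q : Subgroup W} (hQ : Piece E Q) {x y : W} (hx : x ∈ Q)
    (hy : y ∈ Q) (hx' : x ∉ Subgroup.zpowers z) (hy' : y ∉ Subgroup.zpowers z)
    (hxy : x * y ∉ Subgroup.zpowers z) : y * x * y⁻¹ = x * z := by
  have hzc : ∀ g : W, g * z = z * g := Subgroup.mem_center_iff.1 hz.cen
  have a := hQ.sq_eq h hz hx hx'
  have b := hQ.sq_eq h hz hy hy'
  have c := hQ.sq_eq h hz (Q.mul_mem hx hy) hxy
  have e1 : y * x * y = x⁻¹ * z := by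
    rw [eq_inv_mul_iff_mul_eq, ← c]; group
  have e2 : x⁻¹ = x * z := by
    refine inv_eq_of_mul_eq_one_right ?_
    rw [← mul_assoc, a, z_mul_z hz]
  calc y * x * y⁻¹ = (y * x * y) * (y * y)⁻¹ := by group
    _ = x⁻¹ := by rw [e1, b, mul_inv_cancel_right]
    _ = x * z := e2

theorem Piece.gens (h : Hyp p E) (hz : Cent E z) {Q : Subgroup W} (hQ : Piece E Q) :
    ∃ i j : W, i ∈ Q ∧ j ∈ Q ∧ i * j * i⁻¹ = j * z ∧ j * i * j⁻¹ = i * z ∧
      ∀ S : Subgroup W, z ∈ S → i ∈ S → j ∈ S → Q ≤ S := by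
  classical
  have hzc : ∀ g : W, g * z = z * g := Subgroup.mem_center_iff.1 hz.cen
  have h8 := (hQ.shape h).1
  obtain ⟨i, hi, hi'⟩ := Set.not_subset.1 (show ¬ (Q : Set W) ⊆ (Subgroup.zpowers z : Set W) from hQ.not_le h hz)
  rw [SetLike.mem_coe] at hi hi'
  haveI := Fintype.ofFinite ↥Q
  obtain ⟨j, -, hj'⟩ := Finset.exists_mem_notMem_of_card_lt_card
    (s := ({1, ⟨z, hQ.z_mem hz⟩, ⟨i, hi⟩, ⟨i * z, Q.mul_mem hi (hQ.z_mem hz)⟩} : Finset ↥Q))
    (t := Finset.univ) (lt_of_le_of_lt Finset.card_le_four (by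
      rw [Finset.card_univ, ← Nat.card_eq_fintype_card, h8]; norm_num))
  obtain ⟨j, hj⟩ := j
  simp only [Finset.mem_insert, Finset.mem_singleton, not_or, Subtype.ext_iff, Subgroup.coe_one] at hj'
  obtain ⟨hj1, hjz, hji, hjiz⟩ := hj'
  have hjZ : j ∉ Subgroup.zpowers z := by rw [mem_zpowers_z hz]; simp [hj1, hjz]
  have hsq := hQ.sq_eq h hz hi hi'
  have hij : i * j ∉ Subgroup.zpowers z := by
    rw [mem_zpowers_z hz]
    rintro (e | e)
    · refine hjiz (mul_left_cancel (a := i) ?_)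
      rw [e, ← mul_assoc, hsq, z_mul_z hz]
    · exact hji (mul_left_cancel (a := i) (by rw [e, hsq]))
  have hjisq : j * i ∉ Subgroup.zpowers z := fun hm => hij <| by
    rw [mem_zpowers_z hz] at hm ⊢
    have hcc : i * j = i * (j * i) * i⁻¹ := by group
    rcases hm with e | e
    · left; rw [hcc, e]; group
    · right; rw [hcc, e, hzc i, mul_inv_cancel_right]
  refine ⟨i, j, hi, hj, hQ.conj h hz hj hi hjZ hi' hjisq, hQ.conj h hz hi hj hi' hjZ hij, fun S hzS hiS hjS => ?_⟩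
  have h5 : 5 ≤ Nat.card ↥(S ⊓ Q) := by
    haveI := Fintype.ofFinite ↥(S ⊓ Q)
    rw [Nat.card_eq_fintype_card]
    have hm : ∀ x : W, x ∈ S → x ∈ Q → x ∈ S ⊓ Q := fun x a b => Subgroup.mem_inf.2 ⟨a, b⟩
    refine le_trans (le_of_eq ?_) (Finset.card_le_univ ({1, ⟨z, hm z hzS (hQ.z_mem hz)⟩, ⟨i, hm i hiS hi⟩,
      ⟨j, hm j hjS hj⟩, ⟨i * j, hm _ (S.mul_mem hiS hjS) (Q.mul_mem hi hj)⟩} : Finset ↥(S ⊓ Q)))
    rw [mem_zpowers_z hz, not_or] at hi' hij
    have n1 : i ≠ i * j := fun e => hj1 (mul_left_cancel (a := i) (by rw [mul_one, ← e]))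
    have n2 : j ≠ i * j := fun e => hi'.1 (mul_right_cancel (b := j) (by rw [one_mul, ← e]))
    rw [Finset.card_insert_of_notMem, Finset.card_insert_of_notMem, Finset.card_insert_of_notMem,
      Finset.card_insert_of_notMem, Finset.card_singleton] <;>
      simp [Subtype.ext_iff, eq_comm, z_ne_one hz, hi'.1, hi'.2, hj1, hjz, hij.1, hij.2, hji, Ne.symm hji, Ne.symm hi'.2, Ne.symm hjz, Ne.symm hij.2, n1, n2]
  have hd : Nat.card ↥(S ⊓ Q) ∣ 2 ^ 3 := by
    have := Subgroup.card_dvd_of_le (inf_le_right : S ⊓ Q ≤ Q)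
    rwa [h8] at this
  obtain ⟨k, hk, hke⟩ := (Nat.dvd_prime_pow Nat.prime_two).1 hd
  rw [hke] at h5
  have hk3 : k = 3 := by
    interval_cases k <;> omega
  exact inf_eq_right.1 (Subgroup.eq_of_le_of_card_ge inf_le_right (by rw [hke, hk3, h8]; norm_num))

theorem Piece.not_le_centralizer (h : Hyp p E) (hz : Cent E z) {Q : Subgroup W} (hQ : Piece E Q) :
    ¬ Q ≤ Subgroup.centralizer (Q : Set W) := by
  obtain ⟨i, j, hi, hj, hij, -, -⟩ := hQ.gens h hz
  intro hle
  have h1 := Subgroup.mem_centralizer_iff.1 (hle hi) j hj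
  rw [← h1, mul_inv_cancel_right] at hij
  exact z_ne_one hz (left_eq_mul.1 hij)

/-- An element inducing a `⟨z⟩`-valued commutator map on a piece acts as an element of it. -/
theorem Piece.split (h : Hyp p E) (hz : Cent E z) {Q : Subgroup W} (hQ : Piece E Q) {w : W}
    (hw : ∀ q ∈ Q, w * q * w⁻¹ * q⁻¹ ∈ Subgroup.zpowers z) :
    ∃ r ∈ Q, r⁻¹ * w ∈ Subgroup.centralizer (Q : Set W) := by
  have hzc : ∀ g : W, g * z = z * g := Subgroup.mem_center_iff.1 hz.cen
  obtain ⟨i, j, hi, hj, hij, hji, hgen⟩ := hQ.gens h hz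
  have key : ∀ r : W, r * i * r⁻¹ = w * i * w⁻¹ → r * j * r⁻¹ = w * j * w⁻¹ →
      r⁻¹ * w ∈ Subgroup.centralizer (Q : Set W) := by
    intro r h1 h2
    have hx : ∀ x : W, r * x * r⁻¹ = w * x * w⁻¹ → x ∈ Subgroup.centralizer ({r⁻¹ * w} : Set W) := fun x hxe => by
      rw [Subgroup.mem_centralizer_singleton_iff]
      calc x * (r⁻¹ * w) = r⁻¹ * (r * x * r⁻¹) * w := by group
        _ = r⁻¹ * w * x := by rw [hxe]; group
    have hle := hgen (Subgroup.centralizer {r⁻¹ * w})
      (Subgroup.mem_centralizer_singleton_iff.2 (hzc (r⁻¹ * w)).symm) (hx i h1) (hx j h2)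
    exact Subgroup.mem_centralizer_iff.2 fun q hq => Subgroup.mem_centralizer_singleton_iff.1 (hle hq)
  have hval : ∀ q ∈ Q, w * q * w⁻¹ = q ∨ w * q * w⁻¹ = q * z := fun q hq => by
    rcases (mem_zpowers_z hz).1 (hw q hq) with e | e
    · exact Or.inl (mul_inv_eq_one.1 e)
    · exact Or.inr (by rw [hzc q, ← mul_inv_eq_iff_eq_mul, e])
  rcases hval i hi with e1 | e1 <;> rcases hval j hj with e2 | e2
  · exact ⟨1, Q.one_mem, key 1 (by rw [e1]; group) (by rw [e2]; group)⟩
  · exact ⟨i, hi, key i (by rw [e1]; group) (by rw [e2, hij])⟩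
  · exact ⟨j, hj, key j (by rw [e1, hji]) (by rw [e2]; group)⟩
  · refine ⟨i * j, Q.mul_mem hi hj, key _ ?_ ?_⟩
    · rw [e1, show i * j * i * (i * j)⁻¹ = i * (j * i * j⁻¹) * i⁻¹ by group, hji,
        show i * (i * z) * i⁻¹ = i * (i * z * i⁻¹) by group, hzc i, mul_inv_cancel_right, hzc i]
    · rw [e2, show i * j * j * (i * j)⁻¹ = i * j * i⁻¹ by group, hij]

omit hp in
theorem kerOn_fx {Q₀ : Subgroup W} (he : Piece E Q₀) : ∃ e ∈ kerOn E Q₀, e ≠ 1 := by
  obtain ⟨e, he', he1, rfl, -⟩ := he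
  exact ⟨e, ⟨he', fun u hu => hu⟩, he1⟩

theorem kerOn_eq (h : Hyp p E) {Q : Subgroup W} (hQ : Piece E Q) {a : MulAut W} (ha : a ∈ kerOn E Q) (ha1 : a ≠ 1) :
    fx a = Q := by
  have hle : Q ≤ fx a := fun u hu => ha.2 u hu
  obtain ⟨e, -, -, -, hmv⟩ := id hQ
  refine (Subgroup.eq_of_le_of_card_ge hle ?_).symm
  rw [(hQ.shape h).1, (Piece.shape h (Q := fx a) ⟨a, ha.1, ha1, rfl, fun hl => hmv (hle.trans hl)⟩).1]

theorem exists_piece (h : Hyp p E) (hz : Cent E z) {U : Subgroup W} (hU : Inv E U)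
    (hne : ¬ U ≤ Subgroup.zpowers z) : ∃ Q, Piece E Q ∧ Q ≤ U := by
  by_contra hcon
  push Not at hcon
  refine hne (gen_pieces h hz hU (Subgroup.mem_zpowers z) fun Q hQ => ?_)
  exact (hQ.inf_cases h hz hU).resolve_left (hcon Q hQ)

theorem card_zpowers_z (hz : Cent E z) : Nat.card ↥(Subgroup.zpowers z) = 2 := by rw [Nat.card_zpowers, hz.ord]

theorem two_pieces (h : Hyp p E) (hz : Cent E z) (Q : Subgroup W) : ∃ R, Piece E R ∧ R ≠ Q := by
  by_contra hcon
  push Not at hcon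
  obtain ⟨R, hR, -⟩ := exists_piece h hz inv_top (fun hle => by
    have := Subgroup.card_le_card_group (Subgroup.zpowers z)
    obtain ⟨R, hR, -⟩ : ∃ R, Piece E R ∧ True := by
      by_contra hno
      push Not at hno
      refine h.nc ?_
      haveI : Subsingleton ↥E := ⟨fun a b => Subtype.ext (MulEquiv.ext fun x => by
        have hx : x ∈ fixAll E := (fixAll_eq h hz).ge (hle (Subgroup.mem_top x))
        rw [mem_fixAll.1 hx _ a.2, mem_fixAll.1 hx _ b.2])⟩
      infer_instance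
    exact hR.not_le h hz (le_top.trans hle))
  have hRQ := hcon R hR
  subst hRQ
  have htop : (⊤ : Subgroup W) ≤ R := gen_pieces h hz inv_top (hR.z_mem hz) fun S hS => by
    rw [hcon S hS]; exact inf_le_right
  obtain ⟨e, he, he1⟩ := kerOn_fx hR
  exact he1 (MulEquiv.ext fun x => he.2 x (htop (Subgroup.mem_top x)))

omit hp in
theorem kerOn_inf {Q R : Subgroup W} (h : Hyp p E) [Fact p.Prime] (hQ : Piece E Q) (hR : Piece E R) (hne : Q ≠ R)
    {a : MulAut W} (haQ : a ∈ kerOn E Q) (haR : a ∈ kerOn E R) : a = 1 := by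
  by_contra ha
  exact hne ((kerOn_eq h hQ haQ ha).symm.trans (kerOn_eq h hR haR ha))

theorem card_facts (h : Hyp p E) (hz : Cent E z) {Q : Subgroup W} (hQ : Piece E Q) :
    Nat.card ↥E = 9 ∧ Nat.card ↥(kerOn E Q) = 3 := by
  obtain ⟨R, hR, hne⟩ := two_pieces h hz Q
  have hle : Nat.card (↥(kerOn E Q) × ↥(kerOn E R)) ≤ Nat.card ↥E := by
    refine Nat.card_le_card_of_injective (fun x => (⟨x.1.1 * x.2.1, E.mul_mem x.1.2.1 x.2.2.1⟩ : ↥E)) ?_
    rintro ⟨a, b⟩ ⟨a', b'⟩ heq
    have heq' : (a : MulAut W) * b = a' * b' := congrArg Subtype.val heq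
    have h1 : (a' : MulAut W)⁻¹ * a = b' * (b : MulAut W)⁻¹ := by
      rw [eq_mul_inv_iff_mul_eq, mul_assoc, heq', inv_mul_cancel_left]
    have h2 := kerOn_inf h hQ hR hne.symm ((kerOn E Q).mul_mem ((kerOn E Q).inv_mem a'.2) a.2)
      (h1 ▸ (kerOn E R).mul_mem b'.2 ((kerOn E R).inv_mem b.2))
    have e1 : a = a' := Subtype.ext (inv_mul_eq_one.1 h2).symm
    subst e1
    exact Prod.ext rfl (Subtype.ext (mul_left_cancel heq'))
  rw [Nat.card_prod] at hle
  have eQ := (hQ.shape h).2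
  have eR := (hR.shape h).2
  have hpos : 0 < Nat.card ↥(kerOn E Q) := Nat.card_pos
  have hle3 : Nat.card ↥(kerOn E Q) ≤ 3 := by nlinarith
  obtain ⟨n, hn⟩ := IsPGroup.iff_card.1 h.pe
  have hk1 : Nat.card ↥(kerOn E Q) ≠ 1 := fun e => by
    rw [e, mul_one] at eQ
    exact h.nc (isCyclic_of_prime_card (p := 3) eQ)
  have hk2 : Nat.card ↥(kerOn E Q) ≠ 2 := fun e => by
    rw [e] at eQ
    have h2 : 2 ∣ p ^ n := by rw [← hn, eQ]; norm_num
    exact h.odd ((Nat.prime_dvd_prime_iff_eq Nat.prime_two hp.out).1 (Nat.prime_two.dvd_of_dvd_pow h2)).symm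
  omega

/-- Distinct pieces centralise one another. -/
theorem pieces_commute (h : Hyp p E) (hz : Cent E z) : ∀ (n : ℕ) (V : Subgroup W), Nat.card ↥V ≤ n → Inv E V →
    z ∈ V → ∀ Q R, Piece E Q → Piece E R → Q ≠ R → Q ≤ V → R ≤ V → R ≤ Subgroup.centralizer (Q : Set W) := by
  haveI : Fact (Nat.Prime 2) := ⟨Nat.prime_two⟩
  intro n
  induction n with
  | zero => exact fun V hV => absurd hV (not_le.2 Nat.card_pos)
  | succ n ih =>
    intro V hV hVi hzV Q₁ R₁ hQ₁ hR₁ hne hQV hRV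
    have hzc : ∀ g : W, g * z = z * g := Subgroup.mem_center_iff.1 hz.cen
    set Z := Subgroup.zpowers z with hZ
    have hZc : ∀ c ∈ Z, ∀ g : W, g * c = c * g := fun c hc =>
      Subgroup.mem_center_iff.1 ((Subgroup.zpowers_le.2 hz.cen) hc)
    let U : Subgroup W :=
      { carrier := {x | x ∈ V ∧ (∀ w ∈ V, x * w * x⁻¹ * w⁻¹ ∈ Z) ∧ x * x ∈ Z}
        one_mem' := ⟨V.one_mem, fun w _ => by simp, by simp⟩
        mul_mem' := by
          rintro a b ⟨haV, ha, ha2⟩ ⟨hbV, hb, hb2⟩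
          refine ⟨V.mul_mem haV hbV, fun w hw => ?_, ?_⟩
          · have := hZc _ (hb w hw) a
            have e : a * b * w * (a * b)⁻¹ * w⁻¹ = a * (b * w * b⁻¹ * w⁻¹) * a⁻¹ * (a * w * a⁻¹ * w⁻¹) := by group
            rw [e, this, mul_inv_cancel_right]
            exact Z.mul_mem (hb w hw) (ha w hw)
          · have e : a * b * (a * b) = a * (b * a * b⁻¹ * a⁻¹) * a * (b * b) := by group
            rw [e, hZc _ (hb a haV) a, mul_assoc (b * a * b⁻¹ * a⁻¹) a a]
            exact Z.mul_mem (Z.mul_mem (hb a haV) ha2) hb2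
        inv_mem' := by
          rintro a ⟨haV, ha, ha2⟩
          refine ⟨V.inv_mem haV, fun w hw => ?_, ?_⟩
          · have e : a⁻¹ * w * a⁻¹⁻¹ * w⁻¹ = a⁻¹ * (a * w * a⁻¹ * w⁻¹)⁻¹ * a := by group
            rw [e, hZc _ (Z.inv_mem (ha w hw)) a⁻¹, inv_mul_cancel_right]
            exact Z.inv_mem (ha w hw)
          · rw [← mul_inv_rev]; exact Z.inv_mem ha2 }
    have hUi : Inv E U := by
      rintro e he x ⟨hxV, hx, hx2⟩
      refine ⟨hVi e he x hxV, fun w hw => ?_, ?_⟩
      · have := inv_zpowers hz e he _ (hx (e⁻¹ w) (hVi _ (E.inv_mem he) w hw))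
        rwa [map_mul, map_mul, map_mul, map_inv, map_inv, MulAut.apply_inv_self] at this
      · have := inv_zpowers hz e he _ hx2
        rwa [map_mul] at this
    have hUne : ¬ U ≤ Z := by
      intro hle
      haveI : Z.Normal := ⟨fun c hc g => by rwa [hZc c hc g, mul_inv_cancel_right]⟩
      haveI : (Z.subgroupOf V).Normal := Subgroup.normal_subgroupOf
      have hnt : Nontrivial (↥V ⧸ Z.subgroupOf V) := by
        rw [← Finite.one_lt_card_iff_nontrivial]
        refine lt_of_le_of_ne Nat.card_pos (fun e => hQ₁.not_le h hz (hQV.trans ?_))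
        exact Subgroup.subgroupOf_eq_top.1 (Subgroup.index_eq_one.1 e.symm)
      have hpq : IsPGroup 2 (↥V ⧸ Z.subgroupOf V) := (h.pw.to_subgroup V).to_quotient _
      haveI := hpq.center_nontrivial
      obtain ⟨k, hk⟩ := IsPGroup.iff_card.1 (hpq.to_subgroup (Subgroup.center (↥V ⧸ Z.subgroupOf V)))
      have hk0 : k ≠ 0 := by
        rintro rfl
        have := (Finite.one_lt_card_iff_nontrivial (α := Subgroup.center (↥V ⧸ Z.subgroupOf V))).2 inferInstance
        rw [hk, pow_zero] at this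
        omega
      obtain ⟨c, hc⟩ := exists_prime_orderOf_dvd_card' (G := Subgroup.center (↥V ⧸ Z.subgroupOf V)) 2
        (hk ▸ dvd_pow_self 2 hk0)
      obtain ⟨x, hx⟩ := QuotientGroup.mk_surjective (c : ↥V ⧸ Z.subgroupOf V)
      have hmk : ∀ v : ↥V, (v : ↥V ⧸ Z.subgroupOf V) = 1 ↔ (v : W) ∈ Z := fun v => by
        rw [QuotientGroup.eq_one_iff, Subgroup.mem_subgroupOf]
      have hxU : (x : W) ∈ U := by
        refine ⟨x.2, fun w hw => (hmk (x * ⟨w, hw⟩ * x⁻¹ * ⟨w, hw⟩⁻¹)).1 ?_, (hmk (x * x)).1 ?_⟩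
        · rw [QuotientGroup.mk_mul, QuotientGroup.mk_mul, QuotientGroup.mk_mul, QuotientGroup.mk_inv,
            QuotientGroup.mk_inv, hx, ← Subgroup.mem_center_iff.1 c.2, mul_inv_cancel_right, mul_inv_cancel]
        · rw [QuotientGroup.mk_mul, hx, ← Subgroup.coe_mul, ← sq, ← hc, pow_orderOf_eq_one, Subgroup.coe_one]
      have h1 : c = 1 := Subtype.ext (by rw [← hx]; exact (hmk x).2 (hle hxU))
      rw [h1, orderOf_one] at hc
      exact absurd hc (by decide)
    obtain ⟨Q, hQ, hQU⟩ := exists_piece h hz hUi hUne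
    have hQsplit : ∀ w ∈ V, ∃ r ∈ Q, r⁻¹ * w ∈ Subgroup.centralizer (Q : Set W) := fun w hw =>
      hQ.split h hz fun q hq => by
        have := Z.inv_mem ((hQU hq).2.1 w hw)
        have e : (q * w * q⁻¹ * w⁻¹)⁻¹ = w * q * w⁻¹ * q⁻¹ := by group
        rwa [e] at this
    set C := V ⊓ Subgroup.centralizer (Q : Set W) with hC
    have hQV' : Q ≤ V := fun q hq => (hQU hq).1
    have hsub : ∀ R, Piece E R → R ≤ V → R ≠ Q → R ≤ C := by
      intro R hR hRV hRQ q hq
      refine Subgroup.mem_inf.2 ⟨hRV hq, ?_⟩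
      obtain ⟨r, hr, hrc⟩ := hQsplit q (hRV hq)
      obtain ⟨a, ha, ha1⟩ := kerOn_fx hR
      have haE : a ∈ E := ha.1
      have hac : (a r)⁻¹ * q ∈ Subgroup.centralizer (Q : Set W) := by
        have := inv_centralizer (hQ.inv h) a haE _ hrc
        rwa [map_mul, map_inv, ha.2 q hq] at this
      have hd : r⁻¹ * a r ∈ Subgroup.centralizer (Q : Set W) := by
        have := Subgroup.mul_mem _ hrc (Subgroup.inv_mem _ hac)
        have e : r⁻¹ * q * ((a r)⁻¹ * q)⁻¹ = r⁻¹ * a r := by group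
        rwa [e] at this
      have hdZ : r⁻¹ * a r ∈ Z := by
        rcases hQ.inf_cases h hz (inv_centralizer (hQ.inv h)) with hle | hle
        · exact absurd hle (hQ.not_le_centralizer h hz)
        · exact hle (Subgroup.mem_inf.2 ⟨hd, Q.mul_mem (Q.inv_mem hr) (hQ.inv h a haE r hr)⟩)
      have hdfix : a (r⁻¹ * a r) = r⁻¹ * a r := by
        rcases (mem_zpowers_z hz).1 hdZ with e | e <;> rw [e]
        · exact map_one a
        · exact mem_fixAll.1 hz.fix a haE
      have har : a r = r := (inv_mul_eq_one.1 (diff_eq_one h haE hdfix (y := r) (by rw [mul_inv_cancel_left]))).symm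
      have hrR : r ∈ R := by rw [← kerOn_eq h hR ha ha1]; exact har
      have hrZ : r ∈ Z := hQ.inf_eq h hz hR hRQ.symm (Subgroup.mem_inf.2 ⟨hrR, hr⟩)
      have hrC : r ∈ Subgroup.centralizer (Q : Set W) :=
        Subgroup.mem_centralizer_iff.2 fun x _ => hZc r hrZ x
      simpa using Subgroup.mul_mem _ hrC hrc
    have hsymm : ∀ R, Piece E R → R ≤ V → R ≠ Q → Q ≤ Subgroup.centralizer (R : Set W) := fun R hR hRV hRQ =>
      Subgroup.le_centralizer_iff.1 ((hsub R hR hRV hRQ).trans inf_le_right)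
    by_cases h1 : Q₁ = Q
    · subst h1; exact (hsub R₁ hR₁ hRV hne.symm).trans inf_le_right
    by_cases h2 : R₁ = Q
    · subst h2; exact hsymm Q₁ hQ₁ hQV hne
    have hlt : C < V := lt_of_le_of_ne inf_le_left fun e =>
      hQ.not_le_centralizer h hz ((hQV'.trans e.ge).trans inf_le_right)
    have hcard : Nat.card ↥C < Nat.card ↥V := by
      by_contra hge
      exact hlt.ne (Subgroup.eq_of_le_of_card_ge hlt.le (not_lt.1 hge))
    exact ih C (by omega) (inv_inf hVi (inv_centralizer (hQ.inv h)))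
      (Subgroup.mem_inf.2 ⟨hzV, Subgroup.mem_centralizer_iff.2 fun x _ => hzc x⟩) Q₁ R₁ hQ₁ hR₁ hne
      (hsub Q₁ hQ₁ hQV h1) (hsub R₁ hR₁ hRV h2)

theorem commute_pieces (h : Hyp p E) (hz : Cent E z) {Q R : Subgroup W} (hQ : Piece E Q) (hR : Piece E R)
    (hne : Q ≠ R) : R ≤ Subgroup.centralizer (Q : Set W) :=
  pieces_commute h hz _ ⊤ le_rfl inv_top (Subgroup.mem_top z) Q R hQ hR hne le_top le_top

/-- The subgroup generated by `z` and a set of pieces. -/
def join (z : W) (S : Set (Subgroup W)) : Subgroup W := Subgroup.zpowers z ⊔ sSup S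

theorem join_le_centralizer (h : Hyp p E) (hz : Cent E z) {S : Set (Subgroup W)} (hS : ∀ R ∈ S, Piece E R)
    {Q : Subgroup W} (hQ : Piece E Q) (hQS : Q ∉ S) : join z S ≤ Subgroup.centralizer (Q : Set W) := by
  refine sup_le (Subgroup.zpowers_le.2 (Subgroup.mem_centralizer_iff.2 fun x _ => ?_))
    (sSup_le fun R hR => commute_pieces h hz hQ (hS R hR) fun e => hQS (e ▸ hR))
  exact Subgroup.mem_center_iff.1 hz.cen x

theorem join_inv (h : Hyp p E) (hz : Cent E z) {S : Set (Subgroup W)} (hS : ∀ R ∈ S, Piece E R) :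
    Inv E (join z S) := by
  intro e he u hu
  have hle : (join z S).map e.toMonoidHom ≤ join z S := by
    rw [join, Subgroup.map_sup, sSup_eq_iSup, Subgroup.map_iSup]
    refine sup_le_sup ?_ (iSup_le fun R => ?_)
    · rintro _ ⟨x, hx, rfl⟩
      exact inv_zpowers hz e he x hx
    · rw [Subgroup.map_iSup]
      refine iSup_le fun hR => le_trans ?_ (le_iSup₂ R hR)
      rintro _ ⟨x, hx, rfl⟩
      exact (hS R hR).inv h e he x hx
  exact hle (Subgroup.mem_map_of_mem _ hu)

theorem center_eq (h : Hyp p E) (hz : Cent E z) : Subgroup.center W = Subgroup.zpowers z := by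
  refine le_antisymm ?_ (Subgroup.zpowers_le.2 hz.cen)
  by_contra hne
  obtain ⟨Q, hQ, hQc⟩ := exists_piece h hz (inv_char _) hne
  exact hQ.not_le_centralizer h hz (hQc.trans (Subgroup.center_le_centralizer _))

theorem z_mem_commutator (h : Hyp p E) (hz : Cent E z) : z ∈ commutator W := by
  obtain ⟨Q, hQ, -⟩ := two_pieces h hz ⊥
  obtain ⟨i, j, -, -, hij, -, -⟩ := hQ.gens h hz
  have e : z = ⁅i, j⁆ := by
    rw [commutatorElement_def, hij, Subgroup.mem_center_iff.1 hz.cen j, mul_inv_cancel_right]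
  rw [e, commutator_def]
  exact Subgroup.commutator_mem_commutator (Subgroup.mem_top _) (Subgroup.mem_top _)

theorem frattini_eq (h : Hyp p E) (hz : Cent E z) : frattini W = Subgroup.zpowers z := by
  haveI : Fact (Nat.Prime 2) := ⟨Nat.prime_two⟩
  have hzF : z ∈ frattini W := Grp.pGroup_commutator_le_frattini h.pw (z_mem_commutator h hz)
  refine le_antisymm ?_ (Subgroup.zpowers_le.2 hzF)
  by_contra hne
  obtain ⟨Q, hQ, hQF⟩ := exists_piece h hz (inv_char _) hne
  set S : Set (Subgroup W) := {R | Piece E R ∧ R ≠ Q} with hS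
  have hsup : join z S ⊔ frattini W = ⊤ := by
    refine top_le_iff.1 (gen_pieces h hz inv_top (Subgroup.mem_sup_right hzF) fun R hR => inf_le_right.trans ?_)
    by_cases e : R = Q
    · exact (e.le.trans hQF).trans le_sup_right
    · exact le_trans (le_trans (le_sSup (show R ∈ S from ⟨hR, e⟩)) le_sup_right) le_sup_left
  have htop := frattini_nongenerating hsup
  refine hQ.not_le_centralizer h hz ?_
  exact le_top.trans (htop.ge.trans (join_le_centralizer h hz (fun R hR => hR.1) hQ (fun hm => hm.2 rfl)))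

theorem card_join (h : Hyp p E) (hz : Cent E z) (S : Finset (Subgroup W)) (hS : ∀ R ∈ S, Piece E R) :
    Nat.card ↥(join z (S : Set (Subgroup W))) = 2 ^ (2 * S.card + 1) := by
  classical
  induction S using Finset.induction_on with
  | empty =>
    simp only [Finset.coe_empty, join, sSup_empty, sup_bot_eq, Finset.card_empty]
    exact card_zpowers_z hz
  | insert Q S hQS ih =>
    have hSp : ∀ R ∈ (S : Set (Subgroup W)), Piece E R := fun R hR => hS R (Finset.mem_insert_of_mem hR)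
    have hQ : Piece E Q := hS Q (Finset.mem_insert_self Q S)
    have hc := join_le_centralizer h hz hSp hQ (by simpa using hQS)
    have hjoin : join z ((insert Q S : Finset (Subgroup W)) : Set (Subgroup W)) = Q ⊔ join z ↑S := by
      rw [join, join, Finset.coe_insert, sSup_insert, sup_left_comm]
    have hinf : Q ⊓ join z ↑S = Subgroup.zpowers z := by
      refine le_antisymm ?_ (le_inf (Subgroup.zpowers_le.2 (hQ.z_mem hz)) le_sup_left)
      rcases hQ.inf_cases h hz (join_inv h hz hSp) with hle | hle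
      · exact absurd (hle.trans hc) (hQ.not_le_centralizer h hz)
      · rwa [inf_comm] at hle
    have hprod := Grp.card_sup_mul_card_inf (H := Q) (N := join z ↑S)
      ((Subgroup.le_centralizer_iff.1 hc).trans (Subgroup.centralizer_le_normalizer _))
    rw [hinf, card_zpowers_z hz, (hQ.shape h).1, ih (fun R hR => hS R (Finset.mem_insert_of_mem hR))] at hprod
    rw [hjoin, Finset.card_insert_of_notMem hQS]
    rw [show 2 * (S.card + 1) + 1 = (2 * S.card + 1) + 2 by ring, pow_add]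
    omega

/-- Everything at once. -/
theorem conclusion (h : Hyp p E) : Nat.card ↥E = 9 ∧ Cfsg.IsExtraspecial 2 W ∧
    (Nat.card W = 2 ^ 5 ∨ Nat.card W = 2 ^ 7 ∨ Nat.card W = 2 ^ 9) ∧
    {x : W | ∀ e ∈ E, e x = x} = (Subgroup.center W : Set W) := by
  classical
  haveI : Fact (Nat.Prime 2) := ⟨Nat.prime_two⟩
  obtain ⟨z, hz1, hz2, hz3⟩ := exists_z h
  have hz : Cent E z := ⟨hz1, hz2, hz3⟩
  obtain ⟨Q, hQ, -⟩ := two_pieces h hz ⊥
  have hE := (card_facts h hz hQ).1
  have hcen := center_eq h hz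
  have hfr := frattini_eq h hz
  have hcom : commutator W = Subgroup.zpowers z := le_antisymm
    ((Grp.pGroup_commutator_le_frattini h.pw).trans hfr.le) (Subgroup.zpowers_le.2 (z_mem_commutator h hz))
  haveI := Fintype.ofFinite (Subgroup W)
  set S := (Finset.univ : Finset (Subgroup W)).filter (Piece E) with hS
  have hSmem : ∀ R, R ∈ S ↔ Piece E R := fun R => by simp [hS]
  have htop : join z (S : Set (Subgroup W)) = ⊤ := top_le_iff.1
    (gen_pieces h hz inv_top (Subgroup.mem_sup_left (Subgroup.mem_zpowers z)) fun R hR =>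
      inf_le_right.trans (le_trans (le_sSup (Finset.mem_coe.2 ((hSmem R).2 hR))) le_sup_right))
  have hW : Nat.card W = 2 ^ (2 * S.card + 1) := by
    rw [← card_join h hz S (fun R hR => (hSmem R).1 hR), htop, Subgroup.card_top]
  have h2 : 2 ≤ S.card := by
    obtain ⟨R, hR, hne⟩ := two_pieces h hz Q
    exact Finset.one_lt_card.2 ⟨R, (hSmem R).2 hR, Q, (hSmem Q).2 hQ, hne⟩
  have h4 : S.card ≤ 4 := by
    haveI := Fintype.ofFinite ↥E
    set T := (Finset.univ : Finset ↥E).filter (fun e : ↥E => Piece E (fx (↑e : MulAut W)) ∧ e ≠ 1) with hT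
    have hmap : ∀ e : ↥E, e ∈ T → fx (e : MulAut W) ∈ S := fun e he => (hSmem _).2 (Finset.mem_filter.1 he).2.1
    have hcount := Finset.mul_card_image_le_card_of_maps_to hmap 2 (fun R hR => by
      have hRp := (hSmem R).1 hR
      have hk := (card_facts h hz hRp).2
      haveI := Fintype.ofFinite ↥(kerOn E R)
      rw [Nat.card_eq_fintype_card] at hk
      have hcard : ((Finset.univ : Finset ↥(kerOn E R)).erase 1).card = 2 := by
        rw [Finset.card_erase_of_mem (Finset.mem_univ _), Finset.card_univ, hk]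
      rw [← hcard]
      refine Finset.card_le_card_of_injOn (fun a => (⟨a.1, a.2.1⟩ : ↥E)) (fun a ha => ?_) ?_
      · have ha1 : (a : MulAut W) ≠ 1 := fun e => (Finset.mem_erase.1 ha).1 (Subtype.ext e)
        have hfa := kerOn_eq h hRp a.2 ha1
        simp only [Finset.coe_filter, Set.mem_setOf_eq, hT, Finset.mem_filter, Finset.mem_univ, true_and]
        exact ⟨⟨hfa.symm ▸ hRp, fun e => ha1 (congrArg Subtype.val e)⟩, hfa⟩
      · intro a _ b _ e
        exact Subtype.ext (congrArg Subtype.val e :))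
    have hT8 : T.card ≤ 8 := by
      refine le_trans (Finset.card_le_card (t := Finset.univ.erase 1) fun e he => ?_) ?_
      · exact Finset.mem_erase.2 ⟨(Finset.mem_filter.1 he).2.2, Finset.mem_univ _⟩
      · rw [Finset.card_erase_of_mem (Finset.mem_univ _), Finset.card_univ, ← Nat.card_eq_fintype_card, hE]
    omega
  refine ⟨hE, ⟨⟨h.pw, hfr.trans hcen.symm, hcom.trans hcen.symm⟩, ?_⟩, ?_, ?_⟩
  · rw [hcen]; exact card_zpowers_z hz
  · obtain e | e | e : S.card = 2 ∨ S.card = 3 ∨ S.card = 4 := by omega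
    all_goals rw [hW, e]; simp
  · rw [hcen, ← fixAll_eq h hz]
    ext x
    exact mem_fixAll.symm

end Cfsg.Agent.Invol.FixOne
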