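import Mathlib

/-!
# A four-group of conjugate involutions and fixed-point-free normal subgroups
-/

set_option autoImplicit false

namespace Cfsg.Agent.Invol

variable {G : Type*} [Group G] [Finite G]

/-- A normal subgroup meeting the centralisers of the involutions of a four-group trivially is trivial. -/
theorem four_free_bot (N : Subgroup G) [N.Normal] {a b : G} (ha : a * a = 1) (hb : b * b = 1)
    (hab : a * b = b * a) (h : ∀ e : G, e = a ∨ e = b ∨ e = a * b → N ⊓ Subgroup.centralizer ({e} : Set G) = ⊥) :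
    N = ⊥ := by
  have key : ∀ e : G, e = a ∨ e = b → ∀ x ∈ N, e * x * e⁻¹ = x⁻¹ := by
    intro e he x hx
    have hee : e * e = 1 := by rcases he with rfl | rfl <;> assumption
    let φ : ↥N →* ↥N := MonoidHom.mk' (fun y => ⟨e * y * e⁻¹, ‹N.Normal›.conj_mem y y.2 e⟩)
      fun y y' => Subtype.ext (by simp only [Subgroup.coe_mul]; group)
    have hfpf : MonoidHom.FixedPointFree φ := fun y hy => by
      have h1 : e * (y : G) * e⁻¹ = y := congrArg Subtype.val hy
      have h2 : (y : G) ∈ N ⊓ Subgroup.centralizer ({e} : Set G) :=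
        ⟨y.2, Subgroup.mem_centralizer_singleton_iff.mpr (mul_inv_eq_iff_eq_mul.mp h1).symm⟩
      rw [h e (by tauto), Subgroup.mem_bot] at h2
      exact Subtype.ext h2
    have hinv : Function.Involutive φ := fun y => Subtype.ext (by
      show e * (e * (y : G) * e⁻¹) * e⁻¹ = y
      calc e * (e * (y : G) * e⁻¹) * e⁻¹ = (e * e) * y * (e * e)⁻¹ := by group
        _ = y := by rw [hee]; group)
    exact congrArg Subtype.val (congrFun (hfpf.coe_eq_inv_of_involutive hinv) ⟨x, hx⟩)
  rw [Subgroup.eq_bot_iff_forall]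
  intro x hx
  have h2 : x ∈ N ⊓ Subgroup.centralizer ({a * b} : Set G) := by
    refine ⟨hx, Subgroup.mem_centralizer_singleton_iff.mpr ?_⟩
    have h3 : a * b * x * (a * b)⁻¹ = x := by
      calc a * b * x * (a * b)⁻¹ = a * (b * x * b⁻¹) * a⁻¹ := by group
        _ = a * x⁻¹ * a⁻¹ := by rw [key b (.inr rfl) x hx]
        _ = x := by rw [key a (.inl rfl) x⁻¹ (N.inv_mem hx), inv_inv]
    exact (mul_inv_eq_iff_eq_mul.mp h3).symm
  rw [h _ (by tauto), Subgroup.mem_bot] at h2
  exact h2

/-- All nontrivial elements of a four-group conjugate to `z` forces proper normal subgroups to be trivial. -/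
theorem four_free_normal (z : G) (hN : ∀ N : Subgroup G, N.Normal → N ≠ ⊤ → N ⊓ Subgroup.centralizer ({z} : Set G) = ⊥)
    (E : Subgroup G) (hE : IsKleinFour ↥E) (hc : ∀ e ∈ E, e ≠ 1 → IsConj z e)
    (N : Subgroup G) [N.Normal] (htop : N ≠ ⊤) : N = ⊥ := by
  haveI := hE
  haveI : Nontrivial ↥E := Finite.one_lt_card_iff_nontrivial.mp (by rw [IsKleinFour.card_four]; norm_num)
  obtain ⟨a, ha⟩ := exists_ne (1 : ↥E)
  obtain ⟨b, hb1, hba⟩ : ∃ b : ↥E, b ≠ 1 ∧ b ≠ a := by
    by_contra hall
    push Not at hall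
    have : Nat.card ↥E ≤ 2 := by
      classical
      haveI := Fintype.ofFinite ↥E
      rw [Nat.card_eq_fintype_card]
      refine (Finset.card_le_card (s := Finset.univ) (t := {1, a}) fun x _ => ?_).trans Finset.card_le_two
      by_cases hx : x = 1
      · simp [hx]
      · simp [hall x hx]
    rw [IsKleinFour.card_four] at this
    omega
  have hcomm := mul_comm_of_exponent_two IsKleinFour.exponent_two a b
  refine four_free_bot N (a := (a : G)) (b := (b : G)) (congrArg Subtype.val (IsKleinFour.mul_self a))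
    (congrArg Subtype.val (IsKleinFour.mul_self b)) (congrArg Subtype.val hcomm) fun e he => ?_
  obtain ⟨e', he', hne, rfl⟩ : ∃ e' : ↥E, True ∧ e' ≠ 1 ∧ (e' : G) = e := by
    rcases he with rfl | rfl | rfl
    · exact ⟨a, trivial, ha, rfl⟩
    · exact ⟨b, trivial, hb1, rfl⟩
    · refine ⟨a * b, trivial, fun h1 => hba ?_, rfl⟩
      rw [mul_eq_one_iff_eq_inv.mp h1, IsKleinFour.inv_eq_self]
  obtain ⟨g, hg⟩ := isConj_iff.mp (hc _ e'.2 (fun h1 => hne (Subtype.ext h1)))
  rw [Subgroup.eq_bot_iff_forall]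
  rintro x ⟨hxN, hxc⟩
  have h1 : g⁻¹ * x * g ∈ N ⊓ Subgroup.centralizer ({z} : Set G) := by
    refine ⟨by simpa using ‹N.Normal›.conj_mem x hxN g⁻¹, Subgroup.mem_centralizer_singleton_iff.mpr ?_⟩
    have h2 : x * (e' : G) = (e' : G) * x := Subgroup.mem_centralizer_singleton_iff.mp hxc
    rw [← hg] at h2
    calc g⁻¹ * x * g * z = g⁻¹ * (x * (g * z * g⁻¹)) * g := by group
      _ = g⁻¹ * (g * z * g⁻¹ * x) * g := by rw [h2]
      _ = z * (g⁻¹ * x * g) := by group
  rw [hN N inferInstance htop, Subgroup.mem_bot] at h1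
  calc x = g * (g⁻¹ * x * g) * g⁻¹ := by group
    _ = 1 := by rw [h1]; group

end Cfsg.Agent.Invol
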