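import Mathlib
import Cfsg.Prelude.Def_CaseTheorems
import Cfsg.Agent.Lib.Recog.NormalAbelianCyclic
import Cfsg.Agent.Lib.Fus.CaminaPairBasic
import Cfsg.Agent.Lib.Invol.ThompsonTransferDihedral

/-!
A four-group acting on a perfect group such that each of its involutions centralises a subgroup
of 2-rank at most one: then the group has 2-rank at most one.
-/

set_option autoImplicit false
set_option linter.unusedSectionVars false

namespace Cfsg.Agent.Invol.FourRankOne

open Subgroup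

variable {G : Type*} [Group G] [Finite G]

/-- At most one involution in every abelian subgroup of `A ∩ C(u)`. -/
def OneInvolCentral (A U : Subgroup G) : Prop :=
  ∀ u ∈ U, u ≠ 1 → ∀ x ∈ A, ∀ y ∈ A, Commute x y → x * x = 1 → y * y = 1 → x ≠ 1 → y ≠ 1 →
    Commute x u → Commute y u → x = y

/-- A normalised Sylow 2-subgroup. -/
theorem exists_sylow (A U : Subgroup G) (hU2 : IsPGroup 2 U) (hUA : U ≤ normalizer (A : Set G)) :
    ∃ S : Subgroup G, S ≤ A ∧ IsPGroup 2 S ∧ U ≤ normalizer (S : Set G) ∧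
      ∀ T : Subgroup G, T ≤ A → IsPGroup 2 T → Nat.card T ≤ Nat.card S := by
  haveI : Fact (Nat.Prime 2) := ⟨Nat.prime_two⟩
  set K := A ⊔ U with hK
  have hKA : K ≤ normalizer (A : Set G) := sup_le le_normalizer hUA
  obtain ⟨Q, hQ⟩ := (hU2.comap_of_injective K.subtype K.subtype_injective).exists_le_sylow
  set Q' := (Q : Subgroup K).map K.subtype with hQ'
  have hUQ : U ≤ Q' := fun u hu => ⟨⟨u, le_sup_right (a := A) hu⟩, hQ (mem_subgroupOf.2 hu), rfl⟩
  refine ⟨A ⊓ Q', inf_le_left, (Q.isPGroup'.map K.subtype).to_le inf_le_right, fun u hu => ?_,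
    fun T hT hT2 => ?_⟩
  · rw [mem_normalizer_iff]
    intro x
    rw [mem_inf, mem_inf, ← (mem_normalizer_iff.1 (hUA hu)) x]
    refine and_congr_right fun _ => ⟨fun hx => mul_mem (mul_mem (hUQ hu) hx) (inv_mem (hUQ hu)),
      fun hx => ?_⟩
    have := mul_mem (mul_mem (inv_mem (hUQ hu)) hx) (hUQ hu)
    simpa [mul_assoc] using this
  · obtain ⟨Q₂, hQ₂⟩ := (hT2.comap_of_injective K.subtype K.subtype_injective).exists_le_sylow
    obtain ⟨g, hg⟩ := MulAction.exists_smul_eq K Q₂ Q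
    have hsub : T.map (MulAut.conj (g : G)).toMonoidHom ≤ A ⊓ Q' := by
      rintro _ ⟨t, ht, rfl⟩
      refine ⟨(mem_normalizer_iff.1 (hKA g.2) t).1 (hT ht), ?_⟩
      have htK : t ∈ K := le_sup_left (b := U) (hT ht)
      refine ⟨g * ⟨t, htK⟩ * g⁻¹, ?_, rfl⟩
      rw [SetLike.mem_coe, ← hg, Sylow.coe_subgroup_smul]
      exact ⟨⟨t, htK⟩, hQ₂ (mem_subgroupOf.2 ht), rfl⟩
    exact (card_map_of_injective (MulAut.conj (g : G)).injective).symm.trans_le
      (card_le_of_le hsub)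

variable {A U S : Subgroup G}

/-- Invariant elementary abelian subgroups have order at most two. -/
theorem small_invariant (h : OneInvolCentral A U) (hU : IsKleinFour U) {W : Subgroup G}
    (hWA : W ≤ A) (hc : ∀ a ∈ W, ∀ b ∈ W, Commute a b) (h2 : ∀ a ∈ W, a * a = 1)
    (hUW : ∀ u ∈ U, ∀ w ∈ W, u * w * u⁻¹ ∈ W) :
    ∀ a ∈ W, ∀ b ∈ W, a ≠ 1 → b ≠ 1 → a = b := by
  have hsqU : ∀ u ∈ U, u * u = 1 := fun u hu =>
    congrArg Subtype.val (IsKleinFour.mul_self (⟨u, hu⟩ : U))
  have hcU : ∀ u ∈ U, ∀ v ∈ U, u * v = v * u := fun u hu v hv =>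
    congrArg Subtype.val (mul_comm_of_exponent_two IsKleinFour.exponent_two (⟨u, hu⟩ : U) ⟨v, hv⟩)
  obtain ⟨⟨u, hu⟩, hu1⟩ : ∃ u : U, u ≠ 1 := by
    haveI : Nontrivial U := Finite.one_lt_card_iff_nontrivial.mp (by
      rw [IsKleinFour.card_four]; norm_num)
    exact exists_ne 1
  have hu1' : u ≠ 1 := fun e => hu1 (Subtype.ext e)
  obtain ⟨v, hv, hv1, hvu⟩ : ∃ v ∈ U, v ≠ 1 ∧ v ≠ u := by
    by_contra hcon
    push Not at hcon
    have hle : U ≤ zpowers u := fun v hv => by
      by_cases hv1 : v = 1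
      · exact hv1 ▸ one_mem _
      · exact hcon v hv hv1 ▸ mem_zpowers u
    have := card_le_of_le hle
    rw [IsKleinFour.card_four, Nat.card_zpowers] at this
    have h2' : orderOf u ≤ 2 := orderOf_le_of_pow_eq_one two_pos (by rw [pow_two, hsqU u hu])
    omega
  have huv1 : u * v ≠ 1 := fun e => hvu (by
    rw [← inv_eq_of_mul_eq_one_right e, inv_eq_of_mul_eq_one_right (hsqU u hu)])
  -- for `x ∈ W`, the product with its conjugate is fixed
  have hnorm : ∀ g ∈ U, ∀ x ∈ W, Commute (x * (g * x * g⁻¹)) g := by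
    intro g hg x hx
    have hgi : g⁻¹ = g := inv_eq_of_mul_eq_one_right (hsqU g hg)
    have hcx := (hc x hx _ (hUW g hg x hx)).eq
    rw [hgi] at hcx ⊢
    have e1 : x * (g * x * g) * g = x * g * x := by simp [mul_assoc, hsqU g hg]
    have e2 : g * (x * (g * x * g)) = x * g * x := by
      rw [hcx]; simp only [← mul_assoc, hsqU g hg, one_mul]
    exact e1.trans e2.symm
  have huniq : ∀ g ∈ U, g ≠ 1 → ∀ a ∈ W, ∀ b ∈ W, a ≠ 1 → b ≠ 1 → Commute a g → Commute b g →
      a = b := fun g hg hg1 a ha b hb ha1 hb1 hag hbg =>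
    h g hg hg1 a (hWA ha) b (hWA hb) (hc a ha b hb) (h2 a ha) (h2 b hb) ha1 hb1 hag hbg
  intro a ha b hb ha1 hb1
  -- a nontrivial fixed point of `u`
  obtain ⟨c, hcW, hc1, hcu⟩ : ∃ c ∈ W, c ≠ 1 ∧ Commute c u := by
    by_cases e : a * (u * a * u⁻¹) = 1
    · refine ⟨a, ha, ha1, ?_⟩
      have e2 : u * a * u⁻¹ = a := by
        rw [← inv_eq_of_mul_eq_one_right e, inv_eq_of_mul_eq_one_right (h2 a ha)]
      exact (mul_inv_eq_iff_eq_mul.mp e2).symm
    · exact ⟨_, mul_mem ha (hUW u hu a ha), e, hnorm u hu a ha⟩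
  have hcU' : ∀ g ∈ U, Commute c g := by
    intro g hg
    have hgu := hcU g hg u hu
    have h3 : Commute (g * c * g⁻¹) u := by
      show g * c * g⁻¹ * u = u * (g * c * g⁻¹)
      have hgi : g⁻¹ = g := inv_eq_of_mul_eq_one_right (hsqU g hg)
      rw [hgi, mul_assoc (g * c) g u, hgu, ← mul_assoc (g * c) u g, mul_assoc g c u, hcu.eq,
        ← mul_assoc g u c, hgu]
      simp only [mul_assoc]
    have h4 := huniq u hu hu1' _ (hUW g hg c hcW) c hcW
      (fun e => hc1 (conj_eq_one_iff.mp e)) hc1 h3 hcu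
    exact (mul_inv_eq_iff_eq_mul.mp h4).symm
  suffices hall : ∀ x ∈ W, x ≠ 1 → x = c by rw [hall a ha ha1, hall b hb hb1]
  intro x hx hx1
  by_contra hxc
  -- every involution of `U` moves `x` to `x * c`
  have hmove : ∀ g ∈ U, g ≠ 1 → g * x * g⁻¹ = x * c := by
    intro g hg hg1
    by_cases e : x * (g * x * g⁻¹) = 1
    · exfalso
      have e2 : g * x * g⁻¹ = x := by
        rw [← inv_eq_of_mul_eq_one_right e, inv_eq_of_mul_eq_one_right (h2 x hx)]
      exact hxc (huniq g hg hg1 x hx c hcW hx1 hc1 (mul_inv_eq_iff_eq_mul.mp e2).symm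
        (hcU' g hg))
    · have := huniq g hg hg1 _ (mul_mem hx (hUW g hg x hx)) c hcW e hc1 (hnorm g hg x hx)
        (hcU' g hg)
      rw [← this, ← mul_assoc, h2 x hx, one_mul]
  have h5 := hmove (u * v) (mul_mem hu hv) huv1
  rw [show u * v * x * (u * v)⁻¹ = u * (v * x * v⁻¹) * u⁻¹ by group, hmove v hv hv1,
    show u * (x * c) * u⁻¹ = (u * x * u⁻¹) * (u * c * u⁻¹) by group, hmove u hu hu1',
    show u * c * u⁻¹ = c from mul_inv_eq_iff_eq_mul.mpr hcu.eq.symm, mul_assoc, h2 c hcW,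
    mul_one] at h5
  exact hc1 (by simpa using h5)

variable (hSA : S ≤ A) (hS : IsPGroup 2 S) (hU : IsKleinFour U)
  (hUS : U ≤ normalizer (S : Set G)) (h : OneInvolCentral A U)

include hSA hS hU hUS h

/-- An invariant normal cyclic subgroup containing its centraliser. -/
theorem exists_cyclic : ∃ a : ↥S, (zpowers a).Normal ∧
    (∀ g : ↥S, Commute g a → g ∈ zpowers a) ∧
    ∀ u ∈ U, ∃ i : ℤ, u * (a : G) * u⁻¹ = (a : G) ^ i := by
  haveI : Fact (Nat.Prime 2) := ⟨Nat.prime_two⟩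
  have hU2 : IsPGroup 2 U := IsPGroup.of_card (n := 2) (by rw [IsKleinFour.card_four]; norm_num)
  let Good : Subgroup G → Prop := fun C =>
    C ≤ S ∧ (∀ a ∈ C, ∀ b ∈ C, Commute a b) ∧ S ⊔ U ≤ normalizer (C : Set G)
  haveI : Nonempty {C : Subgroup G // Good C} := ⟨⟨⊥, bot_le, fun a ha b _ => by
    rw [mem_bot.1 ha]; exact Commute.one_left b, by rw [normalizer_eq_top (H := (⊥ : Subgroup G))]; exact le_top⟩⟩
  obtain ⟨⟨C, hCS, hCab, hCn⟩, hmax⟩ :=
    Finite.exists_max fun C : {C : Subgroup G // Good C} => Nat.card C.1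
  have hconj : ∀ g ∈ S ⊔ U, ∀ x ∈ C, g * x * g⁻¹ ∈ C := fun g hg x hx =>
    (mem_normalizer_iff.1 (hCn hg) x).1 hx
  -- self-centralising
  set P := S ⊔ U with hP
  have hP2 : IsPGroup 2 ↥P := by
    rw [hP, sup_comm]
    exact hU2.to_sup_of_normal_right' hS hUS
  haveI : Group.IsNilpotent ↥P := hP2.isNilpotent
  have hself : ∀ g ∈ S, (∀ x ∈ C, Commute x g) → g ∈ C := by
    intro g hgS hg
    by_contra hgC
    set D := S ⊓ centralizer (C : Set G) with hD
    have hgD : g ∈ D := ⟨hgS, mem_centralizer_iff.2 fun x hx => (hg x hx).eq⟩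
    have hPS : P ≤ normalizer (S : Set G) := sup_le le_normalizer hUS
    have hDn : P ≤ normalizer (D : Set G) := fun p hp => by
      have hps := mem_normalizer_iff.1 (hPS hp)
      rw [mem_normalizer_iff]
      intro x
      rw [hD, mem_inf, mem_inf, ← hps x]
      refine and_congr_right fun _ => ?_
      simp only [mem_centralizer_iff]
      constructor
      · intro hx c hc
        have h1 := hx (p⁻¹ * c * p) (by simpa using hconj p⁻¹ (inv_mem hp) c hc)
        calc c * (p * x * p⁻¹) = p * ((p⁻¹ * c * p) * x) * p⁻¹ := by group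
          _ = p * (x * (p⁻¹ * c * p)) * p⁻¹ := by rw [h1]
          _ = p * x * p⁻¹ * c := by group
      · intro hx c hc
        have h1 := hx (p * c * p⁻¹) (hconj p hp c hc)
        have h2 : p * (c * x) * p⁻¹ = p * (x * c) * p⁻¹ := by
          calc p * (c * x) * p⁻¹ = p * c * p⁻¹ * (p * x * p⁻¹) := by group
            _ = p * x * p⁻¹ * (p * c * p⁻¹) := h1
            _ = p * (x * c) * p⁻¹ := by group
        exact mul_left_cancel (mul_right_cancel h2)
    haveI : (C.subgroupOf P).Normal := normal_subgroupOf_of_le_normalizer hCn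
    haveI : (D.subgroupOf P).Normal := normal_subgroupOf_of_le_normalizer hDn
    set π := QuotientGroup.mk' (C.subgroupOf P)
    haveI : ((D.subgroupOf P).map π).Normal :=
      Subgroup.Normal.map inferInstance _ (QuotientGroup.mk'_surjective _)
    have hne : (D.subgroupOf P).map π ≠ ⊥ := fun e => hgC (by
      have h1 : π ⟨g, le_sup_left (b := U) hgS⟩ ∈ (D.subgroupOf P).map π :=
        mem_map_of_mem π (mem_subgroupOf.2 hgD)
      rw [e, mem_bot] at h1
      exact mem_subgroupOf.1 ((QuotientGroup.eq_one_iff _).1 h1))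
    obtain ⟨⟨_, ⟨d, hdD, rfl⟩, hdz⟩, hd1⟩ :=
      Subgroup.ne_bot_iff_exists_ne_one.1 (Grp.inf_center_ne_bot _ hne)
    have hdC : (d : G) ∉ C := fun e =>
      hd1 (Subtype.ext ((QuotientGroup.eq_one_iff d).2 (mem_subgroupOf.2 e)))
    have hcd : ∀ x ∈ C, Commute x (d : G) := fun x hx =>
      mem_centralizer_iff.1 (mem_subgroupOf.1 hdD).2 x hx
    have hcomm : ∀ p ∈ P, (d : G)⁻¹ * (p * d * p⁻¹) ∈ C := by
      intro p hp
      have h1 := mem_center_iff.1 hdz (π ⟨p, hp⟩)
      rw [← map_mul, ← map_mul] at h1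
      have h2 : π (d⁻¹ * (⟨p, hp⟩ * d * (⟨p, hp⟩ : P)⁻¹)) = 1 := by
        rw [map_mul, map_mul, h1, map_inv, map_inv, map_mul, mul_inv_cancel_right, inv_mul_cancel]
      exact mem_subgroupOf.1 ((QuotientGroup.eq_one_iff _).1 h2)
    set C' := C ⊔ zpowers (d : G) with hC'
    have hC'ab : ∀ a ∈ C', ∀ b ∈ C', Commute a b := by
      have hle : C' ≤ centralizer (C' : Set G) := by
        refine sup_le (fun x hx => ?_) (zpowers_le.2 ?_) <;>
          rw [mem_centralizer_iff] <;> intro y hy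
        · refine (?_ : Commute y x).eq
          rw [hC', SetLike.mem_coe, ← closure_eq C, zpowers_eq_closure, ← Subgroup.closure_union] at hy
          induction hy using closure_induction with
          | mem y hy =>
            rcases hy with hy | rfl
            · exact hCab y hy x hx
            · exact (hcd x hx).symm
          | one => exact Commute.one_left _
          | mul a b _ _ iha ihb => exact iha.mul_left ihb
          | inv a _ iha => exact iha.inv_left
        · refine (?_ : Commute y d).eq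
          rw [hC', SetLike.mem_coe, ← closure_eq C, zpowers_eq_closure, ← Subgroup.closure_union] at hy
          induction hy using closure_induction with
          | mem y hy =>
            rcases hy with hy | rfl
            · exact hcd y hy
            · exact Commute.refl _
          | one => exact Commute.one_left _
          | mul a b _ _ iha ihb => exact iha.mul_left ihb
          | inv a _ iha => exact iha.inv_left
      exact fun a ha b hb => (mem_centralizer_iff.1 (hle hb) a ha)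
    have hgood : Good C' := by
      refine ⟨sup_le hCS (zpowers_le.2 (mem_subgroupOf.1 hdD).1), hC'ab, fun p hp => ?_⟩
      have key : ∀ q ∈ P, C'.map (MulAut.conj q).toMonoidHom ≤ C' := by
        intro q hq
        rw [hC', Subgroup.map_sup, MonoidHom.map_zpowers]
        refine sup_le ?_ (zpowers_le.2 ?_)
        · rintro _ ⟨x, hx, rfl⟩
          exact le_sup_left (b := zpowers (d : G)) (hconj q hq x hx)
        · have := mul_mem (le_sup_right (a := C) (mem_zpowers (d : G)))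
            (le_sup_left (b := zpowers (d : G)) (hcomm q hq))
          simpa [mul_assoc] using this
      rw [mem_normalizer_iff]
      refine fun x => ⟨fun hx => key p hp ⟨x, hx, rfl⟩, fun hx => ?_⟩
      have := key p⁻¹ (inv_mem hp) ⟨_, hx, rfl⟩
      simpa [mul_assoc] using this
    have hlt : C < C' := lt_of_le_of_ne le_sup_left fun e =>
      hdC (e ▸ le_sup_right (a := C) (mem_zpowers (d : G)))
    exact absurd (hmax ⟨C', hgood⟩)
      (not_le.2 (lt_of_le_of_ne (card_le_of_le le_sup_left) fun e =>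
        hlt.ne (eq_of_le_of_card_ge le_sup_left e.ge)))
  -- cyclic
  have hone : ∀ a ∈ C, ∀ b ∈ C, a * a = 1 → b * b = 1 → a ≠ 1 → b ≠ 1 → a = b := by
    let W : Subgroup G :=
      { carrier := {x | x ∈ C ∧ x * x = 1}
        one_mem' := ⟨one_mem C, one_mul 1⟩
        mul_mem' := fun {a b} ha hb => ⟨mul_mem ha.1 hb.1, by
          rw [(hCab b hb.1 a ha.1).mul_mul_mul_comm, ha.2, hb.2, one_mul]⟩
        inv_mem' := fun {a} ha => ⟨inv_mem ha.1, by rw [← mul_inv_rev, ha.2, inv_one]⟩ }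
    intro a ha b hb ha2 hb2
    exact small_invariant h hU (W := W) (fun x hx => hSA (hCS hx.1))
      (fun x hx y hy => hCab x hx.1 y hy.1) (fun x hx => hx.2)
      (fun u hu x hx => ⟨hconj u (le_sup_right (a := S) hu) x hx.1, by
        rw [conj_mul, hx.2, mul_one, mul_inv_cancel]⟩) a ⟨ha, ha2⟩ b ⟨hb, hb2⟩
  letI : CommGroup C := { mul_comm := fun a b => Subtype.ext (hCab a a.2 b b.2).eq }
  have hcyc : IsCyclic C := by
    refine Fus.isCyclic_of_unique_order_prime (q := 2) (hS.to_le hCS) fun a b ha hb ha1 => ?_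
    by_cases hb1 : b = 1
    · exact hb1 ▸ one_mem _
    · have : (b : G) = a := hone b b.2 a a.2 (by rw [← pow_two]; exact congrArg Subtype.val hb)
        (by rw [← pow_two]; exact congrArg Subtype.val ha) (fun e => hb1 (Subtype.ext e))
        (fun e => ha1 (Subtype.ext e))
      exact Subtype.ext this ▸ mem_zpowers a
  obtain ⟨⟨a, haC⟩, hgen⟩ := hcyc.exists_generator
  have hCa : ∀ x ∈ C, ∃ i : ℤ, a ^ i = x := fun x hx =>
    (mem_zpowers_iff.1 (hgen ⟨x, hx⟩)).imp fun i hi => congrArg Subtype.val hi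
  have hmem : ∀ g : ↥S, g ∈ zpowers (⟨a, hCS haC⟩ : ↥S) ↔ (g : G) ∈ C := fun g => by
    constructor
    · intro hg
      obtain ⟨i, rfl⟩ := mem_zpowers_iff.1 hg
      simpa using zpow_mem haC i
    · intro hg
      obtain ⟨i, hi⟩ := hCa _ hg
      exact mem_zpowers_iff.2 ⟨i, Subtype.ext (by simpa using hi)⟩
  refine ⟨⟨a, hCS haC⟩, ⟨fun n hn g => ?_⟩, fun g hg => ?_, fun u hu => ?_⟩
  · rw [hmem] at hn ⊢
    simpa using hconj g (le_sup_left (b := U) g.2) n hn
  · rw [hmem]
    refine hself g g.2 fun x hx => ?_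
    obtain ⟨i, rfl⟩ := hCa x hx
    exact ((show Commute (g : G) a from congrArg Subtype.val hg.eq).zpow_right i).symm
  · exact (hCa _ (hconj u (le_sup_right (a := S) hu) a haC)).imp fun i hi => hi.symm

/-- What the proof uses about a group with a cyclic subgroup of index two and dihedral or
semidihedral type. -/
structure Data (A U S : Subgroup G) (M : Subgroup G) (z q : G) : Prop where
  le : M ≤ S
  comm : ∀ a ∈ M, ∀ b ∈ M, Commute a b
  two : ∀ g ∈ S, g ∉ M → ∀ g' ∈ S, g' ∉ M → g * g' ∈ M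
  invol : ∀ m ∈ M, m * m = 1 → m = 1 ∨ m = z
  z_ne : z ≠ 1
  z_cent : ∀ g ∈ S, Commute z g
  z_U : ∀ u ∈ U, Commute z u
  q_mem : q ∈ M
  q_sq : q * q = z
  q_inv : ∀ g ∈ S, g ∉ M → g * q * g⁻¹ = q⁻¹
  q_U : ∀ u ∈ U, u * q * u⁻¹ = q ∨ u * q * u⁻¹ = q⁻¹
  q_gen : ∀ m ∈ M, m = 1 ∨ m = z ∨ q ∈ zpowers m
  M_U : ∀ u ∈ U, ∀ m ∈ M, u * m * u⁻¹ ∈ M

theorem exists_data {x y : G} (hx : x ∈ S) (hy : y ∈ S) (hxy : Commute x y) (hx2 : x * x = 1)
    (hy2 : y * y = 1) (hx1 : x ≠ 1) (hy1 : y ≠ 1) (hne : x ≠ y) :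
    ∃ M z q, Data A U S M z q := by
  haveI : Fact (Nat.Prime 2) := ⟨Nat.prime_two⟩
  obtain ⟨a, hn, hC, haU⟩ := exists_cyclic hSA hS hU hUS h
  obtain ⟨k, hk⟩ := IsPGroup.iff_orderOf.1 hS a
  -- conjugation by a member of `U` on powers
  have hUpow : ∀ u ∈ U, ∀ i : ℤ, ∃ j : ℤ, u * ((a ^ i : ↥S) : G) * u⁻¹ = ((a ^ j : ↥S) : G) := by
    intro u hu i
    obtain ⟨j, hj⟩ := haU u hu
    exact ⟨j * i, by push_cast; rw [← conj_zpow, hj, zpow_mul]⟩
  -- at most one involution among the powers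
  have hcyc1 : ∀ m : ↥S, m ∈ zpowers a → ∀ m' : ↥S, m' ∈ zpowers a → m * m = 1 → m' * m' = 1 →
      m ≠ 1 → m' ≠ 1 → m = m' := by
    intro m hm m' hm' h2 h2' h1 h1'
    let W : Subgroup G :=
      { carrier := {w | ∃ v : ↥S, v ∈ zpowers a ∧ v * v = 1 ∧ (v : G) = w}
        one_mem' := ⟨1, one_mem _, one_mul 1, rfl⟩
        mul_mem' := by
          rintro _ _ ⟨v, hv, hv2, rfl⟩ ⟨v', hv', hv2', rfl⟩
          obtain ⟨i, rfl⟩ := mem_zpowers_iff.1 hv
          obtain ⟨j, rfl⟩ := mem_zpowers_iff.1 hv'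
          exact ⟨_, mul_mem hv hv', by
            rw [((Commute.refl a).zpow_zpow j i).mul_mul_mul_comm, hv2, hv2', one_mul], rfl⟩
        inv_mem' := by
          rintro _ ⟨v, hv, hv2, rfl⟩
          exact ⟨v⁻¹, inv_mem hv, by rw [← mul_inv_rev, hv2, inv_one], rfl⟩ }
    refine Subtype.ext (small_invariant h hU (W := W) ?_ ?_ ?_ ?_ _ ⟨m, hm, h2, rfl⟩ _
      ⟨m', hm', h2', rfl⟩ (fun e => h1 (Subtype.ext e)) (fun e => h1' (Subtype.ext e)))
    · rintro _ ⟨v, -, -, rfl⟩; exact hSA v.2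
    · rintro _ ⟨v, hv, -, rfl⟩ _ ⟨v', hv', -, rfl⟩
      obtain ⟨i, rfl⟩ := mem_zpowers_iff.1 hv
      obtain ⟨j, rfl⟩ := mem_zpowers_iff.1 hv'
      exact ((Commute.refl a).zpow_zpow i j).map S.subtype
    · rintro _ ⟨v, -, hv2, rfl⟩; exact congrArg Subtype.val hv2
    · rintro u hu _ ⟨v, hv, hv2, rfl⟩
      obtain ⟨i, rfl⟩ := mem_zpowers_iff.1 hv
      obtain ⟨j, hj⟩ := hUpow u hu i
      refine ⟨a ^ j, zpow_mem (mem_zpowers a) j, Subtype.ext ?_, hj.symm⟩
      show ((a ^ j : ↥S) : G) * ((a ^ j : ↥S) : G) = 1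
      rw [← hj, conj_mul, show ((a ^ i : ↥S) : G) * ((a ^ i : ↥S) : G) = 1 from
        congrArg Subtype.val hv2, mul_one, mul_inv_cancel]
  obtain ⟨g₀, hg₀⟩ : ∃ g₀ : ↥S, g₀ ∉ zpowers a := by
    by_contra hall
    push Not at hall
    exact hne (congrArg Subtype.val (hcyc1 ⟨x, hx⟩ (hall _) ⟨y, hy⟩ (hall _) (Subtype.ext hx2)
      (Subtype.ext hy2) (fun e => hx1 (congrArg Subtype.val e))
      (fun e => hy1 (congrArg Subtype.val e))))
  -- no modular extension
  have hmod : ∀ (g : ↥S) (c : ℤ), 2 ≤ k → (2 = 2 → 3 ≤ k) → g ^ 2 ∈ zpowers a →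
      ¬ ((2 : ℕ) : ℤ) ∣ c → g⁻¹ * a * g = a ^ (1 + ((2 : ℕ) : ℤ) ^ (k - 1) * c) → False := by
    intro g c h2 h3 hg hc hge
    obtain ⟨E, e₁, e₀, hE, -, hEc, hEexp, he₀, he₀m, he₁2, he₁, he₁c, -, hmem⟩ :=
      NAC.modular_plane h2 h3 hk hn hC hg hc hge
    have he₀E : e₀ ∈ E := hE ▸ subset_closure (Or.inl rfl)
    have he₁E : e₁ ∈ E := hE ▸ subset_closure (Or.inr rfl)
    have hEfix : ∀ e ∈ E, Commute e (a ^ 2) := by
      intro e he
      rw [hE] at he
      induction he using closure_induction with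
      | mem s hs =>
        rcases hs with rfl | rfl
        · obtain ⟨i, rfl⟩ := mem_zpowers_iff.1 he₀m
          exact ((Commute.refl a).zpow_left i).pow_right 2
        · exact he₁c
      | one => exact Commute.one_left _
      | mul s t _ _ ihs iht => exact ihs.mul_left iht
      | inv s _ ihs => exact ihs.inv_left
    have hW := small_invariant h hU (W := E.map S.subtype) ?_ ?_ ?_ ?_ _
      (mem_map_of_mem _ he₀E) _ (mem_map_of_mem _ he₁E) ?_ ?_
    · exact he₁ ((Subtype.ext hW : e₀ = e₁) ▸ he₀m)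
    · exact (map_subtype_le E).trans hSA
    · rintro _ ⟨v, hv, rfl⟩ _ ⟨v', hv', rfl⟩
      exact (show Commute v v' from congrArg Subtype.val (hEc.is_comm.comm ⟨v, hv⟩ ⟨v', hv'⟩)).map
        S.subtype
    · rintro _ ⟨v, hv, rfl⟩
      have := congrArg Subtype.val (hEexp v hv)
      simpa [pow_two] using this
    · rintro u hu _ ⟨v, hv, rfl⟩
      have hvS : u * (v : G) * u⁻¹ ∈ S := (mem_normalizer_iff.1 (hUS hu) _).1 v.2
      refine ⟨⟨_, hvS⟩, hmem _ ?_ (Subtype.ext ?_), rfl⟩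
      · obtain ⟨j, hj⟩ := haU u⁻¹ (inv_mem hu)
        rw [inv_inv] at hj
        have h5 := ((hEfix v hv).zpow_right j).map (S.subtype)
        simp only [Subgroup.coe_subtype, SubgroupClass.coe_zpow, SubmonoidClass.coe_pow] at h5
        have h6 := h5.map (MulAut.conj u).toMonoidHom
        rw [← zpow_natCast, ← zpow_mul, mul_comm, zpow_mul, zpow_natCast, ← hj] at h6
        simp only [MulEquiv.coe_toMonoidHom, map_pow, MulAut.conj_apply] at h6
        rw [show u * (u⁻¹ * (a : G) * u) * u⁻¹ = a by group] at h6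
        exact Subtype.ext (by simpa using h6.eq)
      · have := congrArg Subtype.val (hEexp v hv)
        simp only [SubmonoidClass.coe_pow, OneMemClass.coe_one] at this ⊢
        rw [conj_pow, this, mul_one, mul_inv_cancel]
    · intro e
      have : e₀ = 1 := Subtype.ext e
      rw [this, orderOf_one] at he₀
      omega
    · intro e
      exact he₁ ((Subtype.ext e : e₁ = 1) ▸ one_mem _)
  obtain ⟨-, hk2, hcard, -⟩ := NAC.no_modular_shape hS hk hn hC hg₀ hmod
  have hidx : (zpowers a).index = 2 := by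
    have h1 := (zpowers a).card_mul_index
    rw [Nat.card_zpowers, hk, hcard, pow_succ] at h1
    exact Nat.eq_of_mul_eq_mul_left (by positivity) h1
  obtain ⟨d, rfl⟩ : ∃ d, k = d + 2 := ⟨k - 2, by omega⟩
  set q : ↥S := a ^ (2 ^ d) with hq
  have hq4 : q ^ 4 = 1 := by
    rw [hq, ← pow_mul, show 2 ^ d * 4 = 2 ^ (d + 2) by rw [pow_add]; norm_num, ← hk,
      pow_orderOf_eq_one]
  have hq2 : q * q ≠ 1 := fun e => by
    rw [hq, ← pow_add] at e
    have h1 := Nat.le_of_dvd (by positivity) (orderOf_dvd_of_pow_eq_one e)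
    rw [hk, pow_add] at h1
    have := Nat.two_pow_pos d
    omega
  have hq4' : q * q * (q * q) = 1 := by rw [← pow_two, ← pow_two, ← pow_mul]; exact hq4
  have hqa : q ∈ zpowers a := pow_mem (mem_zpowers a) _
  set z : ↥S := q * q with hz
  have hza : z ∈ zpowers a := mul_mem hqa hqa
  have huniq : ∀ m ∈ zpowers a, m * m = 1 → m = 1 ∨ m = z := fun m hm h2 =>
    or_iff_not_imp_left.2 fun h1 => hcyc1 m hm z hza h2 hq4' h1 hq2
  have hzconj : ∀ g : ↥S, g * z * g⁻¹ = z := fun g => by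
    rcases huniq _ (hn.conj_mem z hza g) (by rw [conj_mul, hq4', mul_one, mul_inv_cancel]) with
      e | e
    · exact absurd (conj_eq_one_iff.1 e) hq2
    · exact e
  -- a power of `a` acting by `± 1` on `q`
  have hqpow : ∀ r : ℤ, (2 : ℤ) ∣ r - 1 → q ^ r = q ∨ q ^ r = q⁻¹ := by
    intro r hr
    obtain ⟨t, ht⟩ := hr
    rcases Int.even_or_odd' t with ⟨s, rfl | rfl⟩
    · left
      rw [show r = ((4 : ℕ) : ℤ) * s + 1 by push_cast; omega, zpow_add, zpow_mul, zpow_natCast,
        hq4, one_zpow, one_mul, zpow_one]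
    · right
      rw [show r = ((4 : ℕ) : ℤ) * (s + 1) + -1 by push_cast; omega, zpow_add, zpow_mul,
        zpow_natCast, hq4, one_zpow, one_mul, zpow_neg, zpow_one]
  refine ⟨(zpowers a).map S.subtype, z, q,
    { le := map_subtype_le _
      comm := ?_
      two := ?_
      invol := ?_
      z_ne := fun e => hq2 (Subtype.ext e)
      z_cent := fun g hg => by
        have := congrArg Subtype.val (hzconj ⟨g, hg⟩)
        simp only [Subgroup.coe_mul, InvMemClass.coe_inv] at this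
        exact (mul_inv_eq_iff_eq_mul.1 this).symm
      z_U := ?_
      q_mem := mem_map_of_mem _ hqa
      q_sq := rfl
      q_inv := ?_
      q_U := ?_
      q_gen := ?_
      M_U := ?_ }⟩
  · rintro _ ⟨v, hv, rfl⟩ _ ⟨v', hv', rfl⟩
    obtain ⟨i, rfl⟩ := mem_zpowers_iff.1 hv
    obtain ⟨j, rfl⟩ := mem_zpowers_iff.1 hv'
    exact ((Commute.refl a).zpow_zpow i j).map S.subtype
  · intro g hg hgM g' hg' hg'M
    exact ⟨⟨g, hg⟩ * ⟨g', hg'⟩, (mul_mem_iff_of_index_two hidx).2 (iff_of_false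
      (fun e => hgM ⟨_, e, rfl⟩) (fun e => hg'M ⟨_, e, rfl⟩)), rfl⟩
  · rintro _ ⟨m, hm, rfl⟩ h2
    rcases huniq m hm (Subtype.ext h2) with e | e
    · exact Or.inl (by rw [e]; rfl)
    · exact Or.inr (by rw [e]; rfl)
  · intro u hu
    obtain ⟨i, hi⟩ := mem_zpowers_iff.1 hza
    obtain ⟨j, hj⟩ := hUpow u hu i
    rw [hi] at hj
    rcases huniq (a ^ j) (zpow_mem (mem_zpowers a) j) (Subtype.ext (by
      show ((a ^ j : ↥S) : G) * ((a ^ j : ↥S) : G) = 1
      rw [← hj, conj_mul, show (z : G) * (z : G) = 1 from congrArg Subtype.val hq4', mul_one,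
        mul_inv_cancel])) with e | e
    · rw [e, OneMemClass.coe_one] at hj
      exact absurd (Subtype.ext (conj_eq_one_iff.1 hj)) hq2
    · rw [e] at hj
      exact (mul_inv_eq_iff_eq_mul.1 hj).symm
  · intro g hg hgM
    obtain ⟨g', rfl⟩ : ∃ g' : ↥S, (g' : G) = g := ⟨⟨g, hg⟩, rfl⟩
    have hg' : g'⁻¹ ∉ zpowers a := fun e => hgM ⟨g', inv_inv g' ▸ inv_mem e, rfl⟩
    obtain ⟨r, hr⟩ := mem_zpowers_iff.1 (hn.conj_mem a (mem_zpowers a) g')
    have hg2 : g'⁻¹ ^ 2 ∈ zpowers a := by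
      rw [pow_two]; exact (mul_mem_iff_of_index_two hidx).2 Iff.rfl
    have hsq : (2 : ℤ) ^ (d + 2) ∣ r ^ 2 - 1 := by
      have h1 := NAC.conj_pow_exp hr.symm 2
      obtain ⟨i, hi⟩ := mem_zpowers_iff.1 hg2
      have e1 : g' ^ 2 = a ^ (-i) := by rw [zpow_neg, hi, inv_pow, inv_inv]
      rw [e1, show a ^ (-i) * a * (a ^ (-i))⁻¹ = a ^ (1 : ℤ) by group,
        NAC.zpow_eq_iff_dvd hk] at h1
      exact_mod_cast h1
    have hq' : g' * q * g'⁻¹ = q ^ r := by
      rw [hq, ← conj_pow, ← hr, ← zpow_natCast, ← zpow_natCast, ← zpow_mul, ← zpow_mul, mul_comm]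
    rcases NAC.pow_four_dvd_sq (by omega) hsq with ⟨h4, hh⟩ | ⟨-, h4⟩
    · exfalso
      obtain ⟨c, hc⟩ := hh
      rw [show d + 2 - 1 = d + 1 by omega] at hc
      by_cases hce : (2 : ℤ) ∣ c
      · obtain ⟨c', rfl⟩ := hce
        refine hgM ⟨g', hC g' (?_ : g' * a = a * g'), rfl⟩
        rw [← mul_inv_eq_iff_eq_mul, ← hr]
        conv_rhs => rw [← zpow_one a]
        rw [NAC.zpow_eq_iff_dvd hk]
        exact ⟨-c', by push_cast; rw [pow_succ]; linear_combination -hc⟩
      · refine hmod g'⁻¹ c (by omega) (fun _ => ?_) hg2 (by exact_mod_cast hce) ?_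
        · by_contra hd
          obtain rfl : d = 0 := by omega
          norm_num at hc
          omega
        · rw [inv_inv, ← hr, NAC.zpow_eq_iff_dvd hk, show d + 2 - 1 = d + 1 by omega]
          exact ⟨0, by push_cast; linear_combination -hc⟩
    · have e : q ^ r = q⁻¹ := by
        obtain ⟨t, ht⟩ := h4
        rw [show r = ((4 : ℕ) : ℤ) * t + -1 by push_cast; omega, zpow_add, zpow_mul,
          zpow_natCast, hq4, one_zpow, one_mul, zpow_neg, zpow_one]
      simpa using congrArg Subtype.val (hq'.trans e)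
  · intro u hu
    obtain ⟨j, hj⟩ := haU u hu
    have hjq : u * (q : G) * u⁻¹ = ((q ^ j : ↥S) : G) := by
      rw [hq]; push_cast
      rw [← conj_pow, hj, ← zpow_natCast, ← zpow_natCast, ← zpow_mul, ← zpow_mul, mul_comm]
    have hjodd : (2 : ℤ) ∣ j - 1 := by
      by_contra hj2
      obtain ⟨t, rfl⟩ : ∃ t, j = 2 * t := ⟨j / 2, by omega⟩
      have h1 : ((q ^ (2 * t) : ↥S) : G) * ((q ^ (2 * t) : ↥S) : G) = 1 := by
        rw [← Subgroup.coe_mul, ← zpow_add, show 2 * t + 2 * t = ((4 : ℕ) : ℤ) * t by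
          push_cast; ring, zpow_mul, zpow_natCast, hq4, one_zpow, OneMemClass.coe_one]
      rw [← hjq, conj_mul, conj_eq_one_iff] at h1
      exact hq2 (Subtype.ext h1)
    rcases hqpow j hjodd with e | e
    · exact Or.inl (hjq.trans (congrArg Subtype.val e))
    · exact Or.inr (hjq.trans (congrArg Subtype.val e))
  · rintro _ ⟨m, hm, rfl⟩
    by_cases h2 : m * m = 1
    · rcases huniq m hm h2 with e | e
      · exact Or.inl (by rw [e]; rfl)
      · exact Or.inr (Or.inl (by rw [e]; rfl))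
    refine Or.inr (Or.inr ?_)
    obtain ⟨e, he⟩ := IsPGroup.iff_orderOf.1 hS m
    obtain ⟨e', rfl⟩ : ∃ e', e = e' + 2 := by
      refine ⟨e - 2, ?_⟩
      by_contra hlt
      apply h2
      rw [← pow_two, ← orderOf_dvd_iff_pow_eq_one, he]
      exact (pow_dvd_pow 2 (show e ≤ 1 by omega)).trans (by norm_num)
    set v := m ^ 2 ^ e' with hv
    have hv4 : v ^ 4 = 1 := by
      rw [hv, ← pow_mul, show 2 ^ e' * 4 = 2 ^ (e' + 2) by rw [pow_add]; norm_num, ← he,
        pow_orderOf_eq_one]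
    have hv2 : v * v ≠ 1 := fun e => by
      rw [hv, ← pow_add] at e
      have h1 := Nat.le_of_dvd (by positivity) (orderOf_dvd_of_pow_eq_one e)
      rw [he, pow_add] at h1
      have := Nat.two_pow_pos e'
      omega
    have hva : v ∈ zpowers a := pow_mem hm _
    have hcomm : Commute v q := by
      obtain ⟨i, hi⟩ := mem_zpowers_iff.1 hva
      rw [← hi]
      exact ((Commute.refl a).zpow_left i).pow_right _
    have hvz : v * v = z := (huniq _ (mul_mem hva hva) (by
      rw [← pow_two, ← pow_two, ← pow_mul]; exact hv4)).resolve_left hv2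
    have hvm : v ∈ zpowers m := pow_mem (mem_zpowers m) _
    have : q ∈ zpowers m := by
      rcases huniq (v * q) (mul_mem hva hqa) (by
        rw [hcomm.symm.mul_mul_mul_comm, hvz, hq4']) with e | e
      · rw [← inv_eq_of_mul_eq_one_right e]; exact inv_mem hvm
      · have : v = q := mul_right_cancel (e.trans hz)
        exact this ▸ hvm
    obtain ⟨i, hi⟩ := mem_zpowers_iff.1 this
    exact mem_zpowers_iff.2 ⟨i, by rw [← hi]; push_cast; rfl⟩
  · rintro u hu _ ⟨m, hm, rfl⟩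
    obtain ⟨i, rfl⟩ := mem_zpowers_iff.1 hm
    obtain ⟨j, hj⟩ := hUpow u hu i
    exact ⟨a ^ j, zpow_mem (mem_zpowers a) j, hj.symm⟩

omit hSA hS hU hUS h

/-- A largest 2-subgroup contains a conjugate of every 2-subgroup. -/
theorem conj_into (X R : Subgroup G) (hRX : R ≤ X) (hR : IsPGroup 2 R)
    (hmax : ∀ T : Subgroup G, T ≤ X → IsPGroup 2 T → Nat.card T ≤ Nat.card R) (T : Subgroup G)
    (hT : T ≤ X) (hT2 : IsPGroup 2 T) : ∃ g ∈ X, ∀ t ∈ T, g * t * g⁻¹ ∈ R := by
  haveI : Fact (Nat.Prime 2) := ⟨Nat.prime_two⟩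
  obtain ⟨Q, hQ⟩ := (hR.comap_of_injective X.subtype X.subtype_injective).exists_le_sylow
  obtain ⟨Q₂, hQ₂⟩ := (hT2.comap_of_injective X.subtype X.subtype_injective).exists_le_sylow
  have hQR : (Q : Subgroup X).map X.subtype = R := by
    have hle : R ≤ (Q : Subgroup X).map X.subtype :=
      fun r hr => ⟨⟨r, hRX hr⟩, hQ (mem_subgroupOf.2 hr), rfl⟩
    exact (eq_of_le_of_card_ge hle (hmax _ (map_subtype_le _) (Q.isPGroup'.map _))).symm
  obtain ⟨g, hg⟩ := MulAction.exists_smul_eq X Q₂ Q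
  refine ⟨g, g.2, fun t ht => ?_⟩
  rw [← hQR]
  refine ⟨g * ⟨t, hT ht⟩ * g⁻¹, ?_, rfl⟩
  rw [SetLike.mem_coe, ← hg, Sylow.coe_subgroup_smul]
  exact ⟨⟨t, hT ht⟩, hQ₂ (mem_subgroupOf.2 ht), rfl⟩

theorem isPGroup_pair {x y : G} (hxy : Commute x y) (hx : x * x = 1) (hy : y * y = 1) :
    IsPGroup 2 (closure ({x, y} : Set G)) := by
  have key : ∀ g ∈ closure ({x, y} : Set G), g * g = 1 ∧ Commute g x ∧ Commute g y := by
    intro g hg
    induction hg using closure_induction with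
    | mem g hg =>
      rcases hg with rfl | rfl
      · exact ⟨hx, Commute.refl _, hxy⟩
      · exact ⟨hy, hxy.symm, Commute.refl _⟩
    | one => exact ⟨one_mul _, Commute.one_left _, Commute.one_left _⟩
    | mul a b ha hb iha ihb =>
      refine ⟨?_, iha.2.1.mul_left ihb.2.1, iha.2.2.mul_left ihb.2.2⟩
      have hab : Commute b a := by
        clear ihb
        induction hb using closure_induction with
        | mem g hg =>
          rcases hg with rfl | rfl
          · exact iha.2.1.symm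
          · exact iha.2.2.symm
        | one => exact Commute.one_left _
        | mul c d _ _ i1 i2 => exact i1.mul_left i2
        | inv c _ i1 => exact i1.inv_left
      rw [hab.mul_mul_mul_comm, iha.1, ihb.1, one_mul]
    | inv a _ iha => exact ⟨by rw [← mul_inv_rev, iha.1, inv_one], iha.2.1.inv_left, iha.2.2.inv_left⟩
  exact fun g => ⟨1, Subtype.ext (by simpa [pow_two] using (key g g.2).1)⟩

variable {M : Subgroup G} {z q : G}

theorem Data.centralizer_outside (D : Data A U S M z q) {b : G} (hb : b ∈ S) (hbM : b ∉ M)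
    (hb2 : b * b = 1) {s : G} (hs : s ∈ S) (hsb : Commute s b) :
    s = 1 ∨ s = z ∨ s = b ∨ s = z * b := by
  have key : ∀ m ∈ M, Commute m b → m = 1 ∨ m = z := by
    intro m hm hmb
    rcases D.q_gen m hm with e | e | e
    · exact Or.inl e
    · exact Or.inr e
    · exfalso
      obtain ⟨i, rfl⟩ := mem_zpowers_iff.1 e
      have h1 := D.q_inv b hb hbM
      rw [← (hmb.zpow_left i).eq, mul_inv_cancel_right] at h1
      exact D.z_ne (by rw [← D.q_sq]; nth_rw 1 [h1]; exact inv_mul_cancel _)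
  by_cases hsM : s ∈ M
  · rcases key s hsM hsb with e | e
    · exact Or.inl e
    · exact Or.inr (Or.inl e)
  · rcases key (s * b) (D.two s hs hsM b hb hbM) (hsb.mul_left (Commute.refl b)) with e | e
    · exact Or.inr (Or.inr (Or.inl (by
        rw [eq_inv_of_mul_eq_one_left e, inv_eq_of_mul_eq_one_right hb2])))
    · exact Or.inr (Or.inr (Or.inr (by rw [← e, mul_assoc, hb2, mul_one])))

/-- A four-group whose involutions centralise subgroups of rank at most one only normalises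
perfect groups of rank at most one. -/
theorem rank_one (hU : IsKleinFour U) (hUA : U ≤ normalizer (A : Set G))
    (hperf : ∀ φ : ↥A →* ℤˣ, φ = 1) (h : OneInvolCentral A U) :
    ∀ x ∈ A, ∀ y ∈ A, Commute x y → x * x = 1 → y * y = 1 → x ≠ 1 → y ≠ 1 → x = y := by
  intro x₀ hx₀ y₀ hy₀ hc₀ hx2 hy2 hx1 hy1
  by_contra hne₀
  haveI : Fact (Nat.Prime 2) := ⟨Nat.prime_two⟩
  obtain ⟨S, hSA, hS, hUS, hmax⟩ :=
    exists_sylow A U (IsPGroup.of_card (n := 2) (by rw [IsKleinFour.card_four]; norm_num)) hUA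
  -- move the two involutions into `S`
  obtain ⟨k, hkA, hk⟩ := conj_into A S hSA hS hmax _
    ((closure_le _).2 (Set.insert_subset hx₀ (Set.singleton_subset_iff.2 hy₀)))
    (isPGroup_pair hc₀ hx2 hy2)
  set x := k * x₀ * k⁻¹ with hxd
  set y := k * y₀ * k⁻¹ with hyd
  have hxS : x ∈ S := hk x₀ (subset_closure (Or.inl rfl))
  have hyS : y ∈ S := hk y₀ (subset_closure (Or.inr rfl))
  have hxy : Commute x y := hc₀.map (MulAut.conj k).toMonoidHom
  have hx2' : x * x = 1 := by rw [hxd, conj_mul, hx2, mul_one, mul_inv_cancel]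
  have hy2' : y * y = 1 := by rw [hyd, conj_mul, hy2, mul_one, mul_inv_cancel]
  have hne : x ≠ y := fun e => hne₀ (mul_left_cancel (mul_right_cancel e))
  obtain ⟨M, z, q, D⟩ := exists_data hSA hS hU hUS h hxS hyS hxy hx2' hy2'
    (fun e => hx1 (conj_eq_one_iff.1 e)) (fun e => hy1 (conj_eq_one_iff.1 e)) hne
  -- an involution outside
  obtain ⟨b, hbS, hbM, hb2⟩ : ∃ b ∈ S, b ∉ M ∧ b * b = 1 := by
    by_cases hxM : x ∈ M
    · refine ⟨y, hyS, fun hyM => hne ?_, hy2'⟩
      rw [(D.invol x hxM hx2').resolve_left (fun e => hx1 (conj_eq_one_iff.1 e)),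
        (D.invol y hyM hy2').resolve_left (fun e => hy1 (conj_eq_one_iff.1 e))]
    · exact ⟨x, hxS, hxM, hx2'⟩
  have hzM : z ∈ M := D.q_sq ▸ mul_mem D.q_mem D.q_mem
  have hzA : z ∈ A := hSA (D.le hzM)
  have hbA : b ∈ A := hSA hbS
  have hqA : q ∈ A := hSA (D.le D.q_mem)
  have hz2 : z * z = 1 := by
    have h1 := D.q_inv b hbS hbM
    have h2 : b * z * b⁻¹ = z⁻¹ := by
      rw [← D.q_sq, ← conj_mul, h1, mul_inv_rev]
    rw [← (D.z_cent b hbS).eq, mul_inv_cancel_right] at h2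
    exact mul_eq_one_iff_eq_inv.2 h2
  have hb1 : b ≠ 1 := fun e => hbM (e ▸ one_mem M)
  have hzb : z ≠ b := fun e => hbM (e ▸ hzM)
  -- fusion of `b` and `z`
  obtain ⟨g, hgA, hgb⟩ : ∃ g ∈ A, g * b * g⁻¹ = z := by
    by_contra hcon
    push Not at hcon
    have hMS : M.relIndex S = 2 := by
      refine relIndex_eq_two_iff.2 ⟨b, hbS, fun c hc => ?_⟩
      by_cases hcM : c ∈ M
      · exact Or.inr ⟨hcM, fun hm => hbM (by simpa using mul_mem (inv_mem hcM) hm)⟩
      · exact Or.inl ⟨D.two c hc hcM b hbS hbM, hcM⟩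
    have hodd : Odd (S.relIndex A) := by
      obtain ⟨Q, hQ⟩ := (hS.comap_of_injective A.subtype A.subtype_injective).exists_le_sylow
      have hle : S ≤ (Q : Subgroup A).map A.subtype :=
        fun r hr => ⟨⟨r, hSA hr⟩, hQ (mem_subgroupOf.2 hr), rfl⟩
      have hQS : (Q : Subgroup A).map A.subtype ≤ S :=
        (eq_of_le_of_card_ge hle (hmax _ (map_subtype_le _) (Q.isPGroup'.map _))).ge
      have hQe : (Q : Subgroup A) = S.subgroupOf A :=
        le_antisymm (fun r hr => mem_subgroupOf.2 (hQS ⟨r, hr, rfl⟩)) hQ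
      rw [relIndex, ← hQe, Nat.odd_iff, ← Nat.two_dvd_ne_zero]
      exact Q.not_dvd_index
    have hidx : (M.subgroupOf A).index = 2 ^ (0 + 1) * S.relIndex A := by
      rw [zero_add, pow_one, ← hMS, relIndex_mul_relIndex _ _ _ D.le hSA]
      rfl
    have hord : orderOf (⟨b, hbA⟩ : A) = 2 ^ (0 + 1) := by
      rw [zero_add, pow_one]
      exact orderOf_eq_prime (by rw [pow_two]; exact Subtype.ext hb2)
        (fun e => hb1 (congrArg Subtype.val e))
    have h1 := TransferDihedral.cosetSign_eq_neg_one (M.subgroupOf A) hord hidx hodd fun g hg => by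
      rw [pow_zero, pow_one, mem_subgroupOf] at hg
      have hg' : (g : G) * b * (g : G)⁻¹ ∈ M := hg
      rcases D.invol _ hg' (by rw [conj_mul, hb2, mul_one, mul_inv_cancel]) with e | e
      · exact hb1 (conj_eq_one_iff.1 e)
      · exact hcon g g.2 e
    rw [hperf (TransferDihedral.cosetSign (M.subgroupOf A))] at h1
    rw [MonoidHom.one_apply] at h1
    exact absurd h1 (by decide)
  -- an element fixing `b` and moving `z` to `b * z`
  obtain ⟨t, htA, htb, htz⟩ : ∃ t ∈ A, t * b * t⁻¹ = b ∧ t * z * t⁻¹ = b * z := by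
    set z' := g * z * g⁻¹ with hz'
    have hz'A : z' ∈ A := mul_mem (mul_mem hgA hzA) (inv_mem hgA)
    have hz'z : Commute z' z := by
      rw [← hgb]
      exact (D.z_cent b hbS).map (MulAut.conj g).toMonoidHom
    have hz'2 : z' * z' = 1 := by rw [hz', conj_mul, hz2, mul_one, mul_inv_cancel]
    have hSz : S ≤ A ⊓ centralizer ({z} : Set G) := le_inf hSA fun s hs =>
      mem_centralizer_singleton_iff.2 (D.z_cent s hs).eq.symm
    obtain ⟨p, hp, hp'⟩ := conj_into (A ⊓ centralizer ({z} : Set G)) S hSz hS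
      (fun T hT => hmax T (hT.trans inf_le_left)) (closure ({z', z'} : Set G))
      ((closure_le _).2 (by
        rw [Set.insert_subset_iff, Set.singleton_subset_iff, and_self]
        exact ⟨hz'A, mem_centralizer_singleton_iff.2 hz'z.eq⟩))
      (isPGroup_pair (Commute.refl _) hz'2 hz'2)
    have hb'S : p * z' * p⁻¹ ∈ S := hp' z' (subset_closure (Or.inl rfl))
    set b' := p * z' * p⁻¹ with hb'
    have hpz : p * z * p⁻¹ = z := mul_inv_eq_iff_eq_mul.2 (mem_centralizer_singleton_iff.1 hp.2)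
    have hb'M : b' ∉ M := fun hm => by
      rcases D.invol b' hm (by rw [hb', conj_mul, hz'2, mul_one, mul_inv_cancel]) with e | e
      · exact D.z_ne (conj_eq_one_iff.1 (conj_eq_one_iff.1 e))
      · refine hzb (?_ : z = b)
        have h2 : z' = z := by
          apply mul_left_cancel (a := p)
          apply mul_right_cancel (b := p⁻¹)
          exact e.trans hpz.symm
        exact mul_left_cancel (mul_right_cancel (h2.trans hgb.symm))
    have hqb : q * b' * q⁻¹ = z * b' := by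
      have h1 : b' * q⁻¹ * b'⁻¹ = q := by
        have := congrArg (·⁻¹) (D.q_inv b' hb'S hb'M)
        simpa [mul_assoc] using this
      calc q * b' * q⁻¹ = q * (b' * q⁻¹ * b'⁻¹) * b' := by group
        _ = z * b' := by rw [h1, D.q_sq]
    have e1 : p * g * b * (p * g)⁻¹ = z := by
      rw [show p * g * b * (p * g)⁻¹ = p * (g * b * g⁻¹) * p⁻¹ by group, hgb, hpz]
    have e2 : p * g * z * (p * g)⁻¹ = b' := by rw [hb', hz']; group
    refine ⟨(p * g)⁻¹ * q * (p * g), mul_mem (mul_mem (inv_mem (mul_mem hp.1 hgA)) hqA)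
      (mul_mem hp.1 hgA), ?_, ?_⟩
    · calc (p * g)⁻¹ * q * (p * g) * b * ((p * g)⁻¹ * q * (p * g))⁻¹
          = (p * g)⁻¹ * (q * (p * g * b * (p * g)⁻¹) * q⁻¹) * (p * g) := by group
        _ = (p * g)⁻¹ * (p * g * b * (p * g)⁻¹) * (p * g) := by
          rw [e1, ← (D.z_cent q (D.le D.q_mem)).eq, mul_inv_cancel_right]
        _ = b := by group
    · calc (p * g)⁻¹ * q * (p * g) * z * ((p * g)⁻¹ * q * (p * g))⁻¹
          = (p * g)⁻¹ * (q * (p * g * z * (p * g)⁻¹) * q⁻¹) * (p * g) := by group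
        _ = (p * g)⁻¹ * ((p * g * b * (p * g)⁻¹) * (p * g * z * (p * g)⁻¹)) * (p * g) := by
          rw [e2, hqb, e1]
        _ = b * z := by group
  -- an involution of `U` fixing `q`
  obtain ⟨u, hu, hu1, huq⟩ : ∃ u ∈ U, u ≠ 1 ∧ u * q * u⁻¹ = q := by
    by_contra hcon
    push Not at hcon
    have hinv : ∀ u ∈ U, u ≠ 1 → u * q * u⁻¹ = q⁻¹ := fun u hu hu1 =>
      (D.q_U u hu).resolve_left (hcon u hu hu1)
    haveI : Nontrivial U := Finite.one_lt_card_iff_nontrivial.mp (by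
      rw [IsKleinFour.card_four]; norm_num)
    obtain ⟨⟨u, hu⟩, hu1⟩ := exists_ne (1 : U)
    have hu1' : u ≠ 1 := fun e => hu1 (Subtype.ext e)
    obtain ⟨v, hv, hv1, huv⟩ : ∃ v ∈ U, v ≠ 1 ∧ u * v ≠ 1 := by
      by_contra hno
      push Not at hno
      have hle : U ≤ zpowers u := fun v hv => by
        by_cases hv1 : v = 1
        · exact hv1 ▸ one_mem _
        · rw [← inv_eq_of_mul_eq_one_right (hno v hv hv1)]
          exact inv_mem (mem_zpowers u)
      have := card_le_of_le hle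
      rw [IsKleinFour.card_four, Nat.card_zpowers] at this
      have h2' : orderOf u ≤ 2 := orderOf_le_of_pow_eq_one two_pos (by
        rw [pow_two]; exact congrArg Subtype.val (IsKleinFour.mul_self (⟨u, hu⟩ : U)))
      omega
    refine hcon (u * v) (mul_mem hu hv) huv ?_
    rw [show u * v * q * (u * v)⁻¹ = u * (v * q * v⁻¹) * u⁻¹ by group, hinv v hv hv1,
      ← conj_inv, hinv u hu hu1', inv_inv]
  have hu2 : u * u = 1 := congrArg Subtype.val (IsKleinFour.mul_self (⟨u, hu⟩ : U))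
  have hub : u * b * u⁻¹ = b * z := by
    have hbuS : u * b * u⁻¹ ∈ S := (mem_normalizer_iff.1 (hUS hu) b).1 hbS
    have huu : ∀ m, u * (u * m * u⁻¹) * u⁻¹ = m := fun m => by
      rw [show u * (u * m * u⁻¹) * u⁻¹ = (u * u) * m * (u * u)⁻¹ by group, hu2]; group
    have hbuM : u * b * u⁻¹ ∉ M := fun hm => hbM (huu b ▸ D.M_U u hu _ hm)
    set m := b * (u * b * u⁻¹) with hm
    have hmM : m ∈ M := D.two b hbS hbM _ hbuS hbuM
    have hbm : u * b * u⁻¹ = b * m := by rw [hm, ← mul_assoc, hb2, one_mul]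
    have hum : u * m * u⁻¹ = m⁻¹ := by
      rw [hm, ← conj_mul, huu, mul_inv_rev,
        show (u * b * u⁻¹)⁻¹ = u * b⁻¹ * u⁻¹ by group, inv_eq_of_mul_eq_one_right hb2]
    rcases D.q_gen m hmM with e | e | e
    · exfalso
      rw [e, mul_one] at hbm
      exact hzb (h u hu hu1 z hzA b hbA (D.z_cent b hbS) hz2 hb2 D.z_ne hb1 (D.z_U u hu)
        (mul_inv_eq_iff_eq_mul.1 hbm).symm)
    · rw [hbm, e]
    · exfalso
      obtain ⟨i, hi⟩ := mem_zpowers_iff.1 e
      have h1 : u * m ^ i * u⁻¹ = (m ^ i)⁻¹ := by rw [← conj_zpow, hum, inv_zpow]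
      rw [hi, huq] at h1
      exact D.z_ne (by rw [← D.q_sq]; nth_rw 1 [h1]; exact inv_mul_cancel _)
  set w := u * q with hw
  have huqc : Commute u q := mul_inv_eq_iff_eq_mul.1 huq
  have hwz : w * w = z := by rw [hw, huqc.symm.mul_mul_mul_comm, hu2, one_mul, D.q_sq]
  have hwzc : Commute w z := by rw [← hwz]; exact (Commute.refl w).mul_right (Commute.refl w)
  have hwb : Commute w b := by
    refine mul_inv_eq_iff_eq_mul.1 ?_
    have h1 : b * q⁻¹ * b⁻¹ = q := by
      have := congrArg (·⁻¹) (D.q_inv b hbS hbM)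
      simpa [mul_assoc] using this
    calc w * b * w⁻¹ = u * (q * (b * q⁻¹ * b⁻¹) * b) * u⁻¹ := by rw [hw]; group
      _ = (u * z * u⁻¹) * (u * b * u⁻¹) := by rw [h1, D.q_sq, conj_mul]
      _ = z * (b * z) := by
        rw [hub, ← (D.z_U u hu).eq, mul_inv_cancel_right]
      _ = b := by rw [← mul_assoc, (D.z_cent b hbS).eq, mul_assoc, hz2, mul_one]
  have hwA : ∀ a ∈ A, w⁻¹ * a * w ∈ A := fun a ha => by
    have hwn : w ∈ normalizer (A : Set G) := mul_mem (hUA hu) (le_normalizer hqA)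
    simpa using (mem_normalizer_iff.1 (inv_mem hwn) a).1 ha
  -- the centraliser of the four-group
  set X := A ⊓ centralizer ({z, b} : Set G) with hX
  have hmemX : ∀ c, c ∈ X ↔ c ∈ A ∧ Commute z c ∧ Commute b c := fun c => by
    rw [hX, mem_inf, mem_centralizer_iff]
    simp [commute_iff_eq]
  have hsmall : ∀ R : Subgroup G, R ≤ X → IsPGroup 2 R → z ∈ R → b ∈ R →
      ∀ r ∈ R, r = 1 ∨ r = z ∨ r = b ∨ r = z * b := by
    intro R hR hR2 hzR hbR r hr
    obtain ⟨j, -, hj⟩ := conj_into A S hSA hS hmax R (hR.trans inf_le_left) hR2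
    obtain ⟨-, hrz, hrb⟩ := (hmemX r).1 (hR hr)
    set z₁ := j * z * j⁻¹ with hz₁
    set b₁ := j * b * j⁻¹ with hb₁
    have hback : ∀ a c : G, j * a * j⁻¹ = j * c * j⁻¹ → a = c := fun a c e =>
      mul_left_cancel (mul_right_cancel e)
    have hz₁2 : z₁ * z₁ = 1 := by rw [hz₁, conj_mul, hz2, mul_one, mul_inv_cancel]
    have hb₁2 : b₁ * b₁ = 1 := by rw [hb₁, conj_mul, hb2, mul_one, mul_inv_cancel]
    have hrz' : Commute (j * r * j⁻¹) z₁ := hrz.symm.map (MulAut.conj j).toMonoidHom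
    have hrb' : Commute (j * r * j⁻¹) b₁ := hrb.symm.map (MulAut.conj j).toMonoidHom
    have hzb' : Commute z₁ b₁ := (D.z_cent b hbS).map (MulAut.conj j).toMonoidHom
    have hzb'' : j * (z * b) * j⁻¹ = z₁ * b₁ := (conj_mul).symm
    by_cases hzM1 : z₁ ∈ M
    · have hz₁z : z₁ = z :=
        (D.invol _ hzM1 hz₁2).resolve_left (fun e => D.z_ne (conj_eq_one_iff.1 e))
      have hbM1 : b₁ ∉ M := fun hm => hzb (hback z b (show z₁ = b₁ by
        rw [hz₁z, (D.invol _ hm hb₁2).resolve_left (fun e => hb1 (conj_eq_one_iff.1 e))]))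
      rcases D.centralizer_outside (hj b hbR) hbM1 hb₁2 (hj r hr) hrb' with e | e | e | e
      · exact Or.inl (conj_eq_one_iff.1 e)
      · exact Or.inr (Or.inl (hback _ _ (e.trans hz₁z.symm)))
      · exact Or.inr (Or.inr (Or.inl (hback _ _ e)))
      · exact Or.inr (Or.inr (Or.inr (hback _ _ (by rw [e, hzb'', hz₁z]))))
    · have hcase := D.centralizer_outside (hj z hzR) hzM1 hz₁2 (hj b hbR) hzb'.symm
      rcases hcase with e | e | e | e
      · exact absurd (conj_eq_one_iff.1 e) hb1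
      · rcases D.centralizer_outside (hj z hzR) hzM1 hz₁2 (hj r hr) hrz' with f | f | f | f
        · exact Or.inl (conj_eq_one_iff.1 f)
        · exact Or.inr (Or.inr (Or.inl (hback _ _ (f.trans e.symm))))
        · exact Or.inr (Or.inl (hback _ _ f))
        · exact Or.inr (Or.inr (Or.inr (hback _ _ (by rw [f, hzb'', hb₁, e, (D.z_cent _ (hj z hzR)).eq]))))
      · exact absurd (hback _ _ e).symm hzb
      · have hz' : z = z₁ * b₁ := by
          rw [hb₁, e, ← mul_assoc, ← (D.z_cent _ (hj z hzR)).eq, mul_assoc, hz₁2, mul_one]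
        rcases D.centralizer_outside (hj z hzR) hzM1 hz₁2 (hj r hr) hrz' with f | f | f | f
        · exact Or.inl (conj_eq_one_iff.1 f)
        · exact Or.inr (Or.inr (Or.inr (hback _ _ (by rw [f, hzb'', ← hz']))))
        · exact Or.inr (Or.inl (hback _ _ f))
        · exact Or.inr (Or.inr (Or.inl (hback _ _ (f.trans e.symm))))
  have hzX : z ∈ X := (hmemX z).2 ⟨hzA, Commute.refl z, (D.z_cent b hbS).symm⟩
  have hbX : b ∈ X := (hmemX b).2 ⟨hbA, D.z_cent b hbS, Commute.refl b⟩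
  obtain ⟨P, hP⟩ := ((isPGroup_pair (D.z_cent b hbS) hz2 hb2).comap_of_injective X.subtype
    X.subtype_injective).exists_le_sylow
  have hzP : (⟨z, hzX⟩ : X) ∈ P := hP (mem_subgroupOf.2 (subset_closure (Or.inl rfl)))
  have hbP : (⟨b, hbX⟩ : X) ∈ P := hP (mem_subgroupOf.2 (subset_closure (Or.inr rfl)))
  have hPel : ∀ r ∈ (P : Subgroup X), (r : G) = 1 ∨ (r : G) = z ∨ (r : G) = b ∨ (r : G) = z * b :=
    fun r hr => hsmall _ (map_subtype_le _) (P.isPGroup'.map _) ⟨_, hzP, rfl⟩ ⟨_, hbP, rfl⟩ r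
      ⟨r, hr, rfl⟩
  have hPcent : ∀ r ∈ (P : Subgroup X), ∀ c : X, Commute r c := by
    intro r hr c
    obtain ⟨-, hcz, hcb⟩ := (hmemX c).1 c.2
    refine Subtype.ext (?_ : Commute (r : G) c)
    rcases hPel r hr with e | e | e | e <;> rw [e]
    · exact Commute.one_left _
    · exact hcz
    · exact hcb
    · exact hcz.mul_left hcb
  have hP' : normalizer ((P : Subgroup X) : Set X) ≤ centralizer ((P : Subgroup X) : Set X) :=
    fun c _ => mem_centralizer_iff.2 fun r hr => (hPcent r hr c).eq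
  haveI : IsMulCommutative (P : Subgroup X) :=
    ⟨⟨fun r r' => Subtype.ext (hPcent r r.2 r').eq⟩⟩
  set τ := MonoidHom.transferSylow P hP' with hτ
  have hcompl : IsComplement' τ.ker (P : Subgroup X) := MonoidHom.ker_transferSylow_isComplement' P hP'
  have hkodd : ¬ 2 ∣ Nat.card τ.ker := MonoidHom.not_dvd_card_ker_transferSylow P hP'
  have hsqP : ∀ r : (P : Subgroup X), r * r = 1 := by
    intro r
    refine Subtype.ext (Subtype.ext ?_)
    show ((r : X) : G) * ((r : X) : G) = 1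
    rcases hPel r r.2 with e | e | e | e <;> rw [e]
    · exact one_mul 1
    · exact hz2
    · exact hb2
    · rw [(D.z_cent b hbS).symm.mul_mul_mul_comm, hz2, hb2, one_mul]
  -- the final contradiction
  set c := w⁻¹ * t * w * t⁻¹ with hc
  have hwX : ∀ d ∈ X, w⁻¹ * d * w ∈ X := by
    intro d hd
    obtain ⟨hdA, hdz, hdb⟩ := (hmemX d).1 hd
    exact (hmemX _).2 ⟨hwA d hdA, (hwzc.symm.inv_right.mul_right hdz).mul_right hwzc.symm,
      (hwb.symm.inv_right.mul_right hdb).mul_right hwb.symm⟩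
  have htwt : ∀ a, Commute w (t⁻¹ * a * t) → Commute (t * w * t⁻¹) a := fun a ha => by
    have := ha.map (MulAut.conj t).toMonoidHom
    simpa [mul_assoc] using this
  have hcX : c ∈ X := by
    have hce : c = w⁻¹ * (t * w * t⁻¹) := by rw [hc]; group
    have h1 : Commute (t * w * t⁻¹) b := htwt b (by
      have : t⁻¹ * b * t = b := by
        calc t⁻¹ * b * t = t⁻¹ * (t * b * t⁻¹) * t := by rw [htb]
          _ = b := by group
      rw [this]; exact hwb)
    have h2 : Commute (t * w * t⁻¹) z := htwt z (by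
      have : t⁻¹ * z * t = b * z := by
        calc t⁻¹ * z * t = t⁻¹ * (b * (b * z)) * t := by rw [← mul_assoc b, hb2, one_mul]
          _ = t⁻¹ * ((t * b * t⁻¹) * (t * z * t⁻¹)) * t := by rw [htb, htz]
          _ = b * z := by group
      rw [this]; exact hwb.mul_right hwzc)
    exact (hmemX c).2 ⟨mul_mem (hwA t htA) (inv_mem htA), by
      rw [hce]; exact hwzc.symm.inv_right.mul_right h2.symm, by
      rw [hce]; exact hwb.symm.inv_right.mul_right h1.symm⟩
  have hprod : (⟨_, hwX c hcX⟩ : X) * ⟨c, hcX⟩ = ⟨b, hbX⟩ := by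
    refine Subtype.ext (?_ : w⁻¹ * c * w * c = b)
    have h1 : t * w * t⁻¹ * (t * w * t⁻¹) = b * z := by rw [conj_mul, hwz, htz]
    have h2 : t * w * t⁻¹ = w * c := by rw [hc]; group
    rw [h2, show w * c * (w * c) = w * w * (w⁻¹ * c * w * c) by group, hwz,
      ← (D.z_cent b hbS).eq] at h1
    exact mul_left_cancel h1
  obtain ⟨⟨⟨k₀, hk₀⟩, ⟨r, hr⟩⟩, hkr⟩ := hcompl.2 ⟨c, hcX⟩
  have hτk : τ ⟨_, hwX _ k₀.2⟩ = 1 := by
    have hpow : (⟨_, hwX _ k₀.2⟩ : X) ^ Nat.card τ.ker = 1 := by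
      refine Subtype.ext ?_
      show (w⁻¹ * (k₀ : G) * w) ^ Nat.card τ.ker = 1
      have h1 : k₀ ^ Nat.card τ.ker = 1 :=
        congrArg Subtype.val (pow_card_eq_one' (x := (⟨k₀, hk₀⟩ : τ.ker)))
      rw [show w⁻¹ * (k₀ : G) * w = w⁻¹ * k₀ * (w⁻¹)⁻¹ by rw [inv_inv], conj_pow,
        show (k₀ : G) ^ Nat.card τ.ker = 1 from congrArg Subtype.val h1, mul_one, mul_inv_cancel]
    have h2 : τ ⟨_, hwX _ k₀.2⟩ ^ Nat.card τ.ker = 1 := by rw [← map_pow, hpow, map_one]
    have h3 : τ ⟨_, hwX _ k₀.2⟩ ^ 2 = 1 := by rw [pow_two, hsqP]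
    have hcop : Nat.gcd (Nat.card τ.ker) 2 = 1 :=
      ((Nat.Prime.coprime_iff_not_dvd Nat.prime_two).2 hkodd).symm
    have := pow_gcd_eq_one.2 ⟨h2, h3⟩
    rwa [hcop, pow_one] at this
  have hwr : w⁻¹ * (r : G) * w = r := by
    have : Commute w (r : G) := by
      rcases hPel r hr with e | e | e | e <;> rw [e]
      · exact Commute.one_right _
      · exact hwzc
      · exact hwb
      · exact hwzc.mul_right hwb
    rw [mul_assoc, ← this.eq, inv_mul_cancel_left]
  have hsplit : (⟨_, hwX c hcX⟩ : X) = ⟨_, hwX _ k₀.2⟩ * r := by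
    refine Subtype.ext ?_
    show w⁻¹ * c * w = w⁻¹ * (k₀ : G) * w * r
    have : (k₀ : G) * r = c := congrArg Subtype.val hkr
    rw [← this]
    calc w⁻¹ * ((k₀ : G) * r) * w = (w⁻¹ * k₀ * w) * (w⁻¹ * r * w) := by group
      _ = _ := by rw [hwr]
  have hτb : τ ⟨b, hbX⟩ = 1 := by
    rw [← hprod, hsplit, show (⟨c, hcX⟩ : X) = k₀ * r from hkr.symm, map_mul, map_mul, map_mul,
      hτk, MonoidHom.mem_ker.1 hk₀, one_mul, hsqP]
  have hbk : (⟨b, hbX⟩ : X) ∈ τ.ker ⊓ (P : Subgroup X) := ⟨MonoidHom.mem_ker.2 hτb, hbP⟩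
  rw [hcompl.disjoint.eq_bot, mem_bot] at hbk
  exact hb1 (congrArg Subtype.val hbk)

end Cfsg.Agent.Invol.FourRankOne
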