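import Cfsg.Prelude
import Cfsg.Agent.Lib.Grp.Cores
import Cfsg.Agent.Lib.Grp.Frattini
import Cfsg.Agent.Lib.Grp.CoprimeAbelian

/-!
A normal four-group of a Sylow 2-subgroup in a group of characteristic 2 type centralizes the odd subgroups it normalizes.

Each nontrivial element of the four-group has in its centralizer a second element of the four-group lying in the 2-core,
because an element moving the 2-core only by the central involution lies in the 2-core.
-/

set_option autoImplicit false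

open scoped commutatorElement

namespace Cfsg.Agent.Invol.FourOdd

open Subgroup

universe u

variable {G : Type u} [Group G] [Finite G]

/-- An element of a characteristic 2 group moving the 2-core only inside a central subgroup of order at most 2 lies in the core. -/
theorem mem_core {H : Type u} [Group H] [Finite H] (hc : centralizer (Cfsg.pCore 2 H : Set H) ≤ Cfsg.pCore 2 H)
    {x : H} (hx : ∀ g : H, g * x = x * g) (hx2 : x * x = 1) {y : H}
    (hy : ∀ q ∈ Cfsg.pCore 2 H, y * q * y⁻¹ * q⁻¹ = 1 ∨ y * q * y⁻¹ * q⁻¹ = x) : y ∈ Cfsg.pCore 2 H := by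
  have hxi : x⁻¹ = x := inv_eq_of_mul_eq_one_right hx2
  let D : Subgroup H :=
    { carrier := {h | ∀ q ∈ Cfsg.pCore 2 H, h * q * h⁻¹ * q⁻¹ = 1 ∨ h * q * h⁻¹ * q⁻¹ = x}
      one_mem' := fun q _ => Or.inl (by group)
      mul_mem' := by
        intro a b ha hb q hq
        have e : a * b * q * (a * b)⁻¹ * q⁻¹ = a * (b * q * b⁻¹ * q⁻¹) * a⁻¹ * (a * q * a⁻¹ * q⁻¹) := by group
        rw [e]
        rcases hb q hq with h | h <;> rw [h]
        · rw [mul_one, mul_inv_cancel, one_mul]; exact ha q hq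
        · rw [hx a, mul_inv_cancel_right]
          rcases ha q hq with h' | h' <;> rw [h']
          · exact Or.inr (mul_one x)
          · exact Or.inl hx2
      inv_mem' := by
        intro a ha q hq
        have hq' : a⁻¹ * q * a ∈ Cfsg.pCore 2 H := by
          simpa using (Normal.conj_mem inferInstance q hq a⁻¹ : a⁻¹ * q * a⁻¹⁻¹ ∈ Cfsg.pCore 2 H)
        have e : a * (a⁻¹ * q * a) * a⁻¹ * (a⁻¹ * q * a)⁻¹ = (a⁻¹ * q * a⁻¹⁻¹ * q⁻¹)⁻¹ := by group
        rcases ha _ hq' with h | h <;> rw [e] at h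
        · exact Or.inl (inv_eq_one.mp h)
        · exact Or.inr (by rw [← inv_inv (a⁻¹ * q * a⁻¹⁻¹ * q⁻¹), h, hxi]) }
  have hmem : ∀ {h : H}, h ∈ D ↔ ∀ q ∈ Cfsg.pCore 2 H, h * q * h⁻¹ * q⁻¹ = 1 ∨ h * q * h⁻¹ * q⁻¹ = x := Iff.rfl
  have hDn : D.Normal := ⟨fun d hd g => hmem.mpr fun q hq => by
    have hq' : g⁻¹ * q * g ∈ Cfsg.pCore 2 H := by
      simpa using (Normal.conj_mem inferInstance q hq g⁻¹ : g⁻¹ * q * g⁻¹⁻¹ ∈ Cfsg.pCore 2 H)
    have e : g * d * g⁻¹ * q * (g * d * g⁻¹)⁻¹ * q⁻¹ = g * (d * (g⁻¹ * q * g) * d⁻¹ * (g⁻¹ * q * g)⁻¹) * g⁻¹ := by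
      group
    rw [e]
    rcases hd _ hq' with h | h <;> rw [h]
    · exact Or.inl (by group)
    · exact Or.inr (by rw [hx g, mul_inv_cancel_right])⟩
  have hDp : IsPGroup 2 D := by
    intro d
    have hd2 : (d : H) * d ∈ Cfsg.pCore 2 H := hc (mem_centralizer_iff.mpr fun q hq => by
      have e : (d : H) * d * q * (d * d : H)⁻¹ * q⁻¹ =
          (d : H) * ((d : H) * q * (d : H)⁻¹ * q⁻¹) * (d : H)⁻¹ * ((d : H) * q * (d : H)⁻¹ * q⁻¹) := by group
      have h1 : (d : H) * d * q * (d * d : H)⁻¹ * q⁻¹ = 1 := by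
        rw [e]
        rcases (hmem.mp d.2) q hq with h | h <;> rw [h]
        · group
        · rw [hx d, mul_inv_cancel_right, hx2]
      have h2 := mul_inv_eq_one.mp h1
      exact (mul_inv_eq_iff_eq_mul.mp h2).symm)
    obtain ⟨k, hk⟩ := (Grp.pCore_isPGroup (p := 2) (G := H)) ⟨_, hd2⟩
    refine ⟨k + 1, Subtype.ext ?_⟩
    have hk' : ((d : H) * d) ^ (2 ^ k) = 1 := congrArg Subtype.val hk
    rw [← pow_two, ← pow_mul, ← pow_succ'] at hk'
    rw [SubgroupClass.coe_pow, hk']; rfl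
  exact Grp.le_pCore hDn hDp (hmem.mpr hy)

/-- The 2-core of a subgroup containing a Sylow 2-subgroup lies in it. -/
theorem core_le_sylow (P : Sylow 2 G) {C : Subgroup G} (h : (P : Subgroup G) ≤ C) :
    (Cfsg.pCore 2 ↥C).map C.subtype ≤ (P : Subgroup G) := by
  haveI : Fact (Nat.Prime 2) := ⟨Nat.prime_two⟩
  refine (Subgroup.map_mono (Grp.pCore_le_sylow (P.subtype h))).trans ?_
  rw [Sylow.coe_subtype, subgroupOf_map_subtype, inf_eq_left.mpr h]

variable (P : Sylow 2 G)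

/-- The core of the centralizer of an element of the four-group normalizes it. -/
theorem conj_mem_four {U : Subgroup G} (hUP : U ≤ (P : Subgroup G))
    (hUn : (P : Subgroup G) ≤ normalizer (U : Set G)) (hsq : ∀ a ∈ U, a * a = 1) (hUc : ∀ a ∈ U, ∀ b ∈ U, a * b = b * a)
    {x z : G} (hU : ∀ a ∈ U, a = 1 ∨ a = x ∨ a = z ∨ a = x * z) (hx : x ∈ U) (hz : z ∈ U) (hx1 : x ≠ 1) (hz1 : z ≠ 1) (hxz : x ≠ z)
    (hzc : z ∈ centralizer ((P : Subgroup G) : Set G))
    (hzu : ∀ w ∈ (P : Subgroup G), w ∈ centralizer ((P : Subgroup G) : Set G) → w * w = 1 → w = 1 ∨ w = z)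
    (hxn : x ∉ centralizer ((P : Subgroup G) : Set G))
    {q : G} (hq : q ∈ (Cfsg.pCore 2 ↥(centralizer ({x} : Set G))).map (centralizer ({x} : Set G)).subtype) :
    q * z * q⁻¹ = z ∨ q * z * q⁻¹ = x * z := by
  haveI : Fact (Nat.Prime 2) := ⟨Nat.prime_two⟩
  obtain ⟨C, hC⟩ : ∃ C, C = centralizer ({x} : Set G) := ⟨_, rfl⟩
  rw [← hC] at hq
  obtain ⟨P0, hP0⟩ : ∃ P0, P0 = (P : Subgroup G) ⊓ C := ⟨_, rfl⟩
  have hxC : ∀ {g : G}, g ∈ C ↔ g * x = x * g := fun {g} => by rw [hC, mem_centralizer_singleton_iff]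
  obtain ⟨s, hsP, hs⟩ : ∃ s ∈ (P : Subgroup G), s * x ≠ x * s := by
    by_contra h
    push Not at h
    exact hxn (mem_centralizer_iff.mpr fun g hg => h g hg)
  have hzP : ∀ g ∈ (P : Subgroup G), g * z = z * g := fun g hg => mem_centralizer_iff.mp hzc g hg
  have hmove : ∀ g ∈ (P : Subgroup G), g * x * g⁻¹ = x ∨ g * x * g⁻¹ = x * z := by
    intro g hg
    rcases hU _ ((mem_normalizer_iff.mp (hUn hg) x).mp hx) with h | h | h | h
    · exact absurd (conj_eq_one_iff.mp h) hx1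
    · exact Or.inl h
    · exfalso
      refine hxz ?_
      have h2 : g⁻¹ * (g * x * g⁻¹) * g = g⁻¹ * z * g := by rw [h]
      rw [mul_assoc g⁻¹ z g, ← hzP g hg, inv_mul_cancel_left] at h2
      simpa [mul_assoc] using h2
    · exact Or.inr h
  have hsx : s * x * s⁻¹ = x * z := (hmove s hsP).resolve_left fun h => hs (mul_inv_eq_iff_eq_mul.mp h)
  have hidx : (P0.subgroupOf (P : Subgroup G)).index = 2 := by
    rw [index_eq_two_iff]
    refine ⟨⟨s, hsP⟩, fun b => ?_⟩
    have hmem : ∀ g ∈ (P : Subgroup G), g ∈ P0 ↔ g * x * g⁻¹ = x := fun g hg => by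
      rw [hP0, mem_inf, hxC, mul_inv_eq_iff_eq_mul]
      exact ⟨fun h => h.2, fun h => ⟨hg, h⟩⟩
    have hne : x * z ≠ x := fun h => hz1 (mul_eq_left.mp h)
    have hbs : ((b : G) * s) * x * ((b : G) * s)⁻¹ = (b : G) * x * (b : G)⁻¹ * z := by
      have : ((b : G) * s) * x * ((b : G) * s)⁻¹ = (b : G) * (s * x * s⁻¹) * (b : G)⁻¹ := by group
      rw [this, hsx, ← mul_assoc, mul_assoc ((b : G) * x) z, ← (show (b : G)⁻¹ * z = z * (b : G)⁻¹ from
        hzP _ ((P : Subgroup G).inv_mem b.2)), ← mul_assoc]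
    rw [mem_subgroupOf, mem_subgroupOf, Subgroup.coe_mul, hmem _ ((P : Subgroup G).mul_mem b.2 hsP), hmem _ b.2, hbs]
    rcases hmove b b.2 with h | h
    · exact Or.inr ⟨h, by rw [h]; exact hne⟩
    · refine Or.inl ⟨?_, by rw [h]; exact hne⟩
      rw [h, mul_assoc, hsq z hz, mul_one]
  obtain ⟨k, hk⟩ : ∃ k, Nat.card ↥(P : Subgroup G) = k := ⟨_, rfl⟩
  have hcard : Nat.card ↥(P : Subgroup G) = Nat.card P0 * 2 := by
    rw [← (P0.subgroupOf (P : Subgroup G)).card_mul_index, hidx,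
      Nat.card_congr (subgroupOfEquivOfLe (hP0 ▸ inf_le_left : P0 ≤ (P : Subgroup G))).toEquiv]
  have hP0C : P0 ≤ C := hP0 ▸ inf_le_right
  obtain ⟨R, hR⟩ : ∃ R : Sylow 2 C, P0.subgroupOf C ≤ (R : Subgroup C) :=
    ((P.2.to_le (hP0 ▸ inf_le_left : P0 ≤ (P : Subgroup G))).comap_subtype (K := C)).exists_le_sylow
  obtain ⟨R', hR'⟩ : ∃ R', R' = (R : Subgroup C).map C.subtype := ⟨_, rfl⟩
  have hP0R : P0 ≤ R' := fun g hg => hR' ▸ ⟨⟨g, hP0C hg⟩, hR hg, rfl⟩
  have hRp : IsPGroup 2 R' := hR' ▸ R.2.map _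
  obtain ⟨P1, hP1⟩ := hRp.exists_le_sylow
  have hRcard : Nat.card R' ≤ Nat.card P0 * 2 := by
    rw [← hcard]
    refine (Nat.le_of_dvd Nat.card_pos (card_dvd_of_le hP1)).trans (le_of_eq ?_)
    rw [P1.card_eq_multiplicity, P.card_eq_multiplicity]
  have hRn : R' ≤ normalizer (P0 : Set G) := by
    have h1 := (P0.subgroupOf R').card_mul_index
    rw [Nat.card_congr (subgroupOfEquivOfLe hP0R).toEquiv] at h1
    have h2 : (P0.subgroupOf R').index ≤ 2 :=
      Nat.le_of_mul_le_mul_left (h1.trans_le hRcard) Nat.card_pos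
    have h3 : (P0.subgroupOf R').index ≠ 0 := index_ne_zero_of_finite
    have hn : (P0.subgroupOf R').Normal := by
      rcases (show (P0.subgroupOf R').index = 1 ∨ (P0.subgroupOf R').index = 2 by omega) with h | h
      · rw [index_eq_one.mp h]; infer_instance
      · exact normal_of_index_eq_two h
    exact (normal_subgroupOf_iff_le_normalizer hP0R).mp hn
  have hqR : q ∈ R' := hR' ▸ Subgroup.map_mono (Grp.pCore_le_sylow R) hq
  have hqn := hRn hqR
  have hzP0 : ∀ g ∈ P0, g * z = z * g := fun g hg => hzP g (hP0 ▸ hg : g ∈ (P : Subgroup G) ⊓ C).1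
  obtain ⟨w, hw⟩ : ∃ w, w = q * z * q⁻¹ := ⟨_, rfl⟩
  have hzP0' : z ∈ P0 := hP0 ▸ ⟨hUP hz, hxC.mpr (hUc z hz x hx)⟩
  have hwP0 : w ∈ P0 := hw ▸ (mem_normalizer_iff.mp hqn z).mp hzP0'
  have hwc : ∀ g ∈ P0, g * w = w * g := fun g hg => by
    have h := hzP0 _ ((mem_normalizer_iff''.mp hqn g).mp hg)
    rw [hw]
    calc g * (q * z * q⁻¹) = q * (q⁻¹ * g * q * z) * q⁻¹ := by group
      _ = q * (z * (q⁻¹ * g * q)) * q⁻¹ := by rw [h]
      _ = q * z * q⁻¹ * g := by group
  have hw2 : w * w = 1 := by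
    rw [hw, show q * z * q⁻¹ * (q * z * q⁻¹) = q * (z * z) * q⁻¹ by group, hsq z hz]; group
  have hP0n : ∀ g ∈ P0, s⁻¹ * g * s ∈ P0 := fun g hg => by
    haveI := normal_of_index_eq_two hidx
    have h := Normal.conj_mem (H := P0.subgroupOf (P : Subgroup G)) inferInstance
      ⟨g, (hP0 ▸ inf_le_left : P0 ≤ (P : Subgroup G)) hg⟩ hg ⟨s⁻¹, (P : Subgroup G).inv_mem hsP⟩
    simpa using (mem_subgroupOf.mp h)
  have hsP0 : s ∉ P0 := fun h => hs (hxC.mp (hP0 ▸ h : s ∈ (P : Subgroup G) ⊓ C).2)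
  have hss : s * s ∈ P0 := by
    have h := mul_self_mem_of_index_two hidx (⟨s, hsP⟩ : ↥(P : Subgroup G))
    exact mem_subgroupOf.mp h
  have hdec : ∀ g ∈ (P : Subgroup G), g ∈ P0 ∨ g * s ∈ P0 := fun g hg => by
    by_cases h : g ∈ P0
    · exact Or.inl h
    · have := (mul_mem_iff_of_index_two hidx (a := (⟨g, hg⟩ : ↥(P : Subgroup G))) (b := ⟨s, hsP⟩)).mpr
        (iff_of_false (fun h' => h (mem_subgroupOf.mp h')) (fun h' => hsP0 (mem_subgroupOf.mp h')))
      exact Or.inr (mem_subgroupOf.mp this)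
  have key : ∀ v ∈ P0, (∀ g ∈ P0, g * v = v * g) → v * v = 1 → v * (s * v * s⁻¹) = 1 → v = 1 ∨ v = z := by
    intro v hv hvc hv2 h
    have hvs : s * v = v * s := by
      rw [mul_eq_one_iff_eq_inv] at h
      have : v⁻¹ = v := inv_eq_of_mul_eq_one_right hv2
      have h' : s * v * s⁻¹ = v := by
        have h3 := congrArg Inv.inv h
        rw [inv_inv, this] at h3
        exact h3.symm
      exact mul_inv_eq_iff_eq_mul.mp h'
    refine hzu v (hP0 ▸ hv : v ∈ (P : Subgroup G) ⊓ C).1 (mem_centralizer_iff.mpr fun g hg => ?_) hv2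
    rcases hdec g hg with h1 | h1
    · exact hvc g h1
    · have := hvc _ h1
      rw [mul_assoc, hvs, ← mul_assoc, ← mul_assoc] at this
      exact mul_right_cancel this
  have hc' : ∀ g ∈ P0, g * (s * w * s⁻¹) = s * w * s⁻¹ * g := fun g hg => by
    calc g * (s * w * s⁻¹) = s * (s⁻¹ * g * s * w) * s⁻¹ := by group
      _ = s * (w * (s⁻¹ * g * s)) * s⁻¹ := by rw [hwc _ (hP0n g hg)]
      _ = s * w * s⁻¹ * g := by group
  obtain ⟨a, ha⟩ : ∃ a, a = w * (s * w * s⁻¹) := ⟨_, rfl⟩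
  have hwP : w ∈ (P : Subgroup G) := (hP0 ▸ hwP0 : w ∈ (P : Subgroup G) ⊓ C).1
  have hfix : s * a * s⁻¹ = a := by
    rw [ha]
    have h1 := hwc _ hss
    calc s * (w * (s * w * s⁻¹)) * s⁻¹ = (s * w * s⁻¹) * ((s * s) * w * (s * s)⁻¹) := by group
      _ = (s * w * s⁻¹) * w := by rw [h1, mul_inv_cancel_right]
      _ = w * (s * w * s⁻¹) := (hc' w hwP0).symm
  have hswP0 : s * w * s⁻¹ ∈ P0 := by
    haveI := normal_of_index_eq_two hidx
    exact mem_subgroupOf.mp (Normal.conj_mem (H := P0.subgroupOf (P : Subgroup G)) inferInstance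
      ⟨w, hwP⟩ hwP0 ⟨s, hsP⟩)
  have haP0 : a ∈ P0 := ha ▸ P0.mul_mem hwP0 hswP0
  have hac : ∀ g ∈ P0, g * a = a * g := fun g hg => by
    rw [ha, ← mul_assoc, hwc g hg, mul_assoc, hc' g hg, ← mul_assoc]
  have ha2 : a * a = 1 := by
    rw [ha]
    calc w * (s * w * s⁻¹) * (w * (s * w * s⁻¹)) = w * ((s * w * s⁻¹) * w) * (s * w * s⁻¹) := by group
      _ = w * (w * (s * w * s⁻¹)) * (s * w * s⁻¹) := by rw [hc' w hwP0]
      _ = (w * w) * (s * (w * w) * s⁻¹) := by group
      _ = 1 := by rw [hw2]; group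
  have haP : a = 1 ∨ a = z := by
    refine key a haP0 hac ha2 ?_
    rw [hfix, ha2]
  have hqx : q * x = x * q := by
    obtain ⟨q', -, rfl⟩ := hq
    exact hxC.mp q'.2
  rw [← hw]
  have hwne1 : w ≠ 1 := fun h => hz1 (conj_eq_one_iff.mp (hw ▸ h))
  have hwnex : w ≠ x := fun h => hxz (by
    have h2 : q⁻¹ * (q * z * q⁻¹) * q = q⁻¹ * x * q := by rw [← hw, h]
    rw [mul_assoc q⁻¹ x q, ← hqx, inv_mul_cancel_left] at h2
    simpa [mul_assoc] using h2.symm)
  rcases haP with h | h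
  · rcases key w hwP0 hwc hw2 (ha ▸ h) with h' | h'
    · exact absurd h' hwne1
    · exact Or.inl h'
  · have hxP0 : x ∈ P0 := hP0 ▸ ⟨hUP hx, hxC.mpr rfl⟩
    have hxc0 : ∀ g ∈ P0, g * x = x * g := fun g hg => hxC.mp (hP0C hg)
    have hxw : x * w = w * x := hwc x hxP0
    have hgen : (w * x) * (s * (w * x) * s⁻¹) = 1 := by
      calc (w * x) * (s * (w * x) * s⁻¹) = w * (x * (s * w * s⁻¹)) * (s * x * s⁻¹) := by group
        _ = w * ((s * w * s⁻¹) * x) * (x * z) := by rw [hc' x hxP0, hsx]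
        _ = (w * (s * w * s⁻¹)) * (x * x) * z := by group
        _ = 1 := by rw [← ha, h, hsq x hx, mul_one, hsq z hz]
    have hwx2 : (w * x) * (w * x) = 1 := by
      rw [mul_assoc, ← mul_assoc x w, hxw, mul_assoc w x, ← mul_assoc, hw2, one_mul, hsq x hx]
    rcases key (w * x) (P0.mul_mem hwP0 hxP0)
        (fun g hg => by rw [← mul_assoc, hwc g hg, mul_assoc, hxc0 g hg, mul_assoc]) hwx2 hgen with h' | h'
    · exact absurd (by rw [mul_eq_one_iff_eq_inv.mp h', inv_eq_of_mul_eq_one_right (hsq x hx)]) hwnex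
    · refine Or.inr ?_
      rw [← h', ← mul_assoc, hxw, mul_assoc, hsq x hx, mul_one]

/-- An element in the 2-core of a centralizer centralizes the odd invariant subgroups there. -/
theorem core_centralizes {C K : Subgroup G} (hKodd : Odd (Nat.card K)) {y : G} (hy : y ∈ (Cfsg.pCore 2 ↥C).map C.subtype)
    (hyK : y ∈ normalizer (K : Set G)) {k : G} (hk : k ∈ K) (hkC : k ∈ C) : k * y = y * k := by
  obtain ⟨y', hy', rfl⟩ := hy
  have h1 : y' * (⟨k, hkC⟩ * y'⁻¹ * ⟨k, hkC⟩⁻¹) ∈ Cfsg.pCore 2 ↥C :=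
    mul_mem hy' (Normal.conj_mem inferInstance _ (inv_mem hy') _)
  have h2 : (y' : G) * k * (y' : G)⁻¹ * k⁻¹ ∈ K := K.mul_mem ((mem_normalizer_iff.mp hyK k).mp hk) (K.inv_mem hk)
  obtain ⟨j, hj⟩ := IsPGroup.iff_orderOf.mp (Grp.pCore_isPGroup (p := 2) (G := ↥C)) ⟨_, h1⟩
  rw [Subgroup.orderOf_mk, ← Subgroup.orderOf_coe] at hj
  have e : ((y' * (⟨k, hkC⟩ * y'⁻¹ * ⟨k, hkC⟩⁻¹) : ↥C) : G) = (y' : G) * k * (y' : G)⁻¹ * k⁻¹ := by
    push_cast; group
  rw [e] at hj
  have h3 : orderOf ((y' : G) * k * (y' : G)⁻¹ * k⁻¹) ∣ Nat.card K := Subgroup.orderOf_dvd_natCard K h2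
  rw [hj] at h3
  have hj0 : j = 0 := by
    by_contra h
    exact Nat.not_even_iff_odd.2 hKodd (even_iff_two_dvd.2 ((dvd_pow_self 2 h).trans h3))
  rw [hj0, pow_zero, orderOf_eq_one_iff, mul_inv_eq_one, mul_inv_eq_iff_eq_mul] at hj
  exact hj.symm

theorem char_two_centralizer (h2 : Cfsg.IsCharacteristicTwoType G) {x : G} (hx1 : x ≠ 1) (hx2 : x * x = 1) :
    centralizer (Cfsg.pCore 2 ↥(centralizer ({x} : Set G)) : Set ↥(centralizer ({x} : Set G))) ≤
      Cfsg.pCore 2 ↥(centralizer ({x} : Set G)) := by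
  haveI : Fact (Nat.Prime 2) := ⟨Nat.prime_two⟩
  have hxi : x⁻¹ = x := inv_eq_of_mul_eq_one_right hx2
  have ho : orderOf x = 2 := orderOf_eq_prime (by rw [pow_two, hx2]) hx1
  have hz : ∀ y ∈ Subgroup.zpowers x, y = 1 ∨ y = x := by
    rintro _ ⟨n, rfl⟩
    rcases Int.even_or_odd n with ⟨m, rfl⟩ | ⟨m, rfl⟩
    · left
      show x ^ (m + m) = 1
      rw [zpow_add, ← (Commute.refl x).mul_zpow, hx2, one_zpow]
    · right
      show x ^ (2 * m + 1) = x
      rw [zpow_add, zpow_one, two_mul, zpow_add, ← (Commute.refl x).mul_zpow, hx2, one_zpow, one_mul]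
  have hne : normalizer (Subgroup.zpowers x : Set G) = centralizer ({x} : Set G) := by
    ext g
    rw [mem_centralizer_singleton_iff, mem_normalizer_iff]
    constructor
    · intro h
      rcases hz _ ((h x).mp (Subgroup.mem_zpowers x)) with h1 | h1
      · exact absurd (conj_eq_one_iff.mp h1) hx1
      · exact mul_inv_eq_iff_eq_mul.mp h1
    · intro h y
      constructor <;> intro hy <;> rcases hz _ hy with h1 | h1
      · rw [h1]; simp
      · rw [h1, h, mul_inv_cancel_right]; exact Subgroup.mem_zpowers x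
      · rw [conj_eq_one_iff.mp h1]; exact one_mem _
      · have : y = x := by
          have := congrArg (fun t => g⁻¹ * t * g) h1
          rw [mul_assoc g⁻¹ x g, ← h, inv_mul_cancel_left] at this
          simpa [mul_assoc] using this
        rw [this]; exact Subgroup.mem_zpowers x
  have hp : IsPGroup 2 ↥(Subgroup.zpowers x) := IsPGroup.of_card (n := 1) (by rw [Nat.card_zpowers, ho, pow_one])
  have h := h2.2 _ hp (fun h => hx1 (by have := Subgroup.mem_zpowers x; rwa [h, mem_bot] at this))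
  rw [hne] at h
  exact h

theorem main (h2 : Cfsg.IsCharacteristicTwoType G) (U : Subgroup G) (hUP : U ≤ (P : Subgroup G))
    (hUn : (P : Subgroup G) ≤ normalizer (U : Set G)) (hU4 : IsKleinFour ↥U)
    (hUZ : ¬ IsCyclic ↥((P : Subgroup G) ⊓ centralizer ((P : Subgroup G) : Set G)) →
      U ≤ centralizer ((P : Subgroup G) : Set G))
    (K : Subgroup G) (hK : Odd (Nat.card K)) (hUK : U ≤ normalizer (K : Set G)) :
    U ≤ centralizer (K : Set G) := by
  haveI : Fact (Nat.Prime 2) := ⟨Nat.prime_two⟩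
  haveI := hU4
  have hsq : ∀ a ∈ U, a * a = 1 := fun a ha => congrArg Subtype.val (IsKleinFour.mul_self (⟨a, ha⟩ : ↥U))
  have hUc : ∀ a ∈ U, ∀ b ∈ U, a * b = b * a := fun a ha b hb => by
    have h := hsq _ (U.mul_mem ha hb)
    calc a * b = (a * b)⁻¹ := (inv_eq_of_mul_eq_one_right h).symm
      _ = b⁻¹ * a⁻¹ := mul_inv_rev a b
      _ = b * a := by rw [inv_eq_of_mul_eq_one_right (hsq a ha), inv_eq_of_mul_eq_one_right (hsq b hb)]
  have hfour : ∀ a ∈ U, ∀ b ∈ U, a ≠ 1 → b ≠ 1 → a ≠ b → ∀ c ∈ U, c = 1 ∨ c = a ∨ c = b ∨ c = a * b := by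
    intro a ha b hb ha1 hb1 hab c hc
    classical
    haveI := Fintype.ofFinite ↥U
    have h := IsKleinFour.eq_finset_univ (x := (⟨a, ha⟩ : ↥U)) (y := ⟨b, hb⟩) (fun e => ha1 (congrArg Subtype.val e))
      (fun e => hb1 (congrArg Subtype.val e)) (fun e => hab (congrArg Subtype.val e))
    have h' : (⟨c, hc⟩ : ↥U) ∈ ({⟨a, ha⟩ * ⟨b, hb⟩, ⟨a, ha⟩, ⟨b, hb⟩, 1} : Finset ↥U) := by
      rw [h]; exact Finset.mem_univ _
    simp only [Finset.mem_insert, Finset.mem_singleton, Subtype.ext_iff, Subgroup.coe_mul, Subgroup.coe_one] at h'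
    tauto
  -- every nontrivial element has a partner in the core of its centralizer
  have hpartner : ∀ x ∈ U, x ≠ 1 → ∃ y ∈ U, y ≠ 1 ∧ y ≠ x ∧
      y ∈ (Cfsg.pCore 2 ↥(centralizer ({x} : Set G))).map (centralizer ({x} : Set G)).subtype := by
    intro x hx hx1
    obtain ⟨C, hC⟩ : ∃ C, C = centralizer ({x} : Set G) := ⟨_, rfl⟩
    have hchar : centralizer (Cfsg.pCore 2 ↥C : Set ↥C) ≤ Cfsg.pCore 2 ↥C := by
      subst hC; exact char_two_centralizer h2 hx1 (hsq x hx)
    have hxC : x ∈ C := hC ▸ mem_centralizer_singleton_iff.mpr rfl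
    have hget : ∀ y : G, (hyC : y ∈ C) → (∀ q ∈ (Cfsg.pCore 2 ↥C).map C.subtype,
        y * q * y⁻¹ * q⁻¹ = 1 ∨ y * q * y⁻¹ * q⁻¹ = x) → y ∈ (Cfsg.pCore 2 ↥C).map C.subtype := by
      intro y hyC h
      refine ⟨⟨y, hyC⟩, mem_core hchar (x := ⟨x, hxC⟩) (fun g => Subtype.ext ?_) (Subtype.ext (hsq x hx))
        (fun q hq => (h q ⟨q, hq, rfl⟩).imp (fun e => Subtype.ext e) (fun e => Subtype.ext e)), rfl⟩
      exact mem_centralizer_singleton_iff.mp (hC ▸ g.2)
    obtain ⟨y₀, hy₀, hy₀1, hy₀x⟩ : ∃ y ∈ U, y ≠ 1 ∧ y ≠ x := by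
      by_contra hcon
      push Not at hcon
      have hle : Nat.card ↥U ≤ 2 := by
        classical
        haveI := Fintype.ofFinite ↥U
        rw [Nat.card_eq_fintype_card, ← Finset.card_univ]
        refine (Finset.card_le_card (t := ({1, ⟨x, hx⟩} : Finset ↥U)) fun a _ => ?_).trans Finset.card_le_two
        by_cases ha : (a : G) = 1
        · exact Finset.mem_insert.mpr (Or.inl (Subtype.ext ha))
        · exact Finset.mem_insert.mpr (Or.inr (Finset.mem_singleton.mpr (Subtype.ext (hcon a a.2 ha))))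
      rw [IsKleinFour.card_four] at hle
      omega
    by_cases hcen : U ≤ centralizer ((P : Subgroup G) : Set G)
    · refine ⟨y₀, hy₀, hy₀1, hy₀x, hC ▸ hget y₀ (hC ▸ mem_centralizer_singleton_iff.mpr (hUc _ hy₀ _ hx)) fun q hq => Or.inl ?_⟩
      have hPC : (P : Subgroup G) ≤ C := fun g hg => hC ▸ mem_centralizer_singleton_iff.mpr
        (mem_centralizer_iff.mp (hcen hx) g hg)
      have := mem_centralizer_iff.mp (hcen hy₀) q (core_le_sylow P hPC hq)
      rw [← this, mul_inv_cancel_right, mul_inv_cancel]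
    · have hcyc : IsCyclic ↥((P : Subgroup G) ⊓ centralizer ((P : Subgroup G) : Set G)) :=
        Classical.byContradiction fun h => hcen (hUZ h)
      haveI : Group.IsNilpotent ↥(P : Subgroup G) := P.2.isNilpotent
      haveI : (U.subgroupOf (P : Subgroup G)).Normal := normal_subgroupOf_of_le_normalizer hUn
      have hne : U.subgroupOf (P : Subgroup G) ≠ ⊥ := fun h => hx1 (congrArg Subtype.val
        ((mem_bot (G := ↥(P : Subgroup G))).mp (h ▸ (mem_subgroupOf (h := ⟨x, hUP hx⟩)).mpr hx)))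
      obtain ⟨z', hz', hz'1⟩ := (bot_or_exists_ne_one _).resolve_left (Grp.inf_center_ne_bot _ hne)
      obtain ⟨z, hzdef⟩ : ∃ z, z = (z' : G) := ⟨_, rfl⟩
      have hz : z ∈ U := hzdef ▸ mem_subgroupOf.mp hz'.1
      have hz1 : z ≠ 1 := fun h => hz'1 (Subtype.ext (hzdef.symm.trans h))
      have hzc : z ∈ centralizer ((P : Subgroup G) : Set G) := mem_centralizer_iff.mpr fun g hg =>
        hzdef ▸ congrArg Subtype.val (mem_center_iff.mp hz'.2 ⟨g, hg⟩)
      have hzu : ∀ w ∈ (P : Subgroup G), w ∈ centralizer ((P : Subgroup G) : Set G) → w * w = 1 → w = 1 ∨ w = z := by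
        intro w hw hwc hw2
        by_cases hw1 : w = 1
        · exact Or.inl hw1
        right
        let A := (P : Subgroup G) ⊓ centralizer ((P : Subgroup G) : Set G)
        haveI : IsCyclic ↥A := hcyc
        classical
        haveI := Fintype.ofFinite ↥A
        have hcard := IsCyclic.card_pow_eq_one_le (α := ↥A) (n := 2) two_pos
        by_contra hwz
        have hsub : ({1, ⟨z, hUP hz, hzc⟩, ⟨w, hw, hwc⟩} : Finset ↥A) ⊆ Finset.univ.filter fun a => a ^ 2 = 1 := by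
          intro a ha
          rw [Finset.mem_filter]
          refine ⟨Finset.mem_univ _, Subtype.ext ?_⟩
          simp only [Finset.mem_insert, Finset.mem_singleton] at ha
          rcases ha with rfl | rfl | rfl
          · simp
          · rw [SubgroupClass.coe_pow, pow_two]; exact hsq z hz
          · rw [SubgroupClass.coe_pow, pow_two]; exact hw2
        have h3 : ({1, ⟨z, hUP hz, hzc⟩, ⟨w, hw, hwc⟩} : Finset ↥A).card = 3 :=
          Finset.card_eq_three.mpr ⟨_, _, _, fun e => hz1 (congrArg Subtype.val e).symm,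
            fun e => hw1 (congrArg Subtype.val e).symm, fun e => hwz (congrArg Subtype.val e).symm, rfl⟩
        have := (Finset.card_le_card hsub).trans hcard
        omega
      by_cases hxz : x = z
      · subst hxz
        have hPC : (P : Subgroup G) ≤ C := fun g hg => hC ▸ mem_centralizer_singleton_iff.mpr
          (mem_centralizer_iff.mp hzc g hg)
        refine ⟨y₀, hy₀, hy₀1, hy₀x, hC ▸ hget y₀ (hC ▸ mem_centralizer_singleton_iff.mpr (hUc _ hy₀ _ hx)) fun q hq => ?_⟩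
        have hqP := core_le_sylow P hPC hq
        have e : y₀ * q * y₀⁻¹ * q⁻¹ = y₀ * (q * y₀⁻¹ * q⁻¹) := by group
        rw [e]
        rcases hfour y₀ hy₀ x hx hy₀1 hx1 hy₀x _ ((mem_normalizer_iff.mp (hUn hqP) _).mp (U.inv_mem hy₀)) with h | h | h | h
        · exact absurd (inv_eq_one.mp (conj_eq_one_iff.mp h)) hy₀1
        · exact Or.inl (by rw [h, hsq _ hy₀])
        · exfalso
          have h2 := congrArg (fun t => q⁻¹ * t * q) h
          rw [mul_assoc q⁻¹ x q, ← mem_centralizer_iff.mp hzc q hqP, inv_mul_cancel_left] at h2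
          refine hy₀x ?_
          rw [← inv_eq_of_mul_eq_one_right (hsq _ hy₀)]
          simpa [mul_assoc] using h2
        · exact Or.inr (by rw [h, ← mul_assoc, hsq _ hy₀, one_mul])
      · have hxn : x ∉ centralizer ((P : Subgroup G) : Set G) := fun h => by
          rcases hzu x (hUP hx) h (hsq x hx) with e | e
          · exact hx1 e
          · exact hxz e
        refine ⟨z, hz, hz1, Ne.symm hxz, hC ▸ hget z (hC ▸ mem_centralizer_singleton_iff.mpr (hUc _ hz _ hx)) fun q hq => ?_⟩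
        have e : z * q * z⁻¹ * q⁻¹ = z * (q * z * q⁻¹)⁻¹ := by group
        rw [e]
        rcases conj_mem_four P hUP hUn hsq hUc (hfour x hx z hz hx1 hz1 hxz) hx hz hx1 hz1 hxz hzc hzu hxn
          (hC ▸ hq) with h | h <;> rw [h]
        · exact Or.inl (mul_inv_cancel z)
        · refine Or.inr ?_
          rw [mul_inv_rev, ← mul_assoc, mul_inv_cancel, one_mul, inv_eq_of_mul_eq_one_right (hsq x hx)]
  have hfix : ∀ x ∈ U, x ≠ 1 → K ⊓ centralizer ({x} : Set G) ≤ centralizer (U : Set G) := by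
    rintro x hx hx1 k ⟨hk, hkx⟩
    obtain ⟨y, hy, hy1, hyx, hyO⟩ := hpartner x hx hx1
    have h1 := core_centralizes hK hyO (hUK hy) hk hkx
    have h0 : k * x = x * k := mem_centralizer_singleton_iff.mp hkx
    refine mem_centralizer_iff.mpr fun u hu => ?_
    rcases hfour x hx y hy hx1 hy1 (Ne.symm hyx) u hu with rfl | rfl | rfl | rfl
    · simp
    · exact h0.symm
    · exact h1.symm
    · rw [mul_assoc, ← h1, ← mul_assoc, ← h0, mul_assoc]
  haveI : IsMulCommutative U := ⟨⟨fun a b => Subtype.ext (hUc a a.2 b b.2)⟩⟩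
  have hcop : (Nat.card U).Coprime (Nat.card K) := by
    rw [IsKleinFour.card_four, show (4 : ℕ) = 2 ^ 2 from rfl, Nat.coprime_pow_left_iff two_pos]
    exact Nat.coprime_two_left.mpr hK
  have hgen := Grp.generated_by_centralizers U K IsKleinFour.not_isCyclic hUK hcop
  have hKU : K ≤ centralizer (U : Set G) := hgen ▸ iSup₂_le fun a ha => hfix a ha.1 ha.2
  exact fun a ha => mem_centralizer_iff.mpr fun k hk => (mem_centralizer_iff.mp (hKU hk) a ha).symm

end Cfsg.Agent.Invol.FourOdd
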