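import Mathlib
import Cfsg.Agent.Lib.Invol.RealFreeBasic
import Cfsg.Agent.Lib.Invol.RealFreeQuad
import Cfsg.Agent.Lib.Fus.ZJTheorem

/-!
A nontrivial `q`-element conjugate to its inverse, for odd `q`, is already found in the normalizer
of `Z(J(T))`.
-/

set_option autoImplicit false
set_option linter.style.haveILetI false
set_option linter.unusedSectionVars false

open scoped Classical Pointwise commutatorElement

namespace Cfsg.Agent.Invol.RealFree

open Subgroup

universe u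

/-- The statement to be proved by induction. -/
def PStmt (q : ℕ) (G : Type u) [Group G] : Prop :=
  ∀ T : Sylow q G, ¬ RFOn q (⊤ : Subgroup G) →
    ¬ RFOn q (Subgroup.normalizer (centerThompsonAOf (T : Subgroup G) : Set G))

/-- The inductive hypothesis. -/
def PBelow (q : ℕ) (G : Type u) : Prop :=
  ∀ (H : Type u) [Group H] [Finite H], Nat.card H < Nat.card G → PStmt q H

variable {G : Type u} [Group G] [Finite G] {q : ℕ} [hq : Fact q.Prime]

/-- A normal `p`-subgroup meets `Z(J(D))` in a normal subgroup. -/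
theorem inf_centerThompsonA_normal (hp : q ≠ 2) (S : Sylow q G)
    (hstab : ∀ (B : Subgroup G) [B.Normal], IsPGroup q B → ∀ A, Fus.IsMaxAb (S : Subgroup G) A →
      B ≤ Subgroup.normalizer (A : Set G) → A ≤ kerCore q B) :
    ∀ (B : Subgroup G), B.Normal → IsPGroup q B → (B ⊓ centerThompsonAOf (S : Subgroup G)).Normal := by
  set D : Subgroup G := (S : Subgroup G) with hDdef
  have hD : IsStronglyClosed D (S : Subgroup G) := ⟨le_rfl, fun _ _ _ h => h⟩
  intro B
  induction hn : Nat.card B using Nat.strong_induction_on generalizing B with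
  | _ n IH =>
  intro hBn hBp
  set Z := centerThompsonAOf D with hZ
  have hBS : B ≤ (S : Subgroup G) := hBp.le_sylow_of_normal S
  have hDn : ∀ s ∈ (S : Subgroup G), s ∈ Subgroup.normalizer (D : Set G) := by
    refine fun s hs => Fus.mem_normalizer_of_forall (fun x hx => hD.2 x hx s ?_) fun x hx => ?_
    · exact S.mul_mem (S.mul_mem hs (hD.1 hx)) (S.inv_mem hs)
    · have := hD.2 x hx s⁻¹ (by simpa using S.mul_mem (S.mul_mem (S.inv_mem hs) (hD.1 hx)) hs)
      simpa using this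
  set B₁ := Subgroup.normalClosure ((B ⊓ Z : Subgroup G) : Set G) with hB₁
  have hB₁B : B₁ ≤ B := Subgroup.normalClosure_le_normal fun x hx => hx.1
  have hB₁Z : B₁ ⊓ Z = B ⊓ Z :=
    le_antisymm (inf_le_inf_right _ hB₁B) (le_inf Subgroup.subset_normalClosure inf_le_right)
  rcases hB₁B.lt_or_eq with hlt | heq
  · rw [← hB₁Z]
    exact IH _ (hn ▸ Fus.card_lt_of_lt hlt) B₁ rfl inferInstance (hBp.to_le hB₁B)
  have hBD : B ≤ D := by
    rw [← heq, hB₁, Subgroup.normalClosure, Subgroup.closure_le]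
    intro y hy
    obtain ⟨x, hx, hxy⟩ := Group.mem_conjugatesOfSet_iff.1 hy
    obtain ⟨c, rfl⟩ := _root_.isConj_iff.1 hxy
    exact hD.2 x (Fus.thompsonA_le D hx.2.1) c (hBS (hBn.conj_mem x hx.1 c))
  by_cases hB0 : B = ⊥
  · rw [hB0, bot_inf_eq]
    infer_instance
  have hB'lt : ⁅B, B⁆ < B := lt_of_le_of_ne (Subgroup.commutator_le_self B)
    fun h => hB0 (Fus.eq_bot_of_commutator_eq hBp h)
  haveI := hBn
  have hB'n : (⁅B, B⁆).Normal := inferInstance
  set M := ⁅B, B⁆ ⊓ Z with hM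
  haveI hMn : M.Normal := IH _ (hn ▸ Fus.card_lt_of_lt hB'lt) _ rfl hB'n (hBp.to_le hB'lt.le)
  have hcomm : ∀ b ∈ B, ∀ z ∈ B ⊓ Z, ⁅b, z⁆ ∈ M := by
    refine fun b hb z hz => ⟨Subgroup.commutator_mem_commutator hb hz.1, ?_⟩
    rw [commutatorElement_def]
    exact Z.mul_mem (Fus.conj_mem_centerThompsonA (Subgroup.le_normalizer (hBD hb)) hz.2)
      (Z.inv_mem hz.2)
  let C₁ := sectionKernel B M
  haveI : (B.map (QuotientGroup.mk' M)).Normal := hBn.map _ (QuotientGroup.mk'_surjective M)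
  haveI : C₁.Normal := Subgroup.Normal.comap inferInstance _
  have hBC₁ : B ≤ C₁ := by
    rw [← heq, hB₁]
    refine Subgroup.normalClosure_le_normal fun z hz => Subgroup.mem_centralizer_iff.2 ?_
    rintro _ ⟨b, hb, rfl⟩
    have h := hcomm b hb z hz
    rw [← QuotientGroup.ker_mk' M, MonoidHom.mem_ker, map_commutatorElement,
      commutatorElement_eq_one_iff_mul_comm] at h
    exact h
  have hB'Z : ⁅B, B⁆ ≤ Z := by
    refine le_trans (Subgroup.commutator_le.2 fun a ha b hb => ?_) (inf_le_right : M ≤ Z)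
    show ⁅a, b⁆ ∈ M
    rw [← QuotientGroup.ker_mk' M, MonoidHom.mem_ker, map_commutatorElement,
      commutatorElement_eq_one_iff_mul_comm]
    exact Fus.mem_centralizer_iff_commute.1 (hBC₁ hb) _ (Subgroup.mem_map_of_mem _ ha)
  have hBC₂ : B ≤ Subgroup.centralizer ((⁅B, B⁆ : Subgroup G) : Set G) := by
    haveI : (Subgroup.centralizer ((⁅B, B⁆ : Subgroup G) : Set G)).Normal := inferInstance
    have hle : ((B ⊓ Z : Subgroup G) : Set G) ⊆
        Subgroup.centralizer ((⁅B, B⁆ : Subgroup G) : Set G) := fun z hz =>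
      Fus.mem_centralizer_iff_commute.2 fun h hh =>
        Fus.mem_centralizer_iff_commute.1 hz.2.2 h (hB'Z hh).1
    conv_lhs => rw [← heq, hB₁]
    exact Subgroup.normalClosure_le_normal hle
  set C := Subgroup.centralizer (B : Set G) with hC
  haveI : C.Normal := inferInstance
  haveI := Grp.pCore_isNormal (p := q) (G := G ⧸ C)
  set K := (pCore q (G ⧸ C)).comap (QuotientGroup.mk' C) with hK
  haveI hKn : K.Normal := inferInstance
  have hquad : ∀ A, Fus.IsMaxAb D A → B ≤ Subgroup.normalizer (A : Set G) → A ≤ K :=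
    fun A hA hBA => hstab B hBp A hA hBA
  set T := (S : Subgroup G) ⊓ K with hT
  have hTK : K ≤ T ⊔ C := by
    intro k hk
    let f : K →* pCore q (G ⧸ C) :=
      ((QuotientGroup.mk' C).comp K.subtype).codRestrict _ fun x => x.2
    have hf : Function.Surjective f := by
      rintro ⟨q, hq⟩
      obtain ⟨g, rfl⟩ := QuotientGroup.mk'_surjective C q
      exact ⟨⟨g, hq⟩, rfl⟩
    obtain ⟨-, P, hP⟩ := Fus.isSylowOf_inf_normal S K
    have hPtop := (P.mapSurjective hf).is_maximal'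
      ((Grp.pCore_isPGroup (p := q) (G := G ⧸ C)).to_subgroup ⊤) le_top
    obtain ⟨x, hx, hxk⟩ : f ⟨k, hk⟩ ∈ (P : Subgroup K).map f :=
      hPtop.le (Subgroup.mem_top _)
    have hxT : (x : G) ∈ T := hP.le hx
    have hc : (x : G)⁻¹ * k ∈ C := QuotientGroup.eq.1 (congrArg Subtype.val hxk)
    rw [show k = (x : G) * ((x : G)⁻¹ * k) by group]
    exact mul_mem (Subgroup.mem_sup_left hxT) (Subgroup.mem_sup_right hc)
  have hGT : ∀ g : G, ∃ n ∈ Subgroup.normalizer (T : Set G), ∃ c ∈ C, g = n * c := fun g => by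
    obtain ⟨-, P, hP⟩ := Fus.isSylowOf_inf_normal S K
    have h1 : Subgroup.normalizer (T : Set G) ⊔ K = ⊤ := by
      have hPT : (P : Subgroup K).map K.subtype = T := by
        rw [hP, Subgroup.subgroupOf_map_subtype, inf_eq_left.2 (inf_le_right : T ≤ K)]
      rw [← hPT]
      exact Sylow.normalizer_sup_eq_top P
    have h2 : Subgroup.normalizer (T : Set G) ⊔ C = ⊤ := top_le_iff.1 (h1 ▸ sup_le le_sup_left
      (hTK.trans (sup_le_sup_right Subgroup.le_normalizer _)))
    obtain ⟨n, hn, c, hc, e⟩ := Subgroup.mem_sup_of_normal_right.1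
      (show g ∈ Subgroup.normalizer (T : Set G) ⊔ C by rw [h2]; exact Subgroup.mem_top g)
    exact ⟨n, hn, c, hc, e.symm⟩
  set D₁ := D ⊓ K with hD₁
  have hND₁ : Subgroup.normalizer (T : Set G) ≤ Subgroup.normalizer (D₁ : Set G) := by
    intro n hn
    have key : ∀ m ∈ Subgroup.normalizer (T : Set G), ∀ x ∈ D₁, m * x * m⁻¹ ∈ D₁ := by
      rintro m hm x ⟨hxD, hxK⟩
      have hxT := (Subgroup.mem_normalizer_iff.1 hm x).1 ⟨hD.1 hxD, hxK⟩
      exact ⟨hD.2 x hxD m hxT.1, hxT.2⟩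
    refine Fus.mem_normalizer_of_forall (key n hn) fun x hx => ?_
    simpa using key n⁻¹ (inv_mem hn) x hx
  have hfin : ∀ z ∈ B ⊓ Z, ∀ c ∈ C, c * z * c⁻¹ = z := fun z hz c hc => by
    rw [← Fus.mem_centralizer_iff_commute.1 hc z hz.1, mul_inv_cancel_right]
  by_cases hall : ∀ A, Fus.IsMaxAb D A → A ≤ K
  · have hJ : thompsonSubgroupAOf D₁ = thompsonSubgroupAOf D := by
      refine le_antisymm (Fus.thompsonA_le_of fun A hA => ?_) (Fus.thompsonA_le_of fun A hA => ?_)
      · exact Fus.IsMaxAb.le_thompsonA ⟨hA.1.trans inf_le_left, hA.2.1, fun A' hA' hc => by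
          obtain ⟨hfin', hne⟩ : {A₀ : Subgroup G | A₀ ≤ D ∧ ∀ x ∈ A₀, ∀ y ∈ A₀,
              x * y = y * x}.Finite ∧ {A₀ : Subgroup G | A₀ ≤ D ∧ ∀ x ∈ A₀, ∀ y ∈ A₀,
              x * y = y * x}.Nonempty := ⟨Set.toFinite _, A', hA', hc⟩
          obtain ⟨A₀, ⟨h1, h2⟩, h3⟩ :=
            Set.exists_max_image _ (fun H : Subgroup G => Nat.card H) hfin' hne
          have hA₀ : Fus.IsMaxAb D A₀ := ⟨h1, h2, fun B' hB' hc' => h3 B' ⟨hB', hc'⟩⟩
          exact (h3 A' ⟨hA', hc⟩).trans (hA.2.2 A₀ (le_inf h1 (hall A₀ hA₀)) h2)⟩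
      · exact Fus.IsMaxAb.le_thompsonA ⟨le_inf hA.1 (hall A hA), hA.2.1,
          fun A' hA' hc => hA.2.2 A' (hA'.trans inf_le_left) hc⟩
    refine ⟨fun z hz g => ?_⟩
    obtain ⟨n, hn', c, hc, rfl⟩ := hGT g
    rw [show n * c * z * (n * c)⁻¹ = n * (c * z * c⁻¹) * n⁻¹ by group, hfin z hz c hc]
    refine ⟨hBn.conj_mem z hz.1 n, ?_⟩
    have hZ₁ : Z = centerThompsonAOf D₁ := by rw [hZ, centerThompsonAOf, centerThompsonAOf, hJ]
    rw [hZ₁]
    exact Fus.conj_mem_centerThompsonA (hND₁ hn') (hZ₁.le hz.2)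
  push Not at hall
  exfalso
  obtain ⟨hsf, hsne⟩ : {A | Fus.IsMaxAb D A ∧ ¬ A ≤ K}.Finite ∧ {A | Fus.IsMaxAb D A ∧ ¬ A ≤ K}.Nonempty :=
    ⟨Set.toFinite _, hall⟩
  obtain ⟨A₁, ⟨hA₁, hA₁K⟩, hmax⟩ :=
    Set.exists_max_image _ (fun A : Subgroup G => Nat.card ↥(A ⊓ B)) hsf hsne
  have hA₁B : ¬ B ≤ Subgroup.normalizer (A₁ : Set G) := fun h => hA₁K (hquad A₁ hA₁ h)
  obtain ⟨A', hA'D, hA'c, hA'card, hlt, hA'N, -⟩ := Fus.glauberman_replacement hp
    (S.2.to_le hD.1) hA₁.1 hBD
    (fun a _ => Subgroup.normalizer_eq_top B ▸ Subgroup.mem_top a) hA₁.2.1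
    (fun x hx y hy z hz => ((Fus.mem_centralizer_iff_commute.1 (hBC₂ hz)) _
      (Subgroup.commutator_mem_commutator hx hy) :))
    (fun x hx y hy => Fus.centerThompsonA_le_maxAb hA₁ (hB'Z
      (Subgroup.commutator_mem_commutator hx hy))) hA₁B
  have hA' : Fus.IsMaxAb D A' := ⟨hA'D, hA'c, fun A'' h1 h2 => (hA₁.2.2 A'' h1 h2).trans hA'card⟩
  have hA'K : A' ≤ K := by
    by_contra h
    exact absurd (hmax A' ⟨hA', h⟩) (not_le.2 (Fus.card_lt_of_lt hlt))
  have hA'1 : Fus.IsMaxAb D₁ A' := ⟨le_inf hA'D hA'K, hA'c,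
    fun A'' h1 h2 => hA'.2.2 A'' (h1.trans inf_le_left) h2⟩
  have hJ₁ : thompsonSubgroupAOf D₁ ≤ thompsonSubgroupAOf D :=
    Fus.thompsonA_le_of fun A hA => Fus.IsMaxAb.le_thompsonA
      ⟨hA.1.trans inf_le_left, hA.2.1, fun A'' h1 h2 =>
        (hA'.2.2 A'' h1 h2).trans (hA.2.2 A' hA'1.1 hA'c)⟩
  have hZZ₁ : Z ≤ centerThompsonAOf D₁ := fun z hz =>
    ⟨hA'1.le_thompsonA (Fus.centerThompsonA_le_maxAb hA' hz),
      Fus.mem_centralizer_iff_commute.2 fun h hh => Fus.mem_centralizer_iff_commute.1 hz.2 h (hJ₁ hh)⟩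
  refine hA₁B (le_trans ?_ hA'N)
  refine le_trans ?_ (Fus.centerThompsonA_le_maxAb hA'1)
  rw [← heq, hB₁, Subgroup.normalClosure, Subgroup.closure_le]
  intro y hy
  obtain ⟨z, hz, hzy⟩ := Group.mem_conjugatesOfSet_iff.1 hy
  obtain ⟨g, rfl⟩ := _root_.isConj_iff.1 hzy
  obtain ⟨n, hn', c, hc, rfl⟩ := hGT g
  rw [show n * c * z * (n * c)⁻¹ = n * (c * z * c⁻¹) * n⁻¹ by group, hfin z hz c hc]
  exact Fus.conj_mem_centerThompsonA (hND₁ hn') (hZZ₁ hz.2)


theorem exists_isSylowOf_ge {R H : Subgroup G} (hR : IsPGroup q R) (hRH : R ≤ H) :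
    ∃ T' : Subgroup G, R ≤ T' ∧ Fus.IsSylowOf q T' H := by
  obtain ⟨P, hP⟩ := (IsPGroup.comap_subtype hR (K := H) : IsPGroup q (R.subgroupOf H)).exists_le_sylow
  refine ⟨(P : Subgroup H).map H.subtype, fun x hx => ⟨⟨x, hRH hx⟩, hP hx, rfl⟩,
    Subgroup.map_subtype_le _, P, ?_⟩
  rw [Subgroup.subgroupOf, Subgroup.comap_map_eq_self_of_injective H.subtype_injective]

/-- The inductive hypothesis for a proper subgroup. -/
theorem not_rfOn_inf_normalizer (IH : PBelow q G) {H T' : Subgroup G} (hH : H ≠ ⊤)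
    (hT : Fus.IsSylowOf q T' H) (hrf : ¬ RFOn q H) :
    ¬ RFOn q (Subgroup.normalizer (centerThompsonAOf T' : Set G)) := by
  obtain ⟨hT'H, P, hP⟩ := hT
  have hmap : (P : Subgroup H).map H.subtype = T' := by
    rw [hP, Subgroup.subgroupOf_map_subtype, inf_eq_left.2 hT'H]
  have h1 : ¬ RFOn q (⊤ : Subgroup H) := by
    rw [← rfOn_map_iff H.subtype H.subtype_injective, ← MonoidHom.range_eq_map,
      Subgroup.range_subtype]
    exact hrf
  have h2 := IH H (Grp.card_lt_of_ne_top hH) P h1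
  rw [← rfOn_map_iff H.subtype H.subtype_injective] at h2
  refine fun h => h2 (h.mono ?_)
  rw [← hmap, centerThompsonA_map H.subtype H.subtype_injective.injOn]
  exact Subgroup.le_normalizer_map _

/-- Proper subgroups over a Sylow subgroup contain no inverted element. -/
theorem rfOn_of_sylow_le (IH : PBelow q G) (T : Sylow q G)
    (hN : RFOn q (Subgroup.normalizer (centerThompsonAOf (T : Subgroup G) : Set G)))
    {H : Subgroup G} (hH : H ≠ ⊤) (hTH : (T : Subgroup G) ≤ H) : RFOn q H := by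
  by_contra h
  exact not_rfOn_inf_normalizer IH hH
    (Fus.IsSylowOf.of_card_le hTH T.2 fun A _ hA hle => (T.3 hA hle).le) h hN

/-- From a proper subgroup with an inverted element one climbs to a normal `Z(J(T'))`. -/
theorem exists_normal_zj (IH : PBelow q G) (T : Sylow q G)
    (hN : RFOn q (Subgroup.normalizer (centerThompsonAOf (T : Subgroup G) : Set G)))
    {H R : Subgroup G} (hH : H ≠ ⊤) (hrf : ¬ RFOn q H) (hR : IsPGroup q R) (hRH : R ≤ H) :
    ∃ T' : Subgroup G, R ≤ T' ∧ IsPGroup q T' ∧ T' ≠ ⊥ ∧ (centerThompsonAOf T').Normal := by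
  obtain ⟨T₀, hRT₀, hT₀⟩ := exists_isSylowOf_ge hR hRH
  obtain ⟨T', ⟨hRT', H', hH', hrf', hT'⟩, hmax⟩ := Set.exists_max_image
    {U : Subgroup G | R ≤ U ∧ ∃ K : Subgroup G, K ≠ ⊤ ∧ ¬ RFOn q K ∧ Fus.IsSylowOf q U K}
    (fun U : Subgroup G => Nat.card U) (Set.toFinite _) ⟨T₀, hRT₀, H, hH, hrf, hT₀⟩
  have hne : T' ≠ ⊥ := by
    intro e
    obtain ⟨x, hx, g, -, hxp, -, hx1⟩ := exists_inverted hrf'
    have h1 := hT'.card_le hxp.isPGroup_zpowers (Subgroup.zpowers_le.2 hx)
    rw [e, Subgroup.card_bot, Nat.card_zpowers] at h1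
    exact hx1 (orderOf_eq_one_iff.1 (le_antisymm h1 (orderOf_pos x)))
  refine ⟨T', hRT', hT'.isPGroup, hne, ?_⟩
  have h2 := not_rfOn_inf_normalizer IH hH' hT' hrf'
  set N := Subgroup.normalizer (centerThompsonAOf T' : Set G) with hNdef
  by_cases hNtop : N = ⊤
  · exact Subgroup.normalizer_eq_top_iff.1 hNtop
  exfalso
  obtain ⟨S, hS⟩ := hT'.isPGroup.exists_le_sylow
  rcases eq_or_lt_of_le hS with e | hlt
  · subst e
    exact h2 (rfOn_normalizer_zj_congr S T hN)
  · haveI := S.2.isNilpotent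
    have hne2 : T'.subgroupOf S ≠ ⊤ := fun e => hlt.not_ge (Subgroup.subgroupOf_eq_top.1 e)
    have hlt2 := Group.normalizerCondition_of_isNilpotent (T'.subgroupOf (S : Subgroup G))
      hne2.lt_top
    obtain ⟨y, hy, hyT⟩ := SetLike.exists_of_lt hlt2
    set P := (S : Subgroup G) ⊓ Subgroup.normalizer (T' : Set G) with hP
    have hyP : (y : G) ∈ P := ⟨y.2, by
      refine Fus.mem_normalizer_of_forall (fun x hx => ?_) fun x hx => ?_
      · exact (Subgroup.mem_normalizer_iff.1 hy ⟨x, hS hx⟩).1 hx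
      · exact (Subgroup.mem_normalizer_iff''.1 hy ⟨x, hS hx⟩).1 hx⟩
    have hTP : T' ≤ P := le_inf hS Subgroup.le_normalizer
    obtain ⟨U, hPU, hU⟩ := exists_isSylowOf_ge (H := N) (S.2.to_le inf_le_left)
      (inf_le_right.trans (normalizer_le_normalizer_zj T') : P ≤ N)
    have h3 := hmax U ⟨hRT'.trans (hTP.trans hPU), N, hNtop, h2, hU⟩
    exact hyT ((Subgroup.eq_of_le_of_card_ge (hTP.trans hPU) h3).ge (hPU hyP))

/-- Frattini's argument puts every `2`-element into `C(B)`. -/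
theorem false_of_cover (T : Sylow q G)
    (hRF : ∀ H : Subgroup G, H ≠ ⊤ → (T : Subgroup G) ≤ H → RFOn q H)
    (hG : ¬ RFOn q (⊤ : Subgroup G)) (hq2 : q ≠ 2) {B : Subgroup G} [B.Normal] (hB : IsPGroup q B)
    (hC : Subgroup.centralizer (B : Set G) ⊔ T ≠ ⊤) {N : Subgroup G} (hN : N ≠ ⊤)
    (hTN : (T : Subgroup G) ≤ N) (hcov : N ⊔ Subgroup.centralizer (B : Set G) = ⊤) : False := by
  set C := Subgroup.centralizer (B : Set G) with hCdef
  have hall : ∀ g : G, IsPElem 2 g → g ∈ C := by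
    intro g hg
    obtain ⟨n, hn, c, hc, rfl⟩ := Subgroup.mem_sup_of_normal_right.1
      (show g ∈ N ⊔ C by rw [hcov]; exact Subgroup.mem_top g)
    obtain ⟨m, hm, hnm⟩ := exists_coprime_isPElem (q := 2) n
    have hnC : n ^ m ∈ C := by
      refine Fus.mem_centralizer_iff_commute.2 fun v hv => ?_
      by_contra hne
      refine not_rfOn_of_two hB ((hB.le_sylow_of_normal T).trans hTN) (pow_mem hn m) hnm
        (fun w hw => (inferInstance : B.Normal).conj_mem w hw _) hv (fun e => hne ?_) (hRF N hN hTN)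
      exact (mul_inv_eq_iff_eq_mul.1 e).symm
    have h1 : QuotientGroup.mk' C (n * c) ^ m = 1 := by
      rw [map_mul, show QuotientGroup.mk' C c = 1 from (QuotientGroup.eq_one_iff c).2 hc, mul_one,
        ← map_pow]
      exact (QuotientGroup.eq_one_iff _).2 hnC
    exact (QuotientGroup.eq_one_iff _).1 ((hg.map (QuotientGroup.mk' C)).eq_one_of_pow hm h1)
  obtain ⟨x, -, g, -, hxp, hgp, hinv, hx1⟩ := exists_inverted_two hG
  have hgC := hall g hgp
  have hx2 : x * x ∈ C := by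
    have e : x * x = x * g * x⁻¹ * g⁻¹ := by
      have h' : g * x⁻¹ * g⁻¹ = x := by
        rw [show g * x⁻¹ * g⁻¹ = (g * x * g⁻¹)⁻¹ by group, hinv, inv_inv]
      calc x * x = x * (g * x⁻¹ * g⁻¹) := by rw [h']
        _ = x * g * x⁻¹ * g⁻¹ := by group
    rw [e]
    exact mul_mem ((inferInstance : C.Normal).conj_mem g hgC x) (inv_mem hgC)
  have hxC : x ∈ C := by
    refine (QuotientGroup.eq_one_iff _).1 ((hxp.map (QuotientGroup.mk' C)).eq_one_of_pow
      (m := 2) ((Nat.coprime_primes Nat.prime_two hq.out).2 hq2.symm) ?_)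
    rw [← map_pow, sq]
    exact (QuotientGroup.eq_one_iff _).2 hx2
  exact hx1 (hRF _ hC le_sup_right x (Subgroup.mem_sup_left hxC) g (Subgroup.mem_sup_left hgC)
    hxp hinv)

/-- The induction step at the trivial `q'`-core. -/
theorem pPrimeCore_eq_bot (IH : PBelow q G) (T : Sylow q G) (hG : ¬ RFOn q (⊤ : Subgroup G))
    (hN : RFOn q (Subgroup.normalizer (centerThompsonAOf (T : Subgroup G) : Set G))) :
    Cfsg.pPrimeCore q G = ⊥ := by
  by_contra hne
  set O := Cfsg.pPrimeCore q G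
  haveI : O.Normal := Grp.pPrimeCore_isNormal
  have hO : (Nat.card O).Coprime q := Grp.pPrimeCore_coprime
  set f := QuotientGroup.mk' O
  have hf : Function.Surjective f := QuotientGroup.mk'_surjective O
  have hker : (Nat.card f.ker).Coprime q := by rw [QuotientGroup.ker_mk']; exact hO
  have hcop : ∀ P : Subgroup G, IsPGroup q P → (Nat.card O).Coprime (Nat.card P) := fun P hP => by
    obtain ⟨j, hj⟩ := hP.exists_card_eq
    exact hj ▸ hO.pow_right j
  have hinj : Set.InjOn f (T : Subgroup G) := fun a ha b hb e => by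
    have h1 : a⁻¹ * b ∈ O ⊓ (T : Subgroup G) :=
      ⟨QuotientGroup.eq.1 e, (T : Subgroup G).mul_mem ((T : Subgroup G).inv_mem ha) hb⟩
    rw [Grp.inf_eq_bot_of_coprime (hcop _ T.2), Subgroup.mem_bot] at h1
    exact inv_mul_eq_one.1 h1
  have hG' : ¬ RFOn q (⊤ : Subgroup (G ⧸ O)) := by
    obtain ⟨x, -, g, -, hxp, hinv, hx1⟩ := exists_inverted hG
    refine fun h => hx1 (hxp.eq_one_of_pow (m := Nat.card O) hO ?_)
    have hfx : f x = 1 := h _ (Subgroup.mem_top _) (f g) (Subgroup.mem_top _) (hxp.map f) (by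
      rw [← map_inv, ← map_mul, ← map_mul, hinv, map_inv])
    exact congrArg Subtype.val
      (pow_card_eq_one' (x := (⟨x, (QuotientGroup.eq_one_iff x).1 hfx⟩ : O)))
  have h := IH (G ⧸ O) (Grp.card_quotient_lt hne) (T.mapSurjective hf) hG'
  rw [show ((T.mapSurjective hf : Sylow q (G ⧸ O)) : Subgroup (G ⧸ O)) = (T : Subgroup G).map f
      from rfl, centerThompsonA_map f hinj] at h
  have hZ : IsPGroup q (centerThompsonAOf (T : Subgroup G)) := T.2.to_le (centerThompsonA_le _)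
  rw [Grp.QuotNorm.normalizer_map O _ (hcop _ hZ)
    (Or.inr (by haveI := hZ.isNilpotent; infer_instance))] at h
  exact not_rfOn_of_map_coprime f hker _ h hN

theorem pCore_ne_bot (IH : PBelow q G) (T : Sylow q G) (hG : ¬ RFOn q (⊤ : Subgroup G))
    (hN : RFOn q (Subgroup.normalizer (centerThompsonAOf (T : Subgroup G) : Set G))) :
    Cfsg.pCore q G ≠ ⊥ := by
  obtain ⟨x, -, g, -, hxp, hinv, hx1⟩ := exists_inverted hG
  have hzne : Subgroup.zpowers x ≠ ⊥ := by simpa using hx1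
  intro hbot
  set M := Subgroup.normalizer (Subgroup.zpowers x : Set G) with hM
  by_cases hMtop : M = ⊤
  · exact hzne (le_bot_iff.1 (hbot ▸
      Grp.le_pCore (Subgroup.normalizer_eq_top_iff.1 hMtop) hxp.isPGroup_zpowers))
  have hgM : g ∈ M := by
    rw [hM, Grp.mem_normalizer_iff_smul, ← Grp.map_conj_eq_smul, MonoidHom.map_zpowers]
    simp only [MulEquiv.coe_toMonoidHom, MulAut.conj_apply]
    rw [hinv, Subgroup.zpowers_inv]
  have hrf : ¬ RFOn q M := fun h =>
    hx1 (h x (Subgroup.le_normalizer (Subgroup.mem_zpowers x)) g hgM hxp hinv)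
  obtain ⟨T', -, hT'p, hT'ne, hT'n⟩ :=
    exists_normal_zj IH T hN hMtop hrf (IsPGroup.of_bot (G := G) (p := q)) bot_le
  exact centerThompsonA_ne_bot hT'p hT'ne (le_bot_iff.1 (hbot ▸
    Grp.le_pCore hT'n (hT'p.to_le (centerThompsonA_le _))))

theorem centralizer_pCore_le (hq2 : q ≠ 2) (IH : PBelow q G) (T : Sylow q G)
    (hG : ¬ RFOn q (⊤ : Subgroup G))
    (hN : RFOn q (Subgroup.normalizer (centerThompsonAOf (T : Subgroup G) : Set G))) :
    Subgroup.centralizer (Cfsg.pCore q G : Set G) ≤ Cfsg.pCore q G := by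
  have hO := pPrimeCore_eq_bot IH T hG hN
  have hQne := pCore_ne_bot IH T hG hN
  set Q := Cfsg.pCore q G with hQdef
  haveI : Q.Normal := Grp.pCore_isNormal
  have hQp : IsPGroup q Q := Grp.pCore_isPGroup
  set C₁ := Subgroup.centralizer (Q : Set G) with hC₁
  have hRF := fun H => rfOn_of_sylow_le (H := H) IH T hN
  by_cases hCT : C₁ ⊔ T = ⊤
  · by_contra hle
    set π := QuotientGroup.mk' Q
    have hπ : Function.Surjective π := QuotientGroup.mk'_surjective Q
    have hkerp : IsPGroup q π.ker := by rw [QuotientGroup.ker_mk']; exact hQp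
    obtain ⟨x, -, g, -, hxp, hgp, hinv, hx1⟩ := exists_inverted_two hG
    have hgC : g ∈ C₁ := by
      obtain ⟨c, hc, t, ht, e⟩ := Subgroup.mem_sup_of_normal_left.1
        (show g ∈ C₁ ⊔ (T : Subgroup G) by rw [hCT]; exact Subgroup.mem_top g)
      obtain ⟨k, hk⟩ := hgp
      have hct : QuotientGroup.mk' C₁ g = QuotientGroup.mk' C₁ t := by
        rw [← e, map_mul, show QuotientGroup.mk' C₁ c = 1 from (QuotientGroup.eq_one_iff c).2 hc,
          one_mul]
      refine (QuotientGroup.eq_one_iff g).1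
        (IsPElem.eq_one_of_pow (q := q) (x := QuotientGroup.mk' C₁ g) (m := 2 ^ k) ?_
          (((Nat.coprime_primes Nat.prime_two hq.out).2 hq2.symm).pow_left k)
          (by rw [← map_pow, hk, map_one]))
      rw [hct]
      exact (isPElem_of_mem T.2 ht).map _
    have hxQ : x ∉ Q := fun hxQ => by
      have hc := Fus.mem_centralizer_iff_commute.1 hgC x hxQ
      rw [← hc, mul_inv_cancel_right] at hinv
      exact hx1 (hxp.eq_one_of_inv hq2 hinv)
    have hG' : ¬ RFOn q (⊤ : Subgroup (G ⧸ Q)) := fun h => hxQ ((QuotientGroup.eq_one_iff x).1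
      (h (π x) (Subgroup.mem_top _) (π g) (Subgroup.mem_top _) (hxp.map π) (by
        rw [← map_inv, ← map_mul, ← map_mul, hinv, map_inv])))
    have h := IH (G ⧸ Q) (Grp.card_quotient_lt hQne) (T.mapSurjective hπ) hG'
    set T₁ := (T : Subgroup G).map π with hT₁
    rw [show ((T.mapSurjective hπ : Sylow q (G ⧸ Q)) : Subgroup (G ⧸ Q)) = T₁ from rfl] at h
    set N₁ := (Subgroup.normalizer (centerThompsonAOf T₁ : Set (G ⧸ Q))).comap π with hN₁
    have hTN₁ : (T : Subgroup G) ≤ N₁ := fun t ht =>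
      normalizer_le_normalizer_zj T₁ (Subgroup.le_normalizer (Subgroup.mem_map_of_mem π ht))
    have hN₁top : N₁ ≠ ⊤ := by
      intro e
      have hn : (centerThompsonAOf T₁).Normal := Subgroup.normalizer_eq_top_iff.1
        (Subgroup.comap_injective hπ (e.trans (Subgroup.comap_top π).symm))
      have hT₁p : IsPGroup q T₁ := T.2.map π
      have hle₁ : (centerThompsonAOf T₁).comap π ≤ Q :=
        Grp.le_pCore (hn.comap π)
          ((hT₁p.to_le (centerThompsonA_le _)).comap_of_ker_isPGroup π hkerp)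
      have hT₁ne : T₁ ≠ ⊥ := by
        intro e'
        obtain ⟨z, hz, g', -, hzp, -, hz1⟩ := exists_inverted hG'
        have h1 := (Fus.isSylowOf_top (T.mapSurjective hπ)).card_le hzp.isPGroup_zpowers le_top
        rw [show ((T.mapSurjective hπ : Sylow q (G ⧸ Q)) : Subgroup (G ⧸ Q)) = T₁ from rfl, e',
          Subgroup.card_bot, Nat.card_zpowers] at h1
        exact hz1 (orderOf_eq_one_iff.1 (le_antisymm h1 (orderOf_pos z)))
      refine centerThompsonA_ne_bot hT₁p hT₁ne ((Subgroup.eq_bot_iff_forall _).2 fun y hy => ?_)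
      obtain ⟨z, rfl⟩ := hπ y
      exact (QuotientGroup.eq_one_iff z).2 (hle₁ hy)
    obtain ⟨y, hy, s, hs, hyp, hsp, hsinv, hy1⟩ := exists_inverted_two h
    obtain ⟨y₀, rfl⟩ := hπ y
    obtain ⟨s₀, rfl⟩ := hπ s
    obtain ⟨m, hm, hsm⟩ := exists_coprime_isPElem (q := 2) s₀
    have hinvm : π (s₀ ^ m) * π y₀ * (π (s₀ ^ m))⁻¹ = (π y₀)⁻¹ := by
      rw [map_pow]; exact inv_of_odd_pow hsinv (Nat.coprime_two_right.1 hm)
    refine not_rfOn_of_two (P := (Subgroup.zpowers (π y₀)).comap π)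
      (hyp.isPGroup_zpowers.comap_of_ker_isPGroup π hkerp)
      (Subgroup.comap_mono (Subgroup.zpowers_le.2 hy)) (pow_mem hs m : s₀ ^ m ∈ N₁) hsm
      (fun v hv => ?_) (u := y₀) (Subgroup.mem_zpowers _) (fun e => ?_)
      (hRF N₁ hN₁top hTN₁)
    · obtain ⟨i, hi⟩ := Subgroup.mem_comap.1 hv
      refine Subgroup.mem_comap.2 ⟨-i, ?_⟩
      show π y₀ ^ (-i) = _
      rw [map_mul, map_mul, map_inv, ← (hi : π y₀ ^ i = π v), ← conj_zpow, hinvm, inv_zpow']
    · rw [← map_inv, ← map_mul, ← map_mul, e] at hinvm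
      exact hy1 (hyp.eq_one_of_inv hq2 hinvm)
  · obtain ⟨-, P, hP⟩ := Fus.isSylowOf_inf_normal T C₁
    set P₁ := (T : Subgroup G) ⊓ C₁ with hP₁
    have hPmap : (P : Subgroup C₁).map C₁.subtype = P₁ := by
      rw [hP, Subgroup.subgroupOf_map_subtype, inf_eq_left.2 (inf_le_right : P₁ ≤ C₁)]
    by_cases hn : Subgroup.normalizer (P₁ : Set G) = ⊤
    · have hP₁Q : P₁ ≤ Q :=
        Grp.le_pCore (Subgroup.normalizer_eq_top_iff.1 hn) (T.2.to_le inf_le_left)
      have hcen : Subgroup.normalizer ((P : Subgroup C₁) : Set C₁) ≤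
          Subgroup.centralizer ((P : Subgroup C₁) : Set C₁) := fun c _ =>
        Fus.mem_centralizer_iff_commute.2 fun y hy => Subtype.ext
          (Fus.mem_centralizer_iff_commute.1 c.2 (y : G) (hP₁Q (hPmap.le ⟨y, hy, rfl⟩)))
      set φ := MonoidHom.transferSylow P hcen
      have hK := MonoidHom.ker_transferSylow_isComplement' P hcen
      have hKcop : (Nat.card φ.ker).Coprime q := by
        rw [show Nat.card φ.ker = (P : Subgroup C₁).index from hK.index_eq_card.symm]
        exact (hq.out.coprime_iff_not_dvd.2 P.not_dvd_index).symm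
      have hKmem : ∀ y : C₁, (orderOf y).Coprime q → y ∈ φ.ker := fun y hy =>
        (isPElem_of_mem (P.2.to_subgroup ⊤) (Subgroup.mem_top (φ y))).eq_one_of_pow hy
          (by rw [← map_pow, pow_orderOf_eq_one, map_one])
      have hKn : (φ.ker.map C₁.subtype).Normal := ⟨by
        rintro _ ⟨y, hy, rfl⟩ g
        have hgy : g * (y : G) * g⁻¹ ∈ C₁ := (inferInstance : C₁.Normal).conj_mem _ y.2 g
        refine ⟨⟨_, hgy⟩, hKmem _ ?_, rfl⟩
        rw [Subgroup.orderOf_mk, show g * (y : G) * g⁻¹ = MulAut.conj g (y : G) from rfl,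
          MulEquiv.orderOf_eq, Subgroup.orderOf_coe]
        refine Nat.Coprime.coprime_dvd_left ?_ hKcop
        have := orderOf_dvd_natCard (⟨y, hy⟩ : φ.ker)
        rwa [Subgroup.orderOf_mk] at this⟩
      have hKbot : φ.ker = ⊥ := by
        rw [← Subgroup.map_eq_bot_iff_of_injective _ C₁.subtype_injective, ← le_bot_iff, ← hO]
        refine Grp.le_pPrimeCore hKn ?_
        rwa [Subgroup.card_map_of_injective C₁.subtype_injective]
      have hPtop : (P : Subgroup C₁) = ⊤ := by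
        have h1 := hK
        rw [hKbot] at h1
        exact Subgroup.isComplement'_bot_left.1 h1
      refine le_trans (fun c hc => ?_) hP₁Q
      exact hPmap.le ⟨⟨c, hc⟩, hPtop.ge (Subgroup.mem_top _), rfl⟩
    · refine (false_of_cover T hRF hG hq2 hQp hCT hn (fun t ht => ?_) ?_).elim
      · refine Fus.mem_normalizer_of_forall
          (fun y hy => ⟨(T : Subgroup G).mul_mem ((T : Subgroup G).mul_mem ht hy.1)
            ((T : Subgroup G).inv_mem ht),
            (inferInstance : C₁.Normal).conj_mem y hy.2 t⟩) fun y hy => ?_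
        exact ⟨(T : Subgroup G).mul_mem ((T : Subgroup G).mul_mem
          ((T : Subgroup G).inv_mem ht) hy.1) ht, by
          simpa using (inferInstance : C₁.Normal).conj_mem y hy.2 t⁻¹⟩
      · rw [← hPmap]
        exact Sylow.normalizer_sup_eq_top P

/-- `Z(J(T))` lies in `Z(J(T'))` when the latter is normal and `T'` holds an abelian subgroup of
largest order. -/
theorem zj_le_of_normal (T : Sylow q G) {T' A : Subgroup G} (hT' : IsPGroup q T')
    (hA : Fus.IsMaxAb (T : Subgroup G) A) (hAT' : A ≤ T') (hn : (centerThompsonAOf T').Normal) :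
    centerThompsonAOf (T : Subgroup G) ≤ centerThompsonAOf T' ∧
      ∀ A₁, Fus.IsMaxAb (T : Subgroup G) A₁ → A₁ ≤ T' →
        A₁ ≤ Subgroup.centralizer (centerThompsonAOf T' : Set G) := by
  obtain ⟨S, hS⟩ := hT'.exists_le_sylow
  obtain ⟨g, rfl⟩ := MulAction.exists_smul_eq G T S
  set e := MulAut.conj g with he
  have h1 : ((g • T : Sylow q G) : Subgroup G) = (T : Subgroup G).map e.toMonoidHom := by
    rw [Grp.map_conj_eq_smul]; rfl
  rw [h1] at hS
  have hcard : ∀ B : Subgroup G, B ≤ T' → (∀ x ∈ B, ∀ y ∈ B, x * y = y * x) →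
      Nat.card B ≤ Nat.card A := by
    intro B hB hc
    have hm := isMaxAb_map e.toMonoidHom e.injective.injOn hA
    have := hm.2.2 B (hB.trans hS) hc
    rwa [Subgroup.card_map_of_injective (f := e.toMonoidHom) e.injective] at this
  have hA' : Fus.IsMaxAb T' A := ⟨hAT', hA.2.1, hcard⟩
  refine ⟨fun z hz => ?_, fun A₁ hA₁ hA₁T' a ha => ?_⟩
  · have hm : Fus.IsMaxAb ((T : Subgroup G).map e.toMonoidHom) A := ⟨hAT'.trans hS, hA.2.1,
      fun B hB hc => by
        have := hA.2.2 (B.map e.symm.toMonoidHom) (by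
          rintro _ ⟨b, hb, rfl⟩
          obtain ⟨a, ha, rfl⟩ := hB hb
          show e.symm (e a) ∈ (T : Subgroup G)
          rwa [e.symm_apply_apply]) (by
          rintro _ ⟨a, ha, rfl⟩ _ ⟨b, hb, rfl⟩
          rw [← map_mul, hc a ha b hb, map_mul])
        rwa [Subgroup.card_map_of_injective (f := e.symm.toMonoidHom) e.symm.injective] at this⟩
    have hz' : e z ∈ centerThompsonAOf ((T : Subgroup G).map e.toMonoidHom) := by
      rw [centerThompsonA_map _ e.injective.injOn]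
      exact ⟨z, hz, rfl⟩
    have hJ : thompsonSubgroupAOf T' ≤ thompsonSubgroupAOf ((T : Subgroup G).map e.toMonoidHom) :=
      Fus.thompsonA_le_of fun B hB => Fus.IsMaxAb.le_thompsonA ⟨hB.1.trans hS, hB.2.1,
        fun B' h1' h2' => (hm.2.2 B' h1' h2').trans (hB.2.2 A hAT' hA.2.1)⟩
    have hz2 : e z ∈ centerThompsonAOf T' :=
      ⟨hA'.le_thompsonA (Fus.centerThompsonA_le_maxAb hm hz'),
        Fus.mem_centralizer_iff_commute.2 fun j hj =>
          Fus.mem_centralizer_iff_commute.1 hz'.2 j (hJ hj)⟩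
    have := hn.conj_mem _ hz2 g⁻¹
    simpa [he, mul_assoc] using this
  · refine Fus.mem_centralizer_iff_commute.2 fun b hb => ?_
    exact (Fus.mem_centralizer_iff_commute.1 hb.2 a ((Fus.IsMaxAb.le_thompsonA
      ⟨hA₁T', hA₁.2.1, fun B h1' h2' => (hcard B h1' h2').trans (hA₁.2.2 A hA.1 hA.2.1)⟩) ha)).symm

theorem quadOn_of_normalizes {B A : Subgroup G} (hBA : B ≤ Subgroup.normalizer (A : Set G))
    (hA : ∀ x ∈ A, ∀ y ∈ A, x * y = y * x) {a : G} (ha : a ∈ A) : Grp.Quad.QuadOn a B := by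
  intro v hv
  refine hA a ha _ ?_
  rw [show a * v * a⁻¹ * v⁻¹ = a * (v * a⁻¹ * v⁻¹) by group]
  exact mul_mem ha ((Subgroup.mem_normalizer_iff.1 (hBA hv) _).1 (inv_mem ha))

/-- No abelian normal `q`-subgroup contains `Z(J(T))`. -/
theorem no_abelian_normal_over_zj (hq2 : q ≠ 2) (IH : PBelow q G) (T : Sylow q G)
    (hG : ¬ RFOn q (⊤ : Subgroup G))
    (hN : RFOn q (Subgroup.normalizer (centerThompsonAOf (T : Subgroup G) : Set G)))
    (B₀ : Subgroup G) (hB₀ : B₀.Normal) (hB₀p : IsPGroup q B₀)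
    (hB₀c : ∀ x ∈ B₀, ∀ y ∈ B₀, x * y = y * x)
    (hZB₀ : centerThompsonAOf (T : Subgroup G) ≤ B₀) : False := by
  set Z := centerThompsonAOf (T : Subgroup G) with hZ
  have hNne : Subgroup.normalizer (Z : Set G) ≠ ⊤ := fun e => hG (e ▸ hN)
  set Δ : Subgroup G → Set (Subgroup G) := fun B =>
    {A | Fus.IsMaxAb (T : Subgroup G) A ∧ A ≤ Subgroup.centralizer (B : Set G)} with hΔ
  obtain ⟨B, ⟨hBn, hBp, hBc, hZB⟩, hmax⟩ := Set.exists_max_image
    {B : Subgroup G | B.Normal ∧ IsPGroup q B ∧ (∀ x ∈ B, ∀ y ∈ B, x * y = y * x) ∧ Z ≤ B}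
    (fun B => (Δ B).ncard) (Set.toFinite _) ⟨B₀, hB₀, hB₀p, hB₀c, hZB₀⟩
  have hRF := fun H => rfOn_of_sylow_le (H := H) IH T hN
  set C := Subgroup.centralizer (B : Set G) with hC
  have hBT : B ≤ (T : Subgroup G) := hBp.le_sylow_of_normal T
  have hTZ : (T : Subgroup G) ≤ Subgroup.normalizer (Z : Set G) :=
    Subgroup.le_normalizer.trans (normalizer_le_normalizer_zj _)
  have hCT : C ⊔ T ≠ ⊤ := by
    intro e
    refine hNne (top_le_iff.1 (e ▸ sup_le ?_ hTZ))
    exact (Subgroup.centralizer_le hZB).trans (Subgroup.centralizer_le_normalizer _)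
  have hnot : ∃ A, Fus.IsMaxAb (T : Subgroup G) A ∧ ¬ A ≤ C := by
    by_contra hall
    push Not at hall
    obtain ⟨A, hA⟩ := exists_isMaxAb (T : Subgroup G)
    have hBA : B ≤ A := fun b hb => hA.mem_of_commute (hBT hb) fun a ha =>
      (Fus.mem_centralizer_iff_commute.1 (hall A hA ha) b hb).symm
    have hBZ : B ≤ Z := fun b hb => ⟨hA.le_thompsonA (hBA hb),
      Fus.mem_centralizer_iff_commute.2 fun j hj =>
        (Fus.mem_centralizer_iff_commute.1 (Fus.thompsonA_le_of hall hj) b hb).symm⟩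
    exact hNne (Subgroup.normalizer_eq_top_iff.2 (le_antisymm hZB hBZ ▸ hBn))
  obtain ⟨A, ⟨hA, hAC⟩, hAmax⟩ := Set.exists_max_image
    {A | Fus.IsMaxAb (T : Subgroup G) A ∧ ¬ A ≤ C}
    (fun A : Subgroup G => Nat.card ↥(A ⊓ B)) (Set.toFinite _) hnot
  have hBNA : B ≤ Subgroup.normalizer (A : Set G) := by
    by_contra h
    obtain ⟨A', hA'T, hA'c, hA'card, hlt, hA'N, -⟩ := Fus.glauberman_replacement hq2 T.2 hA.1 hBT
      (fun a _ => Subgroup.normalizer_eq_top B ▸ Subgroup.mem_top a) hA.2.1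
      (fun x hx y hy z _ => by
        rw [hBc x hx y hy, mul_inv_cancel_right, mul_inv_cancel]; exact Commute.one_left z)
      (fun x hx y hy => by
        rw [hBc x hx y hy, mul_inv_cancel_right, mul_inv_cancel]; exact A.one_mem) h
    have hA' : Fus.IsMaxAb (T : Subgroup G) A' :=
      ⟨hA'T, hA'c, fun A'' h1 h2 => (hA.2.2 A'' h1 h2).trans hA'card⟩
    by_cases hA'C : A' ≤ C
    · exact h (le_trans (fun b hb => hA'.mem_of_commute (hBT hb) fun a ha =>
        (Fus.mem_centralizer_iff_commute.1 (hA'C ha) b hb).symm) hA'N)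
    · exact absurd (hAmax A' ⟨hA', hA'C⟩) (not_le.2 (Fus.card_lt_of_lt hlt))
  have hcontra : ∀ T' : Subgroup G, IsPGroup q T' → A ≤ T' → (centerThompsonAOf T').Normal →
      (∀ A₁ ∈ Δ B, A₁ ≤ T') → False := by
    intro T' hT' hAT' hn hΔT'
    obtain ⟨h1, h2⟩ := zj_le_of_normal T hT' hA hAT' hn
    have h3 := hmax _ ⟨hn, hT'.to_le (centerThompsonA_le _), centerThompsonA_comm _, h1⟩
    refine absurd h3 (not_le.2 (Set.ncard_lt_ncard ?_ (Set.toFinite _)))
    have hsub : Δ B ⊆ Δ (centerThompsonAOf T') := fun A₁ hA₁ =>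
      ⟨hA₁.1, h2 A₁ hA₁.1 (hΔT' A₁ hA₁)⟩
    exact (Set.ssubset_iff_of_subset hsub).2 ⟨A, ⟨hA, h2 A hA hAT'⟩, fun h => hAC h.2⟩
  by_cases hAK : A ≤ kerCore q B
  · have hCK : C ≤ kerCore q B := fun c hc => by
      rw [kerCore, Subgroup.mem_comap, show QuotientGroup.mk' C c = 1 from
        (QuotientGroup.eq_one_iff c).2 hc]
      exact one_mem _
    haveI : (kerCore q B).Normal := by
      haveI := Grp.pCore_isNormal (p := q) (G := G ⧸ C)
      exact Subgroup.Normal.comap inferInstance _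
    set K := kerCore q B with hK
    set P := (T : Subgroup G) ⊓ K with hP
    have hTP : (T : Subgroup G) ≤ Subgroup.normalizer (P : Set G) := fun t ht => by
      refine Fus.mem_normalizer_of_forall
        (fun y hy => ⟨(T : Subgroup G).mul_mem ((T : Subgroup G).mul_mem ht hy.1)
            ((T : Subgroup G).inv_mem ht),
          (inferInstance : K.Normal).conj_mem y hy.2 t⟩) fun y hy => ?_
      exact ⟨(T : Subgroup G).mul_mem ((T : Subgroup G).mul_mem
          ((T : Subgroup G).inv_mem ht) hy.1) ht, by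
        simpa using (inferInstance : K.Normal).conj_mem y hy.2 t⁻¹⟩
    by_cases hn : Subgroup.normalizer (P : Set G) = ⊤
    · exact hcontra P (T.2.to_le inf_le_left) (le_inf hA.1 hAK)
        (Subgroup.normalizer_eq_top_iff.1 (top_le_iff.1 (hn ▸ normalizer_le_normalizer_zj P)))
        (fun A₁ hA₁ => le_inf hA₁.1.1 (hA₁.2.trans hCK))
    obtain ⟨-, R, hR⟩ := Fus.isSylowOf_inf_normal T K
    have hKPC : K ≤ P ⊔ C := by
      intro k hk
      let f : K →* Cfsg.pCore q (G ⧸ C) :=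
        ((QuotientGroup.mk' C).comp K.subtype).codRestrict _ fun x => x.2
      have hf : Function.Surjective f := by
        rintro ⟨y, hy⟩
        obtain ⟨g, rfl⟩ := QuotientGroup.mk'_surjective C y
        exact ⟨⟨g, hy⟩, rfl⟩
      have hRtop := (R.mapSurjective hf).is_maximal'
        ((Grp.pCore_isPGroup (p := q) (G := G ⧸ C)).to_subgroup ⊤) le_top
      obtain ⟨x, hx, hxk⟩ : f ⟨k, hk⟩ ∈ (R : Subgroup K).map f :=
        hRtop.le (Subgroup.mem_top _)
      have hxP : (x : G) ∈ P := hR.le hx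
      have hc : (x : G)⁻¹ * k ∈ C := QuotientGroup.eq.1 (congrArg Subtype.val hxk)
      rw [show k = (x : G) * ((x : G)⁻¹ * k) by group]
      exact mul_mem (Subgroup.mem_sup_left hxP) (Subgroup.mem_sup_right hc)
    have hcov : Subgroup.normalizer (P : Set G) ⊔ C = ⊤ := by
      have hRmap : (R : Subgroup K).map K.subtype = P := by
        rw [hR, Subgroup.subgroupOf_map_subtype, inf_eq_left.2 (inf_le_right : P ≤ K)]
      have h1 : Subgroup.normalizer (P : Set G) ⊔ K = ⊤ := by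
        rw [← hRmap]; exact Sylow.normalizer_sup_eq_top R
      exact top_le_iff.1 (h1 ▸ sup_le le_sup_left
        (hKPC.trans (sup_le_sup_right Subgroup.le_normalizer _)))
    exact false_of_cover T hRF hG hq2 hBp hCT hn hTP hcov
  · obtain ⟨a, haA, haK⟩ := SetLike.not_le_iff_exists.1 hAK
    obtain ⟨H, hH, hCH, haH, hrf⟩ := exists_proper_of_quad hq2 hBp
      (isPElem_of_mem T.2 (hA.1 haA)) (quadOn_of_normalizes hBNA hA.2.1 haA) haK
    have hAH : A ≤ H := fun b hb =>
      haH (Subgroup.mem_centralizer_singleton_iff.2 (hA.2.1 b hb a haA))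
    obtain ⟨T', hle, hT', -, hn⟩ :=
      exists_normal_zj IH T hN hH hrf (T.2.to_le inf_le_left) (inf_le_right : (T : Subgroup G) ⊓ H ≤ H)
    exact hcontra T' hT' ((le_inf hA.1 hAH).trans hle) hn
      fun A₁ hA₁ => (le_inf hA₁.1.1 (hA₁.2.trans hCH)).trans hle

/-- The theorem, by induction on the order of the group. -/
theorem pStmt (hq2 : q ≠ 2) : ∀ (n : ℕ) (G : Type u) [Group G] [Finite G], Nat.card G = n →
    PStmt q G := by
  intro n
  induction n using Nat.strong_induction_on with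
  | _ n ih =>
  intro G _ _ hn T hG hN
  have IH : PBelow q G := fun H _ _ hH => ih _ (hn ▸ hH) H rfl
  set Q := Cfsg.pCore q G with hQdef
  haveI hQn : Q.Normal := Grp.pCore_isNormal
  have hQp : IsPGroup q Q := Grp.pCore_isPGroup
  have hc := centralizer_pCore_le hq2 IH T hG hN
  set Z := centerThompsonAOf (T : Subgroup G) with hZ
  have hnoA : ∀ A, Fus.IsMaxAb (T : Subgroup G) A → ∀ H : Subgroup G, H ≠ ⊤ → A ≤ H →
      RFOn q H := by
    intro A hA H hH hAH
    by_contra hrf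
    obtain ⟨T', hle, hT', -, hn'⟩ := exists_normal_zj IH T hN hH hrf (T.2.to_le hA.1) hAH
    exact no_abelian_normal_over_zj hq2 IH T hG hN _ hn' (hT'.to_le (centerThompsonA_le _))
      (centerThompsonA_comm _) (zj_le_of_normal T hT' hA hle hn').1
  have hstab : ∀ (B : Subgroup G) [B.Normal], IsPGroup q B → ∀ A,
      Fus.IsMaxAb (T : Subgroup G) A → B ≤ Subgroup.normalizer (A : Set G) → A ≤ kerCore q B := by
    intro B _ hB A hA hBA a ha
    by_contra haK
    obtain ⟨H, hH, -, haH, hrf⟩ := exists_proper_of_quad hq2 hB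
      (isPElem_of_mem T.2 (hA.1 ha)) (quadOn_of_normalizes hBA hA.2.1 ha) haK
    exact hrf (hnoA A hA H hH fun b hb =>
      haH (Subgroup.mem_centralizer_singleton_iff.2 (hA.2.1 b hb a ha)))
  obtain ⟨A, hA⟩ := exists_isMaxAb (T : Subgroup G)
  have hQT : Q ≤ (T : Subgroup G) := Grp.pCore_le_sylow T
  have hQZ : Q ≤ Subgroup.normalizer (Z : Set G) :=
    hQT.trans (Subgroup.le_normalizer.trans (normalizer_le_normalizer_zj _))
  have hle : Z ≤ Q := by
    intro z hz
    have hzK : z ∈ kerCore q Q := by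
      by_contra hzK
      obtain ⟨H, hH, -, hzH, hrf⟩ := exists_proper_of_quad hq2 hQp
        (isPElem_of_mem T.2 (centerThompsonA_le _ hz))
        (quadOn_of_normalizes hQZ (centerThompsonA_comm _) hz) hzK
      exact hrf (hnoA A hA H hH fun b hb => hzH (Subgroup.mem_centralizer_singleton_iff.2
        (Fus.mem_centralizer_iff_commute.1 hz.2 b (hA.le_thompsonA hb))))
    haveI := Grp.pCore_isNormal (p := q) (G := G ⧸ Subgroup.centralizer (Q : Set G))
    refine Grp.le_pCore (Subgroup.Normal.comap inferInstance _)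
      (Grp.pCore_isPGroup.comap_of_ker_isPGroup _ ?_) hzK
    rw [QuotientGroup.ker_mk']
    exact hQp.to_le hc
  have hZn : Z.Normal := by
    have h := inf_centerThompsonA_normal hq2 T hstab Q hQn hQp
    rwa [inf_eq_right.2 hle] at h
  exact hG (Subgroup.normalizer_eq_top_iff.2 hZn ▸ hN)

/-- A nontrivial inverted `q`-element yields one inverted in the normalizer of `Z(J(T))`. -/
theorem rfOn_of_normalizer_zj (hq2 : q ≠ 2) (T : Sylow q G)
    (h : RFOn q (Subgroup.normalizer (centerThompsonAOf (T : Subgroup G) : Set G))) :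
    RFOn q (⊤ : Subgroup G) :=
  by_contra fun hG => pStmt hq2 _ G rfl T hG h

/-- If the normalizers of all `Z(J(T))`, `q` odd, hold no inverted element, the Sylow `2`-subgroup
is normal. -/
theorem two_sylow_normal (h : ∀ (q : ℕ) [Fact q.Prime], q ≠ 2 → ∀ T : Sylow q G,
    RFOn q (Subgroup.normalizer (centerThompsonAOf (T : Subgroup G) : Set G))) (P : Sylow 2 G) :
    (P : Subgroup G).Normal := by
  refine Grp.two_sylow_normal_of_no_real (fun x hx1 hodd hconj => ?_) P
  obtain ⟨g, hg⟩ := isConj_iff.1 hconj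
  obtain ⟨r, hr, hrd⟩ := Nat.exists_prime_and_dvd (fun e => hx1 (orderOf_eq_one_iff.1 e))
  haveI : Fact r.Prime := ⟨hr⟩
  have hr2 : r ≠ 2 := fun e => by
    subst e
    exact (Nat.not_even_iff_odd.2 hodd) (even_iff_two_dvd.2 hrd)
  have ho : orderOf (x ^ (orderOf x / r)) = r := by
    obtain ⟨c, hc⟩ := hrd
    have hc0 : c ≠ 0 := fun e => (orderOf_pos x).ne' (by rw [hc, e, mul_zero])
    rw [hc, Nat.mul_div_cancel_left _ hr.pos,
      orderOf_pow_of_dvd hc0 (hc ▸ dvd_mul_left c r), hc,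
      Nat.mul_div_cancel _ (Nat.pos_of_ne_zero hc0)]
  have h1 := rfOn_of_normalizer_zj hr2 Classical.ofNonempty (h r hr2 Classical.ofNonempty)
    (x ^ (orderOf x / r)) (Subgroup.mem_top _) g (Subgroup.mem_top _)
    ⟨1, by rw [pow_one]; conv_lhs => arg 2; rw [← ho]
           exact pow_orderOf_eq_one _⟩
    (inv_pow_of_inv hg _)
  rw [h1, orderOf_one] at ho
  exact hr.ne_one ho.symm

end Cfsg.Agent.Invol.RealFree
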