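import Mathlib
import Cfsg.Agent.Lib.Invol.RealFreeZJ

/-!
Normal Sylow `2`-subgroups and the absence of inverted elements of odd prime power order.
-/

set_option autoImplicit false
set_option linter.style.haveILetI false
set_option linter.unusedSectionVars false

namespace Cfsg.Agent.Invol.RealFree

open Subgroup

universe u

variable {G : Type u} [Group G] [Finite G] {q : ℕ} [hq : Fact q.Prime]

/-- A normal Sylow `2`-subgroup leaves no inverted `q`-element. -/
theorem rfOn_of_normal_two (hq2 : q ≠ 2) (P : Sylow 2 G) [hP : (P : Subgroup G).Normal] :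
    RFOn q (⊤ : Subgroup G) := by
  by_contra h
  obtain ⟨x, -, g, -, hxp, hgp, hinv, hx1⟩ := exists_inverted_two h
  set f := QuotientGroup.mk' (P : Subgroup G)
  have hg : f g = 1 := by
    obtain ⟨m, hm⟩ := hgp.map f
    have hdvd : orderOf (f g) ∣ (P : Subgroup G).index := by
      rw [Subgroup.index_eq_card]; exact orderOf_dvd_natCard _
    refine IsPElem.eq_one_of_pow ⟨m, hm⟩ ((Nat.prime_two.coprime_iff_not_dvd.2 P.not_dvd_index).symm) ?_
    exact orderOf_dvd_iff_pow_eq_one.1 hdvd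
  have h2 : f x = (f x)⁻¹ := by
    have := congrArg f hinv
    rwa [map_mul, map_mul, map_inv, map_inv, hg, one_mul, inv_one, mul_one] at this
  have hfx := (hxp.map f).eq_one_of_inv hq2 h2
  obtain ⟨k, hk⟩ := isPElem_of_mem P.2 ((QuotientGroup.eq_one_iff x).1 hfx)
  exact hx1 (hxp.eq_one_of_pow
    (((Nat.coprime_primes Nat.prime_two hq.out).2 hq2.symm).pow_left k) hk)

/-- A normal Sylow `2`-subgroup passes to subgroups. -/
theorem normal_two_of_le (h : ∀ P : Sylow 2 G, (P : Subgroup G).Normal) (H : Subgroup G)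
    (P : Sylow 2 H) : (P : Subgroup H).Normal := by
  obtain ⟨P₀, hP₀⟩ := (P.2.map H.subtype).exists_le_sylow
  haveI := h P₀
  have e : (P : Subgroup H) = (P₀ : Subgroup G).subgroupOf H :=
    (P.3 (IsPGroup.comap_subtype P₀.2 (K := H))
      (fun y hy => hP₀ (Subgroup.mem_map_of_mem H.subtype hy))).symm
  rw [e]
  infer_instance

/-- The hypothesis on normalizers in terms of their own Sylow `2`-subgroups. -/
theorem rfOn_of_normal_two_sub (hq2 : q ≠ 2) (H : Subgroup G)
    (h : ∀ P : Sylow 2 H, (P : Subgroup H).Normal) : RFOn q H := by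
  haveI := h (Classical.ofNonempty)
  have h1 : RFOn q (⊤ : Subgroup H) := rfOn_of_normal_two hq2 Classical.ofNonempty
  rw [← rfOn_map_iff H.subtype H.subtype_injective, ← MonoidHom.range_eq_map,
    Subgroup.range_subtype] at h1
  exact h1

theorem rfOn_of_not_dvd (h : ¬ q ∣ Nat.card G) (H : Subgroup G) : RFOn q H :=
  fun _ _ _ _ hx _ => hx.eq_one_of_pow ((hq.out.coprime_iff_not_dvd.2 h).symm) pow_card_eq_one'

/-- Inverted elements of a subgroup over the Sylow subgroup `T` may be taken in `T`. -/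
theorem rfOn_of_sylow (T : Sylow q G) {H : Subgroup G} (hTH : (T : Subgroup G) ≤ H)
    (h : ∀ x ∈ (T : Subgroup G), x ≠ 1 → ∀ g ∈ H, g * x * g⁻¹ ≠ x⁻¹) : RFOn q H := by
  intro x hx g hg hxp hinv
  by_contra hx1
  obtain ⟨n, hn, hle⟩ := (Fus.IsSylowOf.of_card_le hTH T.2
    fun A _ hA hle => (T.3 hA hle).le).exists_conj_le hxp.isPGroup_zpowers
      (Subgroup.zpowers_le.2 hx)
  refine h (n * x * n⁻¹) (hle ⟨x, Subgroup.mem_zpowers x, rfl⟩) ?_ (n * g * n⁻¹)
    (H.mul_mem (H.mul_mem hn hg) (H.inv_mem hn)) ?_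
  · exact fun e => hx1 (conj_eq_one_iff.1 e)
  · calc n * g * n⁻¹ * (n * x * n⁻¹) * (n * g * n⁻¹)⁻¹ = n * (g * x * g⁻¹) * n⁻¹ := by group
      _ = (n * x * n⁻¹)⁻¹ := by rw [hinv]; group

/-- The equivalences. -/
theorem normal_two_iff_thompson :
    ((∀ P : Sylow 2 G, (P : Subgroup G).Normal) ↔ ∀ (q : ℕ) [Fact q.Prime], q ≠ 2 →
        q ∣ Nat.card G → ∀ T : Sylow q G, ∀ P : Sylow 2
          ↥(Subgroup.normalizer (Cfsg.centerThompsonAOf (T : Subgroup G) : Set G)),
          (P : Subgroup ↥(Subgroup.normalizer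
            (Cfsg.centerThompsonAOf (T : Subgroup G) : Set G))).Normal) ∧
      ((∀ P : Sylow 2 G, (P : Subgroup G).Normal) ↔ ∀ (q : ℕ) [Fact q.Prime], q ≠ 2 →
        ∀ T : Sylow q G, ∀ x ∈ (T : Subgroup G), x ≠ 1 →
          ∀ g ∈ Subgroup.normalizer (Cfsg.centerThompsonAOf (T : Subgroup G) : Set G),
            g * x * g⁻¹ ≠ x⁻¹) := by
  refine ⟨⟨fun h q _ _ _ T P => normal_two_of_le h _ P, fun h P => ?_⟩,
    ⟨fun h q _ hq2 T x hx hx1 g _ e => hx1 ?_, fun h P => ?_⟩⟩
  · refine two_sylow_normal (fun q _ hq2 T => ?_) P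
    by_cases hd : q ∣ Nat.card G
    · exact rfOn_of_normal_two_sub hq2 _ (h q hq2 hd T)
    · exact rfOn_of_not_dvd hd _
  · haveI := h Classical.ofNonempty
    exact rfOn_of_normal_two hq2 Classical.ofNonempty x (Subgroup.mem_top _) g (Subgroup.mem_top _)
      (isPElem_of_mem T.2 hx) e
  · exact two_sylow_normal (fun q _ hq2 T => rfOn_of_sylow T
      (Subgroup.le_normalizer.trans (normalizer_le_normalizer_zj _)) (h q hq2 T)) P

end Cfsg.Agent.Invol.RealFree
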