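import Mathlib
import Cfsg.Prelude
import Cfsg.Agent.Lib.Invol.PResidual
import Cfsg.Agent.Lib.Invol.CharP
import Cfsg.Agent.Lib.Grp.Subnormal
import Cfsg.Agent.Lib.Block.PPartDerived

/-!
Normal subgroups centralised modulo the `p`-core by `O^p`.
-/

set_option autoImplicit false
set_option linter.style.haveILetI false

namespace Cfsg.Agent.Invol.FrakHIrred

open Subgroup

universe u

variable {Γ : Type u} [Group Γ] [Finite Γ] {p : ℕ} [hp : Fact p.Prime]

theorem eq_one_of_pow (hcore : Cfsg.pCore p Γ = ⊥) (N : Subgroup Γ) [hN : N.Normal]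
    (hC : Cfsg.pResidual p Γ ≤ centralizer (N : Set Γ)) {n : Γ} (hn : n ∈ N) {k : ℕ}
    (hk : n ^ p ^ k = 1) : n = 1 := by
  have hz : IsPGroup p ↥(zpowers (⟨n, hn⟩ : ↥N)) := by
    rintro ⟨z, hz⟩
    obtain ⟨i, rfl⟩ := mem_zpowers_iff.mp hz
    refine ⟨k, Subtype.ext (Subtype.ext ?_)⟩
    simp only [SubgroupClass.coe_pow, OneMemClass.coe_one, SubgroupClass.coe_zpow]
    rw [← zpow_natCast, ← zpow_mul, mul_comm, zpow_mul, zpow_natCast, hk, one_zpow]
  obtain ⟨S, hS⟩ := hz.exists_le_sylow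
  have hSn : (S : Subgroup ↥N).Normal := by
    rw [← normalizer_eq_top_iff, eq_top_iff, ← pResidual_sup_sylow S]
    refine sup_le ?_ le_normalizer
    rw [Cfsg.pResidual, closure_le]
    intro x hx
    refine mem_normalizer_fintype fun s hs => ?_
    have h1 : ((x : ↥N) : Γ) ∈ Cfsg.pResidual p Γ := mem_pResidual (by rwa [Subgroup.orderOf_coe])
    have h2 := mem_centralizer_iff.mp (hC h1) (s : Γ) s.2
    rw [show x * s * x⁻¹ = s from Subtype.ext (by
      show (x : Γ) * s * (x : Γ)⁻¹ = s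
      rw [← h2, mul_inv_cancel_right])]
    exact hs
  have hle : ((S : Subgroup ↥N).map N.subtype) ≤ Cfsg.pCore p Γ := by
    refine Grp.le_pCore_of_isSubnormal ?_ (S.isPGroup'.map _)
    refine IsSubnormal.trans (map_subtype_le _) ?_ hN.isSubnormal
    rw [subgroupOf, comap_map_eq_self_of_injective N.subtype_injective]
    exact hSn.isSubnormal
  have := hle ⟨⟨n, hn⟩, hS (mem_zpowers _), rfl⟩
  rwa [hcore, mem_bot] at this

/-- The version for a normal subgroup `N` of a subgroup `H`, modulo `O_p(H)`. -/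
theorem mem_pCore_of_pow {H : Type u} [Group H] [Finite H] (N : Subgroup H) [hN : N.Normal] (Y : Subgroup H)
    (hR : Cfsg.pResidual p H ≤ normalClosure (Y : Set H))
    (hcomm : ∀ n ∈ N, ∀ y ∈ Y, n * y * n⁻¹ * y⁻¹ ∈ Cfsg.pCore p H)
    {n : H} (hn : n ∈ N) {k : ℕ} (hk : n ^ p ^ k = 1) : n ∈ Cfsg.pCore p H := by
  haveI hAn := Invol.pCore_normal p H
  let π := QuotientGroup.mk' (Cfsg.pCore p H)
  haveI hNn : (N.map π).Normal := hN.map π (QuotientGroup.mk'_surjective _)
  have hC : Cfsg.pResidual p (H ⧸ Cfsg.pCore p H) ≤ centralizer ((N.map π : Subgroup _) : Set (H ⧸ Cfsg.pCore p H)) := by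
    haveI : (centralizer ((N.map π : Subgroup _) : Set (H ⧸ Cfsg.pCore p H))).Normal := by
      rw [← normalizer_eq_top_iff, eq_top_iff]
      intro g _
      refine mem_normalizer_fintype fun c hc => mem_centralizer_iff.mpr fun a ha => ?_
      have h1 := mem_centralizer_iff.mp hc _ (show g⁻¹ * a * g ∈ N.map π by simpa using hNn.conj_mem a ha g⁻¹)
      calc a * (g * c * g⁻¹) = g * (g⁻¹ * a * g * c) * g⁻¹ := by group
        _ = g * (c * (g⁻¹ * a * g)) * g⁻¹ := by rw [h1]
        _ = g * c * g⁻¹ * a := by group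
    have h2 : Cfsg.pResidual p H ≤ (centralizer ((N.map π : Subgroup _) : Set (H ⧸ Cfsg.pCore p H))).comap π := by
      refine hR.trans (normalClosure_le_normal fun y hy => mem_centralizer_iff.mpr ?_)
      rintro _ ⟨m, hm, rfl⟩
      have h3 : π (m * y * m⁻¹ * y⁻¹) = 1 := (QuotientGroup.eq_one_iff _).mpr (hcomm m hm y hy)
      simp only [map_mul, map_inv] at h3
      exact mul_inv_eq_iff_eq_mul.mp (mul_inv_eq_one.mp h3)
    rw [Cfsg.pResidual, closure_le]
    intro γ hγ
    obtain ⟨x, rfl⟩ := QuotientGroup.mk'_surjective _ γ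
    obtain ⟨j, hj⟩ := exists_pow_coprime (p := p) x
    obtain ⟨i, hi⟩ := exists_pow_eq_self_of_coprime (x := QuotientGroup.mk' (Cfsg.pCore p H) x)
      ((Nat.Coprime.pow_right j (hγ : (orderOf (QuotientGroup.mk' (Cfsg.pCore p H) x)).Coprime p)).symm)
    rw [← map_pow] at hi
    rw [SetLike.mem_coe, ← hi]
    exact pow_mem (h2 (mem_pResidual hj)) i
  have h4 := eq_one_of_pow (Cfsg.Agent.Block.PPartDerived.pCore_quotient_eq_bot (p := p) (G := H)) (N.map π) hC
    (mem_map_of_mem π hn) (k := k) (by rw [← map_pow, hk, map_one])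
  exact (QuotientGroup.eq_one_iff n).mp h4

end Cfsg.Agent.Invol.FrakHIrred
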