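import Mathlib
import Cfsg.Prelude.Def_LocalEven
import Cfsg.Agent.Lib.Invol.CharP
import Cfsg.Agent.Lib.Grp.Cores
import Cfsg.Agent.Lib.Grp.Subnormal
import Cfsg.Agent.Lib.Grp.Coprime
import Cfsg.Agent.Lib.Grp.Frattini

/-!
`p`-reduced normal subgroups, and the trace of a fixed point of a Sylow subgroup.
-/

set_option autoImplicit false

open scoped commutatorElement

namespace Cfsg.Agent.Invol

variable {G : Type*} [Group G] [Finite G] {p : ℕ} [Fact p.Prime]

/-- Every element of `M` is a `p`-element modulo `C`. -/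
def PMod (p : ℕ) (M C : Subgroup G) : Prop := ∀ m ∈ M, ∃ k : ℕ, m ^ p ^ k ∈ C

theorem PMod.mono_right {M C C' : Subgroup G} (h : PMod p M C) (hC : C ≤ C') : PMod p M C' :=
  fun m hm => (h m hm).imp fun _ hk => hC hk

theorem PMod.of_isPGroup {M : Subgroup G} (h : IsPGroup p M) (C : Subgroup G) : PMod p M C :=
  fun m hm => (pow_ppow_eq_one_of_mem h hm).imp fun _ hk => by rw [hk]; exact one_mem C

theorem pReduced_iff {V : Subgroup G} : Cfsg.IsPReducedNormal p V ↔ V.Normal ∧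
    Cfsg.IsElementaryAbelian p V ∧ ∀ M : Subgroup G, M.Normal →
      PMod p M (Subgroup.centralizer (V : Set G)) → M ≤ Subgroup.centralizer (V : Set G) := by
  constructor
  · rintro ⟨hV, hEA, hC, hbot⟩
    refine ⟨hV, hEA, fun M hM hMp => ?_⟩
    set π := QuotientGroup.mk' (Subgroup.centralizer (V : Set G))
    have h1 : M.map π ≤ ⊥ := by
      rw [← hbot]
      refine Grp.le_pCore (hM.map π (QuotientGroup.mk'_surjective _)) ?_
      rintro ⟨_, m, hm, rfl⟩
      obtain ⟨k, hk⟩ := hMp m hm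
      refine ⟨k, Subtype.ext ?_⟩
      rw [SubgroupClass.coe_pow, Subgroup.coe_one, ← map_pow]
      exact (QuotientGroup.eq_one_iff _).mpr hk
    intro m hm
    exact (QuotientGroup.eq_one_iff m).mp (Subgroup.mem_bot.mp (h1 ⟨m, hm, rfl⟩))
  · rintro ⟨hV, hEA, h⟩
    have hC : (Subgroup.centralizer (V : Set G)).Normal := by infer_instance
    refine ⟨hV, hEA, hC, ?_⟩
    set π := QuotientGroup.mk' (Subgroup.centralizer (V : Set G))
    have hn := pCore_normal p (G ⧸ Subgroup.centralizer (V : Set G))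
    have hle := h ((Cfsg.pCore p _).comap π) (hn.comap π) fun m hm => by
      obtain ⟨k, hk⟩ := pow_ppow_eq_one_of_mem (Grp.pCore_isPGroup (p := p)) (show π m ∈ Cfsg.pCore p _ from hm)
      exact ⟨k, (QuotientGroup.eq_one_iff _).mp (by rw [QuotientGroup.mk_pow]; exact hk)⟩
    refine eq_bot_iff.mpr fun x hx => ?_
    obtain ⟨g, rfl⟩ := QuotientGroup.mk'_surjective _ x
    exact Subgroup.mem_bot.mpr ((QuotientGroup.eq_one_iff g).mpr (hle hx))

theorem isElementaryAbelian_closure {s : Set G} (hc : ∀ a ∈ s, ∀ b ∈ s, a * b = b * a)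
    (hp : ∀ a ∈ s, a ^ p = 1) : Cfsg.IsElementaryAbelian p (Subgroup.closure s) := by
  have hA := Subgroup.isMulCommutative_closure hc
  refine ⟨hA, fun a ha => ?_⟩
  induction ha using Subgroup.closure_induction with
  | mem a ha => exact hp a ha
  | one => exact one_pow _
  | mul a b ha hb h1 h2 =>
    rw [(show Commute a b from congrArg Subtype.val
      (hA.is_comm.comm (⟨a, ha⟩ : Subgroup.closure s) ⟨b, hb⟩)).mul_pow, h1, h2, mul_one]
  | inv a _ h1 => rw [inv_pow, h1, inv_one]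

theorem isPGroup_of_ea {V : Subgroup G} (h : Cfsg.IsElementaryAbelian p V) : IsPGroup p V :=
  fun a => ⟨1, by rw [pow_one]; exact Subtype.ext (h.2 a a.2)⟩

theorem comm_of_ea {V : Subgroup G} (h : Cfsg.IsElementaryAbelian p V) {a b : G} (ha : a ∈ V)
    (hb : b ∈ V) : a * b = b * a :=
  congrArg Subtype.val (h.1.is_comm.comm (⟨a, ha⟩ : V) ⟨b, hb⟩)

theorem pReduced_le_pCore {V : Subgroup G} (hV : Cfsg.IsPReducedNormal p V) :
    V ≤ Cfsg.pCore p G :=
  Grp.le_pCore hV.1 (isPGroup_of_ea hV.2.1)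

theorem pReduced_centralizes_pCore {V : Subgroup G} (hV : Cfsg.IsPReducedNormal p V) :
    V ≤ Subgroup.centralizer (Cfsg.pCore p G : Set G) := by
  have h := (pReduced_iff.mp hV).2.2 _ (pCore_normal p G)
    (PMod.of_isPGroup Grp.pCore_isPGroup _)
  rwa [Subgroup.le_centralizer_iff]

theorem sup_pReduced {V W : Subgroup G} (hV : Cfsg.IsPReducedNormal p V)
    (hW : Cfsg.IsPReducedNormal p W) : Cfsg.IsPReducedNormal p (V ⊔ W) := by
  have hVW : V ≤ Subgroup.centralizer (W : Set G) :=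
    (pReduced_centralizes_pCore hV).trans (Subgroup.centralizer_le (pReduced_le_pCore hW))
  rw [pReduced_iff] at hV hW ⊢
  obtain ⟨hVn, hVe, hVr⟩ := hV
  obtain ⟨hWn, hWe, hWr⟩ := hW
  refine ⟨inferInstance, ?_, fun M hM hMp => ?_⟩
  · rw [Subgroup.sup_eq_closure]
    refine isElementaryAbelian_closure ?_ ?_
    · rintro a (ha | ha) b (hb | hb)
      · exact comm_of_ea hVe ha hb
      · exact (Subgroup.mem_centralizer_iff.mp (hVW ha) b hb).symm
      · exact Subgroup.mem_centralizer_iff.mp (hVW hb) a ha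
      · exact comm_of_ea hWe ha hb
    · rintro a (ha | ha)
      · exact hVe.2 a ha
      · exact hWe.2 a ha
  · have h1 := hVr M hM (hMp.mono_right (Subgroup.centralizer_le (SetLike.coe_subset_coe.mpr le_sup_left)))
    have h2 := hWr M hM (hMp.mono_right (Subgroup.centralizer_le (SetLike.coe_subset_coe.mpr le_sup_right)))
    rw [Subgroup.le_centralizer_iff] at h1 h2 ⊢
    exact sup_le h1 h2

theorem bot_pReduced : Cfsg.IsPReducedNormal p (⊥ : Subgroup G) := by
  rw [pReduced_iff]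
  refine ⟨inferInstance, ⟨inferInstance, fun a ha => ?_⟩, fun M _ _ => ?_⟩
  · rw [Subgroup.mem_bot.mp ha, one_pow]
  · rw [Subgroup.le_centralizer_iff]
    exact bot_le

theorem largest_pReduced : Cfsg.IsPReducedNormal p (sSup {V : Subgroup G | Cfsg.IsPReducedNormal p V}) := by
  obtain ⟨Y, hY, hmax⟩ := Set.exists_max_image {V : Subgroup G | Cfsg.IsPReducedNormal p V}
    (fun V : Subgroup G => Nat.card V) (Set.toFinite _) ⟨⊥, bot_pReduced⟩
  have e : sSup {V : Subgroup G | Cfsg.IsPReducedNormal p V} = Y := by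
    refine le_antisymm (sSup_le fun V hV => ?_) (le_sSup hY)
    have := Subgroup.eq_of_le_of_card_ge (le_sup_left : Y ≤ Y ⊔ V) (hmax _ (sup_pReduced hY hV))
    exact this ▸ le_sup_right
  exact e ▸ hY

/-- If `M / (M ⊓ C)` is a `p`-group then `M = (M ⊓ T)(M ⊓ C)`. -/
theorem le_of_pMod_sylow {M C E : Subgroup G} [hM : M.Normal] [hC : C.Normal] (T : Sylow p G)
    (hMp : PMod p M C) (hT : M ⊓ (T : Subgroup G) ≤ E) (hCE : M ⊓ C ≤ E) : M ≤ E := by
  set K := (M ⊓ (T : Subgroup G)) ⊔ (M ⊓ C) with hK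
  suffices h : K.relIndex M = 1 from (Subgroup.relIndex_eq_one.mp h).trans (sup_le hT hCE)
  have hd1 : K.relIndex M ∣ (M ⊓ (T : Subgroup G)).relIndex M := Subgroup.relIndex_dvd_of_le_left M le_sup_left
  rw [inf_comm M (T : Subgroup G), Subgroup.inf_relIndex_right] at hd1
  have hd2 : K.relIndex M ∣ (M ⊓ C).relIndex M := Subgroup.relIndex_dvd_of_le_left M le_sup_right
  rw [Subgroup.inf_relIndex_left] at hd2
  have hn := hC.subgroupOf M
  have hq : IsPGroup p (↥M ⧸ C.subgroupOf M) := fun x => by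
    obtain ⟨m, rfl⟩ := QuotientGroup.mk_surjective x
    obtain ⟨k, hk⟩ := hMp m m.2
    exact ⟨k, by rw [← QuotientGroup.mk_pow, QuotientGroup.eq_one_iff]; exact hk⟩
  obtain ⟨j, hj⟩ := hq.exists_card_eq
  have hj' : C.relIndex M = p ^ j := hj
  refine Nat.eq_one_of_dvd_coprimes ?_ hd1 (hj' ▸ hd2)
  exact Nat.Coprime.pow_right j
    ((Fact.out : p.Prime).coprime_iff_not_dvd.mpr (Grp.sylow_inf_normal_relIndex T M)).symm

/-- The trace of a fixed point of a subgroup of index prime to `p`. -/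
theorem exists_trace {U L T₀ : Subgroup G} (hU : IsMulCommutative U)
    (hLU : L ≤ Subgroup.normalizer (U : Set G)) (hT : T₀ ≤ L) :
    ∃ τ : G → G, (∀ u ∈ U ⊓ Subgroup.centralizer (T₀ : Set G),
        τ u ∈ U ⊓ Subgroup.centralizer (L : Set G) ∧ (τ u)⁻¹ * u ^ T₀.relIndex L ∈ ⁅U, L⁆) ∧
      (∀ u ∈ U ⊓ Subgroup.centralizer (T₀ : Set G), ∀ v ∈ U ⊓ Subgroup.centralizer (T₀ : Set G),
        τ (u * v) = τ u * τ v) ∧
      (∀ u ∈ U ⊓ Subgroup.centralizer (L : Set G), τ u = u ^ T₀.relIndex L) ∧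
      ∀ t : G, t ∈ Subgroup.normalizer (U : Set G) → t ∈ Subgroup.normalizer (L : Set G) →
        t ∈ Subgroup.normalizer (T₀ : Set G) →
        ∀ u ∈ U ⊓ Subgroup.centralizer (T₀ : Set G), τ (t * u * t⁻¹) = t * τ u * t⁻¹ := by
  classical
  open scoped IsMulCommutative in
  haveI := Fintype.ofFinite (↥L ⧸ T₀.subgroupOf L)
  set n := T₀.relIndex L
  have hconj : ∀ (g : L) (u : U), (g : G) * u * (g : G)⁻¹ ∈ U := fun g u =>
    (Subgroup.mem_normalizer_iff.mp (hLU g.2) u).mp u.2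
  let cj : L → U → U := fun g u => ⟨(g : G) * u * (g : G)⁻¹, hconj g u⟩
  let tr : U → U := fun u => ∏ q : ↥L ⧸ T₀.subgroupOf L, cj q.out u
  let τ : G → G := fun u => if h : u ∈ U then ((tr ⟨u, h⟩ : U) : G) else 1
  have hτ : ∀ u (h : u ∈ U), τ u = ((tr ⟨u, h⟩ : U) : G) := fun u h => dif_pos h
  -- the value does not depend on the representative
  have hwd : ∀ u : U, (u : G) ∈ Subgroup.centralizer (T₀ : Set G) → ∀ g : L,
      cj (QuotientGroup.mk g : ↥L ⧸ T₀.subgroupOf L).out u = cj g u := by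
    intro u hu g
    obtain ⟨s, hs⟩ := QuotientGroup.mk_out_eq_mul (T₀.subgroupOf L) g
    refine Subtype.ext ?_
    show ((QuotientGroup.mk g : ↥L ⧸ T₀.subgroupOf L).out : G) * u * _⁻¹ = (g : G) * u * (g : G)⁻¹
    rw [hs, Subgroup.coe_mul]
    have h1 := Subgroup.mem_centralizer_iff.mp hu ((s : L) : G) s.2
    calc (g : G) * ((s : L) : G) * u * ((g : G) * ((s : L) : G))⁻¹
        = (g : G) * (((s : L) : G) * u) * ((s : L) : G)⁻¹ * (g : G)⁻¹ := by group
      _ = (g : G) * u * (g : G)⁻¹ := by rw [h1]; group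
  refine ⟨τ, fun u hu => ⟨?_, ?_⟩, fun u hu v hv => ?_, fun u hu => ?_, fun t htU htL htT u hu => ?_⟩
  · rw [hτ u hu.1]
    refine Subgroup.mem_inf.mpr ⟨(tr ⟨u, hu.1⟩).2, Subgroup.mem_centralizer_iff.mpr fun l hl => ?_⟩
    let α : U →* U := MonoidHom.mk' (cj ⟨l, hl⟩) fun a b => Subtype.ext (by simp [cj])
    have key : α (tr ⟨u, hu.1⟩) = tr ⟨u, hu.1⟩ := by
      show α (∏ q : ↥L ⧸ T₀.subgroupOf L, cj q.out ⟨u, hu.1⟩) = _
      rw [map_prod]
      refine Fintype.prod_equiv (MulAction.toPerm (⟨l, hl⟩ : L)) _ _ fun q => ?_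
      obtain ⟨g, rfl⟩ := QuotientGroup.mk_surjective q
      show α (cj _ ⟨u, hu.1⟩) = cj (QuotientGroup.mk ((⟨l, hl⟩ : L) * g) : ↥L ⧸ T₀.subgroupOf L).out ⟨u, hu.1⟩
      rw [hwd _ hu.2, hwd _ hu.2]
      refine Subtype.ext ?_
      simp [α, cj, mul_assoc]
    have h := congrArg Subtype.val key
    simp only [α, MonoidHom.mk'_apply, cj] at h
    exact mul_inv_eq_iff_eq_mul.mp h
  · rw [hτ u hu.1]
    set D := ⁅U, L⁆
    have hcongr : ∀ (s : Finset (↥L ⧸ T₀.subgroupOf L)),
        ((∏ q ∈ s, cj q.out ⟨u, hu.1⟩ : U) : G)⁻¹ * u ^ s.card ∈ D := by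
      intro s
      induction s using Finset.induction with
      | empty => simp
      | insert q s hq ih =>
        rw [Finset.prod_insert hq, Finset.card_insert_of_notMem hq, mul_comm, Subgroup.coe_mul, pow_succ]
        set a : U := cj q.out ⟨u, hu.1⟩
        set b : U := ∏ q ∈ s, cj q.out ⟨u, hu.1⟩
        have hcomm := congrArg Subtype.val (mul_comm (b⁻¹ * ⟨u, hu.1⟩ ^ s.card) a⁻¹)
        simp only [Subgroup.coe_mul, InvMemClass.coe_inv, SubgroupClass.coe_pow] at hcomm
        have e : ((b : G) * a)⁻¹ * (u ^ s.card * u) = (b : G)⁻¹ * u ^ s.card * ((a : G)⁻¹ * u) := by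
          rw [mul_inv_rev, ← mul_assoc (((b : G))⁻¹ * u ^ s.card), hcomm]
          group
        rw [e]
        refine mul_mem ih ?_
        have h1 := inv_mem (Subgroup.commutator_mem_commutator
          (show (u⁻¹ : G) ∈ U from inv_mem hu.1) (q.out : L).2)
        have h2 : ((a : G))⁻¹ * u = ⁅(u⁻¹ : G), ((q.out : L) : G)⁆⁻¹ := by
          simp only [a, cj, commutatorElement_def]
          group
        rw [h2]
        exact h1
    have h := hcongr Finset.univ
    rwa [Finset.card_univ, ← Nat.card_eq_fintype_card] at h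
  · rw [hτ _ (mul_mem hu.1 hv.1), hτ _ hu.1, hτ _ hv.1, ← Subgroup.coe_mul]
    refine congrArg Subtype.val ?_
    show ∏ q : ↥L ⧸ T₀.subgroupOf L, cj q.out _ = (∏ q : ↥L ⧸ T₀.subgroupOf L, cj q.out _) * ∏ q : ↥L ⧸ T₀.subgroupOf L, cj q.out _
    rw [← Finset.prod_mul_distrib]
    refine Finset.prod_congr rfl fun q _ => Subtype.ext ?_
    simp [cj]
  · rw [hτ u hu.1]
    have : tr ⟨u, hu.1⟩ = ⟨u, hu.1⟩ ^ n := by
      show ∏ q : ↥L ⧸ T₀.subgroupOf L, cj q.out _ = _
      rw [show n = Fintype.card (↥L ⧸ T₀.subgroupOf L) from Nat.card_eq_fintype_card, ← Finset.card_univ,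
        ← Finset.prod_const]
      refine Finset.prod_congr rfl fun q _ => Subtype.ext ?_
      show ((q.out : L) : G) * u * ((q.out : L) : G)⁻¹ = u
      rw [Subgroup.mem_centralizer_iff.mp hu.2 _ (q.out : L).2, mul_inv_cancel_right]
    rw [this, SubgroupClass.coe_pow]
  · have hu' : t * u * t⁻¹ ∈ U := (Subgroup.mem_normalizer_iff.mp htU u).mp hu.1
    have hu'' : t * u * t⁻¹ ∈ Subgroup.centralizer (T₀ : Set G) := Subgroup.mem_centralizer_iff.mpr fun s hs => by
      have h1 := Subgroup.mem_centralizer_iff.mp hu.2 _ ((Subgroup.mem_normalizer_iff''.mp htT s).mp hs)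
      calc s * (t * u * t⁻¹) = t * (t⁻¹ * s * t * u) * t⁻¹ := by group
        _ = t * (u * (t⁻¹ * s * t)) * t⁻¹ := by rw [h1]
        _ = t * u * t⁻¹ * s := by group
    rw [hτ _ hu', hτ _ hu.1]
    let β : U →* U := MonoidHom.mk' (fun a => ⟨t * a * t⁻¹, (Subgroup.mem_normalizer_iff.mp htU _).mp a.2⟩)
      fun a b => Subtype.ext (by simp)
    let π : L → L := fun g => ⟨t * g * t⁻¹, (Subgroup.mem_normalizer_iff.mp htL _).mp g.2⟩
    have key : tr ⟨t * u * t⁻¹, hu'⟩ = β (tr ⟨u, hu.1⟩) := by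
      show ∏ q : ↥L ⧸ T₀.subgroupOf L, cj q.out _ = β (∏ q : ↥L ⧸ T₀.subgroupOf L, cj q.out _)
      rw [map_prod]
      let e : (↥L ⧸ T₀.subgroupOf L) → (↥L ⧸ T₀.subgroupOf L) := Quotient.map' π fun a b hab => by
        rw [QuotientGroup.leftRel_apply] at hab ⊢
        rw [Subgroup.mem_subgroupOf] at hab ⊢
        have := (Subgroup.mem_normalizer_iff.mp htT _).mp hab
        simpa [π, mul_assoc] using this
      have he : Function.Bijective e := by
        refine Finite.injective_iff_bijective.mp fun q₁ q₂ h => ?_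
        obtain ⟨a, rfl⟩ := QuotientGroup.mk_surjective q₁
        obtain ⟨b, rfl⟩ := QuotientGroup.mk_surjective q₂
        have h' : (QuotientGroup.mk (π a) : ↥L ⧸ T₀.subgroupOf L) = QuotientGroup.mk (π b) := h
        rw [QuotientGroup.eq, Subgroup.mem_subgroupOf] at h' ⊢
        refine (Subgroup.mem_normalizer_iff.mp htT _).mpr ?_
        simpa [π, mul_assoc] using h'
      refine (Fintype.prod_bijective e he _ _ fun q => ?_).symm
      obtain ⟨g, rfl⟩ := QuotientGroup.mk_surjective q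
      show β (cj _ ⟨u, hu.1⟩) = cj (QuotientGroup.mk (π g) : ↥L ⧸ T₀.subgroupOf L).out _
      rw [hwd _ hu.2, hwd _ hu'']
      refine Subtype.ext ?_
      simp [β, cj, π, mul_assoc]
    exact congrArg Subtype.val key

/-- The `p`-reduced normal subgroups of an overgroup of a Sylow subgroup give such subgroups. -/
theorem normalClosure_pReduced (hchar : CharP' p G) (T : Sylow p G) (R : Subgroup G)
    (hTR : (T : Subgroup G) ≤ R) {X : Subgroup ↥R} (hX : Cfsg.IsPReducedNormal p X) :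
    Cfsg.IsPReducedNormal p (Subgroup.normalClosure ((X.map R.subtype : Subgroup G) : Set G)) := by
  have hXc := pReduced_centralizes_pCore hX
  rw [pReduced_iff] at hX ⊢
  obtain ⟨hXn, hXe, hXr⟩ := hX
  set Xg := X.map R.subtype with hXg
  set W := Subgroup.normalClosure (Xg : Set G) with hW
  have hQn := pCore_normal p G
  have hQR : Cfsg.pCore p G ≤ R := (Grp.pCore_le_sylow T).trans hTR
  have hXQ : Xg ≤ Subgroup.centralizer (Cfsg.pCore p G : Set G) := by
    rintro _ ⟨x, hx, rfl⟩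
    refine Subgroup.mem_centralizer_iff.mpr fun q hq => ?_
    exact congrArg Subtype.val (Subgroup.mem_centralizer_iff.mp (hXc hx) ⟨q, hQR hq⟩
      (Grp.le_pCore (hQn.subgroupOf R) Grp.pCore_isPGroup.comap_subtype
        (show (⟨q, hQR hq⟩ : R) ∈ (Cfsg.pCore p G).subgroupOf R from hq)))
  have hWQ : W ≤ Subgroup.centralizer (Cfsg.pCore p G : Set G) :=
    Subgroup.normalClosure_le_normal hXQ
  refine ⟨Subgroup.normalClosure_normal, ?_, fun M hM hMp => ?_⟩
  · rw [hW, Subgroup.normalClosure]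
    refine isElementaryAbelian_closure (fun a ha b hb => ?_) fun a ha => ?_
    · exact (Subgroup.mem_centralizer_iff.mp (hWQ (Subgroup.conjugatesOfSet_subset_normalClosure ha)) b
        (hchar (hWQ (Subgroup.conjugatesOfSet_subset_normalClosure hb)))).symm
    · obtain ⟨y, ⟨x, hx, rfl⟩, hy⟩ := Group.mem_conjugatesOfSet_iff.mp ha
      obtain ⟨c, rfl⟩ := isConj_iff.mp hy
      have h1 : (x : G) ^ p = 1 := congrArg Subtype.val (hXe.2 x hx)
      rw [conj_pow]
      show c * (x : G) ^ p * c⁻¹ = 1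
      rw [h1]; group
  · have hXW : Xg ≤ W := Subgroup.le_normalClosure
    have hWn : W.Normal := Subgroup.normalClosure_normal
    have h1 : M.subgroupOf R ≤ Subgroup.centralizer (X : Set R) := by
      refine hXr _ (hM.subgroupOf R) fun m hm => ?_
      obtain ⟨k, hk⟩ := hMp m hm
      refine ⟨k, Subgroup.mem_centralizer_iff.mpr fun x hx => Subtype.ext ?_⟩
      exact Subgroup.mem_centralizer_iff.mp hk x (hXW ⟨x, hx, rfl⟩)
    have h2 : M ≤ Subgroup.centralizer (Xg : Set G) := by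
      refine le_of_pMod_sylow (C := Subgroup.centralizer (W : Set G)) T hMp ?_
        (inf_le_right.trans (Subgroup.centralizer_le hXW))
      rintro m ⟨hmM, hmT⟩
      refine Subgroup.mem_centralizer_iff.mpr ?_
      rintro _ ⟨x, hx, rfl⟩
      exact congrArg Subtype.val
        (Subgroup.mem_centralizer_iff.mp (h1 (show (⟨m, hTR hmT⟩ : R) ∈ M.subgroupOf R from hmM)) x hx)
    rw [Subgroup.le_centralizer_iff] at h2 ⊢
    exact Subgroup.normalClosure_le_normal h2

/-- `g` centralizes the elements of order dividing `p` in the centre of `S`. -/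
def CentZ (p : ℕ) (S : Subgroup G) (g : G) : Prop :=
  ∀ z ∈ S, (∀ s ∈ S, s * z = z * s) → z ^ p = 1 → z * g = g * z

theorem mem_centralizer_omegaOne_iff {S : Subgroup G} {g : G} :
    g ∈ Subgroup.centralizer (Cfsg.omegaOne p (S ⊓ Subgroup.centralizer (S : Set G)) : Set G) ↔
      CentZ p S g := by
  rw [Cfsg.omegaOne, Subgroup.centralizer_closure, Subgroup.mem_centralizer_iff]
  refine ⟨fun h z hz hc hp => h z ⟨⟨hz, Subgroup.mem_centralizer_iff.mpr hc⟩, hp⟩, fun h z hz => ?_⟩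
  exact h z hz.1.1 (Subgroup.mem_centralizer_iff.mp hz.1.2) hz.2

/-- The subgroup of elements satisfying `CentZ`. -/
def centZSubgroup (p : ℕ) (S : Subgroup G) : Subgroup G :=
  Subgroup.centralizer {z : G | z ∈ S ∧ (∀ s ∈ S, s * z = z * s) ∧ z ^ p = 1}

theorem mem_centZSubgroup {S : Subgroup G} {g : G} : g ∈ centZSubgroup p S ↔ CentZ p S g := by
  rw [centZSubgroup, Subgroup.mem_centralizer_iff]
  exact ⟨fun h z h1 h2 h3 => h z ⟨h1, h2, h3⟩, fun h z hz => h z hz.1 hz.2.1 hz.2.2⟩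

theorem centZ_of_normal (hchar : CharP' p G) (T : Sylow p G) (L : Subgroup G) [hL : L.Normal]
    {g : G} (hg : g ∈ L) :
    CentZ p (T : Subgroup G) g ↔ CentZ p ((T : Subgroup G) ⊓ L) g := by
  set T₀ := (T : Subgroup G) ⊓ L with hT₀
  have hQn := pCore_normal p G
  have hn : ¬ p ∣ T₀.relIndex L := by
    rw [hT₀, Subgroup.inf_relIndex_right]
    exact Grp.sylow_inf_normal_relIndex T L
  have hidx : ∀ L₁ : Subgroup G, T₀ ≤ L₁ → L₁ ≤ L → ¬ p ∣ T₀.relIndex L₁ := fun L₁ h1 h2 h =>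
    hn (h.trans (Dvd.intro _ (Subgroup.relIndex_mul_relIndex T₀ L₁ L h1 h2)))
  have hroot : ∀ (n : ℕ) (z a : G), ¬ p ∣ n → z ^ p = 1 → Commute (z ^ n) a → Commute z a := by
    intro n z a hn hz hc
    obtain ⟨m, hm⟩ := exists_pow_eq_self_of_coprime (x := z) (n := n) (by
      rcases (Nat.dvd_prime (Fact.out : p.Prime)).mp (orderOf_dvd_of_pow_eq_one hz) with e | e
      · rw [e]; exact Nat.coprime_one_right n
      · rw [e]; exact ((Fact.out : p.Prime).coprime_iff_not_dvd.mpr hn).symm)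
    rw [← hm]
    exact hc.pow_left m
  constructor
  · -- `C_L(Z)` centralizes the centre of `T ∩ L`
    intro hgZ
    set L₁ := L ⊓ centZSubgroup p (T : Subgroup G) with hL₁
    have hgL₁ : g ∈ L₁ := ⟨hg, mem_centZSubgroup.mpr hgZ⟩
    have hT₀L₁ : T₀ ≤ L₁ := le_inf inf_le_right fun s hs =>
      mem_centZSubgroup.mpr fun z _ hzc _ => (hzc s hs.1).symm
    set Q₀ := Cfsg.pCore p G ⊓ L with hQ₀
    set A := Q₀ ⊓ Subgroup.centralizer (Q₀ : Set G) with hA
    have hAc : IsMulCommutative A := ⟨⟨fun a b => Subtype.ext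
      ((Subgroup.mem_centralizer_iff.mp b.2.2 a a.2.1))⟩⟩
    have hAn : A.Normal := inferInstance
    obtain ⟨τ, h1, h2, h3, h4⟩ := exists_trace (U := A) (L := L₁) (T₀ := T₀) hAc
      (by rw [Subgroup.normalizer_eq_top]; exact le_top) hT₀L₁
    set n := T₀.relIndex L₁
    have hn₁ : ¬ p ∣ n := hidx L₁ hT₀L₁ inf_le_left
    have hQ₀T : Q₀ ≤ T₀ := inf_le_inf_right L (Grp.pCore_le_sylow T)
    -- the elements of order dividing `p` in the centre of `T₀`
    set X : Set G := {x | x ∈ T₀ ∧ (∀ s ∈ T₀, s * x = x * s) ∧ x ^ p = 1} with hX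
    have hXA : ∀ x ∈ X, x ∈ A ⊓ Subgroup.centralizer (T₀ : Set G) := by
      rintro x ⟨hx, hxc, -⟩
      have hxcent : x ∈ Subgroup.centralizer (Q₀ : Set G) :=
        Subgroup.mem_centralizer_iff.mpr fun q hq => hxc q (hQ₀T hq)
      refine ⟨⟨?_, hxcent⟩, Subgroup.mem_centralizer_iff.mpr hxc⟩
      have hcharL : CharP' p L := charP_of_isSubnormal hchar hL.isSubnormal
      have h5 : (⟨x, hx.2⟩ : L) ∈ Cfsg.pCore p L := hcharL (Subgroup.mem_centralizer_iff.mpr fun q hq =>
        Subtype.ext (hxc q (hQ₀T ⟨Grp.pCore_map_le L ⟨q, hq, rfl⟩, q.2⟩)))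
      exact ⟨Grp.pCore_map_le L ⟨_, h5, rfl⟩, hx.2⟩
    have hτX : ∀ x ∈ X, τ x ∈ X := by
      intro x hx
      obtain ⟨⟨hA', hC'⟩, -⟩ := h1 x (hXA x hx)
      refine ⟨hQ₀T hA'.1, fun s hs => Subgroup.mem_centralizer_iff.mp hC' s (hT₀L₁ hs), ?_⟩
      have hmem := hXA x hx
      have hpow : ∀ k : ℕ, τ (x ^ k) = τ x ^ k := by
        intro k
        induction k with
        | zero => rw [pow_zero, pow_zero, h3 1 (one_mem _), one_pow]
        | succ k ih => rw [pow_succ, h2 _ (pow_mem hmem k) _ hmem, ih, pow_succ]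
      rw [← hpow, hx.2.2, h3 1 (one_mem _), one_pow]
    have hinj : Set.InjOn τ X := by
      intro x hx y hy he
      -- the kernel is normalized by `T`
      let K : Subgroup G :=
        { carrier := {a | a ∈ X ∧ τ a = 1}
          one_mem' := ⟨⟨one_mem _, fun s _ => by simp, one_pow p⟩, by rw [h3 1 (one_mem _), one_pow]⟩
          mul_mem' := by
            rintro a b ⟨⟨ha1, ha2, ha3⟩, ha4⟩ ⟨⟨hb1, hb2, hb3⟩, hb4⟩
            refine ⟨⟨mul_mem ha1 hb1, fun s hs => ?_, ?_⟩, ?_⟩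
            · rw [← mul_assoc, ha2 s hs, mul_assoc, hb2 s hs, ← mul_assoc]
            · rw [(show Commute a b from (ha2 b hb1).symm).mul_pow, ha3, hb3, mul_one]
            · rw [h2 a (hXA a ⟨ha1, ha2, ha3⟩) b (hXA b ⟨hb1, hb2, hb3⟩), ha4, hb4, mul_one]
          inv_mem' := by
            rintro a ⟨⟨ha1, ha2, ha3⟩, ha4⟩
            have hi : a⁻¹ ∈ X := ⟨inv_mem ha1, fun s hs =>
              (show Commute s a from ha2 s hs).inv_right.eq, by rw [inv_pow, ha3, inv_one]⟩
            refine ⟨hi, ?_⟩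
            have := h2 a (hXA a ⟨ha1, ha2, ha3⟩) a⁻¹ (hXA _ hi)
            rw [mul_inv_cancel, h3 1 (one_mem _), one_pow, ha4, one_mul] at this
            exact this.symm }
      have hK : K = ⊥ := by
        by_contra hK
        have hKT : K ≤ (T : Subgroup G) := fun a ha => ha.1.1.1
        have hKn : (K.subgroupOf (T : Subgroup G)).Normal := ⟨fun a ha t => by
          obtain ⟨⟨ha1, ha2, ha3⟩, ha4⟩ := Subgroup.mem_subgroupOf.mp ha
          have htT₀ : (t : G) ∈ Subgroup.normalizer (T₀ : Set G) :=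
            Subgroup.mem_normalizer_fintype fun s hs =>
              ⟨(show (t : G) * s * (t : G)⁻¹ ∈ (T : Subgroup G) from mul_mem (mul_mem t.2 hs.1) (inv_mem t.2)),
                hL.conj_mem s hs.2 t⟩
          have htZ : (t : G) ∈ centZSubgroup p (T : Subgroup G) :=
            mem_centZSubgroup.mpr fun z _ hzc _ => (hzc t t.2).symm
          have hta : (t : G) * a * (t : G)⁻¹ ∈ X := by
            refine ⟨(Subgroup.mem_normalizer_iff.mp htT₀ _).mp ha1, fun s hs => ?_, by rw [conj_pow, ha3]; group⟩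
            have h := ha2 _ ((Subgroup.mem_normalizer_iff''.mp htT₀ s).mp hs)
            calc s * ((t : G) * a * (t : G)⁻¹) = (t : G) * ((t : G)⁻¹ * s * t * a) * (t : G)⁻¹ := by group
              _ = (t : G) * (a * ((t : G)⁻¹ * s * t)) * (t : G)⁻¹ := by rw [h]
              _ = (t : G) * a * (t : G)⁻¹ * s := by group
          refine ⟨hta, ?_⟩
          show τ ((t : G) * a * (t : G)⁻¹) = 1
          rw [h4 t ((Subgroup.normalizer_eq_top A).ge (Subgroup.mem_top _)) (Subgroup.mem_normalizer_fintype fun l hl =>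
            ⟨hL.conj_mem l hl.1 t, (show (t : G) * l * (t : G)⁻¹ ∈ centZSubgroup p (T : Subgroup G) from
              mul_mem (mul_mem htZ hl.2) (inv_mem htZ))⟩) htT₀ a
            (hXA _ ⟨ha1, ha2, ha3⟩), ha4]
          group⟩
        have := T.isPGroup'.isNilpotent
        obtain ⟨⟨a, ha⟩, hne⟩ := Subgroup.ne_bot_iff_exists_ne_one.mp
          (Grp.inf_center_ne_bot (K.subgroupOf (T : Subgroup G)) fun e =>
            hK (eq_bot_iff.mpr fun k hk => Subgroup.mem_bot.mpr (congrArg Subtype.val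
              (Subgroup.mem_bot.mp (e.le (show (⟨k, hKT hk⟩ : (T : Subgroup G)) ∈ K.subgroupOf _ from hk))))))
        obtain ⟨haK, hac⟩ := Subgroup.mem_inf.mp ha
        have hfix : (a : G) ∈ A ⊓ Subgroup.centralizer (L₁ : Set G) := by
          refine ⟨(hXA _ haK.1).1, Subgroup.mem_centralizer_iff.mpr fun l hl => ?_⟩
          exact ((mem_centZSubgroup.mp hl.2) a a.2
            (fun s hs => congrArg Subtype.val (Subgroup.mem_center_iff.mp hac ⟨s, hs⟩)) haK.1.2.2).symm
        have h5 := (h3 _ hfix).symm.trans haK.2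
        refine hne (Subtype.ext (Subtype.ext ?_))
        have h6 := pow_gcd_eq_one.mpr ⟨h5, haK.1.2.2⟩
        rwa [Nat.Coprime.gcd_eq_one ((Fact.out : p.Prime).coprime_iff_not_dvd.mpr hn₁).symm, pow_one] at h6
      have hd : x * y⁻¹ ∈ K := by
        have hyi : y⁻¹ ∈ X := ⟨inv_mem hy.1, fun s hs =>
          (show Commute s y from hy.2.1 s hs).inv_right.eq, by rw [inv_pow, hy.2.2, inv_one]⟩
        refine ⟨⟨mul_mem hx.1 hyi.1, fun s hs => ?_, ?_⟩, ?_⟩
        · rw [← mul_assoc, hx.2.1 s hs, mul_assoc, hyi.2.1 s hs, ← mul_assoc]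
        · rw [(show Commute x y⁻¹ from (hx.2.1 _ hyi.1).symm).mul_pow, hx.2.2, hyi.2.2, mul_one]
        · show τ (x * y⁻¹) = 1
          rw [h2 x (hXA x hx) _ (hXA _ hyi), he, ← h2 y (hXA y hy) _ (hXA _ hyi), mul_inv_cancel,
            h3 1 (one_mem _), one_pow]
      rw [hK, Subgroup.mem_bot, mul_inv_eq_one] at hd
      exact hd
    intro x hx hxc hxp
    obtain ⟨y, hy, rfl⟩ := ((Set.toFinite X).injOn_iff_bijOn_of_mapsTo hτX).mp hinj |>.surjOn
      (show x ∈ X from ⟨hx, hxc, hxp⟩)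
    exact (Subgroup.mem_centralizer_iff.mp (h1 y (hXA y hy)).1.2 g hgL₁).symm
  · -- `C_L(Ω₁Z(T ∩ L))` centralizes `Z`
    intro hgX z hzT hzc hzp
    set L₁ := L ⊓ centZSubgroup p T₀ with hL₁
    have hgL₁ : g ∈ L₁ := ⟨hg, mem_centZSubgroup.mpr hgX⟩
    have hT₀L₁ : T₀ ≤ L₁ := le_inf inf_le_right fun s hs =>
      mem_centZSubgroup.mpr fun x _ hxc _ => (hxc s hs).symm
    set A := Cfsg.pCore p G ⊓ Subgroup.centralizer (Cfsg.pCore p G : Set G) with hA
    have hAc : IsMulCommutative A := ⟨⟨fun a b => Subtype.ext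
      ((Subgroup.mem_centralizer_iff.mp b.2.2 a a.2.1))⟩⟩
    have hAn : A.Normal := inferInstance
    obtain ⟨τ, h1, h2, h3, -⟩ := exists_trace (U := A) (L := L₁) (T₀ := T₀) hAc
      (by rw [Subgroup.normalizer_eq_top]; exact le_top) hT₀L₁
    set n := T₀.relIndex L₁
    have hn₁ : ¬ p ∣ n := hidx L₁ hT₀L₁ inf_le_left
    have hzQ : z ∈ Subgroup.centralizer (Cfsg.pCore p G : Set G) :=
      Subgroup.mem_centralizer_iff.mpr fun q hq => hzc q (Grp.pCore_le_sylow T hq)
    have hzmem : z ∈ A ⊓ Subgroup.centralizer (T₀ : Set G) :=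
      ⟨⟨hchar hzQ, hzQ⟩, Subgroup.mem_centralizer_iff.mpr fun s hs => hzc s hs.1⟩
    obtain ⟨⟨hτA, hτC⟩, hcomm⟩ := h1 z hzmem
    set w := (τ z)⁻¹ * z ^ n with hw
    have hwA : w ∈ A := mul_mem (inv_mem hτA) (pow_mem hzmem.1 n)
    have hwL : w ∈ L := by
      refine (Subgroup.commutator_le.mpr (fun a _ l hl => ?_)) hcomm
      rw [commutatorElement_def]
      exact mul_mem (hL.conj_mem l hl.1 a) (inv_mem hl.1)
    have hτp : τ z ^ p = 1 := by
      have hpow : ∀ k : ℕ, τ (z ^ k) = τ z ^ k := by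
        intro k
        induction k with
        | zero => rw [pow_zero, pow_zero, h3 1 (one_mem _), one_pow]
        | succ k ih => rw [pow_succ, h2 _ (pow_mem hzmem k) _ hzmem, ih, pow_succ]
      rw [← hpow, hzp, h3 1 (one_mem _), one_pow]
    have hcw : Commute (τ z)⁻¹ (z ^ n) :=
      ((show Commute (τ z) z from congrArg Subtype.val
        (hAc.is_comm.comm (⟨_, hτA⟩ : A) ⟨z, hzmem.1⟩)).pow_right n).inv_left
    have hwc : Commute w g := by
      refine ((mem_centZSubgroup.mp hgL₁.2) w ⟨Grp.pCore_le_sylow T hwA.1, hwL⟩ (fun s hs => ?_) ?_)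
      · have e1 : Commute s (τ z) := Subgroup.mem_centralizer_iff.mp hτC s (hT₀L₁ hs)
        exact (e1.inv_right.mul_right ((show Commute s z from hzc s hs.1).pow_right n)).eq
      · rw [hw, hcw.mul_pow, inv_pow, hτp, inv_one, one_mul, ← pow_mul, mul_comm, pow_mul, hzp, one_pow]
    have hτc : Commute (τ z) g := (Subgroup.mem_centralizer_iff.mp hτC g hgL₁).symm
    refine hroot n z g hn₁ hzp ?_
    rw [show z ^ n = τ z * w by rw [hw, mul_inv_cancel_left]]
    exact hτc.mul_left hwc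

theorem centZ_subgroupOf {S K : Subgroup G} (hSK : S ≤ K) (g : K) :
    CentZ p (S.subgroupOf K) g ↔ CentZ p S (g : G) := by
  refine ⟨fun h z hz hc hp => ?_, fun h z hz hc hp => Subtype.ext ?_⟩
  · exact congrArg Subtype.val (h ⟨z, hSK hz⟩ hz (fun s hs => Subtype.ext (hc s hs)) (Subtype.ext hp))
  · exact h z hz (fun s hs => congrArg Subtype.val (hc ⟨s, hSK hs⟩ hs)) (congrArg Subtype.val hp)

theorem centZ_of_isSubnormal (hchar : CharP' p G) (T : Sylow p G) {H : Subgroup G}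
    (hH : H.IsSubnormal) :
    ∀ g ∈ H, (CentZ p (T : Subgroup G) g ↔ CentZ p ((T : Subgroup G) ⊓ H) g) := by
  induction hH with
  | top => intro g _; rw [inf_top_eq]
  | step H K hle hK hn ih =>
    intro g hg
    rw [ih g (hle hg)]
    have hnd : ¬ p ∣ (((T : Subgroup G) ⊓ K).subgroupOf K).index := by
      rw [← Subgroup.relIndex, Subgroup.inf_relIndex_right]
      exact Grp.not_dvd_relIndex_sylow T hK
    have hp : IsPGroup p ↥(((T : Subgroup G) ⊓ K).subgroupOf K) :=
      (T.isPGroup'.to_le (inf_le_left : (T : Subgroup G) ⊓ K ≤ _)).comap_subtype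
    have h := centZ_of_normal (charP_of_isSubnormal hchar hK) (hp.toSylow hnd) (H.subgroupOf K)
      (g := ⟨g, hle hg⟩) hg
    have e : ((T : Subgroup G) ⊓ H).subgroupOf K =
        ((T : Subgroup G) ⊓ K).subgroupOf K ⊓ H.subgroupOf K := by
      ext x; simp [Subgroup.mem_subgroupOf]
    change CentZ p (((T : Subgroup G) ⊓ K).subgroupOf K) ⟨g, hle hg⟩ ↔
      CentZ p (((T : Subgroup G) ⊓ K).subgroupOf K ⊓ H.subgroupOf K) ⟨g, hle hg⟩ at h
    rw [← e, centZ_subgroupOf inf_le_right, centZ_subgroupOf (inf_le_right.trans hle)] at h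
    exact h

/-- `[V, A] ≤ [[V, A], A]` when `A` is generated by elements of order prime to `p`. -/
theorem commutator_eq_of_coprime_gen {V A : Subgroup G} (hV : IsPGroup p V)
    (hAV : A ≤ Subgroup.normalizer (V : Set G))
    (hgen : A = Subgroup.closure {a : G | a ∈ A ∧ (orderOf a).Coprime p}) :
    ⁅V, A⁆ ≤ ⁅⁅V, A⁆, A⁆ := by
  set D := ⁅V, A⁆ with hD
  set E := ⁅D, A⁆ with hE
  refine Subgroup.commutator_le.mpr fun v hv a ha => ?_
  have key : ∀ a ∈ Subgroup.closure {a : G | a ∈ A ∧ (orderOf a).Coprime p},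
      ∀ v ∈ V, ⁅v, a⁆ ∈ E := by
    intro a ha
    have hAE : A ≤ Subgroup.normalizer (E : Set G) := Grp.right_le_normalizer_commutator A D
    induction ha using Subgroup.closure_induction with
    | mem a ha =>
      intro v hv
      obtain ⟨haA, hac⟩ := ha
      have hsub : Subgroup.zpowers a ≤ A := Subgroup.zpowers_le.mpr haA
      have h1 : ⁅V, Subgroup.zpowers a⁆ ≤ E := by
        rw [← Grp.commutator_commutator_eq (Subgroup.zpowers a) V (hsub.trans hAV) (by
          obtain ⟨k, hk⟩ := hV.exists_card_eq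
          rw [Nat.card_zpowers, hk]
          exact hac.pow_right k) (.inl inferInstance)]
        exact Subgroup.commutator_mono (Subgroup.commutator_mono le_rfl hsub) hsub
      exact h1 (Subgroup.commutator_mem_commutator hv (Subgroup.mem_zpowers a))
    | one => intro v _; simp
    | mul a b ha' hb ih1 ih2 =>
      intro v hv
      have haA : a ∈ A := (hgen.ge ha')
      rw [show ⁅v, a * b⁆ = ⁅v, a⁆ * (a * ⁅v, b⁆ * a⁻¹) by simp only [commutatorElement_def]; group]
      exact mul_mem (ih1 v hv) ((Subgroup.mem_normalizer_iff.mp (hAE haA) _).mp (ih2 v hv))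
    | inv a ha' ih =>
      intro v hv
      have haA : a ∈ A := (hgen.ge ha')
      rw [show ⁅v, a⁻¹⁆ = a⁻¹ * ⁅v, a⁆⁻¹ * a⁻¹⁻¹ by simp only [commutatorElement_def]; group]
      exact (Subgroup.mem_normalizer_iff.mp (hAE (inv_mem haA)) _).mp (inv_mem (ih v hv))
  exact key a (hgen.le ha) v hv

end Cfsg.Agent.Invol
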