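import Mathlib
import Cfsg.Agent.Lib.Fus.PSLTwo
import Cfsg.Agent.Lib.Invol.PReduced

/-!
The quotients `L / O_p(L)` allowed in the family `𝔏`: products of two conjugates of `Ȳ`, trivial
intersections and the normal elementary abelian subgroups of `N(Ȳ)`.
-/

set_option autoImplicit false

namespace Cfsg.Agent.Invol.FrakL

variable {Q : Type*} [Group Q]

/-- `a` lies in a conjugate of `Y`. -/
def InConj (Y : Subgroup Q) (a : Q) : Prop := ∃ x, x⁻¹ * a * x ∈ Y

/-- `g` is not of order dividing `p` and is a product of two elements from conjugates of `Y`. -/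
def IsPair (p : ℕ) (Y : Subgroup Q) (g : Q) : Prop :=
  g ^ p ≠ 1 ∧ ∃ a b, InConj Y a ∧ InConj Y b ∧ g = a * b

/-- The properties of `Ȳ` in `L / O_p(L)` used for the family `𝔏`. -/
structure QuotGood (p : ℕ) (Y : Subgroup Q) : Prop where
  ti : ∀ y ∈ Y, y ≠ 1 → ∀ x, x⁻¹ * y * x ∈ Subgroup.normalizer (Y : Set Q) →
    x ∈ Subgroup.normalizer (Y : Set Q)
  split : ∀ (g : Q) (r : ℕ), r.Prime → r ≠ p → orderOf g = r → IsPair p Y g ∨
    ∃ w w', w * w = g ∧ w' * w' = g ∧ IsPair p Y w ∧ IsPair p Y w' ∧ IsPair p Y (w * w')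
  uniq : ∀ V : Subgroup Q, V ≤ Subgroup.normalizer (Y : Set Q) →
    (∀ x ∈ Subgroup.normalizer (Y : Set Q), ∀ v ∈ V, x * v * x⁻¹ ∈ V) →
    (∀ v ∈ V, v ^ p = 1) → V ≠ ⊥ → V = Y

theorem InConj.conj {Y : Subgroup Q} {a : Q} (h : InConj Y a) (c : Q) : InConj Y (c * a * c⁻¹) := by
  obtain ⟨x, hx⟩ := h
  exact ⟨c * x, by convert hx using 1; group⟩

section Equiv

variable {R : Type*} [Group R] (e : Q ≃* R) (Y : Subgroup Q)

theorem mem_map_e {a : Q} : e a ∈ Y.map e.toMonoidHom ↔ a ∈ Y :=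
  Subgroup.mem_map_iff_mem e.injective

theorem mem_normalizer_map_e {x : Q} : e x ∈ Subgroup.normalizer (Y.map e.toMonoidHom : Set R) ↔
    x ∈ Subgroup.normalizer (Y : Set Q) := by
  rw [Subgroup.mem_normalizer_iff, Subgroup.mem_normalizer_iff, e.surjective.forall]
  simp only [← map_mul, ← map_inv, mem_map_e]

theorem inConj_map_e {a : Q} : InConj (Y.map e.toMonoidHom) (e a) ↔ InConj Y a := by
  unfold InConj
  rw [e.surjective.exists]
  simp only [← map_mul, ← map_inv, mem_map_e]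

theorem isPair_map_e {p : ℕ} {g : Q} : IsPair p (Y.map e.toMonoidHom) (e g) ↔ IsPair p Y g := by
  unfold IsPair
  rw [e.surjective.exists]
  simp only [e.surjective.exists, inConj_map_e, ← map_mul, ← map_pow, e.injective.eq_iff, ne_eq,
    EmbeddingLike.map_eq_one_iff]

theorem QuotGood.of_map {p : ℕ} (h : QuotGood p (Y.map e.toMonoidHom)) : QuotGood p Y where
  ti y hy hy1 x hx := by
    refine (mem_normalizer_map_e e Y).1 (h.ti (e y) ((mem_map_e e Y).2 hy)
      ((EmbeddingLike.map_ne_one_iff (f := e)).2 hy1) (e x) ?_)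
    rw [← map_inv, ← map_mul, ← map_mul]
    exact (mem_normalizer_map_e e Y).2 hx
  split g r hr hrp hg := by
    rcases h.split (e g) r hr hrp (by rw [← hg]; exact orderOf_injective e.toMonoidHom e.injective g) with h1 | ⟨w, w', h1⟩
    · exact Or.inl ((isPair_map_e e Y).1 h1)
    · obtain ⟨v, rfl⟩ := e.surjective w
      obtain ⟨v', rfl⟩ := e.surjective w'
      simp only [← map_mul, e.injective.eq_iff, isPair_map_e] at h1
      exact Or.inr ⟨v, v', h1⟩
  uniq V hV hVn hVp hV1 := by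
    refine Subgroup.map_injective e.injective (h.uniq (V.map e.toMonoidHom) ?_ ?_ ?_ ?_)
    · rintro _ ⟨v, hv, rfl⟩
      exact (mem_normalizer_map_e e Y).2 (hV hv)
    · intro x hx
      obtain ⟨x, rfl⟩ := e.surjective x
      rintro _ ⟨v, hv, rfl⟩
      exact ⟨x * v * x⁻¹, hVn x ((mem_normalizer_map_e e Y).1 hx) v hv, by simp⟩
    · rintro _ ⟨v, hv, rfl⟩
      rw [← map_pow, hVp v hv, map_one]
    · exact fun e' => hV1 ((Subgroup.map_eq_bot_iff_of_injective _ e.injective).1 e')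

end Equiv

section Sylow

variable [Finite Q] {p : ℕ} [Fact p.Prime]

theorem inConj_of_sylow {Y : Subgroup Q} (P : Sylow p Q) (hP : (P : Subgroup Q) = Y) {g : Q}
    (hg : g ^ p = 1) : InConj Y g := by
  have hz : IsPGroup p (Subgroup.zpowers g) := by
    rintro ⟨_, k, rfl⟩
    refine ⟨1, Subtype.ext ?_⟩
    push_cast
    rw [pow_one, ← zpow_natCast, ← zpow_mul, mul_comm, zpow_mul, zpow_natCast, hg, one_zpow]
  obtain ⟨R, hR⟩ := hz.exists_le_sylow
  obtain ⟨x, hx⟩ := MulAction.exists_smul_eq Q P R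
  have h := hR (Subgroup.mem_zpowers g)
  rw [← hx] at h
  obtain ⟨y, hy, e⟩ := h
  refine ⟨x, ?_⟩
  have e' : x * y * x⁻¹ = g := e
  have h2 : y ∈ (P : Subgroup Q) := hy
  rw [← hP, show x⁻¹ * g * x = y by rw [← e']; group]
  exact h2

theorem mem_of_sylow_normalizer {Y : Subgroup Q} (P : Sylow p Q) (hP : (P : Subgroup Q) = Y) {g : Q}
    (hg : g ^ p = 1) (hn : g ∈ Subgroup.normalizer (Y : Set Q)) : g ∈ Y := by
  have hz : IsPGroup p (Subgroup.zpowers g) := by
    rintro ⟨_, k, rfl⟩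
    refine ⟨1, Subtype.ext ?_⟩
    push_cast
    rw [pow_one, ← zpow_natCast, ← zpow_mul, mul_comm, zpow_mul, zpow_natCast, hg, one_zpow]
  have h := hz.inf_normalizer_sylow P
  rw [show ((P : Sylow p Q) : Set Q) = (Y : Set Q) by rw [← hP]; rfl, hP] at h
  have hm : g ∈ Subgroup.zpowers g ⊓ Subgroup.normalizer (Y : Set Q) := ⟨Subgroup.mem_zpowers g, hn⟩
  rw [h] at hm
  exact hm.2

theorem ti_of_commCentralizers {Y : Subgroup Q} (P : Sylow p Q) (hP : (P : Subgroup Q) = Y)
    (hY : Cfsg.IsElementaryAbelian p Y)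
    (hcc : ∀ y ∈ Y, y ≠ 1 → ∀ a b : Q, Commute a y → Commute b y → Commute a b) :
    ∀ y ∈ Y, y ≠ 1 → ∀ x, x⁻¹ * y * x ∈ Subgroup.normalizer (Y : Set Q) →
      x ∈ Subgroup.normalizer (Y : Set Q) := by
  intro y hy hy1 x hx
  have hyp : (x⁻¹ * y * x) ^ p = 1 := by
    have := conj_pow (i := p) (a := x⁻¹) (b := y)
    rw [inv_inv] at this
    rw [this, hY.2 y hy, mul_one, inv_mul_cancel]
  have hy' := mem_of_sylow_normalizer P hP hyp hx
  have key : ∀ b ∈ Y, x * b * x⁻¹ ∈ Y := by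
    intro b hb
    refine mem_of_sylow_normalizer P hP (by rw [conj_pow, hY.2 b hb, mul_one, mul_inv_cancel]) ?_
    have hc : ∀ a ∈ Y, Commute a (x * b * x⁻¹) := fun a ha => by
      refine hcc y hy hy1 a _ (comm_of_ea hY ha hy) ?_
      have e := comm_of_ea hY hb hy'
      show x * b * x⁻¹ * y = y * (x * b * x⁻¹)
      calc x * b * x⁻¹ * y = x * (b * (x⁻¹ * y * x)) * x⁻¹ := by group
        _ = x * ((x⁻¹ * y * x) * b) * x⁻¹ := by rw [e]
        _ = _ := by group
    refine Subgroup.mem_normalizer_iff.2 fun a => ⟨fun ha => by rw [← (hc a ha).eq, mul_inv_cancel_right]; exact ha,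
      fun ha => ?_⟩
    have h1 := (hc _ ha).eq
    rw [inv_mul_cancel_right] at h1
    rw [← mul_left_cancel h1] at ha
    exact ha
  haveI : Finite ↥Y := inferInstance
  refine Subgroup.mem_normalizer_iff.2 fun a => ⟨key a, fun ha => ?_⟩
  have e : Y.map (MulAut.conj x).toMonoidHom = Y :=
    Subgroup.eq_of_le_of_card_ge (by rintro _ ⟨b, hb, rfl⟩; exact key b hb)
      (Subgroup.card_map_of_injective (MulAut.conj x).injective).ge
  rw [← e] at ha
  obtain ⟨b, hb, hbe⟩ := ha
  exact (MulAut.conj x).injective hbe ▸ hb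

end Sylow

section Two

variable [Finite Q]

/-- The case `|Ȳ| = 2`. -/
theorem quotGood_two {Y : Subgroup Q} (hY : Nat.card Y = 2) (hncl : Subgroup.normalClosure (Y : Set Q) = ⊤)
    (hne : Subgroup.normalizer (Y : Set Q) ≠ ⊤)
    (hmax : ∀ X : Subgroup Q, Y ≤ X → X ≠ ⊤ → X ≤ Subgroup.normalizer (Y : Set Q)) : QuotGood 2 Y := by
  obtain ⟨⟨s, hsY⟩, hs1'⟩ : ∃ s : Y, s ≠ 1 := by
    haveI : Nontrivial ↥Y := Finite.one_lt_card_iff_nontrivial.1 (by omega)
    exact exists_ne 1
  have hs1 : s ≠ 1 := fun e => hs1' (Subtype.ext e)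
  have hmemY : ∀ y, y ∈ Y ↔ y = 1 ∨ y = s := by
    intro y
    refine ⟨fun hy => ?_, fun h => by rcases h with rfl | rfl; exacts [one_mem Y, hsY]⟩
    by_contra h
    rw [not_or] at h
    classical
    haveI : Fintype ↥Y := Fintype.ofFinite _
    have h3 : ({1, ⟨s, hsY⟩, ⟨y, hy⟩} : Finset Y).card ≤ 2 := by
      rw [← hY, Nat.card_eq_fintype_card]; exact Finset.card_le_univ _
    rw [Finset.card_eq_three.2 ⟨1, ⟨s, hsY⟩, ⟨y, hy⟩, fun e => hs1 (congrArg Subtype.val e).symm,
      fun e => h.1 (congrArg Subtype.val e).symm, fun e => h.2 (congrArg Subtype.val e).symm, rfl⟩] at h3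
    omega
  have hss : s * s = 1 := by
    have h : (⟨s, hsY⟩ : Y) ^ 2 = 1 := by rw [← hY]; exact pow_card_eq_one'
    simpa [sq] using congrArg Subtype.val h
  obtain ⟨x, hx⟩ : ∃ x, x ∉ Subgroup.normalizer (Y : Set Q) := by
    by_contra h
    exact hne (eq_top_iff.2 fun x _ => by_contra fun hx => h ⟨x, hx⟩)
  set t := x * s * x⁻¹ with ht
  have htt : t * t = 1 := by
    rw [ht, show x * s * x⁻¹ * (x * s * x⁻¹) = x * (s * s) * x⁻¹ by group, hss, mul_one, mul_inv_cancel]
  have htnotin : t ∉ Subgroup.normalizer (Y : Set Q) := by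
    intro htn
    -- the maximal subgroup over `Y` is unique, so `x` would normalise it
    have hco : IsCoatom (Subgroup.normalizer (Y : Set Q)) := ⟨hne, fun X hX => by
      by_contra h
      exact hX.not_ge (hmax X (Subgroup.le_normalizer.trans hX.le) h)⟩
    set K := (Subgroup.normalizer (Y : Set Q)).map (MulAut.conj x⁻¹).toMonoidHom with hK
    have hsK : s ∈ K := ⟨t, htn, by show x⁻¹ * (x * s * x⁻¹) * x⁻¹⁻¹ = s; group⟩
    have hKco : IsCoatom K := (OrderIso.isCoatom_iff (MulEquiv.mapSubgroup (MulAut.conj x⁻¹)) _).2 hco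
    have hKle : K ≤ Subgroup.normalizer (Y : Set Q) := hmax K (fun y hy => by
      rcases (hmemY y).1 hy with rfl | rfl
      exacts [one_mem _, hsK]) hKco.1
    have hKe : K = Subgroup.normalizer (Y : Set Q) :=
      hKle.eq_or_lt.resolve_right fun h => hne (hKco.2 _ h)
    have hxN : x⁻¹ ∈ Subgroup.normalizer ((Subgroup.normalizer (Y : Set Q) : Subgroup Q) : Set Q) := by
      refine Subgroup.mem_normalizer_iff.2 fun z => ⟨fun hz => ?_, fun hz => ?_⟩
      · have : (MulAut.conj x⁻¹).toMonoidHom z ∈ K := Subgroup.mem_map_of_mem _ hz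
        rw [hKe] at this; exact this
      · rw [← hKe] at hz
        obtain ⟨w, hw, he⟩ := hz
        exact (MulAut.conj x⁻¹).injective he ▸ hw
    by_cases hnn : Subgroup.normalizer ((Subgroup.normalizer (Y : Set Q) : Subgroup Q) : Set Q) = ⊤
    · haveI := Subgroup.normalizer_eq_top_iff.1 hnn
      exact hne (top_le_iff.1 (hncl ▸ Subgroup.normalClosure_le_normal Subgroup.le_normalizer))
    · have : Subgroup.normalizer ((Subgroup.normalizer (Y : Set Q) : Subgroup Q) : Set Q) =
          Subgroup.normalizer (Y : Set Q) := by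
        by_contra h
        exact hnn (hco.2 _ (lt_of_le_of_ne Subgroup.le_normalizer (Ne.symm h)))
      exact hx (inv_mem_iff.1 (this ▸ hxN))
  have hgen : Subgroup.closure ({s, t} : Set Q) = ⊤ := by
    by_contra h
    exact htnotin (hmax _ (fun y hy => by
      rcases (hmemY y).1 hy with rfl | rfl
      exacts [one_mem _, Subgroup.subset_closure (by simp)]) h (Subgroup.subset_closure (by simp)))
  set r := s * t with hr
  have hsinv : s⁻¹ = s := inv_eq_of_mul_eq_one_right hss
  have htinv : t⁻¹ = t := inv_eq_of_mul_eq_one_right htt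
  have hrinv : r⁻¹ = t * s := by rw [hr, mul_inv_rev, hsinv, htinv]
  have hconj_s : s * r * s⁻¹ = r⁻¹ := by
    rw [hrinv, hr, hsinv, show s * (s * t) * s = (s * s) * t * s by group, hss, one_mul]
  have hconj_t : t * r * t⁻¹ = r⁻¹ := by
    rw [hrinv, hr, htinv, show t * (s * t) * t = t * s * (t * t) by group, htt, mul_one]
  have hnorm : ∀ k : ℤ, ∀ z ∈ Subgroup.zpowers (r ^ k), ∀ a ∈ ({s, t} : Set Q),
      a * z * a⁻¹ ∈ Subgroup.zpowers (r ^ k) := by
    rintro k _ ⟨i, rfl⟩ a (rfl | rfl)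
    · rw [← conj_zpow, ← conj_zpow, hconj_s, inv_zpow, inv_zpow]
      exact inv_mem ⟨i, rfl⟩
    · rw [← conj_zpow, ← conj_zpow, hconj_t, inv_zpow, inv_zpow]
      exact inv_mem ⟨i, rfl⟩
  have hnormal : ∀ k : ℤ, (Subgroup.zpowers (r ^ k)).Normal := by
    intro k
    refine Subgroup.normalizer_eq_top_iff.1 (top_le_iff.1 (hgen ▸ (Subgroup.closure_le _).2 fun a ha => ?_))
    have h2 : a * a = 1 := by rcases ha with rfl | rfl; exacts [hss, htt]
    refine Subgroup.mem_normalizer_iff.2 fun z => ⟨fun hz => hnorm k z hz a ha, fun hz => ?_⟩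
    have h3 := hnorm k _ hz a ha
    rw [inv_eq_of_mul_eq_one_right h2, ← mul_assoc, ← mul_assoc, h2, one_mul, mul_assoc, h2, mul_one] at h3
    exact h3
  have hdecomp : ∀ g : Q, ∃ i : ℤ, g = r ^ i ∨ g = s * r ^ i := by
    intro g
    haveI : (Subgroup.zpowers r).Normal := by simpa using hnormal 1
    have htop : Subgroup.zpowers s ⊔ Subgroup.zpowers r = ⊤ := by
      refine top_le_iff.1 (hgen ▸ (Subgroup.closure_le _).2 ?_)
      rintro a (rfl | rfl)
      · exact Subgroup.mem_sup_left (Subgroup.mem_zpowers _)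
      · rw [show t = s⁻¹ * r by rw [hr]; group]
        exact mul_mem (Subgroup.mem_sup_left (inv_mem (Subgroup.mem_zpowers _))) (Subgroup.mem_sup_right (Subgroup.mem_zpowers _))
    obtain ⟨a, ⟨j, rfl⟩, b, ⟨i, rfl⟩, rfl⟩ := Subgroup.mem_sup_of_normal_right.1 (htop ▸ Subgroup.mem_top g)
    obtain ⟨m, rfl | rfl⟩ := Int.even_or_odd' j
    · exact ⟨i, Or.inl (by simp [zpow_mul, show s ^ (2 : ℤ) = 1 by rw [zpow_ofNat, sq, hss]])⟩
    · exact ⟨i, Or.inr (by simp [zpow_add, zpow_mul, show s ^ (2 : ℤ) = 1 by rw [zpow_ofNat, sq, hss]])⟩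
  -- `r` is a commutator, and the commutator subgroup lies in `⟨r²⟩`
  have hodd : Odd (orderOf r) := by
    have hcomm : r ∈ commutator Q := by
      have h := Subgroup.commutator_mem_commutator (Subgroup.mem_top s) (Subgroup.mem_top x)
      rw [← commutator_def, commutatorElement_def, hsinv] at h
      convert h using 1
      rw [hr, ht]
      group
    haveI := hnormal 2
    have hle : commutator Q ≤ Subgroup.zpowers (r ^ (2 : ℤ)) := by
      rw [← Subgroup.Normal.quotient_commutative_iff_commutator_le]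
      set f := QuotientGroup.mk' (Subgroup.zpowers (r ^ (2 : ℤ)))
      have hf : Commute (f s) (f t) := by
        show f s * f t = f t * f s
        rw [← map_mul, ← map_mul, QuotientGroup.mk'_apply, QuotientGroup.mk'_apply, QuotientGroup.eq, ← hr, ← hrinv]
        exact ⟨-1, by show (r ^ (2 : ℤ)) ^ (-1 : ℤ) = _; rw [zpow_neg_one, zpow_two, mul_inv_rev]⟩
      have hcl : IsMulCommutative ↥(Subgroup.closure ({f s, f t} : Set (Q ⧸ Subgroup.zpowers (r ^ (2 : ℤ))))) := by
        refine Subgroup.isMulCommutative_closure ?_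
        rintro a (rfl | rfl) b (rfl | rfl)
        exacts [rfl, hf.eq, hf.eq.symm, rfl]
      have htop : Subgroup.closure ({f s, f t} : Set (Q ⧸ Subgroup.zpowers (r ^ (2 : ℤ)))) = ⊤ := by
        rw [← Subgroup.map_top_of_surjective f (QuotientGroup.mk'_surjective _), ← hgen, MonoidHom.map_closure,
          Set.image_pair]
      refine ⟨⟨fun a b => ?_⟩⟩
      exact congrArg Subtype.val (hcl.is_comm.comm (⟨a, htop ▸ Subgroup.mem_top a⟩ :
        Subgroup.closure ({f s, f t} : Set (Q ⧸ Subgroup.zpowers (r ^ (2 : ℤ))))) ⟨b, htop ▸ Subgroup.mem_top b⟩)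
    obtain ⟨i, hi⟩ := hle hcomm
    have h1 : r ^ (2 * i - 1) = 1 := by
      rw [zpow_sub, zpow_mul, zpow_one]
      simp only at hi
      rw [hi, mul_inv_cancel]
    have h2 := orderOf_dvd_iff_zpow_eq_one.2 h1
    by_contra he
    rw [Nat.not_odd_iff_even] at he
    have : (2 : ℤ) ∣ 2 * i - 1 := dvd_trans (by exact_mod_cast he.two_dvd) h2
    omega
  have hhalf : ∀ i : ℤ, ∃ j : ℤ, r ^ i = r ^ (2 * j) := by
    intro i
    obtain ⟨k, hk⟩ := hodd
    refine ⟨i * (k + 1), ?_⟩
    rw [show 2 * (i * ((k : ℤ) + 1)) = i + i * (2 * (k : ℤ) + 1) by ring, zpow_add, mul_comm i, zpow_mul,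
      show ((2 * (k : ℤ) + 1)) = ((2 * k + 1 : ℕ) : ℤ) by push_cast; ring, zpow_natCast, ← hk, pow_orderOf_eq_one,
      one_zpow, mul_one]
  have hinv_pow : ∀ i : ℤ, s * r ^ i * s⁻¹ = r ^ (-i) := fun i => by
    rw [← conj_zpow, hconj_s, inv_zpow, zpow_neg]
  have hN : Subgroup.normalizer (Y : Set Q) = Y := by
    refine le_antisymm (fun g hg => ?_) Subgroup.le_normalizer
    have hgs : g * s * g⁻¹ = s := by
      rcases (hmemY _).1 ((Subgroup.mem_normalizer_iff.1 hg s).1 hsY) with h3 | h3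
      · exact absurd (conj_eq_one_iff.1 h3) hs1
      · exact h3
    obtain ⟨i, hi | hi⟩ := hdecomp g
    all_goals
      have hri : r ^ i * s * (r ^ i)⁻¹ = s := by
        first
        | (rw [← hi]; exact hgs)
        | (rw [hi] at hgs
           calc r ^ i * s * (r ^ i)⁻¹ = s⁻¹ * (s * r ^ i * s * (s * r ^ i)⁻¹) * s := by group
             _ = s := by rw [hgs]; group)
      have h2 : r ^ (2 * i) = 1 := by
        have h4 : r ^ (-i) = r ^ i := by
          rw [← hinv_pow]
          conv_lhs => rw [← hri]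
          have : Commute (r ^ i) s := by
            show r ^ i * s = s * r ^ i
            calc r ^ i * s = r ^ i * s * (r ^ i)⁻¹ * r ^ i := by group
              _ = s * r ^ i := by rw [hri]
          rw [hri, ← this.eq, mul_inv_cancel_right]
        rw [two_mul, zpow_add]
        nth_rewrite 1 [← h4]
        rw [← zpow_add, neg_add_cancel, zpow_zero]
      have h3 : r ^ i = 1 := by
        rw [← orderOf_dvd_iff_zpow_eq_one] at h2 ⊢
        exact Int.dvd_of_dvd_mul_right_of_gcd_one h2 (by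
          show Int.gcd (orderOf r : ℤ) ((2 : ℕ) : ℤ) = 1
          rw [Int.gcd_natCast_natCast]
          exact Nat.coprime_two_right.2 hodd)
      rw [hi, h3]
      first
      | exact one_mem Y
      | (rw [mul_one]; exact hsY)
  refine ⟨fun y hy hy1 z hz => ?_, fun g q hq hq2 hg => ?_, fun V hV _ _ hV1 => ?_⟩
  · rw [hN] at hz
    rcases (hmemY y).1 hy with rfl | rfl
    · exact absurd rfl hy1
    rcases (hmemY _).1 hz with h | h
    · exact absurd (conj_eq_one_iff.1 (show z⁻¹ * y * z⁻¹⁻¹ = 1 by rwa [inv_inv])) hs1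
    · refine Subgroup.mem_normalizer_iff.2 fun a => ?_
      have hz' : z * y * z⁻¹ = y := by nth_rewrite 1 [← h]; group
      rw [hmemY, hmemY, conj_eq_one_iff]
      refine or_congr Iff.rfl ⟨fun e => by rw [e, hz'], fun e => ?_⟩
      calc a = z⁻¹ * (z * a * z⁻¹) * z := by group
        _ = y := by rw [e, h]
  · left
    have hq' : g ^ 2 ≠ 1 := fun e => by
      have := orderOf_dvd_of_pow_eq_one e
      rw [hg] at this
      exact hq2 ((Nat.prime_dvd_prime_iff_eq hq Nat.prime_two).1 this)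
    refine ⟨hq', ?_⟩
    obtain ⟨i, hi | hi⟩ := hdecomp g
    · obtain ⟨j, hj⟩ := hhalf i
      refine ⟨s, s * r ^ i, ⟨1, by simpa using hsY⟩, ⟨r ^ (-j), ?_⟩, ?_⟩
      · convert hsY using 1
        rw [hj, zpow_neg, inv_inv]
        calc r ^ j * (s * r ^ (2 * j)) * (r ^ j)⁻¹ = s * (s⁻¹ * r ^ j * s) * r ^ j := by
              rw [two_mul, zpow_add]; group
          _ = s * (s * r ^ j * s⁻¹) * r ^ j := by rw [hsinv]
          _ = s := by rw [hinv_pow, mul_assoc, ← zpow_add, neg_add_cancel, zpow_zero, mul_one]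
      · rw [← mul_assoc, hss, one_mul, hi]
    · exfalso
      apply hq'
      rw [hi, sq]
      calc s * r ^ i * (s * r ^ i) = (s * r ^ i * s⁻¹) * (s * s) * r ^ i := by group
        _ = 1 := by rw [hinv_pow, hss, mul_one, ← zpow_add, neg_add_cancel, zpow_zero]
  · rw [hN] at hV
    refine le_antisymm hV fun y hy => ?_
    obtain ⟨v, hv, hv1⟩ := V.bot_or_exists_ne_one.resolve_left hV1
    rcases (hmemY y).1 hy with rfl | rfl
    · exact one_mem V
    · rcases (hmemY v).1 (hV hv) with rfl | rfl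
      · exact absurd rfl hv1
      · exact hv

end Two

end Cfsg.Agent.Invol.FrakL
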