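import Mathlib
import Cfsg.Agent.Lib.Invol.FrakLQuot

/-!
The case `SL₂(q)` of the quotients in the family `𝔏`.
-/

set_option autoImplicit false

namespace Cfsg.Agent.Invol.FrakL

open Matrix

variable {F : Type*} [Field F] [Fintype F] {p : ℕ} [Fact p.Prime] [CharP F p]

local notation "G₂" => Matrix.SpecialLinearGroup (Fin 2) F

theorem mem_normalizer_of_forall {Q : Type*} [Group Q] [Finite Q] {Y : Subgroup Q} {x : Q}
    (h : ∀ y ∈ Y, x * y * x⁻¹ ∈ Y) : x ∈ Subgroup.normalizer (Y : Set Q) := by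
  refine Subgroup.mem_normalizer_iff.2 fun a => ⟨h a, fun ha => ?_⟩
  have e : Y.map (MulAut.conj x).toMonoidHom = Y :=
    Subgroup.eq_of_le_of_card_ge (by rintro _ ⟨b, hb, rfl⟩; exact h b hb)
      (Subgroup.card_map_of_injective (MulAut.conj x).injective).ge
  rw [← e] at ha
  obtain ⟨b, hb, hbe⟩ := ha
  exact (MulAut.conj x).injective hbe ▸ hb

/-- An element given by its entries. -/
def sl2 (a b c d : F) (h : a * d - b * c = 1) : G₂ :=
  ⟨!![a, b; c, d], by rw [det_fin_two_of]; exact h⟩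

omit [Fintype F] in
theorem coe_sl2 (a b c d : F) (h : a * d - b * c = 1) :
    (sl2 a b c d h : Matrix (Fin 2) (Fin 2) F) = !![a, b; c, d] := rfl

/-- The upper unitriangular elements as a homomorphism from the additive group. -/
def uni : Multiplicative F →* G₂ where
  toFun t := sl2 1 t.toAdd 0 1 (by ring)
  map_one' := by
    ext i j
    fin_cases i <;> fin_cases j <;> simp [coe_sl2]
  map_mul' s t := by
    ext i j
    fin_cases i <;> fin_cases j <;> simp [coe_sl2, Matrix.mul_apply, Fin.sum_univ_two] <;> ring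

omit [Fintype F] in
theorem uni_injective : Function.Injective (uni (F := F)) := fun s t h => by
  have := congrArg (fun g : G₂ => (g : Matrix (Fin 2) (Fin 2) F) 0 1) h
  simpa [uni, coe_sl2] using this

omit [Fintype F] in
theorem mem_uni {g : G₂} : g ∈ (uni (F := F)).range ↔ ∃ t : F, (g : Matrix (Fin 2) (Fin 2) F) = !![1, t; 0, 1] := by
  constructor
  · rintro ⟨t, rfl⟩
    exact ⟨t.toAdd, rfl⟩
  · rintro ⟨t, h⟩
    exact ⟨Multiplicative.ofAdd t, Subtype.ext (by rw [h]; rfl)⟩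

theorem ea_uni : Cfsg.IsElementaryAbelian p (uni (F := F)).range := by
  refine ⟨⟨⟨?_⟩⟩, ?_⟩
  · rintro ⟨_, s, rfl⟩ ⟨_, t, rfl⟩
    exact Subtype.ext (by show uni s * uni t = uni t * uni s; rw [← map_mul, ← map_mul, mul_comm])
  · rintro _ ⟨t, rfl⟩
    rw [← map_pow, show t ^ p = 1 from ?_, map_one]
    apply Multiplicative.toAdd.injective
    simp [CharP.cast_eq_zero]

theorem card_uni : Nat.card (uni (F := F)).range = Fintype.card F := by
  rw [← Nat.card_eq_fintype_card]
  exact (Nat.card_congr ((MonoidHom.ofInjective uni_injective).toEquiv)).symm.trans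
    (Nat.card_congr Multiplicative.toAdd)

theorem not_dvd_index {Y : Subgroup G₂} (hY : Nat.card Y = Fintype.card F) : ¬ p ∣ Y.index := by
  intro hd
  obtain ⟨n, hp, hn⟩ := FiniteField.card F p
  have h := Y.card_mul_index
  rw [hY, Fus.PSLTwo.natCard_SL_two] at h
  rw [Nat.eq_of_mul_eq_mul_left Fintype.card_pos h] at hd
  obtain ⟨k, hk⟩ : p ∣ Fintype.card F := hn ▸ dvd_pow_self p (n := (n : ℕ)) (by simp)
  have h1 := hp.one_lt
  rcases hp.dvd_mul.1 hd with ⟨j, hj⟩ | ⟨j, hj⟩
  all_goals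
    have h2 : Fintype.card F ≥ 2 := Fintype.one_lt_card
    have h3 : p ∣ 1 := by
      first
      | exact (Nat.dvd_add_right (show p ∣ Fintype.card F from ⟨k, hk⟩)).1 ⟨j, hj⟩
      | exact (Nat.dvd_sub (show p ∣ Fintype.card F from ⟨k, hk⟩) (⟨j, hj⟩ : p ∣ Fintype.card F - 1)).trans
          (by rw [Nat.sub_sub_self (by omega : 1 ≤ Fintype.card F)])
    exact hp.not_dvd_one h3

theorem coe_pow_eq_one_iff {g : G₂} {n : ℕ} :
    g ^ n = 1 ↔ ((g : Matrix (Fin 2) (Fin 2) F)) ^ n = 1 := by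
  exact ⟨fun h => by rw [← Matrix.SpecialLinearGroup.coe_pow, h]; rfl,
    fun h => Subtype.ext (by rw [Matrix.SpecialLinearGroup.coe_pow]; exact h)⟩

theorem trace_of_pow_eq_one {g : G₂} (h : g ^ p = 1) :
    (g : Matrix (Fin 2) (Fin 2) F).trace = 2 := by
  rw [coe_pow_eq_one_iff] at h
  have h1 : ((g : Matrix (Fin 2) (Fin 2) F) - 1) ^ p = 0 := by
    rw [sub_pow_char_of_commute p (Commute.one_right _), h, one_pow, sub_self]
  have h2 := (Matrix.isNilpotent_trace_of_isNilpotent ⟨p, h1⟩).eq_zero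
  rw [trace_sub, trace_one, Fintype.card_fin] at h2
  simpa [sub_eq_zero] using h2

theorem pow_eq_one_of_trace {g : G₂} (h : (g : Matrix (Fin 2) (Fin 2) F).trace = 2) : g ^ p = 1 := by
  rw [coe_pow_eq_one_iff]
  have hsq : ((g : Matrix (Fin 2) (Fin 2) F) - 1) ^ 2 = 0 := by
    have hd := g.2
    rw [det_fin_two] at hd
    rw [trace_fin_two] at h
    ext i j
    fin_cases i <;> fin_cases j <;> simp [sq, Matrix.mul_apply, Fin.sum_univ_two]
    · linear_combination (g.1 0 0) * h - hd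
    · linear_combination (g.1 0 1) * h
    · linear_combination (g.1 1 0) * h
    · linear_combination (g.1 1 1) * h - hd
  have h1 : ((g : Matrix (Fin 2) (Fin 2) F) - 1) ^ p = 0 :=
    pow_eq_zero_of_le (Fact.out : p.Prime).two_le hsq
  rw [sub_pow_char_of_commute p (Commute.one_right _), one_pow, sub_eq_zero] at h1
  exact h1

theorem isPair_of_nonscalar {g : G₂} (hτ : (g : Matrix (Fin 2) (Fin 2) F).trace ≠ 2)
    (hns : g.1 0 1 ≠ 0 ∨ g.1 1 0 ≠ 0 ∨ g.1 0 0 ≠ g.1 1 1) : IsPair p (uni (F := F)).range g := by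
  refine ⟨fun e => hτ (trace_of_pow_eq_one e), ?_⟩
  suffices h : ∃ z : G₂, (z : Matrix (Fin 2) (Fin 2) F).trace = 2 ∧
      ((z * g : G₂) : Matrix (Fin 2) (Fin 2) F).trace = 2 by
    obtain ⟨z, hz, hzg⟩ := h
    refine ⟨z⁻¹, z * g, ?_, inConj_of_sylow ((isPGroup_of_ea (ea_uni (p := p))).toSylow (not_dvd_index card_uni)) rfl
      (pow_eq_one_of_trace hzg), by group⟩
    exact inConj_of_sylow ((isPGroup_of_ea (ea_uni (p := p))).toSylow (not_dvd_index card_uni)) rfl
      (by rw [inv_pow, pow_eq_one_of_trace hz, inv_one])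
  rw [trace_fin_two] at hτ
  set τ := g.1 0 0 + g.1 1 1
  by_cases hb : g.1 0 1 ≠ 0
  · refine ⟨sl2 1 0 ((2 - τ) / g.1 0 1) 1 (by ring), by simp [coe_sl2, trace_fin_two]; norm_num, ?_⟩
    rw [Matrix.SpecialLinearGroup.coe_mul, coe_sl2, trace_fin_two, Matrix.mul_apply, Matrix.mul_apply,
      Fin.sum_univ_two, Fin.sum_univ_two]
    simp
    field_simp
    ring
  by_cases hc : g.1 1 0 ≠ 0
  · refine ⟨sl2 1 ((2 - τ) / g.1 1 0) 0 1 (by ring), by simp [coe_sl2, trace_fin_two]; norm_num, ?_⟩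
    rw [Matrix.SpecialLinearGroup.coe_mul, coe_sl2, trace_fin_two, Matrix.mul_apply, Matrix.mul_apply,
      Fin.sum_univ_two, Fin.sum_univ_two]
    simp
    field_simp
    ring
  push Not at hb hc
  have hne : g.1 0 0 - g.1 1 1 ≠ 0 := sub_ne_zero.2 (by simpa [hb, hc] using hns)
  set k := (2 - τ) / (g.1 0 0 - g.1 1 1) with hk
  refine ⟨sl2 (1 + k) k (-k) (1 - k) (by ring), by simp [coe_sl2, trace_fin_two]; ring, ?_⟩
  rw [Matrix.SpecialLinearGroup.coe_mul, coe_sl2, trace_fin_two, Matrix.mul_apply, Matrix.mul_apply,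
    Fin.sum_univ_two, Fin.sum_univ_two]
  simp [hb, hc]
  rw [hk]
  field_simp
  ring

theorem centralizer_uni_comm {y : G₂} (hy : y ∈ (uni (F := F)).range) (hy1 : y ≠ 1) (a b : G₂)
    (ha : Commute a y) (hb : Commute b y) : Commute a b := by
  obtain ⟨t, ht⟩ := mem_uni.1 hy
  have ht0 : t ≠ 0 := fun e => hy1 (Subtype.ext (by rw [ht, e]; exact (Matrix.one_fin_two).symm))
  have key : ∀ x : G₂, Commute x y → x.1 1 0 = 0 ∧ x.1 0 0 = x.1 1 1 := by
    intro x hx
    have h0 := congrArg (fun z : G₂ => (z : Matrix (Fin 2) (Fin 2) F) 0 0) hx.eq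
    have h1 := congrArg (fun z : G₂ => (z : Matrix (Fin 2) (Fin 2) F) 0 1) hx.eq
    simp [ht, Matrix.mul_apply, Fin.sum_univ_two] at h0 h1
    refine ⟨?_, ?_⟩
    · rcases h0 with h0 | h0
      · exact absurd h0 ht0
      · exact h0
    · exact mul_left_cancel₀ ht0 (by linear_combination h1)
  obtain ⟨a0, a1⟩ := key a ha
  obtain ⟨b0, b1⟩ := key b hb
  apply Subtype.ext
  ext i j
  fin_cases i <;> fin_cases j <;> simp [Matrix.mul_apply, Fin.sum_univ_two, a0, a1, b0, b1] <;> ring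

theorem quotGood_uni : QuotGood p (uni (F := F)).range := by
  set P := (isPGroup_of_ea (ea_uni (F := F) (p := p))).toSylow (not_dvd_index card_uni) with hP
  refine ⟨ti_of_commCentralizers P rfl ea_uni (fun y hy hy1 => centralizer_uni_comm hy hy1),
    fun g r hr hrp hg => ?_, fun V hV hVn hVp hV1 => ?_⟩
  · have hgp : g ^ p ≠ 1 := fun e => by
      have := orderOf_dvd_of_pow_eq_one e
      rw [hg] at this
      exact hrp ((Nat.prime_dvd_prime_iff_eq hr Fact.out).1 this)
    have hτ : (g : Matrix (Fin 2) (Fin 2) F).trace ≠ 2 := fun h => hgp (pow_eq_one_of_trace h)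
    by_cases hns : g.1 0 1 ≠ 0 ∨ g.1 1 0 ≠ 0 ∨ g.1 0 0 ≠ g.1 1 1
    · exact Or.inl (isPair_of_nonscalar hτ hns)
    push Not at hns
    obtain ⟨hb, hc, had⟩ := hns
    have hd := g.2
    rw [det_fin_two, hb, hc, ← had] at hd
    rw [trace_fin_two, ← had] at hτ
    have ha : g.1 0 0 = -1 := by
      rcases mul_eq_zero.1 (show (g.1 0 0 - 1) * (g.1 0 0 + 1) = 0 by linear_combination hd) with h | h
      · exact absurd (by linear_combination 2 * h) hτ
      · linear_combination h
    have htwo : (2 : F) ≠ 0 := fun h => hτ (by rw [ha]; linear_combination (-2 : F) * h)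
    have hge : (g : Matrix (Fin 2) (Fin 2) F) = !![-1, 0; 0, -1] := by
      ext i j
      fin_cases i <;> fin_cases j <;> simp [ha, hb, hc, ← had]
    set w : G₂ := sl2 0 (-1) 1 0 (by ring)
    set w' : G₂ := sl2 1 1 (-2) (-1) (by ring)
    refine Or.inr ⟨w, w', ?_, ?_, isPair_of_nonscalar ?_ (Or.inr (Or.inl ?_)),
      isPair_of_nonscalar ?_ (Or.inl ?_), isPair_of_nonscalar ?_ (Or.inl ?_)⟩
    · apply Subtype.ext
      rw [hge]
      ext i j
      fin_cases i <;> fin_cases j <;> simp [w, coe_sl2, Matrix.mul_apply, Fin.sum_univ_two]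
    · apply Subtype.ext
      rw [hge]
      ext i j
      fin_cases i <;> fin_cases j <;> (simp [w', coe_sl2, Matrix.mul_apply, Fin.sum_univ_two]; try norm_num)
    · simpa [w, coe_sl2, trace_fin_two] using htwo.symm
    · simp [w, coe_sl2]
    · simpa [w', coe_sl2, trace_fin_two] using htwo.symm
    · simp [w', coe_sl2]
    · simp [w, w', coe_sl2, trace_fin_two, Matrix.mul_apply, Fin.sum_univ_two]
      try (intro h; exact one_ne_zero (by linear_combination h : (1 : F) = 0))
    · simp [w, w', coe_sl2, Matrix.mul_apply, Fin.sum_univ_two]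
  · have hVY : V ≤ (uni (F := F)).range := fun v hv => mem_of_sylow_normalizer P rfl (hVp v hv) (hV hv)
    refine le_antisymm hVY fun y hy => ?_
    obtain ⟨v, hv, hv1⟩ := V.bot_or_exists_ne_one.resolve_left hV1
    obtain ⟨t₀, rfl⟩ := hVY hv
    obtain ⟨t, rfl⟩ := hy
    have ht0 : t₀.toAdd ≠ 0 := fun e => hv1 (by
      rw [show t₀ = 1 from Multiplicative.toAdd.injective (by rw [e]; rfl), map_one])
    have hsc : ∀ a : F, uni (Multiplicative.ofAdd (a ^ 2 * t₀.toAdd)) ∈ V := by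
      intro a
      by_cases ha : a = 0
      · rw [ha, zero_pow two_ne_zero, zero_mul, show Multiplicative.ofAdd (0 : F) = 1 from rfl, map_one]
        exact one_mem V
      set h : G₂ := sl2 a 0 0 a⁻¹ (by rw [mul_inv_cancel₀ ha]; ring)
      have hinv : ∀ s : Multiplicative F, h * uni s * h⁻¹ = uni (Multiplicative.ofAdd (a ^ 2 * s.toAdd)) := by
        intro s
        rw [mul_inv_eq_iff_eq_mul]
        apply Subtype.ext
        ext i j
        fin_cases i <;> fin_cases j <;> simp [h, uni, coe_sl2, Matrix.mul_apply, Fin.sum_univ_two]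
        field_simp
      have hn : h ∈ Subgroup.normalizer ((uni (F := F)).range : Set G₂) :=
        mem_normalizer_of_forall (by rintro _ ⟨s, rfl⟩; exact ⟨_, (hinv s).symm⟩)
      exact hinv t₀ ▸ hVn h hn _ hv
    have hc : ∃ a b : F, t.toAdd / t₀.toAdd = a ^ 2 - b ^ 2 := by
      by_cases htwo : (2 : F) = 0
      · obtain ⟨a, ha⟩ := FiniteField.isSquare_of_char_two
          (CharP.ringChar_of_prime_eq_zero Nat.prime_two (by exact_mod_cast htwo)) (t.toAdd / t₀.toAdd)
        exact ⟨a, 0, by rw [ha]; ring⟩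
      · refine ⟨(t.toAdd / t₀.toAdd + 1) / 2, (t.toAdd / t₀.toAdd - 1) / 2, ?_⟩
        generalize t.toAdd / t₀.toAdd = c
        field_simp
        ring
    obtain ⟨a, b, hab⟩ := hc
    rw [show t = Multiplicative.ofAdd (a ^ 2 * t₀.toAdd) / Multiplicative.ofAdd (b ^ 2 * t₀.toAdd) by
      apply Multiplicative.toAdd.injective
      rw [toAdd_div, toAdd_ofAdd, toAdd_ofAdd, ← sub_mul, ← hab, div_mul_cancel₀ _ ht0], map_div]
    exact div_mem (hsc a) (hsc b)

omit [CharP F p] in
/-- The case `L / O_p(L) ≅ SL₂(q)`. -/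
theorem quotGood_SLTwo {Q : Type*} [Group Q] (e : Q ≃* G₂) {Y : Subgroup Q}
    (hY : Cfsg.IsElementaryAbelian p Y) (hcard : Nat.card Y = Fintype.card F) : QuotGood p Y := by
  haveI : Finite Q := Finite.of_equiv _ e.symm.toEquiv
  haveI : CharP F p := by
    obtain ⟨q, hq⟩ := CharP.exists F
    obtain ⟨n, hqp, hn⟩ := FiniteField.card F q
    obtain ⟨k, hk⟩ := IsPGroup.iff_card.1 (isPGroup_of_ea hY)
    rw [hcard, hn] at hk
    have : q ∣ p := hqp.dvd_of_dvd_pow (hk ▸ dvd_pow_self q (n := (n : ℕ)) (by simp))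
    rwa [(Nat.prime_dvd_prime_iff_eq hqp Fact.out).1 this] at hq
  have hYe : Nat.card (Y.map e.toMonoidHom) = Fintype.card F := by
    rw [Subgroup.card_map_of_injective e.injective, hcard]
  obtain ⟨x, hx⟩ := MulAction.exists_smul_eq G₂
    (((isPGroup_of_ea hY).map e.toMonoidHom).toSylow (not_dvd_index hYe))
    ((isPGroup_of_ea (ea_uni (F := F) (p := p))).toSylow (not_dvd_index card_uni))
  refine QuotGood.of_map (e.trans (MulAut.conj x)) Y ?_
  have hmap : Y.map (e.trans (MulAut.conj x)).toMonoidHom = (uni (F := F)).range := by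
    have h := congrArg (fun P : Sylow p G₂ => (P : Subgroup G₂)) hx
    rw [show Y.map (e.trans (MulAut.conj x)).toMonoidHom =
      (Y.map e.toMonoidHom).map (MulAut.conj x).toMonoidHom from by rw [Subgroup.map_map]; rfl]
    exact h
  rw [hmap]
  exact quotGood_uni

end Cfsg.Agent.Invol.FrakL
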