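import Cfsg.Agent.Lib.Lie.Sz.Sylow
import Cfsg.Agent.Lib.Lie.Sz.Partition
import Cfsg.Agent.Lib.Lie.Sz.LieEquiv
import Cfsg.Agent.Lib.Invol.FrakLSLTwo

/-!
The case of the Suzuki groups of the quotients in the family `𝔏`.
-/

set_option autoImplicit false

namespace Cfsg.Agent.Invol.FrakL

open Cfsg.Agent.Suz

variable {F : Type*} [Field F] {m : ℕ} [Fintype F] (hS : SzField F m)

/-- The involutions of the standard Sylow subgroup, with the identity. -/
def zU : Subgroup ↥(Cfsg.Sz F m) := (Subgroup.center (unip hS)).map (unip hS).subtype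

include hS

theorem mem_zU {g : ↥(Cfsg.Sz F m)} : g ∈ zU hS ↔ ∃ b, g = uS hS 0 b := by
  constructor
  · rintro ⟨u, hu, rfl⟩
    exact (center_unip_iff hS u).1 hu
  · rintro ⟨b, rfl⟩
    exact ⟨⟨uS hS 0 b, (mem_unip hS).2 ⟨0, b, rfl⟩⟩, (center_unip_iff hS _).2 ⟨b, rfl⟩, rfl⟩

theorem zU_le_unip : zU hS ≤ unip hS := Subgroup.map_subtype_le _

theorem card_zU : Nat.card (zU hS) = 2 ^ (2 * m + 1) := by
  rw [zU, Subgroup.card_map_of_injective (Subgroup.subtype_injective _), card_center_unip hS]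

theorem mem_zU_of_sq {g : ↥(Cfsg.Sz F m)} (hg : g ∈ unip hS) (h2 : g ^ 2 = 1) : g ∈ zU hS := by
  obtain ⟨a, b, rfl⟩ := (mem_unip hS).1 hg
  rw [uS_sq, ← uS_zero hS] at h2
  have ha : a = 0 := by
    rcases mul_eq_zero.1 (uS_injective hS h2).2 with h | h
    · exact eq_zero_of_pow_eq_zero h
    · exact h
  subst ha
  exact (mem_zU hS).2 ⟨b, rfl⟩

theorem sq_zU {g : ↥(Cfsg.Sz F m)} (hg : g ∈ zU hS) : g ^ 2 = 1 := by
  obtain ⟨b, rfl⟩ := (mem_zU hS).1 hg
  rw [uS_sq, mul_zero, uS_zero]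

theorem inConj_of_sq {g : ↥(Cfsg.Sz F m)} (h2 : g ^ 2 = 1) : InConj (zU hS) g := by
  haveI : Fact (Nat.Prime 2) := ⟨Nat.prime_two⟩
  obtain ⟨x, hx⟩ := inConj_of_sylow (sylowU hS) rfl h2
  exact ⟨x, mem_zU_of_sq hS hx (by
    have := conj_pow (i := 2) (a := x⁻¹) (b := g)
    rw [inv_inv] at this
    rw [this, h2, mul_one, inv_mul_cancel])⟩

theorem normalizer_zU : Subgroup.normalizer (zU hS : Set ↥(Cfsg.Sz F m)) = borel m F := by
  refine le_antisymm (fun g hg => ?_) (fun g hg => ?_)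
  · have h1 : uS hS 0 1 ≠ 1 := uS_ne_one hS (by simp)
    have hm : uS hS 0 1 ∈ zU hS := (mem_zU hS).2 ⟨1, rfl⟩
    exact mem_borel_of_conj_mem hS (zU_le_unip hS hm) h1
      (zU_le_unip hS ((Subgroup.mem_normalizer_iff.1 hg _).1 hm))
  · refine mem_normalizer_of_forall fun y hy => mem_zU_of_sq hS ?_ ?_
    · exact (Subgroup.mem_normalizer_iff.1 (borel_le_normalizer hS hg) y).1 (zU_le_unip hS hy)
    · rw [conj_pow, sq_zU hS hy, mul_one, mul_inv_cancel]

theorem mem_zU_of_borel {g : ↥(Cfsg.Sz F m)} (hg : g ∈ borel m F) (h2 : g ^ 2 = 1) : g ∈ zU hS := by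
  haveI : Fact (Nat.Prime 2) := ⟨Nat.prime_two⟩
  exact mem_zU_of_sq hS (mem_of_sylow_normalizer (sylowU hS) rfl h2 (borel_le_normalizer hS hg)) h2

/-- An element of odd order is inverted by an involution. -/
theorem exists_inverting {g : ↥(Cfsg.Sz F m)} (hg : g ≠ 1) (ho : Odd (orderOf g)) :
    ∃ n : ↥(Cfsg.Sz F m), n * n = 1 ∧ (n * g) * (n * g) = 1 := by
  rcases trichotomy hS g with ⟨c, hc⟩ | ⟨c, z, hz, hc⟩ | hf
  · exact absurd hc (not_conj_unip_of_odd hS hg ho c)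
  · have hg' : g = c⁻¹ * hTor hS z * c := by rw [← hc]; group
    refine ⟨c⁻¹ * wS hS * c, ?_, ?_⟩
    · rw [show c⁻¹ * wS hS * c * (c⁻¹ * wS hS * c) = c⁻¹ * (wS hS * wS hS) * c by group, wS_sq, mul_one,
        inv_mul_cancel]
    · rw [hg', show c⁻¹ * wS hS * c * (c⁻¹ * hTor hS z * c) * (c⁻¹ * wS hS * c * (c⁻¹ * hTor hS z * c)) =
          c⁻¹ * ((wS hS * hTor hS z) * (wS hS * hTor hS z)) * c by group,
        show (wS hS * hTor hS z) * (wS hS * hTor hS z) = (wS hS * hTor hS z) * wS hS * hTor hS z by group,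
        wS_hTor, mul_assoc (hTor hS z⁻¹), wS_sq, mul_one, hTor_mul, inv_mul_cancel, hTor_one, mul_one,
        inv_mul_cancel]
  · set C := Subgroup.centralizer ({g} : Set ↥(Cfsg.Sz F m)) with hC
    obtain ⟨x, y, ⟨hx, -, hxn⟩, ⟨hy, -, hyn⟩, hall⟩ := exists_tori hS
    have heven : 2 ∣ Nat.card (Subgroup.normalizer (C : Set ↥(Cfsg.Sz F m))) := by
      have key : ∀ x : ↥(Cfsg.Sz F m), FPF m x →
          Nat.card (Subgroup.normalizer ((Subgroup.centralizer ({x} : Set ↥(Cfsg.Sz F m))) : Set ↥(Cfsg.Sz F m))) =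
            4 * Nat.card (Subgroup.centralizer ({x} : Set ↥(Cfsg.Sz F m))) →
          g ∈ conjSet (Subgroup.centralizer ({x} : Set ↥(Cfsg.Sz F m))) →
          2 ∣ Nat.card (Subgroup.normalizer (C : Set ↥(Cfsg.Sz F m))) := by
        intro x hx hn h
        obtain ⟨d, hd⟩ := FPF.eq_of_mem_conjSet hS hx h
        rw [hC, hd, ← Subgroup.map_equiv_normalizer_eq,
          Subgroup.card_map_of_injective (MulAut.conj d).injective, hn]
        exact dvd_mul_of_dvd_left (by norm_num) _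
      rcases hall g hf with h | h
      · exact key x hx hxn h
      · exact key y hy hyn h
    haveI : Fact (Nat.Prime 2) := ⟨Nat.prime_two⟩
    obtain ⟨⟨n, hn⟩, hn2⟩ := exists_prime_orderOf_dvd_card' 2 heven
    rw [Subgroup.orderOf_mk] at hn2
    have hnn : n * n = 1 := by rw [← sq, ← hn2, pow_orderOf_eq_one]
    have hgC : g ∈ C := Subgroup.mem_centralizer_singleton_iff.2 rfl
    obtain ⟨hcyc, hcard⟩ : IsCyclic C ∧ Nat.card C ∈ torusOrders m := by
      rcases cent_cases hS hg with ⟨c, hc⟩ | ⟨h1, h2, -⟩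
      · exact absurd hc (not_conj_unip_of_odd hS hg ho c)
      · exact ⟨h1, h2⟩
    have hngn : n * g * n ∈ C := by
      have h := (Subgroup.mem_normalizer_iff.1 hn g).1 hgC
      rwa [inv_eq_of_mul_eq_one_right hnn] at h
    set b := g * (n * g * n) with hb
    have hbC : b ∈ C := mul_mem hgC hngn
    have hcomm : n * b * n = b := by
      letI := IsCyclic.commGroup (α := C)
      have e : n * g * n * g = g * (n * g * n) :=
        congrArg Subtype.val (mul_comm (⟨_, hngn⟩ : C) ⟨g, hgC⟩)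
      rw [hb, ← e, show n * (n * g * n * g) * n = (n * n) * g * (n * g * n) by group, hnn, one_mul, e]
    refine ⟨n, hnn, ?_⟩
    by_contra hne
    have hb1 : b ≠ 1 := fun e => hne <| by
      calc n * g * (n * g) = g⁻¹ * b * g := by rw [hb]; group
        _ = 1 := by rw [e, mul_one, inv_mul_cancel]
    have hnC : n ∈ C := by
      rw [hC, ← FPF.cent hS hf hbC hb1, Subgroup.mem_centralizer_singleton_iff]
      calc n * b = n * b * (n * n) := by rw [hnn, mul_one]
        _ = (n * b * n) * n := by group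
        _ = b * n := by rw [hcomm]
    have h2 := Subgroup.orderOf_dvd_natCard _ hnC
    rw [hn2] at h2
    exact (Nat.not_even_iff_odd.2 (torusOrders_props hS hcard).2.1) (even_iff_two_dvd.2 h2)

theorem quotGood_zU : QuotGood 2 (zU hS) := by
  refine ⟨fun y hy hy1 x hx => ?_, fun g r hr hr2 hg => ?_, fun V hV hVn hVp hV1 => ?_⟩
  · rw [normalizer_zU hS] at hx ⊢
    have h2 : (x⁻¹ * y * x) ^ 2 = 1 := by
      have := conj_pow (i := 2) (a := x⁻¹) (b := y)
      rw [inv_inv] at this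
      rw [this, sq_zU hS hy, mul_one, inv_mul_cancel]
    have hm := zU_le_unip hS (mem_zU_of_borel hS hx h2)
    exact inv_mem_iff.1 (mem_borel_of_conj_mem hS (zU_le_unip hS hy) hy1 (by rwa [inv_inv]))
  · left
    have hg1 : g ≠ 1 := fun e => hr.ne_one (by rw [← hg, e, orderOf_one])
    obtain ⟨n, hn, hng⟩ := exists_inverting hS hg1 (hg ▸ hr.odd_of_ne_two hr2)
    refine ⟨fun e => ?_, n, n * g, inConj_of_sq hS (by rw [sq, hn]), inConj_of_sq hS (by rw [sq, hng]),
      by rw [← mul_assoc, hn, one_mul]⟩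
    have := orderOf_dvd_of_pow_eq_one e
    rw [hg] at this
    exact hr2 ((Nat.prime_dvd_prime_iff_eq hr Nat.prime_two).1 this)
  · rw [normalizer_zU hS] at hV hVn
    have hVZ : V ≤ zU hS := fun v hv => mem_zU_of_borel hS (hV hv) (hVp v hv)
    refine le_antisymm hVZ fun y hy => ?_
    obtain ⟨v, hv, hv1⟩ := V.bot_or_exists_ne_one.resolve_left hV1
    obtain ⟨b₀, rfl⟩ := (mem_zU hS).1 (hVZ hv)
    obtain ⟨b, rfl⟩ := (mem_zU hS).1 hy
    have hb₀ : b₀ ≠ 0 := fun e => hv1 (by rw [e, uS_zero])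
    by_cases hb : b = 0
    · rw [hb, uS_zero]; exact one_mem V
    obtain ⟨z, hz⟩ := exists_th_unit hS (m := m) (b / b₀) (div_ne_zero hb hb₀)
    have h := hVn _ (hTor_mem_borel hS z) _ hv
    rwa [hTor_conj, mul_zero, hz, div_mul_cancel₀ _ hb₀] at h

/-- The case of a Suzuki group `Sz(q)`, `q > 2`. -/
theorem quotGood_suzuki {Q : Type*} [Group Q] (e : Q ≃* ↥(Cfsg.Lie.Sz F (2 ^ (m + 1)))) {Y : Subgroup Q}
    (hY : Cfsg.IsElementaryAbelian 2 Y) (hcard : Nat.card Y = 2 ^ (2 * m + 1)) : QuotGood 2 Y := by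
  haveI : Fact (Nat.Prime 2) := ⟨Nat.prime_two⟩
  set e' := e.trans (szEquiv hS).symm with he'
  haveI : Finite Q := Finite.of_equiv _ e'.symm.toEquiv
  obtain ⟨P, hP⟩ := ((isPGroup_of_ea hY).map e'.toMonoidHom).exists_le_sylow
  obtain ⟨d, hd⟩ := exists_conj_unip hS P
  refine QuotGood.of_map (e'.trans (MulAut.conj d⁻¹)) Y ?_
  have hle : Y.map (e'.trans (MulAut.conj d⁻¹)).toMonoidHom ≤ zU hS := by
    rintro _ ⟨y, hy, rfl⟩
    obtain ⟨u, hu, hue⟩ := (hd ▸ hP) (Subgroup.mem_map_of_mem e'.toMonoidHom hy)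
    have hu' : d * u * d⁻¹ = e' y := hue
    have he : (e'.trans (MulAut.conj d⁻¹)).toMonoidHom y = u := by
      show d⁻¹ * e' y * d⁻¹⁻¹ = u
      rw [← hu']; group
    rw [he]
    refine mem_zU_of_sq hS hu ?_
    rw [← he, ← map_pow, hY.2 y hy, map_one]
  have heq := Subgroup.eq_of_le_of_card_ge hle (by
    rw [card_zU hS, Subgroup.card_map_of_injective (e'.trans (MulAut.conj d⁻¹)).injective, hcard])
  rw [heq]
  exact quotGood_zU hS

end Cfsg.Agent.Invol.FrakL
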