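import Cfsg.Agent.Lib.Invol.FrakLMinimal
import Cfsg.Agent.Lib.Invol.FrakLSLTwo
import Cfsg.Agent.Lib.Invol.FrakLSuzuki

/-!
The members of the family `𝔏`: the minimal setup inside `L` and the quotient `L / O_p(L)`.
-/

set_option autoImplicit false

namespace Cfsg.Agent.Invol.FrakL

theorem ea_map {G H : Type*} [Group G] [Group H] {p : ℕ} {V : Subgroup G}
    (h : Cfsg.IsElementaryAbelian p V) (f : G →* H) : Cfsg.IsElementaryAbelian p (V.map f) := by
  refine ⟨⟨⟨?_⟩⟩, ?_⟩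
  · rintro ⟨_, a, ha, rfl⟩ ⟨_, b, hb, rfl⟩
    exact Subtype.ext (by show f a * f b = f b * f a; rw [← map_mul, ← map_mul, comm_of_ea' h ha hb])
  · rintro _ ⟨a, ha, rfl⟩
    rw [← map_pow, h.2 a ha, map_one]
where
  comm_of_ea' {G : Type _} [Group G] {p : ℕ} {V : Subgroup G} (h : Cfsg.IsElementaryAbelian p V) {a b : G}
      (ha : a ∈ V) (hb : b ∈ V) : a * b = b * a :=
    congrArg Subtype.val (h.1.is_comm.comm (⟨a, ha⟩ : V) ⟨b, hb⟩)

variable {G : Type*} [Group G] [Finite G] {p : ℕ} [Fact p.Prime] {M L : Subgroup G}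

/-- `Y_M` as a subgroup of `L`. -/
abbrev yIn (p : ℕ) (M L : Subgroup G) : Subgroup ↥L := (Cfsg.largestPReducedOf p M).subgroupOf L

theorem ea_largest (M : Subgroup G) : Cfsg.IsElementaryAbelian p (Cfsg.largestPReducedOf p M) :=
  ea_map (largest_pReduced (G := ↥M) (p := p)).2.1 M.subtype

theorem ea_yIn : Cfsg.IsElementaryAbelian p (yIn p M L) := by
  refine ⟨⟨⟨?_⟩⟩, fun a ha => Subtype.ext ((ea_largest M).2 _ ha)⟩
  rintro ⟨a, ha⟩ ⟨b, hb⟩
  exact Subtype.ext (Subtype.ext (comm_of_ea (ea_largest M) (a := (a : G)) (b := (b : G)) ha hb))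

theorem mem_normalizer_yIn (hYL : Cfsg.largestPReducedOf p M ≤ L) {x : ↥L} :
    x ∈ Subgroup.normalizer (yIn p M L : Set ↥L) ↔
      (x : G) ∈ Subgroup.normalizer (Cfsg.largestPReducedOf p M : Set G) := by
  rw [Subgroup.mem_normalizer_iff, Subgroup.mem_normalizer_iff]
  simp only [Subgroup.mem_subgroupOf, Subgroup.coe_mul, Subgroup.coe_inv]
  refine ⟨fun h a => ⟨fun ha => (h ⟨a, hYL ha⟩).1 ha, fun ha => ?_⟩, fun h a => h a⟩
  have haL : a ∈ L := by
    have h' := L.mul_mem (L.mul_mem (L.inv_mem x.2) (hYL ha)) x.2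
    convert h' using 1
    group
  exact (h ⟨a, haL⟩).2 ha

theorem isCoatom_normalizer_yIn (hL : Cfsg.IsInFrakL p M L) :
    IsCoatom (Subgroup.normalizer (yIn p M L : Set ↥L)) := by
  obtain ⟨hYL, -, -, -, -, ⟨hlt, hmax⟩, -⟩ := hL
  constructor
  · intro h
    refine hlt.ne (le_antisymm inf_le_left fun x hx => ⟨hx, ?_⟩)
    exact (mem_normalizer_yIn hYL (x := ⟨x, hx⟩)).1 (h ▸ Subgroup.mem_top _)
  · intro X hX
    by_contra hne
    have hY : Cfsg.largestPReducedOf p M ≤ X.map L.subtype := fun y hy =>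
      ⟨⟨y, hYL hy⟩, hX.le (Subgroup.le_normalizer hy), rfl⟩
    have hlt' : X.map L.subtype < L := by
      refine lt_of_le_of_ne (Subgroup.map_subtype_le X) fun e => hne (eq_top_iff.2 fun x _ => ?_)
      have hx : (x : G) ∈ X.map L.subtype := e.symm ▸ x.2
      obtain ⟨y, hy, hye⟩ := hx
      exact (Subtype.ext hye : y = x) ▸ hy
    obtain ⟨x, hxX, hxN⟩ := SetLike.exists_of_lt hX
    exact hxN ((mem_normalizer_yIn hYL).2 (hmax _ hY hlt' (Subgroup.mem_map_of_mem L.subtype hxX)).2)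

theorem pCore_subgroupOf : (Cfsg.pCoreOf p L).subgroupOf L = Cfsg.pCore p ↥L :=
  Subgroup.comap_map_eq_self_of_injective L.subtype_injective _

theorem pCore_le_normalizer (hL : Cfsg.IsInFrakL p M L) :
    Cfsg.pCore p ↥L ≤ Subgroup.normalizer (yIn p M L : Set ↥L) := fun _ hx =>
  (mem_normalizer_yIn hL.1).2 (hL.2.2.1 (Subgroup.mem_map_of_mem L.subtype hx))

theorem pCore_eq_clo (hL : Cfsg.IsInFrakL p M L) : Cfsg.pCore p ↥L = clo p (yIn p M L) := by
  have h := hL.2.1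
  have e : (Cfsg.largestPReducedOf p M ⊓ Cfsg.pCoreOf p L).subgroupOf L =
      Cfsg.pCore p ↥L ⊓ yIn p M L := by
    rw [inf_comm, Subgroup.subgroupOf, Subgroup.comap_inf]
    show (Cfsg.pCoreOf p L).subgroupOf L ⊓ yIn p M L = _
    rw [pCore_subgroupOf]
  rw [e] at h
  exact Subgroup.map_injective L.subtype_injective h

theorem minOver (hL : Cfsg.IsInFrakL p M L) :
    MinOver p (yIn p M L) (Subgroup.normalizer (yIn p M L : Set ↥L)) :=
  MinOver.of_isMinimalOver ea_yIn (isCoatom_normalizer_yIn hL) Subgroup.le_normalizer hL.2.2.2.1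
    (pCore_le_normalizer hL)

/-- The projection onto `L / O_p(L)`. -/
abbrev qmap (p : ℕ) (L : Subgroup G) : ↥L →* ↥L ⧸ Cfsg.pCore p ↥L := QuotientGroup.mk' (Cfsg.pCore p ↥L)

/-- The image of `Y_M` in `L / O_p(L)`. -/
abbrev yBar (p : ℕ) (M L : Subgroup G) : Subgroup (↥L ⧸ Cfsg.pCore p ↥L) := (yIn p M L).map (qmap p L)

theorem comap_normalizer_yBar (hL : Cfsg.IsInFrakL p M L) :
    (Subgroup.normalizer (yBar p M L : Set (↥L ⧸ Cfsg.pCore p ↥L))).comap (qmap p L) =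
      Subgroup.normalizer (yIn p M L : Set ↥L) := by
  have hco := isCoatom_normalizer_yIn hL
  have hle : Subgroup.normalizer (yIn p M L : Set ↥L) ≤
      (Subgroup.normalizer (yBar p M L : Set (↥L ⧸ Cfsg.pCore p ↥L))).comap (qmap p L) := fun x hx => by
    refine Subgroup.mem_comap.2 (mem_normalizer_of_forall ?_)
    rintro _ ⟨y, hy, rfl⟩
    exact ⟨x * y * x⁻¹, (Subgroup.mem_normalizer_iff.1 hx y).1 hy, by simp⟩
  refine (hle.eq_or_lt.resolve_right fun hlt => ?_).symm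
  have htop := hco.2 _ hlt
  have hnorm : (yBar p M L).Normal := Subgroup.normalizer_eq_top_iff.1 (by
    rw [← Subgroup.map_comap_eq_self_of_surjective (QuotientGroup.mk'_surjective _)
      (Subgroup.normalizer (yBar p M L : Set (↥L ⧸ Cfsg.pCore p ↥L))), htop,
      Subgroup.map_top_of_surjective _ (QuotientGroup.mk'_surjective _)])
  have hn2 : ((yBar p M L).comap (qmap p L)).Normal := hnorm.comap _
  have h1 : Subgroup.normalClosure (yIn p M L : Set ↥L) ≤ (yBar p M L).comap (qmap p L) :=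
    Subgroup.normalClosure_le_normal (fun y hy => Subgroup.mem_map_of_mem _ hy)
  rw [hL.2.2.2.1.1, Subgroup.comap_map_eq, QuotientGroup.ker_mk'] at h1
  exact hco.1 (top_le_iff.1 (h1.trans (sup_le Subgroup.le_normalizer (pCore_le_normalizer hL))))

theorem card_yBar (hYL : Cfsg.largestPReducedOf p M ≤ L) :
    Nat.card (yBar p M L) =
      (Cfsg.largestPReducedOf p M ⊓ Cfsg.pCoreOf p L).relIndex (Cfsg.largestPReducedOf p M) := by
  have h1 : Nat.card ((qmap p L).comp (yIn p M L).subtype).range = (Cfsg.pCore p ↥L).relIndex (yIn p M L) := by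
    rw [← Subgroup.index_ker, Subgroup.relIndex]
    congr 1
    rw [← MonoidHom.comap_ker, QuotientGroup.ker_mk']
    rfl
  rw [MonoidHom.range_comp, Subgroup.range_subtype] at h1
  rw [h1, Subgroup.inf_relIndex_left, ← pCore_subgroupOf, Subgroup.relIndex_subgroupOf hYL]

theorem quotGood (hL : Cfsg.IsInFrakL p M L) : QuotGood p (yBar p M L) := by
  have hea : Cfsg.IsElementaryAbelian p (yBar p M L) := ea_map ea_yIn _
  have hcard := card_yBar (p := p) hL.1
  have hsurj : Function.Surjective (qmap p L) := QuotientGroup.mk'_surjective _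
  have hne : Subgroup.normalizer (yBar p M L : Set (↥L ⧸ Cfsg.pCore p ↥L)) ≠ ⊤ := fun h => by
    have := comap_normalizer_yBar hL
    rw [h, Subgroup.comap_top] at this
    exact (isCoatom_normalizer_yIn hL).1 this.symm
  have hncl : Subgroup.normalClosure (yBar p M L : Set (↥L ⧸ Cfsg.pCore p ↥L)) = ⊤ := by
    rw [Subgroup.coe_map, ← Subgroup.map_normalClosure _ _ hsurj, hL.2.2.2.1.1,
      Subgroup.map_top_of_surjective _ hsurj]
  have hmax : ∀ X, yBar p M L ≤ X → X ≠ ⊤ → X ≤ Subgroup.normalizer (yBar p M L : Set (↥L ⧸ Cfsg.pCore p ↥L)) := by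
    intro X hX hX1
    rcases IsCoatomic.eq_top_or_exists_le_coatom X with h | ⟨K, hK, hle⟩
    · exact absurd h hX1
    have e := (minOver hL).uniq _ (Subgroup.isCoatom_comap_of_surjective hsurj hK)
      (fun y hy => hle (hX (Subgroup.mem_map_of_mem _ hy)))
    rw [← comap_normalizer_yBar hL] at e
    exact hle.trans (Subgroup.comap_injective hsurj e).le
  rcases hL.2.2.2.2.2.2 with ⟨F, hF, hFf, hq, ⟨e⟩⟩ | ⟨rfl, F, hF, hFf, m, hFc, hq, ⟨e⟩⟩ | ⟨rfl, r, hr, hr2, ⟨e⟩⟩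
  · exact quotGood_SLTwo e hea (hcard.trans hq.symm)
  · rcases Nat.eq_zero_or_pos m with rfl | hm
    · refine quotGood_two ?_ hncl hne hmax
      rw [hcard, ← hq, hFc]; norm_num
    · exact quotGood_suzuki ⟨hm, hFc⟩ e hea (by rw [hcard, ← hq, hFc])
  · refine quotGood_two ?_ hncl hne hmax
    obtain ⟨k, hk⟩ := IsPGroup.iff_card.1 (isPGroup_of_ea hea)
    have hdvd := Subgroup.card_subgroup_dvd_card (yBar 2 M L)
    rw [Nat.card_congr e.toEquiv, DihedralGroup.nat_card, hk] at hdvd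
    rcases k with _ | _ | k
    · exfalso
      rw [pow_zero] at hk
      rw [(Subgroup.eq_bot_iff_card _).2 hk] at hne
      exact hne (Subgroup.normalizer_eq_top_iff.2 inferInstance)
    · simpa using hk
    · exfalso
      have h4 : 2 * 2 ∣ 2 * r := dvd_trans ⟨2 ^ k, by ring⟩ hdvd
      exact hr2 ((Nat.prime_dvd_prime_iff_eq Nat.prime_two hr).1 (Nat.dvd_of_mul_dvd_mul_left two_pos h4)).symm

theorem ti_lift (hL : Cfsg.IsInFrakL p M L) :
    ∀ y ∈ yIn p M L, y ∉ Cfsg.pCore p ↥L → ∀ x : ↥L, x⁻¹ * y * x ∈ Subgroup.normalizer (yIn p M L : Set ↥L) →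
      x ∈ Subgroup.normalizer (yIn p M L : Set ↥L) := by
  intro y hy hyO x hx
  rw [← comap_normalizer_yBar hL, Subgroup.mem_comap] at hx ⊢
  refine (quotGood hL).ti _ (Subgroup.mem_map_of_mem _ hy)
    (fun e => hyO ((QuotientGroup.eq_one_iff y).1 e)) _ ?_
  simpa using hx

theorem lift_inConj {z : ↥L ⧸ Cfsg.pCore p ↥L} (h : InConj (yBar p M L) z) :
    ∃ x y : ↥L, y ∈ cj (yIn p M L) x ∧ qmap p L y = z := by
  obtain ⟨xb, y₀, hy₀, e⟩ := h
  obtain ⟨x, rfl⟩ := QuotientGroup.mk'_surjective _ xb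
  refine ⟨x, x * y₀ * x⁻¹, conj_mem_cj hy₀, ?_⟩
  rw [map_mul, map_mul, e, map_inv]
  group

/-- An element acting on `L / O_p(L)` as a pair fixes no point modulo the centre. -/
theorem mem_cz_of_pair (hL : Cfsg.IsInFrakL p M L) {g a : ↥L} (hg : IsPair p (yBar p M L) (qmap p L g))
    (ha : a ∈ Cfsg.pCore p ↥L)
    (hc : Commute (QuotientGroup.mk' (cz (yIn p M L)) g) (QuotientGroup.mk' (cz (yIn p M L)) a)) :
    a ∈ cz (yIn p M L) := by
  obtain ⟨hgp, z₁, z₂, h₁, h₂, e⟩ := hg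
  obtain ⟨x₁, y₁, hy₁, rfl⟩ := lift_inConj h₁
  obtain ⟨x₂, y₂, hy₂, rfl⟩ := lift_inConj h₂
  have hS := minOver hL
  have hp1 : ∀ {x y : ↥L}, y ∈ cj (yIn p M L) x → (qmap p L y) ^ p = 1 := fun hy => by
    rw [← map_pow, pow_of_mem_cj hS hy, map_one]
  have hy₁O : y₁ ∉ Cfsg.pCore p ↥L := fun h => hgp (by
    rw [e, show qmap p L y₁ = 1 from (QuotientGroup.eq_one_iff y₁).2 h, one_mul, hp1 hy₂])
  have hy₂O : y₂ ∉ Cfsg.pCore p ↥L := fun h => hgp (by
    rw [e, show qmap p L y₂ = 1 from (QuotientGroup.eq_one_iff y₂).2 h, mul_one, hp1 hy₁])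
  have hne : cj (yIn p M L) x₁ ≠ cj (yIn p M L) x₂ := fun h => hgp (by
    rw [e, ← map_mul, hp1 (mul_mem hy₁ (h.symm ▸ hy₂ : y₂ ∈ cj (yIn p M L) x₁))])
  set o := (y₁ * y₂)⁻¹ * g with ho
  have hoO : o ∈ Cfsg.pCore p ↥L := by
    rw [← QuotientGroup.eq_one_iff, ho]
    show qmap p L ((y₁ * y₂)⁻¹ * g) = 1
    rw [map_mul, map_inv, map_mul, e, inv_mul_cancel]
  refine mem_cz_of_fix hS le_rfl (pCore_eq_clo hL) (ti_lift hL) hy₁ hy₂ hy₁O hy₂O hne hoO
    (pCore_eq_clo hL ▸ ha) ?_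
  rwa [ho, mul_inv_cancel_left]

/-- An element whose order is not a power of `p` fixes no point of `O_p(L)` modulo the centre. -/
theorem mem_cz_of_not_ppower (hL : Cfsg.IsInFrakL p M L) {h a : ↥L} (hh : ¬ ∃ k : ℕ, orderOf h = p ^ k)
    (ha : a ∈ Cfsg.pCore p ↥L)
    (hc : Commute (QuotientGroup.mk' (cz (yIn p M L)) h) (QuotientGroup.mk' (cz (yIn p M L)) a)) :
    a ∈ cz (yIn p M L) := by
  set n := orderOf (qmap p L h) with hn
  obtain ⟨r, hr, hrn, hrp⟩ : ∃ r, r.Prime ∧ r ∣ n ∧ r ≠ p := by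
    by_contra hcon
    have hpk := Nat.eq_prime_pow_of_unique_prime_dvd (p := p) (orderOf_pos (qmap p L h)).ne'
      (fun {d} hd hdn => by_contra fun hdp => hcon ⟨d, hd, hdn, hdp⟩)
    have hmem : h ^ n ∈ Cfsg.pCore p ↥L := by
      rw [← QuotientGroup.eq_one_iff]
      show qmap p L (h ^ n) = 1
      rw [map_pow, hn, pow_orderOf_eq_one]
    obtain ⟨j, hj⟩ := pow_ppow_eq_one_of_mem (Grp.pCore_isPGroup (p := p)) hmem
    rw [← pow_mul] at hj
    have hd := orderOf_dvd_of_pow_eq_one hj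
    rw [hn, hpk, ← pow_add] at hd
    obtain ⟨i, -, hi⟩ := (Nat.dvd_prime_pow Fact.out).1 hd
    exact hh ⟨i, hi⟩
  have hord : orderOf (qmap p L (h ^ (n / r))) = r := by
    rw [map_pow, hn, orderOf_pow_orderOf_div (orderOf_pos _).ne' hrn]
  have hc' : Commute (QuotientGroup.mk' (cz (yIn p M L)) (h ^ (n / r))) (QuotientGroup.mk' (cz (yIn p M L)) a) := by
    rw [map_pow]; exact hc.pow_left _
  generalize h ^ (n / r) = k at hord hc'
  rcases (quotGood hL).split _ r hr hrp hord with hpair | ⟨wb, wb', hw2, hw2', hw, hw', hww⟩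
  · exact mem_cz_of_pair hL hpair ha hc'
  obtain ⟨w, rfl⟩ := QuotientGroup.mk'_surjective _ wb
  obtain ⟨w', rfl⟩ := QuotientGroup.mk'_surjective _ wb'
  set f := QuotientGroup.mk' (cz (yIn p M L)) with hf
  have hA := pCore_eq_clo hL
  have inv : ∀ v : ↥L, qmap p L v * qmap p L v = qmap p L k → IsPair p (yBar p M L) (qmap p L v) →
      f v * f a * (f v)⁻¹ = (f a)⁻¹ := by
    intro v hv hvP
    have hva : v * a * v⁻¹ ∈ Cfsg.pCore p ↥L := (pCore_normal p ↥L).conj_mem a ha v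
    have hco : Commute (f a) (f (v * a * v⁻¹)) := mk_comm (minOver hL) (hA ▸ ha) (hA ▸ hva)
    have ho : k⁻¹ * (v * v) ∈ Cfsg.pCore p ↥L := by
      rw [← QuotientGroup.eq_one_iff]
      show qmap p L (k⁻¹ * (v * v)) = 1
      rw [map_mul, map_inv, map_mul, hv, inv_mul_cancel]
    have hvv : Commute (f (v * v)) (f a) := by
      have h2 : Commute (f (k⁻¹ * (v * v))) (f a) := mk_comm (minOver hL) (hA ▸ ho) (hA ▸ ha)
      have := hc'.mul_left h2
      rwa [← map_mul, mul_inv_cancel_left] at this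
    have hb : a * (v * a * v⁻¹) ∈ cz (yIn p M L) := by
      refine mem_cz_of_pair hL hvP (mul_mem ha hva) ?_
      show f v * f (a * (v * a * v⁻¹)) = f (a * (v * a * v⁻¹)) * f v
      rw [map_mul f a]
      calc f v * (f a * f (v * a * v⁻¹)) = f v * (f (v * a * v⁻¹) * f a) := by rw [hco.eq]
        _ = (f (v * v) * f a * (f (v * v))⁻¹) * f v * f a := by
            simp only [map_mul, map_inv]; group
        _ = f a * f v * f a := by rw [hvv.eq, mul_inv_cancel_right]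
        _ = f a * f (v * a * v⁻¹) * f v := by simp only [map_mul, map_inv]; group
    have h1 : f (a * (v * a * v⁻¹)) = 1 := (QuotientGroup.eq_one_iff _).2 hb
    rw [map_mul, map_mul, map_mul, map_inv] at h1
    exact (inv_eq_of_mul_eq_one_right h1).symm
  have e1 := inv w hw2 hw
  have e2 := inv w' hw2' hw'
  refine mem_cz_of_pair hL (show IsPair p (yBar p M L) (qmap p L (w * w')) by rw [map_mul]; exact hww) ha ?_
  show f (w * w') * f a = f a * f (w * w')
  rw [map_mul]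
  calc f w * f w' * f a = (f w * (f w' * f a * (f w')⁻¹) * (f w)⁻¹) * (f w * f w') := by group
    _ = (f w * f a * (f w)⁻¹)⁻¹ * (f w * f w') := by rw [e2]; group
    _ = f a * (f w * f w') := by rw [e1, inv_inv]

end Cfsg.Agent.Invol.FrakL
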