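import Mathlib
import Cfsg.Prelude.Def_LocalStructure
import Cfsg.Agent.Lib.Invol.PReduced

/-!
Groups minimal over an elementary abelian subgroup `Y` normalised by the `p`-core: the closure of `O_p(L) ∩ Y`,
and fixed points on it.
-/

set_option autoImplicit false

open scoped commutatorElement

namespace Cfsg.Agent.Invol.FrakL

variable {L : Type*} [Group L]

/-- The conjugate `g Y g⁻¹`. -/
abbrev cj (Y : Subgroup L) (g : L) : Subgroup L := Y.map (MulAut.conj g).toMonoidHom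

theorem mem_cj {Y : Subgroup L} {g x : L} : x ∈ cj Y g ↔ g⁻¹ * x * g ∈ Y := by
  rw [Subgroup.mem_map_equiv, MulAut.conj_symm_apply]

theorem conj_mem_cj {Y : Subgroup L} {g y : L} (hy : y ∈ Y) : g * y * g⁻¹ ∈ cj Y g :=
  ⟨y, hy, rfl⟩

theorem le_cj_of_normal {Y : Subgroup L} (hY : Y.Normal) (g : L) : Y ≤ cj Y g := fun x hx =>
  mem_cj.2 (by simpa using hY.conj_mem x hx g⁻¹)

/-- The normal closure of `O_p(L) ∩ Y`. -/
abbrev clo (p : ℕ) (Y : Subgroup L) : Subgroup L :=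
  Subgroup.normalClosure (((Cfsg.pCore p L ⊓ Y : Subgroup L)) : Set L)

/-- The part of `Y` centralised by `L`. -/
abbrev cz (Y : Subgroup L) : Subgroup L := Y ⊓ Subgroup.center L

instance cz_normal (Y : Subgroup L) : (cz Y).Normal :=
  ⟨fun n hn g => by
    rw [Subgroup.mem_center_iff.1 hn.2 g, mul_inv_cancel_right]
    exact hn⟩

theorem mk_commute_iff {C : Subgroup L} [C.Normal] {a b : L} :
    Commute (QuotientGroup.mk' C a) (QuotientGroup.mk' C b) ↔ a * b * a⁻¹ * b⁻¹ ∈ C := by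
  show QuotientGroup.mk' C a * QuotientGroup.mk' C b = QuotientGroup.mk' C b * QuotientGroup.mk' C a ↔ _
  rw [← map_mul, ← map_mul, eq_comm, QuotientGroup.mk'_apply, QuotientGroup.mk'_apply, QuotientGroup.eq]
  constructor
  · intro h
    have h' := ‹C.Normal›.conj_mem _ h (b * a)
    convert h' using 1
    group
  · intro h
    have h' := ‹C.Normal›.conj_mem _ h ((b * a)⁻¹)
    convert h' using 1
    group

/-- `L` is generated by the conjugates of `Y`, `L₀` is the only maximal subgroup over `Y`, and `O_p(L)`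
normalises `Y`. -/
structure MinOver (p : ℕ) (Y L₀ : Subgroup L) : Prop where
  ea : Cfsg.IsElementaryAbelian p Y
  co : IsCoatom L₀
  le : Y ≤ L₀
  ncl : Subgroup.normalClosure (Y : Set L) = ⊤
  uniq : ∀ K : Subgroup L, IsCoatom K → Y ≤ K → K = L₀
  norm : Cfsg.pCore p L ≤ Subgroup.normalizer (Y : Set L)

theorem MinOver.of_isMinimalOver {p : ℕ} {Y L₀ : Subgroup L} (hea : Cfsg.IsElementaryAbelian p Y)
    (hco : IsCoatom L₀) (hle : Y ≤ L₀) (hmin : Cfsg.IsMinimalOver Y)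
    (hn : Cfsg.pCore p L ≤ Subgroup.normalizer (Y : Set L)) : MinOver p Y L₀ :=
  ⟨hea, hco, hle, hmin.1, fun _ hK hYK => hmin.2.unique ⟨hK, hYK⟩ ⟨hco, hle⟩, hn⟩

variable [Finite L] {p : ℕ} [Fact p.Prime] {Y L₀ : Subgroup L}

theorem normalizer_coatom (hS : MinOver p Y L₀) : Subgroup.normalizer (L₀ : Set L) = L₀ := by
  by_contra hne
  have h1 := hS.co.2 _ (lt_of_le_of_ne Subgroup.le_normalizer fun e => hne e.symm)
  haveI : L₀.Normal := Subgroup.normalizer_eq_top_iff.1 h1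
  exact hS.co.1 (top_le_iff.1 (hS.ncl ▸ Subgroup.normalClosure_le_normal hS.le))

theorem coatom_cj (hS : MinOver p Y L₀) (g : L) : IsCoatom (cj L₀ g) :=
  (OrderIso.isCoatom_iff (MulEquiv.mapSubgroup (MulAut.conj g)) L₀).2 hS.co

/-- The only maximal subgroup over a conjugate of `Y`. -/
theorem uniq_cj (hS : MinOver p Y L₀) {g : L} {K : Subgroup L} (hK : IsCoatom K) (h : cj Y g ≤ K) :
    K = cj L₀ g := by
  have hK' : IsCoatom (cj K g⁻¹) :=
    (OrderIso.isCoatom_iff (MulEquiv.mapSubgroup (MulAut.conj g⁻¹)) K).2 hK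
  have e := hS.uniq _ hK' fun y hy => mem_cj.2 (by rw [inv_inv]; exact h (conj_mem_cj hy))
  ext x
  rw [mem_cj, ← e, mem_cj]
  constructor
  · intro hx; convert hx using 1; group
  · intro hx; convert hx using 1; group

theorem mem_of_cj_le (hS : MinOver p Y L₀) {g : L} (h : cj Y g ≤ L₀) : g ∈ L₀ := by
  have e := uniq_cj hS hS.co h
  rw [← normalizer_coatom hS, Subgroup.mem_normalizer_iff]
  intro x
  constructor
  · intro hx; rw [e]; exact conj_mem_cj hx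
  · intro hx
    rw [e, mem_cj] at hx
    convert hx using 1
    group

theorem sup_eq_top (hS : MinOver p Y L₀) {g : L} (hg : g ∉ L₀) : Y ⊔ cj Y g = ⊤ := by
  rcases IsCoatomic.eq_top_or_exists_le_coatom (Y ⊔ cj Y g) with h | ⟨K, hK, hle⟩
  · exact h
  · exact absurd (mem_of_cj_le hS ((le_sup_right.trans hle).trans (hS.uniq K hK (le_sup_left.trans hle)).le)) hg

theorem inf_cj_eq (hS : MinOver p Y L₀) {g : L} (hg : g ∉ L₀) : Y ⊓ cj Y g = cz Y := by
  ext x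
  constructor
  · intro hx
    have h1 : Y ⊔ cj Y g ≤ Subgroup.centralizer ({x} : Set L) := by
      refine sup_le (fun y hy => Subgroup.mem_centralizer_singleton_iff.2 (comm_of_ea hS.ea hy hx.1)) fun y hy => ?_
      have e := comm_of_ea hS.ea (mem_cj.1 hy) (mem_cj.1 hx.2)
      refine Subgroup.mem_centralizer_singleton_iff.2 ?_
      calc y * x = g * ((g⁻¹ * y * g) * (g⁻¹ * x * g)) * g⁻¹ := by group
        _ = g * ((g⁻¹ * x * g) * (g⁻¹ * y * g)) * g⁻¹ := by rw [e]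
        _ = x * y := by group
    exact ⟨hx.1, Subgroup.mem_center_iff.2 fun l =>
      Subgroup.mem_centralizer_singleton_iff.1 (h1 (sup_eq_top hS hg ▸ Subgroup.mem_top l))⟩
  · intro hx
    refine ⟨hx.1, mem_cj.2 ?_⟩
    rw [Subgroup.mem_center_iff.1 hx.2 g⁻¹]
    simpa using hx.1

theorem cz_le_cj (Y : Subgroup L) (g : L) : cz Y ≤ cj Y g := fun x hx => by
  rw [mem_cj, Subgroup.mem_center_iff.1 hx.2 g⁻¹]
  simpa using hx.1

theorem cz_le_pCore (hS : MinOver p Y L₀) : cz Y ≤ Cfsg.pCore p L :=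
  Grp.le_pCore inferInstance ((isPGroup_of_ea hS.ea).to_le inf_le_left)

theorem clo_le_pCore : clo p Y ≤ Cfsg.pCore p L := by
  haveI := pCore_normal p L
  exact Subgroup.normalClosure_le_normal inf_le_left

theorem clo_inf (Y : Subgroup L) : clo p Y ⊓ Y = Cfsg.pCore p L ⊓ Y :=
  le_antisymm (inf_le_inf_right Y clo_le_pCore) (le_inf Subgroup.subset_normalClosure inf_le_right)

theorem cz_le_clo (hS : MinOver p Y L₀) : cz Y ≤ clo p Y :=
  le_trans (le_inf (cz_le_pCore hS) inf_le_left) Subgroup.subset_normalClosure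

theorem pCore_conj_mem {x : L} (hx : x ∈ Cfsg.pCore p L) (g : L) : g⁻¹ * x * g ∈ Cfsg.pCore p L := by
  simpa using (pCore_normal p L).conj_mem x hx g⁻¹

/-- `O_p(L)` normalises every conjugate of `Y`. -/
theorem norm_cj (hS : MinOver p Y L₀) {o y g : L} (ho : o ∈ Cfsg.pCore p L) (hy : y ∈ cj Y g) :
    o * y * o⁻¹ ∈ cj Y g := by
  rw [mem_cj] at hy ⊢
  have h := (Subgroup.mem_normalizer_iff.1 (hS.norm (pCore_conj_mem ho g)) _).1 hy
  convert h using 1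
  group

theorem norm_self (hS : MinOver p Y L₀) {o y : L} (ho : o ∈ Cfsg.pCore p L) (hy : y ∈ Y) :
    o * y * o⁻¹ ∈ Y :=
  (Subgroup.mem_normalizer_iff.1 (hS.norm ho) y).1 hy

theorem exists_prod (hS : MinOver p Y L₀) {g : L} (hg : g ∉ L₀) {a : L} (ha : a ∈ clo p Y) :
    ∃ u ∈ clo p Y ⊓ Y, ∃ v ∈ clo p Y ⊓ cj Y g, a = u * v := by
  have hAn : (clo p Y).Normal := Subgroup.normalClosure_normal
  set U := clo p Y ⊓ Y
  set V := clo p Y ⊓ cj Y g
  have hVU : V ≤ Subgroup.normalizer (U : Set L) := fun v hv => by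
    refine Subgroup.mem_normalizer_iff.2 fun x => ⟨fun hx =>
      Subgroup.mem_inf.2 ⟨hAn.conj_mem x (Subgroup.mem_inf.1 hx).1 v, norm_self hS (clo_le_pCore (Subgroup.mem_inf.1 hv).1) (Subgroup.mem_inf.1 hx).2⟩, fun hx => ?_⟩
    have h1 := hAn.conj_mem _ (Subgroup.mem_inf.1 hx).1 v⁻¹
    have h2 := norm_self hS (clo_le_pCore (inv_mem (Subgroup.mem_inf.1 hv).1)) (Subgroup.mem_inf.1 hx).2
    refine Subgroup.mem_inf.2 ⟨?_, ?_⟩ <;> [convert h1 using 1; convert h2 using 1] <;> group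
  have key : ∀ y : L, (y ∈ Y ∨ y ∈ cj Y g) → U ⊔ V ≤ (U ⊔ V).comap (MulAut.conj y).toMonoidHom := by
    intro y hy
    refine sup_le (fun u hu => ?_) (fun v hv => ?_)
    · show y * u * y⁻¹ ∈ U ⊔ V
      rcases hy with hy | hy
      · exact Subgroup.mem_sup_left (Subgroup.mem_inf.2 ⟨hAn.conj_mem u (Subgroup.mem_inf.1 hu).1 y, mul_mem (mul_mem hy (Subgroup.mem_inf.1 hu).2) (inv_mem hy)⟩)
      · rw [show y * u * y⁻¹ = (y * u * y⁻¹ * u⁻¹) * u by group]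
        refine mul_mem (Subgroup.mem_sup_right (Subgroup.mem_inf.2 ⟨mul_mem (hAn.conj_mem u (Subgroup.mem_inf.1 hu).1 y) (inv_mem (Subgroup.mem_inf.1 hu).1), ?_⟩))
          (Subgroup.mem_sup_left hu)
        rw [show y * u * y⁻¹ * u⁻¹ = y * (u * y⁻¹ * u⁻¹) by group]
        exact mul_mem hy (norm_cj hS (clo_le_pCore (Subgroup.mem_inf.1 hu).1) (inv_mem hy))
    · show y * v * y⁻¹ ∈ U ⊔ V
      rcases hy with hy | hy
      · rw [show y * v * y⁻¹ = (y * v * y⁻¹ * v⁻¹) * v by group]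
        refine mul_mem (Subgroup.mem_sup_left (Subgroup.mem_inf.2 ⟨mul_mem (hAn.conj_mem v (Subgroup.mem_inf.1 hv).1 y) (inv_mem (Subgroup.mem_inf.1 hv).1), ?_⟩))
          (Subgroup.mem_sup_right hv)
        rw [show y * v * y⁻¹ * v⁻¹ = y * (v * y⁻¹ * v⁻¹) by group]
        exact mul_mem hy (norm_self hS (clo_le_pCore (Subgroup.mem_inf.1 hv).1) (inv_mem hy))
      · exact Subgroup.mem_sup_right (Subgroup.mem_inf.2 ⟨hAn.conj_mem v (Subgroup.mem_inf.1 hv).1 y, mul_mem (mul_mem hy (Subgroup.mem_inf.1 hv).2) (inv_mem hy)⟩)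
  have hmem : ∀ y : L, (y ∈ Y ∨ y ∈ cj Y g) → y ∈ Subgroup.normalizer ((U ⊔ V : Subgroup L) : Set L) := by
    intro y hy
    refine Subgroup.mem_normalizer_iff.2 fun x => ⟨fun hx => key y hy hx, fun hx => ?_⟩
    have := key y⁻¹ (hy.imp inv_mem inv_mem) hx
    simpa [mul_assoc] using this
  haveI hn : (U ⊔ V).Normal := Subgroup.normalizer_eq_top_iff.1 <| top_le_iff.1 <|
    sup_eq_top hS hg ▸ sup_le (fun y hy => hmem y (Or.inl hy)) (fun y hy => hmem y (Or.inr hy))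
  have hle : clo p Y ≤ U ⊔ V :=
    Subgroup.normalClosure_le_normal fun x hx => Subgroup.mem_sup_left (show x ∈ clo p Y ⊓ Y by rw [clo_inf]; exact hx)
  have h := hle ha
  rw [← SetLike.mem_coe, Subgroup.coe_mul_of_right_le_normalizer_left U V hVU] at h
  obtain ⟨u, hu, v, hv, e⟩ := h
  exact ⟨u, hu, v, hv, e.symm⟩

theorem comm_U_V (hS : MinOver p Y L₀) {g : L} (hg : g ∉ L₀) {u v : L} (hu : u ∈ clo p Y ⊓ Y)
    (hv : v ∈ clo p Y ⊓ cj Y g) : Commute (QuotientGroup.mk' (cz Y) u) (QuotientGroup.mk' (cz Y) v) := by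
  rw [mk_commute_iff, ← inf_cj_eq hS hg]
  refine Subgroup.mem_inf.2 ⟨?_, ?_⟩
  · rw [show u * v * u⁻¹ * v⁻¹ = u * (v * u⁻¹ * v⁻¹) by group]
    exact mul_mem (Subgroup.mem_inf.1 hu).2 (norm_self hS (clo_le_pCore (Subgroup.mem_inf.1 hv).1) (inv_mem (Subgroup.mem_inf.1 hu).2))
  · exact mul_mem (norm_cj hS (clo_le_pCore (Subgroup.mem_inf.1 hu).1) (Subgroup.mem_inf.1 hv).2) (inv_mem (Subgroup.mem_inf.1 hv).2)

theorem comm_of_mem_cj (hS : MinOver p Y L₀) {g u v : L} (hu : u ∈ cj Y g) (hv : v ∈ cj Y g) :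
    Commute u v := by
  have e := comm_of_ea hS.ea (mem_cj.1 hu) (mem_cj.1 hv)
  calc u * v = g * ((g⁻¹ * u * g) * (g⁻¹ * v * g)) * g⁻¹ := by group
    _ = g * ((g⁻¹ * v * g) * (g⁻¹ * u * g)) * g⁻¹ := by rw [e]
    _ = v * u := by group

theorem pow_of_mem_cj (hS : MinOver p Y L₀) {g u : L} (hu : u ∈ cj Y g) : u ^ p = 1 := by
  obtain ⟨y, hy, rfl⟩ := hu
  rw [← map_pow, hS.ea.2 y hy, map_one]

theorem mk_comm (hS : MinOver p Y L₀) {a b : L} (ha : a ∈ clo p Y) (hb : b ∈ clo p Y) :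
    Commute (QuotientGroup.mk' (cz Y) a) (QuotientGroup.mk' (cz Y) b) := by
  obtain ⟨g, hg⟩ : ∃ g, g ∉ L₀ := by
    by_contra h
    exact hS.co.1 (eq_top_iff.2 fun x _ => by_contra fun hx => h ⟨x, hx⟩)
  obtain ⟨u, hu, v, hv, rfl⟩ := exists_prod hS hg ha
  obtain ⟨u', hu', v', hv', rfl⟩ := exists_prod hS hg hb
  rw [map_mul, map_mul]
  exact ((((show Commute u u' from comm_of_ea hS.ea (Subgroup.mem_inf.1 hu).2 (Subgroup.mem_inf.1 hu').2).map _).mul_right (comm_U_V hS hg hu hv')).mul_left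
    ((comm_U_V hS hg hu' hv).symm.mul_right ((comm_of_mem_cj hS (Subgroup.mem_inf.1 hv).2 (Subgroup.mem_inf.1 hv').2).map _)))

/-- The commutator identities for the closure of `O_p(L) ∩ Y`. -/
theorem commutators (hS : MinOver p Y L₀) {g : L} (hg : g ∉ L₀) :
    ⁅clo p Y, clo p Y⁆ = ⁅clo p Y ⊓ Y, clo p Y⁆ ∧
    ⁅clo p Y ⊓ Y, clo p Y⁆ = ⁅clo p Y ⊓ Y, clo p Y ⊓ cj Y g⁆ ∧
    ⁅clo p Y ⊓ Y, clo p Y⁆ ≤ cz Y := by
  have hD : ⁅clo p Y ⊓ Y, clo p Y ⊓ cj Y g⁆ ≤ cz Y :=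
    Subgroup.commutator_le.2 fun u hu v hv => mk_commute_iff.1 (comm_U_V hS hg hu hv)
  set D := ⁅clo p Y ⊓ Y, clo p Y ⊓ cj Y g⁆ with hDdef
  haveI : D.Normal := ⟨fun n hn x => by
    rw [Subgroup.mem_center_iff.1 (hD hn).2 x, mul_inv_cancel_right]; exact hn⟩
  have hUV : ∀ u ∈ clo p Y ⊓ Y, ∀ v ∈ clo p Y ⊓ cj Y g,
      Commute (QuotientGroup.mk' D u) (QuotientGroup.mk' D v) :=
    fun u hu v hv => mk_commute_iff.2 (Subgroup.commutator_mem_commutator hu hv)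
  have hAA : ⁅clo p Y, clo p Y⁆ ≤ D := by
    refine Subgroup.commutator_le.2 fun a ha b hb => mk_commute_iff.1 ?_
    obtain ⟨u, hu, v, hv, rfl⟩ := exists_prod hS hg ha
    obtain ⟨u', hu', v', hv', rfl⟩ := exists_prod hS hg hb
    rw [map_mul, map_mul]
    exact ((((show Commute u u' from comm_of_ea hS.ea (Subgroup.mem_inf.1 hu).2 (Subgroup.mem_inf.1 hu').2).map _).mul_right (hUV u hu v' hv')).mul_left
      ((hUV u' hu' v hv).symm.mul_right ((comm_of_mem_cj hS (Subgroup.mem_inf.1 hv).2 (Subgroup.mem_inf.1 hv').2).map _)))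
  have h1 : ⁅clo p Y ⊓ Y, clo p Y⁆ ≤ ⁅clo p Y, clo p Y⁆ := Subgroup.commutator_mono inf_le_left le_rfl
  have h2 : D ≤ ⁅clo p Y ⊓ Y, clo p Y⁆ := Subgroup.commutator_mono le_rfl inf_le_left
  exact ⟨le_antisymm (hAA.trans h2) h1, le_antisymm (h1.trans hAA) h2, (h1.trans hAA).trans hD⟩

theorem frattini_clo (hS : MinOver p Y L₀) {g : L} (hg : g ∉ L₀) :
    (frattini ↥(clo p Y)).map (clo p Y).subtype = ⁅clo p Y, clo p Y⁆ := by
  set A := clo p Y with hA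
  have hAn : A.Normal := Subgroup.normalClosure_normal
  have hp : IsPGroup p ↥A := Grp.pCore_isPGroup.to_le clo_le_pCore
  have hmap : (commutator ↥A).map A.subtype = ⁅A, A⁆ := by
    rw [commutator_def, Subgroup.map_commutator, ← MonoidHom.range_eq_map, Subgroup.range_subtype]
  rw [← hmap]
  refine le_antisymm (Subgroup.map_mono ?_) (Subgroup.map_mono (Grp.pGroup_commutator_le_frattini hp))
  refine Grp.frattini_le_of_elementary (p := p) Fact.out le_rfl fun x => ?_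
  obtain ⟨u, hu, v, hv, e⟩ := exists_prod hS hg x.2
  set u' : A := ⟨u, (Subgroup.mem_inf.1 hu).1⟩
  set v' : A := ⟨v, (Subgroup.mem_inf.1 hv).1⟩
  rw [show x = u' * v' from Subtype.ext e, ← QuotientGroup.eq_one_iff, QuotientGroup.mk_pow, QuotientGroup.mk_mul]
  have hc : Commute (u' : ↥A ⧸ commutator ↥A) (v' : ↥A ⧸ commutator ↥A) :=
    mk_commute_iff.2 (Subgroup.commutator_mem_commutator (Subgroup.mem_top u') (Subgroup.mem_top v'))
  rw [hc.mul_pow, ← QuotientGroup.mk_pow, ← QuotientGroup.mk_pow,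
    show u' ^ p = 1 from Subtype.ext (hS.ea.2 u (Subgroup.mem_inf.1 hu).2), show v' ^ p = 1 from Subtype.ext (pow_of_mem_cj hS (Subgroup.mem_inf.1 hv).2),
    QuotientGroup.mk_one, one_mul]

theorem clo_inf_center (hS : MinOver p Y L₀) {g : L} (hg : g ∉ L₀) :
    clo p Y ⊓ Subgroup.center L = cz Y := by
  refine le_antisymm (fun z hz => ?_) (le_inf (cz_le_clo hS) inf_le_right)
  obtain ⟨u, hu, v, hv, e⟩ := exists_prod hS hg (Subgroup.mem_inf.1 hz).1
  have hzc := Subgroup.mem_center_iff.1 (Subgroup.mem_inf.1 hz).2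
  have hve : v = u⁻¹ * z := by rw [e]; group
  have hv1 : v ∈ Subgroup.center L := by
    have h1 : Y ⊔ cj Y g ≤ Subgroup.centralizer ({v} : Set L) := by
      refine sup_le (fun y hy => Subgroup.mem_centralizer_singleton_iff.2 ?_)
        (fun y hy => Subgroup.mem_centralizer_singleton_iff.2 (comm_of_mem_cj hS hy (Subgroup.mem_inf.1 hv).2).eq)
      rw [hve, ← mul_assoc, comm_of_ea hS.ea hy (inv_mem (Subgroup.mem_inf.1 hu).2), mul_assoc, hzc y, mul_assoc]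
    exact Subgroup.mem_center_iff.2 fun l =>
      Subgroup.mem_centralizer_singleton_iff.1 (h1 (sup_eq_top hS hg ▸ Subgroup.mem_top l))
  have hvY : v ∈ Y := by
    have h := mem_cj.1 (Subgroup.mem_inf.1 hv).2
    rwa [Subgroup.mem_center_iff.1 hv1 g⁻¹, mul_assoc, inv_mul_cancel, mul_one] at h
  exact ⟨e ▸ mul_mem (Subgroup.mem_inf.1 hu).2 hvY, (Subgroup.mem_inf.1 hz).2⟩

/-- An element of `Y ∖ O_p(L)` fixes only `O_p(L) ∩ Y` modulo the centre. -/
theorem mem_of_fix (hS : MinOver p Y L₀)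
    (hti : ∀ y ∈ Y, y ∉ Cfsg.pCore p L → ∀ x, x⁻¹ * y * x ∈ L₀ → x ∈ L₀)
    {y a : L} (hy : y ∈ Y) (hyO : y ∉ Cfsg.pCore p L) (ha : a ∈ clo p Y)
    (hc : Commute (QuotientGroup.mk' (cz Y) y) (QuotientGroup.mk' (cz Y) a)) : a ∈ Y := by
  obtain ⟨g, hg⟩ : ∃ g, g ∉ L₀ := by
    by_contra h
    exact hS.co.1 (eq_top_iff.2 fun x _ => by_contra fun hx => h ⟨x, hx⟩)
  obtain ⟨u, hu, v, hv, rfl⟩ := exists_prod hS hg ha
  set f := QuotientGroup.mk' (cz Y)
  have hyv : Commute (f y) (f v) := by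
    rw [map_mul] at hc
    have hyu : Commute (f y) (f u)⁻¹ := ((show Commute y u from comm_of_ea hS.ea hy (Subgroup.mem_inf.1 hu).2).map f).inv_right
    have := hyu.mul_right hc
    rwa [inv_mul_cancel_left] at this
  set T := (Subgroup.centralizer ({f v} : Set (L ⧸ cz Y))).comap f with hT
  have hTy : y ∈ T := Subgroup.mem_centralizer_singleton_iff.2 hyv.eq
  have hTg : cj Y g ≤ T := fun w hw =>
    Subgroup.mem_centralizer_singleton_iff.2 ((comm_of_mem_cj hS hw (Subgroup.mem_inf.1 hv).2).map f).eq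
  have hTtop : T = ⊤ := by
    rcases IsCoatomic.eq_top_or_exists_le_coatom T with h | ⟨K, hK, hle⟩
    · exact h
    · have e := uniq_cj hS hK (hTg.trans hle)
      exact absurd (hti y hy hyO g (mem_cj.1 (e ▸ hle hTy))) hg
  have hvg : g⁻¹ * v * g * v⁻¹ ∈ cz Y := by
    have h : g⁻¹ ∈ T := hTtop ▸ Subgroup.mem_top _
    have := mk_commute_iff.1 (show Commute (f g⁻¹) (f v) from Subgroup.mem_centralizer_singleton_iff.1 h)
    rwa [inv_inv] at this
  have hvY : v ∈ Y := by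
    have h := mul_mem (inv_mem (Subgroup.mem_inf.1 hvg).1) (mem_cj.1 (Subgroup.mem_inf.1 hv).2)
    convert h using 1
    group
  exact mul_mem (Subgroup.mem_inf.1 hu).2 hvY

theorem mem_cj_of_fix (hS : MinOver p Y L₀)
    (hti : ∀ y ∈ Y, y ∉ Cfsg.pCore p L → ∀ x, x⁻¹ * y * x ∈ L₀ → x ∈ L₀)
    {x y a : L} (hy : y ∈ cj Y x) (hyO : y ∉ Cfsg.pCore p L) (ha : a ∈ clo p Y)
    (hc : Commute (QuotientGroup.mk' (cz Y) y) (QuotientGroup.mk' (cz Y) a)) : a ∈ cj Y x := by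
  refine mem_cj.2 (mem_of_fix hS hti (mem_cj.1 hy) (fun h => hyO ?_)
    (by
      have h := Subgroup.normalClosure_normal.conj_mem a ha x⁻¹
      rwa [inv_inv] at h) (mk_commute_iff.2 ?_))
  · have := pCore_conj_mem h x⁻¹
    convert this using 1
    group
  · have h := (cz_normal Y).conj_mem _ (mk_commute_iff.1 hc) x⁻¹
    convert h using 1
    group

/-- A product from two different conjugates of `Y`, times an element of the core, fixes no point modulo the centre. -/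
theorem mem_cz_of_fix (hS : MinOver p Y L₀) (hL₀ : L₀ ≤ Subgroup.normalizer (Y : Set L))
    (hcore : Cfsg.pCore p L = clo p Y)
    (hti : ∀ y ∈ Y, y ∉ Cfsg.pCore p L → ∀ x, x⁻¹ * y * x ∈ L₀ → x ∈ L₀)
    {x₁ x₂ y₁ y₂ o a : L} (hy₁ : y₁ ∈ cj Y x₁) (hy₂ : y₂ ∈ cj Y x₂) (h₁ : y₁ ∉ Cfsg.pCore p L)
    (h₂ : y₂ ∉ Cfsg.pCore p L) (hne : cj Y x₁ ≠ cj Y x₂) (ho : o ∈ Cfsg.pCore p L) (ha : a ∈ clo p Y)
    (hc : Commute (QuotientGroup.mk' (cz Y) (y₁ * y₂ * o)) (QuotientGroup.mk' (cz Y) a)) : a ∈ cz Y := by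
  set f := QuotientGroup.mk' (cz Y) with hf
  have hx : x₁⁻¹ * x₂ ∉ L₀ := fun h => hne <| by
    ext z
    rw [mem_cj, mem_cj, Subgroup.mem_normalizer_iff.1 (hL₀ h) (x₂⁻¹ * z * x₂)]
    rw [show x₁⁻¹ * x₂ * (x₂⁻¹ * z * x₂) * (x₁⁻¹ * x₂)⁻¹ = x₁⁻¹ * z * x₁ by group]
  have hint : ∀ z, z ∈ cj Y x₁ → z ∈ cj Y x₂ → z ∈ cz Y := fun z hz₁ hz₂ => by
    have h : x₁⁻¹ * z * x₁ ∈ Y ⊓ cj Y (x₁⁻¹ * x₂) := ⟨mem_cj.1 hz₁, mem_cj.2 (by
      convert mem_cj.1 hz₂ using 1; group)⟩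
    rw [inf_cj_eq hS hx] at h
    have := (cz_normal Y).conj_mem _ h x₁
    convert this using 1
    group
  have hoa : Commute (f o) (f a) := mk_comm hS (hcore ▸ ho) ha
  have hc' : Commute (f (y₁ * y₂)) (f a) := by
    have := hc.mul_left hoa.inv_left
    rwa [← map_inv, ← map_mul, mul_inv_cancel_right] at this
  set d₁ := y₁⁻¹ * a * y₁ * a⁻¹ with hd₁
  set d₂ := y₂ * a * y₂⁻¹ * a⁻¹ with hd₂
  have hd : f d₁ = f d₂ := by
    have h3 : f y₁ * (f y₂ * f a) = f a * (f y₁ * f y₂) := by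
      rw [← mul_assoc, ← map_mul f y₁ y₂]; exact hc'.eq
    have h4 : f y₂ * f a * (f y₂)⁻¹ = (f y₁)⁻¹ * f a * f y₁ := by
      rw [eq_inv_mul_iff_mul_eq.2 h3]
      group
    rw [hd₁, hd₂]
    simp only [map_mul, map_inv]
    rw [h4]
  have ha' : a ∈ Cfsg.pCore p L := clo_le_pCore ha
  have hd₂Y : d₂ ∈ cj Y x₂ := by
    rw [hd₂, show y₂ * a * y₂⁻¹ * a⁻¹ = y₂ * (a * y₂⁻¹ * a⁻¹) by group]
    exact mul_mem hy₂ (norm_cj hS ha' (inv_mem hy₂))
  have hd₁Y : d₁ ∈ cj Y x₁ := by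
    rw [hd₁, show y₁⁻¹ * a * y₁ * a⁻¹ = y₁⁻¹ * (a * y₁ * a⁻¹) by group]
    exact mul_mem (inv_mem hy₁) (norm_cj hS ha' hy₁)
  have hdd : d₁⁻¹ * d₂ ∈ cz Y := QuotientGroup.eq.1 hd
  have hd₂C : d₂ ∈ cz Y := hint d₂ (by
    have := mul_mem hd₁Y (cz_le_cj Y x₁ hdd)
    rwa [mul_inv_cancel_left] at this) hd₂Y
  have hd₁C : d₁ ∈ cz Y := by
    have := mul_mem hd₂C (inv_mem hdd)
    convert this using 1
    group
  refine hint a (mem_cj_of_fix hS hti (inv_mem hy₁) (fun h => h₁ (inv_mem_iff.1 h)) ha (mk_commute_iff.2 ?_))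
    (mem_cj_of_fix hS hti hy₂ h₂ ha (mk_commute_iff.2 hd₂C))
  rw [inv_inv]; exact hd₁C

end Cfsg.Agent.Invol.FrakL
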