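import Cfsg.Prelude.Def_LocalStructure
import Cfsg.Prelude.Def_Amalgam
import Cfsg.Agent.Lib.Invol.PReduced
import Cfsg.Agent.Lib.Transfer.Residual

/-!
`p`-reduced normal subgroups of subgroups, inside an ambient group.
-/

set_option autoImplicit false

open scoped commutatorElement

namespace Cfsg.Agent.Invol

variable {G : Type*} [Group G] [Finite G] {p : ℕ} [Fact p.Prime]

/-- `U` is `p`-reduced normal in `L`, in ambient terms. -/
def RedIn (p : ℕ) (L U : Subgroup G) : Prop :=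
  U ≤ L ∧ Cfsg.IsElementaryAbelian p U ∧ L ≤ Subgroup.normalizer (U : Set G) ∧
    ∀ M : Subgroup G, M ≤ L → L ≤ Subgroup.normalizer (M : Set G) →
      PMod p M (Subgroup.centralizer (U : Set G)) → M ≤ Subgroup.centralizer (U : Set G)

theorem mem_centralizer_subgroupOf {L U : Subgroup G} (hUL : U ≤ L) (x : L) :
    x ∈ Subgroup.centralizer (U.subgroupOf L : Set L) ↔ (x : G) ∈ Subgroup.centralizer (U : Set G) := by
  rw [Subgroup.mem_centralizer_iff, Subgroup.mem_centralizer_iff]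
  exact ⟨fun h u hu => congrArg Subtype.val (h ⟨u, hUL hu⟩ hu), fun h u hu => Subtype.ext (h u hu)⟩

theorem redIn_iff {L U : Subgroup G} :
    RedIn p L U ↔ U ≤ L ∧ Cfsg.IsPReducedNormal p (U.subgroupOf L) := by
  refine and_congr_right fun hUL => ?_
  rw [pReduced_iff]
  constructor
  · rintro ⟨hE, hn, hr⟩
    refine ⟨(Subgroup.normal_subgroupOf_iff_le_normalizer hUL).mpr hn,
      ⟨⟨⟨fun a b => Subtype.ext (Subtype.ext (comm_of_ea hE a.2 b.2))⟩⟩,
        fun a ha => Subtype.ext (hE.2 _ ha)⟩, fun M hM hMp m hm => ?_⟩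
    refine (mem_centralizer_subgroupOf hUL m).mpr
      (hr (M.map L.subtype) (Subgroup.map_subtype_le _) ?_ ?_ ⟨m, hm, rfl⟩)
    · intro l hl
      refine Subgroup.mem_normalizer_fintype ?_
      rintro _ ⟨x, hx, rfl⟩
      exact ⟨⟨l, hl⟩ * x * ⟨l, hl⟩⁻¹, hM.conj_mem x hx _, rfl⟩
    · rintro _ ⟨x, hx, rfl⟩
      obtain ⟨k, hk⟩ := hMp x hx
      exact ⟨k, (mem_centralizer_subgroupOf hUL _).mp hk⟩
  · rintro ⟨hn, hE, hr⟩
    have hE' : Cfsg.IsElementaryAbelian p U := ⟨⟨⟨fun a b => Subtype.ext (show (a : G) * b = b * a from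
      congrArg Subtype.val (comm_of_ea hE (show (⟨a, hUL a.2⟩ : L) ∈ U.subgroupOf L from a.2)
        (show (⟨b, hUL b.2⟩ : L) ∈ U.subgroupOf L from b.2)))⟩⟩,
      fun a ha => congrArg Subtype.val (hE.2 ⟨a, hUL ha⟩ ha)⟩
    refine ⟨hE', (Subgroup.normal_subgroupOf_iff_le_normalizer hUL).mp hn, fun M hML hM hMp m hm => ?_⟩
    refine (mem_centralizer_subgroupOf hUL ⟨m, hML hm⟩).mp
      (hr (M.subgroupOf L) ((Subgroup.normal_subgroupOf_iff_le_normalizer hML).mpr hM) ?_ hm)
    intro x hx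
    obtain ⟨k, hk⟩ := hMp x hx
    exact ⟨k, (mem_centralizer_subgroupOf hUL _).mpr hk⟩

theorem redIn_map {L : Subgroup G} {V : Subgroup L} (hV : Cfsg.IsPReducedNormal p V) :
    RedIn p L (V.map L.subtype) := by
  refine redIn_iff.mpr ⟨Subgroup.map_subtype_le _, ?_⟩
  rwa [Subgroup.subgroupOf, Subgroup.comap_map_eq_self_of_injective L.subtype_injective]

theorem redIn_top_iff {V : Subgroup G} : RedIn p ⊤ V ↔ Cfsg.IsPReducedNormal p V := by
  rw [pReduced_iff]
  constructor
  · rintro ⟨-, hE, hn, hr⟩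
    exact ⟨Subgroup.normalizer_eq_top_iff.mp (top_le_iff.mp hn), hE, fun M hM hMp =>
      hr M le_top (by rw [Subgroup.normalizer_eq_top]) hMp⟩
  · rintro ⟨hn, hE, hr⟩
    exact ⟨le_top, hE, by rw [Subgroup.normalizer_eq_top],
      fun M _ hM hMp => hr M (Subgroup.normalizer_eq_top_iff.mp (top_le_iff.mp hM)) hMp⟩

theorem RedIn.le_largest {L U : Subgroup G} (hU : RedIn p L U) : U ≤ Cfsg.largestPReducedOf p L := by
  obtain ⟨hUL, hr⟩ := redIn_iff.mp hU
  rw [Cfsg.largestPReducedOf, Cfsg.largestPReduced, ← Subgroup.map_subgroupOf_eq_of_le hUL]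
  exact Subgroup.map_mono (le_sSup hr)

theorem redIn_largest (L : Subgroup G) : RedIn p L (Cfsg.largestPReducedOf p L) :=
  redIn_map largest_pReduced

theorem RedIn.centralizes_pCore {L U : Subgroup G} (hU : RedIn p L U) :
    U ≤ Subgroup.centralizer (Cfsg.pCoreOf p L : Set G) := by
  obtain ⟨hUL, hr⟩ := redIn_iff.mp hU
  intro u hu
  refine Subgroup.mem_centralizer_iff.mpr ?_
  rintro _ ⟨q, hq, rfl⟩
  exact congrArg Subtype.val (Subgroup.mem_centralizer_iff.mp
    (pReduced_centralizes_pCore hr (show (⟨u, hUL hu⟩ : L) ∈ U.subgroupOf L from hu)) q hq)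

theorem RedIn.le_pCoreOf {L U : Subgroup G} (hU : RedIn p L U) : U ≤ Cfsg.pCoreOf p L := by
  obtain ⟨hUL, hr⟩ := redIn_iff.mp hU
  rw [← Subgroup.map_subgroupOf_eq_of_le hUL]
  exact Subgroup.map_mono (pReduced_le_pCore hr)

theorem pCoreOf_le_sylow (T : Sylow p G) {L : Subgroup G} (hTL : (T : Subgroup G) ≤ L) :
    Cfsg.pCoreOf p L ≤ (T : Subgroup G) := by
  rintro _ ⟨r, hr, rfl⟩
  exact Grp.pCore_le_sylow (T.subtype hTL) hr

/-- Passing `p`-reducedness along a factorization modulo the centralizer. -/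
theorem redIn_of_factor {L M Y : Subgroup G} (hY : RedIn p M Y) (hYL : Y ≤ L)
    (h : L ⊔ Subgroup.centralizer (Y : Set G) = M ⊔ Subgroup.centralizer (Y : Set G)) : RedIn p L Y := by
  obtain ⟨-, hE, hn, hr⟩ := hY
  set C := Subgroup.centralizer (Y : Set G) with hC
  have hCY : C ≤ Subgroup.normalizer (Y : Set G) := Subgroup.centralizer_le_normalizer _
  have hNC : Subgroup.normalizer (Y : Set G) ≤ Subgroup.normalizer (C : Set G) := fun x hx =>
    Subgroup.mem_normalizer_fintype fun c hc => Subgroup.mem_centralizer_iff.mpr fun y hy => by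
      have h1 := Subgroup.mem_centralizer_iff.mp hc _ ((Subgroup.mem_normalizer_iff''.mp hx y).mp hy)
      calc y * (x * c * x⁻¹) = x * (x⁻¹ * y * x * c) * x⁻¹ := by group
        _ = x * (c * (x⁻¹ * y * x)) * x⁻¹ := by rw [h1]
        _ = x * c * x⁻¹ * y := by group
  have hLN : L ≤ Subgroup.normalizer (Y : Set G) := le_sup_left.trans (h.le.trans (sup_le hn hCY))
  refine ⟨hYL, hE, hLN, fun N hNL hLNn hNp => ?_⟩
  have hNX : N ⊔ C ≤ Subgroup.normalizer (C : Set G) :=
    sup_le ((hNL.trans hLN).trans hNC) Subgroup.le_normalizer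
  have hmul : ∀ x ∈ N ⊔ C, ∃ k : ℕ, x ^ p ^ k ∈ C := by
    intro x hx
    rw [← SetLike.mem_coe, Subgroup.coe_mul_of_left_le_normalizer_right N C ((hNL.trans hLN).trans hNC)] at hx
    obtain ⟨a, ha, c, hc, rfl⟩ := hx
    obtain ⟨k, hk⟩ := hNp a ha
    refine ⟨k, ?_⟩
    have hn' : (C.subgroupOf (N ⊔ C)).Normal :=
      (Subgroup.normal_subgroupOf_iff_le_normalizer le_sup_right).mpr hNX
    have he : (QuotientGroup.mk ((⟨a, Subgroup.mem_sup_left ha⟩ : ↥(N ⊔ C)) * ⟨c, Subgroup.mem_sup_right hc⟩) :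
        ↥(N ⊔ C) ⧸ C.subgroupOf (N ⊔ C)) ^ p ^ k = 1 := by
      rw [QuotientGroup.mk_mul, (QuotientGroup.eq_one_iff (⟨c, Subgroup.mem_sup_right hc⟩ : ↥(N ⊔ C))).mpr hc,
        mul_one, ← QuotientGroup.mk_pow, QuotientGroup.eq_one_iff]
      exact hk
    rw [← QuotientGroup.mk_pow, QuotientGroup.eq_one_iff] at he
    exact he
  have h1 : (N ⊔ C) ⊓ M ≤ C := by
    refine hr _ inf_le_right (fun m hm => Subgroup.mem_normalizer_fintype fun x hx => ?_)
      fun x hx => hmul x hx.1
    refine ⟨?_, (show m * x * m⁻¹ ∈ M from mul_mem (mul_mem hm hx.2) (inv_mem hm))⟩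
    have hmL : m ∈ L ⊔ C := h.ge (Subgroup.mem_sup_left hm)
    have hle : L ⊔ C ≤ Subgroup.normalizer ((N ⊔ C : Subgroup G) : Set G) := by
      refine sup_le (fun l hl => Subgroup.mem_normalizer_fintype fun y hy => ?_)
        (le_sup_right.trans Subgroup.le_normalizer)
      have hy' : (MulAut.conj l).toMonoidHom y ∈ (N ⊔ C).map (MulAut.conj l).toMonoidHom := ⟨y, hy, rfl⟩
      rw [Subgroup.map_sup] at hy'
      refine (sup_le_sup ?_ ?_ : _ ≤ N ⊔ C) hy'
      · rintro _ ⟨b, hb, rfl⟩; exact (Subgroup.mem_normalizer_iff.mp (hLNn hl) b).mp hb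
      · rintro _ ⟨b, hb, rfl⟩; exact (Subgroup.mem_normalizer_iff.mp (hNC (hLN hl)) b).mp hb
    exact (Subgroup.mem_normalizer_iff.mp (hle hmL) x).mp hx.1
  intro x hx
  have hxM : x ∈ M ⊔ C := h.le (Subgroup.mem_sup_left (hNL hx))
  rw [← SetLike.mem_coe, Subgroup.coe_mul_of_left_le_normalizer_right M C (hn.trans hNC)] at hxM
  obtain ⟨m, hm, c, hc, rfl⟩ := hxM
  refine mul_mem (h1 ⟨?_, hm⟩) hc
  have := mul_mem (Subgroup.mem_sup_left (T := C) hx) (Subgroup.mem_sup_right (inv_mem hc))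
  simpa using this

/-- `[V, A] ≤ H` for a subnormal `H` containing `A`, when `A` is generated by `p'`-elements. -/
theorem commutator_le_subnormal {V A H : Subgroup G} (hV : IsPGroup p V)
    (hAV : A ≤ Subgroup.normalizer (V : Set G))
    (hgen : A = Subgroup.closure {a : G | a ∈ A ∧ (orderOf a).Coprime p})
    (hH : H.IsSubnormal) : A ≤ H → ⁅V, A⁆ ≤ H := by
  have hWW := commutator_eq_of_coprime_gen hV hAV hgen
  induction hH with
  | top => exact fun _ => le_top
  | step H K' hle hK' hn ih =>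
    intro hAH
    refine hWW.trans (Subgroup.commutator_le.mpr fun a ha b hb => ?_)
    rw [commutatorElement_def]
    have h1 : (⟨a, ih (hAH.trans hle) ha⟩ : K') * ⟨b, hle (hAH hb)⟩ * (⟨a, ih (hAH.trans hle) ha⟩ : K')⁻¹
        ∈ H.subgroupOf K' := hn.conj_mem _ (show (⟨b, hle (hAH hb)⟩ : K') ∈ H.subgroupOf K' from hAH hb) _
    exact mul_mem h1 (inv_mem (hAH hb))

/-- A subnormal `M ⊴ L` whose action on `V ⊓ L` is that of a `p`-group centralizes the `p`-reduced `V`. -/
theorem le_centralizer_of_subnormal {V L : Subgroup G} (hV : Cfsg.IsPReducedNormal p V)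
    (hL : L.IsSubnormal) {M : Subgroup G} (hML : M ≤ L) (hM : L ≤ Subgroup.normalizer (M : Set G))
    (hMp : PMod p M (Subgroup.centralizer ((V ⊓ L : Subgroup G) : Set G))) :
    M ≤ Subgroup.centralizer (V : Set G) := by
  obtain ⟨hVn, hVe, hVr⟩ := pReduced_iff.mp hV
  have hVp := isPGroup_of_ea hVe
  have hnorm : ∀ X : Subgroup G, X ≤ Subgroup.normalizer (V : Set G) :=
    fun X => by rw [Subgroup.normalizer_eq_top]; exact le_top
  have hcopV : ∀ m ∈ M, (orderOf m).Coprime p → m ∈ Subgroup.centralizer (V : Set G) := by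
    intro m hm hc
    obtain ⟨k, hk⟩ := hMp m hm
    obtain ⟨j, hj⟩ := exists_pow_eq_self_of_coprime (x := m) (n := p ^ k) (hc.symm.pow_left k)
    have hmW : m ∈ Subgroup.centralizer ((V ⊓ L : Subgroup G) : Set G) := hj ▸ pow_mem hk j
    set A := Subgroup.zpowers m
    have hgen : A = Subgroup.closure {a : G | a ∈ A ∧ (orderOf a).Coprime p} := by
      refine le_antisymm (Subgroup.zpowers_le.mpr (Subgroup.subset_closure ⟨Subgroup.mem_zpowers m, hc⟩))
        ((Subgroup.closure_le _).mpr fun a ha => ha.1)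
    have h0 := commutator_le_subnormal hVp (hnorm A) hgen hL (Subgroup.zpowers_le.mpr (hML hm))
    have h1 : ⁅V, A⁆ = ⊥ := by
      rw [← Grp.commutator_commutator_eq A V (hnorm _) (by
        obtain ⟨i, hi⟩ := hVp.exists_card_eq
        rw [Nat.card_zpowers, hi]
        exact hc.pow_right i) (.inl inferInstance), Subgroup.commutator_eq_bot_iff_le_centralizer]
      intro w hw
      refine Subgroup.mem_centralizer_iff.mpr fun x hx => ?_
      obtain ⟨i, rfl⟩ := Subgroup.mem_zpowers_iff.mp hx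
      have := Subgroup.mem_centralizer_iff.mp hmW w ⟨Subgroup.commutator_le_left V A hw, h0 hw⟩
      exact ((show Commute w m from this).zpow_right i).symm.eq
    exact Subgroup.mem_centralizer_iff.mpr fun v hv =>
      Subgroup.mem_centralizer_iff.mp (Subgroup.commutator_eq_bot_iff_le_centralizer.mp h1 hv) _
        (Subgroup.mem_zpowers _) |>.symm
  set π := QuotientGroup.mk' (Subgroup.centralizer (V : Set G))
  have hMsn : M.IsSubnormal := by
    have hn := (Subgroup.normal_subgroupOf_iff_le_normalizer hML).mpr hM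
    have := hn.isSubnormal.trans' hL
    rwa [Subgroup.map_subgroupOf_eq_of_le hML] at this
  obtain ⟨-, -, hC, hVbot⟩ := hV
  have himg : M.map π ≤ ⊥ := by
    rw [← hVbot]
    refine Grp.le_pCore_of_isSubnormal (hMsn.map (QuotientGroup.mk'_surjective _)) ?_
    rintro ⟨_, m, hm, rfl⟩
    obtain ⟨j, hj⟩ := exists_pow_coprime (p := p) m
    refine ⟨j, Subtype.ext ?_⟩
    rw [SubgroupClass.coe_pow, Subgroup.coe_one, ← map_pow]
    exact (QuotientGroup.eq_one_iff _).mpr (hcopV _ (pow_mem hm _) hj)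
  intro m hm
  exact (QuotientGroup.eq_one_iff _).mp (Subgroup.mem_bot.mp (himg ⟨m, hm, rfl⟩))

/-- The elements of order dividing `p` in the centre of `S`. -/
def centSet (p : ℕ) (S : Subgroup G) : Set G :=
  {z | z ∈ S ∧ (∀ s ∈ S, s * z = z * s) ∧ z ^ p = 1}

theorem omegaOne_center_eq (S : Subgroup G) :
    Cfsg.omegaOne p (S ⊓ Subgroup.centralizer (S : Set G)) = Subgroup.closure (centSet p S) := by
  rw [Cfsg.omegaOne]
  congr 1
  ext z
  exact ⟨fun h => ⟨h.1.1, Subgroup.mem_centralizer_iff.mp h.1.2, h.2⟩,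
    fun h => ⟨⟨h.1, Subgroup.mem_centralizer_iff.mpr h.2.1⟩, h.2.2⟩⟩

theorem closure_centSet_pReduced (hchar : CharP' p G) (T : Sylow p G) :
    Cfsg.IsPReducedNormal p (Subgroup.normalClosure (centSet p (T : Subgroup G))) := by
  set X : Subgroup ↥(T : Subgroup G) :=
    (Subgroup.closure (centSet p (T : Subgroup G))).subgroupOf (T : Subgroup G)
  have hle : Subgroup.closure (centSet p (T : Subgroup G)) ≤ (T : Subgroup G) :=
    (Subgroup.closure_le _).mpr fun z hz => hz.1
  have hcen : ∀ z ∈ Subgroup.closure (centSet p (T : Subgroup G)), ∀ t ∈ (T : Subgroup G), t * z = z * t := by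
    intro z hz
    have : Subgroup.closure (centSet p (T : Subgroup G)) ≤ Subgroup.centralizer ((T : Subgroup G) : Set G) :=
      (Subgroup.closure_le _).mpr fun z hz => Subgroup.mem_centralizer_iff.mpr hz.2.1
    exact Subgroup.mem_centralizer_iff.mp (this hz)
  have hX : Cfsg.IsPReducedNormal p X := by
    refine pReduced_iff.mpr ⟨⟨fun a ha t => ?_⟩, ⟨⟨⟨fun a b => ?_⟩⟩, fun a ha => ?_⟩, fun M _ _ m _ => ?_⟩
    · have : t * a * t⁻¹ = a := Subtype.ext (by
        show (t : G) * a * (t : G)⁻¹ = a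
        rw [show (t : G) * a = a * t from hcen _ ha _ t.2, mul_inv_cancel_right])
      rwa [this]
    · exact Subtype.ext (Subtype.ext (hcen _ b.2 _ (a : ↥(T : Subgroup G)).2))
    · have hE : Cfsg.IsElementaryAbelian p (Subgroup.closure (centSet p (T : Subgroup G))) :=
        isElementaryAbelian_closure (fun a ha b hb => hb.2.1 a ha.1) fun a ha => ha.2.2
      exact Subtype.ext (hE.2 _ ha)
    · exact Subgroup.mem_centralizer_iff.mpr fun a ha => Subtype.ext (hcen _ ha _ m.2).symm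
  have h := normalClosure_pReduced hchar T (T : Subgroup G) le_rfl hX
  rwa [Subgroup.map_subgroupOf_eq_of_le hle, show Subgroup.normalClosure
    ((Subgroup.closure (centSet p (T : Subgroup G)) : Subgroup G) : Set G) =
      Subgroup.normalClosure (centSet p (T : Subgroup G)) from le_antisymm
        (Subgroup.normalClosure_le_normal ((Subgroup.closure_le _).mpr Subgroup.subset_normalClosure))
        (Subgroup.normalClosure_mono Subgroup.subset_closure)] at h

theorem sylowCenterClosure_eq (L : Subgroup G) (S : Sylow p L) :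
    Cfsg.sylowCenterClosure p L =
      (Subgroup.normalClosure (centSet p (S : Subgroup L))).map L.subtype := by
  have hset : ∀ S' : Sylow p L, ∀ z : L,
      (z : G) ∈ centSet p ((S' : Subgroup L).map L.subtype) ↔ z ∈ centSet p (S' : Subgroup L) := by
    intro S' z
    constructor
    · rintro ⟨⟨y, hy, he⟩, hc, hp⟩
      exact ⟨Subtype.ext he ▸ hy, fun s hs => Subtype.ext (hc s ⟨s, hs, rfl⟩), Subtype.ext hp⟩
    · rintro ⟨hy, hc, hp⟩
      refine ⟨⟨z, hy, rfl⟩, ?_, congrArg Subtype.val hp⟩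
      rintro _ ⟨s, hs, rfl⟩
      exact congrArg Subtype.val (hc s hs)
  refine le_antisymm (iSup_le fun S' => ?_) ?_
  · rw [omegaOne_center_eq, Subgroup.closure_le]
    intro z hz
    obtain ⟨y, hy, rfl⟩ := hz.1
    obtain ⟨g, rfl⟩ := MulAction.exists_smul_eq L S S'
    have hy' := (hset _ y).mp hz
    refine ⟨y, ?_, rfl⟩
    have hmem : g⁻¹ * y * g ∈ centSet p (S : Subgroup L) := by
      obtain ⟨hyS, hyc, hyp⟩ := hy'
      obtain ⟨y₀, hy₀, he⟩ := hyS
      change g * y₀ * g⁻¹ = y at he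
      refine ⟨?_, fun s hs => ?_, ?_⟩
      · rw [← he, show g⁻¹ * (g * y₀ * g⁻¹) * g = y₀ by group]; exact hy₀
      · have h1 := hyc (g * s * g⁻¹) ⟨s, hs, rfl⟩
        calc s * (g⁻¹ * y * g) = g⁻¹ * (g * s * g⁻¹ * y) * g := by group
          _ = g⁻¹ * (y * (g * s * g⁻¹)) * g := by rw [h1]
          _ = g⁻¹ * y * g * s := by group
      · rw [← he] at hyp
        rw [← he, show g⁻¹ * (g * y₀ * g⁻¹) * g = y₀ by group]
        rw [conj_pow] at hyp
        exact conj_eq_one_iff.mp hyp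
    rw [show y = g * (g⁻¹ * y * g) * g⁻¹ by group]
    exact Subgroup.normalClosure_normal.conj_mem _ (Subgroup.subset_normalClosure hmem) g
  · rw [Subgroup.map_le_iff_le_comap]
    refine (Subgroup.closure_le _).mpr ?_
    intro z hz
    obtain ⟨y, hy, hc⟩ := Group.mem_conjugatesOfSet_iff.mp hz
    obtain ⟨g, rfl⟩ := isConj_iff.mp hc
    obtain ⟨hyS, hyc, hyp⟩ := hy
    refine Subgroup.mem_comap.mpr (le_iSup (fun S : Sylow p L => Cfsg.omegaOne p
      (((S : Subgroup L).map L.subtype) ⊓ Subgroup.centralizer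
        (((S : Subgroup L).map L.subtype : Subgroup G) : Set G))) (g • S) ?_)
    rw [omegaOne_center_eq]
    refine Subgroup.subset_closure ((hset (g • S) _).mpr ⟨⟨y, hyS, rfl⟩, ?_, ?_⟩)
    · rintro _ ⟨s, hs, rfl⟩
      show g * s * g⁻¹ * (g * y * g⁻¹) = g * y * g⁻¹ * (g * s * g⁻¹)
      calc g * s * g⁻¹ * (g * y * g⁻¹) = g * (s * y) * g⁻¹ := by group
        _ = g * (y * s) * g⁻¹ := by rw [hyc s hs]
        _ = g * y * g⁻¹ * (g * s * g⁻¹) := by group
    · show (g * y * g⁻¹) ^ p = 1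
      rw [conj_pow, hyp, mul_one, mul_inv_cancel]

/-- A normal subgroup generated by conjugates of Sylow fixed elements: `[U, G] ≤ [U, O^p(G)]`. -/
theorem commutator_top_le_residual (T : Sylow p G) {s : Set G}
    (hs : ∀ x ∈ s, ∀ t ∈ (T : Subgroup G), t * x = x * t) :
    ⁅Subgroup.normalClosure s, (⊤ : Subgroup G)⁆ ≤ ⁅Subgroup.normalClosure s, Cfsg.pResidual p G⁆ := by
  set U := Subgroup.normalClosure s with hU
  set R := Cfsg.pResidual p G with hR
  have hRc := Transfer.pResidual_characteristic p G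
  have hUn : U.Normal := Subgroup.normalClosure_normal
  set D := ⁅U, R⁆ with hD
  have hDn : D.Normal := inferInstance
  set π := QuotientGroup.mk' D
  have hle : U ≤ (Subgroup.center (G ⧸ D)).comap π := by
    refine Subgroup.normalClosure_le_normal fun x hx => Subgroup.mem_comap.mpr (Subgroup.mem_center_iff.mpr ?_)
    intro q
    obtain ⟨g, rfl⟩ := QuotientGroup.mk'_surjective D q
    have hg : g ∈ (T : Subgroup G) ⊔ R := by rw [Transfer.sylow_sup_pResidual T]; exact Subgroup.mem_top g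
    obtain ⟨t, ht, r, hr, rfl⟩ := Subgroup.mem_sup_of_normal_right.mp hg
    have h1 : Commute (π t) (π x) := by
      show π t * π x = π x * π t
      rw [← map_mul, ← map_mul, hs x hx t ht]
    have h2 : Commute (π r) (π x) := by
      show π r * π x = π x * π r
      rw [← map_mul, ← map_mul]
      refine (QuotientGroup.eq_iff_div_mem.mpr ?_)
      rw [div_eq_mul_inv, show r * x * (x * r)⁻¹ = ⁅x, r⁆⁻¹ by simp only [commutatorElement_def]; group]
      exact inv_mem (Subgroup.commutator_mem_commutator (Subgroup.subset_normalClosure hx) hr)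
    rw [map_mul]
    exact (h1.mul_left h2).eq
  refine Subgroup.commutator_le.mpr fun u hu g _ => ?_
  rw [← QuotientGroup.eq_one_iff]
  show π ⁅u, g⁆ = 1
  rw [map_commutatorElement]
  exact commutatorElement_eq_one_iff_mul_comm.mpr (Subgroup.mem_center_iff.mp (hle hu) (π g)).symm

/-- A fixed element of a Sylow subgroup, modulo `[U, G]`, is central. -/
theorem exists_central_mul {U : Subgroup G} [U.Normal] (hU : Cfsg.IsElementaryAbelian p U) (T : Sylow p G)
    {z : G} (hz : z ∈ U) (hzT : ∀ t ∈ (T : Subgroup G), t * z = z * t) :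
    ∃ c ∈ U ⊓ Subgroup.centralizer (Set.univ : Set G), ∃ w ∈ ⁅U, (⊤ : Subgroup G)⁆, z = c * w := by
  obtain ⟨τ, h1, -, -, -⟩ := exists_trace (U := U) (L := ⊤) (T₀ := (T : Subgroup G)) hU.1
    (by rw [Subgroup.normalizer_eq_top]) le_top
  obtain ⟨hc, hw⟩ := h1 z ⟨hz, Subgroup.mem_centralizer_iff.mpr hzT⟩
  set n := (T : Subgroup G).relIndex ⊤
  have hn : n.Coprime (orderOf z) := by
    have h2 : ¬ p ∣ n := by rw [show n = (T : Subgroup G).index from Subgroup.relIndex_top_right _]; exact T.not_dvd_index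
    exact Nat.Coprime.coprime_dvd_right (orderOf_dvd_of_pow_eq_one (hU.2 z hz))
      ((Fact.out : p.Prime).coprime_iff_not_dvd.mpr h2).symm
  obtain ⟨m, hm⟩ := exists_pow_eq_self_of_coprime hn
  rw [Subgroup.coe_top] at hc
  refine ⟨τ z ^ m, pow_mem hc m, ((τ z)⁻¹ * z ^ n) ^ m, pow_mem hw m, ?_⟩
  have hcomm : Commute (τ z)⁻¹ (z ^ n) :=
    ((show Commute (τ z) z from comm_of_ea hU hc.1 hz).pow_right n).inv_left
  rw [hcomm.mul_pow, ← mul_assoc, inv_pow, mul_inv_cancel, one_mul, hm]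

end Cfsg.Agent.Invol
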