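import Mathlib
import Cfsg.Prelude
import Cfsg.Agent.Lib.Invol.PReducedSub
import Cfsg.Agent.Lib.Invol.LargeSubgroup
import Cfsg.Agent.Lib.Invol.CharPLocal
import Cfsg.Agent.Lib.Invol.StrongAlperin
import Cfsg.Agent.S2821
import Cfsg.Agent.S2824

/-!
Existence of subgroups with the basic property.
-/

set_option autoImplicit false
set_option linter.style.haveILetI false

open scoped Pointwise

namespace Cfsg.Agent.Invol.FrakMExists

open Subgroup

universe u

variable {H : Type u} [Group H] [Finite H] {p : ℕ} [Fact p.Prime]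

omit [Fact p.Prime] in
theorem normalizer_le_normalizer_centralizer (Y : Subgroup H) :
    normalizer (Y : Set H) ≤ normalizer (centralizer (Y : Set H) : Set H) := fun x hx => by
  refine WCProduct.mem_normalizer_of_conj ?_
  rw [StrongAlperin.map_conj_centralizer, wc_map_conj_eq_iff.mpr hx]

/-- Every subgroup between the Sylow subgroup and a member of the family is a member. -/
theorem mem_of_le (T : Sylow p H) {K X : Subgroup H} (hX : X ∈ Cfsg.charPSubgroups p H)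
    (hTK : (T : Subgroup H) ≤ K) (hKX : K ≤ X) : K ∈ Cfsg.charPSubgroups p H := by
  have hOT := pCoreOf_le_sylow T (hTK.trans hKX)
  have hOO : Cfsg.pCoreOf p X ≤ Cfsg.pCoreOf p K :=
    lg_le_pCoreOf (hOT.trans hTK) (hKX.trans (lg_le_normalizer_pCoreOf X)) (lg_isPGroup_pCoreOf X)
  refine ⟨fun h => ?_, (centralizer_le hOO).trans ((hX.2).trans hOO)⟩
  apply hX.1
  have h' : Cfsg.pCoreOf p X = ⊥ := le_bot_iff.mp (hOO.trans (by rw [Cfsg.pCoreOf, h, Subgroup.map_bot]))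
  exact (Subgroup.map_eq_bot_iff_of_injective _ X.subtype_injective).mp h'

theorem charP_of_mem {K : Subgroup H} (hK : K ∈ Cfsg.charPSubgroups p H) :
    centralizer (Cfsg.pCore p ↥K : Set ↥K) ≤ Cfsg.pCore p ↥K :=
  lg_charP_iff.mpr (inf_le_right.trans hK.2)

theorem largest_ne_bot (T : Sylow p H) {K : Subgroup H} (hK : K ∈ Cfsg.charPSubgroups p H)
    (hTK : (T : Subgroup H) ≤ K) : Cfsg.largestPReducedOf p K ≠ ⊥ := by
  intro h
  obtain ⟨-, -, -, h1, h2, -⟩ := S2821.result T K hTK (charP_of_mem hK) _ rfl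
  have hT1 : (T : Subgroup H) ≠ ⊥ := fun e => hK.1 ((Subgroup.map_eq_bot_iff_of_injective _ K.subtype_injective).mp
    (le_bot_iff.mp ((pCoreOf_le_sylow T hTK).trans e.le)))
  obtain ⟨z, hz, ho⟩ := CpLocal.exists_fixed_order_p T.isPGroup' T.isPGroup' hT1 le_normalizer
  have := h1.trans (h2.trans h.le) (CpLocal.mem_omegaOne hz ho)
  rw [mem_bot] at this
  rw [this, orderOf_one] at ho
  exact (Fact.out : p.Prime).ne_one ho.symm

/-- Monotonicity of the largest reduced subgroup over members containing the Sylow subgroup. -/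
theorem largest_mono (T : Sylow p H) {L X : Subgroup H} (hX : X ∈ Cfsg.charPSubgroups p H)
    (hTL : (T : Subgroup H) ≤ L) (hLX : L ≤ X) :
    Cfsg.largestPReducedOf p L ≤ Cfsg.largestPReducedOf p X := by
  obtain ⟨Y, hY⟩ : ∃ Y, Y = Cfsg.largestPReducedOf p L := ⟨_, rfl⟩
  rw [← hY]
  have hr : RedIn p L Y := hY ▸ redIn_largest L
  obtain ⟨O, hO⟩ : ∃ O, O = Cfsg.pCoreOf p X := ⟨_, rfl⟩
  have hOn : X ≤ normalizer (O : Set H) := hO ▸ lg_le_normalizer_pCoreOf X
  have hOL : O ≤ Cfsg.pCoreOf p L := hO ▸ lg_le_pCoreOf ((pCoreOf_le_sylow T (hTL.trans hLX)).trans hTL)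
    (hLX.trans (lg_le_normalizer_pCoreOf X)) (lg_isPGroup_pCoreOf X)
  have hYc : Y ≤ centralizer (O : Set H) := hr.centralizes_pCore.trans (centralizer_le hOL)
  have hYO : Y ≤ O := hYc.trans (hO ▸ hX.2)
  let s : Set H := {x | ∃ g ∈ X, ∃ y ∈ Y, x = g * y * g⁻¹}
  have hs : ∀ x ∈ s, x ∈ O ∧ x ∈ centralizer (O : Set H) ∧ x ^ p = 1 := by
    rintro _ ⟨g, hg, y, hy, rfl⟩
    refine ⟨(mem_normalizer_iff.mp (hOn hg) y).mp (hYO hy), mem_centralizer_iff.mpr fun o ho => ?_, ?_⟩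
    · have h := mem_centralizer_iff.mp (hYc hy) _ ((mem_normalizer_iff''.mp (hOn hg) o).mp ho)
      calc o * (g * y * g⁻¹) = g * (g⁻¹ * o * g * y) * g⁻¹ := by group
        _ = g * (y * (g⁻¹ * o * g)) * g⁻¹ := by rw [h]
        _ = g * y * g⁻¹ * o := by group
    · rw [conj_pow, hr.2.1.2 y hy, mul_one, mul_inv_cancel]
  obtain ⟨V, hV⟩ : ∃ V, V = closure s := ⟨_, rfl⟩
  have hYV : Y ≤ V := fun y hy => hV ▸ subset_closure ⟨1, one_mem _, y, hy, by simp⟩
  have hrV : RedIn p X V := by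
    refine ⟨?_, ?_, ?_, ?_⟩
    · rw [hV, closure_le]
      exact fun x hx => (hO ▸ lg_pCoreOf_le X : O ≤ X) (hs x hx).1
    · exact hV ▸ isElementaryAbelian_closure
        (fun a ha b hb => mem_centralizer_iff.mp (hs b hb).2.1 a (hs a ha).1) (fun a ha => (hs a ha).2.2)
    · intro g hg
      refine mem_normalizer_fintype fun x hx => ?_
      have hle : V ≤ V.comap (MulAut.conj g).toMonoidHom := by
        conv_lhs => rw [hV]
        refine (closure_le _).mpr ?_
        rintro _ ⟨a, ha, y, hy, rfl⟩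
        exact hV ▸ subset_closure ⟨g * a, mul_mem hg ha, y, hy, by simp [mul_assoc]⟩
      exact hle hx
    · intro M hMX hMn hMp
      have hML : M ⊓ (T : Subgroup H) ≤ centralizer (Y : Set H) :=
        (inf_le_inf_left M hTL).trans (hr.2.2.2 (M ⊓ L) inf_le_right
          (fun l hl => mem_normalizer_fintype fun x hx => mem_inf.mpr
            ⟨(mem_normalizer_iff.mp (hMn (hLX hl)) x).mp hx.1, mul_mem (mul_mem hl hx.2) (inv_mem hl)⟩)
          (fun m hm => (hMp m hm.1).imp fun _ hk => centralizer_le hYV hk))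
      have hMY : M ≤ centralizer (Y : Set H) := by
        have hVn : X ≤ normalizer (V : Set H) := fun g hg => mem_normalizer_fintype fun x hx => by
          have hle : V ≤ V.comap (MulAut.conj g).toMonoidHom := by
            conv_lhs => rw [hV]
            refine (closure_le _).mpr ?_
            rintro _ ⟨a, ha, y, hy, rfl⟩
            exact hV ▸ subset_closure ⟨g * a, mul_mem hg ha, y, hy, by simp [mul_assoc]⟩
          exact hle hx
        haveI : (M.subgroupOf X).Normal := (normal_subgroupOf_iff_le_normalizer hMX).mpr hMn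
        haveI : ((centralizer (V : Set H)).subgroupOf X).Normal := ⟨fun c hc g =>
          (mem_normalizer_iff.mp (normalizer_le_normalizer_centralizer V (hVn g.2)) (c : H)).mp hc⟩
        intro m hm
        have h := le_of_pMod_sylow (M := M.subgroupOf X) (C := (centralizer (V : Set H)).subgroupOf X)
          (E := (centralizer (Y : Set H)).subgroupOf X) (T.subtype (hTL.trans hLX))
          (fun x hx => hMp _ hx) (fun x hx => hML ⟨hx.1, hx.2⟩)
          (fun x hx => centralizer_le hYV hx.2)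
        exact h (show (⟨m, hMX hm⟩ : ↥X) ∈ M.subgroupOf X from hm)
      intro m hm
      rw [hV, centralizer_closure, mem_centralizer_iff]
      rintro _ ⟨g, hg, y, hy, rfl⟩
      have h := mem_centralizer_iff.mp (hMY ((mem_normalizer_iff''.mp (hMn hg) m).mp hm)) y hy
      calc g * y * g⁻¹ * m = g * (y * (g⁻¹ * m * g)) * g⁻¹ := by group
        _ = g * (g⁻¹ * m * g * y) * g⁻¹ := by rw [h]
        _ = m * (g * y * g⁻¹) := by group
  exact hYV.trans hrV.le_largest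

/-- Adjoining the centralizer stays in the family. -/
theorem sup_centralizer_mem (T : Sylow p H)
    (hP : ∀ K : Subgroup H, (T : Subgroup H) ≤ K → Cfsg.pCore p ↥K ≠ ⊥ →
      centralizer (Cfsg.pCoreOf p K : Set H) ≤ Cfsg.pCoreOf p K)
    {X : Subgroup H} (hX : X ∈ Cfsg.charPSubgroups p H) (hTX : (T : Subgroup H) ≤ X) :
    X ⊔ centralizer (Cfsg.largestPReducedOf p X : Set H) ∈ Cfsg.charPSubgroups p H := by
  have hr := redIn_largest (p := p) X
  have hne : Cfsg.pCore p ↥(X ⊔ centralizer (Cfsg.largestPReducedOf p X : Set H)) ≠ ⊥ := by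
    intro h
    have hle := lg_le_pCoreOf (hr.1.trans le_sup_left)
      (sup_le hr.2.2.1 (centralizer_le_normalizer _) : X ⊔ centralizer (Cfsg.largestPReducedOf p X : Set H) ≤ _)
      (isPGroup_of_ea hr.2.1)
    rw [Cfsg.pCoreOf, h, Subgroup.map_bot] at hle
    exact largest_ne_bot T hX hTX (le_bot_iff.mp hle)
  exact ⟨hne, hP _ (hTX.trans le_sup_left) hne⟩

theorem exists_frakM (T : Sylow p H)
    (hP : ∀ K : Subgroup H, (T : Subgroup H) ≤ K → Cfsg.pCore p ↥K ≠ ⊥ →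
      centralizer (Cfsg.pCoreOf p K : Set H) ≤ Cfsg.pCoreOf p K)
    (L : Subgroup H) (hTL : (T : Subgroup H) ≤ L) (hL : L ∈ Cfsg.charPSubgroups p H) :
    ∃ M Ls : Subgroup H, (T : Subgroup H) ≤ M ∧ Cfsg.IsInFrakM p M ∧ (T : Subgroup H) ≤ Ls ∧ Ls ≤ M ∧
      Ls ∈ Cfsg.charPSubgroups p H ∧
      Cfsg.largestPReducedOf p L = Cfsg.largestPReducedOf p Ls ∧
      Cfsg.largestPReducedOf p L ≤ Cfsg.largestPReducedOf p M ∧
      L ⊔ centralizer (Cfsg.largestPReducedOf p L : Set H) =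
        Ls ⊔ centralizer (Cfsg.largestPReducedOf p L : Set H) := by
  obtain ⟨YL, hYL⟩ : ∃ Y, Y = Cfsg.largestPReducedOf p L := ⟨_, rfl⟩
  obtain ⟨CL, hCL⟩ : ∃ C, C = centralizer (YL : Set H) := ⟨_, rfl⟩
  rw [← hYL, ← hCL]
  let F : Set (Subgroup H) := {X | X ∈ Cfsg.maxCharPSubgroups p H ∧ (T : Subgroup H) ≤ X ∧
    ∃ Ls, (T : Subgroup H) ≤ Ls ∧ Ls ≤ X ∧ Ls ⊔ CL = L ⊔ CL ∧ Cfsg.largestPReducedOf p Ls = YL}
  have hFne : F.Nonempty := by
    obtain ⟨X, hLX, hX⟩ := Finite.exists_le_maximal (p := fun X : Subgroup H => X ∈ Cfsg.charPSubgroups p H) hL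
    exact ⟨X, ⟨hX.prop, fun Z hZ hXZ => le_antisymm (hX.le_of_ge hZ hXZ) hXZ⟩, hTL.trans hLX, L, hTL, hLX, rfl,
      hYL.symm⟩
  obtain ⟨X, hXF, hXmax⟩ := Set.exists_max_image F (fun X => Nat.card ↥(Cfsg.largestPReducedOf p X))
    (Set.toFinite F) hFne
  obtain ⟨hXm, hTX, Ls₀, hTLs₀, hLsX, hfac₀, hY₀⟩ := hXF
  obtain ⟨Y, hY⟩ : ∃ Y, Y = Cfsg.largestPReducedOf p X := ⟨_, rfl⟩
  obtain ⟨C, hC⟩ : ∃ C, C = centralizer (Y : Set H) := ⟨_, rfl⟩
  have hYLY : YL ≤ Y := hY₀ ▸ hY ▸ largest_mono T hXm.1 hTLs₀ hLsX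
  have hXC : X ⊔ C = X := hC ▸ hY ▸ hXm.2 _ (sup_centralizer_mem T hP hXm.1 hTX) le_sup_left
  obtain ⟨M, ⟨hTM, hMX, hMC⟩, hMmin⟩ := exists_minimal_of_wellFoundedLT
    (fun K : Subgroup H => (T : Subgroup H) ≤ K ∧ K ≤ X ∧ K ⊔ C = X) ⟨X, hTX, le_rfl, hXC⟩
  have hMmem : M ∈ Cfsg.charPSubgroups p H := mem_of_le T hXm.1 hTM hMX
  have hrX : RedIn p X Y := hY ▸ redIn_largest X
  have hYX : X ≤ normalizer (Y : Set H) := hrX.2.2.1
  have hCn : X ≤ normalizer (C : Set H) := hC ▸ hYX.trans (normalizer_le_normalizer_centralizer Y)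
  have hYT : Y ≤ (T : Subgroup H) := hrX.le_pCoreOf.trans (pCoreOf_le_sylow T hTX)
  have hYM : Cfsg.largestPReducedOf p M = Y := by
    refine le_antisymm (hY ▸ largest_mono T hXm.1 hTM hMX) ?_
    exact (redIn_of_factor hrX (hYT.trans hTM) (by rw [← hC, hMC, hXC])).le_largest
  -- the subgroup inside `M`
  obtain ⟨T₀, hT₀⟩ : ∃ T₀, T₀ = (T : Subgroup H) ⊓ CL := ⟨_, rfl⟩
  have hCLC : C ≤ CL := hC ▸ hCL ▸ centralizer_le hYLY
  have hLCn : L ⊔ CL ≤ normalizer (YL : Set H) :=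
    sup_le (hYL ▸ (redIn_largest L).2.2.1) (hCL ▸ centralizer_le_normalizer _)
  obtain ⟨M', hM'⟩ : ∃ M', M' = M ⊓ (L ⊔ CL) := ⟨_, rfl⟩
  have hTM' : (T : Subgroup H) ≤ M' := hM' ▸ le_inf hTM (hTL.trans le_sup_left)
  have hM'C : M' ⊔ CL = L ⊔ CL := by
    refine le_antisymm (sup_le (hM' ▸ inf_le_right) le_sup_right) ?_
    rw [← hfac₀]
    refine sup_le (fun x hx => ?_) le_sup_right
    have hx' : x ∈ M ⊔ C := hMC.ge (hLsX hx)
    rw [← SetLike.mem_coe, Subgroup.coe_mul_of_left_le_normalizer_right M C (hMX.trans hCn)] at hx'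
    obtain ⟨m, hm, c, hc, rfl⟩ := hx'
    refine mul_mem (mem_sup_left ?_) (mem_sup_right (hCLC hc))
    rw [hM']
    refine ⟨hm, ?_⟩
    have h := mul_mem (hfac₀.le (mem_sup_left hx)) (mem_sup_right (inv_mem (hCLC hc)))
    rwa [mul_inv_cancel_right] at h
  have hM'mem : M' ∈ Cfsg.charPSubgroups p H := mem_of_le T hMmem hTM' (hM' ▸ inf_le_left)
  obtain ⟨Ls, hLs⟩ : ∃ Ls, Ls = M' ⊓ normalizer (T₀ : Set H) := ⟨_, rfl⟩
  obtain ⟨hYLs, hfacLs⟩ := S2824.result T L M' hTL hTM' (charP_of_mem hL) (charP_of_mem hM'mem) T₀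
    (by rw [hT₀, hCL, hYL]) (by rw [← hYL, ← hCL]; exact hM'C) Ls hLs
  rw [← hYL] at hYLs hfacLs
  rw [← hCL] at hfacLs
  have hTLs : (T : Subgroup H) ≤ Ls := by
    rw [hLs, hT₀]
    refine le_inf hTM' fun t ht => mem_normalizer_fintype fun x hx => mem_inf.mpr ⟨mul_mem (mul_mem ht hx.1) (inv_mem ht), ?_⟩
    rw [hCL]
    exact (mem_normalizer_iff.mp (normalizer_le_normalizer_centralizer YL (hLCn (mem_sup_left (hTL ht)))) x).mp
      (hCL ▸ hx.2)
  have hLsM : Ls ≤ M := hLs ▸ inf_le_left.trans (hM' ▸ inf_le_left)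
  refine ⟨M, Ls, hTM, ⟨hMmem, ?_, ?_, ?_, ?_, ?_⟩, hTLs, hLsM, mem_of_le T hMmem hTLs hLsM, hYLs.symm,
    hYM ▸ hYLY, hfacLs⟩
  · rw [hYM, ← hC, hMC]; exact hXm
  · intro Z hZ hMZ
    rw [hYM, ← hC, hMC]
    have hTZ : (T : Subgroup H) ≤ Z := hTM.trans hMZ
    have hle : Y ≤ Cfsg.largestPReducedOf p Z := hYM ▸ largest_mono T hZ.1 hTM hMZ
    have hcard := hXmax Z ⟨hZ, hTZ, Ls, hTLs, hLsM.trans hMZ, hfacLs.symm, hYLs⟩
    rw [← hY] at hcard
    have heq : Y = Cfsg.largestPReducedOf p Z := eq_of_le_of_card_ge hle hcard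
    have hCZ : C ≤ Z := by
      rw [hC, heq]
      exact le_sup_right.trans (hZ.2 _ (sup_centralizer_mem T hP hZ.1 hTZ) le_sup_left).le
    exact hXm.2 Z hZ.1 (hMC ▸ sup_le hMZ hCZ)
  · rw [hYM, ← hC, hMC, hY]
  all_goals
    rw [hYM, ← hC]
    obtain ⟨K, hK⟩ : ∃ K, K = M ⊓ C := ⟨_, rfl⟩
    rw [← hK]
    have hKM : K ≤ M := hK ▸ inf_le_left
    have hMK : M ≤ normalizer (K : Set H) := fun m hm => mem_normalizer_fintype fun x hx => by
      rw [SetLike.mem_coe, hK] at hx ⊢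
      exact mem_inf.mpr ⟨mul_mem (mul_mem hm hx.1) (inv_mem hm), (mem_normalizer_iff.mp (hCn (hMX hm)) x).mp hx.2⟩
    haveI hKn : (K.subgroupOf M).Normal := (normal_subgroupOf_iff_le_normalizer hKM).mpr hMK
    obtain ⟨D, hD⟩ : ∃ D, D = (T : Subgroup H) ⊓ K := ⟨_, rfl⟩
    have hDs : ¬ p ∣ D.relIndex K := by
      have h := Grp.sylow_inf_normal_relIndex (T.subtype hTM) (K.subgroupOf M)
      rw [show ((T.subtype hTM : Sylow p ↥M) : Subgroup ↥M) = (T : Subgroup H).subgroupOf M from rfl,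
        relIndex_subgroupOf hKM] at h
      rwa [hD, inf_relIndex_right]
    have hDn : M ≤ normalizer (D : Set H) := by
      refine le_trans (hMmin (y := M ⊓ normalizer (D : Set H)) ⟨?_, inf_le_left.trans hMX, ?_⟩ inf_le_left) inf_le_right
      · refine le_inf hTM fun t ht => mem_normalizer_fintype fun x hx => ?_
        rw [SetLike.mem_coe, hD] at hx ⊢
        exact mem_inf.mpr ⟨mul_mem (mul_mem ht hx.1) (inv_mem ht), (mem_normalizer_iff.mp (hMK (hTM ht)) x).mp hx.2⟩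
      · refine le_antisymm (sup_le (inf_le_left.trans hMX) (hXC ▸ le_sup_right)) (hMC ▸ sup_le (fun m hm => ?_) le_sup_right)
        obtain ⟨v, hv, hvn⟩ := StrongAlperin.frattini_mem
          (⟨hD ▸ inf_le_right, T.isPGroup'.to_le (hD ▸ inf_le_left), hDs⟩ : Grp.IsSylowIn p D K) (hMK hm)
        have h := mul_mem (mem_sup_right (hK.le hv).2 : v ∈ (M ⊓ normalizer (D : Set H)) ⊔ C)
          (mem_sup_left (mem_inf.mpr ⟨mul_mem (inv_mem (hKM hv)) hm, hvn⟩) :
            v⁻¹ * m ∈ (M ⊓ normalizer (D : Set H)) ⊔ C)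
        rwa [mul_inv_cancel_left] at h
  · intro P
    have hDK : D ≤ K := hD ▸ inf_le_right
    haveI : (D.subgroupOf K).Normal := (normal_subgroupOf_iff_le_normalizer hDK).mpr (hKM.trans hDn)
    let D' : Sylow p ↥K := ((T.isPGroup'.to_le (hD ▸ inf_le_left : D ≤ (T : Subgroup H))).comap_subtype
      (K := K)).toSylow hDs
    have hD'n : (D' : Subgroup ↥K).Normal := (inferInstance : (D.subgroupOf K).Normal)
    haveI : Subsingleton (Sylow p ↥K) :=
      letI : Unique (Sylow p ↥K) := Sylow.unique_of_normal D' hD'n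
      inferInstance
    rw [Subsingleton.elim P D']
    exact (inferInstance : (D.subgroupOf K).Normal)
  · rw [frattini, Order.radical]
    refine le_iInf₂ fun N hN => ?_
    by_contra hle
    let π := QuotientGroup.mk' (Cfsg.pCore p ↥M)
    obtain ⟨M₁, hM₁⟩ : ∃ M₁, M₁ = N.comap π := ⟨_, rfl⟩
    have hDO : ∀ x : ↥M, (x : H) ∈ D → x ∈ M₁ := by
      intro x hx
      rw [hM₁]
      have hDO' := lg_le_pCoreOf ((hD ▸ inf_le_right : D ≤ K).trans hKM) hDn
        (T.isPGroup'.to_le (hD ▸ inf_le_left)) hx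
      obtain ⟨y, hy, e⟩ := hDO'
      obtain rfl : y = x := Subtype.ext e
      show π y ∈ N
      rw [show π y = 1 from (QuotientGroup.eq_one_iff y).mpr hy]
      exact one_mem N
    have hsup : M₁ ⊔ K.subgroupOf M = ⊤ := by
      have h1 : N ⊔ (K.subgroupOf M).map π = ⊤ := hN.2 _ (by
        refine lt_of_le_of_ne le_sup_left fun e => hle (e ▸ le_sup_right))
      rw [eq_top_iff]
      intro x _
      have hx : π x ∈ N ⊔ (K.subgroupOf M).map π := h1 ▸ mem_top _
      rw [hM₁]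
      rw [← comap_map_eq_self (H := N.comap π ⊔ K.subgroupOf M) (f := π) (by
        rw [QuotientGroup.ker_mk']
        exact le_trans (fun y hy => by
          show π y ∈ N
          rw [show π y = 1 from (QuotientGroup.eq_one_iff y).mpr hy]
          exact one_mem N) le_sup_left), mem_comap, Subgroup.map_sup,
        map_comap_eq_self_of_surjective (QuotientGroup.mk'_surjective _)]
      exact hx
    have hidx : ¬ p ∣ M₁.index := by
      have e0 := relIndex_sup_right M₁ (K.subgroupOf M)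
      rw [hsup, relIndex_top_right, ← inf_relIndex_right] at e0
      have e1 := M₁.card_mul_index
      have e2 := (K.subgroupOf M).card_mul_index
      have e3 := ((K.subgroupOf M ⊓ M₁).subgroupOf M₁).card_mul_index
      rw [Nat.card_congr (subgroupOfEquivOfLe (inf_le_right : K.subgroupOf M ⊓ M₁ ≤ M₁)).toEquiv] at e3
      change Nat.card ↥(K.subgroupOf M ⊓ M₁) * (K.subgroupOf M ⊓ M₁).relIndex M₁ = _ at e3
      rw [← e0] at e3
      have e4 := ((K.subgroupOf M ⊓ M₁).subgroupOf (K.subgroupOf M)).card_mul_index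
      rw [Nat.card_congr (subgroupOfEquivOfLe (inf_le_left : K.subgroupOf M ⊓ M₁ ≤ K.subgroupOf M)).toEquiv] at e4
      change Nat.card ↥(K.subgroupOf M ⊓ M₁) * (K.subgroupOf M ⊓ M₁).relIndex (K.subgroupOf M) = _ at e4
      have e5 : M₁.index = (K.subgroupOf M ⊓ M₁).relIndex (K.subgroupOf M) := by
        refine Nat.eq_of_mul_eq_mul_left (mul_pos (Nat.card_pos : 0 < Nat.card ↥(K.subgroupOf M ⊓ M₁))
          (Nat.pos_of_ne_zero (FiniteIndex.index_ne_zero : (K.subgroupOf M).index ≠ 0))) ?_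
        rw [e3, e1, ← e2, ← e4, ← e3]; ring
      rw [e5, inf_comm, inf_relIndex_right]
      intro hd
      apply hDs
      rw [← relIndex_subgroupOf hKM]
      refine hd.trans (relIndex_dvd_of_le_left _ ?_)
      exact fun x hx => hDO x hx
    obtain ⟨S⟩ : Nonempty (Sylow p ↥M₁) := inferInstance
    let S' : Sylow p ↥M := (S.isPGroup'.map M₁.subtype).toSylow (by
      rw [index_map_subtype]
      exact fun hd => ((Fact.out : p.Prime).dvd_mul.mp hd).elim S.not_dvd_index hidx)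
    obtain ⟨g, hg⟩ := MulAction.exists_smul_eq ↥M S' (T.subtype hTM)
    obtain ⟨M₂, hM₂⟩ : ∃ M₂, M₂ = (MulAut.conj g • M₁).map M.subtype := ⟨_, rfl⟩
    have hTM₂ : (T : Subgroup H) ≤ M₂ := by
      intro t ht
      rw [hM₂]
      refine ⟨⟨t, hTM ht⟩, ?_, rfl⟩
      have h : (⟨t, hTM ht⟩ : ↥M) ∈ ((g • S' : Sylow p ↥M) : Subgroup ↥M) := by rw [hg]; exact ht
      rw [Sylow.coe_subgroup_smul] at h
      exact (Subgroup.pointwise_smul_le_pointwise_smul_iff (a := MulAut.conj g)).mpr (map_subtype_le _) h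
    have hsup₂ : M ≤ M₂ ⊔ K := by
      intro m hm
      have h : (⟨m, hm⟩ : ↥M) ∈ MulAut.conj g • (M₁ ⊔ K.subgroupOf M) := by
        rw [hsup, mem_pointwise_smul_iff_inv_smul_mem]
        exact mem_top _
      rw [Subgroup.smul_sup, Grp.mem_normalizer_iff_smul.mp
        (show g ∈ normalizer ((K.subgroupOf M : Subgroup ↥M) : Set ↥M) by
          rw [normalizer_eq_top_iff.mpr hKn]; exact mem_top g)] at h
      have h' := mem_map_of_mem M.subtype h
      rw [Subgroup.map_sup, ← hM₂, map_subgroupOf_eq_of_le hKM] at h'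
      exact h'
    have hM₂M : M ≤ M₂ := hMmin (y := M₂) ⟨hTM₂, (hM₂ ▸ map_subtype_le _ : M₂ ≤ M).trans hMX,
      le_antisymm (sup_le ((hM₂ ▸ map_subtype_le _ : M₂ ≤ M).trans hMX) (hXC ▸ le_sup_right))
        (hMC ▸ sup_le (hsup₂.trans (sup_le_sup_left (hK ▸ inf_le_right) _)) le_sup_right)⟩ (hM₂ ▸ map_subtype_le _)
    have htop : MulAut.conj g • M₁ = ⊤ := eq_top_iff.mpr fun x _ => by
      obtain ⟨y, hy, e⟩ := (hM₂ ▸ hM₂M x.2 : (x : H) ∈ (MulAut.conj g • M₁).map M.subtype)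
      exact Subtype.ext e ▸ hy
    have hM₁top : M₁ = ⊤ := by
      refine eq_top_of_card_eq M₁ ?_
      rw [← Subgroup.card_map_of_injective (f := (MulAut.conj g).toMonoidHom) (MulAut.conj g).injective,
        Grp.map_conj_eq_smul, htop, card_top]
    refine hN.1 ?_
    rw [← map_comap_eq_self_of_surjective (f := π) (QuotientGroup.mk'_surjective _) N, ← hM₁, hM₁top,
      map_top_of_surjective _ (QuotientGroup.mk'_surjective _)]

theorem weakClosure_sup {Q L Ls C : Subgroup H} (S : Sylow p H) (hQS : Q ≤ (S : Subgroup H))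
    (hwc : Cfsg.IsWeaklyClosedSubgroup p Q) (hQp : IsPGroup p Q)
    (hSL : (S : Subgroup H) ≤ L) (hSLs : (S : Subgroup H) ≤ Ls) (hC : C ≤ normalizer (Q : Set H))
    (hLs : Ls ≤ normalizer (C : Set H)) (h : L ≤ Ls ⊔ C) :
    Cfsg.weakClosure Q L ≤ Cfsg.weakClosure Q Ls := by
  refine iSup_le fun ⟨g, hg⟩ => ?_
  obtain ⟨R, hR⟩ := ((hQp.map (MulAut.conj g).toMonoidHom).comap_subtype (K := L)).exists_le_sylow
  obtain ⟨l, hl⟩ := MulAction.exists_smul_eq ↥L R (S.subtype hSL)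
  have hle : Q.map (MulAut.conj ((l : H) * g)).toMonoidHom ≤ (S : Subgroup H) := by
    rintro _ ⟨q, hq, rfl⟩
    have h1 : (⟨g * q * g⁻¹, hg ⟨q, hq, rfl⟩⟩ : ↥L) ∈ (R : Subgroup ↥L) := hR ⟨q, hq, rfl⟩
    have h2 : MulAut.conj l • (⟨g * q * g⁻¹, hg ⟨q, hq, rfl⟩⟩ : ↥L) ∈ ((l • R : Sylow p ↥L) : Subgroup ↥L) := by
      rw [Sylow.coe_subgroup_smul]; exact smul_mem_pointwise_smul _ _ _ h1
    rw [hl] at h2
    have h3 : ((l : H) * (g * q * g⁻¹) * (l : H)⁻¹) ∈ (S : Subgroup H) := h2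
    simpa [mul_assoc] using h3
  have hlg : (l : H) * g ∈ normalizer (Q : Set H) :=
    wc_map_conj_eq_iff.mp (wc_eq hwc S.isPGroup' hQS hle)
  have hmem : (l : H)⁻¹ ∈ Ls ⊔ C := h (inv_mem l.2)
  rw [← SetLike.mem_coe, Subgroup.coe_mul_of_left_le_normalizer_right Ls C hLs] at hmem
  obtain ⟨a, ha, c, hc, e⟩ := hmem
  have heq : Q.map (MulAut.conj g).toMonoidHom = Q.map (MulAut.conj a).toMonoidHom := by
    have hn : a⁻¹ * g ∈ normalizer (Q : Set H) := by
      rw [show a⁻¹ * g = c * ((l : H) * g) by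
        rw [show c = a⁻¹ * (l : H)⁻¹ by rw [← e]; group]; group]
      exact mul_mem (hC hc) hlg
    have h2 := wc_map_conj_eq_iff.mpr hn
    conv_rhs => rw [← h2, WCProduct.conj_map_trans, mul_inv_cancel_left]
  rw [heq]
  exact le_iSup (fun g : {g : H // Q.map (MulAut.conj g).toMonoidHom ≤ Ls} => Q.map (MulAut.conj (g : H)).toMonoidHom)
    ⟨a, by rintro _ ⟨q, hq, rfl⟩; exact mul_mem (mul_mem ha (hSLs (hQS hq))) (inv_mem ha)⟩

end Cfsg.Agent.Invol.FrakMExists
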