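import Mathlib
import Cfsg.Prelude
import Cfsg.Agent.Lib.Invol.PReducedSub
import Cfsg.Agent.Lib.Invol.LargeSubgroup
import Cfsg.Agent.Lib.Invol.CharPLocal
import Cfsg.Agent.Lib.Invol.WeakClosed
import Cfsg.Agent.Lib.Grp.Cores
import Cfsg.Agent.Lib.Invol.FrakMExistence

/-!
Subgroups with the basic property whose reduced module is asymmetric: `O_p(M)` is weakly closed.
-/

set_option autoImplicit false
set_option linter.style.haveILetI false

open scoped Pointwise commutatorElement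

namespace Cfsg.Agent.Invol.FrakMAsym

open Subgroup

universe u

variable {G : Type u} [Group G] [Finite G] {p : ℕ} [Fact p.Prime] (S : Sylow p G) {Q : Subgroup G}
  {M X Y O : Subgroup G}

/-- The standing data. -/
structure Setup (Q M X Y O : Subgroup G) : Prop where
  hQp : IsPGroup p Q
  hQ1 : Q ≠ ⊥
  hQ : Cfsg.IsLarge Q
  hSM : (S : Subgroup G) ≤ M
  hM : Cfsg.IsInFrakM p M
  hX : X = M ⊔ centralizer (Y : Set G)
  hY : Y = Cfsg.largestPReducedOf p M
  hO : O = Cfsg.pCoreOf p M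

namespace Setup

variable {S} (h : Setup S Q M X Y O)
include h

theorem normalizer_le {I : Subgroup G} (hI1 : I ≠ ⊥) (hIp : IsPGroup p I)
    (hIn : M ≤ normalizer (I : Set G)) : normalizer (I : Set G) ≤ X := by
  obtain ⟨R, hR⟩ : ∃ R, R = normalizer (I : Set G) := ⟨_, rfl⟩
  rw [← hR] at hIn ⊢
  have hIR : I ≤ Cfsg.pCoreOf p R := lg_le_pCoreOf (hR ▸ le_normalizer) (hR ▸ le_rfl) hIp
  have hO' : Cfsg.pCore p ↥R ≠ ⊥ := fun e => hI1 (le_bot_iff.mp (hIR.trans (by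
    rw [Cfsg.pCoreOf, e, Subgroup.map_bot])))
  have hc := lg_parabolic_centralizer h.hQp h.hQ1 h.hQ (R := R) ⟨S, h.hSM.trans hIn⟩ hO'
  obtain ⟨Z, hRZ, hZ⟩ :=
    (Set.toFinite (Cfsg.charPSubgroups p G)).exists_le_maximal (show R ∈ _ from ⟨hO', hc⟩)
  have e := h.hM.2.2.1 Z ⟨hZ.1, fun L hL hle => le_antisymm (hZ.2 hL hle) hle⟩ (hIn.trans hRZ)
  rw [← h.hY, ← h.hX] at e
  exact e ▸ hRZ

theorem le_normalizer_Y : X ≤ normalizer (Y : Set G) := by
  rw [h.hX, h.hY]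
  exact sup_le (redIn_largest M).2.2.1 (centralizer_le_normalizer _)

theorem O_isPGroup : IsPGroup p O := h.hO ▸ lg_isPGroup_pCoreOf M

theorem O_le : O ≤ M := h.hO ▸ lg_pCoreOf_le M

theorem le_normalizer_O : M ≤ normalizer (O : Set G) := h.hO ▸ lg_le_normalizer_pCoreOf M

theorem O_ne_bot : O ≠ ⊥ := fun e => h.hM.1.1
  ((Subgroup.map_eq_bot_iff_of_injective _ M.subtype_injective).mp (h.hO.symm.trans e))

theorem normalizer_O_le : normalizer (O : Set G) ≤ X :=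
  h.normalizer_le h.O_ne_bot h.O_isPGroup h.le_normalizer_O

theorem Y_le_O : Y ≤ O := h.hY ▸ h.hO ▸ (redIn_largest M).le_pCoreOf

theorem O_le_centralizer : O ≤ centralizer (Y : Set G) :=
  le_centralizer_iff.mp (h.hY ▸ h.hO ▸ (redIn_largest M).centralizes_pCore)

theorem Y_ne_bot : Y ≠ ⊥ := h.hY ▸ FrakMExists.largest_ne_bot S h.hM.1 h.hSM

/-- A `p`-subgroup of the centralizer of `Y` above `O` equals `O`. -/
theorem le_O {P : Subgroup G} (hP : IsPGroup p P) (hOP : O ≤ P) (hPC : P ≤ centralizer (Y : Set G)) :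
    P ≤ O := by
  obtain ⟨C, hC⟩ : ∃ C, C = centralizer (Y : Set G) := ⟨_, rfl⟩
  rw [← hC] at hPC
  have hXY := h.le_normalizer_Y
  have hCn : X ≤ normalizer (C : Set G) := fun x hx => mem_normalizer_fintype fun c hc => by
    rw [SetLike.mem_coe, hC, mem_centralizer_iff] at hc ⊢
    intro y hy
    have h1 := hc _ ((mem_normalizer_iff''.mp (hXY hx) y).mp hy)
    calc y * (x * c * x⁻¹) = x * (x⁻¹ * y * x * c) * x⁻¹ := by group
      _ = x * (c * (x⁻¹ * y * x)) * x⁻¹ := by rw [h1]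
      _ = x * c * x⁻¹ * y := by group
  have hCX : C ≤ X := h.hX ▸ hC ▸ le_sup_right
  have hSX : (S : Subgroup G) ≤ X := h.hX ▸ h.hSM.trans le_sup_left
  haveI : (C.subgroupOf X).Normal := (normal_subgroupOf_iff_le_normalizer hCX).mpr hCn
  have h1 := Grp.sylow_inf_normal_relIndex (S.subtype hSX) (C.subgroupOf X)
  rw [show ((S.subtype hSX : Sylow p ↥X) : Subgroup ↥X) = (S : Subgroup G).subgroupOf X from rfl,
    relIndex_subgroupOf hCX] at h1
  have hSC : (S : Subgroup G) ⊓ C ≤ O := by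
    have hpc := h.hM.2.2.2.2.1
    rw [← h.hY, ← hC] at hpc
    obtain ⟨K, hK⟩ : ∃ K, K = M ⊓ C := ⟨_, rfl⟩
    rw [← hK] at hpc
    have hKn : M ≤ normalizer (K : Set G) := fun m hm => mem_normalizer_fintype fun x hx => by
      rw [SetLike.mem_coe, hK] at hx ⊢
      exact mem_inf.mpr ⟨mul_mem (mul_mem hm hx.1) (inv_mem hm),
        (mem_normalizer_iff.mp (hCn (h.hX ▸ mem_sup_left hm)) x).mp hx.2⟩
    have hle : (S : Subgroup G) ⊓ C ≤ K := hK ▸ inf_le_inf_right C h.hSM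
    obtain ⟨U, hU⟩ := (S.isPGroup'.to_le inf_le_left : IsPGroup p ↥((S : Subgroup G) ⊓ C)).comap_subtype
      (K := K) |>.exists_le_sylow
    have hUn : (U : Subgroup ↥K).Normal := hpc U
    have hUpc : (U : Subgroup ↥K) ≤ Cfsg.pCore p ↥K := Grp.le_pCore hUn U.isPGroup'
    intro x hx
    refine h.hO ▸ lg_le_pCoreOf ((lg_pCoreOf_le K).trans (hK ▸ inf_le_left))
      (hKn.trans (lg_normalizer_le_normalizer_pCoreOf K)) (lg_isPGroup_pCoreOf K) ?_
    exact ⟨⟨x, hle hx⟩, hUpc (hU hx), rfl⟩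
  have h2 : ¬ p ∣ O.relIndex C := fun hd => h1 (by
    rw [← inf_relIndex_right]
    exact hd.trans (relIndex_dvd_of_le_left C hSC))
  obtain ⟨n, hn⟩ : ∃ n, O.relIndex P = p ^ n := hP.index (O.subgroupOf P)
  rw [← relIndex_eq_one]
  rw [← relIndex_mul_relIndex O P C hOP hPC, hn] at h2
  cases n with
  | zero => simpa using hn
  | succ n => exact absurd (dvd_mul_of_dvd_left (dvd_pow_self p n.succ_ne_zero) _) h2

/-- The asymmetry argument. -/
theorem mem_normalizer (hasym : ¬ Cfsg.IsSymmetricIn Y) {g : G}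
    (h1 : ∀ u ∈ O, g * u * g⁻¹ ∈ normalizer (O : Set G))
    (h2 : ∀ u ∈ O, g⁻¹ * u * g ∈ normalizer (O : Set G)) : g ∈ normalizer (O : Set G) := by
  let R : Set G := {k | (∀ u ∈ O, k * u * k⁻¹ ∈ normalizer (O : Set G)) ∧
    ∀ u ∈ O, k⁻¹ * u * k ∈ normalizer (O : Set G)}
  have hRinv : R⁻¹ = R := by
    ext k
    simp only [Set.mem_inv, R, Set.mem_setOf_eq, inv_inv]
    exact And.comm
  have hMR : (M : Set G) ⊆ R := fun m hm =>
    ⟨fun u hu => le_normalizer ((mem_normalizer_iff.mp (h.le_normalizer_O hm) u).mp hu),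
      fun u hu => le_normalizer ((mem_normalizer_iff''.mp (h.le_normalizer_O hm) u).mp hu)⟩
  have hsylow : ∀ k ∈ R, ∀ x, k⁻¹ * x * k ∈ O → x ∈ centralizer (Y : Set G) → x ∈ O := by
    intro k hk x hx hxC
    have hle : O.map (MulAut.conj k).toMonoidHom ≤ normalizer (O : Set G) := by
      rintro _ ⟨u, hu, rfl⟩; exact hk.1 u hu
    have hp : IsPGroup p ↥(O.map (MulAut.conj k).toMonoidHom ⊔ O) :=
      IsPGroup.to_sup_of_normal_right' (h.O_isPGroup.map _) h.O_isPGroup hle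
    refine h.le_O (hp.to_le inf_le_left) (le_inf le_sup_right h.O_le_centralizer) inf_le_right
      (mem_inf.mpr ⟨mem_sup_left ⟨k⁻¹ * x * k, hx, ?_⟩, hxC⟩)
    simp [mul_assoc]
  have key : ∀ n : ℕ, ∀ g ∈ R ^ n, ∀ y ∈ Y, g * y * g⁻¹ ∈ O := by
    intro n
    induction n with
    | zero => intro g hg y hy; rw [pow_zero, Set.mem_one] at hg; simpa [hg] using h.Y_le_O hy
    | succ n ih =>
      have hA : ∀ g ∈ R ^ (n + 1), ∀ y ∈ Y, g * y * g⁻¹ ∈ normalizer (Y : Set G) := by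
        intro g hg y hy
        rw [pow_succ'] at hg
        obtain ⟨k, hk, m, hm, rfl⟩ := Set.mem_mul.mp hg
        apply h.le_normalizer_Y
        apply h.normalizer_O_le
        simpa [mul_assoc] using hk.1 _ (ih m hm y hy)
      intro g hg y hy
      have hg' : g⁻¹ ∈ R ^ (n + 1) := by
        rw [← Set.mem_inv, ← inv_pow, hRinv]; exact hg
      obtain ⟨Y', hY'⟩ : ∃ Y', Y' = Y.map (MulAut.conj g).toMonoidHom := ⟨_, rfl⟩
      have h3 : Y' ≤ normalizer (Y : Set G) := by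
        rw [hY']; rintro _ ⟨z, hz, rfl⟩; exact hA g hg z hz
      have h4 : Y ≤ normalizer (Y' : Set G) := fun z hz => mem_normalizer_fintype fun a ha => by
        rw [SetLike.mem_coe, hY'] at ha ⊢
        obtain ⟨b, hb, rfl⟩ := ha
        refine ⟨_, (mem_normalizer_iff.mp (hA g⁻¹ hg' z hz) b).mp hb, ?_⟩
        simp [mul_assoc]
      have h5 : ⁅Y, Y'⁆ = ⊥ := by
        by_contra hne
        exact hasym ⟨g, hY' ▸ hne, hY' ▸ le_inf (commutator_le.mpr fun a ha b hb => by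
          rw [commutatorElement_def, show a * b * a⁻¹ * b⁻¹ = a * (b * a⁻¹ * b⁻¹) by group]
          exact mul_mem ha ((mem_normalizer_iff.mp (h3 hb) _).mp (inv_mem ha)))
          (commutator_le.mpr fun a ha b hb => by
          rw [commutatorElement_def]
          exact mul_mem ((mem_normalizer_iff.mp (h4 ha) b).mp hb) (inv_mem hb))⟩
      rw [pow_succ'] at hg
      obtain ⟨k, hk, m, hm, rfl⟩ := Set.mem_mul.mp hg
      refine hsylow k hk _ (by simpa [mul_assoc] using ih m hm y hy)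
        (mem_centralizer_iff.mpr fun a ha => ?_)
      have h6 := commutator_eq_bot_iff_le_centralizer.mp h5 ha
      exact (mem_centralizer_iff.mp h6 _ (hY' ▸ ⟨y, hy, rfl⟩)).symm
  have hmul : ∀ a ∈ closure R, ∃ n : ℕ, a ∈ R ^ n := by
    intro a ha
    induction ha using closure_induction with
    | mem x hx => exact ⟨1, by rwa [pow_one]⟩
    | one => exact ⟨0, by simp⟩
    | mul x y _ _ hx hy =>
      obtain ⟨a, ha⟩ := hx; obtain ⟨b, hb⟩ := hy
      exact ⟨a + b, pow_add R a b ▸ Set.mul_mem_mul ha hb⟩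
    | inv x _ hx =>
      obtain ⟨a, ha⟩ := hx
      exact ⟨a, by rw [← Set.mem_inv, ← inv_pow, hRinv]; exact ha⟩
  obtain ⟨U, hU⟩ : ∃ U, U = closure {z : G | ∃ k ∈ closure R, ∃ y ∈ Y, z = k * y * k⁻¹} := ⟨_, rfl⟩
  have hUO : U ≤ O := by
    rw [hU, closure_le]
    rintro _ ⟨k, hk, y, hy, rfl⟩
    obtain ⟨n, hn⟩ := hmul k hk
    exact key n k hn y hy
  have hYU : Y ≤ U := fun y hy => hU ▸ subset_closure ⟨1, one_mem _, y, hy, by simp⟩
  have hRU : closure R ≤ normalizer (U : Set G) := fun r hr => mem_normalizer_fintype fun x hx => by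
    have hle : U ≤ U.comap (MulAut.conj r).toMonoidHom := by
      conv_lhs => rw [hU]
      refine (closure_le _).mpr ?_
      rintro _ ⟨k, hk, y, hy, rfl⟩
      exact hU ▸ subset_closure ⟨r * k, mul_mem hr hk, y, hy, by simp [mul_assoc]⟩
    exact hle hx
  have hgR : g ∈ R := ⟨h1, h2⟩
  have hgX : g ∈ X := h.normalizer_le (fun e => h.Y_ne_bot (le_bot_iff.mp (e ▸ hYU)))
    (h.O_isPGroup.to_le hUO) (fun m hm => hRU (subset_closure (hMR hm))) (hRU (subset_closure hgR))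
  refine mem_normalizer_fintype fun u hu => hsylow g hgR _ (by simpa [mul_assoc] using hu) ?_
  refine mem_centralizer_iff.mpr fun y hy => ?_
  have h7 := mem_centralizer_iff.mp (h.O_le_centralizer hu) _
    ((mem_normalizer_iff''.mp (h.le_normalizer_Y hgX) y).mp hy)
  calc y * (g * u * g⁻¹) = g * (g⁻¹ * y * g * u) * g⁻¹ := by group
    _ = g * (u * (g⁻¹ * y * g)) * g⁻¹ := by rw [h7]
    _ = g * u * g⁻¹ * y := by group

theorem weaklyClosed (hasym : ¬ Cfsg.IsSymmetricIn Y) : Cfsg.IsWeaklyClosedSubgroup p O := by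
  refine (wc_iff_commutator h.O_isPGroup).mpr fun g hg => ?_
  refine wc_map_conj_eq_iff.mpr (h.mem_normalizer hasym (fun u hu => ?_) fun u hu => ?_)
  · refine mem_normalizer_fintype fun a ha => ?_
    have hc := (hg.trans inf_le_left) (commutator_mem_commutator ha
      (show g * u * g⁻¹ ∈ O.map (MulAut.conj g).toMonoidHom from ⟨u, hu, rfl⟩))
    rw [commutatorElement_def] at hc
    have h' := mul_mem (inv_mem (show a * (g * u * g⁻¹) * a⁻¹ * (g * u * g⁻¹)⁻¹ ∈ O from hc)) ha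
    simpa [mul_assoc] using h'
  · refine mem_normalizer_fintype fun a ha => ?_
    have hc := (hg.trans inf_le_right) (commutator_mem_commutator hu
      (show g * a * g⁻¹ ∈ O.map (MulAut.conj g).toMonoidHom from ⟨a, ha, rfl⟩))
    obtain ⟨d, hd, e⟩ := hc
    have h' := mul_mem hd ha
    have e' : d = g⁻¹ * ⁅u, g * a * g⁻¹⁆ * g := by rw [← e]; simp [mul_assoc]
    rw [e', commutatorElement_def] at h'
    simpa [mul_assoc] using h'

theorem conjugate_in (hasym : ¬ Cfsg.IsSymmetricIn Y) {x g : G} (hx : x ∈ Y)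
    (hgx : g * x * g⁻¹ ∈ Y) : ∃ m ∈ M, m * x * m⁻¹ = g * x * g⁻¹ := by
  obtain ⟨y, hy⟩ : ∃ y, y = g * x * g⁻¹ := ⟨_, rfl⟩
  rw [← hy] at hgx ⊢
  obtain ⟨C, hC⟩ : ∃ C, C = centralizer ({y} : Set G) := ⟨_, rfl⟩
  have hOC : O ≤ C := hC ▸ h.O_le_centralizer.trans (centralizer_le (Set.singleton_subset_iff.mpr hgx))
  have hgOC : O.map (MulAut.conj g).toMonoidHom ≤ C := by
    rintro _ ⟨u, hu, rfl⟩
    rw [hC, mem_centralizer_singleton_iff]
    have h1 := mem_centralizer_iff.mp (h.O_le_centralizer hu) x hx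
    show g * u * g⁻¹ * y = y * (g * u * g⁻¹)
    rw [hy]
    calc g * u * g⁻¹ * (g * x * g⁻¹) = g * (u * x) * g⁻¹ := by group
      _ = g * (x * u) * g⁻¹ := by rw [h1]
      _ = g * x * g⁻¹ * (g * u * g⁻¹) := by group
  have hwc := h.weaklyClosed hasym
  obtain ⟨P, hP⟩ := (h.O_isPGroup.comap_subtype (K := C)).exists_le_sylow
  obtain ⟨P', hP'⟩ := ((h.O_isPGroup.map (MulAut.conj g).toMonoidHom).comap_subtype (K := C)).exists_le_sylow
  obtain ⟨c, hc⟩ := MulAction.exists_smul_eq ↥C P' P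
  have hcg : (c : G) * g ∈ normalizer (O : Set G) := by
    refine wc_map_conj_eq_iff.mp (wc_eq hwc (P.isPGroup'.map C.subtype)
      (fun u hu => ⟨⟨u, hOC hu⟩, hP hu, rfl⟩) ?_)
    rintro _ ⟨u, hu, rfl⟩
    have h1 : (⟨g * u * g⁻¹, hgOC ⟨u, hu, rfl⟩⟩ : ↥C) ∈ (P' : Subgroup ↥C) := hP' ⟨u, hu, rfl⟩
    have h2 : MulAut.conj c • (⟨g * u * g⁻¹, hgOC ⟨u, hu, rfl⟩⟩ : ↥C) ∈ ((c • P' : Sylow p ↥C) : Subgroup ↥C) := by
      rw [Sylow.coe_subgroup_smul]; exact smul_mem_pointwise_smul _ _ _ h1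
    rw [hc] at h2
    exact ⟨_, h2, by simp [mul_assoc]⟩
  have hX := h.normalizer_O_le hcg
  rw [← SetLike.mem_coe, h.hX, Subgroup.coe_mul_of_left_le_normalizer_right] at hX
  · obtain ⟨m, hm, d, hd, e⟩ := hX
    refine ⟨m, hm, ?_⟩
    have hdx := mem_centralizer_iff.mp hd x hx
    have hcy := mem_centralizer_singleton_iff.mp (hC.le c.2)
    have e1 : m = (c : G) * g * d⁻¹ := by rw [← e]; group
    rw [e1]
    calc (c : G) * g * d⁻¹ * x * ((c : G) * g * d⁻¹)⁻¹ = c * g * (d⁻¹ * (x * d)) * g⁻¹ * (c : G)⁻¹ := by group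
      _ = c * g * (d⁻¹ * (d * x)) * g⁻¹ * (c : G)⁻¹ := by rw [hdx]
      _ = c * y * (c : G)⁻¹ := by rw [hy]; group
      _ = y * c * (c : G)⁻¹ := by rw [hcy]
      _ = y := mul_inv_cancel_right _ _
  · intro m hm
    refine mem_normalizer_fintype fun d hd => mem_centralizer_iff.mpr fun a ha => ?_
    have h1 := mem_centralizer_iff.mp hd _ ((mem_normalizer_iff''.mp
      (h.le_normalizer_Y (h.hX ▸ mem_sup_left hm)) a).mp ha)
    calc a * (m * d * m⁻¹) = m * (m⁻¹ * a * m * d) * m⁻¹ := by group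
      _ = m * (d * (m⁻¹ * a * m)) * m⁻¹ := by rw [h1]
      _ = m * d * m⁻¹ * a := by group

end Setup

end Cfsg.Agent.Invol.FrakMAsym
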