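import Cfsg.Agent.Lib.Invol.CentralFunctorControl

/-!
A conjugacy functor above the centres controlling strong fusion locally controls it globally.
-/

set_option autoImplicit false

open scoped Pointwise

namespace Cfsg.Agent.Invol.CentralControl

open Subgroup
open Cfsg.Agent.Invol.WCProduct
open Cfsg.Agent.Invol.StrongAlperin

universe u

variable {G : Type u} [Group G] [Finite G] {p : ℕ} [hp : Fact p.Prime]

/-- The element is matched by one of the normalizer of the value on `P`. -/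
def Matched (P : Sylow p G) (W : Subgroup G → Subgroup G) (X : Set G) (a : G) : Prop :=
  ∃ n ∈ normalizer ((W (P : Subgroup G) : Subgroup G) : Set G), ∀ x ∈ X, n⁻¹ * x * n = a⁻¹ * x * a

/-- Strong fusion from strong fusion in local subgroups, for one functor. -/
theorem strong_fusion_functor {P : Sylow p G} {W : Subgroup G → Subgroup G}
    (hW : Cfsg.IsConjugacyFunctor p W)
    (hWZ : ∀ H : Subgroup G, IsPGroup p ↥H → H ⊓ centralizer ((H : Subgroup G) : Set G) ≤ W H)
    (hloc : ∀ H, Local P H → ∀ (X : Set G) (a : G), a ∈ normalizer (H : Set G) →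
      X ⊆ (((P : Subgroup G) ⊓ normalizer (H : Set G) : Subgroup G) : Set G) →
      rc a X ⊆ (((P : Subgroup G) ⊓ normalizer (H : Set G) : Subgroup G) : Set G) →
      ∃ m ∈ normalizer ((W ((P : Subgroup G) ⊓ normalizer (H : Set G)) : Subgroup G) : Set G),
        ∀ x ∈ X, m⁻¹ * x * m = a⁻¹ * x * a)
    {X : Set G} {a : G} (hX : X ⊆ (P : Set G)) (ha : rc a X ⊆ (P : Set G)) : Matched P W X a := by
  have hone : ∀ (X : Set G) (c : G), c ∈ centralizer X → Matched P W X c := fun X c hc =>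
    ⟨1, one_mem _, fun x hx => by
      rw [mul_assoc c⁻¹, mem_centralizer_iff.mp hc x hx, inv_mul_cancel_left]; simp⟩
  have htrans : ∀ (X : Set G) (a b : G), Matched P W X a → Matched P W (rc a X) b →
      Matched P W X (a * b) := by
    intro X a b h h'
    obtain ⟨n, hn, he⟩ := h
    obtain ⟨k, hk, hf⟩ := h'
    refine ⟨n * k, mul_mem hn hk, fun x hx => ?_⟩
    calc (n * k)⁻¹ * x * (n * k) = k⁻¹ * (n⁻¹ * x * n) * k := by group
      _ = k⁻¹ * (a⁻¹ * x * a) * k := by rw [he x hx]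
      _ = b⁻¹ * (a⁻¹ * x * a) * b := hf _ ⟨x, hx, rfl⟩
      _ = (a * b)⁻¹ * x * (a * b) := by group
  have hinv : ∀ (X : Set G) (a : G), Matched P W X a → Matched P W (rc a X) a⁻¹ := by
    rintro X a ⟨n, hn, he⟩
    refine ⟨n⁻¹, inv_mem hn, ?_⟩
    rintro _ ⟨x, hx, rfl⟩
    show n⁻¹⁻¹ * (a⁻¹ * x * a) * n⁻¹ = a⁻¹⁻¹ * (a⁻¹ * x * a) * a⁻¹
    rw [show a⁻¹⁻¹ * (a⁻¹ * x * a) * a⁻¹ = x by group, ← he x hx]
    group
  have hNP : ∀ (X : Set G) (y : G), y ∈ normalizer ((P : Subgroup G) : Set G) → Matched P W X y :=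
    fun X y hy => ⟨y, sylow_le_normalizer (P := P) hW P.isPGroup' hy, fun _ _ => rfl⟩
  let Φ : Subgroup G → Prop := fun H => ∀ (X : Set G) (a : G), a ∈ normalizer (H : Set G) →
    X ⊆ (((P : Subgroup G) ⊓ normalizer (H : Set G) : Subgroup G) : Set G) →
    rc a X ⊆ (((P : Subgroup G) ⊓ normalizer (H : Set G) : Subgroup G) : Set G) → Matched P W X a
  have hdec : ∀ (A : Set G) (g : G), A ⊆ (P : Set G) → rc g A ⊆ (P : Set G) →
      (∀ Hi, Good P Hi → A.ncard ≤ Nat.card Hi → Φ Hi) → Matched P W A g := by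
    intro A g hA hg hΦ
    obtain ⟨c, x, y, hc, hx, hy, rfl⟩ := StrongAlperin.dec P hA hg
    rw [mul_assoc]
    refine htrans A c _ (hone A c hc) ?_
    rw [rc_of_centralizer hc]
    refine htrans A x y ?_ (hNP _ y hy)
    refine rel_of_chain (Matched P W) (fun Y _ => hone Y 1 (one_mem _)) htrans hx hA
      fun Hi hHi hcard Y z hz hYH => ?_
    have hle : (Hi : Set G) ⊆ (((P : Subgroup G) ⊓ normalizer (Hi : Set G) : Subgroup G) : Set G) :=
      fun w hw => ⟨hHi.le hw, le_normalizer hw⟩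
    exact hΦ Hi hHi hcard Y z hz (hYH.trans hle) ((rc_subset_of_normalizer hz hYH).trans hle)
  suffices h : ∀ H, Local P H → Φ H from hdec X a hX ha fun Hi hHi _ => h Hi (Local.of_good hHi)
  refine local_induct hW hWZ Φ fun H hH hcase => ?_
  intro X a haN hXT haT
  obtain ⟨m, hm, he⟩ := hloc H hH X a haN hXT haT
  obtain ⟨T, hT⟩ : ∃ T, T = (P : Subgroup G) ⊓ normalizer (H : Set G) := ⟨_, rfl⟩
  rw [← hT] at hcase hXT haT hm
  rcases hcase with hP | ⟨h, hup⟩
  · exact ⟨m, hP ▸ hm, he⟩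
  have hrc : rc m X = rc a X := Set.image_congr he
  obtain ⟨T2, hT2⟩ : ∃ T2, T2 = (P : Subgroup G) ⊓ normalizer ((W T : Subgroup G) : Set G) := ⟨_, rfl⟩
  have him := hup.image
  have hTT2 := hup.le
  have hst := hup.steps
  rw [← hT2] at him hTT2 hst
  have hh : Matched P W (T2 : Set G) h := hdec _ h (hT2 ▸ inf_le_left : T2 ≤ (P : Subgroup G))
    (him.trans (inf_le_left : (P : Subgroup G) ⊓ _ ≤ _))
    fun Hi hHi hc' => hst Hi hHi (by rwa [← SetLike.coe_sort_coe, Nat.card_coe_set_eq])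
  have hmono : ∀ Y : Set G, Y ⊆ (T : Set G) → Matched P W Y h := fun Y hY =>
    let ⟨n, hn, e⟩ := hh
    ⟨n, hn, fun y hy => e y (hTT2 (hY hy))⟩
  have h1 := hmono X hXT
  have h3 := hinv _ _ (hmono (rc m X) (hrc ▸ haT))
  have h2 : Matched P W (rc h X) (h⁻¹ * m * h) := by
    refine hup.phi _ _ ?_ ((rc_mono h (hXT.trans hTT2)).trans him) ?_
    · rw [← map_conj_normalizer]
      exact ⟨m, hm, by simp⟩
    · rw [← rc_mul, show h * (h⁻¹ * m * h) = m * h by group, rc_mul]
      exact (rc_mono h ((hrc.le.trans haT).trans hTT2)).trans him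
  have h4 := htrans _ _ _ (htrans _ _ _ h1 h2) (show Matched P W (rc (h * (h⁻¹ * m * h)) X) h⁻¹ by
    rw [show h * (h⁻¹ * m * h) = m * h by group, rc_mul]; exact h3)
  rw [show h * (h⁻¹ * m * h) * h⁻¹ = m by group] at h4
  obtain ⟨n, hn, e⟩ := h4
  exact ⟨n, hn, fun x hx => (e x hx).trans (he x hx)⟩

end Cfsg.Agent.Invol.CentralControl
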