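import Cfsg.Agent.Lib.Grp.Components
import Cfsg.Agent.Lib.Grp.Coprime
import Cfsg.Agent.Lib.Grp.Frattini

/-!
The commutator of the generalized Fitting subgroup with a `p`-subgroup, when `O_p` is trivial.
-/

set_option autoImplicit false

namespace Cfsg.Agent.Invol.GFitComm

open Subgroup
open scoped commutatorElement
open Cfsg.Agent.Grp

universe u

variable {H : Type u} [Group H] [Finite H] {p : ℕ} [hp : Fact p.Prime]

theorem fitting_coprime (hO : Cfsg.pCore p H = ⊥) :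
    (Nat.card ↥(Cfsg.fittingSubgroup H)).Coprime p := by
  refine (pPrimeCore_coprime (p := p) (G := H)).coprime_dvd_left (Subgroup.card_dvd_of_le ?_)
  rw [fittingSubgroup_eq_iSup_pCore]
  refine iSup_le fun q => ?_
  by_cases hq : (q : ℕ) = p
  · rw [hq, hO]; exact bot_le
  · have := Fact.mk q.2
    obtain ⟨k, hk⟩ := (pCore_isPGroup (p := (q : ℕ)) (G := H)).exists_card_eq
    exact le_pPrimeCore pCore_isNormal (by
      rw [hk]; exact Nat.Coprime.pow_left _ ((Nat.coprime_primes q.2 hp.out).mpr hq))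

theorem conj_commutator (x a b : H) :
    x * ⁅a, b⁆ * x⁻¹ = ⁅x * a * x⁻¹, x * b * x⁻¹⁆ := by
  simp only [commutatorElement_def]; group

theorem commutator_mul (a b c : H) : ⁅a * b, c⁆ = a * ⁅b, c⁆ * a⁻¹ * ⁅a, c⁆ := by
  simp only [commutatorElement_def]; group

/-- The product of the conjugates under `Q` of the image in the abelianization. -/
noncomputable def trace {L Q : Subgroup H} (hQL : Q ≤ normalizer (L : Set H)) :
    ↥L →* Abelianization ↥L :=
  letI := Fintype.ofFinite ↥Q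
  { toFun := fun l => ∏ q : ↥Q, Abelianization.of
      (⟨(q : H) * l * (q : H)⁻¹, (mem_normalizer_iff.mp (hQL q.2) _).mp l.2⟩ : ↥L)
    map_one' := Finset.prod_eq_one fun q _ => by
      simp only [OneMemClass.coe_one, mul_one, mul_inv_cancel]
      exact map_one _
    map_mul' := fun a b => by
      rw [← Finset.prod_mul_distrib]
      refine Finset.prod_congr rfl fun q _ => ?_
      rw [← map_mul]
      congr 1
      apply Subtype.ext
      simp [mul_assoc] }

/-- A `Q`-invariant element generating coprimely is in the derived subgroup when `L = [L, Q]`. -/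
theorem fixed_mem_commutator {L Q : Subgroup H} (hQ : IsPGroup p Q) (hLQ : ⁅L, Q⁆ = L)
    (hQL : Q ≤ normalizer (L : Set H)) {z : H} (hz : z ∈ L) (hzQ : ∀ q ∈ Q, Commute q z) {m : ℕ}
    (hm : m.Coprime p) (hzm : (Abelianization.of (⟨z, hz⟩ : ↥L)) ^ m = 1) :
    Abelianization.of (⟨z, hz⟩ : ↥L) = 1 := by
  let _ : Fintype ↥Q := Fintype.ofFinite ↥Q
  have h0 : ∀ l (hl : l ∈ L), trace hQL ⟨l, hl⟩ = 1 := by
    intro l hl
    have hmem : l ∈ ⁅L, Q⁆ := hLQ.ge hl
    suffices h : ⁅L, Q⁆ ≤ (trace hQL).ker.map L.subtype by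
      obtain ⟨y, hy, e⟩ := h hmem
      exact (show y = (⟨l, hl⟩ : ↥L) from Subtype.ext e) ▸ hy
    refine commutator_le.mpr fun a ha b hb => ?_
    have hc : b * a⁻¹ * b⁻¹ ∈ L := (mem_normalizer_iff.mp (hQL hb) _).mp (inv_mem ha)
    refine ⟨⟨a, ha⟩ * ⟨b * a⁻¹ * b⁻¹, hc⟩, ?_, by simp [commutatorElement_def, mul_assoc]⟩
    rw [SetLike.mem_coe, MonoidHom.mem_ker, map_mul]
    have e : trace hQL ⟨b * a⁻¹ * b⁻¹, hc⟩ = trace hQL (⟨a, ha⟩⁻¹) := by
      refine Fintype.prod_equiv (Equiv.mulRight (⟨b, hb⟩ : ↥Q)) _ _ fun q => ?_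
      congr 1
      apply Subtype.ext
      simp [mul_assoc]
    rw [e, map_inv, mul_inv_cancel]
  have h1 : Abelianization.of (⟨z, hz⟩ : ↥L) ^ Fintype.card ↥Q = 1 := by
    rw [← h0 z hz]
    show _ = ∏ q : ↥Q, _
    rw [Finset.prod_congr rfl (g := fun _ => Abelianization.of (⟨z, hz⟩ : ↥L)) (fun q _ => ?_),
      Finset.prod_const, Finset.card_univ]
    congr 1
    apply Subtype.ext
    show (q : H) * z * (q : H)⁻¹ = z
    rw [(hzQ q q.2).eq, mul_inv_cancel_right]
  obtain ⟨k, hk⟩ := hQ.exists_card_eq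
  rw [← Nat.card_eq_fintype_card, hk] at h1
  exact (pow_eq_one_iff_of_coprime (hm.pow_right k)).mp ⟨hzm, h1⟩

theorem main (hO : Cfsg.pCore p H = ⊥) (Q : Subgroup H) (hQ : IsPGroup p Q) (L : Subgroup H)
    (hL : L = ⁅Cfsg.generalizedFittingSubgroup H, Q⁆) (F : Subgroup H)
    (hF : F ≤ Cfsg.generalizedFittingSubgroup H ∧
      Cfsg.generalizedFittingSubgroup H ≤ normalizer (F : Set H) ∧ Q ≤ centralizer (F : Set H) ∧
      ∀ M : Subgroup H, M ≤ Cfsg.generalizedFittingSubgroup H →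
        Cfsg.generalizedFittingSubgroup H ≤ normalizer (M : Set H) →
        Q ≤ centralizer (M : Set H) → M ≤ F) :
    F = Cfsg.generalizedFittingSubgroup H ⊓ centralizer ((L ⊔ Q : Subgroup H) : Set H) ∧ ⁅L, Q⁆ = L ∧
      L ⊓ F ≤ (frattini ↥L).map L.subtype ∧
      (∀ B : Subgroup H, IsPGroup p B → B ≤ normalizer (Q : Set H) → ⁅L, B⁆ ≤ F → ⁅L, B⁆ = ⊥) ∧
      (Nat.card ↥(centralizer ((F ⊔ L : Subgroup H) : Set H))).Coprime p := by
  obtain ⟨hFX, hFn, hFQ, hFmax⟩ := hF
  obtain ⟨X, hX⟩ : ∃ X, X = Cfsg.generalizedFittingSubgroup H := ⟨_, rfl⟩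
  rw [← hX] at hL hFX hFn hFmax ⊢
  obtain ⟨N, hN⟩ : ∃ N, N = Cfsg.fittingSubgroup H := ⟨_, rfl⟩
  obtain ⟨E, hE⟩ : ∃ E, E = Cfsg.layer H := ⟨_, rfl⟩
  have hXEN : X = E ⊔ N := by rw [hX, hE, hN]; rfl
  have hNn : N.Normal := hN ▸ fittingSubgroup_isNormal
  have hEn : E.Normal := hE ▸ inferInstance
  have hXn : X.Normal := by rw [hXEN]; exact Subgroup.sup_normal E N
  have hNcop : (Nat.card ↥N).Coprime p := hN ▸ fitting_coprime hO
  have hEN : E ≤ centralizer (N : Set H) := hE ▸ hN ▸ layer_le_centralizer_fitting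
  have hdec : ∀ x ∈ X, ∃ e ∈ E, ∃ n ∈ N, e * n = x := fun x hx =>
    mem_sup_of_normal_right.mp (hXEN ▸ hx)
  have hXL : X ≤ normalizer (L : Set H) := hL ▸ left_le_normalizer_commutator Q X
  have hQL : Q ≤ normalizer (L : Set H) := hL ▸ right_le_normalizer_commutator Q X
  have hXnorm : ∀ (S : Subgroup H), S ≤ normalizer (X : Set H) := fun S => by
    rw [normalizer_eq_top]; exact le_top
  have hLX : L ≤ X := hL ▸ commutator_le_left_of_le_normalizer (hXnorm Q)
  have hLXc : ∀ x ∈ X, ∀ q ∈ Q, ⁅x, q⁆ ∈ L := fun x hx q hq =>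
    hL ▸ commutator_mem_commutator hx hq
  -- (A)
  have hFL : ⁅L, F⁆ = ⊥ := by
    rw [hL]
    have h1 : ⁅⁅Q, F⁆, X⁆ = ⊥ := by
      rw [commutator_eq_bot_iff_le_centralizer.mpr hFQ, commutator_bot_left]
    have h2 : ⁅⁅F, X⁆, Q⁆ = ⊥ := by
      refine le_bot_iff.mp ((commutator_mono (commutator_le_left_of_le_normalizer hFn) le_rfl).trans ?_)
      rw [commutator_comm, commutator_eq_bot_iff_le_centralizer.mpr hFQ]
    exact commutator_commutator_eq_bot_of_rotate h1 h2
  have hA : F = X ⊓ centralizer ((L ⊔ Q : Subgroup H) : Set H) := by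
    refine le_antisymm (le_inf hFX ?_) (hFmax _ inf_le_left ?_ ?_)
    · rw [le_centralizer_iff]
      exact sup_le (commutator_eq_bot_iff_le_centralizer.mp hFL) hFQ
    · intro x hx
      refine Subgroup.mem_normalizer_fintype fun c hc => mem_inf.mpr
        ⟨X.mul_mem (X.mul_mem hx (mem_inf.mp hc).1) (X.inv_mem hx), mem_centralizer_iff.mpr fun y hy => ?_⟩
      have hmap : (L ⊔ Q).map (MulAut.conj x⁻¹).toMonoidHom ≤ L ⊔ Q := by
        rw [Subgroup.map_sup]
        refine sup_le ?_ ?_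
        · rintro _ ⟨l, hl, rfl⟩
          exact mem_sup_left ((mem_normalizer_iff.mp (hXL (inv_mem hx)) _).mp hl)
        · rintro _ ⟨q, hq, rfl⟩
          show x⁻¹ * q * x⁻¹⁻¹ ∈ _
          rw [show x⁻¹ * q * x⁻¹⁻¹ = ⁅x⁻¹, q⁆ * q by simp only [commutatorElement_def]; group]
          exact mul_mem (mem_sup_left (hLXc _ (inv_mem hx) q hq)) (mem_sup_right hq)
      have hy' : x⁻¹ * y * x⁻¹⁻¹ ∈ L ⊔ Q := hmap ⟨y, hy, rfl⟩
      have := mem_centralizer_iff.mp (mem_inf.mp hc).2 _ hy'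
      calc y * (x * c * x⁻¹) = x * (x⁻¹ * y * x⁻¹⁻¹ * c) * x⁻¹ := by group
        _ = x * (c * (x⁻¹ * y * x⁻¹⁻¹)) * x⁻¹ := by rw [this]
        _ = x * c * x⁻¹ * y := by group
    · rw [le_centralizer_iff]
      exact inf_le_right.trans (centralizer_le (SetLike.coe_subset_coe.mpr le_sup_right))
  -- (B)
  have hLQ_le : ⁅L, Q⁆ ≤ L := commutator_le_left_of_le_normalizer hQL
  have hLn : L.IsSubnormal :=
    IsSubnormal.step _ X hLX hXn.isSubnormal ((normal_subgroupOf_iff_le_normalizer hLX).mpr hXL)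
  have hL1n : (⁅L, Q⁆).IsSubnormal :=
    IsSubnormal.step _ L hLQ_le hLn
      ((normal_subgroupOf_iff_le_normalizer hLQ_le).mpr (left_le_normalizer_commutator Q L))
  have hKQ0 : ∀ K : Subgroup H, Cfsg.IsComponent K → ⁅⁅K, Q⁆, K⁆ = ⊥ → ⁅K, Q⁆ = ⊥ := by
    intro K hK h
    have h2 : ⁅⁅Q, K⁆, K⁆ = ⊥ := by rwa [commutator_comm Q K]
    have h3 : ⁅⁅K, K⁆, Q⁆ = ⊥ := commutator_commutator_eq_bot_of_rotate h h2
    rwa [IsComponent.perfect hK] at h3
  have hcomp : ∀ K : Subgroup H, Cfsg.IsComponent K → K ≤ ⁅L, Q⁆ ∨ ⁅K, Q⁆ = ⊥ := by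
    intro K hK
    rcases component_le_or_commute hK hL1n with h | h
    · exact Or.inl h
    refine Or.inr (hKQ0 K hK (le_bot_iff.mp ?_))
    rcases component_le_or_commute hK hLn with h' | h'
    · rw [← h, commutator_comm K ⁅L, Q⁆]
      exact commutator_mono (commutator_mono h' le_rfl) le_rfl
    · rw [← h', commutator_comm K L]
      exact commutator_mono (hL ▸ commutator_mono
        ((IsComponent.le_layer hK).trans (hE ▸ hXEN ▸ le_sup_left)) le_rfl) le_rfl
  let S : Subgroup H :=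
    { carrier := {x | x ∈ normalizer ((⁅L, Q⁆ : Subgroup H) : Set H) ∧ ∀ q ∈ Q, ⁅x, q⁆ ∈ ⁅L, Q⁆}
      one_mem' := ⟨one_mem _, fun q _ => by rw [commutatorElement_one_left]; exact one_mem _⟩
      mul_mem' := fun {a b} ha hb => ⟨mul_mem ha.1 hb.1, fun q hq => by
        rw [commutator_mul]
        exact mul_mem ((mem_normalizer_iff.mp ha.1 _).mp (hb.2 q hq)) (ha.2 q hq)⟩
      inv_mem' := fun {a} ha => ⟨inv_mem ha.1, fun q hq => by
        rw [show ⁅a⁻¹, q⁆ = a⁻¹ * ⁅a, q⁆⁻¹ * a⁻¹⁻¹ by simp only [commutatorElement_def]; group]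
        exact (mem_normalizer_iff.mp (inv_mem ha.1) _).mp (inv_mem (ha.2 q hq))⟩ }
  have hES : E ≤ S := by
    rw [hE]
    refine sSup_le fun K hK x hx => ⟨?_, fun q hq => ?_⟩
    · rcases component_le_or_commute hK hL1n with h | h
      · exact le_normalizer (h hx)
      · exact centralizer_le_normalizer _ (commutator_eq_bot_iff_le_centralizer.mp h hx)
    · rcases hcomp K hK with h | h
      · exact commutator_mem_commutator (hLQ_le (h hx)) hq
      · have := commutator_mem_commutator hx hq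
        rw [h, mem_bot] at this
        rw [this]; exact one_mem _
  have hNQL : ⁅N, Q⁆ ≤ L := by
    rw [hL]; exact commutator_mono (hXEN ▸ le_sup_right) le_rfl
  have hQN : Q ≤ normalizer (N : Set H) := by rw [normalizer_eq_top]; exact le_top
  obtain ⟨k, hk⟩ := hQ.exists_card_eq
  have hQNc : (Nat.card ↥Q).Coprime (Nat.card ↥N) := hk ▸ hNcop.symm.pow_left k
  have hQs : Group.IsSolvable ↥Q := by
    have := hQ.isNilpotent
    infer_instance
  have hB : ⁅L, Q⁆ = L := by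
    refine le_antisymm hLQ_le ?_
    conv_lhs => rw [hL]
    refine commutator_le.mpr fun x hx q hq => ?_
    obtain ⟨e, he, n, hn, rfl⟩ := hdec x hx
    rw [commutator_mul]
    refine mul_mem ((mem_normalizer_iff.mp (hES he).1 _).mp ?_) ((hES he).2 q hq)
    have h := commutator_mem_commutator hn hq
    rw [← commutator_commutator_eq Q N hQN hQNc (Or.inl hQs)] at h
    exact commutator_mono hNQL le_rfl h
  -- (C) the derived subgroup together with `N`
  have hcompF : ∀ K : Subgroup H, Cfsg.IsComponent K → K ≤ L ∨ K ≤ F := by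
    intro K hK
    rcases hcomp K hK with h | h
    · exact Or.inl (h.trans hLQ_le)
    refine Or.inr (hFmax K ((IsComponent.le_layer hK).trans (hE ▸ hXEN ▸ le_sup_left)) ?_ ?_)
    · rw [hXEN]
      refine sup_le (hE ▸ sSup_le fun K' hK' => ?_) ?_
      · by_cases e : K' = K
        · exact e ▸ le_normalizer
        · exact (IsComponent.commute hK' hK e).trans (centralizer_le_normalizer _)
      · refine (le_centralizer_iff.mp ((IsComponent.le_layer hK).trans (hE ▸ hEN))).trans ?_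
        exact centralizer_le_normalizer _
    · rw [le_centralizer_iff]
      exact commutator_eq_bot_iff_le_centralizer.mp h
  obtain ⟨L', hL'⟩ : ∃ L', L' = ⁅L, L⁆ := ⟨_, rfl⟩
  have hL'n : ∀ x ∈ normalizer (L : Set H), x ∈ normalizer (L' : Set H) := by
    intro x hx
    refine Subgroup.mem_normalizer_fintype fun y hy => ?_
    have h : L'.map (MulAut.conj x).toMonoidHom ≤ L' := by
      rw [hL', Subgroup.map_commutator]
      exact commutator_mono (by rintro _ ⟨l, hl, rfl⟩; exact (mem_normalizer_iff.mp hx _).mp hl)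
        (by rintro _ ⟨l, hl, rfl⟩; exact (mem_normalizer_iff.mp hx _).mp hl)
    exact h ⟨y, hy, rfl⟩
  let S' : Subgroup H :=
    { carrier := {x | x ∈ normalizer (L' : Set H) ∧ ∀ q ∈ Q, ⁅x, q⁆ ∈ L'}
      one_mem' := ⟨one_mem _, fun q _ => by rw [commutatorElement_one_left]; exact one_mem _⟩
      mul_mem' := fun {a b} ha hb => ⟨mul_mem ha.1 hb.1, fun q hq => by
        rw [commutator_mul]
        exact mul_mem ((mem_normalizer_iff.mp ha.1 _).mp (hb.2 q hq)) (ha.2 q hq)⟩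
      inv_mem' := fun {a} ha => ⟨inv_mem ha.1, fun q hq => by
        rw [show ⁅a⁻¹, q⁆ = a⁻¹ * ⁅a, q⁆⁻¹ * a⁻¹⁻¹ by simp only [commutatorElement_def]; group]
        exact (mem_normalizer_iff.mp (inv_mem ha.1) _).mp (inv_mem (ha.2 q hq))⟩ }
  have hES' : E ≤ S' := by
    rw [hE]
    refine sSup_le fun K hK x hx =>
      ⟨hL'n x (hXL ((hE ▸ hXEN ▸ le_sup_left : Cfsg.layer H ≤ X) (IsComponent.le_layer hK hx))), fun q hq => ?_⟩
    rcases hcompF K hK with h | h
    · have hKL' : K ≤ L' := hL' ▸ (IsComponent.perfect hK).ge.trans (commutator_mono h h)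
      rw [commutatorElement_def, mul_assoc, mul_assoc]
      refine mul_mem (hKL' hx) ?_
      rw [← mul_assoc]
      exact (mem_normalizer_iff.mp (hL'n q (hQL hq)) _).mp (inv_mem (hKL' hx))
    · rw [commutatorElement_eq_one_iff_mul_comm.mpr
        (mem_centralizer_iff.mp (hFQ hq) x (h hx))]
      exact one_mem _
  have hgen : ∀ e ∈ E, ∀ n ∈ N, ∀ q ∈ Q, ⁅e * n, q⁆ = ⁅n, q⁆ * ⁅e, q⁆ ∧ ⁅n, q⁆ ∈ N := by
    intro e he n hn q hq
    have h : ⁅n, q⁆ ∈ N := by
      rw [commutatorElement_def, mul_assoc, mul_assoc]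
      refine mul_mem hn ?_
      rw [← mul_assoc]
      exact hNn.conj_mem _ (inv_mem hn) q
    refine ⟨?_, h⟩
    rw [commutator_mul, ← mem_centralizer_iff.mp (hEN he) _ h, mul_inv_cancel_right]
  have hLdec : ∀ l (hl : l ∈ L), Abelianization.of (⟨l, hl⟩ : ↥L) ^ Nat.card ↥N = 1 := by
    let R : Subgroup ↥L := ((powMonoidHom (Nat.card ↥N)).comp Abelianization.of).ker
    suffices h : L ≤ R.map L.subtype by
      intro l hl
      obtain ⟨y, hy, e⟩ := h hl
      exact (show y = (⟨l, hl⟩ : ↥L) from Subtype.ext e) ▸ hy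
    conv_lhs => rw [hL]
    refine commutator_le.mpr fun x hx q hq => ?_
    obtain ⟨e, he, n, hn, rfl⟩ := hdec x hx
    obtain ⟨he', hnN⟩ := hgen e he n hn q hq
    rw [he']
    refine mul_mem ⟨⟨_, hNQL (commutator_mem_commutator hn hq)⟩, ?_, rfl⟩
      ⟨⟨_, hLXc e (hXEN ▸ mem_sup_left he) q hq⟩, ?_, rfl⟩
    · show Abelianization.of _ ^ Nat.card ↥N = 1
      rw [← map_pow]
      convert map_one (Abelianization.of : ↥L →* _) using 2
      apply Subtype.ext
      rw [SubmonoidClass.coe_pow, OneMemClass.coe_one]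
      exact congrArg Subtype.val (pow_card_eq_one' (x := (⟨_, hnN⟩ : ↥N)))
    · show Abelianization.of _ ^ Nat.card ↥N = 1
      have h := (hES' he).2 q hq
      rw [hL', ← L.map_subtype_commutator] at h
      obtain ⟨y, hy, ey⟩ := h
      rw [show (⟨⁅e, q⁆, hLXc e (hXEN ▸ mem_sup_left he) q hq⟩ : ↥L) = y from Subtype.ext ey.symm,
        MonoidHom.mem_ker.mp ((Abelianization.ker_of ↥L).ge hy), one_pow]
  have hZc : ∀ z ∈ L ⊓ F, (∀ l ∈ L, Commute l z) ∧ ∀ q ∈ Q, Commute q z := fun z hz =>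
    ⟨fun l hl => (mem_centralizer_iff.mp (commutator_eq_bot_iff_le_centralizer.mp hFL hl) z
      (mem_inf.mp hz).2).symm,
      fun q hq => (mem_centralizer_iff.mp (hFQ hq) z (mem_inf.mp hz).2).symm⟩
  -- (D)
  have hD : L ⊓ F ≤ (frattini ↥L).map L.subtype := by
    intro z hz
    refine ⟨⟨z, (mem_inf.mp hz).1⟩, ?_, rfl⟩
    have hc := fixed_mem_commutator hQ hB hQL (mem_inf.mp hz).1 (hZc z hz).2 hNcop (hLdec z _)
    rw [← MonoidHom.mem_ker, Abelianization.ker_of] at hc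
    rw [SetLike.mem_coe, frattini, Order.radical, Subgroup.mem_iInf]
    intro M
    rw [Subgroup.mem_iInf]
    intro (hM : IsCoatom M)
    by_contra hzM
    set z' : ↥L := ⟨z, (mem_inf.mp hz).1⟩
    have hcz : ∀ y : ↥L, Commute y z' := fun y => Subtype.ext ((hZc z hz).1 y y.2).eq
    haveI : (zpowers z').Normal := ⟨fun a ha g => by
      obtain ⟨i, rfl⟩ := mem_zpowers_iff.mp ha
      rw [((hcz g).zpow_right i).eq, mul_inv_cancel_right]
      exact ⟨i, rfl⟩⟩
    have htop : M ⊔ zpowers z' = ⊤ := hM.2 _ (lt_of_le_of_ne le_sup_left fun e =>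
      hzM (by rw [e]; exact mem_sup_right (mem_zpowers z')))
    have hall : ∀ x : ↥L, ∃ m ∈ M, ∃ i : ℤ, m * z' ^ i = x := by
      intro x
      obtain ⟨m, hm, w, hw, e⟩ := mem_sup_of_normal_right.mp (htop.ge (mem_top x))
      obtain ⟨i, rfl⟩ := mem_zpowers_iff.mp hw
      exact ⟨m, hm, i, e⟩
    refine hzM ((?_ : commutator ↥L ≤ M) hc)
    rw [commutator_def]
    refine commutator_le.mpr fun x _ y _ => ?_
    obtain ⟨m, hm, i, rfl⟩ := hall x
    obtain ⟨m', hm', j, rfl⟩ := hall y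
    have e : ⁅m * z' ^ i, m' * z' ^ j⁆ = ⁅m, m'⁆ := by
      have c1 : ∀ a : ↥L, ⁅z' ^ i, a⁆ = 1 := fun a =>
        commutatorElement_eq_one_iff_mul_comm.mpr ((hcz a).zpow_right i).symm.eq
      have c2 : ∀ a : ↥L, ⁅a, z' ^ j⁆ = 1 := fun a =>
        commutatorElement_eq_one_iff_mul_comm.mpr ((hcz a).zpow_right j).eq
      rw [show ⁅m * z' ^ i, m' * z' ^ j⁆ = m * ⁅z' ^ i, m' * z' ^ j⁆ * m⁻¹ * (⁅m, m'⁆ * (m' * ⁅m, z' ^ j⁆ * m'⁻¹))
        by simp only [commutatorElement_def]; group, c1, c2]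
      group
    rw [e, commutatorElement_def]
    exact mul_mem (mul_mem (mul_mem hm hm') (inv_mem hm)) (inv_mem hm')
  -- (E)
  have hom_dies : ∀ φ : H → H, (∀ l ∈ L, φ l ∈ L ⊓ F) →
      (∀ a ∈ L, ∀ c ∈ L, φ (a * c) = φ a * φ c) → ∀ l ∈ L, φ l ^ Nat.card ↥N = 1 := by
    intro φ h1 h2 l hl
    let f : ↥L →* ↥(L ⊓ F) := MonoidHom.mk' (fun x => ⟨φ x, h1 x x.2⟩)
      fun a b => Subtype.ext (h2 a a.2 b b.2)
    have hker : commutator ↥L ≤ f.ker := by
      rw [commutator_def]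
      refine commutator_le.mpr fun a _ b _ => ?_
      rw [MonoidHom.mem_ker, map_commutatorElement, commutatorElement_eq_one_iff_mul_comm]
      exact Subtype.ext ((hZc _ (f b).2).1 _ (mem_inf.mp (f a).2).1).eq
    have h3 := hLdec l hl
    rw [← map_pow, ← MonoidHom.mem_ker, Abelianization.ker_of] at h3
    have h4 := hker h3
    rw [MonoidHom.mem_ker, map_pow] at h4
    exact congrArg Subtype.val h4
  have hE' : ∀ B : Subgroup H, IsPGroup p B → B ≤ normalizer (Q : Set H) → ⁅L, B⁆ ≤ F →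
      ⁅L, B⁆ = ⊥ := by
    intro B _ hBQ hLB
    have hBL : B ≤ normalizer (L : Set H) := by
      intro b hb
      refine Subgroup.mem_normalizer_fintype fun y hy => ?_
      have h : L.map (MulAut.conj b).toMonoidHom ≤ L := by
        rw [hL, Subgroup.map_commutator]
        exact commutator_mono (by rintro _ ⟨x, hx, rfl⟩; exact hXn.conj_mem x hx b)
          (by rintro _ ⟨q, hq, rfl⟩; exact (mem_normalizer_iff.mp (hBQ hb) _).mp hq)
      exact h ⟨y, hy, rfl⟩
    have hLBZ : ∀ l ∈ L, ∀ b ∈ B, ⁅l, b⁆ ∈ L ⊓ F := fun l hl b hb =>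
      mem_inf.mpr ⟨commutator_le_left_of_le_normalizer hBL (commutator_mem_commutator hl hb),
        hLB (commutator_mem_commutator hl hb)⟩
    rw [← le_bot_iff, commutator_le]
    intro l hl b hb
    rw [mem_bot]
    have hmul : ∀ {c : H}, (∀ l ∈ L, ⁅l, c⁆ ∈ L ⊓ F) → ∀ a ∈ L, ∀ a' ∈ L,
        ⁅a * a', c⁆ = ⁅a, c⁆ * ⁅a', c⁆ := by
      intro c hc a ha a' ha'
      rw [commutator_mul, ((hZc _ (hc a' ha')).1 a ha).eq, mul_inv_cancel_right,
        ((hZc _ (hc a' ha')).1 _ (mem_inf.mp (hc a ha)).1).eq]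
    -- the action of `b` commutes with conjugation by `Q` modulo the derived subgroup
    have hinv : ∀ q ∈ Q, ∀ x ∈ L, ⁅q * x * q⁻¹, b⁆ = ⁅x, b⁆ := by
      intro q hq x hx
      obtain ⟨q', hq'⟩ : ∃ q', q' = b⁻¹ * q⁻¹ * b * q := ⟨_, rfl⟩
      have hq'Q : q' ∈ Q := by
        rw [hq']
        refine mul_mem ?_ hq
        simpa using (mem_normalizer_iff.mp (hBQ (inv_mem hb)) _).mp (inv_mem hq)
      have hZq : ∀ w ∈ L ⊓ F, q * w * q⁻¹ = w := fun w hw => by
        rw [((hZc w hw).2 q hq).eq, mul_inv_cancel_right]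
      have h1 : ∀ y ∈ L, ⁅q * y * q⁻¹, b⁆ = ⁅y, b * q'⁆ := by
        intro y hy
        have e : ⁅y, b * q'⁆ = q⁻¹ * ⁅q * y * q⁻¹, b⁆ * q := by
          rw [hq']; simp only [commutatorElement_def]; group
        rw [e]
        have hmem := hLBZ _ ((mem_normalizer_iff.mp (hQL hq) _).mp hy) b hb
        conv_rhs => rw [mul_assoc, ← ((hZc _ hmem).2 q hq).eq, inv_mul_cancel_left]
      have hpsi : ∀ y ∈ L, ⁅y, q'⁆ ∈ L ⊓ F := by
        intro y hy
        have e : ⁅y, q'⁆ = b⁻¹ * (⁅y, b⁆⁻¹ * ⁅y, b * q'⁆) * b := by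
          simp only [commutatorElement_def]; group
        rw [e, ← h1 y hy]
        have hm := mul_mem (inv_mem (hLBZ y hy b hb))
          (hLBZ _ ((mem_normalizer_iff.mp (hQL hq) _).mp hy) b hb)
        refine mem_inf.mpr ⟨?_, ?_⟩
        · simpa using (mem_normalizer_iff.mp (hBL (inv_mem hb)) _).mp (mem_inf.mp hm).1
        · rw [hA]
          refine mem_inf.mpr ⟨by simpa using hXn.conj_mem _ (hFX (mem_inf.mp hm).2) b⁻¹,
            mem_centralizer_iff.mpr fun z hz => ?_⟩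
          have hm2 := hA ▸ (mem_inf.mp hm).2
          have hy' : b * z * b⁻¹ ∈ L ⊔ Q := by
            have hmap : (L ⊔ Q).map (MulAut.conj b).toMonoidHom ≤ L ⊔ Q := by
              rw [Subgroup.map_sup]
              refine sup_le_sup ?_ ?_
              · rintro _ ⟨w, hw, rfl⟩; exact (mem_normalizer_iff.mp (hBL hb) _).mp hw
              · rintro _ ⟨w, hw, rfl⟩; exact (mem_normalizer_iff.mp (hBQ hb) _).mp hw
            exact hmap ⟨z, hz, rfl⟩
          have hc := mem_centralizer_iff.mp (mem_inf.mp hm2).2 _ hy'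
          generalize ⁅y, b⁆⁻¹ * ⁅q * y * q⁻¹, b⁆ = w at hc ⊢
          calc z * (b⁻¹ * w * b) = b⁻¹ * (b * z * b⁻¹ * w) * b := by group
            _ = b⁻¹ * (w * (b * z * b⁻¹)) * b := by rw [hc]
            _ = b⁻¹ * w * b * z := by group
      have hpow : ⁅x, q'⁆ ^ Nat.card ↥Q = 1 := by
        have h : ∀ m : ℕ, ⁅x, q' ^ m⁆ = ⁅x, q'⁆ ^ m := by
          intro m
          induction m with
          | zero => simp
          | succ m ih =>
            rw [pow_succ, show ⁅x, q' ^ m * q'⁆ = ⁅x, q' ^ m⁆ * (q' ^ m * ⁅x, q'⁆ * (q' ^ m)⁻¹) by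
              simp only [commutatorElement_def]; group,
              ((hZc _ (hpsi x hx)).2 _ (pow_mem hq'Q m)).eq, mul_inv_cancel_right, ih, ← pow_succ]
        rw [← h, show q' ^ Nat.card ↥Q = 1 from
          congrArg Subtype.val (pow_card_eq_one' (x := (⟨q', hq'Q⟩ : ↥Q))), commutatorElement_one_right]
      have hpow' := hom_dies (fun y => ⁅y, q'⁆) hpsi (fun a ha c hc => hmul hpsi a ha c hc) x hx
      have hone : ⁅x, q'⁆ = 1 := (pow_eq_one_iff_of_coprime hQNc).mp ⟨hpow, hpow'⟩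
      rw [h1 x hx, show ⁅x, b * q'⁆ = ⁅x, b⁆ * (b * ⁅x, q'⁆ * b⁻¹) by
        simp only [commutatorElement_def]; group, hone]
      group
    let f : ↥L →* ↥(L ⊓ F) := MonoidHom.mk' (fun x => ⟨⁅(x : H), b⁆, hLBZ x x.2 b hb⟩)
      fun a c => Subtype.ext (hmul (fun y hy => hLBZ y hy b hb) a a.2 c c.2)
    suffices h : L ≤ f.ker.map L.subtype by
      obtain ⟨y, hy, e⟩ := h hl
      have := congrArg Subtype.val hy
      change ⁅(y : H), b⁆ = 1 at this
      exact (show (y : H) = l from e) ▸ this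
    conv_lhs => rw [← hB]
    refine commutator_le.mpr fun a ha q hq => ?_
    have hc : q * a⁻¹ * q⁻¹ ∈ L := (mem_normalizer_iff.mp (hQL hq) _).mp (inv_mem ha)
    refine ⟨⟨a, ha⟩ * ⟨q * a⁻¹ * q⁻¹, hc⟩, ?_, by simp [commutatorElement_def, mul_assoc]⟩
    rw [SetLike.mem_coe, MonoidHom.mem_ker, map_mul]
    have e : f ⟨q * a⁻¹ * q⁻¹, hc⟩ = f (⟨a, ha⟩⁻¹) := Subtype.ext (hinv q hq a⁻¹ (inv_mem ha))
    rw [e, map_inv, mul_inv_cancel]
  refine ⟨hA, hB, hD, hE', ?_⟩
  -- (F)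
  rw [Nat.coprime_comm, hp.out.coprime_iff_not_dvd]
  intro hdvd
  obtain ⟨⟨x, hx⟩, hord⟩ := exists_prime_orderOf_dvd_card' (G := ↥(centralizer ((F ⊔ L : Subgroup H) : Set H))) p hdvd
  rw [orderOf_mk] at hord
  have hxF : F ≤ centralizer (zpowers x : Set H) ∧ L ≤ centralizer (zpowers x : Set H) := by
    rw [← sup_le_iff, le_centralizer_iff, zpowers_le]
    exact hx
  have hxE : E ≤ centralizer (zpowers x : Set H) := by
    rw [hE]
    refine sSup_le fun K hK => ?_
    rcases hcompF K hK with h | h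
    · exact h.trans hxF.2
    · exact h.trans hxF.1
  obtain ⟨C, hC⟩ : ∃ C, C = N ⊓ centralizer ((⁅N, Q⁆ : Subgroup H) : Set H) := ⟨_, rfl⟩
  have hQC : Q ≤ normalizer (C : Set H) := by
    intro q hq
    rw [hC]
    refine Subgroup.mem_normalizer_fintype fun c hc => mem_inf.mpr
      ⟨hNn.conj_mem c (mem_inf.mp hc).1 q, mem_centralizer_iff.mpr fun y hy => ?_⟩
    have hy' : q⁻¹ * y * q ∈ ⁅N, Q⁆ := by
      simpa using (mem_normalizer_iff.mp (right_le_normalizer_commutator Q N (inv_mem hq)) _).mp hy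
    have := mem_centralizer_iff.mp (mem_inf.mp hc).2 _ hy'
    calc y * (q * c * q⁻¹) = q * (q⁻¹ * y * q * c) * q⁻¹ := by group
      _ = q * (c * (q⁻¹ * y * q)) * q⁻¹ := by rw [this]
      _ = q * c * q⁻¹ * y := by group
  have hCN : C ≤ N := hC ▸ inf_le_left
  have hxC : C ≤ centralizer (zpowers x : Set H) := by
    have h := commutator_sup_fixed Q C hQC (hQNc.coprime_dvd_right (card_dvd_of_le hCN)) (Or.inl hQs)
    rw [← h]
    refine sup_le ?_ ((?_ : _ ≤ F).trans hxF.1)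
    · exact ((commutator_mono hCN le_rfl).trans hNQL).trans hxF.2
    rintro c hc
    obtain ⟨hc1, hc2⟩ := mem_inf.mp hc
    rw [hA]
    refine mem_inf.mpr ⟨hXEN ▸ mem_sup_right (hCN hc1), ?_⟩
    have hcL : L ≤ centralizer (zpowers c : Set H) := by
      conv_lhs => rw [hL]
      refine commutator_le.mpr fun y hy q hq => ?_
      obtain ⟨e, he, n, hn, rfl⟩ := hdec y hy
      rw [(hgen e he n hn q hq).1]
      refine mul_mem ?_ ?_
      · have hcD : zpowers c ≤ centralizer ((⁅N, Q⁆ : Subgroup H) : Set H) := by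
          rw [zpowers_le]; exact (mem_inf.mp (hC ▸ hc1)).2
        exact le_centralizer_iff.mp hcD (commutator_mem_commutator hn hq)
      · have hEc : E ≤ centralizer (zpowers c : Set H) := by
          rw [le_centralizer_iff, zpowers_le]
          exact le_centralizer_iff.mp hEN (hCN hc1)
        refine hEc ?_
        rw [commutatorElement_def, mul_assoc, mul_assoc]
        refine mul_mem he ?_
        rw [← mul_assoc]
        exact hEn.conj_mem _ (inv_mem he) q
    have hcQ : Q ≤ centralizer (zpowers c : Set H) := by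
      rw [le_centralizer_iff, zpowers_le]; exact hc2
    exact le_centralizer_iff.mp (sup_le hcL hcQ) (mem_zpowers c)
  have hxN : N ≤ centralizer (zpowers x : Set H) := by
    rw [le_centralizer_iff]
    have hPN : zpowers x ≤ normalizer (N : Set H) := by rw [normalizer_eq_top]; exact le_top
    refine le_centralizer_of_series (zpowers x) N C hPN ?_ (Or.inl inferInstance) ?_
      (commutator_eq_bot_iff_le_centralizer.mpr hxC)
    · rw [Nat.card_zpowers, hord]; exact hNcop.symm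
    refine commutator_le.mpr fun n hn a ha => ?_
    rw [hC]
    refine mem_inf.mpr ⟨commutator_le_left_of_le_normalizer hPN (commutator_mem_commutator hn ha),
      mem_centralizer_iff.mpr fun y hy => ?_⟩
    have hD : ∀ y ∈ ⁅N, Q⁆, Commute a y := fun y hy =>
      mem_centralizer_iff.mp (hxF.2 (hNQL hy)) a ha
    have hy' : n⁻¹ * y * n ∈ ⁅N, Q⁆ := by
      simpa using (mem_normalizer_iff.mp (left_le_normalizer_commutator Q N (inv_mem hn)) _).mp hy
    have c1 : a⁻¹ * y * a = y := by rw [((hD y hy).inv_left).eq, inv_mul_cancel_right]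
    have c2 : a * (n⁻¹ * y * n) * a⁻¹ = n⁻¹ * y * n := by rw [(hD _ hy').eq, mul_inv_cancel_right]
    calc y * ⁅n, a⁆ = ⁅n, a⁆ * (a * n * (a⁻¹ * (n⁻¹ * y * n) * a) * n⁻¹ * a⁻¹) := by
          simp only [commutatorElement_def]; group
      _ = ⁅n, a⁆ * y := by
          rw [((hD _ hy').inv_left).eq, inv_mul_cancel_right,
            show a * n * (n⁻¹ * y * n) * n⁻¹ * a⁻¹ = a * y * a⁻¹ by group, (hD y hy).eq,
            mul_inv_cancel_right]
  have hxX : x ∈ centralizer (Cfsg.generalizedFittingSubgroup H : Set H) := by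
    rw [← hX, hXEN]
    exact le_centralizer_iff.mp (sup_le hxE hxN) (mem_zpowers x)
  have hxN' : x ∈ N := hN ▸ centralizer_gfitting_le_fitting hxX
  have h1 : p ∣ Nat.card ↥N := by
    rw [← hord]; exact Subgroup.orderOf_dvd_natCard N hxN'
  exact (hp.out.coprime_iff_not_dvd.mp hNcop.symm) h1

end Cfsg.Agent.Invol.GFitComm
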