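import Mathlib
import Cfsg.Agent.Lib.Invol.Transfer2
import Cfsg.Agent.Lib.Grp.Frattini

/-!
# Sylow 2-subgroups inside `GL₃` of odd characteristic
-/

set_option autoImplicit false

namespace Cfsg.Agent.Invol.GLThree

open Subgroup
open scoped commutatorElement

section diag

variable {F V E : Type*} [Field F] [AddCommGroup V] [Module F V] [Group E]

/-- Commuting involutive maps have a spanning family of joint eigenvectors. -/
theorem joint_span (h2 : (2 : F) ≠ 0) (L : E →* Module.End F V) (hE : ∀ e : E, e * e = 1) (T : Finset E) :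
    Submodule.span F {v : V | ∀ e ∈ T, L e v = v ∨ L e v = -v} = ⊤ := by
  classical
  induction T using Finset.induction_on with
  | empty => simp
  | @insert a T ha ih =>
    rw [eq_top_iff, ← ih, Submodule.span_le]
    intro v hv
    have hcomm : ∀ x y : E, ∀ w : V, L x (L y w) = L y (L x w) := fun x y w => by
      have hxy : x * y = y * x := by
        have hi : ∀ z : E, z⁻¹ = z := fun z => inv_eq_of_mul_eq_one_right (hE z)
        calc x * y = (x * y)⁻¹ := (hi _).symm
          _ = y * x := by rw [mul_inv_rev, hi, hi]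
      rw [← Module.End.mul_apply, ← map_mul, hxy, map_mul, Module.End.mul_apply]
    have haa : L a (L a v) = v := by rw [← Module.End.mul_apply, ← map_mul, hE, map_one, Module.End.one_apply]
    have h1 : v + L a v ∈ {v : V | ∀ e ∈ insert a T, L e v = v ∨ L e v = -v} := by
      intro e he
      rcases Finset.mem_insert.mp he with rfl | he
      · left; rw [map_add, haa, add_comm]
      · rcases hv e he with h | h
        · left; rw [map_add, hcomm, h]
        · right; rw [map_add, hcomm, h, map_neg]; abel
    have h3 : v - L a v ∈ {v : V | ∀ e ∈ insert a T, L e v = v ∨ L e v = -v} := by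
      intro e he
      rcases Finset.mem_insert.mp he with rfl | he
      · right; rw [map_sub, haa, neg_sub]
      · rcases hv e he with h | h
        · left; rw [map_sub, hcomm, h]
        · right; rw [map_sub, hcomm, h, map_neg]; abel
    have : v = (2 : F)⁻¹ • ((v + L a v) + (v - L a v)) := by
      rw [show (v + L a v) + (v - L a v) = (2 : F) • v by rw [two_smul]; abel, inv_smul_smul₀ h2]
    rw [SetLike.mem_coe, this]
    exact Submodule.smul_mem _ _ (add_mem (Submodule.subset_span h1) (Submodule.subset_span h3))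

/-- An elementary abelian group of order eight acting faithfully in dimension three contains every
sign pattern in a suitable basis. -/
theorem exists_signs [Finite E] (h2 : (2 : F) ≠ 0) (hfr : Module.finrank F V = 3) (L : E →* Module.End F V)
    (hL : Function.Injective L) (hE : ∀ e : E, e * e = 1) (h8 : Nat.card E = 8) :
    ∃ b : Module.Basis (Fin 3) F V, ∀ s : Fin 3 → Bool, ∃ e : E,
      ∀ i, L e (b i) = (if s i then (1 : F) else -1) • b i := by
  classical
  haveI : Module.Finite F V := Module.finite_of_finrank_eq_succ (n := 2) hfr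
  cases nonempty_fintype E
  set J := {v : V | ∀ e ∈ (Finset.univ : Finset E), L e v = v ∨ L e v = -v} with hJ
  have hspan : ⊤ ≤ Submodule.span F J := (joint_span h2 L hE Finset.univ).ge
  let b₀ := Module.Basis.ofSpan hspan
  haveI : Fintype ((linearIndepOn_empty F (id : V → V)).extend (Set.empty_subset J)) :=
    FiniteDimensional.fintypeBasisIndex b₀
  let b : Module.Basis (Fin 3) F V := b₀.reindex (Fintype.equivFinOfCardEq
    (by rw [← Module.finrank_eq_card_basis b₀, hfr]))
  have hb : ∀ i (e : E), L e (b i) = b i ∨ L e (b i) = -b i := by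
    intro i e
    have : b i ∈ J := by
      rw [Module.Basis.reindex_apply]
      exact Module.Basis.ofSpan_subset hspan ⟨_, rfl⟩
    exact this e (Finset.mem_univ _)
  let σ : E → (Fin 3 → Bool) := fun e i => decide (L e (b i) = b i)
  have hσ : ∀ e i, L e (b i) = (if σ e i then (1 : F) else -1) • b i := by
    intro e i
    by_cases h : L e (b i) = b i
    · simp [σ, h]
    · simp [σ, h, (hb i e).resolve_left h]
  have hinj : Function.Injective σ := by
    intro e e' h
    exact hL (b.ext fun i => by rw [hσ e i, hσ e' i, h])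
  have hbij : Function.Bijective σ := by
    refine (Fintype.bijective_iff_injective_and_card σ).mpr ⟨hinj, ?_⟩
    rw [← Nat.card_eq_fintype_card, h8]; rfl
  refine ⟨b, fun s => ?_⟩
  obtain ⟨e, rfl⟩ := hbij.surjective s
  exact ⟨e, hσ e⟩

/-- Maps commuting with all sign patterns commute with each other. -/
theorem commute_of_signs (h2 : (2 : F) ≠ 0) {b : Module.Basis (Fin 3) F V} {S : Set (Module.End F V)}
    (hS : ∀ s : Fin 3 → Bool, ∃ e ∈ S, ∀ i, e (b i) = (if s i then (1 : F) else -1) • b i)
    {x y : Module.End F V} (hx : ∀ e ∈ S, x * e = e * x) (hy : ∀ e ∈ S, y * e = e * y) : x * y = y * x := by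
  classical
  have key : ∀ {x : Module.End F V}, (∀ e ∈ S, x * e = e * x) → ∀ i, x (b i) = b.repr (x (b i)) i • b i := by
    intro x hx i
    obtain ⟨e, heS, he⟩ := hS (fun j => !decide (j = i))
    have hcoord : ∀ j w, b.repr (e w) j = (if j = i then -1 else 1 : F) * b.repr w j := by
      intro j w
      have : (b.coord j).comp e = (if j = i then -1 else 1 : F) • b.coord j := by
        refine b.ext fun k => ?_
        simp only [LinearMap.comp_apply, he k, LinearMap.smul_apply, Module.Basis.coord_apply, map_smul,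
          Module.Basis.repr_self]
        by_cases hk : k = j
        · subst hk; by_cases hki : k = i <;> simp [hki]
        · simp [Finsupp.single_eq_of_ne (Ne.symm hk)]
      exact LinearMap.congr_fun this w
    have h1 : e (x (b i)) = -x (b i) := by
      rw [← Module.End.mul_apply, ← hx e heS, Module.End.mul_apply, he i]
      simp
    apply b.ext_elem
    intro j
    by_cases hj : j = i
    · subst hj; simp
    · have h3 := hcoord j (x (b i))
      rw [h1, map_neg, Finsupp.neg_apply, if_neg hj, one_mul] at h3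
      have h4 : b.repr (x (b i)) j = 0 := by
        have : (2 : F) * b.repr (x (b i)) j = 0 := by linear_combination -h3
        exact (mul_eq_zero.mp this).resolve_left h2
      simp [h4, Finsupp.single_eq_of_ne hj]
  refine b.ext fun i => ?_
  obtain ⟨c, hc⟩ : ∃ c, x (b i) = c • b i := ⟨_, key hx i⟩
  obtain ⟨d, hd⟩ : ∃ d, y (b i) = d • b i := ⟨_, key hy i⟩
  rw [Module.End.mul_apply, Module.End.mul_apply, hd, map_smul, hc, map_smul, hd, smul_smul, smul_smul, mul_comm]

end diag

variable {G : Type*} [Group G] [Finite G] {F : Type*} [Field F] [Fintype F]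

theorem main (hG : ∀ H : Subgroup G, H.index ≠ 2) (X : Sylow 2 G) (hF : Odd (Fintype.card F))
    (f : ↥(X : Subgroup G) →* GL (Fin 3) F) (hf : Function.Injective f)
    (E : Subgroup G) (hE : E ≤ (X : Subgroup G)) (hEexp : ∀ e ∈ E, e * e = 1)
    (hE8 : Nat.card E = 8) : IsMulCommutative (X : Subgroup G) := by
  classical
  by_contra hnab
  have h2 : (2 : F) ≠ 0 := by
    refine Ring.two_ne_zero fun hc => ?_
    exact absurd (FiniteField.even_card_iff_char_two.mp hc) (by rw [Nat.odd_iff] at hF; omega)
  have hne : (-1 : F) ≠ 1 := fun h => h2 (by linear_combination -h)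
  let M : ↥(X : Subgroup G) →* Matrix (Fin 3) (Fin 3) F :=
    { toFun := fun x => ((f x : GL (Fin 3) F) : Matrix (Fin 3) (Fin 3) F)
      map_one' := by simp
      map_mul' := fun x y => by simp }
  let L : ↥(X : Subgroup G) →* Module.End F (Fin 3 → F) :=
    (Matrix.toLinAlgEquiv' : _ ≃ₐ[F] Module.End F (Fin 3 → F)).toMulEquiv.toMonoidHom.comp M
  have hM : Function.Injective M := fun x y h => hf (Units.ext h)
  have hL : Function.Injective L := fun x y h => hM ((Matrix.toLinAlgEquiv').injective h)
  have hfr : Module.finrank F (Fin 3 → F) = 3 := by simp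
  -- a central element mapped to `-1`
  obtain ⟨bs, hbs⟩ := exists_signs h2 hfr (L.comp (Subgroup.inclusion hE))
    (fun a b h => Subgroup.inclusion_injective hE (hL h)) (fun e => Subtype.ext (hEexp e e.2)) hE8
  obtain ⟨e₀, he₀⟩ := hbs fun _ => false
  set z : ↥(X : Subgroup G) := Subgroup.inclusion hE e₀ with hzdef
  have hLz : L z = -1 := bs.ext fun i => by simpa [hzdef] using he₀ i
  have hMz : M z = -1 := (Matrix.toLinAlgEquiv').injective (by
    rw [map_neg, map_one]; exact hLz)
  have hzc : z ∈ center ↥(X : Subgroup G) := Subgroup.mem_center_iff.mpr fun x => hM (by simp [hMz])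
  have hz2 : z * z = 1 := hM (by simp [hMz])
  -- a central involution among the commutators
  have hXp : IsPGroup 2 ↥(X : Subgroup G) := X.isPGroup'
  haveI : Fact (Nat.Prime 2) := ⟨Nat.prime_two⟩
  haveI : Group.IsNilpotent ↥(X : Subgroup G) := hXp.isNilpotent
  have hcne : commutator ↥(X : Subgroup G) ≠ ⊥ := fun h => hnab ⟨⟨fun x y => by
    have h1 : ⁅x, y⁆ ∈ (⊥ : Subgroup ↥(X : Subgroup G)) :=
      h ▸ commutator_mem_commutator (mem_top x) (mem_top y)
    exact commutatorElement_eq_one_iff_mul_comm.mp (mem_bot.mp h1)⟩⟩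
  have hI := Grp.inf_center_ne_bot (commutator ↥(X : Subgroup G)) hcne
  have hcard : 2 ∣ Nat.card ↥(commutator ↥(X : Subgroup G) ⊓ center ↥(X : Subgroup G)) := by
    obtain ⟨n, hn⟩ := (hXp.to_subgroup (commutator ↥(X : Subgroup G) ⊓ center ↥(X : Subgroup G))).exists_card_eq
    rcases Nat.eq_zero_or_pos n with rfl | hn0
    · exact absurd (Subgroup.card_eq_one.mp (by simpa using hn)) hI
    · exact hn ▸ dvd_pow_self 2 hn0.ne'
  obtain ⟨⟨b, hbc, hbz⟩, hb⟩ := exists_prime_orderOf_dvd_card' 2 hcard
  rw [← Subgroup.orderOf_coe] at hb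
  have hb2 : b * b = 1 := mul_self_of_orderOf_two hb
  have hb1 : b ≠ 1 := ne_one_of_orderOf_two hb
  have hdet : ∀ c ∈ commutator ↥(X : Subgroup G), (M c).det = 1 := fun c hc => by
    have h1 := Abelianization.commutator_subset_ker
      ((Matrix.GeneralLinearGroup.det : GL (Fin 3) F →* Fˣ).comp f) hc
    rw [MonoidHom.mem_ker, MonoidHom.comp_apply, Units.ext_iff] at h1
    simpa [M] using h1
  have hneg : ∀ A : Matrix (Fin 3) (Fin 3) F, (-A).det = -A.det := fun A => by
    rw [Matrix.det_neg]; simp; ring
  have hzC : z ∉ commutator ↥(X : Subgroup G) := fun h => hne (by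
    have h1 := hdet z h
    rw [hMz, hneg, Matrix.det_one] at h1
    exact h1)
  -- the character
  set B := M b with hB
  have hBB : B * B = 1 := by rw [hB, ← map_mul, hb2, map_one]
  have hBcomm : ∀ x, M x * B = B * M x := fun x => by
    rw [hB, ← map_mul, ← map_mul, Subgroup.mem_center_iff.mp hbz x]
  set P : Matrix (Fin 3) (Fin 3) F := (2 : F)⁻¹ • (1 + B) with hP
  set Q : Matrix (Fin 3) (Fin 3) F := (2 : F)⁻¹ • (1 - B) with hQ
  have hPB : P * B = P := by rw [hP, smul_mul_assoc, add_mul, one_mul, hBB, add_comm]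
  have hPQ : P * Q = 0 := by
    rw [hP, hQ, smul_mul_assoc, mul_smul_comm, add_mul, one_mul, mul_sub, mul_one, hBB]
    simp
  have hQP : Q * P = 0 := by
    rw [hP, hQ, smul_mul_assoc, mul_smul_comm, sub_mul, one_mul, mul_add, mul_one, hBB]
    rw [add_comm (1 : Matrix (Fin 3) (Fin 3) F), sub_self]; simp
  have hsum : P + Q = 1 := by
    rw [hP, hQ, ← smul_add, show (1 + B) + (1 - B) = (2 : F) • (1 : Matrix (Fin 3) (Fin 3) F) by
      rw [two_smul]; abel, inv_smul_smul₀ h2]
  have hPP : P * P = P := by
    have := congrArg (P * ·) hsum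
    simpa [mul_add, hPQ] using this
  have hQQ : Q * Q = Q := by
    have := congrArg (Q * ·) hsum
    simpa [mul_add, hQP] using this
  have hPc : ∀ x, M x * P = P * M x := fun x => by
    rw [hP, mul_smul_comm, smul_mul_assoc, mul_add, add_mul, mul_one, one_mul, hBcomm]
  have hQc : ∀ x, M x * Q = Q * M x := fun x => by
    rw [hQ, mul_smul_comm, smul_mul_assoc, mul_sub, sub_mul, mul_one, one_mul, hBcomm]
  let μ₀ : ↥(X : Subgroup G) →* F :=
    { toFun := fun x => (P * M x + Q).det
      map_one' := by rw [map_one, mul_one, hsum, Matrix.det_one]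
      map_mul' := fun x y => by
        rw [← Matrix.det_mul, map_mul]
        congr 1
        have e1 : P * M x * (P * M y) = P * (M x * M y) := by
          calc P * M x * (P * M y) = P * (M x * P) * M y := by simp only [mul_assoc]
            _ = (P * P) * M x * M y := by rw [hPc]; simp only [mul_assoc]
            _ = _ := by rw [hPP]; simp only [mul_assoc]
        have e2 : P * M x * Q = 0 := by rw [mul_assoc, hQc, ← mul_assoc, hPQ, zero_mul]
        have e3 : Q * (P * M y) = 0 := by rw [← mul_assoc, hQP, zero_mul]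
        rw [mul_add, add_mul, add_mul, e1, e2, e3, hQQ]; abel }
  let μ : ↥(X : Subgroup G) →* Fˣ := μ₀.toHomUnits
  have hμb : μ₀ b = 1 := by
    show (P * M b + Q).det = 1
    rw [← hB, hPB, hsum, Matrix.det_one]
  have hμzb : μ₀ (z * b) = -1 := by
    have h3 : Q - P = -B := by
      rw [hP, hQ, ← smul_sub, show (1 - B) - (1 + B) = (2 : F) • (-B) by rw [two_smul]; abel,
        inv_smul_smul₀ h2]
    show (P * M (z * b) + Q).det = -1
    rw [map_mul, hMz, neg_one_mul, mul_neg, ← hB, hPB, neg_add_eq_sub, h3, hneg, hB, hdet b hbc]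
  have hμz : μ₀ z = -1 := by
    have := hμzb
    rwa [map_mul, hμb, mul_one] at this
  -- central involutions
  have hcent : ∀ y ∈ center ↥(X : Subgroup G), y * y = 1 → y ≠ 1 → y ∉ commutator ↥(X : Subgroup G) →
      μ₀ y ≠ 1 := by
    intro y hy hy2 hy1 hyC
    have hzb : z ≠ b := fun h => hzC (h ▸ hbc)
    by_cases hyb : y = b
    · exact absurd (hyb ▸ hbc) hyC
    by_cases hyz : y = z
    · rw [hyz, hμz]; exact hne
    by_cases hyzb : y = z * b
    · rw [hyzb, hμzb]; exact hne
    exfalso
    set K : Subgroup ↥(X : Subgroup G) :=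
      { carrier := {w | w ∈ center ↥(X : Subgroup G) ∧ w * w = 1}
        one_mem' := ⟨one_mem _, mul_one 1⟩
        mul_mem' := fun {a c} ha hc => ⟨mul_mem ha.1 hc.1, by
          have h := Subgroup.mem_center_iff.mp ha.1 c
          calc a * c * (a * c) = a * (c * a) * c := by group
            _ = (a * a) * (c * c) := by rw [h]; group
            _ = 1 := by rw [ha.2, hc.2, one_mul]⟩
        inv_mem' := fun {a} ha => by rw [inv_eq_of_mul_eq_one_right ha.2]; exact ha } with hK
    -- eight different members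
    have hz' : z ∈ K := ⟨hzc, hz2⟩
    have hb' : b ∈ K := ⟨hbz, hb2⟩
    have hy' : y ∈ K := ⟨hy, hy2⟩
    have hz1 : z ≠ 1 := fun h => hzC (h ▸ one_mem _)
    have hzi : z⁻¹ = z := inv_eq_of_mul_eq_one_right hz2
    have hbi : b⁻¹ = b := inv_eq_of_mul_eq_one_right hb2
    have hzb1 : z * b ≠ 1 := fun h => hzb (by rw [eq_inv_of_mul_eq_one_left h, hbi])
    have hbz' : b * z = z * b := (Subgroup.mem_center_iff.mp hbz z).symm
    have e1 : z * (z * b) = b := by rw [← mul_assoc, hz2, one_mul]
    have e2 : b * (z * b) = z := by rw [← mul_assoc, hbz', mul_assoc, hb2, mul_one]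
    have e3 : z * b * z = b := by rw [mul_assoc, hbz', e1]
    have e4 : z * b * b = z := by rw [mul_assoc, hb2, mul_one]
    have e5 : z * b * (z * b) = 1 := by rw [← mul_assoc, e3, hb2]
    set S4 : Finset ↥(X : Subgroup G) := {1, z, b, z * b} with hS4
    have hSK : ∀ u ∈ S4, u ∈ K := by
      intro u hu
      simp only [hS4, Finset.mem_insert, Finset.mem_singleton] at hu
      rcases hu with rfl | rfl | rfl | rfl
      exacts [one_mem _, hz', hb', mul_mem hz' hb']
    have hSmul : ∀ u ∈ S4, ∀ v ∈ S4, u * v ∈ S4 := by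
      intro u hu v hv
      simp only [hS4, Finset.mem_insert, Finset.mem_singleton] at hu hv ⊢
      rcases hu with rfl | rfl | rfl | rfl <;> rcases hv with rfl | rfl | rfl | rfl <;>
        simp [hz2, hb2, hbz', e1, e2, e3, e4, e5]
    have hy4 : y ∉ S4 := by simp [hS4, hy1, hyz, hyb, hyzb]
    have hSinv : ∀ u ∈ S4, u⁻¹ = u := fun u hu => inv_eq_of_mul_eq_one_right (hSK u hu).2
    have hcard4 : S4.card = 4 := by
      rw [hS4, Finset.card_insert_of_notMem (by simp [hz1.symm, hb1.symm, hzb1.symm]),
        Finset.card_insert_of_notMem (by simp [hzb, hb1]),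
        Finset.card_insert_of_notMem (by simp [hz1]), Finset.card_singleton]
    have hdisj : Disjoint S4 (S4.image (y * ·)) := by
      rw [Finset.disjoint_left]
      intro u hu hu'
      obtain ⟨v, hv, e⟩ := Finset.mem_image.mp hu'
      refine hy4 ?_
      rw [eq_mul_inv_of_mul_eq e, hSinv v hv]
      exact hSmul u hu v hv
    have hKcard : 8 ≤ Nat.card K := by
      have h8 : (S4 ∪ S4.image (y * ·)).card = 8 := by
        rw [Finset.card_union_of_disjoint hdisj, Finset.card_image_of_injective _ (mul_right_injective y), hcard4]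
      rw [← h8, ← Set.ncard_coe_finset]
      refine le_of_le_of_eq (Set.ncard_le_ncard (t := (K : Set ↥(X : Subgroup G))) (fun w hw => ?_) (Set.toFinite _))
        (Nat.card_coe_set_eq (K : Set ↥(X : Subgroup G))).symm
      rcases Finset.mem_union.mp (Finset.mem_coe.mp hw) with h | h
      · exact hSK w h
      · obtain ⟨v, hv, rfl⟩ := Finset.mem_image.mp h
        exact mul_mem hy' (hSK v hv)
    obtain ⟨k, hk⟩ := (hXp.to_subgroup K).exists_card_eq
    have hk3 : 3 ≤ k := (Nat.pow_le_pow_iff_right (show 1 < 2 by norm_num)).mp (hk ▸ hKcard : 2 ^ 3 ≤ 2 ^ k)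
    obtain ⟨K', hK'⟩ := Sylow.exists_subgroup_card_pow_prime (G := ↥K) 2 (n := 3)
      (hk ▸ Nat.pow_dvd_pow 2 hk3)
    obtain ⟨bs', hbs'⟩ := exists_signs h2 hfr ((L.comp K.subtype).comp K'.subtype)
      (fun a c h => Subtype.ext (Subtype.ext (hL h))) (fun e => Subtype.ext (Subtype.ext (e : ↥K).2.2))
      (by rw [hK']; rfl)
    refine hnab ⟨⟨fun u v => hL ?_⟩⟩
    rw [map_mul, map_mul]
    refine commute_of_signs h2 (b := bs') (S := Set.range ((L.comp K.subtype).comp K'.subtype))
      (fun s => ?_) ?_ ?_
    · obtain ⟨e, he⟩ := hbs' s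
      exact ⟨_, ⟨e, rfl⟩, he⟩
    all_goals
      rintro _ ⟨e, rfl⟩
      simp only [MonoidHom.comp_apply, Subgroup.coe_subtype]
      rw [← map_mul, ← map_mul, Subgroup.mem_center_iff.mp (e : ↥K).2.1]
  -- transfer
  haveI : (X : Subgroup G).FiniteIndex := inferInstance
  have hι : orderOf (-1 : Fˣ) = 2 := orderOf_eq_prime (by simp) (fun h => hne (by
    simpa using congrArg Units.val h))
  have huniq : ∀ a : Fˣ, orderOf a = 2 → a = -1 := fun a ha => by
    have h1 : (a : F) * a = 1 := by
      have := congrArg Units.val (mul_self_of_orderOf_two ha)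
      simpa using this
    rcases mul_self_eq_one_iff.mp h1 with h | h
    · exact absurd (Units.ext (by simpa using h)) (ne_one_of_orderOf_two ha)
    · exact Units.ext (by simpa using h)
  have hzG : (z : G) * z = 1 := congrArg Subtype.val hz2
  have htr : MonoidHom.transfer μ (z : G) = 1 := by
    set T := MonoidHom.transfer μ with hT
    by_contra hne1
    have hev : Even (Nat.card T.range) := by
      have h1 : orderOf (⟨T (z : G), ⟨_, rfl⟩⟩ : T.range) = 2 := orderOf_eq_prime
        (Subtype.ext (by simp [pow_two, ← map_mul, hzG])) (fun h => hne1 (congrArg Subtype.val h))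
      exact even_iff_two_dvd.mpr (h1 ▸ orderOf_dvd_natCard _)
    have hidx : (powMonoidHom 2 : T.range →* T.range).range.index = 2 := by
      rw [IsCyclic.index_powMonoidHom_range, Nat.gcd_eq_right_iff_dvd.mpr (even_iff_two_dvd.mp hev)]
    refine hG (((powMonoidHom 2 : T.range →* T.range).range).comap T.rangeRestrict) ?_
    rw [Subgroup.index_comap_of_surjective _ T.rangeRestrict_surjective]
    exact hidx
  have heven := even_card_of_transfer_eq_one μ hzG htr hι huniq
  have hXc : ∀ r ∈ (X : Subgroup G), r * (z : G) = z * r := fun r hr =>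
    congrArg Subtype.val (Subgroup.mem_center_iff.mp hzc ⟨r, hr⟩)
  have hmod := card_invariant_modEq (p := 2) X.isPGroup'
    (fun q : G ⧸ (X : Subgroup G) => ∃ x : G, QuotientGroup.mk x = q ∧
      ∃ h : x⁻¹ * z * x ∈ (X : Subgroup G), μ ⟨_, h⟩ ≠ 1) (by
    rintro r hr _ ⟨x, rfl, h, hne'⟩
    have e : (r * x)⁻¹ * (z : G) * (r * x) = x⁻¹ * z * x := by
      calc (r * x)⁻¹ * (z : G) * (r * x) = x⁻¹ * r⁻¹ * ((z : G) * r) * x := by group
        _ = x⁻¹ * z * x := by rw [← hXc r hr]; group
    refine ⟨r * x, rfl, e ▸ h, ?_⟩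
    exact fun h1 => hne' ((congrArg μ (Subtype.ext e.symm)).trans h1))
  have hfix : Nat.card {q : G ⧸ (X : Subgroup G) // (∃ x : G, QuotientGroup.mk x = q ∧
      ∃ h : x⁻¹ * z * x ∈ (X : Subgroup G), μ ⟨_, h⟩ ≠ 1) ∧ ∀ r ∈ (X : Subgroup G), r • q = q} =
      Nat.card {q : G ⧸ (X : Subgroup G) // ∀ r ∈ (X : Subgroup G), r • q = q} := by
    refine Nat.card_congr (Equiv.subtypeEquivRight fun q => ⟨fun h => h.2, fun h => ⟨?_, h⟩⟩)
    induction q using QuotientGroup.induction_on with | _ x => ?_
    have hn : ∀ r ∈ (X : Subgroup G), x⁻¹ * r * x ∈ (X : Subgroup G) := fun r hr => smul_mk_eq_iff.mp (h r hr)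
    have hn' : ∀ r ∈ (X : Subgroup G), x * r * x⁻¹ ∈ (X : Subgroup G) := by
      intro r hr
      let φ : ↥(X : Subgroup G) → ↥(X : Subgroup G) := fun r => ⟨_, hn r r.2⟩
      have hφ : Function.Injective φ := fun r s h => Subtype.ext (by simpa [φ] using congrArg Subtype.val h)
      obtain ⟨w, hw⟩ := (Finite.injective_iff_surjective.mp hφ) ⟨r, hr⟩
      have hw' : x⁻¹ * (w : G) * x = r := congrArg Subtype.val hw
      rw [← hw', show x * (x⁻¹ * (w : G) * x) * x⁻¹ = w by group]
      exact w.2
    have hy0 : x⁻¹ * (z : G) * x ∈ (X : Subgroup G) := hn z z.2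
    refine ⟨x, rfl, hy0, fun hμ => ?_⟩
    let c : ↥(X : Subgroup G) →* ↥(X : Subgroup G) :=
      { toFun := fun r => ⟨x * r * x⁻¹, hn' r r.2⟩
        map_one' := Subtype.ext (by simp)
        map_mul' := fun r s => Subtype.ext (by simp only [Subgroup.coe_mul]; group) }
    refine hcent ⟨_, hy0⟩ ?_ ?_ ?_ ?_ (by simpa [μ] using congrArg Units.val hμ)
    · refine Subgroup.mem_center_iff.mpr fun r => Subtype.ext ?_
      simp only [Subgroup.coe_mul]
      calc (r : G) * (x⁻¹ * z * x) = x⁻¹ * ((x * r * x⁻¹) * z) * x := by group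
        _ = x⁻¹ * z * x * r := by rw [hXc _ (hn' r r.2)]; group
    · refine Subtype.ext ?_
      simp only [Subgroup.coe_mul, Subgroup.coe_one]
      calc x⁻¹ * (z : G) * x * (x⁻¹ * z * x) = x⁻¹ * ((z : G) * z) * x := by group
        _ = 1 := by rw [hzG]; group
    · intro h1
      have h1' := congrArg Subtype.val h1
      simp only [Subgroup.coe_one] at h1'
      exact hzC (by
        have : z = 1 := Subtype.ext (by
          calc (z : G) = x * (x⁻¹ * z * x) * x⁻¹ := by group
            _ = 1 := by rw [h1']; group)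
        rw [this]; exact one_mem _)
    · intro h1
      have h2' : c ⟨_, hy0⟩ ∈ commutator ↥(X : Subgroup G) := by
        have := Subgroup.mem_map_of_mem c h1
        rw [_root_.commutator_def, Subgroup.map_commutator] at this
        exact Subgroup.commutator_mono le_top le_top this
      exact hzC (by
        have : c ⟨_, hy0⟩ = z := Subtype.ext (by simp [c]; group)
        rwa [this] at h2')
  rw [hfix] at hmod
  have hodd : Odd (Nat.card {q : G ⧸ (X : Subgroup G) // ∀ r ∈ (X : Subgroup G), r • q = q}) := by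
    have h0 := card_invariant_modEq (p := 2) X.isPGroup' (fun _ : G ⧸ (X : Subgroup G) => True)
      (fun _ _ _ _ => trivial)
    rw [Nat.card_congr (Equiv.subtypeUnivEquiv (fun _ => trivial)),
      Nat.card_congr (Equiv.subtypeEquivRight (fun q : G ⧸ (X : Subgroup G) =>
        ((true_and _).to_iff : (True ∧ ∀ r ∈ (X : Subgroup G), r • q = q) ↔ _)))] at h0
    rw [Nat.odd_iff, ← (show _ % 2 = _ % 2 from h0), ← Subgroup.index_eq_card, ← Nat.two_dvd_ne_zero]
    exact X.not_dvd_index
  rw [Nat.even_iff] at heven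
  rw [Nat.odd_iff] at hodd
  have := (show _ % 2 = _ % 2 from hmod)
  omega

end Cfsg.Agent.Invol.GLThree
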