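import Cfsg.Agent.Lib.Invol.HallFourGroup

/-!
Four-transitive groups with odd four-point stabilisers: involutions, their patterns on four points and
their numbers of fixed points.
-/

set_option autoImplicit false
set_option linter.style.haveILetI false
set_option linter.unusedSectionVars false

namespace Cfsg.Agent.Invol.HallFour

open Subgroup Equiv

universe u

variable {α : Type u} [Fintype α] [DecidableEq α]

/-- Four distinct points. -/
def D4 (a b c d : α) : Prop := a ≠ b ∧ a ≠ c ∧ a ≠ d ∧ b ≠ c ∧ b ≠ d ∧ c ≠ d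

theorem D4.map {a b c d : α} (h : D4 a b c d) (g : Perm α) : D4 (g a) (g b) (g c) (g d) := by
  simpa [D4] using h

theorem D4.pairs {a b c d : α} (h : D4 a b c d) : D4 c d a b := by
  obtain ⟨h1, h2, h3, h4, h5, h6⟩ := h
  exact ⟨h6, h2.symm, h4.symm, h3.symm, h5.symm, h1⟩

theorem D4.vec_injective {a b c d : α} (h : D4 a b c d) : Function.Injective ![a, b, c, d] := by
  obtain ⟨h1, h2, h3, h4, h5, h6⟩ := h
  intro i j
  fin_cases i <;> fin_cases j <;> simp_all [eq_comm]

theorem d4_of_injective {s : Fin 4 → α} (hs : Function.Injective s) :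
    D4 (s 0) (s 1) (s 2) (s 3) :=
  ⟨hs.ne (by decide), hs.ne (by decide), hs.ne (by decide), hs.ne (by decide), hs.ne (by decide),
    hs.ne (by decide)⟩

/-- Four-transitive, with four-point stabilisers of odd order. -/
structure Hyp (G : Subgroup (Perm α)) : Prop where
  trans : ∀ {a b c d a' b' c' d' : α}, D4 a b c d → D4 a' b' c' d' →
    ∃ g ∈ G, g a = a' ∧ g b = b' ∧ g c = c' ∧ g d = d'
  odd : ∀ {a b c d : α}, D4 a b c d → ∀ g ∈ G, g a = a → g b = b → g c = c → g d = d →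
    Odd (orderOf g)

/-- The stabiliser of four points. -/
def stab4 (G : Subgroup (Perm α)) (a b c d : α) : Subgroup (Perm α) where
  carrier := {g | g ∈ G ∧ g a = a ∧ g b = b ∧ g c = c ∧ g d = d}
  one_mem' := ⟨G.one_mem, rfl, rfl, rfl, rfl⟩
  mul_mem' := by
    rintro g h ⟨hg, g1, g2, g3, g4⟩ ⟨hh, h1, h2, h3, h4⟩
    exact ⟨G.mul_mem hg hh, by simp [h1, g1], by simp [h2, g2], by simp [h3, g3], by simp [h4, g4]⟩
  inv_mem' := by
    rintro g ⟨hg, g1, g2, g3, g4⟩
    exact ⟨G.inv_mem hg, Perm.inv_eq_iff_eq.2 g1.symm, Perm.inv_eq_iff_eq.2 g2.symm,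
      Perm.inv_eq_iff_eq.2 g3.symm, Perm.inv_eq_iff_eq.2 g4.symm⟩

theorem mem_stab4 {G : Subgroup (Perm α)} {a b c d : α} {g : Perm α} :
    g ∈ stab4 G a b c d ↔ g ∈ G ∧ g a = a ∧ g b = b ∧ g c = c ∧ g d = d := Iff.rfl

/-- The fixed points of a permutation. -/
def fx (g : Perm α) : Finset α := Finset.univ.filter fun x => g x = x

@[simp] theorem mem_fx {g : Perm α} {x : α} : x ∈ fx g ↔ g x = x := by simp [fx]

theorem inv_apply_self (g : Perm α) (x : α) : g⁻¹ (g x) = x := g.symm_apply_apply x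

theorem apply_inv_self {β : Type*} (g : Perm β) (x : β) : g (g⁻¹ x) = x := g.apply_symm_apply x

theorem apply_apply {t : Perm α} (ht : t * t = 1) (x : α) : t (t x) = x := by
  rw [← Perm.mul_apply, ht, Perm.one_apply]

theorem swap_apply {t : Perm α} (ht : t * t = 1) {a b : α} (h : t a = b) : t b = a :=
  h ▸ apply_apply ht a

theorem fx_conj {g t : Perm α} {x : α} : x ∈ fx (g * t * g⁻¹) ↔ g⁻¹ x ∈ fx t := by
  simp only [mem_fx, Perm.mul_apply]
  constructor
  · intro h; rw [eq_comm, Perm.inv_eq_iff_eq]; exact h.symm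
  · intro h; rw [h]; exact apply_inv_self g x

theorem apply_mem_fx_conj {g t : Perm α} {x : α} : g x ∈ fx (g * t * g⁻¹) ↔ x ∈ fx t := by
  rw [fx_conj, inv_apply_self]

theorem card_fx_conj (g t : Perm α) : (fx (g * t * g⁻¹)).card = (fx t).card := by
  rw [← Finset.card_map g.toEmbedding (s := fx t)]
  congr 1
  ext x
  rw [fx_conj, Finset.mem_map_equiv]
  rfl

/-- The parity of the number of fixed points of an involution on an invariant set. -/
theorem card_filter_mod_two {t : Perm α} (ht : t * t = 1) (S : Finset α) (hS : ∀ x ∈ S, t x ∈ S) :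
    (S.filter fun x => t x = x).card % 2 = S.card % 2 := by
  have h0 : (((S.filter fun x => ¬ t x = x).card : ℕ) : ZMod 2) = 0 := by
    rw [Finset.card_eq_sum_ones, Nat.cast_sum, Nat.cast_one]
    refine Finset.sum_involution (fun x _ => t x) (fun x _ => by decide) (fun x hx _ => ?_)
      (fun x hx => ?_) (fun x _ => apply_apply ht x)
    · exact (Finset.mem_filter.1 hx).2
    · refine Finset.mem_filter.2 ⟨hS x (Finset.mem_filter.1 hx).1, fun h => (Finset.mem_filter.1 hx).2 ?_⟩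
      exact t.injective h
  rw [ZMod.natCast_eq_zero_iff_even] at h0
  obtain ⟨k, hk⟩ := h0
  have := S.card_filter_add_card_filter_not (p := fun x => t x = x)
  omega

theorem card_fx_mod_two {t : Perm α} (ht : t * t = 1) : (fx t).card % 2 = Fintype.card α % 2 :=
  card_filter_mod_two ht Finset.univ fun x _ => Finset.mem_univ _

theorem fixes_of_sq {g : Perm α} (ho : Odd (orderOf g)) {x : α} (h : g (g x) = x) : g x = x := by
  obtain ⟨k, hk⟩ := exists_sq_eq ho
  have h2 : ∀ n : ℕ, ((g * g) ^ n) x = x := by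
    intro n
    induction n with
    | zero => rfl
    | succ n ih => rw [pow_succ, Perm.mul_apply, Perm.mul_apply, h, ih]
  have : (g * g) ^ k = g := by rw [(Commute.refl g).mul_pow, hk]
  exact this ▸ h2 k

/-- An element of odd order preserving a set of two points fixes them. -/
theorem fixes_of_card_le_two {g : Perm α} (ho : Odd (orderOf g)) {S : Finset α} (hS : S.card ≤ 2)
    (hg : ∀ x ∈ S, g x ∈ S) {y : α} (hy : y ∈ S) : g y = y := by
  by_contra h
  have hsub : ({y, g y} : Finset α) ⊆ S := by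
    intro z hz; simp only [Finset.mem_insert, Finset.mem_singleton] at hz
    rcases hz with rfl | rfl <;> [exact hy; exact hg y hy]
  have heq : ({y, g y} : Finset α) = S :=
    Finset.eq_of_subset_of_card_le hsub (by rw [Finset.card_pair (Ne.symm h)]; exact hS)
  have h3 := hg _ (hg y hy)
  rw [← heq, Finset.mem_insert, Finset.mem_singleton] at h3
  rcases h3 with h3 | h3
  · exact h (fixes_of_sq ho h3)
  · exact h (g.injective h3)

/-- An element of odd order preserving a set of at most three points and fixing one fixes all. -/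
theorem fixes_of_card_le_three {g : Perm α} (ho : Odd (orderOf g)) {S : Finset α} (hS : S.card ≤ 3)
    (hg : ∀ x ∈ S, g x ∈ S) {x : α} (hxS : x ∈ S) (hx : g x = x) {y : α} (hy : y ∈ S) :
    g y = y := by
  rcases eq_or_ne y x with rfl | hyx
  · exact hx
  refine fixes_of_card_le_two ho (S := S.erase x) (by rw [Finset.card_erase_of_mem hxS]; omega) ?_
    (Finset.mem_erase.2 ⟨hyx, hy⟩)
  intro z hz
  obtain ⟨hzx, hzS⟩ := Finset.mem_erase.1 hz
  exact Finset.mem_erase.2 ⟨fun h => hzx (g.injective (h.trans hx.symm)), hg z hzS⟩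

section Setwise

variable {G : Subgroup (Perm α)}

/-- The elements inducing a pattern of `E` on a quadruple. -/
def patStab (G : Subgroup (Perm α)) (s : Fin 4 → α) (E : Subgroup (Perm (Fin 4))) :
    Subgroup (Perm α) where
  carrier := {g | g ∈ G ∧ ∃ f ∈ E, ∀ i, g (s i) = s (f i)}
  one_mem' := ⟨G.one_mem, 1, E.one_mem, fun _ => rfl⟩
  mul_mem' := by
    rintro g h ⟨hg, f, hf, e⟩ ⟨hh, f', hf', e'⟩
    exact ⟨G.mul_mem hg hh, f * f', E.mul_mem hf hf', fun i => by simp [e', e]⟩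
  inv_mem' := by
    rintro g ⟨hg, f, hf, e⟩
    refine ⟨G.inv_mem hg, f⁻¹, E.inv_mem hf, fun i => ?_⟩
    rw [Perm.inv_eq_iff_eq, e, apply_inv_self]

theorem stab4_le_patStab (E : Subgroup (Perm (Fin 4))) (a b c d : α) :
    stab4 G a b c d ≤ patStab G ![a, b, c, d] E := by
  rintro g ⟨hg, h1, h2, h3, h4⟩
  exact ⟨hg, 1, E.one_mem, fun i => by fin_cases i <;> simp [h1, h2, h3, h4]⟩

/-- An element permuting four points normalises their stabiliser. -/
theorem patStab_le_normalizer (E : Subgroup (Perm (Fin 4))) (a b c d : α) :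
    patStab G ![a, b, c, d] E ≤ normalizer (stab4 G a b c d : Set (Perm α)) := by
  have h1 : ∀ g ∈ patStab G ![a, b, c, d] E, ∀ h ∈ stab4 G a b c d,
      g * h * g⁻¹ ∈ stab4 G a b c d := by
    intro g hg h hh
    obtain ⟨hg', f, -, e⟩ := (patStab G ![a, b, c, d] E).inv_mem hg
    obtain ⟨hhG, h1, h2, h3, h4⟩ := hh
    have hall : ∀ i, h (![a, b, c, d] i) = ![a, b, c, d] i := by
      intro i; fin_cases i <;> assumption
    have hfix : ∀ i, (g * h * g⁻¹) (![a, b, c, d] i) = ![a, b, c, d] i := by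
      intro i
      rw [Perm.mul_apply, Perm.mul_apply, e, hall, ← e, apply_inv_self]
    exact ⟨G.mul_mem (G.mul_mem hg.1 hhG) (G.inv_mem hg.1), hfix 0, hfix 1, hfix 2, hfix 3⟩
  intro g hg
  refine (Subgroup.mem_normalizer_iff).2 fun h => ⟨h1 g hg h, fun hh => ?_⟩
  have := h1 g⁻¹ (Subgroup.inv_mem _ hg) _ hh
  simpa [mul_assoc] using this

end Setwise

/-- Involutions lifting a dihedral group of order eight on four points. -/
structure Kit (G : Subgroup (Perm α)) (a b c d : α) where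
  A : Perm α
  A' : Perm α
  C : Perm α
  T : Subgroup (Perm α)
  T_le : T ≤ G
  two : IsPGroup 2 T
  normal : T ≤ normalizer (stab4 G a b c d : Set (Perm α))
  A_mem : A ∈ T
  A'_mem : A' ∈ T
  C_mem : C ∈ T
  A_sq : A * A = 1
  A'_sq : A' * A' = 1
  C_sq : C * C = 1
  comm : A * A' = A' * A
  CAC : C * A * C = A'
  Aa : A a = b
  Ac : A c = c
  Ad : A d = d
  A'a : A' a = a
  A'b : A' b = b
  A'c : A' c = d
  Ca : C a = c
  Cb : C b = d

namespace Hyp

variable {G : Subgroup (Perm α)} (hG : Hyp G)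
include hG

theorem odd_card (a b c d : α) (h : D4 a b c d) : Odd (Nat.card (stab4 G a b c d)) :=
  odd_card_of_odd_orderOf fun g hg => hG.odd h g hg.1 hg.2.1 hg.2.2.1 hg.2.2.2.1 hg.2.2.2.2

theorem odd_mem {a b c d : α} (h : D4 a b c d) {g : Perm α} (hg : g ∈ stab4 G a b c d) :
    Odd (orderOf g) :=
  hG.odd h g hg.1 hg.2.1 hg.2.2.1 hg.2.2.2.1 hg.2.2.2.2

theorem eq_one_of_four {a b c d : α} (h : D4 a b c d) {t : Perm α} (ht : t ∈ G) (h2 : t * t = 1)
    (ha : t a = a) (hb : t b = b) (hc : t c = c) (hd : t d = d) : t = 1 :=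
  eq_one_of_sq (hG.odd h t ht ha hb hc hd) h2

theorem card_fx_le {t : Perm α} (ht : t ∈ G) (h2 : t * t = 1) (h1 : t ≠ 1) : (fx t).card ≤ 3 := by
  by_contra! h
  obtain ⟨S, hS, hcard⟩ := Finset.exists_subset_card_eq (show 4 ≤ (fx t).card by omega)
  let s : Fin 4 → α := fun i => ((S.equivFinOfCardEq hcard).symm i : α)
  have hs : Function.Injective s := fun i j e =>
    (S.equivFinOfCardEq hcard).symm.injective (Subtype.ext e)
  have hfix : ∀ i, t (s i) = s i := fun i =>
    mem_fx.1 (hS ((S.equivFinOfCardEq hcard).symm i).2)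
  exact h1 (hG.eq_one_of_four (d4_of_injective hs) ht h2 (hfix 0) (hfix 1) (hfix 2) (hfix 3))

theorem prod_mem {a b c d : α} {t t' : Perm α} (ht : t ∈ G) (ht' : t' ∈ G)
    (h2 : t * t = 1) (ha : t a = t' a) (hb : t b = t' b) (hc : t c = t' c) (hd : t d = t' d) :
    t * t' ∈ stab4 G a b c d :=
  ⟨G.mul_mem ht ht', by rw [Perm.mul_apply, ← ha, apply_apply h2],
    by rw [Perm.mul_apply, ← hb, apply_apply h2], by rw [Perm.mul_apply, ← hc, apply_apply h2],
    by rw [Perm.mul_apply, ← hd, apply_apply h2]⟩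

/-- Two involutions agreeing on four points are conjugate under their stabiliser. -/
theorem exists_conj {a b c d : α} (h : D4 a b c d) {t t' : Perm α} (ht : t ∈ G) (ht' : t' ∈ G)
    (h2 : t * t = 1) (h2' : t' * t' = 1) (ha : t a = t' a) (hb : t b = t' b) (hc : t c = t' c)
    (hd : t d = t' d) : ∃ g ∈ stab4 G a b c d, g * t' * g⁻¹ = t := by
  have hx := hG.prod_mem ht ht' h2 ha hb hc hd
  obtain ⟨k, hk⟩ := exists_conj_pow h2 h2' (hG.odd_mem h hx)
  exact ⟨_, Subgroup.pow_mem _ hx k, hk⟩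

/-- An element inducing an involution on four points can be replaced by an involution in the cyclic group
it generates. -/
theorem exists_involutive {a b c d : α} (h : D4 a b c d) {g : Perm α} (hg : g ∈ G)
    (ha : g (g a) = a) (hb : g (g b) = b) (hc : g (g c) = c) (hd : g (g d) = d) :
    ∃ t ∈ zpowers g, t * t = 1 ∧ t a = g a ∧ t b = g b ∧ t c = g c ∧ t d = g d := by
  obtain ⟨k, m, hm, hkm⟩ := Nat.exists_eq_two_pow_mul_odd (orderOf_pos g).ne'
  have hgg : g * g ∈ stab4 G a b c d := ⟨G.mul_mem hg hg, ha, hb, hc, hd⟩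
  obtain ⟨j, hj⟩ := hm
  have hgm : g ^ m = g * (g * g) ^ j := by rw [hj, pow_succ', pow_mul, sq]
  obtain ⟨hjG, j1, j2, j3, j4⟩ := Subgroup.pow_mem _ hgg j
  refine ⟨g ^ m, pow_mem (mem_zpowers g) m, ?_, ?_, ?_, ?_, ?_⟩
  · have hmem : g ^ m * g ^ m ∈ stab4 G a b c d := by
      rw [← pow_add, ← two_mul, pow_mul, sq]; exact Subgroup.pow_mem _ hgg m
    refine orderOf_eq_one_iff.1 (Nat.eq_one_of_dvd_coprimes (a := 2 ^ k) ?_
      (orderOf_dvd_of_pow_eq_one ?_) (dvd_refl (orderOf (g ^ m * g ^ m))))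
    · exact Nat.Coprime.pow_left k (Nat.coprime_two_left.2 (hG.odd_mem h hmem))
    · rw [(Commute.refl (g ^ m)).mul_pow, ← pow_mul, ← pow_add,
        show m * 2 ^ k + m * 2 ^ k = orderOf g * 2 by rw [hkm]; ring, pow_mul, pow_orderOf_eq_one,
        one_pow]
  · rw [hgm, Perm.mul_apply, j1]
  · rw [hgm, Perm.mul_apply, j2]
  · rw [hgm, Perm.mul_apply, j3]
  · rw [hgm, Perm.mul_apply, j4]

theorem exists_pattern {s : Fin 4 → α} (hs : Function.Injective s) (f : Perm (Fin 4)) :
    ∃ g ∈ G, ∀ i, g (s i) = s (f i) := by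
  obtain ⟨g, hg, e0, e1, e2, e3⟩ :=
    hG.trans (d4_of_injective hs) (d4_of_injective (hs.comp f.injective))
  exact ⟨g, hg, fun i => by fin_cases i <;> assumption⟩

theorem exists_kit {a b c d : α} (h : D4 a b c d) : Nonempty (Kit G a b c d) := by
  haveI : Fact (Nat.Prime 2) := ⟨Nat.prime_two⟩
  let π : Perm (Fin 4) := swap 0 1 * swap 2 3
  let E : Subgroup (Perm (Fin 4)) := centralizer {π}
  have hmemE : ∀ f, f ∈ E ↔ π * f = f * π := fun f =>
    Subgroup.mem_centralizer_singleton_iff.trans eq_comm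
  let s := ![a, b, c, d]
  set M := patStab G s E with hM
  let K : Subgroup M := (stab4 G a b c d).subgroupOf M
  haveI : K.Normal := Subgroup.normal_subgroupOf_of_le_normalizer (patStab_le_normalizer E a b c d)
  have hK : Odd (Nat.card K) := by
    rw [Nat.card_congr (Subgroup.subgroupOfEquivOfLe (stab4_le_patStab E a b c d)).toEquiv]
    exact hG.odd_card a b c d h
  have hq : IsPGroup 2 (M ⧸ K) := by
    intro x
    induction x using QuotientGroup.induction_on with
    | _ g =>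
      refine ⟨2, ?_⟩
      rw [← QuotientGroup.mk_pow, QuotientGroup.eq_one_iff, Subgroup.mem_subgroupOf]
      obtain ⟨-, f, hf, e⟩ := g.2
      have h4 : ∀ f : Perm (Fin 4), π * f = f * π → ∀ i, f (f (f (f i))) = i := by decide +kernel
      have hf4 := h4 f ((hmemE f).1 hf)
      have e4 : ∀ i, ((g : Perm α) ^ (2 ^ 2)) (s i) = s i := by
        intro i
        rw [show (2 : ℕ) ^ 2 = 4 by rfl, show (g : Perm α) ^ 4 = g * g * g * g by simp [pow_succ]]
        simp only [Perm.mul_apply, e, hf4]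
      rw [SubmonoidClass.coe_pow]
      exact ⟨(Subgroup.pow_mem _ g.2 _).1, e4 0, e4 1, e4 2, e4 3⟩
  let P : Sylow 2 M := default
  set T : Subgroup (Perm α) := (P : Subgroup M).map M.subtype with hT
  have hTM : T ≤ M := Subgroup.map_subtype_le _
  have uniq : ∀ x ∈ T, ∀ y ∈ T, (∀ i, x (s i) = y (s i)) → x = y := by
    intro x hx y hy he
    have hfix : ∀ i, (y⁻¹ * x) (s i) = s i := fun i => by
      rw [Perm.mul_apply, he, inv_apply_self]
    have hmem : y⁻¹ * x ∈ stab4 G a b c d :=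
      ⟨G.mul_mem (G.inv_mem (hTM hy).1) (hTM hx).1, hfix 0, hfix 1, hfix 2, hfix 3⟩
    obtain ⟨k, hk⟩ := (P.isPGroup'.map M.subtype) ⟨y⁻¹ * x, T.mul_mem (T.inv_mem hy) hx⟩
    have hk' : (y⁻¹ * x) ^ 2 ^ k = 1 := congrArg Subtype.val hk
    have : orderOf (y⁻¹ * x) = 1 := Nat.eq_one_of_dvd_coprimes
      (Nat.Coprime.pow_left k (Nat.coprime_two_left.2 (hG.odd_mem h hmem)))
      (orderOf_dvd_of_pow_eq_one hk') (dvd_refl _)
    exact (inv_mul_eq_one.1 (orderOf_eq_one_iff.1 this)).symm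
  have lift : ∀ f : Perm (Fin 4), π * f = f * π → ∃ x ∈ T, ∀ i, x (s i) = s (f i) := by
    intro f hf
    obtain ⟨g, hg, e⟩ := hG.exists_pattern h.vec_injective f
    obtain ⟨q, hq', k, hk, hqk⟩ := exists_mul_of_twoSylow hK hq P ⟨g, hg, f, (hmemE f).2 hf, e⟩
    refine ⟨q, ⟨q, hq', rfl⟩, fun i => ?_⟩
    have hk' : (k : Perm α) (s i) = s i := by
      obtain ⟨-, k1, k2, k3, k4⟩ := (hk : (k : Perm α) ∈ stab4 G a b c d)
      fin_cases i <;> assumption
    have := congrArg (fun x : M => (x : Perm α) (s i)) hqk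
    simp only [Subgroup.coe_mul, Perm.mul_apply, hk'] at this
    exact this.trans (e i)
  obtain ⟨A, hA, eA⟩ := lift (swap 0 1) (by decide)
  obtain ⟨A', hA', eA'⟩ := lift (swap 2 3) (by decide)
  obtain ⟨C, hC, eC⟩ := lift (swap 0 2 * swap 1 3) (by decide)
  have sq : ∀ x ∈ T, ∀ f : Perm (Fin 4), (∀ i, x (s i) = s (f i)) → (∀ i, f (f i) = i) →
      x * x = 1 := by
    intro x hx f e hf
    refine uniq _ (T.mul_mem hx hx) 1 T.one_mem fun i => ?_
    rw [Perm.mul_apply, e, e, hf, Perm.one_apply]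
  exact ⟨{
    A := A
    A' := A'
    C := C
    T := T
    T_le := fun x hx => (hTM hx).1
    two := P.isPGroup'.map _
    normal := fun x hx => patStab_le_normalizer E a b c d (hTM hx)
    A_mem := hA
    A'_mem := hA'
    C_mem := hC
    A_sq := sq A hA _ eA (by decide)
    A'_sq := sq A' hA' _ eA' (by decide)
    C_sq := sq C hC _ eC (by decide)
    comm := uniq _ (T.mul_mem hA hA') _ (T.mul_mem hA' hA) fun i => by
      simp only [Perm.mul_apply, eA, eA']
      exact congrArg s ((by decide : ∀ i : Fin 4,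
        swap 0 1 (swap 2 3 i) = swap 2 3 (swap 0 1 i)) i)
    CAC := uniq _ (T.mul_mem (T.mul_mem hC hA) hC) _ hA' fun i => by
      rw [Perm.mul_apply, Perm.mul_apply, eC, eA, eC, eA']
      exact congrArg s ((by decide : ∀ i : Fin 4,
        (swap 0 2 * swap 1 3 : Perm (Fin 4)) (swap 0 1 ((swap 0 2 * swap 1 3 : Perm (Fin 4)) i)) =
          swap 2 3 i) i)
    Aa := eA 0
    Ac := eA 2
    Ad := eA 3
    A'a := eA' 0
    A'b := eA' 1
    A'c := eA' 2
    Ca := eC 0
    Cb := eC 1 }⟩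

/-- An involution with the pattern `(a b)(c)(d)` exists. -/
theorem exists_patA {a b c d : α} (h : D4 a b c d) :
    ∃ t ∈ G, t * t = 1 ∧ t a = b ∧ t c = c ∧ t d = d := by
  obtain ⟨k⟩ := hG.exists_kit h
  exact ⟨k.A, k.T_le k.A_mem, k.A_sq, k.Aa, k.Ac, k.Ad⟩

/-- Every involution has two transpositions. -/
theorem exists_two_cycles (hn : 6 ≤ Fintype.card α) {t : Perm α} (ht : t ∈ G) (h2 : t * t = 1)
    (h1 : t ≠ 1) (a : α) (ha : t a ≠ a) :
    ∃ c, t c ≠ c ∧ D4 a (t a) c (t c) := by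
  have hle := hG.card_fx_le ht h2 h1
  have : ∃ c, c ∉ fx t ∪ {a, t a} := by
    by_contra! hc
    have h3 : Fintype.card α ≤ (fx t ∪ {a, t a}).card :=
      Finset.card_le_card fun x _ => hc x
    have h4 := Finset.card_union_le (fx t) {a, t a}
    have h5 : ({a, t a} : Finset α).card ≤ 2 := Finset.card_le_two
    omega
  obtain ⟨c, hc⟩ := this
  simp only [Finset.mem_union, mem_fx, Finset.mem_insert, Finset.mem_singleton, not_or] at hc
  obtain ⟨hc1, hc2, hc3⟩ := hc
  refine ⟨c, hc1, ha.symm, Ne.symm hc2, fun e => hc3 ?_, Ne.symm hc3,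
    fun e => hc2 (t.injective e).symm, Ne.symm hc1⟩
  rw [e]; exact (apply_apply h2 c).symm

theorem card_fx (hn : 6 ≤ Fintype.card α) {t : Perm α} (ht : t ∈ G) (h2 : t * t = 1) (h1 : t ≠ 1) :
    (fx t).card = if Even (Fintype.card α) then 2 else 3 := by
  have hmove : ∃ a, t a ≠ a := by
    by_contra! h; exact h1 (Equiv.ext h)
  obtain ⟨a, ha⟩ := hmove
  obtain ⟨c, hc, hD⟩ := hG.exists_two_cycles hn ht h2 h1 a ha
  obtain ⟨A, hAG, A2, Aa, Ac, Ad⟩ := hG.exists_patA hD
  have hA1 : A ≠ 1 := fun e => hD.1 (by rw [← Aa, e, Perm.one_apply])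
  obtain ⟨c', hc', hD'⟩ := hG.exists_two_cycles hn hAG A2 hA1 a (by rw [Aa]; exact ha)
  obtain ⟨g, hg, g1, g2, g3, g4⟩ := hG.trans hD' hD
  set u := g * A * g⁻¹
  have hu2 : u * u = 1 := by
    rw [show u * u = g * (A * A) * g⁻¹ by simp only [u]; group, A2, mul_one, mul_inv_cancel]
  have hu : ∀ x, u (g x) = g (A x) := fun x => by simp [u]
  have ua : u a = t a := by
    have h0 := hu a
    rw [g1, g2] at h0; exact h0
  have uc : u c = t c := by
    have h0 := hu c'
    rw [g3, g4] at h0; exact h0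
  obtain ⟨k, -, hk⟩ := hG.exists_conj hD ht (G.mul_mem (G.mul_mem hg hAG) (G.inv_mem hg)) h2 hu2
    ua.symm (by rw [apply_apply h2, swap_apply hu2 ua]) uc.symm
    (by rw [apply_apply h2, swap_apply hu2 uc])
  rw [← hk, card_fx_conj, card_fx_conj]
  have hlow : 2 ≤ (fx A).card := by
    calc 2 = ({c, t c} : Finset α).card := (Finset.card_pair hc.symm).symm
      _ ≤ _ := Finset.card_le_card (by simp [Finset.insert_subset_iff, Ac, Ad])
  have hup := hG.card_fx_le hAG A2 hA1
  have hpar := card_fx_mod_two A2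
  split_ifs with he
  · rw [Nat.even_iff] at he; omega
  · rw [Nat.even_iff] at he; omega

theorem conj_stab4 {a b c d a' b' c' d' : α} {g : Perm α} (hg : g ∈ G) (ha : g a = a')
    (hb : g b = b') (hc : g c = c') (hd : g d = d') {h : Perm α} :
    h ∈ stab4 G a b c d ↔ g * h * g⁻¹ ∈ stab4 G a' b' c' d' := by
  subst ha hb hc hd
  simp only [mem_stab4, Perm.mul_apply, inv_apply_self, EmbeddingLike.apply_eq_iff_eq]
  constructor
  · rintro ⟨h0, r⟩; exact ⟨G.mul_mem (G.mul_mem hg h0) (G.inv_mem hg), r⟩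
  · rintro ⟨h0, r⟩
    refine ⟨?_, r⟩
    have := G.mul_mem (G.mul_mem (G.inv_mem hg) h0) hg
    simpa [mul_assoc] using this

theorem card_stab4 {a b c d a' b' c' d' : α} (h : D4 a b c d) (h' : D4 a' b' c' d') :
    Nat.card (stab4 G a b c d) = Nat.card (stab4 G a' b' c' d') := by
  obtain ⟨g, hg, ha, hb, hc, hd⟩ := hG.trans h h'
  exact Nat.card_congr ((MulAut.conj g).toEquiv.subtypeEquiv fun x => hG.conj_stab4 hg ha hb hc hd)

theorem eq_stab4 {a b c d a' b' c' d' : α} (h : D4 a b c d) (h' : D4 a' b' c' d')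
    (hle : stab4 G a b c d ≤ stab4 G a' b' c' d') : stab4 G a b c d = stab4 G a' b' c' d' :=
  Subgroup.eq_of_le_of_card_ge hle (hG.card_stab4 h h').ge

end Hyp

/-- The four-point stabilisers preserve the fixed points of the involutions interchanging the pairs. -/
def Pres (G : Subgroup (Perm α)) : Prop :=
  ∀ ⦃a b c d : α⦄, D4 a b c d → ∀ t ∈ G, t * t = 1 → t a = b → t c = d →
    ∀ h ∈ stab4 G a b c d, ∀ x, t x = x → t (h x) = h x

theorem Hyp.pres_of_one {G : Subgroup (Perm α)} (hG : Hyp G) {a b c d : α} (hD : D4 a b c d)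
    {B : Perm α} (hB : B ∈ G) (B2 : B * B = 1) (Ba : B a = b) (Bc : B c = d)
    (hp : ∀ h ∈ stab4 G a b c d, ∀ x, B x = x → B (h x) = h x) :
    ∀ t ∈ G, t * t = 1 → t a = b → t c = d →
      ∀ h ∈ stab4 G a b c d, ∀ x, t x = x → t (h x) = h x := by
  intro t ht t2 ta tc h hh x hx
  obtain ⟨g, hg, rfl⟩ := hG.exists_conj hD ht hB t2 B2 (ta.trans Ba.symm)
    ((swap_apply t2 ta).trans (swap_apply B2 Ba).symm) (tc.trans Bc.symm)
    ((swap_apply t2 tc).trans (swap_apply B2 Bc).symm)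
  rw [← mem_fx, fx_conj, mem_fx] at hx ⊢
  have hh' : g⁻¹ * h * g ∈ stab4 G a b c d :=
    Subgroup.mul_mem _ (Subgroup.mul_mem _ (Subgroup.inv_mem _ hg) hh) hg
  have := hp _ hh' _ hx
  rw [Perm.mul_apply, Perm.mul_apply, apply_inv_self] at this
  exact this

end Cfsg.Agent.Invol.HallFour
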