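import Cfsg.Agent.Lib.Invol.HallFourBasic

/-!
If the four-point stabilisers preserve the fixed points of the associated involutions, they have order one or
three, and counting involutions gives the degree.
-/

set_option autoImplicit false
set_option linter.style.haveILetI false
set_option linter.unusedSectionVars false

namespace Cfsg.Agent.Invol.HallFour

open Subgroup Equiv

universe u

variable {α : Type u} [Fintype α] [DecidableEq α] {G : Subgroup (Perm α)}

/-- The pointwise fixer of a finite set. -/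
def fixSet (S : Finset α) : Subgroup (Perm α) where
  carrier := {g | ∀ x ∈ S, g x = x}
  one_mem' := fun _ _ => rfl
  mul_mem' := fun {g h} hg hh x hx => by rw [Perm.mul_apply, hh x hx, hg x hx]
  inv_mem' := fun {g} hg x hx => Perm.inv_eq_iff_eq.2 (hg x hx).symm

theorem mem_fixSet {S : Finset α} {g : Perm α} : g ∈ fixSet S ↔ ∀ x ∈ S, g x = x := Iff.rfl

namespace Kit

variable {a b c d : α} (k : Kit G a b c d)

/-- The product of the two transposition patterns. -/
def B : Perm α := k.A * k.A'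

theorem A_memG : k.A ∈ G := k.T_le k.A_mem
theorem A'_memG : k.A' ∈ G := k.T_le k.A'_mem
theorem C_memG : k.C ∈ G := k.T_le k.C_mem
theorem B_mem : k.B ∈ k.T := k.T.mul_mem k.A_mem k.A'_mem
theorem B_memG : k.B ∈ G := k.T_le k.B_mem

theorem B_sq : k.B * k.B = 1 := by
  rw [B, mul_assoc, ← mul_assoc k.A' k.A, ← k.comm, mul_assoc, k.A'_sq, mul_one, k.A_sq]

theorem A_ne (hD : D4 a b c d) : k.A ≠ 1 := fun e => hD.1 (by rw [← k.Aa, e, Perm.one_apply])

theorem Ba : k.B a = b := by rw [B, Perm.mul_apply, k.A'a, k.Aa]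

theorem A'd : k.A' d = c := swap_apply k.A'_sq k.A'c

theorem Ab : k.A b = a := swap_apply k.A_sq k.Aa

theorem Bc : k.B c = d := by rw [B, Perm.mul_apply, k.A'c, k.Ad]

theorem B_ne (hD : D4 a b c d) : k.B ≠ 1 := fun e => hD.1 (by rw [← k.Ba, e, Perm.one_apply])

theorem BA : k.B * k.A = k.A' := by
  rw [B, k.comm, mul_assoc, k.A_sq, mul_one]

theorem BA' : k.B * k.A' = k.A := by rw [B, mul_assoc, k.A'_sq, mul_one]

/-- Apart from `c` and `d`, a fixed point of `A` is fixed by `A'`. -/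
theorem A'_fix (hG : Hyp G) (hD : D4 a b c d) {y : α} (hy : k.A y = y) (hc : y ≠ c) (hd : y ≠ d) :
    k.A' y = y := by
  by_contra h
  have h2 : k.A (k.A' y) = k.A' y := by
    rw [← Perm.mul_apply, k.comm, Perm.mul_apply, hy]
  have hc' : k.A' y ≠ c := fun e => hd (by rw [← swap_apply k.A'_sq e, k.A'c])
  have hd' : k.A' y ≠ d := fun e => hc (by rw [← swap_apply k.A'_sq e, k.A'd])
  have hsub : ({c, d, y, k.A' y} : Finset α) ⊆ fx k.A := by
    simp [Finset.insert_subset_iff, k.Ac, k.Ad, hy, h2]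
  have h4 : ({c, d, y, k.A' y} : Finset α).card = 4 := by
    rw [Finset.card_insert_of_notMem, Finset.card_insert_of_notMem, Finset.card_pair (Ne.symm h)]
    · simp [hd.symm, hd'.symm]
    · simp [hD.2.2.2.2.2, hc.symm, hc'.symm]
  have := Finset.card_le_card hsub
  have := hG.card_fx_le k.A_memG k.A_sq (k.A_ne hD)
  omega

theorem B_fix (hG : Hyp G) (hD : D4 a b c d) {y : α} (hy : k.A y = y) (hc : y ≠ c) (hd : y ≠ d) :
    k.B y = y := by
  rw [B, Perm.mul_apply, k.A'_fix hG hD hy hc hd, hy]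

end Kit

namespace Hyp

variable (hG : Hyp G) (hn : 6 ≤ Fintype.card α) (hP : Pres G)
include hG hn hP

theorem mem_fx_B {a b c d : α} (hD : D4 a b c d) (k : Kit G a b c d) {h : Perm α}
    (hh : h ∈ stab4 G a b c d) : ∀ x ∈ fx k.B, h x ∈ fx k.B := by
  intro x hx
  exact mem_fx.2 (hP hD k.B k.B_memG k.B_sq k.Ba k.Bc h hh x (mem_fx.1 hx))

theorem fixSet_A_eq_B {a b c d : α} (hD : D4 a b c d) (k : Kit G a b c d) :
    stab4 G a b c d ⊓ fixSet (fx k.A) = stab4 G a b c d ⊓ fixSet (fx k.B) := by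
  ext h
  simp only [Subgroup.mem_inf, mem_fixSet]
  refine and_congr_right fun hh => ⟨fun hA y hy => ?_, fun hB y hy => ?_⟩
  · have hp := hG.mem_fx_B hn hP hD k hh
    have hcard : (fx k.B).card ≤ 3 := hG.card_fx_le k.B_memG k.B_sq (k.B_ne hD)
    by_cases hex : ∃ z ∈ fx k.A, z ≠ c ∧ z ≠ d
    · obtain ⟨z, hz, hzc, hzd⟩ := hex
      exact fixes_of_card_le_three (hG.odd_mem hD hh) hcard hp
        (mem_fx.2 (k.B_fix hG hD (mem_fx.1 hz) hzc hzd)) (hA z hz) hy
    · push Not at hex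
      have hsub : fx k.A ⊆ {c, d} := by
        intro z hz; simp only [Finset.mem_insert, Finset.mem_singleton]
        exact or_iff_not_imp_left.2 (hex z hz)
      have h2 : (fx k.A).card ≤ 2 := (Finset.card_le_card hsub).trans Finset.card_le_two
      have hA2 := hG.card_fx hn k.A_memG k.A_sq (k.A_ne hD)
      have hB2 := hG.card_fx hn k.B_memG k.B_sq (k.B_ne hD)
      exact fixes_of_card_le_two (hG.odd_mem hD hh) (by omega) hp hy
  · by_cases hc : y = c
    · rw [hc]; exact hh.2.2.2.1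
    by_cases hd : y = d
    · rw [hd]; exact hh.2.2.2.2
    exact hB y (mem_fx.2 (k.B_fix hG hD (mem_fx.1 hy) hc hd))

/-- An element of the stabiliser fixing all fixed points of `A` is trivial. -/
theorem fixSet_A_eq_bot {a b c d : α} (hD : D4 a b c d) (k : Kit G a b c d) :
    stab4 G a b c d ⊓ fixSet (fx k.A) = ⊥ := by
  rw [eq_bot_iff]
  intro h hh
  rw [Subgroup.mem_bot]
  refine Equiv.ext fun p => ?_
  rw [Perm.one_apply]
  by_cases hp : k.A p = p
  · exact hh.2 p (mem_fx.2 hp)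
  by_cases hpa : p = a
  · rw [hpa]; exact hh.1.2.1
  by_cases hpb : p = b
  · rw [hpb]; exact hh.1.2.2.1
  -- another transposition `(p q)` of `A`
  have hqa : k.A p ≠ a := fun e => hpb (by rw [← swap_apply k.A_sq e, k.Aa])
  have hqb : k.A p ≠ b := fun e => hpa (by rw [← swap_apply k.A_sq e, k.Ab])
  have hD' : D4 a b p (k.A p) :=
    ⟨hD.1, Ne.symm hpa, hqa.symm, Ne.symm hpb, hqb.symm, Ne.symm hp⟩
  obtain ⟨g, hg, ga, gb, gp, gq⟩ := hG.trans hD' hD
  set u := g * k.A * g⁻¹ with hu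
  have hu' : ∀ x, u (g x) = g (k.A x) := fun x => by simp [u]
  have u2 : u * u = 1 := by
    rw [show u * u = g * (k.A * k.A) * g⁻¹ by simp only [u]; group, k.A_sq, mul_one, mul_inv_cancel]
  have ua : u a = b := by
    have h0 := hu' a
    rwa [ga, k.Aa, gb] at h0
  have uc : u c = d := by
    have h0 := hu' p
    rwa [gp, gq] at h0
  obtain ⟨m, hm, e⟩ := hG.exists_conj hD k.B_memG (G.mul_mem (G.mul_mem hg k.A_memG) (G.inv_mem hg))
    k.B_sq u2 (k.Ba.trans ua.symm) ((swap_apply k.B_sq k.Ba).trans (swap_apply u2 ua).symm)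
    (k.Bc.trans uc.symm) ((swap_apply k.B_sq k.Bc).trans (swap_apply u2 uc).symm)
  have hgB : m * g * k.A * (m * g)⁻¹ = k.B := by rw [← e]; group
  obtain ⟨hm0, m1, m2, m3, m4⟩ := hm
  have gm : m * g ∈ G := G.mul_mem hm0 hg
  have key : Nat.card (stab4 G a b p (k.A p) ⊓ fixSet (fx k.A) : Subgroup (Perm α)) =
      Nat.card (stab4 G a b c d ⊓ fixSet (fx k.B) : Subgroup (Perm α)) := by
    refine Nat.card_congr ((MulAut.conj (m * g)).toEquiv.subtypeEquiv fun x => ?_)
    simp only [Subgroup.mem_inf, MulEquiv.toEquiv_eq_coe, EquivLike.coe_coe, MulAut.conj_apply,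
      mem_fixSet]
    refine and_congr (hG.conj_stab4 gm (by simp [ga, m1]) (by simp [gb, m2]) (by simp [gp, m3])
      (by simp [gq, m4])) ⟨fun hx y hy => ?_, fun hx y hy => ?_⟩
    · rw [← hgB, fx_conj] at hy
      rw [Perm.mul_apply, Perm.mul_apply, hx _ hy, apply_inv_self]
    · have h0 := hx ((m * g) y) (by rw [← hgB, apply_mem_fx_conj]; exact hy)
      rw [Perm.mul_apply, Perm.mul_apply, inv_apply_self] at h0
      exact (m * g).injective h0
  have hle : stab4 G a b p (k.A p) ⊓ fixSet (fx k.A) ≤ stab4 G a b c d ⊓ fixSet (fx k.A) := by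
    rintro x ⟨⟨hx, x1, x2, -, -⟩, hxA⟩
    exact ⟨⟨hx, x1, x2, hxA c (mem_fx.2 k.Ac), hxA d (mem_fx.2 k.Ad)⟩, hxA⟩
  have heq := Subgroup.eq_of_le_of_card_ge hle
    (by rw [key, hG.fixSet_A_eq_B hn hP hD k])
  rw [← heq] at hh
  exact hh.1.2.2.2.1

theorem eq_one_of_fix_fxB {a b c d : α} (hD : D4 a b c d) (k : Kit G a b c d) {h : Perm α}
    (hh : h ∈ stab4 G a b c d) (hB : ∀ x ∈ fx k.B, h x = x) : h = 1 := by
  have : h ∈ stab4 G a b c d ⊓ fixSet (fx k.B) := ⟨hh, hB⟩
  rwa [← hG.fixSet_A_eq_B hn hP hD k, hG.fixSet_A_eq_bot hn hP hD k, Subgroup.mem_bot] at this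

theorem card_stab {a b c d : α} (hD : D4 a b c d) :
    Nat.card (stab4 G a b c d) = 1 ∨
      (¬ Even (Fintype.card α) ∧ Nat.card (stab4 G a b c d) = 3) := by
  obtain ⟨k⟩ := hG.exists_kit hD
  have hodd := hG.odd_card a b c d hD
  by_cases hex : ∃ z ∈ fx k.A, z ≠ c ∧ z ≠ d
  · obtain ⟨z, hz, hzc, hzd⟩ := hex
    have hzB : z ∈ fx k.B := mem_fx.2 (k.B_fix hG hD (mem_fx.1 hz) hzc hzd)
    have hB := hG.card_fx_le k.B_memG k.B_sq (k.B_ne hD)
    have hinj : Function.Injective
        (fun h : stab4 G a b c d => (⟨(h : Perm α) z, hG.mem_fx_B hn hP hD k h.2 z hzB⟩ : fx k.B)) := by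
      intro h h' e
      have e' : (h : Perm α) z = (h' : Perm α) z := congrArg Subtype.val e
      have hm := (stab4 G a b c d).mul_mem ((stab4 G a b c d).inv_mem h'.2) h.2
      have h1 : ((h' : Perm α)⁻¹ * h) z = z := by rw [Perm.mul_apply, e', inv_apply_self]
      have := hG.eq_one_of_fix_fxB hn hP hD k hm fun x hx =>
        fixes_of_card_le_three (hG.odd_mem hD hm) hB (hG.mem_fx_B hn hP hD k hm) hzB h1 hx
      exact Subtype.ext (inv_mul_eq_one.1 this).symm
    have hle := Nat.card_le_card_of_injective _ hinj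
    rw [Nat.card_eq_finsetCard] at hle
    obtain ⟨j, hj⟩ := hodd
    rcases (show j = 0 ∨ j = 1 by omega) with rfl | rfl
    · exact Or.inl (by omega)
    · refine Or.inr ⟨fun he => ?_, by omega⟩
      have := hG.card_fx hn k.B_memG k.B_sq (k.B_ne hD)
      rw [if_pos he] at this
      omega
  · push Not at hex
    refine Or.inl ?_
    rw [Subgroup.card_eq_one, eq_bot_iff, ← hG.fixSet_A_eq_bot hn hP hD k]
    intro h hh
    refine ⟨hh, fun z hz => ?_⟩
    rcases eq_or_ne z c with rfl | hc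
    · exact hh.2.2.2.1
    · rw [hex z hz hc]; exact hh.2.2.2.2

theorem classify {a b c d : α} (hD : D4 a b c d) :
    (Fintype.card α = 6 ∧ Nat.card (stab4 G a b c d) = 1) ∨
    (Fintype.card α = 7 ∧ Nat.card (stab4 G a b c d) = 3) ∨
    (Fintype.card α = 11 ∧ Nat.card (stab4 G a b c d) = 1) := by
  classical
  set n := Fintype.card α with hn'
  set h := Nat.card (stab4 G a b c d) with hh
  set r := if Even n then 2 else 3 with hr
  let Inv : Finset (Perm α) := Finset.univ.filter fun t => t ∈ G ∧ t * t = 1 ∧ t ≠ 1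
  let Tup : Finset (α × α × α × α) :=
    Finset.univ.filter fun q => D4 q.1 q.2.1 q.2.2.1 q.2.2.2
  let RA : Perm α → α × α × α × α → Prop := fun t q =>
    t q.1 = q.2.1 ∧ t q.2.2.1 = q.2.2.1 ∧ t q.2.2.2 = q.2.2.2
  let RB : Perm α → α × α × α × α → Prop := fun t q => t q.1 = q.2.1 ∧ t q.2.2.1 = q.2.2.2
  have hfx : ∀ t ∈ Inv, (fx t).card = r := fun t ht => by
    obtain ⟨h1, h2, h3⟩ := (Finset.mem_filter.1 ht).2
    exact hG.card_fx hn h1 h2 h3
  let mv : Perm α → Finset α := fun t => Finset.univ \ fx t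
  have hmv : ∀ t ∈ Inv, (mv t).card = n - r := fun t ht => by
    rw [Finset.card_sdiff_of_subset (Finset.subset_univ _), hfx t ht, Finset.card_univ]
  -- tuples of an involution
  have perA : ∀ t ∈ Inv, (Finset.bipartiteAbove RA Tup t).card = (n - r) * (r * r - r) := by
    intro t ht
    obtain ⟨-, t2, -⟩ := (Finset.mem_filter.1 ht).2
    rw [← hmv t ht, ← hfx t ht, ← Finset.offDiag_card, ← Finset.card_product]
    refine Finset.card_nbij' (fun q => (q.1, q.2.2.1, q.2.2.2)) (fun p => (p.1, t p.1, p.2.1, p.2.2))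
      ?_ ?_ ?_ ?_
    · rintro ⟨p, q, u, v⟩ hq
      simp only [Finset.mem_coe, Finset.bipartiteAbove, Finset.mem_filter, Tup, RA, Finset.mem_univ,
        true_and] at hq
      obtain ⟨hD', e1, e2, e3⟩ := hq
      simp only [Finset.coe_product, Set.mem_prod, Finset.mem_coe, mv, Finset.mem_sdiff, mem_fx,
        Finset.mem_univ, true_and, Finset.mem_offDiag]
      exact ⟨fun e => hD'.1 (e.symm.trans e1), e2, e3, hD'.2.2.2.2.2⟩
    · rintro ⟨p, u, v⟩ hq
      simp only [Finset.coe_product, Set.mem_prod, Finset.mem_coe, mv, Finset.mem_sdiff, mem_fx,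
        Finset.mem_univ, true_and, Finset.mem_offDiag] at hq
      obtain ⟨hp, hu, hv, huv⟩ := hq
      simp only [Finset.mem_coe, Finset.bipartiteAbove, Finset.mem_filter, Tup, RA, Finset.mem_univ,
        true_and]
      refine ⟨⟨Ne.symm hp, ?_, ?_, ?_, ?_, huv⟩, hu, hv⟩
      · rintro rfl; exact hp hu
      · rintro rfl; exact hp hv
      · intro e; exact hp (by rw [← e, apply_apply t2] at hu; exact hu.symm)
      · intro e; exact hp (by rw [← e, apply_apply t2] at hv; exact hv.symm)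
    · rintro ⟨p, q, u, v⟩ hq
      simp only [Finset.mem_coe, Finset.bipartiteAbove, Finset.mem_filter, RA] at hq
      simp [hq.2.1]
    · rintro ⟨p, u, v⟩ -; rfl
  have perB : ∀ t ∈ Inv, (Finset.bipartiteAbove RB Tup t).card = (n - r) * (n - r - 2) := by
    intro t ht
    obtain ⟨-, t2, -⟩ := (Finset.mem_filter.1 ht).2
    have hc : ((mv t).sigma fun p => mv t \ {p, t p}).card = (n - r) * (n - r - 2) := by
      rw [Finset.card_sigma]
      have : ∀ p ∈ mv t, (mv t \ {p, t p}).card = n - r - 2 := by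
        intro p hp
        simp only [mv, Finset.mem_sdiff, mem_fx] at hp
        have hsub : ({p, t p} : Finset α) ⊆ mv t := by
          simp only [mv, Finset.insert_subset_iff, Finset.singleton_subset_iff, Finset.mem_sdiff,
            mem_fx, Finset.mem_univ, true_and]
          exact ⟨hp.2, fun e => hp.2 (t.injective e)⟩
        rw [Finset.card_sdiff_of_subset hsub, hmv t ht, Finset.card_pair (Ne.symm hp.2)]
      rw [Finset.sum_congr rfl this, Finset.sum_const, smul_eq_mul, hmv t ht]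
    rw [← hc]
    refine Finset.card_nbij' (fun q => ⟨q.1, q.2.2.1⟩) (fun p => (p.1, t p.1, p.2, t p.2)) ?_ ?_ ?_ ?_
    · rintro ⟨p, q, u, v⟩ hq
      simp only [Finset.mem_coe, Finset.bipartiteAbove, Finset.mem_filter, Tup, RB, Finset.mem_univ,
        true_and] at hq
      obtain ⟨hD', e1, e2⟩ := hq
      simp only [Finset.mem_coe, Finset.mem_sigma, mv, Finset.mem_sdiff, mem_fx, Finset.mem_univ,
        true_and, Finset.mem_insert, Finset.mem_singleton, not_or]
      exact ⟨fun e => hD'.1 (e.symm.trans e1), fun e => hD'.2.2.2.2.2 (e.symm.trans e2),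
        hD'.2.1.symm, fun e => hD'.2.2.2.1 (e1.symm.trans e.symm)⟩
    · rintro ⟨p, u⟩ hq
      simp only [Finset.mem_coe, Finset.mem_sigma, mv, Finset.mem_sdiff, mem_fx, Finset.mem_univ,
        true_and, Finset.mem_insert, Finset.mem_singleton, not_or] at hq
      obtain ⟨hp, hu, h1, h2⟩ := hq
      simp only [Finset.mem_coe, Finset.bipartiteAbove, Finset.mem_filter, Tup, RB, Finset.mem_univ,
        true_and, and_self, and_true]
      refine ⟨Ne.symm hp, Ne.symm h1, fun e => h2 ?_, Ne.symm h2, fun e => h1 (t.injective e).symm,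
        Ne.symm hu⟩
      rw [e, apply_apply t2]
    · rintro ⟨p, q, u, v⟩ hq
      simp only [Finset.mem_coe, Finset.bipartiteAbove, Finset.mem_filter, RB] at hq
      simp [hq.2.1, hq.2.2]
    · rintro ⟨p, u⟩ -; rfl
  -- involutions of a tuple
  have fibA : ∀ q ∈ Tup, (Finset.bipartiteBelow RA Inv q).card = h := by
    rintro ⟨p, q, u, v⟩ hq
    have hD' : D4 p q u v := (Finset.mem_filter.1 hq).2
    obtain ⟨k⟩ := hG.exists_kit hD'
    rw [hh, hG.card_stab4 hD hD', Nat.card_eq_fintype_card, ← Finset.card_univ]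
    refine (Finset.card_bij (s := (Finset.univ : Finset (stab4 G p q u v)))
      (t := Finset.bipartiteBelow RA Inv (p, q, u, v))
      (fun m _ => (m : Perm α) * k.A * (m : Perm α)⁻¹) ?_ ?_ ?_).symm
    · intro m _
      obtain ⟨hm, m1, m2, m3, m4⟩ := m.2
      simp only [Finset.bipartiteBelow, Finset.mem_filter, Inv, RA, Finset.mem_univ, true_and]
      refine ⟨⟨G.mul_mem (G.mul_mem hm k.A_memG) (G.inv_mem hm), ?_, ?_⟩, ?_, ?_, ?_⟩
      · rw [show (m : Perm α) * k.A * (m : Perm α)⁻¹ * ((m : Perm α) * k.A * (m : Perm α)⁻¹) =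
          (m : Perm α) * (k.A * k.A) * (m : Perm α)⁻¹ by group, k.A_sq, mul_one, mul_inv_cancel]
      · rw [Ne, conj_eq_one_iff]; exact k.A_ne hD'
      · rw [Perm.mul_apply, Perm.mul_apply, Perm.inv_eq_iff_eq.2 m1.symm, k.Aa, m2]
      · rw [Perm.mul_apply, Perm.mul_apply, Perm.inv_eq_iff_eq.2 m3.symm, k.Ac, m3]
      · rw [Perm.mul_apply, Perm.mul_apply, Perm.inv_eq_iff_eq.2 m4.symm, k.Ad, m4]
    · intro m _ m' _ e
      have e' : ((m' : Perm α)⁻¹ * m) * k.A = k.A * ((m' : Perm α)⁻¹ * m) := by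
        calc (m' : Perm α)⁻¹ * m * k.A = (m' : Perm α)⁻¹ * ((m : Perm α) * k.A * (m : Perm α)⁻¹) * m := by
              group
          _ = (m' : Perm α)⁻¹ * ((m' : Perm α) * k.A * (m' : Perm α)⁻¹) * m := by rw [e]
          _ = _ := by group
      set z := (m' : Perm α)⁻¹ * m with hz
      have hzm : z ∈ stab4 G p q u v := Subgroup.mul_mem _ (Subgroup.inv_mem _ m'.2) m.2
      have hpres : ∀ x ∈ fx k.A, z x ∈ fx k.A := by
        intro x hx
        rw [mem_fx] at hx ⊢
        rw [← Perm.mul_apply, ← e', Perm.mul_apply, hx]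
      have hb : z ∈ (⊥ : Subgroup (Perm α)) := by
        rw [← hG.fixSet_A_eq_bot hn hP hD' k]
        exact ⟨hzm, fun x hx => fixes_of_card_le_three (hG.odd_mem hD' hzm)
          (hG.card_fx_le k.A_memG k.A_sq (k.A_ne hD')) hpres (mem_fx.2 k.Ac) hzm.2.2.2.1 hx⟩
      exact Subtype.ext (inv_mul_eq_one.1 ((Subgroup.mem_bot).1 hb)).symm
    · intro t ht
      simp only [Finset.bipartiteBelow, Finset.mem_filter, Inv, RA] at ht
      obtain ⟨⟨-, htG, t2, -⟩, e1, e2, e3⟩ := ht
      obtain ⟨m, hm, e⟩ := hG.exists_conj hD' htG k.A_memG t2 k.A_sq (e1.trans k.Aa.symm)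
        ((swap_apply t2 e1).trans k.Ab.symm) (e2.trans k.Ac.symm) (e3.trans k.Ad.symm)
      exact ⟨⟨m, hm⟩, Finset.mem_univ _, e⟩
  have fibB : ∀ q ∈ Tup, (Finset.bipartiteBelow RB Inv q).card = 1 := by
    rintro ⟨p, q, u, v⟩ hq
    have hD' : D4 p q u v := (Finset.mem_filter.1 hq).2
    obtain ⟨k⟩ := hG.exists_kit hD'
    rw [Finset.card_eq_one]
    refine ⟨k.B, Finset.eq_singleton_iff_unique_mem.2 ⟨?_, ?_⟩⟩
    · simp only [Finset.bipartiteBelow, Finset.mem_filter, Inv, RB, Finset.mem_univ, true_and]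
      exact ⟨⟨k.B_memG, k.B_sq, k.B_ne hD'⟩, k.Ba, k.Bc⟩
    · intro t ht
      simp only [Finset.bipartiteBelow, Finset.mem_filter, Inv, RB] at ht
      obtain ⟨⟨-, htG, t2, -⟩, e1, e2⟩ := ht
      obtain ⟨m, hm, e⟩ := hG.exists_conj hD' htG k.B_memG t2 k.B_sq (e1.trans k.Ba.symm)
        ((swap_apply t2 e1).trans (swap_apply k.B_sq k.Ba).symm) (e2.trans k.Bc.symm)
        ((swap_apply t2 e2).trans (swap_apply k.B_sq k.Bc).symm)
      have hX : ∀ x ∈ fx k.B, t x = x := by
        intro x hx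
        rw [← mem_fx, ← e, fx_conj]
        exact hG.mem_fx_B hn hP hD' k (Subgroup.inv_mem _ hm) x hx
      have h1 := hG.prod_mem htG k.B_memG t2 (e1.trans k.Ba.symm)
        ((swap_apply t2 e1).trans (swap_apply k.B_sq k.Ba).symm) (e2.trans k.Bc.symm)
        ((swap_apply t2 e2).trans (swap_apply k.B_sq k.Bc).symm)
      have h2 := hG.eq_one_of_fix_fxB hn hP hD' k h1 fun x hx => by
        rw [Perm.mul_apply, mem_fx.1 hx, hX x hx]
      calc t = t * k.B * k.B := by rw [mul_assoc, k.B_sq, mul_one]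
        _ = k.B := by rw [h2, one_mul]
  have eA := Finset.card_mul_eq_card_mul RA perA fibA
  have eB := Finset.card_mul_eq_card_mul RB perB fibB
  have hI : 0 < Inv.card := by
    obtain ⟨k⟩ := hG.exists_kit hD
    exact Finset.card_pos.2
      ⟨k.A, Finset.mem_filter.2 ⟨Finset.mem_univ _, k.A_memG, k.A_sq, k.A_ne hD⟩⟩
  have hr3 : r ≤ 3 := by rw [hr]; split_ifs <;> omega
  have key : h * (n - r - 2) = r * r - r := by
    have h1 : Inv.card * (n - r) * (h * (n - r - 2)) = Inv.card * (n - r) * (r * r - r) := by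
      calc Inv.card * (n - r) * (h * (n - r - 2)) = Inv.card * ((n - r) * (n - r - 2)) * h := by ring
        _ = Tup.card * 1 * h := by rw [eB]
        _ = Inv.card * ((n - r) * (r * r - r)) := by rw [mul_one, eA]
        _ = _ := by ring
    exact Nat.eq_of_mul_eq_mul_left (Nat.mul_pos hI (by omega)) h1
  rcases hG.card_stab hn hP hD with h1 | ⟨he, h3⟩
  · rw [← hh] at h1
    rw [h1, one_mul] at key
    by_cases he : Even n
    · rw [hr, if_pos he] at key
      exact Or.inl ⟨by omega, h1⟩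
    · rw [hr, if_neg he] at key
      exact Or.inr (Or.inr ⟨by omega, h1⟩)
  · rw [← hh] at h3
    rw [h3, hr, if_neg he] at key
    exact Or.inr (Or.inl ⟨by omega, h3⟩)

end Hyp

end Cfsg.Agent.Invol.HallFour
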