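import Cfsg.Agent.Lib.Invol.HallFourBasic

/-!
The group induced on the fixed points of a subgroup by its normaliser; the criteria of Witt and of Gleason
for it to be four-transitive.
-/

set_option autoImplicit false
set_option linter.style.haveILetI false
set_option linter.unusedSectionVars false

namespace Cfsg.Agent.Invol.HallFour

open Subgroup Equiv

universe u

variable {α : Type u} [Fintype α] [DecidableEq α] {G : Subgroup (Perm α)}

/-- The common fixed points of a subgroup. -/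
noncomputable def fixPts (U : Subgroup (Perm α)) : Finset α :=
  @Finset.filter α (fun x => ∀ u ∈ U, u x = x) (Classical.decPred _) Finset.univ

@[simp] theorem mem_fixPts {U : Subgroup (Perm α)} {x : α} : x ∈ fixPts U ↔ ∀ u ∈ U, u x = x := by
  simp [fixPts]

theorem apply_mem_fixPts {U : Subgroup (Perm α)} {g : Perm α}
    (hg : g ∈ normalizer (U : Set (Perm α))) {x : α} (hx : x ∈ fixPts U) : g x ∈ fixPts U := by
  rw [mem_fixPts] at hx ⊢
  intro u hu
  have h := ((Subgroup.mem_normalizer_iff'').1 hg u).1 hu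
  have := hx _ h
  rw [Perm.mul_apply, Perm.mul_apply, Perm.inv_eq_iff_eq] at this
  exact this

theorem apply_mem_fixPts_iff {U : Subgroup (Perm α)} {g : Perm α}
    (hg : g ∈ normalizer (U : Set (Perm α))) {x : α} : g x ∈ fixPts U ↔ x ∈ fixPts U :=
  ⟨fun h => by simpa [inv_apply_self] using apply_mem_fixPts (Subgroup.inv_mem _ hg) h,
    apply_mem_fixPts hg⟩

theorem fixPts_anti {U V : Subgroup (Perm α)} (h : U ≤ V) : fixPts V ⊆ fixPts U :=
  fun x hx => mem_fixPts.2 fun u hu => mem_fixPts.1 hx u (h hu)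

/-- The normaliser is four-transitive on the fixed points. -/
def TransOn (G U : Subgroup (Perm α)) : Prop :=
  ∀ ⦃a b c d a' b' c' d' : α⦄, D4 a b c d → D4 a' b' c' d' →
    a ∈ fixPts U → b ∈ fixPts U → c ∈ fixPts U → d ∈ fixPts U →
    a' ∈ fixPts U → b' ∈ fixPts U → c' ∈ fixPts U → d' ∈ fixPts U →
    ∃ g ∈ G ⊓ normalizer (U : Set (Perm α)), g a = a' ∧ g b = b' ∧ g c = c' ∧ g d = d'

/-- Restriction of the normaliser to the fixed points. -/
noncomputable def restr (G U : Subgroup (Perm α)) :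
    (G ⊓ normalizer (U : Set (Perm α)) : Subgroup (Perm α)) →* Perm {x // x ∈ fixPts U} where
  toFun g := (g : Perm α).subtypePerm fun _ => apply_mem_fixPts_iff g.2.2
  map_one' := Equiv.ext fun _ => rfl
  map_mul' _ _ := Equiv.ext fun _ => rfl

theorem restr_apply (U : Subgroup (Perm α))
    (g : (G ⊓ normalizer (U : Set (Perm α)) : Subgroup (Perm α))) (x : {x // x ∈ fixPts U}) :
    ((restr G U g x : {x // x ∈ fixPts U}) : α) = (g : Perm α) x := rfl

theorem hyp_range (hG : Hyp G) {U : Subgroup (Perm α)} (hT : TransOn G U) :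
    Hyp (restr G U).range := by
  constructor
  · intro a b c d a' b' c' d' h h'
    have lift : ∀ {p q r s : {x // x ∈ fixPts U}}, D4 p q r s → D4 (p : α) q r s := by
      intro p q r s h; simpa [D4, ← Subtype.ext_iff] using h
    obtain ⟨g, hg, e1, e2, e3, e4⟩ :=
      hT (lift h) (lift h') a.2 b.2 c.2 d.2 a'.2 b'.2 c'.2 d'.2
    exact ⟨_, ⟨⟨g, hg⟩, rfl⟩, Subtype.ext e1, Subtype.ext e2, Subtype.ext e3, Subtype.ext e4⟩
  · rintro a b c d h _ ⟨g, rfl⟩ ha hb hc hd
    have hD : D4 (a : α) b c d := by simpa [D4, ← Subtype.ext_iff] using h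
    refine Odd.of_dvd_nat (hG.odd hD g g.2.1 (congrArg Subtype.val ha) (congrArg Subtype.val hb)
      (congrArg Subtype.val hc) (congrArg Subtype.val hd)) ?_
    rw [Subgroup.orderOf_coe]
    exact orderOf_map_dvd _ g

/-- The number of fixed points in the fixed set of a normalising involution. -/
theorem Hyp.card_fixed_in (hG : Hyp G) {U : Subgroup (Perm α)} (hT : TransOn G U)
    (hf : 6 ≤ (fixPts U).card) {t : Perm α} (ht : t ∈ G) (htU : t ∈ normalizer (U : Set (Perm α)))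
    (t2 : t * t = 1) {x : α} (hx : x ∈ fixPts U) (hxm : t x ≠ x) :
    ((fixPts U).filter fun y => t y = y).card = if Even (fixPts U).card then 2 else 3 := by
  set T : (G ⊓ normalizer (U : Set (Perm α)) : Subgroup (Perm α)) := ⟨t, ht, htU⟩
  have h1 := (hyp_range hG hT).card_fx (by rwa [Fintype.card_coe]) ⟨T, rfl⟩
    (by rw [← map_mul, show T * T = 1 from Subtype.ext t2, map_one])
    (fun e => hxm (congrArg Subtype.val (Equiv.ext_iff.1 e ⟨x, hx⟩)))
  rw [Fintype.card_coe] at h1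
  rw [← h1]
  refine (Finset.card_bij (s := fx (restr G U T)) (fun y _ => (y : α)) ?_ ?_ ?_).symm
  · intro y hy
    exact Finset.mem_filter.2 ⟨y.2, congrArg Subtype.val (mem_fx.1 hy)⟩
  · intro y _ y' _ e
    exact Subtype.ext e
  · intro y hy
    obtain ⟨h2, h3⟩ := Finset.mem_filter.1 hy
    exact ⟨⟨y, h2⟩, mem_fx.2 (Subtype.ext h3), rfl⟩

theorem stab4_le_iff {U : Subgroup (Perm α)} (hU : U ≤ G) {a b c d : α} :
    U ≤ stab4 G a b c d ↔
      a ∈ fixPts U ∧ b ∈ fixPts U ∧ c ∈ fixPts U ∧ d ∈ fixPts U := by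
  simp only [mem_fixPts]
  exact ⟨fun h => ⟨fun u hu => (h hu).2.1, fun u hu => (h hu).2.2.1, fun u hu => (h hu).2.2.2.1,
    fun u hu => (h hu).2.2.2.2⟩,
    fun ⟨h1, h2, h3, h4⟩ u hu => ⟨hU hu, h1 u hu, h2 u hu, h3 u hu, h4 u hu⟩⟩

/-- Witt's criterion for a whole stabiliser. -/
theorem Hyp.transOn_stab (hG : Hyp G) {p q r s : α} (h0 : D4 p q r s) :
    TransOn G (stab4 G p q r s) := by
  intro a b c d a' b' c' d' h h' ha hb hc hd ha' hb' hc' hd'
  have hle : stab4 G p q r s ≤ G := fun x hx => hx.1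
  have e := hG.eq_stab4 h0 h ((stab4_le_iff hle).2 ⟨ha, hb, hc, hd⟩)
  have e' := hG.eq_stab4 h0 h' ((stab4_le_iff hle).2 ⟨ha', hb', hc', hd'⟩)
  obtain ⟨g, hg, e1, e2, e3, e4⟩ := hG.trans h h'
  refine ⟨g, ⟨hg, (Subgroup.mem_normalizer_iff).2 fun x => ?_⟩, e1, e2, e3, e4⟩
  conv_lhs => rw [e]
  conv_rhs => rw [e']
  exact hG.conj_stab4 hg e1 e2 e3 e4

/-- Witt's criterion for a Sylow subgroup of a stabiliser. -/
theorem Hyp.transOn_full (hG : Hyp G) {l : ℕ} [Fact l.Prime] {p q r s : α} (h0 : D4 p q r s)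
    {U : Subgroup (Perm α)} (hU : U ≤ stab4 G p q r s)
    (hc : Nat.card U = l ^ (Nat.card (stab4 G p q r s)).factorization l) : TransOn G U := by
  intro a b c d a' b' c' d' h h' ha hb hc' hd ha' hb' hc'' hd'
  have hUG : U ≤ G := fun x hx => (hU hx).1
  obtain ⟨g, hg, e1, e2, e3, e4⟩ := hG.trans h h'
  have hle := (stab4_le_iff hUG).2 ⟨ha', hb', hc'', hd'⟩
  set U' := U.map (MulAut.conj g).toMonoidHom
  have hle' : U' ≤ stab4 G a' b' c' d' := by
    rintro _ ⟨x, hx, rfl⟩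
    exact (hG.conj_stab4 hg e1 e2 e3 e4).1 ((stab4_le_iff hUG).2 ⟨ha, hb, hc', hd⟩ hx)
  rw [hG.card_stab4 h0 h'] at hc
  have hc2 : Nat.card U' = l ^ (Nat.card (stab4 G a' b' c' d')).factorization l := by
    rw [← hc]; exact Subgroup.card_map_of_injective (MulAut.conj g).injective
  obtain ⟨k, hk, hkU⟩ := exists_conj_full hle' hle hc2 hc
  obtain ⟨hkG, k1, k2, k3, k4⟩ := hk
  refine ⟨k * g, ⟨G.mul_mem hkG hg, (Subgroup.mem_normalizer_iff).2 fun x => ?_⟩,
    by simp [e1, k1], by simp [e2, k2], by simp [e3, k3], by simp [e4, k4]⟩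
  have hx : x ∈ U ↔ g * x * g⁻¹ ∈ U' :=
    ⟨fun hx => ⟨x, hx, rfl⟩, fun ⟨y, hy, e⟩ => by
      have e' : g * y * g⁻¹ = g * x * g⁻¹ := e
      rwa [mul_left_cancel (mul_right_cancel e')] at hy⟩
  rw [hx, hkU, show k * (g * x * g⁻¹) * k⁻¹ = k * g * x * (k * g)⁻¹ by group]

theorem modEq_one_or_zero {l : ℕ} [Fact l.Prime] {Q : Subgroup (Perm α)} (hQ : IsPGroup l Q)
    {L : Subgroup (Perm α)} (hQL : Q ≤ L) (y : α) (fixed : Set α)
    (hfix : ∀ x ∈ MulAction.orbit L y, (∀ q ∈ Q, q x = x) ↔ x ∈ fixed) :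
    Nat.card (MulAction.orbit L y) ≡ Nat.card (fixed ∩ MulAction.orbit L y : Set α) [MOD l] := by
  let S : SubMulAction Q α :=
    { carrier := MulAction.orbit L y
      smul_mem' := by
        rintro q _ ⟨g, rfl⟩
        exact ⟨⟨q, hQL q.2⟩ * g, mul_smul _ _ _⟩ }
  have h := hQ.card_modEq_card_fixedPoints (α := S)
  have e : Nat.card (MulAction.fixedPoints Q S) = Nat.card (fixed ∩ MulAction.orbit L y : Set α) := by
    refine Nat.card_congr ⟨fun z => ⟨((z : S) : α), ?_, (z : S).2⟩,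
      fun w => ⟨⟨(w : α), w.2.2⟩, fun q => Subtype.ext ?_⟩, fun _ => rfl, fun _ => rfl⟩
    · exact (hfix _ (z : S).2).1 fun q hq => congrArg Subtype.val (z.2 ⟨q, hq⟩)
    · exact (hfix _ w.2.2).2 w.2.1 q q.2
  rwa [e] at h

/-- Gleason's criterion. -/
theorem transOn_of_moved {l : ℕ} [Fact l.Prime] {U : Subgroup (Perm α)}
    (hf : 5 ≤ (fixPts U).card)
    (hQ : ∀ ⦃a b c d : α⦄, D4 a b c d → a ∈ fixPts U → b ∈ fixPts U → c ∈ fixPts U → d ∈ fixPts U →
      ∃ Q : Subgroup (Perm α), IsPGroup l Q ∧ Q ≤ G ⊓ normalizer (U : Set (Perm α)) ∧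
        Q ≤ stab4 G a b c d ∧
        ∀ y ∈ fixPts U, (∀ q ∈ Q, q y = y) → y = a ∨ y = b ∨ y = c ∨ y = d) :
    TransOn G U := by
  classical
  set F := fixPts U with hF
  set N := G ⊓ normalizer (U : Set (Perm α)) with hN
  -- fixing three points
  have move : ∀ S : Finset α, S ⊆ F → S.card ≤ 3 → ∀ y ∈ F, y ∉ S → ∀ z ∈ F, z ∉ S →
      ∃ g ∈ N, (∀ x ∈ S, g x = x) ∧ g y = z := by
    intro S hS hScard y hy hyS z hz hzS
    by_cases hyz : y = z
    · exact ⟨1, N.one_mem, fun _ _ => rfl, hyz⟩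
    obtain ⟨T, hST, hTsub, hTcard⟩ := Finset.exists_subsuperset_card_eq
      (s := S) (t := F \ {y, z}) (n := 3)
      (by
        intro x hx
        simp only [Finset.mem_sdiff, Finset.mem_insert, Finset.mem_singleton]
        exact ⟨hS hx, fun e => e.elim (fun e => hyS (e ▸ hx)) (fun e => hzS (e ▸ hx))⟩)
      hScard (by rw [Finset.card_sdiff_of_subset (by simp [Finset.insert_subset_iff, hy, hz]),
        Finset.card_pair hyz]; omega)
    have hTF : ∀ x ∈ T, x ∈ F ∧ x ≠ y ∧ x ≠ z := fun x hx => by simpa using hTsub hx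
    obtain ⟨t1, t2, t3, h12, h13, h23, rfl⟩ := Finset.card_eq_three.1 hTcard
    obtain ⟨f1, y1, z1⟩ := hTF t1 (by simp)
    obtain ⟨f2, y2, z2⟩ := hTF t2 (by simp)
    obtain ⟨f3, y3, z3⟩ := hTF t3 (by simp)
    let L : Subgroup (Perm α) :=
      { carrier := {g | g ∈ N ∧ g t1 = t1 ∧ g t2 = t2 ∧ g t3 = t3}
        one_mem' := ⟨N.one_mem, rfl, rfl, rfl⟩
        mul_mem' := by
          rintro g h ⟨hg, g1, g2, g3⟩ ⟨hh, h1, h2, h3⟩
          exact ⟨N.mul_mem hg hh, by simp [h1, g1], by simp [h2, g2], by simp [h3, g3]⟩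
        inv_mem' := by
          rintro g ⟨hg, g1, g2, g3⟩
          exact ⟨N.inv_mem hg, Perm.inv_eq_iff_eq.2 g1.symm, Perm.inv_eq_iff_eq.2 g2.symm,
            Perm.inv_eq_iff_eq.2 g3.symm⟩ }
    have horb : ∀ x ∈ MulAction.orbit L y, x ∈ F ∧ x ≠ t1 ∧ x ≠ t2 ∧ x ≠ t3 := by
      rintro _ ⟨⟨g, hg, g1, g2, g3⟩, rfl⟩
      refine ⟨apply_mem_fixPts hg.2 hy, ?_, ?_, ?_⟩
      · exact fun e => y1 (g.injective (g1.trans e.symm))
      · exact fun e => y2 (g.injective (g2.trans e.symm))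
      · exact fun e => y3 (g.injective (g3.trans e.symm))
    have count : ∀ w ∈ F, w ≠ t1 → w ≠ t2 → w ≠ t3 →
        Nat.card (MulAction.orbit L y) ≡
          Nat.card (({w} : Set α) ∩ MulAction.orbit L y : Set α) [MOD l] := by
      intro w hw w1 w2 w3
      obtain ⟨Q, hQp, hQN, hQs, hQfix⟩ :=
        hQ (a := t1) (b := t2) (c := t3) (d := w) ⟨h12, h13, w1.symm, h23, w2.symm, w3.symm⟩ f1 f2 f3 hw
      have hQL : Q ≤ L := fun q hq => ⟨hQN hq, (hQs hq).2.1, (hQs hq).2.2.1, (hQs hq).2.2.2.1⟩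
      refine modEq_one_or_zero hQp hQL y {w} fun x hx => ⟨fun h => ?_, ?_⟩
      · obtain ⟨hxF, x1, x2, x3⟩ := horb x hx
        rcases hQfix x hxF h with e | e | e | e
        exacts [absurd e x1, absurd e x2, absurd e x3, e]
      · rintro rfl q hq; exact (hQs hq).2.2.2.2
    have hzo : z ∈ MulAction.orbit L y := by
      by_contra hzo
      have c1 := count y hy (Ne.symm y1) (Ne.symm y2) (Ne.symm y3)
      have c2 := count z hz (Ne.symm z1) (Ne.symm z2) (Ne.symm z3)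
      have e1 : ({y} : Set α) ∩ MulAction.orbit L y = {y} :=
        Set.inter_eq_left.2 (Set.singleton_subset_iff.2 (MulAction.mem_orbit_self y))
      have e2 : ({z} : Set α) ∩ MulAction.orbit L y = ∅ := Set.singleton_inter_eq_empty.2 hzo
      rw [e1] at c1
      rw [e2] at c2
      have h10 := c1.symm.trans c2
      rw [Nat.card_unique, Nat.card_eq_zero.2 (Or.inl inferInstance), Nat.modEq_zero_iff_dvd] at h10
      exact (Fact.out : l.Prime).ne_one (Nat.dvd_one.1 h10)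
    obtain ⟨⟨g, hg, g1, g2, g3⟩, e⟩ := hzo
    refine ⟨g, hg, fun x hx => ?_, e⟩
    have hx' := hST hx
    simp only [Finset.mem_insert, Finset.mem_singleton] at hx'
    rcases hx' with rfl | rfl | rfl <;> assumption
  intro a b c d a' b' c' d' h h' ha hb hc hd ha' hb' hc' hd'
  obtain ⟨g1, hg1, -, e1⟩ := move ∅ (by simp) (by simp) a ha (by simp) a' ha' (by simp)
  obtain ⟨g2, hg2, f2, e2⟩ := move {a'} (Finset.singleton_subset_iff.2 ha') (by simp) (g1 b)
    (apply_mem_fixPts hg1.2 hb) (by simp [← e1, h.1.symm]) b' hb' (by simp [h'.1.symm])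
  obtain ⟨g3, hg3, f3, e3⟩ := move {a', b'}
    (Finset.insert_subset ha' (Finset.singleton_subset_iff.2 hb'))
    (by exact Finset.card_le_two.trans (by norm_num)) (g2 (g1 c))
    (apply_mem_fixPts hg2.2 (apply_mem_fixPts hg1.2 hc))
    (by
      have : a' = g2 (g1 a) := by rw [e1, f2 a' (by simp)]
      simp [this, ← e2, h.2.1.symm, h.2.2.2.1.symm])
    c' hc' (by simp [h'.2.1.symm, h'.2.2.2.1.symm])
  have a3 : g3 (g2 (g1 a)) = a' := by rw [e1, f2 a' (by simp), f3 a' (by simp)]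
  have b3 : g3 (g2 (g1 b)) = b' := by rw [e2, f3 b' (by simp)]
  obtain ⟨g4, hg4, f4, e4⟩ := move {a', b', c'}
    (Finset.insert_subset ha' (Finset.insert_subset hb' (Finset.singleton_subset_iff.2 hc')))
    Finset.card_le_three (g3 (g2 (g1 d)))
    (apply_mem_fixPts hg3.2 (apply_mem_fixPts hg2.2 (apply_mem_fixPts hg1.2 hd)))
    (by simp [← a3, ← b3, ← e3, h.2.2.1.symm, h.2.2.2.2.1.symm, h.2.2.2.2.2.symm])
    d' hd' (by simp [h'.2.2.1.symm, h'.2.2.2.2.1.symm, h'.2.2.2.2.2.symm])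
  refine ⟨g4 * g3 * g2 * g1, N.mul_mem (N.mul_mem (N.mul_mem hg4 hg3) hg2) hg1, ?_, ?_, ?_, ?_⟩ <;>
    simp only [Perm.mul_apply]
  · rw [a3, f4 a' (by simp)]
  · rw [b3, f4 b' (by simp)]
  · rw [e3, f4 c' (by simp)]
  · exact e4

end Cfsg.Agent.Invol.HallFour
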