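import Cfsg.Agent.Lib.Invol.HallFourCount
import Cfsg.Agent.Lib.Invol.HallFourInduced

/-!
The four-point stabilisers preserve the fixed points of the involutions interchanging the pairs.
-/

set_option autoImplicit false
set_option linter.style.haveILetI false
set_option linter.unusedSectionVars false

namespace Cfsg.Agent.Invol.HallFour

open Subgroup Equiv

universe u

variable {α : Type u} [Fintype α] [DecidableEq α] {G : Subgroup (Perm α)}

theorem apply_mem_fx_of_commute {u t : Perm α} (h : u * t = t * u) {y : α} (hy : y ∈ fx t) :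
    u y ∈ fx t := by
  rw [mem_fx] at hy ⊢
  rw [← Perm.mul_apply, ← h, Perm.mul_apply, hy]

theorem exists_quad {S : Finset α} (hS : 4 ≤ S.card) :
    ∃ a b c d, D4 a b c d ∧ a ∈ S ∧ b ∈ S ∧ c ∈ S ∧ d ∈ S := by
  obtain ⟨T, hT, hcard⟩ := Finset.exists_subset_card_eq hS
  let e := (T.equivFinOfCardEq hcard).symm
  have hs : Function.Injective fun i => ((e i : T) : α) := fun i j h => e.injective (Subtype.ext h)
  exact ⟨_, _, _, _, d4_of_injective hs, hT (e 0).2, hT (e 1).2, hT (e 2).2, hT (e 3).2⟩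

theorem fixPts_card_lt {U : Subgroup (Perm α)} (hU : U ≠ ⊥) :
    (fixPts U).card < Fintype.card α := by
  obtain ⟨x, hx⟩ : ∃ x, x ∉ fixPts U := by
    by_contra! h
    exact hU ((Subgroup.eq_bot_iff_forall U).2 fun u hu =>
      Equiv.ext fun x => mem_fixPts.1 (h x) u hu)
  exact Finset.card_lt_univ_of_notMem hx

namespace Kit

variable {a b c d : α} (k : Kit G a b c d)

theorem CA'C : k.C * k.A' * k.C = k.A := by
  rw [← k.CAC]
  calc k.C * (k.C * k.A * k.C) * k.C = (k.C * k.C) * k.A * (k.C * k.C) := by group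
    _ = k.A := by rw [k.C_sq, one_mul, mul_one]

theorem CB_comm : k.B * k.C = k.C * k.B := by
  have : k.C * k.B * k.C = k.B := by
    calc k.C * k.B * k.C = k.C * k.A * (k.C * k.C) * k.A' * k.C := by
          rw [B, k.C_sq, mul_one, mul_assoc k.C k.A k.A']
      _ = (k.C * k.A * k.C) * (k.C * k.A' * k.C) := by group
      _ = k.A' * k.A := by rw [k.CAC, k.CA'C]
      _ = k.B := k.comm.symm
  calc k.B * k.C = k.C * k.B * k.C * k.C := by rw [this]
    _ = k.C * k.B := by rw [mul_assoc, k.C_sq, mul_one]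

theorem A_B_comm : k.A * k.B = k.B * k.A := by
  rw [k.BA, B, ← mul_assoc, k.A_sq, one_mul]

theorem ACA : k.A * k.C * k.A = k.B * k.C := by
  have h : k.A * k.C = k.C * k.A' := by
    rw [← k.CAC, ← mul_assoc, ← mul_assoc, k.C_sq, one_mul]
  rw [h, k.CB_comm, B, k.comm, mul_assoc]

theorem normalizes {P : Subgroup (Perm α)} (hP : k.T ≤ normalizer (P : Set (Perm α))) {t : Perm α}
    (ht : t ∈ k.T) : ∀ u ∈ P, t * u * t⁻¹ ∈ P :=
  fun u hu => ((Subgroup.mem_normalizer_iff).1 (hP ht) u).1 hu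

end Kit

namespace Hyp

variable (hG : Hyp G)
include hG

theorem even_fixPts (hn : 6 ≤ Fintype.card α) (he : Even (Fintype.card α)) {U : Subgroup (Perm α)}
    (hT : TransOn G U) (hf : 5 ≤ (fixPts U).card) : Even (fixPts U).card := by
  by_contra hodd
  obtain ⟨a, b, c, d, hD, ha, hb, hc, hd⟩ := exists_quad (show 4 ≤ (fixPts U).card by omega)
  have hD' : D4 b a c d :=
    ⟨hD.1.symm, hD.2.2.2.1, hD.2.2.2.2.1, hD.2.1, hD.2.2.1, hD.2.2.2.2.2⟩
  obtain ⟨g, hg, g1, g2, g3, g4⟩ := hT hD hD' ha hb hc hd hb ha hc hd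
  obtain ⟨t, ht, t2, ta, -, tc, td⟩ := hG.exists_involutive hD hg.1 (by rw [g1, g2]) (by rw [g2, g1])
    (by rw [g3, g3]) (by rw [g4, g4])
  have htN : t ∈ G ⊓ normalizer (U : Set (Perm α)) := zpowers_le.2 hg ht
  have hpar := card_filter_mod_two t2 (fixPts U) fun y hy => apply_mem_fixPts htN.2 hy
  have h1 : ((fixPts U).filter fun y => t y = y).card ≤ (fx t).card :=
    Finset.card_le_card fun y hy => mem_fx.2 (Finset.mem_filter.1 hy).2
  have h2 : 2 ≤ ((fixPts U).filter fun y => t y = y).card := by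
    rw [← Finset.card_pair hD.2.2.2.2.2]
    exact Finset.card_le_card (Finset.insert_subset (Finset.mem_filter.2 ⟨hc, tc.trans g3⟩)
      (Finset.singleton_subset_iff.2 (Finset.mem_filter.2 ⟨hd, td.trans g4⟩)))
  have h3 := hG.card_fx hn htN.1 t2 (fun e => hD.1 (by rw [← g1, ← ta, e, Perm.one_apply]))
  rw [if_pos he] at h3
  rw [Nat.even_iff] at hodd
  omega

/-- For even degree the stabilisers fix the fixed points of the associated involutions. -/
theorem pres_even (hn : 6 ≤ Fintype.card α) (he : Even (Fintype.card α))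
    (IH : ∀ (β : Type u) [Fintype β] [DecidableEq β] (K : Subgroup (Perm β)), Hyp K →
      Fintype.card β < Fintype.card α → 6 ≤ Fintype.card β → Even (Fintype.card β) →
        Fintype.card β = 6) :
    Pres G := by
  classical
  intro a b c d hD
  obtain ⟨k⟩ := hG.exists_kit hD
  refine hG.pres_of_one hD k.B_memG k.B_sq k.Ba k.Bc ?_
  suffices hmain : stab4 G a b c d ≤ stab4 G a b c d ⊓ fixSet (fx k.B) by
    intro h hh y hy
    rw [(hmain hh).2 y (mem_fx.2 hy), hy]
  refine le_of_full inf_le_left fun l hl hdvd => ?_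
  haveI : Fact l.Prime := ⟨hl⟩
  have hl2 : l ≠ 2 := by
    rintro rfl
    exact Nat.not_even_iff_odd.2 (hG.odd_card a b c d hD) (even_iff_two_dvd.2 hdvd)
  obtain ⟨P, hPH, hPl, hPc, hPT⟩ := exists_invariant_full (p := l) k.two k.normal (hG.odd_card a b c d hD)
  refine ⟨P, le_inf hPH ?_, hPc⟩
  have hPne : P ≠ ⊥ := by
    intro e
    rw [e, Subgroup.card_bot] at hPc
    exact (Nat.one_lt_pow (hl.factorization_pos_of_dvd Nat.card_pos.ne' hdvd).ne' hl.one_lt).ne hPc
  have hr : ∀ {t : Perm α}, t ∈ G → t * t = 1 → t ≠ 1 → (fx t).card = 2 := fun h1 h2 h3 => by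
    rw [hG.card_fx hn h1 h2 h3, if_pos he]
  have haP : a ∈ fixPts P := mem_fixPts.2 fun u hu => (hPH hu).2.1
  by_cases hf : 5 ≤ (fixPts P).card
  · have hT := hG.transOn_full hD hPH hPc
    have hfe := hG.even_fixPts hn he hT hf
    have hB := hG.card_fixed_in hT (by rw [Nat.even_iff] at hfe; omega) k.B_memG (hPT k.B_mem)
      k.B_sq haP (by rw [k.Ba]; exact hD.1.symm)
    rw [if_pos hfe] at hB
    have hsub : (fixPts P).filter (fun y => k.B y = y) = fx k.B :=
      Finset.eq_of_subset_of_card_le (fun y hy => mem_fx.2 (Finset.mem_filter.1 hy).2)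
        (by rw [hB, hr k.B_memG k.B_sq (k.B_ne hD)])
    intro u hu y hy
    rw [← hsub] at hy
    exact mem_fixPts.1 (Finset.mem_filter.1 hy).1 u hu
  exfalso
  have hPG : P ≤ G := fun u hu => (hPH hu).1
  -- a nontrivial subgroup with at least five fixed points
  obtain ⟨v, hv, v2, vm, u, huP, hu1, huv⟩ : ∃ v ∈ G, v * v = 1 ∧
      (v a ≠ a ∧ v b ≠ b ∧ v c ≠ c ∧ v d ≠ d) ∧ ∃ u ∈ P, u ≠ 1 ∧ u * v = v * u := by
    obtain ⟨u, hu, hu1⟩ := (Subgroup.ne_bot_iff_exists_ne_one.1 hPne)|> fun ⟨⟨u, hu⟩, h⟩ =>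
      (⟨u, hu, fun e => h (Subtype.ext e)⟩ : ∃ u ∈ P, u ≠ 1)
    obtain ⟨x1, x2, x3, m1, m2, m3, c1, c2, c3, e⟩ := decomposition_subgroup hl2 hPl k.B_sq k.C_sq
      k.CB_comm (k.normalizes hPT k.B_mem) (k.normalizes hPT k.C_mem) hu
    obtain ⟨n1, n2, n3, n4, n5, n6⟩ := hD
    have Cc : k.C c = a := swap_apply k.C_sq k.Ca
    have Cd : k.C d = b := swap_apply k.C_sq k.Cb
    have Bb : k.B b = a := swap_apply k.B_sq k.Ba
    have Bd : k.B d = c := swap_apply k.B_sq k.Bc
    by_cases h2 : x2 = 1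
    · by_cases h3 : x3 = 1
      · refine ⟨k.B * k.C, G.mul_mem k.B_memG k.C_memG, ?_, ?_, x1, m1, ?_, c1⟩
        · calc k.B * k.C * (k.B * k.C) = k.B * (k.C * k.B) * k.C := by group
            _ = k.B * k.B * (k.C * k.C) := by rw [← k.CB_comm]; group
            _ = 1 := by rw [k.B_sq, k.C_sq, one_mul]
        · simp only [Perm.mul_apply, k.Ca, k.Cb, Cc, Cd, k.Ba, Bb, k.Bc, Bd]
          exact ⟨n3.symm, n4.symm, n4, n3⟩
        · rintro rfl
          exact hu1 (by rw [e, h2, h3, one_mul, one_mul])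
      · refine ⟨k.C, k.C_memG, k.C_sq, ?_, x3, m3, h3, c3⟩
        rw [k.Ca, k.Cb, Cc, Cd]
        exact ⟨n2.symm, n5.symm, n2, n5⟩
    · refine ⟨k.B, k.B_memG, k.B_sq, ?_, x2, m2, h2, c2⟩
      rw [k.Ba, Bb, k.Bc, Bd]
      exact ⟨n1.symm, n1, n6.symm, n6⟩
  have hU6 : 5 ≤ (fixPts (zpowers u)).card := by
    obtain ⟨va, vb, vc, vd⟩ := vm
    have v1 : v ≠ 1 := fun e => va (by rw [e, Perm.one_apply])
    have huH := hPH huP
    have hsub : ({a, b, c, d} ∪ fx v : Finset α) ⊆ fixPts (zpowers u) := by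
      have hfu : ∀ y ∈ ({a, b, c, d} ∪ fx v : Finset α), u y = y := by
        intro y hy
        rcases Finset.mem_union.1 hy with hy | hy
        · simp only [Finset.mem_insert, Finset.mem_singleton] at hy
          obtain ⟨-, u1, u2, u3, u4⟩ := huH
          rcases hy with rfl | rfl | rfl | rfl <;> assumption
        · exact fixes_of_card_le_two (hG.odd_mem hD huH) (hr hv v2 v1).le
            (fun z hz => apply_mem_fx_of_commute huv hz) hy
      intro y hy
      rw [mem_fixPts]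
      intro w hw
      exact (zpowers_le.2 (show u ∈ fixSet {y} from fun z hz => by
        rw [Finset.mem_singleton.1 hz]; exact hfu y hy) hw) y (Finset.mem_singleton_self y)
    refine le_trans ?_ (Finset.card_le_card hsub)
    rw [Finset.card_union_of_disjoint]
    · have h4 : ({a, b, c, d} : Finset α).card = 4 := by
        obtain ⟨n1, n2, n3, n4, n5, n6⟩ := hD
        simp [n1, n2, n3, n4, n5, n6]
      rw [h4, hr hv v2 v1]
      omega
    · simp [Finset.disjoint_left, va, vb, vc, vd]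
  let S := {U : Subgroup (Perm α) | U ≤ G ∧ IsPGroup l U ∧ 5 ≤ (fixPts U).card}
  obtain ⟨R, hR, hmax⟩ := Set.Finite.exists_maximalFor (fun U : Subgroup (Perm α) => Nat.card U) S
    S.toFinite
    ⟨zpowers u, zpowers_le.2 (hPG huP), hPl.to_le (zpowers_le.2 huP), hU6⟩
  obtain ⟨hRG, hRl, hR5⟩ := hR
  have hmax' : ∀ U ∈ S, Nat.card U ≤ Nat.card R := fun U hU =>
    (le_total (Nat.card U) (Nat.card R)).elim id fun h => hmax hU h
  have hRne : R ≠ ⊥ := by
    intro e
    have h1 := hmax' (zpowers u) ⟨zpowers_le.2 (hPG huP), hPl.to_le (zpowers_le.2 huP), hU6⟩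
    rw [e, Subgroup.card_bot, Nat.card_zpowers] at h1
    exact hu1 (orderOf_eq_one_iff.1 (le_antisymm h1 (orderOf_pos u)))
  have hQ : ∀ ⦃p q r s : α⦄, D4 p q r s → p ∈ fixPts R → q ∈ fixPts R → r ∈ fixPts R → s ∈ fixPts R →
      ∃ Q : Subgroup (Perm α), IsPGroup l Q ∧ Q ≤ G ⊓ normalizer (R : Set (Perm α)) ∧
        Q ≤ stab4 G p q r s ∧
        ∀ y ∈ fixPts R, (∀ w ∈ Q, w y = y) → y = p ∨ y = q ∨ y = r ∨ y = s := by
    intro p q r s hD' hp hq hr' hs
    have hRs := (stab4_le_iff hRG).2 ⟨hp, hq, hr', hs⟩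
    obtain ⟨P', hP'H, hRP', hP'l, hP'c⟩ := exists_full_ge hRs hRl
    have hlt : R < P' := by
      refine lt_of_le_of_ne hRP' fun e => hf ?_
      obtain ⟨g, hg, g1, g2, g3, g4⟩ := hG.trans hD hD'
      set V := P.map (MulAut.conj g).toMonoidHom
      have hV : V ≤ stab4 G p q r s := by
        rintro _ ⟨w, hw, rfl⟩
        exact (hG.conj_stab4 hg g1 g2 g3 g4).1 (hPH hw)
      have hVc : Nat.card V = l ^ (Nat.card (stab4 G p q r s)).factorization l := by
        rw [← hG.card_stab4 hD hD', ← hPc]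
        exact Subgroup.card_map_of_injective (MulAut.conj g).injective
      obtain ⟨m, hm, hmV⟩ := exists_conj_full hRs hV (e ▸ hP'c) hVc
      refine hR5.trans (Finset.card_le_card_of_injOn (fun y => g⁻¹ (m y)) ?_
        (Set.injOn_of_injective (g⁻¹.injective.comp m.injective)))
      intro y hy
      rw [Finset.mem_coe, mem_fixPts] at hy ⊢
      intro w hw
      have hwV : g * w * g⁻¹ ∈ V := ⟨w, hw, rfl⟩
      have h1 : m⁻¹ * (g * w * g⁻¹) * m ∈ R := by
        rw [hmV]; simpa [mul_assoc] using hwV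
      have h2 := hy _ h1
      simp only [Perm.mul_apply, Perm.inv_eq_iff_eq] at h2
      rw [eq_comm, Perm.inv_eq_iff_eq, h2]
    refine ⟨P' ⊓ normalizer (R : Set (Perm α)), hP'l.to_le inf_le_left,
      inf_le_inf (fun w hw => (hP'H hw).1) le_rfl, inf_le_left.trans hP'H, ?_⟩
    intro y hy hfixy
    by_contra hcon
    simp only [not_or] at hcon
    obtain ⟨y1, y2, y3, y4⟩ := hcon
    haveI : Group.IsNilpotent P' := hP'l.isNilpotent
    have hnc : R.subgroupOf P' < normalizer (R.subgroupOf P' : Set P') :=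
      normalizerCondition_of_isNilpotent _ (lt_top_iff_ne_top.2 fun e =>
        hlt.not_ge (Subgroup.subgroupOf_eq_top.1 e))
    obtain ⟨w, hwN, hwR⟩ := SetLike.exists_of_lt hnc
    have hwN' : (w : Perm α) ∈ normalizer (R : Set (Perm α)) := by
      refine (Subgroup.mem_normalizer_iff).2 fun z => ⟨fun hz => ?_, fun hz => ?_⟩
      · exact ((Subgroup.mem_normalizer_iff).1 hwN ⟨z, hRP' hz⟩).1 hz
      · have hzP : z ∈ P' := by
          have := P'.mul_mem (P'.mul_mem (P'.inv_mem w.2) (hRP' hz)) w.2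
          simpa [mul_assoc] using this
        exact ((Subgroup.mem_normalizer_iff).1 hwN ⟨z, hzP⟩).2 hz
    set Q := P' ⊓ normalizer (R : Set (Perm α))
    have hRQ : R < Q := lt_of_le_of_ne (le_inf hRP' Subgroup.le_normalizer) fun e =>
      hwR (Subgroup.mem_subgroupOf.2 (e ▸ (⟨w.2, hwN'⟩ : (w : Perm α) ∈ Q)))
    have hQS : Q ∈ S := by
      refine ⟨fun w hw => (hP'H hw.1).1, hP'l.to_le inf_le_left, ?_⟩
      have hsub : ({y, p, q, r, s} : Finset α) ⊆ fixPts Q := by
        intro z hz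
        rw [mem_fixPts]
        intro w hw
        obtain ⟨-, w1, w2, w3, w4⟩ := hP'H hw.1
        simp only [Finset.mem_insert, Finset.mem_singleton] at hz
        rcases hz with rfl | rfl | rfl | rfl | rfl
        exacts [hfixy w hw, w1, w2, w3, w4]
      refine le_trans ?_ (Finset.card_le_card hsub)
      obtain ⟨n1, n2, n3, n4, n5, n6⟩ := hD'
      simp [y1, y2, y3, y4, n1, n2, n3, n4, n5, n6]
    exact hRQ.ne (Subgroup.eq_of_le_of_card_ge hRQ.le (hmax' Q hQS))
  have hT := transOn_of_moved hR5 hQ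
  have hfe := hG.even_fixPts hn he hT hR5
  have h6 : (fixPts R).card = 6 := by
    have := IH _ _ (hyp_range hG hT) (by rw [Fintype.card_coe]; exact fixPts_card_lt hRne)
      (by rw [Fintype.card_coe]; rw [Nat.even_iff] at hfe; omega) (by rwa [Fintype.card_coe])
    rwa [Fintype.card_coe] at this
  obtain ⟨p, q, r, s, hD', hp, hq, hr', hs⟩ := exists_quad (show 4 ≤ (fixPts R).card by omega)
  obtain ⟨Q, -, hQN, hQs, hQfix⟩ := hQ hD' hp hq hr' hs
  have hsub : ({p, q, r, s} : Finset α) ⊆ fixPts R := by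
    simp only [Finset.insert_subset_iff, Finset.singleton_subset_iff]
    exact ⟨hp, hq, hr', hs⟩
  set rest := fixPts R \ {p, q, r, s} with hrest
  have h2 : rest.card = 2 := by
    rw [hrest, Finset.card_sdiff_of_subset hsub, h6]
    obtain ⟨n1, n2, n3, n4, n5, n6⟩ := hD'
    simp [n1, n2, n3, n4, n5, n6]
  obtain ⟨y, hy⟩ := Finset.card_pos.1 (by rw [h2]; norm_num : 0 < rest.card)
  have hyF := (Finset.mem_sdiff.1 hy).1
  refine (Finset.mem_sdiff.1 hy).2 ?_
  have := hQfix y hyF fun w hw => fixes_of_card_le_two (hG.odd_mem hD' (hQs hw)) h2.le ?_ hy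
  · simpa using this
  intro z hz
  obtain ⟨hz1, hz2⟩ := Finset.mem_sdiff.1 hz
  refine Finset.mem_sdiff.2 ⟨apply_mem_fixPts (hQN hw).2 hz1, ?_⟩
  obtain ⟨-, w1, w2, w3, w4⟩ := hQs hw
  simp only [Finset.mem_insert, Finset.mem_singleton] at hz2 ⊢
  rintro (e | e | e | e)
  · exact hz2 (Or.inl (w.injective (e.trans w1.symm)))
  · exact hz2 (Or.inr (Or.inl (w.injective (e.trans w2.symm))))
  · exact hz2 (Or.inr (Or.inr (Or.inl (w.injective (e.trans w3.symm)))))
  · exact hz2 (Or.inr (Or.inr (Or.inr (w.injective (e.trans w4.symm)))))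

/-- The centralising step when the stabilisers have only five fixed points. -/
theorem conj_eq {a b c d x : α} (hD : D4 a b c d)
    (hU : ∀ ⦃p q r s : α⦄, D4 p q r s → ∀ t ∈ G, t * t = 1 → t p = q → t r = r → t s = s →
      ∀ y, t y = y → y ≠ r → y ≠ s → ∀ h ∈ stab4 G p q r s, h y = y)
    (h5 : ∀ ⦃p q r s : α⦄, D4 p q r s → (fixPts (stab4 G p q r s)).card ≤ 5)
    {A : Perm α} (hA : A ∈ G) (A2 : A * A = 1) (Aa : A a = b) (Ac : A c = c) (Ad : A d = d)
    (Ax : A x = x) (hfx : fx A ⊆ {c, d, x}) (hxc : x ≠ c) (hxd : x ≠ d)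
    {h : Perm α} (hh : h ∈ stab4 G a b c d) (hhx : h x = x) : h * A = A * h := by
  obtain ⟨hhG, h1, h2, h3, h4⟩ := hh
  set A' := h * A * h⁻¹ with hA'
  have hA'G : A' ∈ G := G.mul_mem (G.mul_mem hhG hA) (G.inv_mem hhG)
  have hA'2 : A' * A' = 1 := by
    rw [show A' * A' = h * (A * A) * h⁻¹ by simp only [A']; group, A2, mul_one, mul_inv_cancel]
  have hA'fix : ∀ {z}, h z = z → A' z = h (A z) := fun {z} hz => by
    rw [hA', Perm.mul_apply, Perm.mul_apply, Perm.inv_eq_iff_eq.2 hz.symm]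
  have hfix' : ∀ z, A' z = z → z = c ∨ z = d ∨ z = x := by
    intro z hz
    have h0 : h⁻¹ z ∈ fx A := by rw [← fx_conj, ← hA', mem_fx]; exact hz
    have h7 := hfx h0
    simp only [Finset.mem_insert, Finset.mem_singleton, Perm.inv_eq_iff_eq, h3, h4, hhx] at h7
    exact h7
  suffices A' = A by
    calc h * A = h * A * h⁻¹ * h := by group
      _ = A * h := by rw [← hA', this]
  refine Equiv.ext fun p => ?_
  by_cases hpA : A p = p
  · have := hfx (mem_fx.2 hpA)
    simp only [Finset.mem_insert, Finset.mem_singleton] at this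
    rcases this with rfl | rfl | rfl
    · rw [hA'fix h3, Ac, h3]
    · rw [hA'fix h4, Ad, h4]
    · rw [hA'fix hhx, Ax, hhx]
  by_cases hpa : p = a
  · rw [hpa, hA'fix h1, Aa, h2]
  by_cases hpb : p = b
  · rw [hpb, hA'fix h2, swap_apply A2 Aa, h1]
  have hpc : p ≠ c := fun e => hpA (by rw [e, Ac])
  have hpd : p ≠ d := fun e => hpA (by rw [e, Ad])
  have hpx : p ≠ x := fun e => hpA (by rw [e, Ax])
  have hDx : D4 p x c d := ⟨hpx, hpc, hpd, hxc, hxd, hD.2.2.2.2.2⟩
  have hA'p : A' p ≠ p := fun e => by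
    rcases hfix' p e with e' | e' | e' <;> contradiction
  have step : ∀ t ∈ G, t * t = 1 → t c = c → t d = d → t x = x → t p ≠ p →
      t p ∈ fixPts (stab4 G p x c d) ∧ t p ≠ p ∧ t p ≠ x ∧ t p ≠ c ∧ t p ≠ d := by
    intro t ht t2 tc td tx tp
    have e1 : t p ≠ c := fun e => hpc (t.injective (e.trans tc.symm))
    have e2 : t p ≠ d := fun e => hpd (t.injective (e.trans td.symm))
    have e3 : t p ≠ x := fun e => hpx (t.injective (e.trans tx.symm))
    refine ⟨mem_fixPts.2 fun w hw => ?_, tp, e3, e1, e2⟩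
    have hDt : D4 p (t p) c d := ⟨Ne.symm tp, hpc, hpd, e1, e2, hD.2.2.2.2.2⟩
    have hle : stab4 G p (t p) c d ≤ stab4 G p x c d := fun z hz =>
      ⟨hz.1, hz.2.1, hU hDt t ht t2 rfl tc td x tx hxc hxd z hz, hz.2.2.2.1, hz.2.2.2.2⟩
    rw [← hG.eq_stab4 hDt hDx hle] at hw
    exact hw.2.2.1
  obtain ⟨f1, q1, q2, q3, q4⟩ := step A hA A2 Ac Ad Ax hpA
  obtain ⟨f2, r1, r2, r3, r4⟩ := step A' hA'G hA'2 (by rw [hA'fix h3, Ac, h3])
    (by rw [hA'fix h4, Ad, h4]) (by rw [hA'fix hhx, Ax, hhx]) hA'p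
  by_contra hne
  have hsub : ({A' p, A p, p, x, c, d} : Finset α) ⊆ fixPts (stab4 G p x c d) := by
    intro z hz
    simp only [Finset.mem_insert, Finset.mem_singleton] at hz
    rcases hz with rfl | rfl | rfl | rfl | rfl | rfl
    · exact f2
    · exact f1
    all_goals rw [mem_fixPts]; intro w hw
    exacts [hw.2.1, hw.2.2.1, hw.2.2.2.1, hw.2.2.2.2]
  have h6 : ({A' p, A p, p, x, c, d} : Finset α).card = 6 := by
    simp [hne, q1, q2, q3, q4, r1, r2, r3, r4, hpx, hpc, hpd, hxc, hxd, hD.2.2.2.2.2]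
  have := (Finset.card_le_card hsub).trans (h5 hDx)
  omega

/-- For odd degree the stabilisers preserve the fixed points of the associated involutions. -/
theorem pres_odd (hn : 6 ≤ Fintype.card α) (ho : ¬ Even (Fintype.card α)) : Pres G := by
  classical
  intro a b c d hD
  obtain ⟨k⟩ := hG.exists_kit hD
  refine hG.pres_of_one hD k.B_memG k.B_sq k.Ba k.Bc ?_
  obtain ⟨n1, n2, n3, n4, n5, n6⟩ := id hD
  have hr : ∀ {t : Perm α}, t ∈ G → t * t = 1 → t ≠ 1 → (fx t).card = 3 := fun h1 h2 h3 => by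
    rw [hG.card_fx hn h1 h2 h3, if_neg ho]
  -- the third fixed point of `A`
  obtain ⟨x, hxA, hxc, hxd⟩ : ∃ x, k.A x = x ∧ x ≠ c ∧ x ≠ d := by
    by_contra! h
    have : (fx k.A).card ≤ ({c, d} : Finset α).card := Finset.card_le_card fun y hy => by
      simp only [Finset.mem_insert, Finset.mem_singleton]
      exact or_iff_not_imp_left.2 (h y (mem_fx.1 hy))
    rw [hr k.A_memG k.A_sq (k.A_ne hD)] at this
    have := this.trans Finset.card_le_two
    omega
  have hxa : x ≠ a := fun e =>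
    n1 (e.symm.trans (hxA.symm.trans ((congrArg k.A e).trans k.Aa)))
  have hxb : x ≠ b := fun e =>
    n1 (k.Ab.symm.trans ((congrArg k.A e).symm.trans (hxA.trans e)))
  have hxA' := k.A'_fix hG hD hxA hxc hxd
  have hxB : k.B x = x := k.B_fix hG hD hxA hxc hxd
  have hAeq : fx k.A = {c, d, x} := by
    refine (Finset.eq_of_subset_of_card_le ?_ ?_).symm
    · simp [Finset.insert_subset_iff, k.Ac, k.Ad, hxA]
    · rw [hr k.A_memG k.A_sq (k.A_ne hD)]; simp [n6, hxc.symm, hxd.symm]
  have hA'1 : k.A' ≠ 1 := fun e => n6 (by rw [← k.A'c, e, Perm.one_apply])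
  have hA'eq : fx k.A' = {a, b, x} := by
    refine (Finset.eq_of_subset_of_card_le ?_ ?_).symm
    · simp [Finset.insert_subset_iff, k.A'a, k.A'b, hxA']
    · rw [hr k.A'_memG k.A'_sq hA'1]; simp [n1, hxa.symm, hxb.symm]
  have hxC : k.C x = x := by
    have h1 : k.C x ∈ fx k.A' := by
      rw [mem_fx, ← k.CAC, Perm.mul_apply, Perm.mul_apply, apply_apply k.C_sq, hxA]
    rw [hA'eq] at h1
    simp only [Finset.mem_insert, Finset.mem_singleton] at h1
    rcases h1 with e | e | e
    · exact absurd (k.C.injective (e.trans (swap_apply k.C_sq k.Ca).symm)) hxc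
    · exact absurd (k.C.injective (e.trans (swap_apply k.C_sq k.Cb).symm)) hxd
    · exact e
  have hX3 := hr k.B_memG k.B_sq (k.B_ne hD)
  set H := stab4 G a b c d with hH
  -- centralisers
  have cA : ∀ u ∈ H, u * k.A = k.A * u → u x = x := fun u hu h =>
    fixes_of_card_le_three (hG.odd_mem hD hu) (hr k.A_memG k.A_sq (k.A_ne hD)).le
      (fun z hz => apply_mem_fx_of_commute h hz) (mem_fx.2 k.Ac) hu.2.2.2.1 (mem_fx.2 hxA)
  have cA' : ∀ u ∈ H, u * k.A' = k.A' * u → u x = x := fun u hu h =>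
    fixes_of_card_le_three (hG.odd_mem hD hu) (hr k.A'_memG k.A'_sq hA'1).le
      (fun z hz => apply_mem_fx_of_commute h hz) (mem_fx.2 k.A'a) hu.2.1 (mem_fx.2 hxA')
  let HX : Subgroup (Perm α) :=
    { carrier := {g | g ∈ H ∧ ∀ y, k.B (g y) = g y ↔ k.B y = y}
      one_mem' := ⟨H.one_mem, fun _ => Iff.rfl⟩
      mul_mem' := by
        rintro g h ⟨hg, g1⟩ ⟨hh, h1⟩
        exact ⟨H.mul_mem hg hh, fun y => (g1 (h y)).trans (h1 y)⟩
      inv_mem' := by
        rintro g ⟨hg, g1⟩
        exact ⟨H.inv_mem hg, fun y => by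
          have h0 := g1 (g⁻¹ y); rw [apply_inv_self] at h0; exact h0.symm⟩ }
  suffices hmain : H ≤ HX by
    intro h hh y hy
    exact ((hmain hh).2 y).2 hy
  have mkHX : ∀ u ∈ H, (∀ y ∈ fx k.B, u y ∈ fx k.B) → u ∈ HX := by
    intro u hu h
    refine ⟨hu, fun y => ⟨fun hy => ?_, fun hy => mem_fx.1 (h y (mem_fx.2 hy))⟩⟩
    have him : (fx k.B).image u = fx k.B := Finset.eq_of_subset_of_card_le
      (Finset.image_subset_iff.2 h) (Finset.card_image_of_injective _ u.injective).ge
    have hy' := mem_fx.2 hy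
    rw [← him, Finset.mem_image] at hy'
    obtain ⟨z, hz, e⟩ := hy'
    rw [← u.injective e]; exact mem_fx.1 hz
  have odd_prime : ∀ l : ℕ, l.Prime → l ∣ Nat.card H → l ≠ 2 := by
    rintro l hl hdvd rfl
    exact Nat.not_even_iff_odd.2 (hG.odd_card a b c d hD) (even_iff_two_dvd.2 hdvd)
  by_cases hcase : ∃ (l : ℕ) (P : Subgroup (Perm α)), l.Prime ∧ l ∣ Nat.card H ∧ P ≤ H ∧ IsPGroup l P ∧
      Nat.card P = l ^ (Nat.card H).factorization l ∧ k.T ≤ normalizer (P : Set (Perm α)) ∧
      ∃ u ∈ P, u x ≠ x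
  · obtain ⟨l, P, hl, hdvd, hPH, hPl, hPc, hPT, u₀, hu₀, hu₀x⟩ := hcase
    haveI : Fact l.Prime := ⟨hl⟩
    let O : Finset α := Finset.univ.filter fun y => ∃ u ∈ P, u x = y
    have hO : ∀ y, y ∈ O ↔ ∃ u ∈ P, u x = y := fun y => by simp [O]
    have hxO : x ∈ O := (hO x).2 ⟨1, P.one_mem, rfl⟩
    have hOX : O ⊆ fx k.B := by
      intro y hy
      obtain ⟨u, hu, rfl⟩ := (hO y).1 hy
      obtain ⟨x1, x2, x3, m1, m2, m3, c1, c2, c3, rfl⟩ := decomposition_subgroup (odd_prime l hl hdvd)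
        hPl k.A_sq k.A'_sq k.comm (k.normalizes hPT k.A_mem) (k.normalizes hPT k.A'_mem) hu
      rw [Perm.mul_apply, Perm.mul_apply, cA' x3 (hPH m3) c3, cA x2 (hPH m2) c2]
      exact apply_mem_fx_of_commute c1 (mem_fx.2 hxB)
    have hOP : ∀ u ∈ P, ∀ y ∈ O, u y ∈ O := by
      intro u hu y hy
      obtain ⟨v, hv, rfl⟩ := (hO y).1 hy
      exact (hO _).2 ⟨u * v, P.mul_mem hu hv, rfl⟩
    have hOeq : O = fx k.B := by
      refine Finset.eq_of_subset_of_card_le hOX ?_
      rw [hX3]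
      by_contra hlt
      exact hu₀x (fixes_of_card_le_two (hG.odd_mem hD (hPH hu₀)) (by omega) (hOP u₀ hu₀) hxO)
    -- a normalising element exchanging the two partitions
    have hD' : D4 a c b d := ⟨n2, n1, n3, n4.symm, n6, n5⟩
    obtain ⟨g, hg, g1, g2, g3, g4⟩ := hG.trans hD hD'
    set P' := P.map (MulAut.conj g).toMonoidHom
    have hP'H : P' ≤ H := by
      rintro _ ⟨w, hw, rfl⟩
      obtain ⟨e0, e1, e2, e3, e4⟩ := (hG.conj_stab4 hg g1 g2 g3 g4).1 (hPH hw)
      exact ⟨e0, e1, e3, e2, e4⟩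
    have hP'c : Nat.card P' = l ^ (Nat.card H).factorization l := by
      rw [← hPc]; exact Subgroup.card_map_of_injective (MulAut.conj g).injective
    obtain ⟨m, hm, hmP⟩ := exists_conj_full hP'H hPH hP'c hPc
    obtain ⟨hmG, m1, m2, m3, m4⟩ := hm
    set g' := m * g with hg'
    have hg'G : g' ∈ G := G.mul_mem hmG hg
    have hg'N : g' ∈ normalizer (P : Set (Perm α)) := by
      refine (Subgroup.mem_normalizer_iff).2 fun z => ?_
      have hz : z ∈ P ↔ g * z * g⁻¹ ∈ P' :=
        ⟨fun hz => ⟨z, hz, rfl⟩, fun ⟨y, hy, e⟩ => by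
          have e' : g * y * g⁻¹ = g * z * g⁻¹ := e
          rwa [mul_left_cancel (mul_right_cancel e')] at hy⟩
      rw [hz, hmP, show m * (g * z * g⁻¹) * m⁻¹ = g' * z * g'⁻¹ by rw [hg']; group]
    set w := g' * k.B * g'⁻¹ with hw
    have hwN : w ∈ normalizer (P : Set (Perm α)) :=
      Subgroup.mul_mem _ (Subgroup.mul_mem _ hg'N (hPT k.B_mem)) (Subgroup.inv_mem _ hg'N)
    have hw' : ∀ y, w (g' y) = g' (k.B y) := fun y => by simp [w]
    have w2 : w * w = 1 := by
      rw [show w * w = g' * (k.B * k.B) * g'⁻¹ by simp only [w]; group, k.B_sq, mul_one, mul_inv_cancel]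
    have ga : g' a = a := by rw [hg', Perm.mul_apply, g1, m1]
    have gb : g' b = c := by rw [hg', Perm.mul_apply, g2, m3]
    have gc : g' c = b := by rw [hg', Perm.mul_apply, g3, m2]
    have gd : g' d = d := by rw [hg', Perm.mul_apply, g4, m4]
    have wa : w a = c := by
      have h0 := hw' a
      rwa [k.Ba, ga, gb] at h0
    have wb : w b = d := by
      have h0 := hw' c
      rwa [k.Bc, gc, gd] at h0
    have hwG : w ∈ G := G.mul_mem (G.mul_mem hg'G k.B_memG) (G.inv_mem hg'G)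
    have hCw := hG.prod_mem (a := a) (b := b) (c := c) (d := d) k.C_memG hwG k.C_sq (k.Ca.trans wa.symm)
      (k.Cb.trans wb.symm) ((swap_apply k.C_sq k.Ca).trans (swap_apply w2 wa).symm)
      ((swap_apply k.C_sq k.Cb).trans (swap_apply w2 wb).symm)
    obtain ⟨j, hj⟩ := exists_conj_pow k.C_sq w2 (hG.odd_mem hD hCw)
    set ρ := (k.C * w) ^ j * g' with hρdef
    have hρ : ρ * k.B * ρ⁻¹ = k.C := by
      refine Eq.trans ?_ hj; rw [hρdef, hw]; group
    have hρN : ρ ∈ normalizer (P : Set (Perm α)) :=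
      Subgroup.mul_mem _ (Subgroup.pow_mem _ (Subgroup.mul_mem _ (hPT k.C_mem) hwN) j) hg'N
    have hC1 : k.C ≠ 1 := fun e => n2 (by rw [← k.Ca, e, Perm.one_apply])
    have hCX : fx k.C = fx k.B := by
      refine Finset.eq_of_subset_of_card_le ?_ (by rw [hX3, hr k.C_memG k.C_sq hC1])
      have back : ∀ y ∈ fx k.C, ∃ v ∈ P, ρ⁻¹ y = v x := by
        intro y hy
        rw [← hρ, fx_conj, ← hOeq, hO] at hy
        obtain ⟨v, hv, e⟩ := hy
        exact ⟨v, hv, e.symm⟩
      intro y hy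
      obtain ⟨v, hv, ev⟩ := back y hy
      obtain ⟨u, hu, eu⟩ := back x (mem_fx.2 hxC)
      rw [← hOeq, hO]
      refine ⟨ρ * (v * u⁻¹) * ρ⁻¹, ((Subgroup.mem_normalizer_iff).1 hρN _).1
        (P.mul_mem hv (P.inv_mem hu)), ?_⟩
      show ρ ((v * u⁻¹) (ρ⁻¹ x)) = y
      rw [eu, Perm.mul_apply v, inv_apply_self, ← ev, apply_inv_self]
    have hC'X : fx (k.B * k.C) = fx k.B := by
      ext y
      have hA : k.A⁻¹ = k.A := inv_eq_of_mul_eq_one_right k.A_sq
      have e : k.B * k.C = k.A * k.C * k.A⁻¹ := by rw [hA, k.ACA]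
      rw [e, fx_conj, hCX, hA]
      refine ⟨fun h => ?_, apply_mem_fx_of_commute k.A_B_comm⟩
      have h' := apply_mem_fx_of_commute k.A_B_comm h
      rwa [apply_apply k.A_sq] at h'
    refine le_of_full (fun _ h => h.1) fun q hq hqdvd => ?_
    haveI : Fact q.Prime := ⟨hq⟩
    obtain ⟨Q, hQH, hQq, hQc, hQT⟩ :=
      exists_invariant_full (p := q) k.two k.normal (hG.odd_card a b c d hD)
    refine ⟨Q, fun u hu => ?_, hQc⟩
    obtain ⟨x1, x2, x3, m1, m2, m3, c1, c2, c3, rfl⟩ := decomposition_subgroup (odd_prime q hq hqdvd)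
      hQq k.B_sq k.C_sq k.CB_comm (k.normalizes hQT k.B_mem) (k.normalizes hQT k.C_mem) hu
    refine HX.mul_mem (HX.mul_mem (mkHX x1 (hQH m1) fun y hy => ?_) (mkHX x2 (hQH m2) fun y hy => ?_))
      (mkHX x3 (hQH m3) fun y hy => ?_)
    · rw [← hC'X] at hy ⊢; exact apply_mem_fx_of_commute c1 hy
    · exact apply_mem_fx_of_commute c2 hy
    · rw [← hCX] at hy ⊢; exact apply_mem_fx_of_commute c3 hy
  · push Not at hcase
    have hHx : H ≤ H ⊓ fixSet {x} := by
      refine le_of_full inf_le_left fun l hl hdvd => ?_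
      haveI : Fact l.Prime := ⟨hl⟩
      obtain ⟨P, hPH, hPl, hPc, hPT⟩ :=
        exists_invariant_full (p := l) k.two k.normal (hG.odd_card a b c d hD)
      refine ⟨P, le_inf hPH fun u hu y hy => ?_, hPc⟩
      rw [Finset.mem_singleton.1 hy]
      exact hcase l P hl hdvd hPH hPl hPc hPT u hu
    have hx : ∀ h ∈ H, h x = x := fun h hh => (hHx hh).2 x (Finset.mem_singleton_self x)
    suffices hXF : ∀ h ∈ H, h * k.B = k.B * h ∨ ∀ y ∈ fx k.B, h y = y by
      intro h hh
      refine mkHX h hh fun y hy => ?_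
      rcases hXF h hh with e | e
      · exact apply_mem_fx_of_commute e hy
      · rwa [e y hy]
    have hmem : ∀ y ∈ ({a, b, c, d, x} : Finset α), y ∈ fixPts H := by
      intro y hy
      rw [mem_fixPts]
      intro h hh
      simp only [Finset.mem_insert, Finset.mem_singleton] at hy
      rcases hy with rfl | rfl | rfl | rfl | rfl
      exacts [hh.2.1, hh.2.2.1, hh.2.2.2.1, hh.2.2.2.2, hx h hh]
    by_cases hf : 6 ≤ (fixPts H).card
    · intro h hh
      right
      have hT := hG.transOn_stab hD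
      have hAN : k.A ∈ normalizer (H : Set (Perm α)) := k.normal k.A_mem
      have hfodd : ¬ Even (fixPts H).card := by
        have hpar := card_filter_mod_two k.A_sq (fixPts H) fun y hy => apply_mem_fixPts hAN hy
        have : (fixPts H).filter (fun y => k.A y = y) = {c, d, x} := by
          refine Finset.Subset.antisymm (fun y hy => ?_) ?_
          · rw [← hAeq]; exact mem_fx.2 (Finset.mem_filter.1 hy).2
          · intro y hy
            simp only [Finset.mem_insert, Finset.mem_singleton] at hy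
            refine Finset.mem_filter.2 ⟨hmem y (by simp; tauto), ?_⟩
            rcases hy with rfl | rfl | rfl
            exacts [k.Ac, k.Ad, hxA]
        rw [this] at hpar
        rw [show ({c, d, x} : Finset α).card = 3 by simp [n6, hxc.symm, hxd.symm]] at hpar
        rw [Nat.even_iff]
        omega
      have hB := hG.card_fixed_in hT hf k.B_memG (k.normal k.B_mem) k.B_sq (hmem a (by simp))
        (by rw [k.Ba]; exact n1.symm)
      rw [if_neg hfodd] at hB
      have hsub : (fixPts H).filter (fun y => k.B y = y) = fx k.B :=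
        Finset.eq_of_subset_of_card_le (fun y hy => mem_fx.2 (Finset.mem_filter.1 hy).2)
          (by rw [hB, hX3])
      intro y hy
      rw [← hsub] at hy
      exact mem_fixPts.1 (Finset.mem_filter.1 hy).1 h hh
    intro h hh
    left
    have hU : ∀ ⦃p q r s : α⦄, D4 p q r s → ∀ t ∈ G, t * t = 1 → t p = q → t r = r → t s = s →
        ∀ y, t y = y → y ≠ r → y ≠ s → ∀ v ∈ stab4 G p q r s, v y = y := by
      intro p q r s hD' t ht t2 tp tr ts y hy hyr hys v hv
      obtain ⟨g, hg, g1, g2, g3, g4⟩ := hG.trans hD' hD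
      set t' := g * t * g⁻¹ with ht'
      have ht'' : ∀ z, t' (g z) = g (t z) := fun z => by simp [t']
      have t'2 : t' * t' = 1 := by
        rw [show t' * t' = g * (t * t) * g⁻¹ by simp only [t']; group, t2, mul_one, mul_inv_cancel]
      have ta : t' a = b := by
        have h0 := ht'' p
        rwa [g1, tp, g2] at h0
      have tc : t' c = c := by
        have h0 := ht'' r
        rwa [g3, tr, g3] at h0
      have td : t' d = d := by
        have h0 := ht'' s
        rwa [g4, ts, g4] at h0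
      obtain ⟨m, hm, e⟩ := hG.exists_conj hD k.A_memG (G.mul_mem (G.mul_mem hg ht) (G.inv_mem hg))
        k.A_sq t'2 (k.Aa.trans ta.symm) (k.Ab.trans (swap_apply t'2 ta).symm) (k.Ac.trans tc.symm)
        (k.Ad.trans td.symm)
      obtain ⟨hmG, m1, m2, m3, m4⟩ := hm
      have he : m * g * t * (m * g)⁻¹ = k.A := by refine Eq.trans ?_ e; group
      have hy' : (m * g) y ∈ fx k.A := by rw [← he, apply_mem_fx_conj]; exact mem_fx.2 hy
      rw [hAeq] at hy'
      simp only [Finset.mem_insert, Finset.mem_singleton] at hy'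
      have hgy : (m * g) y = x := by
        rcases hy' with e' | e' | e'
        · exact absurd ((m * g).injective (e'.trans (by simp [g3, m3] : c = (m * g) r))) hyr
        · exact absurd ((m * g).injective (e'.trans (by simp [g4, m4] : d = (m * g) s))) hys
        · exact e'
      have hv' := hx _ ((hG.conj_stab4 (G.mul_mem hmG hg) (by simp [g1, m1]) (by simp [g2, m2])
        (by simp [g3, m3]) (by simp [g4, m4])).1 hv)
      rw [← hgy, Perm.mul_apply, Perm.mul_apply, inv_apply_self] at hv'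
      exact (m * g).injective hv'
    have h5 : ∀ ⦃p q r s : α⦄, D4 p q r s → (fixPts (stab4 G p q r s)).card ≤ 5 := by
      intro p q r s hD'
      obtain ⟨g, hg, g1, g2, g3, g4⟩ := hG.trans hD' hD
      refine le_trans (Finset.card_le_card_of_injOn (fun y => g y) ?_ (Set.injOn_of_injective g.injective))
        (show (fixPts H).card ≤ 5 by omega)
      intro y hy
      rw [Finset.mem_coe, mem_fixPts] at hy ⊢
      intro v hv
      have hv' : g⁻¹ * v * g ∈ stab4 G p q r s := by
        rw [hG.conj_stab4 hg g1 g2 g3 g4]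
        simpa [mul_assoc] using hv
      have h0 := hy _ hv'
      rw [Perm.mul_apply, Perm.mul_apply, Perm.inv_eq_iff_eq] at h0
      exact h0
    have e1 := hG.conj_eq hD hU h5 k.A_memG k.A_sq k.Aa k.Ac k.Ad hxA hAeq.le hxc hxd hh (hx h hh)
    have e2 := hG.conj_eq hD.pairs hU h5 k.A'_memG k.A'_sq k.A'c k.A'a k.A'b hxA' hA'eq.le hxa hxb
      ⟨hh.1, hh.2.2.2.1, hh.2.2.2.2, hh.2.1, hh.2.2.1⟩ (hx h hh)
    rw [Kit.B, ← mul_assoc, e1, mul_assoc, e2, ← mul_assoc]

end Hyp

/-- The degree and the order of the four-point stabilisers. -/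
theorem classify_all (N : ℕ) : ∀ {β : Type u} [Fintype β] [DecidableEq β] {K : Subgroup (Perm β)},
    Hyp K → Fintype.card β = N → 6 ≤ N → ∀ {a b c d : β}, D4 a b c d →
    (Fintype.card β = 6 ∧ Nat.card (stab4 K a b c d) = 1) ∨
    (Fintype.card β = 7 ∧ Nat.card (stab4 K a b c d) = 3) ∨
    (Fintype.card β = 11 ∧ Nat.card (stab4 K a b c d) = 1) := by
  induction N using Nat.strong_induction_on with
  | _ N ih =>
    intro β _ _ K hK hN h6 a b c d hD
    refine hK.classify (hN ▸ h6) ?_ hD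
    by_cases he : Even (Fintype.card β)
    · refine hK.pres_even (hN ▸ h6) he fun γ _ _ L hL hlt hge hev => ?_
      obtain ⟨p, q, r, s, hpq, -⟩ := exists_quad (S := (Finset.univ : Finset γ))
        (by rw [Finset.card_univ]; omega)
      rcases ih _ (hN ▸ hlt) hL rfl hge hpq with ⟨e, -⟩ | ⟨e, -⟩ | ⟨e, -⟩
      · exact e
      all_goals rw [e] at hev; exact absurd hev (by decide)
    · exact hK.pres_odd (hN ▸ h6) he

theorem hyp_of_pretransitive {G : Subgroup (Perm α)} (hG : MulAction.IsMultiplyPretransitive G α 4)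
    (x : Fin 4 ↪ α) (hodd : Odd (Nat.card (MulAction.stabilizer G x))) : Hyp G := by
  haveI : MulAction.IsPretransitive G (Fin 4 ↪ α) := hG
  have emb : ∀ {a b c d : α}, D4 a b c d → ∃ e : Fin 4 ↪ α, e 0 = a ∧ e 1 = b ∧ e 2 = c ∧ e 3 = d :=
    fun h => ⟨⟨_, h.vec_injective⟩, rfl, rfl, rfl, rfl⟩
  constructor
  · intro a b c d a' b' c' d' h h'
    obtain ⟨e, e0, e1, e2, e3⟩ := emb h
    obtain ⟨e', f0, f1, f2, f3⟩ := emb h'
    obtain ⟨g, hg⟩ := MulAction.exists_smul_eq G e e'
    have hgi : ∀ i, (g : Perm α) (e i) = e' i := fun i => DFunLike.congr_fun hg i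
    exact ⟨g, g.2, by rw [← e0, hgi, f0], by rw [← e1, hgi, f1], by rw [← e2, hgi, f2],
      by rw [← e3, hgi, f3]⟩
  · intro a b c d h g hg ga gb gc gd
    obtain ⟨e, rfl, rfl, rfl, rfl⟩ := emb h
    obtain ⟨k, hk⟩ := MulAction.exists_smul_eq G x e
    have hfix : (⟨g, hg⟩ : G) • e = e := by
      ext i
      change g (e i) = e i
      fin_cases i <;> assumption
    have hmem : k⁻¹ * ⟨g, hg⟩ * k ∈ MulAction.stabilizer G x := by
      rw [MulAction.mem_stabilizer_iff]
      ext i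
      change (k : Perm α)⁻¹ (g ((k : Perm α) (x i))) = x i
      have e1 : (k : Perm α) (x i) = e i := DFunLike.congr_fun hk i
      have e2 : g (e i) = e i := DFunLike.congr_fun hfix i
      rw [e1, e2, ← e1, inv_apply_self]
    have h1 : orderOf (k⁻¹ * ⟨g, hg⟩ * k) = orderOf g := by
      rw [show k⁻¹ * ⟨g, hg⟩ * k = (MulAut.conj k⁻¹) ⟨g, hg⟩ by simp,
        MulEquiv.orderOf_eq, Subgroup.orderOf_mk]
    rw [← h1]
    exact odd_orderOf_of_odd_card hodd hmem

theorem card_eq_stab4 {G : Subgroup (Perm α)} (hG : MulAction.IsMultiplyPretransitive G α 4)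
    (x : Fin 4 ↪ α) :
    Nat.card G = (Fintype.card α).descFactorial 4 * Nat.card (stab4 G (x 0) (x 1) (x 2) (x 3)) := by
  haveI : MulAction.IsPretransitive G (Fin 4 ↪ α) := hG
  have h := Subgroup.card_mul_index (MulAction.stabilizer G x)
  have horb : MulAction.orbit G x = Set.univ :=
    Set.eq_univ_of_forall fun y => hG.exists_smul_eq x y
  rw [MulAction.index_stabilizer] at h
  erw [horb] at h
  rw [Set.ncard_univ, Nat.card_eq_fintype_card (α := Fin 4 ↪ α),
    Fintype.card_embedding_eq, Fintype.card_fin, mul_comm] at h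
  rw [← h]
  congr 1
  refine Nat.card_congr ⟨fun g => ⟨(g : G), ?_⟩, fun g => ⟨⟨g, g.2.1⟩, ?_⟩, fun g => rfl, fun g => rfl⟩
  · exact ⟨(g : G).2, DFunLike.congr_fun g.2 0, DFunLike.congr_fun g.2 1, DFunLike.congr_fun g.2 2,
      DFunLike.congr_fun g.2 3⟩
  · rw [MulAction.mem_stabilizer_iff]
    ext i
    change (g : Perm α) (x i) = x i
    obtain ⟨-, h0, h1, h2, h3⟩ := g.2
    fin_cases i <;> assumption

/-- A four-transitive group with odd four-point stabilisers is symmetric, alternating or of order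
`7920`. -/
theorem main {G : Subgroup (Perm α)} (hG : MulAction.IsMultiplyPretransitive G α 4)
    (x : Fin 4 ↪ α) (hodd : Odd (Nat.card (MulAction.stabilizer G x))) :
    ((Fintype.card α = 4 ∨ Fintype.card α = 5) ∧ G = ⊤) ∨
    ((Fintype.card α = 6 ∨ Fintype.card α = 7) ∧ G = alternatingGroup α) ∨
    (Fintype.card α = 11 ∧ Nat.card G = 7920) := by
  have hH := hyp_of_pretransitive hG x hodd
  have hcard := card_eq_stab4 hG x
  have hD : D4 (x 0) (x 1) (x 2) (x 3) := d4_of_injective x.injective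
  have hn4 : 4 ≤ Fintype.card α := by simpa using Fintype.card_le_of_embedding x
  have hperm : Nat.card (Perm α) = Nat.factorial (Fintype.card α) := by
    rw [Nat.card_eq_fintype_card, Fintype.card_perm]
  by_cases h6 : 6 ≤ Fintype.card α
  · have alt : ∀ k, Fintype.card α = k → 2 * Nat.card G = Nat.factorial k →
        G = alternatingGroup α := by
      intro k hk h
      refine Equiv.Perm.eq_alternatingGroup_of_index_eq_two ?_
      have h1 := G.card_mul_index
      rw [hperm, hk, ← h, mul_comm 2] at h1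
      exact Nat.eq_of_mul_eq_mul_left Nat.card_pos h1
    rcases classify_all _ hH rfl h6 hD with ⟨e, h⟩ | ⟨e, h⟩ | ⟨e, h⟩
    · exact Or.inr (Or.inl ⟨Or.inl e, alt 6 e (by rw [hcard, e, h]; decide)⟩)
    · exact Or.inr (Or.inl ⟨Or.inr e, alt 7 e (by rw [hcard, e, h]; decide)⟩)
    · exact Or.inr (Or.inr ⟨e, by rw [hcard, e, h]; decide⟩)
  · refine Or.inl ⟨by omega, ?_⟩
    have hbot : stab4 G (x 0) (x 1) (x 2) (x 3) = ⊥ := by
      rw [eq_bot_iff]
      intro g hg
      rw [Subgroup.mem_bot]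
      have hS : ({x 0, x 1, x 2, x 3} : Finset α).card = 4 := by
        obtain ⟨n1, n2, n3, n4, n5, n6⟩ := hD
        simp [n1, n2, n3, n4, n5, n6]
      have hfix : ∀ y ∈ ({x 0, x 1, x 2, x 3} : Finset α), g y = y := by
        intro y hy
        obtain ⟨-, g0, g1, g2, g3⟩ := hg
        simp only [Finset.mem_insert, Finset.mem_singleton] at hy
        rcases hy with rfl | rfl | rfl | rfl <;> assumption
      refine Equiv.ext fun y => ?_
      rw [Perm.one_apply]
      by_cases hy : y ∈ ({x 0, x 1, x 2, x 3} : Finset α)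
      · exact hfix y hy
      refine fixes_of_card_le_two (hH.odd_mem hD hg) (S := Finset.univ \ {x 0, x 1, x 2, x 3})
        (by rw [Finset.card_sdiff_of_subset (Finset.subset_univ _), Finset.card_univ, hS]; omega) ?_
        (Finset.mem_sdiff.2 ⟨Finset.mem_univ y, hy⟩)
      intro z hz
      refine Finset.mem_sdiff.2 ⟨Finset.mem_univ _, fun h => (Finset.mem_sdiff.1 hz).2 ?_⟩
      rwa [g.injective (hfix _ h)] at h
    rw [hbot, Subgroup.card_bot, mul_one] at hcard
    refine Subgroup.eq_top_of_card_eq G ?_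
    rw [hperm, hcard]
    rcases (show Fintype.card α = 4 ∨ Fintype.card α = 5 by omega) with e | e <;> rw [e] <;> decide

end Cfsg.Agent.Invol.HallFour
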