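import Mathlib
import Cfsg.Agent.Lib.Invol.TransferTheorems
import Cfsg.Agent.Lib.Grp.Frattini
import Cfsg.Agent.Lib.Transfer.Frobenius

/-!
# Normal subgroups of index `p`
-/

set_option autoImplicit false

open scoped commutatorElement

namespace Cfsg.Agent.Invol

universe u

variable {p : ℕ} [hp : Fact p.Prime]

theorem exists_index_eq_of_not_le_commutator {G : Type*} [Group G] [Finite G] (S : Sylow p G)
    (h : ¬ (S : Subgroup G) ≤ commutator G) : ∃ N : Subgroup G, N.Normal ∧ N.index = p := by
  obtain ⟨s, hs, hsG⟩ := SetLike.not_le_iff_exists.mp h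
  let π : G →* Abelianization G := Abelianization.of
  let P : Abelianization G →* Abelianization G := powMonoidHom p
  have hne : P.range ≠ ⊤ := by
    intro htop
    have hsurj : Function.Surjective P := MonoidHom.range_eq_top.mp htop
    have hinj : Function.Injective P := Finite.injective_iff_surjective.mpr hsurj
    obtain ⟨k, hk⟩ := S.isPGroup' ⟨s, hs⟩
    have h1 : ∀ j : ℕ, ∀ a : Abelianization G, a ^ p ^ j = 1 → a = 1 := by
      intro j
      induction j with
      | zero => intro a ha; simpa using ha
      | succ j ih =>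
        intro a ha
        refine hinj ?_
        rw [map_one]
        refine ih (P a) ?_
        change (a ^ p) ^ p ^ j = 1
        rw [← pow_mul, ← pow_succ']; exact ha
    have h2 : π s = 1 := h1 k _ (by
      rw [← map_pow, show s ^ p ^ k = 1 by simpa using congrArg Subtype.val hk, map_one])
    exact hsG ((QuotientGroup.eq_one_iff s).mp h2)
  obtain ⟨M, hM, hle⟩ := (eq_top_or_exists_le_coatom P.range).resolve_left hne
  refine ⟨M.comap π, inferInstance, ?_⟩
  rw [Subgroup.index_comap_of_surjective _ (show Function.Surjective π from QuotientGroup.mk'_surjective _)]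
  have hq : (M.index).Prime := Grp.normal_index_prime_of_coatom hM
  have hM1 : M ≠ ⊤ := hM.1
  obtain ⟨a, ha⟩ : ∃ a, a ∉ M := by
    by_contra hall
    push Not at hall
    exact hM1 (eq_top_iff.mpr fun a _ => hall a)
  have ha' : (QuotientGroup.mk a : Abelianization G ⧸ M) ≠ 1 := fun h =>
    ha ((QuotientGroup.eq_one_iff a).mp h)
  have hpow : (QuotientGroup.mk a : Abelianization G ⧸ M) ^ p = 1 := by
    rw [← QuotientGroup.mk_pow, QuotientGroup.eq_one_iff]
    exact hle ⟨a, rfl⟩
  have ho := orderOf_eq_prime hpow ha'
  have hd : p ∣ M.index := by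
    rw [Subgroup.index_eq_card]
    exact ho ▸ orderOf_dvd_natCard _
  exact ((Nat.prime_dvd_prime_iff_eq hp.out hq).mp hd).symm

theorem not_le_commutator_of_index {G : Type*} [Group G] [Finite G] (S : Sylow p G)
    {N : Subgroup G} [N.Normal] (hN : N.index = p) : ¬ (S : Subgroup G) ≤ commutator G := by
  intro h
  have hG : commutator G ≤ N := by
    have : IsCyclic (G ⧸ N) := isCyclic_of_prime_card (p := p) (by rw [← Subgroup.index_eq_card, hN])
    let _ := IsCyclic.commGroup (α := G ⧸ N)
    intro x hx
    have h1 := Abelianization.commutator_subset_ker (QuotientGroup.mk' N) hx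
    exact (QuotientGroup.eq_one_iff x).mp h1
  exact S.not_dvd_index (by simpa only [hN] using Subgroup.index_dvd_of_le (h.trans hG))

/-- A `p'`-element lifting a `p'`-element. -/
theorem exists_coprime_lift {G H : Type*} [Group G] [Group H] [Finite G] (f : G →* H) {n : G}
    (hn : (orderOf (f n)).Coprime p) : ∃ i : ℕ, (orderOf (n ^ i)).Coprime p ∧ f (n ^ i) = f n := by
  set k := (orderOf n).factorization p with hk
  have hcop : (p ^ k).Coprime (orderOf (f n)) := (hn.symm).pow_left k
  obtain ⟨j, hj⟩ := exists_pow_eq_self_of_coprime hcop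
  refine ⟨p ^ k * j, ?_, by rw [map_pow, pow_mul]; exact hj⟩
  rw [pow_mul]
  refine Nat.Coprime.coprime_dvd_left (orderOf_pow_dvd j) ?_
  rw [orderOf_pow' n (pow_ne_zero k hp.out.ne_zero),
    Nat.gcd_eq_right (Nat.ordProj_dvd (orderOf n) p)]
  exact ((Nat.Prime.coprime_iff_not_dvd hp.out).mpr
    (Nat.not_dvd_ordCompl hp.out (orderOf_pos n).ne')).symm

/-- A functor controlling transfer in all sections and `N(S)/C(S)` a `p`-group give a normal
subgroup of index `p`. -/
theorem exists_index_eq_of_control {W : ∀ (Q : Type u) [Group Q], Subgroup Q}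
    (hW : Cfsg.IsCharPFunctor.{u} p W) {G : Type u} [Group G] [Finite G]
    (hctl : ∀ (X : Type u) [Group X] [Finite X], IsSectionOf X G → TransferCtrl p {W} X)
    (S : Sylow p G) (hS : (S : Subgroup G) ≠ ⊥)
    (hN : ∀ g ∈ Subgroup.normalizer ((S : Subgroup G) : Set G), (orderOf g).Coprime p →
      g ∈ Subgroup.centralizer ((S : Subgroup G) : Set G)) :
    ∃ N : Subgroup G, N.Normal ∧ N.index = p := by
  suffices key : ∀ (n : ℕ) (X : Type u) [Group X] [Finite X], Nat.card X = n → IsSectionOf X G →
      ∀ T : Sylow p X, (T : Subgroup X) ≠ ⊥ →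
        (∀ g ∈ Subgroup.normalizer ((T : Subgroup X) : Set X), (orderOf g).Coprime p →
          g ∈ Subgroup.centralizer ((T : Subgroup X) : Set X)) →
        ∃ N : Subgroup X, N.Normal ∧ N.index = p from
    key _ G rfl (IsSectionOf.refl G) S hS hN
  intro n
  induction n using Nat.strong_induction_on with
  | _ n ih =>
  intro X _ _ hX hsec T hT hN
  set U := Cfsg.inducedFunctor W (T : Subgroup X) with hU
  set K := Subgroup.normalizer (U : Set X) with hK
  have hTK : (T : Subgroup X) ≤ K :=
    Subgroup.le_normalizer.trans (normalizer_le_normalizer_inducedFunctor hW T.isPGroup')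
  rcases eq_or_ne K ⊤ with htop | hne
  · have hUn : U.Normal := Subgroup.normalizer_eq_top_iff.mp htop
    set f := QuotientGroup.mk' U with hf
    have hfs : Function.Surjective f := QuotientGroup.mk'_surjective U
    rcases eq_or_ne ((T : Subgroup X).map f) ⊥ with hb | hb
    · have hTU : (T : Subgroup X) = U := le_antisymm (by
        rw [Subgroup.map_eq_bot_iff, QuotientGroup.ker_mk'] at hb; exact hb) (inducedFunctor_le _ _)
      have hTn : (T : Subgroup X).Normal := hTU ▸ hUn
      have hNPC : Cfsg.HasNormalPComplement p X := by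
        rw [Transfer.hasNormalPComplement_iff_frobeniusCondition T]
        intro Q hQ g _ hgc q hq
        exact (Subgroup.mem_centralizer_iff.mp
          (hN g (by rw [Subgroup.normalizer_eq_top]; exact Subgroup.mem_top g) hgc) q (hQ hq))
      refine exists_index_eq_of_not_le_commutator T fun hle => hT ?_
      obtain ⟨k, hk⟩ := Transfer.exists_pResidual_index (G := X) p
      have hdis := Transfer.pResidual_inf_sylow_eq_bot T hNPC
      have hp' : IsPGroup p (X ⧸ Cfsg.pResidual p X) := IsPGroup.of_card (by
        rw [← Subgroup.index_eq_card]; exact hk)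
      by_contra hT1
      have hnil := hp'.isNilpotent
      set π := QuotientGroup.mk' (Cfsg.pResidual p X) with hπ
      have hsur : (T : Subgroup X).map π = ⊤ := by
        rw [← Subgroup.map_top_of_surjective π (QuotientGroup.mk'_surjective _),
          ← Transfer.sylow_sup_pResidual T, Subgroup.map_sup,
          (Subgroup.map_eq_bot_iff (f := π) _).mpr (QuotientGroup.ker_mk' _).ge, sup_bot_eq]
      have h1 : (⊤ : Subgroup (X ⧸ Cfsg.pResidual p X)) ≤ ⁅(⊤ : Subgroup (X ⧸ Cfsg.pResidual p X)), ⊤⁆ := by
        rw [← Subgroup.map_top_of_surjective π (QuotientGroup.mk'_surjective _), ← Subgroup.map_commutator,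
          ← commutator_def]
        conv_lhs => rw [Subgroup.map_top_of_surjective π (QuotientGroup.mk'_surjective _), ← hsur]
        exact Subgroup.map_mono hle
      have h2 := Transfer.eq_bot_of_le_commutator_top h1
      rw [← hsur, Subgroup.map_eq_bot_iff, QuotientGroup.ker_mk'] at h2
      exact hT1 (le_bot_iff.mp (hdis ▸ le_inf h2 le_rfl))
    · have hU1 : U ≠ ⊥ := inducedFunctor_ne_bot hW T.isPGroup' hT
      set T' := T.mapSurjective hfs with hT'
      obtain ⟨N, hNn, hNi⟩ := ih _ (hX ▸ Grp.card_quotient_lt hU1) (X ⧸ U) rfl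
        ((IsSectionOf.of_surjective f hfs).trans hsec) T' hb (fun g hg hgc => by
          obtain ⟨m, rfl⟩ := hfs g
          obtain ⟨i, hi, hfi⟩ := exists_coprime_lift f hgc
          have hT'e : (T' : Subgroup (X ⧸ U)) = (T : Subgroup X).map f := rfl
          have hm : m ^ i ∈ Subgroup.normalizer ((T : Subgroup X) : Set X) := by
            have h1 : f (m ^ i) ∈ Subgroup.normalizer ((T : Subgroup X).map f : Set (X ⧸ U)) := hfi ▸ hg
            rw [← Subgroup.mem_comap, Subgroup.comap_normalizer_eq_of_surjective _ hfs,
              Subgroup.comap_map_eq_self (by rw [QuotientGroup.ker_mk']; exact inducedFunctor_le _ _)] at h1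
            exact h1
          refine Subgroup.mem_centralizer_iff.mpr ?_
          rintro _ ⟨t, ht, rfl⟩
          rw [← hfi, ← map_mul, ← map_mul, Subgroup.mem_centralizer_iff.mp (hN _ hm hi) t ht])
      exact ⟨N.comap f, inferInstance, by rw [Subgroup.index_comap_of_surjective _ hfs, hNi]⟩
  · obtain ⟨N, hNn, hNi⟩ := ih _ (hX ▸ Grp.card_lt_of_ne_top hne) K rfl
      ((IsSectionOf.of_subgroup K).trans hsec) (T.subtype hTK)
      (fun h => hT (le_bot_iff.mp fun x hx => by
        have : (⟨x, hTK hx⟩ : K) ∈ (T : Subgroup X).subgroupOf K := hx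
        rw [show (T : Subgroup X).subgroupOf K = ((T.subtype hTK : Sylow p K) : Subgroup K) from rfl, h,
          Subgroup.mem_bot] at this
        exact Subgroup.mem_bot.mpr (congrArg Subtype.val this)))
      (fun g hg hgc => by
        have h1 : (g : X) ∈ Subgroup.normalizer ((T : Subgroup X) : Set X) := by
          have h2 := Subgroup.le_normalizer_map (H := ((T.subtype hTK : Sylow p K) : Subgroup K))
            K.subtype ⟨g, hg, rfl⟩
          rwa [show ((T.subtype hTK : Sylow p K) : Subgroup K) = (T : Subgroup X).subgroupOf K from rfl,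
            Subgroup.map_subgroupOf_eq_of_le hTK] at h2
        refine Subgroup.mem_centralizer_iff.mpr fun t ht => Subtype.ext ?_
        exact Subgroup.mem_centralizer_iff.mp (hN g h1 (by rwa [Subgroup.orderOf_coe])) (t : X) ht)
    refine exists_index_eq_of_not_le_commutator T fun hle =>
      not_le_commutator_of_index (T.subtype hTK) hNi ?_
    have h1 : (T : Subgroup X) ≤ ⁅K, K⁆ := by
      have h2 : (T : Subgroup X) ≤ Foc (ind {W} X) (T : Subgroup X) :=
        (le_inf le_rfl (by rwa [← commutator_def])).trans (hctl X hsec T)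
      exact h2.trans ((foc_singleton W _).trans_le inf_le_right)
    intro x hx
    have h3 : (x : X) ∈ (commutator K).map K.subtype := by
      rw [commutator_def, Subgroup.map_commutator, ← MonoidHom.range_eq_map, Subgroup.range_subtype]
      exact h1 hx
    obtain ⟨y, hy, hyx⟩ := h3
    rwa [← K.subtype_injective hyx]

end Cfsg.Agent.Invol
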