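import Cfsg.Prelude
import Cfsg.Agent.Lib.Grp.Coprime
import Cfsg.Agent.Lib.Grp.Cores

/-!
Invariant Sylow subgroups for an isolated element of prime order.
-/

set_option autoImplicit false

namespace Cfsg.Agent.Invol.IsolatedSylow

open Subgroup

universe u

variable {G : Type u} [Group G] [Finite G] {p : ℕ} [hp : Fact p.Prime] {x : G}

omit hp in
theorem isPGroup_zpowers (hx : orderOf x = p) : IsPGroup p (zpowers x) :=
  IsPGroup.of_card (n := 1) (by rw [Nat.card_zpowers, hx, pow_one])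

/-- An isolated element centralizes every `p`-subgroup containing it. -/
theorem centralizes (hiso : Cfsg.IsIsolated x) {P : Subgroup G} (hP : IsPGroup p P) (hxP : x ∈ P) :
    ∀ y ∈ P, Commute y x := by
  have hC : centralizer ({(⟨x, hxP⟩ : ↥P)} : Set ↥P) = ⊤ := by
    have := hP.isNilpotent
    by_contra hne
    obtain ⟨s, hs, hsC⟩ := SetLike.exists_of_lt
      (Group.normalizerCondition_of_isNilpotent _ (lt_top_iff_ne_top.mpr hne))
    apply hsC
    have hmem : s * ⟨x, hxP⟩ * s⁻¹ ∈ centralizer ({(⟨x, hxP⟩ : ↥P)} : Set ↥P) :=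
      (mem_normalizer_iff.mp hs _).mp (mem_centralizer_singleton_iff.mpr rfl)
    rw [mem_centralizer_singleton_iff] at hmem ⊢
    have h : ((s : G) * x * (s : G)⁻¹) * x = x * ((s : G) * x * (s : G)⁻¹) := by
      simpa using congrArg Subtype.val hmem
    exact Subtype.ext (mul_inv_eq_iff_eq_mul.mp (hiso s h.symm))
  intro y hy
  have h : (⟨y, hy⟩ : ↥P) ∈ centralizer ({(⟨x, hxP⟩ : ↥P)} : Set ↥P) := hC ▸ mem_top _
  rw [mem_centralizer_singleton_iff] at h
  exact congrArg Subtype.val h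

theorem transitive (hx : orderOf x = p) (hiso : Cfsg.IsIsolated x) {q : ℕ} [Fact q.Prime]
    (S₁ S₂ : Sylow q G) (h₁ : x ∈ normalizer ((S₁ : Subgroup G) : Set G))
    (h₂ : x ∈ normalizer ((S₂ : Subgroup G) : Set G)) :
    ∃ c ∈ centralizer ({x} : Set G), (S₁ : Subgroup G).map (MulAut.conj c).toMonoidHom = (S₂ : Subgroup G) := by
  obtain ⟨g, rfl⟩ := MulAction.exists_smul_eq G S₁ S₂
  obtain ⟨N, hN⟩ : ∃ N, N = normalizer ((g • S₁ : Sylow q G) : Subgroup G).carrier := ⟨_, rfl⟩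
  change _ = normalizer (((g • S₁ : Sylow q G) : Subgroup G) : Set G) at hN
  have hgS : ((g • S₁ : Sylow q G) : Subgroup G) = (S₁ : Subgroup G).map (MulAut.conj g).toMonoidHom := rfl
  have hy : g * x * g⁻¹ ∈ N := by
    rw [hN, hgS]
    exact le_normalizer_map (MulAut.conj g).toMonoidHom ⟨x, h₁, rfl⟩
  have hxN : x ∈ N := hN ▸ h₂
  obtain ⟨P, hP⟩ := ((isPGroup_zpowers hx).comap_subtype (K := N)).exists_le_sylow
  have hyp : IsPGroup p (zpowers (g * x * g⁻¹)) := by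
    refine IsPGroup.of_card (n := 1) ?_
    rw [Nat.card_zpowers, pow_one, ← hx]
    exact MulEquiv.orderOf_eq (MulAut.conj g) x
  obtain ⟨P', hP'⟩ := (hyp.comap_subtype (K := N)).exists_le_sylow
  obtain ⟨n, hn⟩ := MulAction.exists_smul_eq ↥N P' P
  have hmem : n * ⟨g * x * g⁻¹, hy⟩ * n⁻¹ ∈ (P : Subgroup ↥N) := by
    rw [← hn, Sylow.coe_subgroup_smul]
    exact ⟨⟨g * x * g⁻¹, hy⟩, hP' (mem_zpowers (g * x * g⁻¹)), rfl⟩
  have hcm := centralizes hiso (P.isPGroup'.map N.subtype) (P := (P : Subgroup ↥N).map N.subtype)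
    ⟨⟨x, hxN⟩, hP (mem_zpowers x), rfl⟩ _ ⟨_, hmem, rfl⟩
  have e : (N.subtype (n * ⟨g * x * g⁻¹, hy⟩ * n⁻¹)) = ((n : G) * g) * x * ((n : G) * g)⁻¹ := by
    simp [mul_assoc]
  rw [e] at hcm
  refine ⟨(n : G) * g, mem_centralizer_singleton_iff.mpr
    (mul_inv_eq_iff_eq_mul.mp (hiso _ hcm.symm)), ?_⟩
  have hn2 : (n : G) ∈ normalizer (((g • S₁ : Sylow q G) : Subgroup G) : Set G) := hN ▸ n.2
  rw [hgS]
  rw [hgS] at hn2
  have e2 : ((MulAut.conj ((n : G) * g)).toMonoidHom) =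
      (MulAut.conj (n : G)).toMonoidHom.comp (MulAut.conj g).toMonoidHom := by
    ext z; simp [mul_assoc]
  rw [e2, ← Subgroup.map_map]
  ext z
  constructor
  · rintro ⟨w, hw, rfl⟩
    exact (mem_normalizer_iff.mp hn2 w).mp hw
  · intro hz
    refine ⟨(n : G)⁻¹ * z * n, ?_, by simp [mul_assoc]⟩
    have h := (mem_normalizer_iff.mp (inv_mem hn2) z).mp hz
    rw [inv_inv] at h
    exact h

theorem maximal_sylow (hx : orderOf x = p) (hnz : ¬ Cfsg.InZStar p x)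
    (hmin : ∀ (H : Subgroup G) (hxH : x ∈ H), H ≠ ⊤ → Cfsg.InZStar p (⟨x, hxH⟩ : ↥H))
    (hquot : ∀ (N : Subgroup G) [N.Normal], N ≠ ⊥ → Cfsg.InZStar p (QuotientGroup.mk x : G ⧸ N))
    {q : ℕ} [hq : Fact q.Prime] (Q : Subgroup G) (hQ : IsPGroup q Q)
    (hxQ : x ∈ normalizer (Q : Set G))
    (hmax : ∀ R : Subgroup G, IsPGroup q R → x ∈ normalizer (R : Set G) → Q ≤ R → R = Q) :
    Q = ⊥ ∨ ∃ S : Sylow q G, (S : Subgroup G) = Q := by
  rcases eq_or_ne Q ⊥ with h | hQ0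
  · exact Or.inl h
  right
  by_cases hqp : q = p
  · subst hqp
    have hxmem : x ∈ Q := by
      have h : zpowers x ≤ normalizer (Q : Set G) := zpowers_le.mpr hxQ
      have hR : IsPGroup q ↥(Q ⊔ zpowers x) := hQ.to_sup_of_normal_left' (isPGroup_zpowers hx) h
      rw [← hmax _ hR (le_normalizer (mem_sup_right (mem_zpowers x))) le_sup_left]
      exact mem_sup_right (mem_zpowers x)
    obtain ⟨S, hS⟩ := hQ.exists_le_sylow
    exact ⟨S, hmax _ S.isPGroup' (le_normalizer (hS hxmem)) hS⟩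
  have hpq : p.Coprime q := (Nat.coprime_primes hp.out hq.out).mpr (Ne.symm hqp)
  obtain ⟨kQ, hkQ⟩ := hQ.exists_card_eq
  obtain ⟨N, hN⟩ : ∃ N, N = normalizer (Q : Set G) := ⟨_, rfl⟩
  rcases eq_or_ne N ⊤ with hNt | hNt
  · exfalso
    haveI hQn : Q.Normal := normalizer_eq_top_iff.mp (hN ▸ hNt)
    have hK : (Cfsg.pPrimeCore p (G ⧸ Q)).comap (QuotientGroup.mk' Q) ≤ Cfsg.pPrimeCore p G := by
      have hKn := (Grp.pPrimeCore_isNormal (p := p) (G := G ⧸ Q)).comap (QuotientGroup.mk' Q)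
      refine Grp.le_pPrimeCore hKn ?_
      obtain ⟨K, hK⟩ : ∃ K, K = (Cfsg.pPrimeCore p (G ⧸ Q)).comap (QuotientGroup.mk' Q) := ⟨_, rfl⟩
      rw [← hK]
      have hQK : Q ≤ K := fun y hy => by
        rw [hK, mem_comap, show QuotientGroup.mk' Q y = 1 from (QuotientGroup.eq_one_iff y).mpr hy]
        exact one_mem _
      have h2 : Q.relIndex K = Nat.card ↥(Cfsg.pPrimeCore p (G ⧸ Q)) := by
        have e := relIndex_comap (⊥ : Subgroup (G ⧸ Q)) (QuotientGroup.mk' Q) K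
        rw [MonoidHom.comap_bot, QuotientGroup.ker_mk'] at e
        rw [e, hK, map_comap_eq_self_of_surjective (QuotientGroup.mk'_surjective Q), relIndex_bot_left]
      have h3 := relIndex_mul_relIndex ⊥ Q K bot_le hQK
      rw [relIndex_bot_left, relIndex_bot_left, h2, hkQ] at h3
      rw [← h3]
      exact Nat.Coprime.mul_left (Nat.Coprime.pow_left _ hpq.symm) Grp.pPrimeCore_coprime
    refine hnz fun g => hK ?_
    rw [mem_comap]
    simpa using hquot Q hQ0 (QuotientGroup.mk g)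
  have hxN : x ∈ N := hN ▸ hxQ
  have hz := hmin N hxN hNt
  have hQN : Q ≤ N := hN ▸ le_normalizer
  obtain ⟨O, hO⟩ : ∃ O, O = (Cfsg.pPrimeCore p ↥N).map N.subtype := ⟨_, rfl⟩
  have hOc : (Nat.card ↥O).Coprime p := by
    rw [hO, card_map_of_injective N.subtype_injective]; exact Grp.pPrimeCore_coprime
  obtain ⟨T, hT⟩ := (hQ.comap_subtype (K := N)).exists_le_sylow
  obtain ⟨U, hU⟩ : ∃ U, U = (T : Subgroup ↥N).map N.subtype := ⟨_, rfl⟩
  have hUN : U ≤ N := hU ▸ map_subtype_le _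
  have hUO : U ≤ normalizer (O : Set G) := by
    rw [hO]
    refine hUN.trans fun n hn => Subgroup.mem_normalizer_fintype ?_
    rintro _ ⟨w, hw, rfl⟩
    exact ⟨⟨n, hn⟩ * w * ⟨n, hn⟩⁻¹, (Grp.pPrimeCore_isNormal (p := p) (G := ↥N)).conj_mem w hw _, by simp⟩
  obtain ⟨kT, hkT⟩ := T.isPGroup'.exists_card_eq
  have hUc : (Nat.card ↥U).Coprime p := by
    rw [hU, card_map_of_injective N.subtype_injective, hkT]
    exact Nat.Coprime.pow_left _ hpq.symm
  obtain ⟨K, hKdef⟩ : ∃ K, K = O ⊔ U := ⟨_, rfl⟩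
  have hKc : (Nat.card ↥K).Coprime p := by
    rw [hKdef, sup_comm]; exact Grp.card_sup_coprime_to hUO hUc hOc
  have hKN : K ≤ N := hKdef ▸ sup_le (hO ▸ map_subtype_le _) hUN
  have hxK : zpowers x ≤ normalizer (K : Set G) := by
    rw [zpowers_le]
    have hm : K.map (MulAut.conj x).toMonoidHom ≤ K := by
      rw [hKdef, Subgroup.map_sup]
      refine sup_le ?_ ?_
      · rw [hO]
        rintro _ ⟨_, ⟨w, hw, rfl⟩, rfl⟩
        exact mem_sup_left ⟨⟨x, hxN⟩ * w * ⟨x, hxN⟩⁻¹, (Grp.pPrimeCore_isNormal (p := p) (G := ↥N)).conj_mem w hw _, by simp⟩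
      · rintro _ ⟨t, ht, rfl⟩
        have h := inv_mem (hz ⟨t, hUN ht⟩)
        show x * t * x⁻¹ ∈ _
        rw [show x * t * x⁻¹ = (t * x * t⁻¹ * x⁻¹)⁻¹ * t by group]
        refine mul_mem (mem_sup_left ?_) (mem_sup_right ht)
        rw [hO]
        exact ⟨_, h, by simp⟩
    exact Subgroup.mem_normalizer_fintype fun y hy => hm ⟨y, hy, rfl⟩
  have hQU : Q ≤ U := fun y hy => by
    rw [hU]; exact ⟨⟨y, hQN hy⟩, hT hy, rfl⟩
  haveI : Group.IsNilpotent ↥(zpowers x) := (isPGroup_zpowers hx).isNilpotent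
  obtain ⟨X, hX, hxX, hQX⟩ := Grp.exists_invariant_sylow_ge (zpowers x) K hxK
    (by rw [Nat.card_zpowers, hx]; exact hKc.symm) (Or.inl inferInstance) (p := q) (U := Q)
    (hQU.trans (hKdef ▸ le_sup_right)) hQ (zpowers_le.mpr hxQ)
  have hXQ : X = Q := hmax X hX.2.1 (hxX (mem_zpowers x)) hQX
  have hUQ : U = Q := by
    have hUs : Grp.IsSylowIn q U K := by
      refine ⟨hKdef ▸ le_sup_right, hU ▸ T.isPGroup'.map _, fun h => ?_⟩
      have hT' := (Grp.isSylowIn_iff (X := U) (K := N)).mpr ⟨T, hU.symm⟩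
      exact hT'.2.2 (h.trans (Dvd.intro _ (relIndex_mul_relIndex U K N (hKdef ▸ le_sup_right) hKN)))
    exact (eq_of_le_of_card_ge hQU (by rw [hUs.card, ← hX.card, hXQ])).symm
  obtain ⟨S, hS⟩ := hQ.exists_le_sylow
  refine ⟨S, ?_⟩
  by_contra hne
  haveI := S.isPGroup'.isNilpotent
  obtain ⟨s, hs, hsQ⟩ := SetLike.exists_of_lt (Group.normalizerCondition_of_isNilpotent
    (Q.subgroupOf S) (lt_top_iff_ne_top.mpr fun e => hne (le_antisymm (subgroupOf_eq_top.mp e) hS)))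
  have hsN : (s : G) ∈ N := by
    rw [hN]
    refine Subgroup.mem_normalizer_fintype fun y hy => ?_
    exact (mem_normalizer_iff.mp hs ⟨y, hS hy⟩).mp hy
  have hY : (Q ⊔ zpowers (s : G)) = Q := by
    have hle : Q ⊔ zpowers (s : G) ≤ N := sup_le hQN (zpowers_le.mpr hsN)
    have hY' : IsPGroup q ↥(Q ⊔ zpowers (s : G)) :=
      S.isPGroup'.to_le (sup_le hS (zpowers_le.mpr s.2))
    have hT' := (Grp.isSylowIn_iff (X := U) (K := N)).mpr ⟨T, hU.symm⟩
    rw [hUQ] at hT'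
    exact (hT'.eq_of_le le_sup_left hle hY').symm
  exact hsQ (mem_subgroupOf.mpr (hY ▸ mem_sup_right (mem_zpowers _)))

end Cfsg.Agent.Invol.IsolatedSylow
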