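import Cfsg.Agent.Lib.Invol.IsolatedPMinimal
import Cfsg.Agent.Lib.Transfer.Kazarin
import Cfsg.Agent.Lib.Block.PPartDerived

/-!
An isolated `p`-minimal subgroup with `Y` nonsolvable: `Y` modulo its `p`-core is its own layer, the components are
permuted transitively by the Sylow subgroup, and `p` divides the order (by Burnside's prime power class theorem).
-/

set_option autoImplicit false

open scoped commutatorElement Pointwise

namespace Cfsg.Agent.Invol.Isolated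

open Subgroup

universe u

/-- An element whose centralizer meets a perfect normal subgroup equal to its layer in prime power index centralizes it. -/
theorem centralizes_of_primePow {H : Type u} [Group H] [Finite H] (Yb : Subgroup H) [Yb.Normal]
    (hperf : ⁅Yb, Yb⁆ = Yb) (hlay : Cfsg.layer ↥Yb = ⊤) (q : H) {r a : ℕ} [Fact r.Prime]
    (ha : (centralizer ({q} : Set H)).relIndex Yb = r ^ a) : Yb ≤ centralizer ({q} : Set H) := by
  obtain ⟨H1, hH1⟩ : ∃ H1, H1 = Yb ⊔ Subgroup.zpowers q := ⟨_, rfl⟩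
  have hYH : Yb ≤ H1 := hH1 ▸ le_sup_left
  have hqH : q ∈ H1 := hH1 ▸ mem_sup_right (Subgroup.mem_zpowers q)
  obtain ⟨C, hC⟩ : ∃ C, C = centralizer ({q} : Set H) := ⟨_, rfl⟩
  rw [← hC] at ha
  obtain ⟨Cn, hCn⟩ : ∃ Cn, Cn = C.subgroupOf H1 := ⟨_, rfl⟩
  have hCn' : centralizer ({⟨q, hqH⟩} : Set ↥H1) = Cn := by
    ext y
    rw [hCn, mem_subgroupOf, hC, mem_centralizer_singleton_iff, mem_centralizer_singleton_iff]
    exact Subtype.ext_iff
  have hsup : Cn ⊔ Yb.subgroupOf H1 = ⊤ := by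
    refine eq_top_iff.mpr fun x _ => ?_
    have hx : (x : H) ∈ Yb ⊔ Subgroup.zpowers q := hH1 ▸ x.2
    rw [mem_sup_of_normal_left] at hx
    obtain ⟨y, hy, c, hc, e⟩ := hx
    have hcC : c ∈ C := hC ▸ Subgroup.zpowers_le.mpr (mem_centralizer_singleton_iff.mpr rfl) hc
    have hcH : c ∈ H1 := hH1 ▸ mem_sup_right hc
    have hx' : x = ⟨y, hYH hy⟩ * ⟨c, hcH⟩ := Subtype.ext e.symm
    rw [hx']
    exact mul_mem (mem_sup_right (show (⟨y, hYH hy⟩ : ↥H1) ∈ Yb.subgroupOf H1 from hy))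
      (mem_sup_left (hCn ▸ hcC : (⟨c, hcH⟩ : ↥H1) ∈ Cn))
  have hidx : Cn.index = r ^ a := by
    have e1 : Cn.relIndex (Yb.subgroupOf H1) = C.relIndex Yb := hCn ▸ relIndex_subgroupOf hYH
    have e2 := Grp.card_sup_mul_card_inf_normal (H := Cn) (N := Yb.subgroupOf H1)
    rw [hsup, card_top, ← Cn.card_mul_index, mul_assoc] at e2
    have e3 := Nat.eq_of_mul_eq_mul_left Nat.card_pos e2
    rw [← Grp.relIndex_mul_card_inf (Yb.subgroupOf H1) Cn, e1, ha, inf_comm, mul_comm] at e3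
    exact Nat.eq_of_mul_eq_mul_left Nat.card_pos e3
  set O := Cfsg.pCore r ↥H1 with hO
  set π := QuotientGroup.mk' O with hπ
  have hcore : Cfsg.pCore r (↥H1 ⧸ O) = ⊥ := Block.PPartDerived.pCore_quotient_eq_bot
  have hle : Cn.map π ≤ centralizer ({π ⟨q, hqH⟩} : Set (↥H1 ⧸ O)) := by
    rintro _ ⟨c, hc, rfl⟩
    rw [← hCn'] at hc
    rw [mem_centralizer_singleton_iff, ← map_mul, ← map_mul, mem_centralizer_singleton_iff.mp hc]
  obtain ⟨b, -, hb⟩ := (Nat.dvd_prime_pow (Fact.out : r.Prime)).mp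
    (hidx ▸ (index_dvd_of_le hle).trans (index_map_dvd (f := π) (QuotientGroup.mk'_surjective O) (H := Cn)))
  have hmem := Transfer.Kazarin.mem_fitting hcore hb
  haveI := Grp.fittingSubgroup_isNormal (G := ↥H1 ⧸ O)
  haveI := Grp.fittingSubgroup_isNilpotent (G := ↥H1 ⧸ O)
  set N := (Cfsg.fittingSubgroup (↥H1 ⧸ O)).comap π with hN
  have hNsol : Group.IsSolvable ↥N := by
    have hON : O ≤ N := fun x hx => by
      rw [hN, mem_comap, hπ, QuotientGroup.mk'_apply, (QuotientGroup.eq_one_iff x).mpr hx]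
      exact one_mem _
    haveI : Group.IsSolvable ↥O := @IsNilpotent.to_isSolvable _ _ (Grp.pCore_isPGroup (p := r) (G := ↥H1)).isNilpotent
    haveI : Group.IsSolvable ↥(Cfsg.fittingSubgroup (↥H1 ⧸ O)) := IsNilpotent.to_isSolvable
    refine Group.isSolvable_of_ker_le_range (Subgroup.inclusion hON)
      ((π.comp N.subtype).codRestrict (Cfsg.fittingSubgroup (↥H1 ⧸ O)) fun x => x.2) fun x hx => ?_
    have hx' : (x : ↥H1) ∈ O := (QuotientGroup.eq_one_iff _).mp (congrArg Subtype.val hx)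
    exact ⟨⟨x, hx'⟩, rfl⟩
  obtain ⟨M, hM⟩ : ∃ M, M = N.map H1.subtype ⊓ Yb := ⟨_, rfl⟩
  have hMn : Yb ≤ normalizer (M : Set H) := by
    intro y hy
    refine mem_normalizer_fintype fun x hx => ?_
    rw [hM] at hx ⊢
    obtain ⟨⟨x', hx', rfl⟩, hxY⟩ := hx
    exact ⟨⟨⟨y, hYH hy⟩ * x' * ⟨y, hYH hy⟩⁻¹, (inferInstance : N.Normal).conj_mem x' hx' _, rfl⟩,
      Yb.mul_mem (Yb.mul_mem hy hxY) (Yb.inv_mem hy)⟩
  haveI hMsub : (M.subgroupOf Yb).Normal := normal_subgroupOf_of_le_normalizer hMn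
  have hMN : M ≤ N.map H1.subtype := by rw [hM]; exact inf_le_left
  have hMY : M ≤ Yb := by rw [hM]; exact inf_le_right
  have hMsol : Group.IsSolvable ↥(M.subgroupOf Yb) := by
    haveI := hNsol
    haveI : Group.IsSolvable ↥(N.map H1.subtype) := Group.isSolvable_of_surjective (H1.subtype.subgroupMap_surjective N)
    exact Group.isSolvable_of_isSolvable_injective
      (f := (Subgroup.inclusion hMN).comp
        (Subgroup.subgroupOfEquivOfLe hMY).toMonoidHom)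
      ((Subgroup.inclusion_injective hMN).comp (MulEquiv.injective _))
  have hcen := Grp.layer_le_centralizer_solvable (M.subgroupOf Yb) hMsol
  rw [hlay] at hcen
  have hf : ∀ y ∈ Yb, ∀ z ∈ Yb, Commute (q * y * q⁻¹ * y⁻¹) z := by
    intro y hy z hz
    have h1 : q * y * q⁻¹ * y⁻¹ ∈ M := by
      rw [hM]
      refine ⟨⟨⟨q, hqH⟩ * ⟨y, hYH hy⟩ * ⟨q, hqH⟩⁻¹ * ⟨y, hYH hy⟩⁻¹, ?_, rfl⟩,
        Yb.mul_mem ((inferInstance : Yb.Normal).conj_mem y hy q) (Yb.inv_mem hy)⟩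
      rw [mul_assoc, mul_assoc]
      exact N.mul_mem hmem (by
        rw [← mul_assoc]
        exact (inferInstance : N.Normal).conj_mem _ (N.inv_mem hmem) _)
    have h2 := mem_centralizer_iff.mp (hcen (mem_top (⟨z, hz⟩ : ↥Yb))) ⟨_, hM ▸ h1 |>.2⟩ h1
    exact congrArg Subtype.val h2
  refine le_trans hperf.ge (commutator_le.mpr fun a ha b hb => ?_)
  rw [mem_centralizer_singleton_iff]
  have key : q * ⁅a, b⁆ * q⁻¹ = ⁅a, b⁆ := by
    obtain ⟨u, hu⟩ : ∃ u, u = q * a * q⁻¹ * a⁻¹ := ⟨_, rfl⟩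
    obtain ⟨v, hv⟩ : ∃ v, v = q * b * q⁻¹ * b⁻¹ := ⟨_, rfl⟩
    have hua : Commute u a := hu ▸ hf a ha a ha
    have hub : Commute u b := hu ▸ hf a ha b hb
    have hva : Commute v a := hv ▸ hf b hb a ha
    have hvb : Commute v b := hv ▸ hf b hb b hb
    have huv : Commute u v := hu ▸ hf a ha v (hv ▸ Yb.mul_mem ((inferInstance : Yb.Normal).conj_mem b hb q) (Yb.inv_mem hb))
    have e : q * ⁅a, b⁆ * q⁻¹ = ⁅u * a, v * b⁆ := by rw [hu, hv, commutatorElement_def, commutatorElement_def]; group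
    rw [e]
    simp only [commutatorElement_def, mul_inv_rev]
    calc u * a * (v * b) * (a⁻¹ * u⁻¹) * (b⁻¹ * v⁻¹) = u * (a * v) * b * a⁻¹ * u⁻¹ * b⁻¹ * v⁻¹ := by group
      _ = (u * v) * (a * b * a⁻¹) * u⁻¹ * b⁻¹ * v⁻¹ := by rw [← hva.eq]; group
      _ = (v * u) * (a * b * a⁻¹) * u⁻¹ * b⁻¹ * v⁻¹ := by rw [huv.eq]
      _ = v * ((a * b * a⁻¹) * u) * u⁻¹ * b⁻¹ * v⁻¹ := by
        rw [← ((hua.mul_right hub).mul_right hua.inv_right).eq]; group
      _ = v * (a * b * a⁻¹ * b⁻¹) * v⁻¹ := by group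
      _ = a * b * a⁻¹ * b⁻¹ := by
        rw [(((hva.mul_right hvb).mul_right hva.inv_right).mul_right hvb.inv_right).eq, mul_inv_cancel_right]
  exact mul_inv_eq_iff_eq_mul.mp key |>.symm

variable {G : Type u} [Group G] [Finite G] {p : ℕ} [Fact p.Prime] {S : Sylow p G} {P L : Subgroup G}

/-- `Y` modulo the core of the group. -/
abbrev bar (p : ℕ) (P : Subgroup G) : Subgroup (G ⧸ Cfsg.pCore p G) :=
  (clo p P).map (QuotientGroup.mk' (Cfsg.pCore p G))

theorem Hyp.bar_perfect (h : Hyp S P L) (hns : ¬ Group.IsSolvable ↥(clo p P)) :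
    ⁅bar p P, bar p P⁆ = bar p P := by
  rcases h.dichotomy (N := derY p P) with h1 | h1
  · refine le_antisymm (commutator_le_self _) ((Subgroup.map_mono h1).trans ?_)
    rw [Subgroup.map_sup, map_commutator, show (Cfsg.pCore p G ⊓ clo p P).map (QuotientGroup.mk' (Cfsg.pCore p G)) = ⊥ from
      (Subgroup.map_eq_bot_iff _).mpr (inf_le_left.trans (QuotientGroup.ker_mk' _).ge), sup_bot_eq]
  · exfalso
    refine hns ?_
    have h2 := h.comm_clo_le h1
    have h3 : ⁅⁅bar p P, bar p P⁆, ⁅bar p P, bar p P⁆⁆ = ⊥ := by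
      rw [← map_commutator, ← map_commutator, Subgroup.map_eq_bot_iff, QuotientGroup.ker_mk']
      exact (commutator_mono le_sup_left (commutator_le_self _)).trans h2
    haveI : Group.IsSolvable ↥(bar p P) := by
      refine ⟨⟨2, ?_⟩⟩
      rw [← Subgroup.map_eq_bot_iff_of_injective _ (bar p P).subtype_injective]
      show Subgroup.map (bar p P).subtype (⁅⁅(⊤ : Subgroup ↥(bar p P)), ⊤⁆, ⁅(⊤ : Subgroup ↥(bar p P)), ⊤⁆⁆ : Subgroup ↥(bar p P)) = ⊥
      rw [map_commutator, map_commutator, ← MonoidHom.range_eq_map, range_subtype, h3]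
    haveI : Group.IsSolvable ↥(Cfsg.pCore p ↥(clo p P)) :=
      @IsNilpotent.to_isSolvable _ _ (Grp.pCore_isPGroup (p := p) (G := ↥(clo p P))).isNilpotent
    refine Group.isSolvable_of_ker_le_range (Cfsg.pCore p ↥(clo p P)).subtype
      ((QuotientGroup.mk' (Cfsg.pCore p G)).subgroupMap (clo p P)) fun x hx => ?_
    rw [range_subtype, mem_pCore_clo]
    exact (QuotientGroup.eq_one_iff _).mp (congrArg Subtype.val hx)

theorem Hyp.bar_ne_bot (h : Hyp S P L) : bar p P ≠ ⊥ := by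
  intro hb
  rw [Subgroup.map_eq_bot_iff, QuotientGroup.ker_mk'] at hb
  exact h.not_res_le_core ((res_le_clo P).trans hb)

theorem Hyp.bar_cases (h : Hyp S P L) (N : Subgroup (G ⧸ Cfsg.pCore p G)) [N.Normal] (hle : N ≤ bar p P) :
    N = bar p P ∨ N ≤ centralizer (bar p P : Set (G ⧸ Cfsg.pCore p G)) := by
  set π := QuotientGroup.mk' (Cfsg.pCore p G) with hπ
  have hmap : (N.comap π ⊓ clo p P).map π = N := by
    refine le_antisymm (map_le_iff_le_comap.mpr inf_le_left) fun n hn => ?_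
    obtain ⟨y, hy, rfl⟩ := hle hn
    exact ⟨y, ⟨hn, hy⟩, rfl⟩
  rcases h.dichotomy (N := N.comap π ⊓ clo p P) with h1 | h1
  · exact Or.inl (le_antisymm hle ((Subgroup.map_mono h1).trans_eq hmap))
  · refine Or.inr ?_
    rw [← commutator_eq_bot_iff_le_centralizer, ← hmap, ← map_commutator, Subgroup.map_eq_bot_iff, hπ,
      QuotientGroup.ker_mk']
    exact h.comm_clo_le h1

theorem Hyp.bar_layer (h : Hyp S P L) (hns : ¬ Group.IsSolvable ↥(clo p P)) : Cfsg.layer ↥(bar p P) = ⊤ := by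
  obtain ⟨Yb, hYb⟩ : ∃ Yb, Yb = bar p P := ⟨_, rfl⟩
  haveI : Yb.Normal := hYb ▸ Subgroup.Normal.map normalClosure_normal _ (QuotientGroup.mk'_surjective _)
  have hperf : ⁅Yb, Yb⁆ = Yb := hYb ▸ h.bar_perfect hns
  have hne : Yb ≠ ⊥ := hYb ▸ h.bar_ne_bot
  have hnil : ¬ Group.IsNilpotent ↥Yb := fun hn => hne
    (Grp.eq_bot_of_perfect_of_solvable hperf (@IsNilpotent.to_isSolvable _ _ hn))
  have hcases : ∀ N : Subgroup (G ⧸ Cfsg.pCore p G), N.Normal → N ≤ Yb →
      N = Yb ∨ N ≤ centralizer (Yb : Set (G ⧸ Cfsg.pCore p G)) := fun N hN hle => by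
    subst hYb; exact h.bar_cases N hle
  have hsub : ∀ A : Subgroup ↥Yb, A.map Yb.subtype = Yb → A = ⊤ := fun A hA => by
    refine map_injective Yb.subtype_injective ?_
    rw [hA, ← MonoidHom.range_eq_map, range_subtype]
  have hcen : ∀ A : Subgroup ↥Yb, A.map Yb.subtype ≤ centralizer (Yb : Set (G ⧸ Cfsg.pCore p G)) →
      centralizer (A : Set ↥Yb) = ⊤ := fun A hA => eq_top_iff.mpr fun y _ => mem_centralizer_iff.mpr fun a ha =>
    Subtype.ext ((mem_centralizer_iff.mp (hA ⟨a, ha, rfl⟩) (y : G ⧸ Cfsg.pCore p G) y.2).symm)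
  rw [← hYb]
  rcases hcases _ (ConjAct.normal_of_characteristic_of_normal (K := Cfsg.layer ↥Yb)) (map_subtype_le _) with h1 | h1
  · exact hsub _ h1
  exfalso
  have hE : Cfsg.layer ↥Yb = ⊥ := Grp.eq_bot_of_perfect_of_comm Grp.layer_perfect ((hcen _ h1).ge.trans' le_top)
  haveI : (Cfsg.fittingSubgroup ↥Yb).Characteristic := Grp.instCharFitting
  have hF := Grp.centralizer_fitting_le_of_layer_eq_bot hE
  have htop : Cfsg.fittingSubgroup ↥Yb = ⊤ := by
    rcases hcases _ (ConjAct.normal_of_characteristic_of_normal (K := Cfsg.fittingSubgroup ↥Yb)) (map_subtype_le _) with h2 | h2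
    · exact hsub _ h2
    · exact top_le_iff.mp ((hcen _ h2).ge.trans hF)
  refine hnil ?_
  have h3 := Grp.fittingSubgroup_isNilpotent (G := ↥Yb)
  rw [htop] at h3
  exact (Group.isNilpotent_congr Subgroup.topEquiv).mp h3

theorem Hyp.dvd_bar (h : Hyp S P L) (hns : ¬ Group.IsSolvable ↥(clo p P)) : p ∣ Nat.card ↥(bar p P) := by
  by_contra hp
  obtain ⟨Yb, hYb⟩ : ∃ Yb, Yb = bar p P := ⟨_, rfl⟩
  haveI : Yb.Normal := hYb ▸ Subgroup.Normal.map normalClosure_normal _ (QuotientGroup.mk'_surjective _)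
  rw [← hYb] at hp
  set π := QuotientGroup.mk' (Cfsg.pCore p G) with hπ
  obtain ⟨Sb, hSb⟩ : ∃ Sb, Sb = (S : Subgroup G).map π := ⟨_, rfl⟩
  have hSbp : IsPGroup p Sb := hSb ▸ S.2.map _
  have hcop : ∀ A : Subgroup (G ⧸ Cfsg.pCore p G), IsPGroup p A → (Nat.card A).Coprime (Nat.card Yb) := fun A hA => by
    obtain ⟨k, hk⟩ := IsPGroup.iff_card.mp hA
    rw [hk]
    exact Nat.Coprime.pow_left _ ((Fact.out : p.Prime).coprime_iff_not_dvd.mpr hp)
  have hSsol : Group.IsSolvable Sb := @IsNilpotent.to_isSolvable _ _ hSbp.isNilpotent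
  have hnorm : Sb ≤ normalizer (Yb : Set (G ⧸ Cfsg.pCore p G)) :=
    (Subgroup.normalizer_eq_top (H := Yb)).ge.trans' le_top
  obtain ⟨Q, hQ⟩ : ∃ Q, Q = Cfsg.pCoreOf p L := ⟨_, rfl⟩
  have hQS : Q ≤ (S : Subgroup G) := hQ ▸ h.Q_le_S
  have hsyl : ∀ r : ℕ, ∀ _ : Fact r.Prime, ∃ X, Grp.IsSylowIn r X Yb ∧ Sb ≤ normalizer (X : Set (G ⧸ Cfsg.pCore p G)) :=
    fun r _ => Grp.exists_invariant_sylow Sb Yb hnorm (hcop Sb hSbp) (Or.inl hSsol) r
  choose X hX hXS using hsyl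
  obtain ⟨Z, hZ⟩ : ∃ Z : ∀ r : ℕ, Fact r.Prime → Subgroup G, ∀ r hr, Z r hr = (X r hr).comap π ⊓ clo p P :=
    ⟨fun r hr => (X r hr).comap π ⊓ clo p P, fun _ _ => rfl⟩
  have hZX : ∀ r hr, (X r hr) ≤ (Z r hr).map π := fun r hr x hx => by
    obtain ⟨y, hy, rfl⟩ := hYb ▸ (hX r hr).1 hx
    exact ⟨y, hZ r hr ▸ ⟨hx, hy⟩, rfl⟩
  have hZS : ∀ r hr, (S : Subgroup G) ≤ normalizer (Z r hr : Set G) := fun r hr s hs => by
    refine mem_normalizer_fintype fun x hx => ?_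
    rw [hZ] at hx ⊢
    refine ⟨?_, (normalClosure_normal.conj_mem x hx.2 s : s * x * s⁻¹ ∈ clo p P)⟩
    show π (s * x * s⁻¹) ∈ X r hr
    rw [map_mul, map_mul, map_inv]
    exact (mem_normalizer_iff.mp (hXS r hr (hSb ▸ ⟨s, hs, rfl⟩)) _).mp hx.1
  have hres : ∀ r hr, ¬ Z r hr ≤ L → res p P ≤ Z r hr := fun r hr hnle => by
    have hP : P ≤ Z r hr ⊔ (S : Subgroup G) :=
      (h.cases le_sup_right).resolve_right fun hle => hnle (le_sup_left.trans hle)
    exact res_le_of_coprime fun g hg hgo => mem_of_coprime S.2 (hZS r hr) (hP hg) hgo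
  have hzero : ∀ (r₁ r₂ : ℕ) (h₁ : Fact r₁.Prime) (h₂ : Fact r₂.Prime), r₁ ≠ r₂ →
      res p P ≤ Z r₁ h₁ → res p P ≤ Z r₂ h₂ → False := fun r₁ r₂ h₁ h₂ hne a b => by
    refine h.not_res_le_core fun x hx => (QuotientGroup.eq_one_iff x).mp ?_
    have hd := IsPGroup.disjoint_of_ne r₁ r₂ hne _ _ (hX r₁ h₁).2.1 (hX r₂ h₂).2.1
    exact (mem_bot.mp (hd.le_bot ⟨((hZ r₁ h₁).le (a hx)).1, ((hZ r₂ h₂).le (b hx)).1⟩) : π x = 1)
  obtain ⟨r, hr, hrL⟩ : ∃ r hr, ¬ Z r hr ≤ L := by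
    by_contra hcon
    push Not at hcon
    refine h.not_clo_le ?_
    have hle : Yb ≤ Yb ⊓ L.map π := Grp.le_of_forall_sylow inf_le_left fun r hr => ⟨X r hr, hX r hr,
      le_inf (hX r hr).1 ((hZX r hr).trans (Subgroup.map_mono (hcon r hr)))⟩
    have h1 := (hle.trans inf_le_right)
    rw [hYb, Subgroup.map_le_map_iff, QuotientGroup.ker_mk'] at h1
    exact h1.trans (sup_le le_rfl h.core_le_L)
  have hcent : ∀ q ∈ Q, Yb ≤ centralizer ({π q} : Set (G ⧸ Cfsg.pCore p G)) := by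
    intro q hq
    haveI := hr
    have hother : ∀ r', ∀ hr' : Fact r'.Prime, r' ≠ r → X r' hr' ≤ centralizer ({π q} : Set (G ⧸ Cfsg.pCore p G)) := by
      intro r' hr' hne
      have hZL : Z r' hr' ≤ L := Classical.byContradiction fun hn => hzero r' r hr' hr hne (hres r' hr' hn) (hres r hr hrL)
      intro x hx
      obtain ⟨z, hz, rfl⟩ := hZX r' hr' hx
      rw [mem_centralizer_singleton_iff]
      have hzY : z ∈ clo p P := ((hZ r' hr').le hz).2
      have h1 : z * q * z⁻¹ * q⁻¹ ∈ Q :=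
        Q.mul_mem ((mem_normalizer_iff.mp (hQ ▸ h.L_norm_Q (hZL hz)) q).mp hq) (Q.inv_mem hq)
      have h2 : z * q * z⁻¹ * q⁻¹ ∈ clo p P := by
        rw [mul_assoc, mul_assoc, ← mul_assoc q]
        exact mul_mem hzY (normalClosure_normal.conj_mem _ (inv_mem hzY) q)
      have h3 := Grp.inf_eq_bot_of_coprime (hcop (Q.map π) ((S.2.to_le hQS).map π))
      have h4 : π (z * q * z⁻¹ * q⁻¹) = 1 := mem_bot.mp (h3.le ⟨⟨_, h1, rfl⟩, hYb ▸ ⟨_, h2, rfl⟩⟩)
      rw [map_mul, map_mul, map_mul, map_inv, map_inv, mul_inv_eq_one, mul_inv_eq_iff_eq_mul] at h4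
      exact h4
    have hpow : ∃ a, (centralizer ({π q} : Set (G ⧸ Cfsg.pCore p G))).relIndex Yb = r ^ a := by
      refine ⟨_, Nat.eq_prime_pow_of_unique_prime_dvd ?_ fun {d} hd hdvd => ?_⟩
      · rw [relIndex]; exact index_ne_zero_of_finite
      · by_contra hne
        haveI : Fact d.Prime := ⟨hd⟩
        refine (hX d inferInstance).2.2 (hdvd.trans ?_)
        rw [← inf_relIndex_right (centralizer _) Yb]
        exact relIndex_dvd_of_le_left Yb (le_inf (hother d inferInstance hne) (hX d inferInstance).1)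
    obtain ⟨a, ha⟩ := hpow
    subst hYb
    exact centralizes_of_primePow _ (h.bar_perfect hns) (h.bar_layer hns) (π q) ha
  refine h.not_comm_le (K := Cfsg.pCore p G) h.not_res_le_core (commutator_le.mpr fun x hx q hq => ?_)
  rw [← QuotientGroup.eq_one_iff]
  show π ⁅x, q⁆ = 1
  rw [map_commutatorElement, commutatorElement_eq_one_iff_mul_comm]
  exact mem_centralizer_singleton_iff.mp (hcent q (hQ ▸ hq) (hYb ▸ ⟨x, res_le_clo P hx, rfl⟩))

/-- Components below `Y` are conjugate under the Sylow subgroup. -/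
theorem Hyp.transitive (h : Hyp S P L) (hns : ¬ Group.IsSolvable ↥(clo p P))
    {K₁ K₂ : Subgroup (G ⧸ Cfsg.pCore p G)} (h₁ : Cfsg.IsComponent K₁) (hY₁ : K₁ ≤ bar p P)
    (h₂ : Cfsg.IsComponent K₂) (hY₂ : K₂ ≤ bar p P) :
    ∃ s ∈ (S : Subgroup G), K₂ = MulAut.conj (QuotientGroup.mk' (Cfsg.pCore p G) s) • K₁ := by
  obtain ⟨Yb, hYb⟩ : ∃ Yb, Yb = bar p P := ⟨_, rfl⟩
  haveI : Yb.Normal := hYb ▸ Subgroup.Normal.map normalClosure_normal _ (QuotientGroup.mk'_surjective _)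
  rw [← hYb] at hY₁ hY₂
  set π := QuotientGroup.mk' (Cfsg.pCore p G) with hπ
  obtain ⟨Q, hQ⟩ : ∃ Q, Q = Cfsg.pCoreOf p L := ⟨_, rfl⟩
  have hQS : Q ≤ (S : Subgroup G) := hQ ▸ h.Q_le_S
  have hLQ : L ≤ normalizer (Q : Set G) := hQ ▸ h.L_norm_Q
  have hperf : ⁅Yb, Yb⁆ = Yb := hYb ▸ h.bar_perfect hns
  have hne : Yb ≠ ⊥ := hYb ▸ h.bar_ne_bot
  have hgen : ∀ C : Subgroup (G ⧸ Cfsg.pCore p G), (∀ K, Cfsg.IsComponent K → K ≤ Yb → K ≤ C) → Yb ≤ C := by
    intro C hC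
    have hl : Cfsg.layer ↥Yb = ⊤ := by subst hYb; exact h.bar_layer hns
    have hle : Cfsg.layer ↥Yb ≤ C.subgroupOf Yb := sSup_le fun K hK x hx => by
      exact hC _ (Grp.IsComponent.map_subtype (inferInstance : Yb.Normal).isSubnormal hK) (map_subtype_le K)
        ⟨x, hx, rfl⟩
    rw [hl] at hle
    exact subgroupOf_eq_top.mp (top_le_iff.mp hle)
  have hconj : ∀ (g : G) K, Cfsg.IsComponent K → K ≤ Yb →
      Cfsg.IsComponent (MulAut.conj (π g) • K) ∧ MulAut.conj (π g) • K ≤ Yb := fun g K hK hKY =>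
    ⟨Grp.map_conj_eq_smul K (π g) ▸ Grp.IsComponent.map_iso _ hK, by
      rw [← Grp.normalizer_le_smul (Subgroup.normalizer_eq_top (H := Yb)).ge (mem_top (π g))]
      exact Subgroup.pointwise_smul_le_pointwise_smul_iff.mpr hKY⟩
  have hnormK : ∀ K, Cfsg.IsComponent K → K ≤ Yb → Yb ≤ normalizer (K : Set (G ⧸ Cfsg.pCore p G)) := fun K hK _ =>
    hgen _ fun K' hK' _ => by
      by_cases e : K' = K
      · exact e ▸ Subgroup.le_normalizer
      · exact (Grp.IsComponent.commute hK' hK e).trans (centralizer_le_normalizer _)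
  -- orbit products
  obtain ⟨U, hU⟩ : ∃ U : Subgroup (G ⧸ Cfsg.pCore p G) → Subgroup (G ⧸ Cfsg.pCore p G),
      ∀ K, U K = ⨆ s : ↥(S : Subgroup G), MulAut.conj (π s) • K :=
    ⟨fun K => ⨆ s : ↥(S : Subgroup G), MulAut.conj (π s) • K, fun _ => rfl⟩
  have hKU : ∀ K, K ≤ U K := fun K => by
    rw [hU]; exact le_iSup_of_le 1 (by rw [Subgroup.coe_one, map_one, map_one, one_smul])
  have hUY : ∀ K, Cfsg.IsComponent K → K ≤ Yb → U K ≤ Yb := fun K hK hKY => by
    rw [hU]; exact iSup_le fun s => (hconj s K hK hKY).2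
  have hUnY : ∀ K, Cfsg.IsComponent K → K ≤ Yb → Yb ≤ normalizer (U K : Set (G ⧸ Cfsg.pCore p G)) := by
    intro K hK hKY y hy
    rw [hU, Grp.mem_normalizer_iff_smul, ← Grp.map_conj_eq_smul, Subgroup.map_iSup]
    refine iSup_congr fun s => ?_
    rw [Grp.map_conj_eq_smul]
    exact Grp.normalizer_le_smul (hnormK _ (hconj s K hK hKY).1 (hconj s K hK hKY).2) hy
  have hUnS : ∀ K, (S : Subgroup G).map π ≤ normalizer (U K : Set (G ⧸ Cfsg.pCore p G)) := by
    rintro K _ ⟨t, ht, rfl⟩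
    rw [hU, Grp.mem_normalizer_iff_smul, ← Grp.map_conj_eq_smul, Subgroup.map_iSup]
    simp only [Grp.map_conj_eq_smul, Grp.conj_smul_conj_smul, ← map_mul]
    exact (Equiv.mulLeft (⟨t, ht⟩ : ↥(S : Subgroup G))).iSup_comp (g := fun s : ↥(S : Subgroup G) => MulAut.conj (π s) • K)
  obtain ⟨Rb, hRb⟩ : ∃ Rb, Rb = (res p P).map π := ⟨_, rfl⟩
  obtain ⟨Qb, hQb⟩ : ∃ Qb, Qb = Q.map π := ⟨_, rfl⟩
  have hRY : Rb ≤ Yb := hRb ▸ hYb ▸ Subgroup.map_mono (res_le_clo P)
  have key : ∀ K, Cfsg.IsComponent K → K ≤ Yb → Rb ≤ U K ∨ Qb ≤ centralizer (U K : Set (G ⧸ Cfsg.pCore p G)) := by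
    intro K hK hKY
    obtain ⟨U', hU'⟩ : ∃ U', U' = (U K).comap π ⊓ clo p P := ⟨_, rfl⟩
    have hmap : U K ≤ U'.map π := fun u hu => by
      obtain ⟨y, hy, rfl⟩ := hYb ▸ hUY K hK hKY hu
      exact ⟨y, hU' ▸ ⟨hu, hy⟩, rfl⟩
    have hnorm : ∀ g : G, π g ∈ normalizer (U K : Set (G ⧸ Cfsg.pCore p G)) → g ∈ normalizer (U' : Set G) := by
      intro g hg
      refine mem_normalizer_fintype fun x hx => ?_
      rw [hU'] at hx ⊢
      refine ⟨?_, (normalClosure_normal.conj_mem x hx.2 g : g * x * g⁻¹ ∈ clo p P)⟩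
      show π (g * x * g⁻¹) ∈ U K
      rw [map_mul, map_mul, map_inv]
      exact (mem_normalizer_iff.mp hg _).mp hx.1
    have hS' : (S : Subgroup G) ≤ normalizer (U' : Set G) := fun s hs => hnorm s (hUnS K ⟨s, hs, rfl⟩)
    have hY' : clo p P ≤ normalizer (U' : Set G) := fun y hy => hnorm y (hUnY K hK hKY (hYb ▸ ⟨y, hy, rfl⟩))
    rcases h.cases (X := U' ⊔ (S : Subgroup G)) le_sup_right with h1 | h1
    · left
      rw [hRb, map_le_iff_le_comap]
      exact (res_le_of_coprime fun g hg hgo => mem_of_coprime S.2 hS' (h1 hg) hgo).trans (hU' ▸ inf_le_left)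
    · right
      have hUL : U' ≤ L := le_sup_left.trans h1
      have hI : U' ⊓ Q ≤ Cfsg.pCoreOf p U' := fun x hx => by
        refine ⟨⟨x, hx.1⟩, Grp.le_pCore (N := (U' ⊓ Q).subgroupOf U') (normal_subgroupOf_of_le_normalizer ?_)
          (((S.2.to_le hQS).to_le inf_le_right).comap_subtype (K := U')) hx, rfl⟩
        intro u hu
        rw [Grp.mem_normalizer_iff_smul, Subgroup.smul_inf, Grp.normalizer_le_smul Subgroup.le_normalizer hu,
          Grp.normalizer_le_smul hLQ (hUL hu)]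
      have hIO : Cfsg.pCoreOf p U' ≤ Cfsg.pCore p G :=
        le_pCore_of_normal (H := clo p P) ((map_subtype_le _).trans (hU' ▸ inf_le_right))
          (hY'.trans (normalizer_le_pCoreOf U')) (Grp.pCore_isPGroup.map _)
      have hcomm : ⁅U', Q⁆ ≤ Cfsg.pCore p G := by
        refine le_trans (le_inf ?_ ?_) (hI.trans hIO)
        · exact le_normalizer_iff_commutator_le_left.mp (hQS.trans hS')
        · rw [commutator_comm]; exact le_normalizer_iff_commutator_le_left.mp (hUL.trans hLQ)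
      rw [hQb, ← commutator_eq_bot_iff_le_centralizer, commutator_comm, eq_bot_iff]
      refine (commutator_mono hmap le_rfl).trans ?_
      rw [← map_commutator, le_bot_iff, Subgroup.map_eq_bot_iff, hπ, QuotientGroup.ker_mk']
      exact hcomm
  -- no component is centralized by `O_p(L)`
  have hempty : ∀ K, Cfsg.IsComponent K → K ≤ Yb → ¬ Qb ≤ centralizer (K : Set (G ⧸ Cfsg.pCore p G)) := by
    intro K₀ hK₀ hKY₀ hQK₀
    obtain ⟨J, hJ⟩ : ∃ J, J = sSup {K | Cfsg.IsComponent K ∧ K ≤ Yb ∧ Qb ≤ centralizer (K : Set (G ⧸ Cfsg.pCore p G))} :=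
      ⟨_, rfl⟩
    have hLc : ∀ l ∈ L, ∀ K, Cfsg.IsComponent K → K ≤ Yb → Qb ≤ centralizer (K : Set (G ⧸ Cfsg.pCore p G)) →
        Qb ≤ centralizer ((MulAut.conj (π l) • K : Subgroup (G ⧸ Cfsg.pCore p G)) : Set (G ⧸ Cfsg.pCore p G)) := by
      intro l hl K _ _ hQK x hx
      refine mem_centralizer_iff.mpr fun y hy => ?_
      obtain ⟨k, hk, rfl⟩ := hy
      rw [hQb] at hx
      obtain ⟨q, hq, rfl⟩ := hx
      have h1 : π (l⁻¹ * q * l) ∈ Qb := hQb ▸ ⟨_, (mem_normalizer_iff''.mp (hLQ hl) q).mp hq, rfl⟩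
      have h2 := mem_centralizer_iff.mp (hQK h1) k hk
      rw [map_mul, map_mul, map_inv] at h2
      show π l * k * (π l)⁻¹ * π q = π q * (π l * k * (π l)⁻¹)
      calc π l * k * (π l)⁻¹ * π q = π l * (k * ((π l)⁻¹ * π q * π l)) * (π l)⁻¹ := by group
        _ = π l * ((π l)⁻¹ * π q * π l * k) * (π l)⁻¹ := by rw [h2]
        _ = π q * (π l * k * (π l)⁻¹) := by group
    have hRc : ∀ K, Cfsg.IsComponent K → K ≤ Yb → Qb ≤ centralizer (K : Set (G ⧸ Cfsg.pCore p G)) →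
        Rb ≤ centralizer (K : Set (G ⧸ Cfsg.pCore p G)) := by
      intro K hK hKY hQK
      have hQU : Qb ≤ centralizer (U K : Set (G ⧸ Cfsg.pCore p G)) := by
        rw [le_centralizer_iff, hU]
        exact iSup_le fun s => le_centralizer_iff.mp (hLc s (h.S_le s.2) K hK hKY hQK)
      have hn : P ≤ normalizer ((((centralizer (U K : Set (G ⧸ Cfsg.pCore p G))).comap π) : Subgroup G) : Set G) := by
        have hPn : ∀ g ∈ P, π g ∈ normalizer (U K : Set (G ⧸ Cfsg.pCore p G)) := fun g hg => by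
          have hle : P ≤ (normalizer (U K : Set (G ⧸ Cfsg.pCore p G))).comap π := h.res_sup.ge.trans (sup_le
            (map_le_iff_le_comap.mp ((hRb.ge.trans hRY).trans (hUnY K hK hKY))) (map_le_iff_le_comap.mp (hUnS K)))
          exact hle hg
        intro g hg
        refine mem_normalizer_fintype fun x hx => ?_
        show π (g * x * g⁻¹) ∈ centralizer (U K : Set (G ⧸ Cfsg.pCore p G))
        rw [map_mul, map_mul, map_inv]
        refine mem_centralizer_iff.mpr fun y hy => ?_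
        have h1 : (π g)⁻¹ * y * π g ∈ U K := (mem_normalizer_iff''.mp (hPn g hg) y).mp hy
        have h2 := mem_centralizer_iff.mp (show π x ∈ centralizer (U K : Set (G ⧸ Cfsg.pCore p G)) from hx) _ h1
        calc y * (π g * π x * (π g)⁻¹) = π g * ((π g)⁻¹ * y * π g * π x) * (π g)⁻¹ := by group
          _ = π g * (π x * ((π g)⁻¹ * y * π g)) * (π g)⁻¹ := by rw [h2]
          _ = π g * π x * (π g)⁻¹ * y := by group
      have h1 := h.res_le_of hn (by rw [← hQ, ← map_le_iff_le_comap, ← hQb]; exact hQU)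
      rw [← map_le_iff_le_comap, ← hRb] at h1
      exact h1.trans (centralizer_le (SetLike.coe_subset_coe.mpr (hKU K)))
    haveI hJn : J.Normal := by
      rw [← Subgroup.normalizer_eq_top_iff, eq_top_iff, ← Subgroup.map_top_of_surjective π (QuotientGroup.mk'_surjective _),
        ← h.sup_top, ← h.res_sup, sup_assoc, sup_eq_right.mpr h.S_le, Subgroup.map_sup, ← hRb]
      refine sup_le ?_ ?_
      · refine le_trans ?_ (centralizer_le_normalizer _)
        rw [le_centralizer_iff, hJ]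
        exact sSup_le fun K ⟨hK, hKY, hQK⟩ => le_centralizer_iff.mp (hRc K hK hKY hQK)
      · rintro _ ⟨l, hl, rfl⟩
        have hle : ∀ g ∈ L, MulAut.conj (π g) • J ≤ J := fun g hg => by
          rw [Subgroup.pointwise_smul_subset_iff, hJ]
          refine sSup_le fun K ⟨hK, hKY, hQK⟩ => ?_
          rw [← Subgroup.pointwise_smul_subset_iff]
          exact le_sSup ⟨(hconj g K hK hKY).1, (hconj g K hK hKY).2, hLc g hg K hK hKY hQK⟩
        rw [Grp.mem_normalizer_iff_smul]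
        refine le_antisymm (hle l hl) ?_
        have := (Subgroup.pointwise_smul_le_pointwise_smul_iff (a := MulAut.conj (π l))).mpr (hle l⁻¹ (inv_mem hl))
        rwa [map_inv, Grp.conj_smul_conj_smul, mul_inv_cancel, map_one, one_smul] at this
    have hJY : J ≤ Yb := hJ ▸ sSup_le fun K hK => hK.2.1
    have hQJ : Qb ≤ centralizer (J : Set (G ⧸ Cfsg.pCore p G)) := by
      rw [le_centralizer_iff, hJ]
      exact sSup_le fun K hK => le_centralizer_iff.mp hK.2.2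
    have hcases : J = Yb ∨ J ≤ centralizer (Yb : Set (G ⧸ Cfsg.pCore p G)) := by
      subst hYb; exact h.bar_cases J hJY
    rcases hcases with h1 | h1
    · refine h.not_comm_le (K := Cfsg.pCore p G) h.not_res_le_core (commutator_le.mpr fun x hx q hq => ?_)
      rw [← QuotientGroup.eq_one_iff]
      show π ⁅x, q⁆ = 1
      rw [map_commutatorElement, commutatorElement_eq_one_iff_mul_comm]
      exact mem_centralizer_iff.mp (hQJ (hQb ▸ ⟨q, hQ ▸ hq, rfl⟩)) (π x) (h1.ge (hRY (hRb ▸ ⟨x, hx, rfl⟩)))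
    · refine Grp.IsComponent.ne_bot hK₀ (Grp.eq_bot_of_perfect_of_comm (Grp.IsComponent.perfect hK₀) ?_)
      exact ((hJ ▸ le_sSup ⟨hK₀, hKY₀, hQK₀⟩ : K₀ ≤ J).trans h1).trans (centralizer_le (SetLike.coe_subset_coe.mpr hKY₀))
  have hRU : ∀ K, Cfsg.IsComponent K → K ≤ Yb → Rb ≤ U K := fun K hK hKY =>
    (key K hK hKY).resolve_right fun h1 => hempty K hK hKY (h1.trans (centralizer_le (SetLike.coe_subset_coe.mpr (hKU K))))
  by_contra hcon
  push Not at hcon
  -- different orbits commute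
  have horb : ∀ A B, Cfsg.IsComponent A → A ≤ Yb → Cfsg.IsComponent B → B ≤ Yb →
      (∀ s : ↥(S : Subgroup G), MulAut.conj (π s) • A ≠ B) → U A ≤ centralizer (U B : Set (G ⧸ Cfsg.pCore p G)) := by
    intro A B hA hAY hB hBY hne
    rw [le_centralizer_iff, hU B]
    refine iSup_le fun t => ?_
    rw [le_centralizer_iff, hU A]
    refine iSup_le fun s => Grp.IsComponent.commute (hconj s A hA hAY).1 (hconj t B hB hBY).1 fun e => hne (t⁻¹ * s) ?_
    rw [Subgroup.coe_mul, map_mul, ← Grp.conj_smul_conj_smul, e, Subgroup.coe_inv, map_inv, Grp.conj_smul_conj_smul,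
      inv_mul_cancel, map_one, one_smul]
  have h12 := horb K₁ K₂ h₁ hY₁ h₂ hY₂ fun s e => hcon s s.2 e.symm
  have hcen : Rb ≤ centralizer (Yb : Set (G ⧸ Cfsg.pCore p G)) := by
    rw [le_centralizer_iff]
    refine hgen _ fun K hK hKY => ?_
    by_cases hor : ∃ s : ↥(S : Subgroup G), MulAut.conj (π s) • K₁ = K
    · obtain ⟨s, rfl⟩ := hor
      refine le_trans ?_ (centralizer_le (SetLike.coe_subset_coe.mpr (hRU K₂ h₂ hY₂)))
      exact le_trans (hU K₁ ▸ le_iSup (fun s : ↥(S : Subgroup G) => MulAut.conj (π s) • K₁) s) h12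
    · push Not at hor
      have h1K := horb K₁ K h₁ hY₁ hK hKY hor
      exact le_trans (hKU K) ((le_centralizer_iff.mp h1K).trans (centralizer_le (SetLike.coe_subset_coe.mpr (hRU K₁ h₁ hY₁))))
  have hn : ((centralizer (Yb : Set (G ⧸ Cfsg.pCore p G))).comap π).Normal := inferInstance
  have hle : clo p P ≤ (centralizer (Yb : Set (G ⧸ Cfsg.pCore p G))).comap π :=
    normalClosure_le_normal (map_le_iff_le_comap.mp (hRb ▸ hcen))
  rw [← map_le_iff_le_comap] at hle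
  exact hne (Grp.eq_bot_of_perfect_of_comm hperf (hYb.le.trans hle))

theorem conclusion (h : Hyp S P L) : res p P = clo p P ∨
    ∃ _ : (Cfsg.pCore p ↥(clo p P)).Normal,
      p ∣ Nat.card (↥(clo p P) ⧸ Cfsg.pCore p ↥(clo p P)) ∧ Cfsg.layer (↥(clo p P) ⧸ Cfsg.pCore p ↥(clo p P)) = ⊤ ∧
      ∀ K₁ K₂ : Subgroup (↥(clo p P) ⧸ Cfsg.pCore p ↥(clo p P)), Cfsg.IsComponent K₁ → Cfsg.IsComponent K₂ →
        ∃ s ∈ (S : Subgroup G), ((K₂.comap (QuotientGroup.mk' (Cfsg.pCore p ↥(clo p P)))).map (clo p P).subtype) =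
          (((K₁.comap (QuotientGroup.mk' (Cfsg.pCore p ↥(clo p P)))).map (clo p P).subtype)).map (MulAut.conj s).toMonoidHom := by
  refine or_iff_not_imp_left.mpr fun hne => ?_
  have hns : ¬ Group.IsSolvable ↥(clo p P) := fun hs => hne (h.clo_eq_res hs)
  set π := QuotientGroup.mk' (Cfsg.pCore p G) with hπ
  let f := π.subgroupMap (clo p P)
  have hker : f.ker = Cfsg.pCore p ↥(clo p P) := by
    ext x
    rw [MonoidHom.mem_ker, mem_pCore_clo, ← QuotientGroup.eq_one_iff]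
    exact Subtype.ext_iff
  let e : ↥(clo p P) ⧸ Cfsg.pCore p ↥(clo p P) ≃* ↥(bar p P) :=
    (QuotientGroup.quotientMulEquivOfEq hker.symm).trans
      (QuotientGroup.quotientKerEquivOfSurjective f (π.subgroupMap_surjective _))
  have he : ∀ y : ↥(clo p P), (e (QuotientGroup.mk y) : G ⧸ Cfsg.pCore p G) = π y := fun y => rfl
  refine ⟨inferInstance, ?_, ?_, fun K₁ K₂ h₁ h₂ => ?_⟩
  · rw [Nat.card_congr e.toEquiv]
    exact h.dvd_bar hns
  · have hl := h.bar_layer hns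
    have h1 := Grp.layer_map_le e.symm
    rw [hl, Subgroup.map_top_of_surjective _ e.symm.surjective] at h1
    exact top_le_iff.mp h1
  · haveI : (bar p P).Normal := Subgroup.Normal.map normalClosure_normal _ (QuotientGroup.mk'_surjective _)
    let E : Subgroup (↥(clo p P) ⧸ Cfsg.pCore p ↥(clo p P)) → Subgroup (G ⧸ Cfsg.pCore p G) := fun K =>
      (K.map e.toMonoidHom).map (bar p P).subtype
    have hE : ∀ K, Cfsg.IsComponent K → Cfsg.IsComponent (E K) := fun K hK =>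
      Grp.IsComponent.map_subtype (inferInstance : (bar p P).Normal).isSubnormal (Grp.IsComponent.map_iso e hK)
    have hpre : ∀ K (g : G), g ∈ ((K.comap (QuotientGroup.mk' (Cfsg.pCore p ↥(clo p P)))).map (clo p P).subtype) ↔
        g ∈ clo p P ∧ π g ∈ E K := by
      intro K g
      constructor
      · rintro ⟨y, hy, rfl⟩
        exact ⟨y.2, _, ⟨_, hy, rfl⟩, he y⟩
      · rintro ⟨hg, _, ⟨k, hk, rfl⟩, hkg⟩
        refine ⟨⟨g, hg⟩, ?_, rfl⟩
        have : e k = e (QuotientGroup.mk (⟨g, hg⟩ : ↥(clo p P))) := Subtype.ext (hkg.trans (he ⟨g, hg⟩).symm)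
        show (QuotientGroup.mk (⟨g, hg⟩ : ↥(clo p P))) ∈ K
        rw [← e.injective this]; exact hk
    obtain ⟨s, hs, hK⟩ := h.transitive hns (hE K₁ h₁) (map_subtype_le _) (hE K₂ h₂) (map_subtype_le _)
    refine ⟨s, hs, ?_⟩
    ext g
    rw [hpre, Subgroup.mem_map_equiv, hpre, hK, Subgroup.mem_pointwise_smul_iff_inv_smul_mem]
    simp only [MulAut.conj_symm_apply, MulAut.smul_def, MulAut.inv_apply]
    refine and_congr ⟨fun hg => ?_, fun hg => ?_⟩ (by rw [map_mul, map_mul, map_inv])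
    · simpa [clo] using (normalClosure_normal.conj_mem g hg s⁻¹ : s⁻¹ * g * s⁻¹⁻¹ ∈ clo p P)
    · simpa [clo, mul_assoc] using (normalClosure_normal.conj_mem _ hg s : s * (s⁻¹ * g * s) * s⁻¹ ∈ clo p P)

/-- `O_p(L)` lies in the `p`-core of any overgroup of `S` inside `L`. -/
theorem Hyp.isolated_below (h : Hyp S P L) {L₀ : Subgroup G} (hS : (S : Subgroup G) ≤ L₀) (hL : L₀ ≤ L) :
    ¬ (Cfsg.pCore p ↥L₀).map L₀.subtype ≤ (Cfsg.pCore p ↥P).map P.subtype := by
  intro hle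
  refine h.hiso (le_trans ?_ hle)
  intro x hx
  exact ⟨⟨x, hS (h.Q_le_S hx)⟩, Grp.le_pCore (N := (Cfsg.pCoreOf p L).subgroupOf L₀)
    (normal_subgroupOf_of_le_normalizer (hL.trans h.L_norm_Q)) ((S.2.to_le h.Q_le_S).comap_subtype (K := L₀)) hx, rfl⟩

theorem main (h : Hyp S P L) :
    clo p P ⊔ L = ⊤ ∧
    ¬ (Cfsg.pCore p ↥((normalizer ((S : Subgroup G) : Set G) ⊓ (clo p P ⊔ (S : Subgroup G))) ⊔
          ⨆ P' : {P' : Subgroup G // (S : Subgroup G) ≤ P' ∧ P' ≤ clo p P ⊔ (S : Subgroup G) ∧ Cfsg.IsPMinimal p ↥P' ∧ P' ≠ P}, (P' : Subgroup G))).map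
        (Subgroup.subtype _) ≤ (Cfsg.pCore p ↥P).map P.subtype := by
  refine ⟨h.clo_sup, h.isolated_below ?_ ?_⟩
  · exact le_trans (le_inf Subgroup.le_normalizer le_sup_right) le_sup_left
  · refine sup_le (inf_le_left.trans h.normalizer_le) (iSup_le fun P' => ?_)
    rw [h.hL]
    exact le_sup_of_le_right (le_iSup_of_le ⟨P'.1, P'.2.1, P'.2.2.2.1, P'.2.2.2.2⟩ le_rfl)

end Cfsg.Agent.Invol.Isolated
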