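import Cfsg.Agent.Lib.Invol.IsolatedInvariantSylow
import Cfsg.Agent.Lib.Invol.CharPLocal
import Cfsg.Agent.Lib.Transfer.Frobenius
import Cfsg.Agent.Lib.Transfer.OmegaFixed
import Cfsg.Agent.Lib.Grp.Components
import Cfsg.Agent.Lib.Grp.Cores

/-!
A non-central isolated element of odd prime order in a group of rank two without a `p'`-core.
-/

set_option autoImplicit false

namespace Cfsg.Agent.Invol.IsolatedRankTwo

open Subgroup
open scoped commutatorElement
open Cfsg.Agent.Grp

universe u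

variable {G : Type u} [Group G] [Finite G] {p : ℕ} [hp : Fact p.Prime]

/-- A `p`-nilpotency criterion from the elements of order `p`. -/
theorem normalPComplement (hp2 : p ≠ 2) (P : Sylow p G)
    (h : ∀ U : Subgroup G, U ≤ (P : Subgroup G) → ∀ g ∈ normalizer (U : Set G),
      (orderOf g).Coprime p → ∀ y ∈ U, y ^ p = 1 → g * y * g⁻¹ = y) :
    Cfsg.HasNormalPComplement p G := by
  rw [Transfer.hasNormalPComplement_iff_frobeniusCondition P]
  intro U hU g hg hgc
  let β : MulAut ↥U := normalizerMonoidHom U ⟨g, hg⟩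
  have hβ : (orderOf β).Coprime p := Nat.Coprime.coprime_dvd_left
    ((orderOf_map_dvd (normalizerMonoidHom U) ⟨g, hg⟩).trans (by rw [orderOf_mk])) hgc
  have h1 : β = 1 := Transfer.aut_eq_one_of_fix_omega hp2 (P.isPGroup'.to_le hU) hβ fun y hy =>
    Subtype.ext (h U hU g hg hgc y y.2 (by simpa using congrArg Subtype.val hy))
  rw [mem_centralizer_iff]
  intro y hy
  have h2 : g * y * g⁻¹ = y := congrArg Subtype.val (MulEquiv.congr_fun h1 ⟨y, hy⟩)
  exact (mul_inv_eq_iff_eq_mul.mp h2).symm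

omit [Finite G] in
theorem perfect_not_complement [Finite G] (hper : Group.IsPerfect G) (hdvd : p ∣ Nat.card G) :
    ¬ Cfsg.HasNormalPComplement p G := by
  intro h
  have htop : Cfsg.pResidual p G = ⊤ := by
    by_contra hne
    have : Nontrivial (G ⧸ Cfsg.pResidual p G) := QuotientGroup.nontrivial_iff.mpr hne
    have : Group.IsPerfect (G ⧸ Cfsg.pResidual p G) :=
      Group.IsPerfect.ofSurjective (QuotientGroup.mk'_surjective _)
    have hn : Group.IsNilpotent (G ⧸ Cfsg.pResidual p G) :=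
      (Transfer.isPGroup_quotient_pResidual (G := G) p).isNilpotent
    exact (Group.IsSolvable.commutator_lt_of_ne_bot (G := G ⧸ Cfsg.pResidual p G) (H := ⊤) top_ne_bot).ne
      Group.IsPerfect.commutator_eq_top
  obtain ⟨a, ha⟩ := exists_prime_orderOf_dvd_card' (G := G) p hdvd
  have := (Transfer.mem_pResidual_iff h).1 (htop ▸ mem_top a : a ∈ Cfsg.pResidual p G)
  rw [ha, Nat.coprime_self] at this
  exact hp.out.ne_one this

theorem sylow_component (S : Sylow p G) {K : Subgroup G} (hK : Cfsg.IsComponent K) :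
    ∃ T : Sylow p ↥K, (T : Subgroup ↥K) = (S : Subgroup G).subgroupOf K := by
  obtain ⟨E, hE⟩ : ∃ E, E = Cfsg.layer G := ⟨_, rfl⟩
  haveI : E.Normal := hE ▸ inferInstance
  have hKE : K ≤ E := hE ▸ IsComponent.le_layer hK
  haveI : (K.subgroupOf E).Normal := by
    rw [normal_subgroupOf_iff_le_normalizer hKE, hE]
    refine sSup_le fun K' hK' => ?_
    by_cases e : K' = K
    · exact e ▸ le_normalizer
    · exact (IsComponent.commute hK' hK e).trans (centralizer_le_normalizer _)
  let SE : Sylow p ↥E := (S.isPGroup'.comap_subtype (K := E)).toSylow (Grp.sylow_inf_normal_relIndex S E)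
  have h := Grp.sylow_inf_normal_relIndex SE (K.subgroupOf E)
  have e : (SE : Subgroup ↥E) = (S : Subgroup G).subgroupOf E := rfl
  rw [e, relIndex_subgroupOf hKE] at h
  exact ⟨(S.isPGroup'.comap_subtype (K := K)).toSylow h, rfl⟩

theorem dvd_card_component (hcore : Cfsg.pPrimeCore p G = ⊥) {K : Subgroup G} (hK : Cfsg.IsComponent K) :
    p ∣ Nat.card ↥K := by
  classical
  by_contra hnd
  let _ : Fintype (Subgroup G) := Fintype.ofFinite _
  let s : Finset (Subgroup G) := Finset.univ.filter fun L => Cfsg.IsComponent L ∧ ¬ p ∣ Nat.card ↥L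
  have key : ∀ t : Finset (Subgroup G), t ⊆ s → (Nat.card ↥(t.sup id)).Coprime p := by
    intro t
    induction t using Finset.induction_on with
    | empty => intro _; simp
    | insert L t hLt ih =>
      intro hts
      rw [Finset.insert_subset_iff] at hts
      obtain ⟨hL, hLd⟩ := (Finset.mem_filter.mp hts.1).2
      rw [Finset.sup_insert, id]
      refine Grp.card_sup_coprime_to ?_ (hp.out.coprime_iff_not_dvd.mpr hLd).symm (ih hts.2)
      refine le_trans ?_ (centralizer_le_normalizer _)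
      rw [le_centralizer_iff]
      refine Finset.sup_le fun L' hL' => ?_
      exact IsComponent.commute (Finset.mem_filter.mp (hts.2 hL')).2.1 hL (fun e => hLt (e ▸ hL'))
  have hn : (s.sup id).Normal := by
    rw [← normalizer_eq_top_iff, eq_top_iff]
    intro g _
    refine Subgroup.mem_normalizer_fintype fun y hy => ?_
    have hm : (s.sup id).map (MulAut.conj g).toMonoidHom ≤ s.sup id := by
      rw [Subgroup.map_le_iff_le_comap]
      refine Finset.sup_le fun L hL => Subgroup.map_le_iff_le_comap.mp ?_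
      obtain ⟨hL1, hL2⟩ := (Finset.mem_filter.mp hL).2
      refine Finset.le_sup (f := id) (Finset.mem_filter.mpr ⟨Finset.mem_univ _, IsComponent.map_iso (MulAut.conj g) hL1, ?_⟩)
      exact fun h => hL2 (h.trans
        (Subgroup.card_map_of_injective (K := L) (f := (MulAut.conj g).toMonoidHom) (MulAut.conj g).injective).dvd)
    exact hm ⟨y, hy, rfl⟩
  have h1 := Grp.le_pPrimeCore hn (key s le_rfl)
  have h2 : K ≤ s.sup id := Finset.le_sup (f := id) (Finset.mem_filter.mpr ⟨Finset.mem_univ _, hK, hnd⟩)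
  exact IsComponent.ne_bot hK (le_bot_iff.mp (hcore ▸ h2.trans h1))

theorem component_absurd (hp2 : p ≠ 2) (hcore : Cfsg.pPrimeCore p G = ⊥) (S : Sylow p G) {K : Subgroup G}
    (hK : Cfsg.IsComponent K)
    (h : ∀ U : Subgroup G, U ≤ (S : Subgroup G) → U ≤ K → ∀ g ∈ K, g ∈ normalizer (U : Set G) →
      ∀ y ∈ U, y ^ p = 1 → g * y * g⁻¹ = y) : False := by
  obtain ⟨T, hT⟩ := sylow_component S hK
  refine perfect_not_complement (G := ↥K) hK.2.1 (dvd_card_component hcore hK)
    (normalPComplement hp2 T fun U hU g hg _ y hy hyp => ?_)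
  apply Subtype.ext
  refine h (U.map K.subtype) ?_ (map_subtype_le _) g g.2 ?_ (y : G) ⟨y, hy, rfl⟩
    (by rw [← SubmonoidClass.coe_pow, hyp]; rfl)
  · rintro _ ⟨z, hz, rfl⟩
    exact (hT ▸ hU hz : z ∈ (S : Subgroup G).subgroupOf K)
  · exact le_normalizer_map K.subtype ⟨g, hg, rfl⟩

omit [Finite G] in
/-- Three commuting elements of order dividing `p`, the first two independent. -/
theorem mem_of_rank [Finite G] (hrank : Cfsg.PRankLE p 2 G) {a b y : G} (ha : orderOf a = p) (hb : orderOf b = p)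
    (hab : Commute a b) (hnot : b ∉ zpowers a) (hy : y ^ p = 1) (hay : Commute a y) (hby : Commute b y) :
    ∃ i j : ℤ, y = a ^ i * b ^ j := by
  obtain ⟨A, hA⟩ : ∃ A, A = closure ({a, b, y} : Set G) := ⟨_, rfl⟩
  have hcomm : ∀ u ∈ ({a, b, y} : Set G), ∀ v ∈ ({a, b, y} : Set G), u * v = v * u := by
    simp only [Set.mem_insert_iff, Set.mem_singleton_iff]
    rintro u (rfl | rfl | rfl) v (rfl | rfl | rfl) <;>
      first | rfl | exact hab.eq | exact hab.eq.symm | exact hay.eq | exact hay.eq.symm | exact hby.eq | exact hby.eq.symm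
  haveI hAc : IsMulCommutative A := hA ▸ isMulCommutative_closure hcomm
  have hexp : ∀ u ∈ A, u ^ p = 1 := by
    intro u hu
    rw [hA] at hu
    induction hu using closure_induction with
    | mem u hu =>
      simp only [Set.mem_insert_iff, Set.mem_singleton_iff] at hu
      rcases hu with rfl | rfl | rfl
      · rw [← ha]; exact pow_orderOf_eq_one _
      · rw [← hb]; exact pow_orderOf_eq_one _
      · exact hy
    | one => exact one_pow p
    | mul u v hu hv ihu ihv =>
      have hc : Commute u v := by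
        have h := hAc.is_comm.comm ⟨u, hA ▸ hu⟩ ⟨v, hA ▸ hv⟩
        exact congrArg Subtype.val h
      rw [hc.mul_pow, ihu, ihv, one_mul]
    | inv u _ ih => rw [inv_pow, ih, inv_one]
  have hle : zpowers a ⊔ zpowers b ≤ A := hA ▸ sup_le (zpowers_le.mpr (subset_closure (by simp)))
    (zpowers_le.mpr (subset_closure (by simp)))
  have hn : zpowers b ≤ normalizer (zpowers a : Set G) := by
    refine le_trans ?_ (centralizer_le_normalizer _)
    rw [zpowers_le, mem_centralizer_iff]
    rintro _ ⟨i, rfl⟩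
    exact (hab.zpow_left i).eq
  have hinf : zpowers a ⊓ zpowers b = ⊥ := by
    rw [eq_bot_iff]
    intro z hz
    obtain ⟨h1, h2⟩ := mem_inf.mp hz
    by_contra hz1
    apply hnot
    have hcard : Nat.card ↥(zpowers z) = Nat.card ↥(zpowers b) := by
      rcases (Nat.dvd_prime hp.out).mp (hb ▸ Nat.card_zpowers b ▸ Subgroup.card_dvd_of_le (zpowers_le.mpr h2)) with e | e
      · exact absurd (zpowers_eq_bot.mp (Subgroup.card_eq_one.mp e)) (by simpa using hz1)
      · rw [e, Nat.card_zpowers, hb]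
    have e2 := eq_of_le_of_card_ge (zpowers_le.mpr h2) hcard.ge
    exact zpowers_le.mpr h1 (e2.ge (mem_zpowers b))
  have hcard : Nat.card ↥(zpowers a ⊔ zpowers b) = p ^ 2 := by
    rw [sup_comm]
    have h := Grp.card_sup_mul_card_inf hn
    rw [inf_comm, hinf, Subgroup.card_bot, mul_one, Nat.card_zpowers, Nat.card_zpowers, ha, hb] at h
    rw [h, pow_two]
  have heq := eq_of_le_of_card_ge hle ((hrank A hAc hexp).trans hcard.ge)
  have hyA : y ∈ zpowers a ⊔ zpowers b := heq.ge (hA ▸ subset_closure (by simp))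
  rw [← SetLike.mem_coe, coe_mul_of_right_le_normalizer_left _ _ hn] at hyA
  obtain ⟨_, ⟨i, rfl⟩, _, ⟨j, rfl⟩, e⟩ := hyA
  exact ⟨i, j, e.symm⟩

theorem fitting_simple (hp2 : p ≠ 2) (hcore : Cfsg.pPrimeCore p G = ⊥) (hrank : Cfsg.PRankLE p 2 G)
    (x : G) (hx : orderOf x = p) (hiso : Cfsg.IsIsolated x) (hnc : x ∉ center G) :
    IsSimpleGroup ↥(Cfsg.generalizedFittingSubgroup G) ∧
      ¬ IsMulCommutative ↥(Cfsg.generalizedFittingSubgroup G) := by
  obtain ⟨S, hS⟩ := (IsolatedSylow.isPGroup_zpowers hx).exists_le_sylow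
  have hxS : x ∈ (S : Subgroup G) := hS (mem_zpowers x)
  have hcen : ∀ y ∈ (S : Subgroup G), Commute y x := IsolatedSylow.centralizes hiso S.isPGroup' hxS
  have hfixed : ∀ g : G, ∀ y ∈ (S : Subgroup G), g * x * g⁻¹ = y → g * x * g⁻¹ = x := fun g y hy e =>
    hiso g (e ▸ (hcen y hy).symm)
  have hpn := Grp.pCore_isNormal (p := p) (G := G)
  have hpp := Grp.pCore_isPGroup (p := p) (G := G)
  have hOS : Cfsg.pCore p G ≤ (S : Subgroup G) := by
    have hpgrp : IsPGroup p ↥((S : Subgroup G) ⊔ Cfsg.pCore p G) := S.isPGroup'.to_sup_of_normal_right hpp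
    exact le_sup_right.trans (S.is_maximal' hpgrp le_sup_left).le
  have hxO : x ∉ Cfsg.pCore p G := fun h => hnc (Subgroup.mem_center_iff.mpr fun g =>
    mul_inv_eq_iff_eq_mul.mp (hfixed g _ (hOS (hpn.conj_mem x h g)) rfl))
  have hF : Cfsg.fittingSubgroup G = Cfsg.pCore p G := by
    refine le_antisymm ?_ pCore_le_fittingSubgroup
    rw [fittingSubgroup_eq_iSup_pCore]
    refine iSup_le fun q => ?_
    by_cases hq : (q : ℕ) = p
    · rw [hq]
    · have := Fact.mk q.2
      obtain ⟨k, hk⟩ := (pCore_isPGroup (p := (q : ℕ)) (G := G)).exists_card_eq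
      exact (le_pPrimeCore pCore_isNormal (by
        rw [hk]; exact Nat.Coprime.pow_left _ ((Nat.coprime_primes q.2 hp.out).mpr hq))).trans (hcore ▸ bot_le)
  obtain ⟨K₁, hK₁⟩ : ∃ K, Cfsg.IsComponent (G := G) K := by
    by_contra hne
    have hl : Cfsg.layer G = ⊥ := le_bot_iff.mp (sSup_le fun K hK => absurd ⟨K, hK⟩ hne)
    apply hxO
    rw [← hF]
    refine centralizer_fitting_le_of_layer_eq_bot hl ?_
    rw [hF, mem_centralizer_iff]
    exact fun y hy => (hcen y (hOS hy)).eq
  have hO : Cfsg.pCore p G = ⊥ := by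
    by_contra hne
    obtain ⟨z, hz, hzp⟩ := Invol.CpLocal.exists_fixed_order_p S.isPGroup' hpp hne
      (by rw [normalizer_eq_top_iff.mpr hpn]; exact le_top)
    obtain ⟨hzO, hzS⟩ := mem_inf.mp hz
    have hzx : Commute z x := hcen z (hOS hzO)
    have hnot : x ∉ zpowers z := fun h => hxO (zpowers_le.mpr hzO h)
    have hKz : ∀ g ∈ K₁, g * z * g⁻¹ = z := fun g hg => by
      have h : Commute z g := mem_centralizer_iff.mp (layer_le_centralizer_fitting (IsComponent.le_layer hK₁ hg)) z (hF ▸ hzO)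
      rw [h.symm.eq, mul_inv_cancel_right]
    refine component_absurd hp2 hcore S hK₁ fun U hUS hUK g hg hgU y hy hyp => ?_
    obtain ⟨j, i, rfl⟩ := mem_of_rank hrank hzp hx hzx hnot hyp
      (mem_centralizer_iff.mp hzS y (hUS hy)).symm (hcen y (hUS hy)).symm
    have hy' : g * (z ^ j * x ^ i) * g⁻¹ ∈ (S : Subgroup G) := hUS ((mem_normalizer_iff.mp hgU _).mp hy)
    have e : g * (z ^ j * x ^ i) * g⁻¹ = z ^ j * (g * x * g⁻¹) ^ i := by
      rw [conj_zpow, show g * (z ^ j * x ^ i) * g⁻¹ = (g * z ^ j * g⁻¹) * (g * x ^ i * g⁻¹) by group,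
        ← conj_zpow, hKz g hg]
    rw [e] at hy' ⊢
    have hi : (g * x * g⁻¹) ^ i ∈ (S : Subgroup G) :=
      (mul_mem_cancel_left (zpow_mem (hOS hzO) j)).mp hy'
    rcases eq_or_ne (x ^ i) 1 with h1 | h1
    · rw [h1, conj_zpow, h1, mul_one g, mul_inv_cancel]
    · have hgen : x ∈ zpowers (x ^ i) := by
        have hc : Nat.card ↥(zpowers (x ^ i)) = p := by
          rcases (Nat.dvd_prime hp.out).mp (hx ▸ Nat.card_zpowers x ▸
            Subgroup.card_dvd_of_le (zpowers_le.mpr (zpow_mem (mem_zpowers x) i))) with e | e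
          · exact absurd (zpowers_eq_bot.mp (Subgroup.card_eq_one.mp e)) h1
          · exact e
        rw [eq_of_le_of_card_ge (zpowers_le.mpr (zpow_mem (mem_zpowers x) i))
          (by rw [hc, Nat.card_zpowers, hx])]
        exact mem_zpowers x
      obtain ⟨m, hm⟩ := mem_zpowers_iff.mp hgen
      have hgx : g * x * g⁻¹ ∈ (S : Subgroup G) := by
        have e2 : g * x * g⁻¹ = ((g * x * g⁻¹) ^ i) ^ m := by rw [conj_zpow, conj_zpow, hm]
        rw [e2]; exact zpow_mem hi m
      rw [hfixed g _ hgx rfl]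
  have hFb : Cfsg.fittingSubgroup G = ⊥ := hF.trans hO
  have hcz : ∀ K : Subgroup G, Cfsg.IsComponent K → K ⊓ centralizer (K : Set G) = ⊥ := fun K hK =>
    le_bot_iff.mp (hFb ▸ component_centralizer_inf_le_fitting hK)
  have hpick : ∀ K : Subgroup G, Cfsg.IsComponent K → ∃ a ∈ K, a ∈ (S : Subgroup G) ∧ orderOf a = p := by
    intro K hK
    obtain ⟨T, hT⟩ := sylow_component S hK
    obtain ⟨a, ha⟩ := exists_prime_orderOf_dvd_card' (G := (T : Subgroup ↥K)) p
      (T.dvd_card_of_dvd_card (dvd_card_component hcore hK))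
    refine ⟨((a : ↥K) : G), (a : ↥K).2, mem_subgroupOf.mp (hT.le a.2), ?_⟩
    rw [Subgroup.orderOf_coe, Subgroup.orderOf_coe, ha]
  have huniq : ∀ K : Subgroup G, Cfsg.IsComponent K → K = K₁ := by
    intro K₂ hK₂
    by_contra hne
    obtain ⟨a, haK, haS, hap⟩ := hpick K₁ hK₁
    obtain ⟨b, hbK, hbS, hbp⟩ := hpick K₂ hK₂
    have hc : ∀ u ∈ K₁, ∀ v ∈ K₂, Commute v u := fun u hu v hv =>
      mem_centralizer_iff.mp (IsComponent.commute hK₁ hK₂ (Ne.symm hne) hu) v hv
    have hdisj : ∀ u ∈ K₁, u ∈ K₂ → u = 1 := fun u hu1 hu2 => by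
      rw [← mem_bot, ← hcz K₁ hK₁]
      exact mem_inf.mpr ⟨hu1, mem_centralizer_iff.mpr fun v hv => (hc v hv u hu2).symm.eq⟩
    have hnot : b ∉ zpowers a := fun h => by
      have := hdisj b (zpowers_le.mpr haK h) hbK
      rw [this, orderOf_one] at hbp
      exact hp.out.ne_one hbp.symm
    have hab : Commute a b := (hc a haK b hbK).symm
    obtain ⟨i, j, e⟩ := mem_of_rank hrank hap hbp hab hnot (hx ▸ pow_orderOf_eq_one x)
      (hcen a haS) (hcen b hbS)
    have general : ∀ (K L : Subgroup G) (u w v : G), Cfsg.IsComponent K → u ∈ K → u ∈ (S : Subgroup G) →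
        w ∈ (S : Subgroup G) → orderOf u = p → orderOf v = p → v ∈ L → v ∈ (S : Subgroup G) →
        (∀ k ∈ K, ∀ l ∈ L, Commute l k) → (∀ k ∈ K, k ∈ L → k = 1) → (∀ k ∈ K, Commute w k) →
        (∀ s ∈ (S : Subgroup G), s ∈ K → Commute u s) → x = u * w → False := by
      intro K L u w v hK huK huS hwS hup hvp hvL hvS hKL hd hw huc hxe
      refine component_absurd hp2 hcore S hK fun U hUS hUK g hg hgU y hy hyp => ?_
      have hnot' : v ∉ zpowers u := fun h => by
        have := hd v (zpowers_le.mpr huK h) hvL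
        rw [this, orderOf_one] at hvp
        exact hp.out.ne_one hvp.symm
      obtain ⟨k, l, hy2⟩ := mem_of_rank hrank hup hvp (hKL u huK v hvL).symm hnot' hyp
        (huc y (hUS hy) (hUK hy)) (hKL y (hUK hy) v hvL)
      have hvl : v ^ l = 1 := by
        refine hd _ ?_ (zpow_mem hvL l)
        have : v ^ l = (u ^ k)⁻¹ * y := by rw [hy2, inv_mul_cancel_left]
        rw [this]; exact mul_mem (inv_mem (zpow_mem huK k)) (hUK hy)
      rw [hvl, mul_one] at hy2
      rcases eq_or_ne y 1 with h1 | h1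
      · rw [h1, mul_one, mul_inv_cancel]
      have hyu : zpowers y = zpowers u := by
        have hle : zpowers y ≤ zpowers u := zpowers_le.mpr (hy2 ▸ zpow_mem (mem_zpowers u) k)
        refine eq_of_le_of_card_ge hle ?_
        rw [Nat.card_zpowers, Nat.card_zpowers, hup, orderOf_eq_prime hyp h1]
      have huU : u ∈ U := zpowers_le.mpr hy (hyu.ge (mem_zpowers u))
      have hgu : g * u * g⁻¹ ∈ (S : Subgroup G) := hUS ((mem_normalizer_iff.mp hgU _).mp huU)
      have hgx : g * x * g⁻¹ = (g * u * g⁻¹) * w := by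
        rw [hxe, show g * (u * w) * g⁻¹ = g * u * g⁻¹ * (g * w * g⁻¹) by group, (hw g hg).symm.eq,
          mul_inv_cancel_right]
      have := hfixed g _ (mul_mem hgu hwS) hgx
      rw [hgx, hxe] at this
      rw [hy2, ← conj_zpow, mul_right_cancel this]
    have hprime : ∀ (c : G) (m : ℤ), orderOf c = p → c ^ m ≠ 1 → orderOf (c ^ m) = p := fun c m hc hm => by
      refine orderOf_eq_prime ?_ hm
      rw [← zpow_natCast, ← zpow_mul, mul_comm, zpow_mul, zpow_natCast, ← hc, pow_orderOf_eq_one, one_zpow]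
    rcases eq_or_ne (a ^ i) 1 with h1 | h1
    · have hxb : x = b ^ j * 1 := by rw [mul_one, e, h1, one_mul]
      have hbj : b ^ j ≠ 1 := fun h => by
        rw [h, one_mul] at hxb
        rw [hxb, orderOf_one] at hx; exact hp.out.ne_one hx.symm
      refine general K₂ K₁ (b ^ j) 1 a hK₂ (zpow_mem hbK j) (zpow_mem hbS j) (one_mem _)
        (hprime b j hbp hbj) hap haK haS (fun k hk l hl => (hc l hl k hk).symm)
        (fun k hk hl => hdisj k hl hk) (fun k _ => Commute.one_left k) (fun s hs _ => ?_) hxb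
      have hxs := (hcen s hs).symm
      rwa [hxb, mul_one] at hxs
    · refine general K₁ K₂ (a ^ i) (b ^ j) b hK₁ (zpow_mem haK i) (zpow_mem haS i) (zpow_mem hbS j)
        (hprime a i hap h1) hbp hbK hbS hc hdisj (fun k hk => hc k hk _ (zpow_mem hbK j)) (fun s hs hsK => ?_) e
      have hxs : Commute x s := (hcen s hs).symm
      have hbs : Commute (b ^ j) s := hc s hsK _ (zpow_mem hbK j)
      have := hxs.mul_left hbs.inv_left
      rwa [e, mul_inv_cancel_right] at this
  have hgf : Cfsg.generalizedFittingSubgroup G = K₁ := by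
    rw [Cfsg.generalizedFittingSubgroup, hFb, sup_bot_eq]
    exact le_antisymm (sSup_le fun K hK => (huniq K hK).le) (IsComponent.le_layer hK₁)
  rw [hgf]
  have hc : center ↥K₁ = ⊥ := by
    rw [← Subgroup.map_eq_bot_iff_of_injective _ K₁.subtype_injective, center_map_subtype]
    exact hcz K₁ hK₁
  have hsimp : IsSimpleGroup ↥K₁ := by
    haveI : IsSimpleGroup (↥K₁ ⧸ center ↥K₁) := hK₁.2.2
    exact ((QuotientGroup.quotientMulEquivOfEq hc).trans QuotientGroup.quotientBot).isSimpleGroup_congr.mp inferInstance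
  refine ⟨hsimp, fun hcm => IsQuasisimple.center_ne_top hK₁.2 (eq_top_iff.mpr fun k _ =>
    Subgroup.mem_center_iff.mpr fun l => hcm.is_comm.comm l k)⟩

end Cfsg.Agent.Invol.IsolatedRankTwo
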