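import Cfsg.Agent.Lib.Invol.JCompPair
import Cfsg.Agent.S2947
import Cfsg.Agent.S1225
import Cfsg.Agent.S2949

/-!
The case that `T` is a Sylow `2`-subgroup of `G` and every `2`-local overgroup of `T` lies in `L` does not occur.
-/

set_option autoImplicit false

open scoped commutatorElement Classical

namespace Cfsg.Agent.Invol.JComp

open Subgroup

variable {G : Type*} [Group G] [Finite G]

theorem four_elems {W : Subgroup G} (h4 : Nat.card ↥W = 4) (hsq : ∀ w ∈ W, w * w = 1) {u v w : G}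
    (hu : u ∈ W) (hv : v ∈ W) (hu1 : u ≠ 1) (hv1 : v ≠ 1) (huv : u ≠ v) (hw : w ∈ W) :
    w = 1 ∨ w = u ∨ w = v ∨ w = u * v :=
  Cfsg.Agent.S2946.hfour W h4 hsq u hu v hv hu1 hv1 huv w hw

theorem four_move {W : Subgroup G} (h4 : Nat.card ↥W = 4) (hsq : ∀ w ∈ W, w * w = 1)
    (hc : ∀ a ∈ W, ∀ b ∈ W, a * b = b * a) {x z : G} (hx : x ∈ normalizer (W : Set G)) (hz : z ∈ W) (hz1 : z ≠ 1)
    (hxz : x * z * x⁻¹ = z) {w : G} (hw : w ∈ W) : x * w * x⁻¹ = w ∨ x * w * x⁻¹ = w * z := by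
  by_cases h1 : w = 1
  · left; rw [h1, mul_one, mul_inv_cancel]
  by_cases h2 : w = z
  · left; rw [h2, hxz]
  rcases four_elems h4 hsq hz hw hz1 h1 (Ne.symm h2) ((mem_normalizer_iff.1 hx w).1 hw) with e | e | e | e
  · exact absurd (conj_eq_one_iff.1 e) h1
  · exact absurd (mul_left_cancel (mul_right_cancel (e.trans hxz.symm))) h2
  · exact Or.inl e
  · exact Or.inr (by rw [e, hc z hz w hw])

theorem four_fixed {W : Subgroup G} (h4 : Nat.card ↥W = 4) (hsq : ∀ w ∈ W, w * w = 1)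
    {x z w : G} (hz : z ∈ W) (hz1 : z ≠ 1) (hxz : x * z * x⁻¹ = z) (hw : w ∈ W) (hxw : x * w * x⁻¹ = w) :
    w = 1 ∨ w = z ∨ x ∈ centralizer (W : Set G) := by
  by_cases h1 : w = 1
  · exact Or.inl h1
  by_cases h2 : w = z
  · exact Or.inr (Or.inl h2)
  refine Or.inr (Or.inr (mem_centralizer_iff.2 fun v hv => ?_))
  have cz : Commute x z := mul_inv_eq_iff_eq_mul.1 hxz
  have cw : Commute x w := mul_inv_eq_iff_eq_mul.1 hxw
  rcases four_elems h4 hsq hz hw hz1 h1 (Ne.symm h2) hv with e | e | e | e <;> subst e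
  exacts [(Commute.one_right x).eq.symm, cz.eq.symm, cw.eq.symm, (cz.mul_right cw).eq.symm]

theorem four_transitive {W : Subgroup G} (h4 : Nat.card ↥W = 4) (hsq : ∀ w ∈ W, w * w = 1) {k z w : G}
    (hk : Ev W k) (hkW : k ∉ centralizer (W : Set G)) (hz : z ∈ W) (hz1 : z ≠ 1) (hw : w ∈ W) (hw1 : w ≠ 1) :
    ∃ i : ℕ, k ^ i * z * (k ^ i)⁻¹ = w := by
  have hkz : k * z * k⁻¹ ∈ W := (mem_normalizer_iff.1 hk.1 z).1 hz
  have hk2z : k ^ 2 * z * (k ^ 2)⁻¹ ∈ W := (mem_normalizer_iff.1 (hk.pow h4 2).1 z).1 hz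
  have hk1 : k * z * k⁻¹ ≠ 1 := fun e => hz1 (conj_eq_one_iff.1 e)
  have hne1 : z ≠ k * z * k⁻¹ := fun e => hz1 (eq_one_of_fixed hk hkW hz e.symm)
  have hk2W : k ^ 2 ∉ centralizer (W : Set G) := fun e => hkW (by
    have h3 := hk.cube h4
    rw [pow_succ] at h3
    have := mul_mem (inv_mem e) h3
    rwa [inv_mul_cancel_left] at this)
  rcases four_elems h4 hsq hz hkz hz1 hk1 hne1 hw with e | e | e | e
  · exact absurd e hw1
  · exact ⟨0, by rw [e]; group⟩
  · exact ⟨1, by rw [e, pow_one]⟩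
  · refine ⟨2, ?_⟩
    rw [e]
    rcases four_elems h4 hsq hz hkz hz1 hk1 hne1 hk2z with e' | e' | e' | e'
    · exact absurd (conj_eq_one_iff.1 e') hz1
    · exact absurd (eq_one_of_fixed (hk.pow h4 2) hk2W hz e') hz1
    · refine absurd (mul_left_cancel (a := k) (mul_right_cancel (b := k⁻¹) ?_)) hne1.symm
      calc k * (k * z * k⁻¹) * k⁻¹ = k ^ 2 * z * (k ^ 2)⁻¹ := by rw [pow_two]; group
        _ = k * z * k⁻¹ := e'
    · exact e'

section
variable {T K L : Subgroup G}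

theorem Four.exists_invol (f : Four T K L) :
    ∃ t ∈ T, t * t = 1 ∧ t ∉ centralizer (wOf K : Set G) := by
  obtain ⟨Ws, fr⟩ := f.good.sit.exists_frame
  obtain ⟨W, c⟩ := f.good.sit.compData fr f.good.comp f.good.le
  obtain ⟨t, ht, ht2, htW, -⟩ := fr.iso W c.mem
  exact ⟨t, thompsonEl_le T ht, ht2, c.w_eq ▸ htW⟩

theorem Four.Q_cent (f : Four T K L) {q : G} (hq : q ∈ pCoreOf 2 L) : q ∈ centralizer (wOf K : Set G) :=
  mem_centralizer_iff.2 fun w hw => f.comm w (f.W_le hw) q hq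

theorem Four.Q_le_T (f : Four T K L) : pCoreOf 2 L ≤ T := f.good.sit.Q_le_T

/-- The elements of `T` are `q` or `t q`. -/
theorem Four.cases_T (f : Four T K L) {t : G} (ht : t ∈ T) (htW : t ∉ centralizer (wOf K : Set G)) {x : G}
    (hx : x ∈ T) : x ∈ pCoreOf 2 L ∨ t * x ∈ pCoreOf 2 L := by
  have hidx : ((pCoreOf 2 L).subgroupOf T).index = 2 := by
    refine Nat.eq_of_mul_eq_mul_left (Nat.card_pos (α := ↥(pCoreOf 2 L))) ?_
    rw [mul_comm _ 2, ← f.card_T, ← card_mul_index ((pCoreOf 2 L).subgroupOf T),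
      Nat.card_congr (subgroupOfEquivOfLe f.Q_le_T).toEquiv]
  have h := (mul_mem_iff_of_index_two hidx (a := (⟨t, ht⟩ : ↥T)) (b := ⟨x, hx⟩))
  simp only [mem_subgroupOf] at h
  by_cases hxQ : x ∈ pCoreOf 2 L
  · exact Or.inl hxQ
  · exact Or.inr (h.2 (iff_of_false (fun e => htW (f.Q_cent e)) hxQ))

theorem Four.squares (f : Four T K L) {z : G} (hz : IsZ T K z) (hzT : z ∈ omegaCenterOf T) :
    (∀ x ∈ T, x * x = 1 ∨ x * x = z) ∧ ∃ x ∈ T, x * x = z := by
  obtain ⟨t, ht, ht2, htW⟩ := f.exists_invol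
  have htz : t * z * t⁻¹ = z := mul_inv_eq_iff_eq_mul.2 ((mem_omegaCenter.1 hzT).2.1 t ht)
  have htn : t ∈ normalizer (wOf K : Set G) := f.W_normal (f.good.sit.T_le ht)
  have hWc : ∀ a ∈ wOf K, ∀ b ∈ wOf K, a * b = b * a := fun a ha b hb => f.comm a (f.W_le ha) b (f.W_le hb)
  have h4 := f.good.comp.2.2.2.2.1
  have htinv : t⁻¹ = t := inv_eq_of_mul_eq_one_right ht2
  have key : ∀ q ∈ pCoreOf 2 L, t * q * (t * q) = 1 ∨ t * q * (t * q) = z := by
    intro q hq
    obtain ⟨h, -, hc, w, hw, rfl⟩ := f.decomp q hq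
    have hth : t * h = h * t := mem_centralizer_iff.1 hc t (f.good.sit.T_le ht)
    have he : t * (h * w) * (t * (h * w)) = (h * (t * w * t⁻¹)) * (h * w) := by
      calc t * (h * w) * (t * (h * w)) = (t * h) * w * t * (h * w) := by group
        _ = (h * t) * w * t * (h * w) := by rw [hth]
        _ = (h * (t * w * t⁻¹)) * (h * w) := by rw [htinv]; group
    rw [he]
    rcases four_move h4 (fun a ha => wOf_sq f.good.comp ha) hWc htn hz.memW hz.ne htz hw with e | e <;> rw [e]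
    · exact Or.inl (f.sq _ hq)
    · right
      rw [← mul_assoc h w z, f.comm _ hq z (f.W_le hz.memW), mul_assoc, f.sq _ hq, mul_one]
  refine ⟨fun x hx => ?_, ?_⟩
  · rcases f.cases_T ht htW hx with h | h
    · exact Or.inl (f.sq x h)
    · have := key _ h
      rwa [← mul_assoc t t x, ht2, one_mul] at this
  · obtain ⟨w, hw, hwm⟩ : ∃ w ∈ wOf K, t * w * t⁻¹ ≠ w := by
      by_contra hcon
      push Not at hcon
      exact htW (mem_centralizer_iff.2 fun w hw => (mul_inv_eq_iff_eq_mul.1 (hcon w hw)).symm)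
    refine ⟨t * w, mul_mem ht (f.Q_le_T (f.W_le hw)), ?_⟩
    have e := (four_move h4 (fun a ha => wOf_sq f.good.comp ha) hWc htn hz.memW hz.ne htz hw).resolve_left hwm
    calc t * w * (t * w) = (t * w * t⁻¹) * w := by rw [htinv]; group
      _ = z := by rw [e, hWc w hw z hz.memW, mul_assoc, wOf_sq f.good.comp hw, mul_one]

theorem Four.z_fixed (f : Four T K L) {z : G} (hz : IsZ T K z) (hzT : z ∈ omegaCenterOf T) {y : G}
    (hy : y ∈ normalizer (T : Set G)) : y * z * y⁻¹ = z := by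
  obtain ⟨hsq, x, hx, hxz⟩ := f.squares hz hzT
  have he : (y * x * y⁻¹) * (y * x * y⁻¹) = y * z * y⁻¹ := by rw [← hxz]; group
  exact ((he ▸ hsq _ ((mem_normalizer_iff.1 hy x).1 hx)) : _ ∨ _).resolve_left fun e =>
    hz.ne (conj_eq_one_iff.1 e)

theorem Four.center_cases (f : Four T K L) {z : G} (hz : IsZ T K z) (hzT : z ∈ omegaCenterOf T) {x : G}
    (hx : x ∈ pCoreOf 2 L) (hxc : ∀ t ∈ T, t * x = x * t) :
    ∃ h ∈ pCoreOf 2 L, h ∈ centralizer (L : Set G) ∧ (x = h ∨ x = h * z) := by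
  obtain ⟨t, ht, -, htW⟩ := f.exists_invol
  obtain ⟨h, hh, hc, w, hw, rfl⟩ := f.decomp x hx
  refine ⟨h, hh, hc, ?_⟩
  have htz : t * z * t⁻¹ = z := mul_inv_eq_iff_eq_mul.2 ((mem_omegaCenter.1 hzT).2.1 t ht)
  have hth : t * h = h * t := mem_centralizer_iff.1 hc t (f.good.sit.T_le ht)
  have htw : t * w * t⁻¹ = w := mul_inv_eq_iff_eq_mul.2 (mul_left_cancel (a := h) (by
    rw [← mul_assoc, ← hth, mul_assoc, hxc t ht, mul_assoc]))
  rcases four_fixed f.good.comp.2.2.2.2.1 (fun a ha => wOf_sq f.good.comp ha) hz.memW hz.ne htz hw htw with e | e | e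
  · left; rw [e, mul_one]
  · right; rw [e]
  · exact absurd e htW

theorem Four.centralizer_eq (f : Four T K L) {h : G} (hh : h ∈ pCoreOf 2 L) (h1 : h ≠ 1)
    (hc : h ∈ centralizer (L : Set G)) : centralizer ({h} : Set G) = L :=
  f.good.max.2 _ (isTwoLocal_centralizer (f.sq h hh) h1) (le_centralizer_singleton.2 hc)

theorem Four.not_mem_center (f : Four T K L) {z : G} (hz : IsZ T K z) : z ∉ centralizer (L : Set G) := fun h =>
  hz.not_cent (Subgroup.centralizer_le (SetLike.coe_subset_coe.2 f.good.le) h)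

end

theorem exists_maxStraddling {M : Subgroup G} (h : (straddlingTwoSubgroups M).Nonempty) :
    (maxStraddlingTwoSubgroups M).Nonempty := by
  obtain ⟨T₀, hT₀, hmax⟩ := Set.exists_max_image (straddlingTwoSubgroups M)
    (fun T => toLex (maxElemAbelianOrder T, toLex (Nat.card ↥(thompsonSubgroupOf 2 T), Nat.card ↥T)))
    (Set.toFinite _) h
  refine ⟨T₀, hT₀, fun T hT => ?_⟩
  have h1 := hmax T hT
  simp only [Prod.Lex.toLex_le_toLex] at h1
  omega

/-- A Sylow `2`-subgroup of `G` given by maximality. -/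
theorem exists_sylow_eq {T : Subgroup G} (hT : IsPGroup 2 ↥T)
    (h : ∀ P : Subgroup G, IsPGroup 2 ↥P → T ≤ P → P = T) : ∃ S : Sylow 2 G, (S : Subgroup G) = T :=
  ⟨⟨T, hT, fun {P} hP hle => h P hP hle⟩, rfl⟩

theorem caseC_false {T L : Subgroup G} (hyp : Hyp G) (hSyl : ∀ P : Subgroup G, IsPGroup 2 ↥P → T ≤ P → P = T)
    (s : Sit T L) (hLmax : IsMaximalTwoLocal L) (hNJ : normalizer (thompsonSubgroupOf 2 T : Set G) ≤ L)
    (hall : ∀ X : Subgroup G, IsTwoLocal X → T ≤ X → X ≤ L) : False := by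
  haveI := Fact.mk Nat.prime_two
  obtain ⟨S, hS⟩ := exists_sylow_eq s.T_two hSyl
  have hMJ : normalizer (thompsonSubgroupOf 2 (S : Subgroup G) : Set G) ≤ L := by rwa [hS]
  have hT1 : T ≠ ⊥ := fun h => s.mem.2.1 (by
    rw [le_bot_iff.1 ((thompsonEl_le T).trans h.le)]; exact bot_le)
  obtain ⟨Ws, fr⟩ := s.exists_frame
  have hcTV : ∀ x ∈ T, x ∈ centralizer (vOf L : Set G) → x ∈ pCoreOf 2 L := fun x hx hc =>
    s.inf_cOf_le_Q ⟨hx, s.T_le hx, hc⟩
  -- straddling subgroups exist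
  have hne : (straddlingTwoSubgroups L).Nonempty := by
    rw [Set.nonempty_iff_ne_empty]
    intro he
    have hse := (Cfsg.Agent.S2947.result hyp.charTwo hyp.twoLocal hyp.zNorm hyp.core S L hLmax.1 hMJ).2 he
    obtain ⟨W, hW⟩ := fr.nonempty
    obtain ⟨t, htJ, ht2, htW, -⟩ := fr.iso W hW
    obtain ⟨v, hv, hv1⟩ : ∃ v ∈ W, v ≠ 1 := by
      obtain ⟨⟨v, hv⟩, hv1⟩ := ne_bot_iff_exists_ne_one.1 (fun e : W = ⊥ => by
        have := fr.card W hW; rw [e, card_bot] at this; omega)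
      exact ⟨v, hv, fun e => hv1 (Subtype.ext e)⟩
    have hvo : orderOf v = 2 := orderOf_eq_prime (by rw [pow_two]; exact vOf_sq (fr.le W hW hv)) hv1
    have ht1 : t ≠ 1 := fun e => htW (e ▸ one_mem _)
    have hto : orderOf t = 2 := orderOf_eq_prime (by rw [pow_two]; exact ht2) ht1
    have htL : t ∈ L := s.J_le htJ
    obtain ⟨g, hg⟩ : ∃ g, g ∉ L := by
      by_contra hcon
      push Not at hcon
      exact hse.1 ((Subgroup.eq_top_iff' L).2 hcon)
    have hu : g * t * g⁻¹ ∉ L := by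
      intro hu
      have hmem : g * t * g⁻¹ ∈ L ⊓ L.map (MulAut.conj g).toMonoidHom := ⟨hu, t, htL, rfl⟩
      have hd := orderOf_dvd_natCard (⟨_, hmem⟩ : ↥(L ⊓ L.map (MulAut.conj g).toMonoidHom))
      rw [← Subgroup.orderOf_coe] at hd
      have hgo : orderOf (g * t * g⁻¹) = 2 := by rw [← MulAut.conj_apply, MulEquiv.orderOf_eq, hto]
      rw [hgo] at hd
      exact (Nat.not_even_iff_odd.2 (hse.2.2 g hg)) (even_iff_two_dvd.2 hd)
    obtain ⟨⟨d, hd, hdv⟩, -⟩ := Cfsg.Agent.S1225.result L hse _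
      (by rw [← MulAut.conj_apply, MulEquiv.orderOf_eq, hto]) hu v t hvo
      (pCoreOf_le L (vOf_le_Q (fr.le W hW hv))) hto htL
    have htQ : t ∈ pCoreOf 2 L := by
      rw [← hdv]
      exact (mem_normalizer_iff.1 (le_normalizer_pCoreOf L hd.1) v).1 (vOf_le_Q (fr.le W hW hv))
    exact htW (mem_centralizer_iff.2 fun w hw =>
      ((mem_vOf.1 (fr.le W hW hw)).2.1 t htQ).symm)
  -- a maximal one inside `T`
  obtain ⟨T', hmax, hT'T⟩ : ∃ T', T' ∈ maxStraddlingTwoSubgroups L ∧ T' ≤ T := by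
    obtain ⟨T₀, ⟨hp, h1, hle, X, hX, hTX, hXL⟩, hm⟩ := exists_maxStraddling hne
    obtain ⟨x, hx, hc⟩ := exists_conj_le s.syl hp hle
    have hinj : Function.Injective (MulAut.conj x⁻¹).toMonoidHom := (MulAut.conj x⁻¹).injective
    have hmem : T₀.map (MulAut.conj x⁻¹).toMonoidHom ≤ T := by
      refine (map_mono hc).trans ?_
      rw [map_conj_conj, inv_mul_cancel, map_conj_one]
    refine ⟨T₀.map (MulAut.conj x⁻¹).toMonoidHom, ⟨⟨hp.map _, ?_, hmem.trans s.T_le,
      X.map (MulAut.conj x⁻¹).toMonoidHom, isTwoLocal_map _ hX, map_mono hTX, fun h => hXL ?_⟩, fun P hP => ?_⟩,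
      hmem⟩
    · rwa [Ne, map_eq_bot_iff_of_injective _ hinj]
    · intro a ha
      have h' : x⁻¹ * a * x⁻¹⁻¹ ∈ L := h ⟨a, ha, rfl⟩
      have := mul_mem (mul_mem hx h') (inv_mem hx)
      rwa [inv_inv, show x * (x⁻¹ * a * x) * x⁻¹ = a by group] at this
    · rw [maxElemAbelianOrder_map _ hinj, thompson_map _ hinj,
        card_map_of_injective hinj, card_map_of_injective hinj]
      exact hm P hP
  have hne' : T' ≠ T := fun e => by
    obtain ⟨-, -, -, X, hX, hTX, hXL⟩ := hmax.1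
    exact hXL (hall X hX (e ▸ hTX))
  have c : Ctx L T' := Ctx.mk' hyp.charTwo hyp.twoLocal hyp.zNorm hyp.core hMJ hmax
  obtain ⟨K, hK⟩ := Cfsg.Agent.S2949.result hyp.charTwo hyp.twoLocal hyp.zNorm hyp.core S L hLmax.1 hMJ T' hmax
  have hKo : Out L T' K := ⟨hK.1.1, hK.2.1⟩
  obtain ⟨L₁, hL₁⟩ := c.exists_over hKo
  have hT'L₁ := c.T_le_over hKo hL₁ hK.2.2
  obtain ⟨y, hyT, hyN, hyT'⟩ : ∃ y ∈ T, y ∈ normalizer (T' : Set G) ∧ y ∉ T' := by
    haveI : Group.IsNilpotent ↥T := s.T_two.isNilpotent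
    have hlt : T'.subgroupOf T < ⊤ := lt_top_iff_ne_top.2 fun e => hne'
      (le_antisymm hT'T (subgroupOf_eq_top.1 e))
    obtain ⟨y, hy, hyn⟩ := SetLike.exists_of_lt (Group.normalizerCondition_of_isNilpotent _ hlt)
    exact ⟨y, y.2, mem_normalizer_fintype fun a ha => (mem_normalizer_iff.1 hy ⟨a, hT'T ha⟩).1 ha,
      fun h => hyn (mem_subgroupOf.2 h)⟩
  have hyL₁ : y ∉ L₁ := fun h => by
    obtain ⟨n, hn⟩ := s.T_two ⟨y, hyT⟩
    exact hyT' (mem_of_two_pow (c.sit_over hKo hL₁ hT'L₁).syl h hyN (n := n)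
      (by simpa using congrArg Subtype.val hn))
  obtain ⟨K₂, L₂, g₁, g₂, hK₂⟩ := c.pair_of_normalizer hKo hL₁ hT'L₁ hyN hyL₁
  have f := g₁.four g₂ hK₂
  obtain ⟨z, hz, hzT'⟩ := g₁.exists_z
  obtain ⟨E, hE⟩ : ∃ E, E = pCoreOf 2 L₁ := ⟨_, rfl⟩
  have hET' : E ≤ T' := hE ▸ f.Q_le_T
  have h4₁ := g₁.comp.2.2.2.2.1
  have hW₁E : wOf K ≤ E := hE ▸ f.W_le
  have hsq₁ : ∀ w ∈ wOf K, w * w = 1 := fun w hw => wOf_sq g₁.comp hw
  have hyz : y * z * y⁻¹ = z := f.z_fixed hz hzT' hyN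
  -- `Ω₁Z(T) = ⟨z⟩`
  have hOm : ∀ x ∈ omegaCenterOf T, x = 1 ∨ x = z := by
    intro x hx
    obtain ⟨-, hxc, -⟩ := mem_omegaCenter.1 hx
    have hxE : x ∈ pCoreOf 2 L₁ := g₁.sit.mem.2.2 (mem_centralizer_iff.2 fun q hq =>
      hxc q (hT'T (f.Q_le_T hq)))
    obtain ⟨h, hh, hc, hxh⟩ := f.center_cases hz hzT' hxE fun t ht => hxc t (hT'T ht)
    by_cases h1 : h = 1
    · simpa [h1] using hxh
    exfalso
    refine hyL₁ ((f.centralizer_eq hh h1 hc).le (mem_centralizer_singleton_iff.2 ?_))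
    have cx : Commute y x := hxc y hyT
    have cz : Commute y z := mul_inv_eq_iff_eq_mul.1 hyz
    rcases hxh with e | e
    · exact (e ▸ cx : Commute y h).eq
    · have : Commute y (x * z) := cx.mul_right cz
      rw [e, mul_assoc, hz.sq, mul_one] at this
      exact this.eq
  obtain ⟨hzT, hzc⟩ : z ∈ omegaCenterOf T ∧ centralizer ({z} : Set G) ≤ normalizer (T : Set G) := by
    haveI : Group.IsNilpotent ↥T := s.T_two.isNilpotent
    haveI : Nontrivial ↥T := (nontrivial_iff_ne_bot T).2 hT1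
    haveI : Nontrivial ↥(Subgroup.center ↥T) := s.T_two.center_nontrivial
    obtain ⟨n, hn0, hn⟩ := (s.T_two.to_subgroup (Subgroup.center ↥T)).nontrivial_iff_card.1 inferInstance
    obtain ⟨a, ha⟩ := exists_prime_orderOf_dvd_card' (G := ↥(Subgroup.center ↥T)) 2
      (hn ▸ dvd_pow_self 2 (by omega))
    have haO : ((a : ↥T) : G) ∈ omegaCenterOf T := by
      refine mem_omegaCenter.2 ⟨(a : ↥T).2, fun r hr => congrArg Subtype.val
        (Subgroup.mem_center_iff.1 a.2 ⟨r, hr⟩), ?_⟩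
      have := pow_orderOf_eq_one a
      rw [ha, pow_two] at this
      exact congrArg (fun u : ↥(Subgroup.center ↥T) => ((u : ↥T) : G)) this
    have hzT : z ∈ omegaCenterOf T := by
      rcases hOm _ haO with e | e
      · exfalso
        have : orderOf a = 1 := orderOf_eq_one_iff.2 (Subtype.ext (Subtype.ext e))
        omega
      · exact e ▸ haO
    refine ⟨hzT, le_trans ?_ (hS ▸ hyp.zNorm S : centralizer (omegaCenterOf T : Set G) ≤ normalizer (T : Set G))⟩
    intro g hg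
    refine mem_centralizer_iff.2 fun x hx => ?_
    rcases hOm x hx with e | e <;> subst e
    · simp
    · exact (mem_centralizer_singleton_iff.1 hg).symm
  have hzcL : centralizer ({z} : Set G) ≤ L :=
    hzc.trans (fun g hg => hNJ (T_le_normalizer_J T hg))
  have hTzc : T ≤ centralizer ({z} : Set G) :=
    le_centralizer_singleton.2 (mem_centralizer_iff.2 fun t ht => (mem_omegaCenter.1 hzT).2.1 t ht)
  have hTcard : Nat.card ↥T' < Nat.card ↥T :=
    lt_of_le_of_ne (card_le_of_le hT'T) fun e => hne' (eq_of_le_of_card_ge hT'T e.ge)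
  have htwoT : ∀ {x : G}, x ∈ centralizer ({z} : Set G) → ∀ {n : ℕ}, x ^ 2 ^ n = 1 → x ∈ T := by
    intro x hx n hn
    obtain ⟨P, hP, hTP⟩ := exists_sylowIn s.T_two (le_normalizer : T ≤ normalizer (T : Set G))
    rw [hSyl P hP.2.1 hTP] at hP
    exact mem_of_two_pow hP (hzc hx) (hzc hx) hn
  -- elements of `E` outside `W` have small centralizers
  have hsmall : ∀ e ∈ E, e ∉ wOf K → ∀ P : Subgroup G, IsPGroup 2 ↥P → P ≤ centralizer ({e} : Set G) →
      ∃ a : G, P.map (MulAut.conj a).toMonoidHom ≤ T' := by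
    have base : ∀ h ∈ E, h ≠ 1 → h ∈ centralizer (L₁ : Set G) → ∀ b : G, ∀ P : Subgroup G, IsPGroup 2 ↥P →
        P ≤ centralizer ({b * h * b⁻¹} : Set G) → ∃ a : G, P.map (MulAut.conj a).toMonoidHom ≤ T' := by
      intro h hh h1 hc b P hP hPc
      have hle : P.map (MulAut.conj b⁻¹).toMonoidHom ≤ L₁ := by
        rw [← f.centralizer_eq (hE ▸ hh) h1 hc]
        rintro _ ⟨p, hp, rfl⟩
        refine mem_centralizer_singleton_iff.2 ?_
        have := mem_centralizer_singleton_iff.1 (hPc hp)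
        show b⁻¹ * p * b⁻¹⁻¹ * h = h * (b⁻¹ * p * b⁻¹⁻¹)
        calc b⁻¹ * p * b⁻¹⁻¹ * h = b⁻¹ * (p * (b * h * b⁻¹)) * b := by group
          _ = b⁻¹ * ((b * h * b⁻¹) * p) * b := by rw [this]
          _ = h * (b⁻¹ * p * b⁻¹⁻¹) := by group
      obtain ⟨x, -, hx⟩ := exists_conj_le g₁.sit.syl (hP.map _) hle
      refine ⟨x⁻¹ * b⁻¹, ?_⟩
      rw [← map_conj_conj]
      refine (map_mono hx).trans ?_
      rw [map_conj_conj, inv_mul_cancel, map_conj_one]
    intro e he heW P hP hPc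
    obtain ⟨h, hh, hc, w, hw, rfl⟩ := f.decomp e (hE ▸ he)
    have h1 : h ≠ 1 := fun e1 => heW (by rw [e1, one_mul]; exact hw)
    by_cases hw1 : w = 1
    · refine base h (hE ▸ hh) h1 hc 1 P hP ?_
      simpa [hw1] using hPc
    -- `e` is conjugate to `h z`
    obtain ⟨k, hk, hko, hkW⟩ := comp_exists_odd g₁.comp
    obtain ⟨i, hi⟩ := four_transitive h4₁ hsq₁ (ev_of_odd h4₁ (comp_le_normalizer_wOf K hk) hko) hkW hz.memW
      hz.ne hw hw1
    obtain ⟨u, hu, huc⟩ : ∃ u, u ∈ L₁ ∧ u * z * u⁻¹ = w := ⟨k ^ i, pow_mem (g₁.le hk) i, hi⟩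
    -- `h z` is a conjugate of a central element
    obtain ⟨h', hh', hc', hhz⟩ : ∃ h' ∈ E, h' ∈ centralizer (L₁ : Set G) ∧ y⁻¹ * (h * z) * y = h' := by
      have hxT' : ∀ t ∈ T', t * (y⁻¹ * h * y) = (y⁻¹ * h * y) * t := by
        intro t ht
        have h2 : y * t * y⁻¹ ∈ T' := (mem_normalizer_iff.1 hyN t).1 ht
        have h3 := mem_centralizer_iff.1 hc _ (g₁.sit.T_le h2)
        calc t * (y⁻¹ * h * y) = y⁻¹ * (y * t * y⁻¹ * h) * y := by group
          _ = y⁻¹ * (h * (y * t * y⁻¹)) * y := by rw [h3]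
          _ = (y⁻¹ * h * y) * t := by group
      have hxQ : y⁻¹ * h * y ∈ pCoreOf 2 L₁ := g₁.sit.mem.2.2
        (mem_centralizer_iff.2 fun q hq => hxT' q (f.Q_le_T hq))
      obtain ⟨h', hh', hc', hor⟩ := f.center_cases hz hzT' hxQ hxT'
      have hcy : Commute y z := mul_inv_eq_iff_eq_mul.1 hyz
      refine ⟨h', hE ▸ hh', hc', ?_⟩
      rcases hor with e1 | e1
      · exfalso
        have h'1 : h' ≠ 1 := fun e2 => h1 (by
          rw [e2] at e1
          calc h = y * (y⁻¹ * h * y) * y⁻¹ := by group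
            _ = 1 := by rw [e1]; group)
        -- `y` would normalize `L₁`
        refine hyL₁ (maximal_normalizer_le g₁.max (mem_normalizer_fintype fun a ha => ?_))
        rw [SetLike.mem_coe, ← f.centralizer_eq hh' h'1 hc'] at ha
        rw [SetLike.mem_coe, ← f.centralizer_eq hh h1 hc]
        refine mem_centralizer_singleton_iff.2 ?_
        have h3 := mem_centralizer_singleton_iff.1 ha
        rw [← e1] at h3
        calc y * a * y⁻¹ * h = y * (a * (y⁻¹ * h * y)) * y⁻¹ := by group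
          _ = y * ((y⁻¹ * h * y) * a) * y⁻¹ := by rw [h3]
          _ = h * (y * a * y⁻¹) := by group
      · calc y⁻¹ * (h * z) * y = (y⁻¹ * h * y) * (y⁻¹ * z * y) := by group
          _ = h' * z * z := by rw [e1, mul_assoc y⁻¹ z y, ← hcy.eq, inv_mul_cancel_left]
          _ = h' := by rw [mul_assoc, hz.sq, mul_one]
    have h'1 : h' ≠ 1 := fun e1 => by
      have hhz1 : h * z = 1 := by
        calc h * z = y * (y⁻¹ * (h * z) * y) * y⁻¹ := by group
          _ = 1 := by rw [hhz, e1]; group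
      exact f.not_mem_center hz ((mul_left_cancel (hhz1.trans (f.sq h hh).symm)) ▸ hc)
    refine base h' hh' h'1 hc' (u * y) P hP ?_
    have he' : u * y * h' * (u * y)⁻¹ = h * w := by
      have huh : u * h = h * u := mem_centralizer_iff.1 hc u hu
      calc u * y * h' * (u * y)⁻¹ = u * (y * (y⁻¹ * (h * z) * y) * y⁻¹) * u⁻¹ := by rw [hhz]; group
        _ = (u * h) * z * u⁻¹ := by group
        _ = h * w := by rw [huh, ← huc]; group
    rwa [he']
  -- elements of `E` conjugate to `z` lie in `W`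
  have hzconj : ∀ (b : G), b * z * b⁻¹ ∈ E → b * z * b⁻¹ ∈ wOf K := by
    intro b hb
    by_contra hbW
    have hle : T.map (MulAut.conj b).toMonoidHom ≤ centralizer ({b * z * b⁻¹} : Set G) := by
      rintro _ ⟨t, ht, rfl⟩
      refine mem_centralizer_singleton_iff.2 ?_
      have := mem_centralizer_singleton_iff.1 (hTzc ht)
      show b * t * b⁻¹ * (b * z * b⁻¹) = b * z * b⁻¹ * (b * t * b⁻¹)
      calc b * t * b⁻¹ * (b * z * b⁻¹) = b * (t * z) * b⁻¹ := by group
        _ = b * (z * t) * b⁻¹ := by rw [this]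
        _ = b * z * b⁻¹ * (b * t * b⁻¹) := by group
    obtain ⟨a, ha⟩ := hsmall _ hb hbW _ (s.T_two.map _) hle
    have := card_le_of_le ha
    rw [card_map_of_injective (MulAut.conj a).injective, card_map_of_injective (MulAut.conj b).injective] at this
    omega
  -- `C_T(W) = E`
  have hCT : ∀ x ∈ T, x ∈ centralizer (wOf K : Set G) → x ∈ E := by
    obtain ⟨P0, hP0⟩ : ∃ P0, P0 = T ⊓ centralizer (wOf K : Set G) := ⟨_, rfl⟩
    have hEP : E ≤ P0 := hP0 ▸ le_inf (hET'.trans hT'T) (fun x hx => f.Q_cent (hE ▸ hx))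
    have hP2 : IsPGroup 2 ↥P0 := hP0 ▸ s.T_two.to_le inf_le_left
    have hN : L₁ ≤ normalizer (P0 : Set G) := fun g hg => mem_normalizer_fintype fun x hx => by
      rw [SetLike.mem_coe, hP0] at hx ⊢
      have hgn : g ∈ normalizer (centralizer (wOf K : Set G) : Set G) := by
        refine mem_normalizer_fintype fun a ha => mem_centralizer_iff.2 fun w hw => ?_
        have hw' := (mem_normalizer_iff.1 (inv_mem (f.W_normal hg)) w).1 hw
        have := mem_centralizer_iff.1 ha _ hw'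
        calc w * (g * a * g⁻¹) = g * ((g⁻¹ * w * g⁻¹⁻¹) * a) * g⁻¹ := by group
          _ = g * (a * (g⁻¹ * w * g⁻¹⁻¹)) * g⁻¹ := by rw [this]
          _ = g * a * g⁻¹ * w := by group
      have hc : g * x * g⁻¹ ∈ centralizer (wOf K : Set G) := (mem_normalizer_iff.1 hgn x).1 hx.2
      obtain ⟨n, hn⟩ := s.T_two ⟨x, hx.1⟩
      refine ⟨htwoT (mem_centralizer_singleton_iff.2 (mem_centralizer_iff.1 hc z hz.memW).symm) (n := n) ?_, hc⟩
      rw [conj_pow, show x ^ 2 ^ n = 1 by simpa using congrArg Subtype.val hn, mul_one, mul_inv_cancel]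
    have hEne : E ≠ ⊥ := fun e => hz.ne (mem_bot.1 (e ▸ hW₁E hz.memW))
    have hP0L : P0 ≤ L₁ := (g₁.max.2 _ ⟨P0, hP2, ne_bot_of_le_ne_bot hEne hEP, rfl⟩ hN) ▸ le_normalizer
    intro x hx hxc
    exact hE ▸ le_pCoreOf hP0L hN hP2 (hP0 ▸ ⟨hx, hxc⟩)
  -- the group `L`
  have hzQ : z ∈ pCoreOf 2 L := s.mem.2.2 (mem_centralizer_iff.2 fun q hq =>
    (mem_omegaCenter.1 hzT).2.1 q (s.Q_le_T hq))
  have hzV : z ∈ vOf L := mem_vOf.2 ⟨hzQ, fun q hq => (mem_omegaCenter.1 hzT).2.1 q (s.Q_le_T hq), hz.sq⟩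
  have hCV : vOf L ⊓ centralizer (dOf T L : Set G) = ⊥ := by
    by_contra hC
    obtain ⟨C, hCd⟩ : ∃ C, C = vOf L ⊓ centralizer (dOf T L : Set G) := ⟨_, rfl⟩
    rw [← hCd] at hC
    have hCT' : C ≤ T := hCd ▸ inf_le_left.trans (vOf_le_Q.trans s.Q_le_T)
    haveI : Group.IsNilpotent ↥T := s.T_two.isNilpotent
    haveI : (C.subgroupOf T).Normal := ⟨fun x hx t => by
      rw [mem_subgroupOf, hCd] at hx ⊢
      refine ⟨(mem_normalizer_iff.1 (le_normalizer_vOf (s.T_le t.2)) _).1 hx.1,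
        mem_centralizer_iff.2 fun d hd => ?_⟩
      have hd' := (mem_normalizer_iff.1 (inv_mem (le_normalizer_dOf (T := T) (s.T_le t.2))) d).1 hd
      have := mem_centralizer_iff.1 hx.2 _ hd'
      show d * ((t : G) * (x : G) * (t : G)⁻¹) = (t : G) * (x : G) * (t : G)⁻¹ * d
      calc d * ((t : G) * (x : G) * (t : G)⁻¹) = t * (((t : G)⁻¹ * d * (t : G)⁻¹⁻¹) * x) * (t : G)⁻¹ := by group
        _ = t * ((x : G) * ((t : G)⁻¹ * d * (t : G)⁻¹⁻¹)) * (t : G)⁻¹ := by rw [this]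
        _ = (t : G) * x * (t : G)⁻¹ * d := by group⟩
    obtain ⟨⟨x', hx'C, hx'Z⟩, hx'1⟩ := ne_bot_iff_exists_ne_one.1 (Grp.inf_center_ne_bot (C.subgroupOf T) (fun h => by
      rw [subgroupOf_eq_bot, disjoint_iff, inf_eq_left.2 hCT'] at h
      exact hC h))
    replace hx'C : (x' : G) ∈ C := hx'C
    rw [hCd] at hx'C
    have hxz : (x' : G) = z := (hOm _ (mem_omegaCenter.2 ⟨x'.2, fun r hr => congrArg Subtype.val
      (Subgroup.mem_center_iff.1 hx'Z ⟨r, hr⟩), vOf_sq hx'C.1⟩)).resolve_left fun e =>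
        hx'1 (Subtype.ext (Subtype.ext e))
    rw [hxz] at hx'C
    have hD : dOf T L ≤ normalizer (thompsonSubgroupOf 2 T : Set G) :=
      (le_centralizer_singleton.2 hx'C.2).trans (hzc.trans fun g hg => T_le_normalizer_J T hg)
    refine s.mem.2.1 (le_pCoreOf s.J_le (fun g hg => ?_) (s.T_two.to_le (thompsonEl_le T)))
    obtain ⟨d, hd, u, -, hu, rfl⟩ := s.frattini hg
    exact mul_mem (hD hd) hu
  have hVcard : ∀ W ∈ Ws, ∀ W' ∈ Ws, W ≠ W' → 16 ≤ Nat.card ↥(vOf L) := by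
    intro W hW W' hW' hne2
    have hd : W ⊓ W' = ⊥ := by
      have := fr.indep W hW W' hW' W' hW' hne2 hne2
      rwa [sup_idem] at this
    have hn : W ≤ normalizer (W' : Set G) := fun x hx => centralizer_le_normalizer _
      (mem_centralizer_iff.2 fun w hw => vOf_comm (fr.le W' hW' hw) (fr.le W hW hx))
    have h := Grp.card_sup_mul_card_inf hn
    rw [hd, card_bot, mul_one, fr.card W hW, fr.card W' hW'] at h
    have := card_le_of_le (sup_le (fr.le W hW) (fr.le W' hW') : W ⊔ W' ≤ vOf L)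
    omega
  have hsingle : Nat.card ↥(vOf L) < 16 → vOf L ∈ Ws := by
    intro hlt
    obtain ⟨W, hW⟩ := fr.nonempty
    have hone : ∀ W' ∈ Ws, W' = W := fun W' hW' => by
      by_contra hne2
      have := hVcard W' hW' W hW hne2
      omega
    have hle : vOf L ≤ W := fr.decomp.trans (sup_le (hCV.le.trans bot_le)
      (sSup_le fun W' h' => (hone W' h').le))
    rwa [le_antisymm hle (fr.le W hW)]
  have hVz : vOf L ∈ Ws → ∀ v ∈ vOf L, v ≠ 1 → ∃ b : G, b * z * b⁻¹ = v := by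
    intro hV v hv hv1
    obtain ⟨p, -, hp, hpW, -⟩ := fr.rot _ hV
    obtain ⟨i, hi⟩ := four_transitive (fr.card _ hV) (fun a ha => vOf_sq ha) hp hpW hzV hz.ne hv hv1
    exact ⟨_, hi⟩
  -- `W` is not in `Q`
  obtain ⟨w, hwW, hwQ⟩ : ∃ w ∈ wOf K, w ∉ pCoreOf 2 L := by
    by_contra hcon
    push Not at hcon
    have hVE : vOf L ≤ E := fun v hv => hCT v (s.Q_le_T (vOf_le_Q hv))
      (mem_centralizer_iff.2 fun w hw => (mem_vOf.1 hv).2.1 w (hcon w hw))
    have hlt : Nat.card ↥(vOf L) < 16 := by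
      have := card_le_of_le hVE
      rw [hE] at this
      have := f.card_Q
      omega
    have hV := hsingle hlt
    have hVW : vOf L ≤ wOf K := fun v hv => by
      by_cases hv1 : v = 1
      · exact hv1 ▸ one_mem _
      obtain ⟨b, rfl⟩ := hVz hV v hv hv1
      exact hzconj b (hVE hv)
    have hVeq : vOf L = wOf K := eq_of_le_of_card_ge hVW (by rw [fr.card _ hV, h4₁])
    have hQE : pCoreOf 2 L = E := le_antisymm
      (fun q hq => hCT q (s.Q_le_T hq) (hVeq ▸ mem_centralizer_iff.2 fun v hv =>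
        ((mem_vOf.1 hv).2.1 q hq).symm))
      (fun x hx => hcTV x (hT'T (hET' hx)) (hVeq ▸ f.Q_cent (hE ▸ hx)))
    have hNE : normalizer (E : Set G) = L₁ := hE ▸ maximal_eq_normalizer g₁.max
    exact hyL₁ (hNE.le (hQE ▸ le_normalizer_pCoreOf L (s.T_le hyT)))
  have hwz : w ≠ z := fun e => hwQ (e ▸ hzQ)
  have hw1 : w ≠ 1 := fun e => hwQ (e ▸ one_mem _)
  have hwT : w ∈ T := hT'T (hET' (hW₁E hwW))
  have hwV : w ∉ centralizer (vOf L : Set G) := fun h => hwQ (hcTV w hwT h)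
  have hwE : ∀ x ∈ T, x * w * x⁻¹ = w → x ∈ E := fun x hx hxw => hCT x hx (by
    rcases four_fixed h4₁ hsq₁ hz.memW hz.ne (mul_inv_eq_iff_eq_mul.2 ((mem_omegaCenter.1 hzT).2.1 x hx))
      hwW hxw with e | e | e
    exacts [absurd e hw1, absurd e hwz, e])
  -- `V` is small
  have hVsmall : Nat.card ↥(vOf L) < 16 := by
    by_cases hcase : ∃ e ∈ E, e ∈ vOf L ∧ e ∉ wOf K
    · obtain ⟨e, heE, heV, heW⟩ := hcase
      obtain ⟨a, ha⟩ := hsmall e heE heW (vOf L) ((pCoreOf_isPGroup L).to_le vOf_le_Q)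
        (le_centralizer_singleton.2 (mem_centralizer_iff.2 fun v hv => vOf_comm hv heV))
      have h16 : Nat.card ↥T' ≤ 16 := by
        have := f.card_Q
        have := f.card_T
        omega
      have hc := card_le_of_le ha
      rw [card_map_of_injective (MulAut.conj a).injective] at hc
      by_contra hlt
      push Not at hlt
      have heq := eq_of_le_of_card_ge ha
        (by rw [card_map_of_injective (MulAut.conj a).injective]; omega)
      obtain ⟨t, ht, -, htW⟩ := f.exists_invol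
      refine htW (mem_centralizer_iff.2 fun v hv => ?_)
      obtain ⟨v', hv', e1⟩ := heq.ge (hET' (hW₁E hv))
      obtain ⟨t', ht', e2⟩ := heq.ge ht
      rw [← e1, ← e2, ← map_mul, ← map_mul, vOf_comm hv' ht']
    · push Not at hcase
      have hfix : ∀ v ∈ vOf L, w * v * w⁻¹ = v → v = 1 ∨ v = z := by
        intro v hv hwv
        have hvE : v ∈ E := hwE v (s.Q_le_T (vOf_le_Q hv)) (mul_inv_eq_iff_eq_mul.2
          (mul_inv_eq_iff_eq_mul.1 hwv).symm)
        rcases four_elems h4₁ hsq₁ hz.memW hwW hz.ne hw1 (Ne.symm hwz) (hcase v hvE hv) with e | e | e | e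
        · exact Or.inl e
        · exact Or.inr e
        · exact absurd (vOf_le_Q (e ▸ hv)) hwQ
        · refine absurd ?_ hwQ
          have h := mul_mem hzQ (vOf_le_Q (e ▸ hv : z * w ∈ vOf L))
          rwa [← mul_assoc, hz.sq, one_mul] at h
      have hwn : w ∈ normalizer (vOf L : Set G) := le_normalizer_vOf (s.T_le hwT)
      let φ : ↥(vOf L) →* ↥(vOf L) :=
        { toFun := fun v => ⟨(v : G) * (w * v * w⁻¹), mul_mem v.2 ((mem_normalizer_iff.1 hwn _).1 v.2)⟩
          map_one' := Subtype.ext (by simp)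
          map_mul' := fun a b => Subtype.ext (by
            show (a : G) * b * (w * ((a : G) * b) * w⁻¹) = a * (w * a * w⁻¹) * (b * (w * b * w⁻¹))
            have hb' := vOf_comm b.2 ((mem_normalizer_iff.1 hwn _).1 a.2)
            calc (a : G) * b * (w * ((a : G) * b) * w⁻¹) = (a : G) * ((b : G) * (w * a * w⁻¹)) * (w * b * w⁻¹) := by group
              _ = (a : G) * ((w * a * w⁻¹) * b) * (w * b * w⁻¹) := by rw [hb']
              _ = _ := by group) }
      have hsmallset : ∀ H : Subgroup ↥(vOf L), (∀ v ∈ H, w * (v : G) * w⁻¹ = v) → Nat.card ↥H ≤ 2 := by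
        intro H hH
        have hsub : (H : Set ↥(vOf L)) ⊆ {1, ⟨z, hzV⟩} := fun v hv => by
          rcases hfix v v.2 (hH v hv) with e | e
          · exact Or.inl (Subtype.ext e)
          · exact Or.inr (Subtype.ext e)
        have h2 := Set.ncard_insert_le (1 : ↥(vOf L)) {⟨z, hzV⟩}
        rw [Set.ncard_singleton] at h2
        calc Nat.card ↥H = (H : Set ↥(vOf L)).ncard := Nat.card_coe_set_eq _
          _ ≤ _ := Set.ncard_le_ncard hsub (Set.toFinite _)
          _ ≤ 2 := h2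
      have hker : Nat.card ↥φ.ker ≤ 2 := hsmallset _ fun v hv => by
        have h : (v : G) * (w * v * w⁻¹) = 1 := congrArg Subtype.val (MonoidHom.mem_ker.1 hv)
        exact (mul_left_cancel ((vOf_sq v.2).trans h.symm)).symm
      have hrange : Nat.card ↥φ.range ≤ 2 := hsmallset _ fun v hv => by
        obtain ⟨u, rfl⟩ := hv
        have hww : w * w = 1 := hsq₁ w hwW
        show w * ((u : G) * (w * u * w⁻¹)) * w⁻¹ = (u : G) * (w * u * w⁻¹)
        calc w * ((u : G) * (w * u * w⁻¹)) * w⁻¹ = (w * u * w⁻¹) * ((w * w) * u * (w * w)⁻¹) := by group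
          _ = (w * u * w⁻¹) * u := by rw [hww, one_mul, inv_one, mul_one]
          _ = (u : G) * (w * u * w⁻¹) := vOf_comm ((mem_normalizer_iff.1 hwn _).1 u.2) u.2
      have hm := Nat.mul_le_mul hker hrange
      have hi : Nat.card ↥(vOf L) = Nat.card ↥φ.ker * Nat.card ↥φ.range := by
        rw [← index_ker, card_mul_index]
      omega
  have hV := hsingle hVsmall
  have hV4 := fr.card _ hV
  have hVc : ∀ a ∈ vOf L, ∀ b ∈ vOf L, a * b = b * a := fun a ha b hb => vOf_comm ha hb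
  have hfixz : ∀ x ∈ T, x * z * x⁻¹ = z := fun x hx =>
    mul_inv_eq_iff_eq_mul.2 ((mem_omegaCenter.1 hzT).2.1 x hx)
  -- the group `D = V E` equals its normalizer in `T`
  have hEN : E ≤ normalizer (vOf L : Set G) := (hET'.trans hT'T).trans (s.T_le.trans le_normalizer_vOf)
  obtain ⟨D, hDdef⟩ : ∃ D, D = vOf L ⊔ E := ⟨_, rfl⟩
  have hDT : D ≤ T := hDdef ▸ sup_le (vOf_le_Q.trans s.Q_le_T) (hET'.trans hT'T)
  have hDcard : Nat.card ↥D ≤ Nat.card ↥T' := by
    have h := Grp.card_sup_mul_card_inf hEN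
    rw [sup_comm, ← hDdef, hV4] at h
    have h2 : 2 ≤ Nat.card ↥(E ⊓ vOf L) := by
      refine Finite.one_lt_card_iff_nontrivial.2 ?_
      exact ⟨⟨⟨z, hW₁E hz.memW, hzV⟩, 1, fun e => hz.ne (congrArg Subtype.val e)⟩⟩
    have := f.card_T
    rw [← hE] at this
    have h3 := Nat.mul_le_mul_left (Nat.card ↥D) h2
    omega
  have hwD : w ∈ D := hDdef ▸ mem_sup_right (hW₁E hwW)
  have hND : ∀ x ∈ T, x ∈ normalizer (D : Set G) → x ∈ D := by
    have hq : ∀ x ∈ pCoreOf 2 L, x ∈ normalizer (D : Set G) → x ∈ D := by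
      intro x hxQ hxN
      have hx' := (mem_normalizer_iff.1 hxN w).1 hwD
      rw [hDdef, ← SetLike.mem_coe, coe_mul_of_right_le_normalizer_left _ _ hEN] at hx'
      obtain ⟨v, hv, e, he, hve⟩ := hx'
      have he2 : e * e = 1 := f.sq e (hE ▸ he)
      have hve2 : v * e * (v * e) = 1 := by
        rw [show v * e = x * w * x⁻¹ from hve, show x * w * x⁻¹ * (x * w * x⁻¹) = x * (w * w) * x⁻¹ by group,
          hsq₁ w hwW, mul_one, mul_inv_cancel]
      have hev : e * v * e⁻¹ = v := by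
        have hinv : e⁻¹ = e := inv_eq_of_mul_eq_one_right he2
        have h3 : e * v * e = v⁻¹ := mul_left_cancel (a := v) (by
          rw [mul_inv_cancel, ← hve2]; group)
        rw [hinv, h3, inv_eq_of_mul_eq_one_right (vOf_sq hv)]
      have heT : e ∈ T := hT'T (hET' he)
      have heC : e ∉ centralizer (vOf L : Set G) := fun h => hwQ (by
        have h5 : x * w * x⁻¹ ∈ pCoreOf 2 L := by
          rw [← show v * e = x * w * x⁻¹ from hve]
          exact mul_mem (vOf_le_Q hv) (hcTV e heT h)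
        have h6 := (mem_normalizer_iff.1 (inv_mem (le_normalizer_pCoreOf L (pCoreOf_le L hxQ))) _).1 h5
        rwa [show x⁻¹ * (x * w * x⁻¹) * x⁻¹⁻¹ = w by group] at h6)
      have hvE : v ∈ E := by
        rcases four_fixed hV4 (fun a ha => vOf_sq ha) hzV hz.ne (hfixz e heT) hv hev with e1 | e1 | e1
        · exact e1 ▸ one_mem _
        · exact e1 ▸ hW₁E hz.memW
        · exact absurd e1 heC
      have huE : x * w * x⁻¹ ∈ E := hve ▸ mul_mem hvE he
      have huW : x * w * x⁻¹ ∈ wOf K := by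
        obtain ⟨k, hk, hko, hkW⟩ := comp_exists_odd g₁.comp
        obtain ⟨i, hi⟩ := four_transitive h4₁ hsq₁ (ev_of_odd h4₁ (comp_le_normalizer_wOf K hk) hko) hkW hz.memW
          hz.ne hwW hw1
        have h7 : (x * k ^ i) * z * (x * k ^ i)⁻¹ = x * w * x⁻¹ := by rw [← hi]; group
        exact h7 ▸ hzconj _ (h7 ▸ huE)
      have hxT : x ∈ T := s.Q_le_T hxQ
      rcases four_elems h4₁ hsq₁ hz.memW hwW hz.ne hw1 (Ne.symm hwz) huW with e1 | e1 | e1 | e1
      · exact absurd (conj_eq_one_iff.1 e1) hw1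
      · exact absurd (mul_left_cancel (mul_right_cancel (e1.trans (hfixz x hxT).symm))) hwz
      · exact hDdef ▸ mem_sup_right (hwE x hxT e1)
      · -- multiply by an element of `V` moved by `w`
        obtain ⟨v₀, hv₀, hv₀w⟩ : ∃ v₀ ∈ vOf L, w * v₀ * w⁻¹ ≠ v₀ := by
          by_contra hcon
          push Not at hcon
          exact hwV (mem_centralizer_iff.2 fun a ha => (mul_inv_eq_iff_eq_mul.1 (hcon a ha)).symm)
        have h8 : v₀ * w * v₀⁻¹ = z * w := by
          have h9 := (four_move hV4 (fun a ha => vOf_sq ha) hVc (le_normalizer_vOf (s.T_le hwT)) hzV hz.ne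
            (hfixz w hwT) hv₀).resolve_left hv₀w
          calc v₀ * w * v₀⁻¹ = v₀ * (w * v₀ * w⁻¹)⁻¹ * w := by group
            _ = z * w := by
              rw [h9, mul_inv_rev, inv_eq_of_mul_eq_one_right hz.sq, inv_eq_of_mul_eq_one_right (vOf_sq hv₀),
                ← mul_assoc, hVc v₀ hv₀ z hzV, mul_assoc z, vOf_sq hv₀, mul_one]
        have h10 : (v₀ * x) * w * (v₀ * x)⁻¹ = w := by
          calc (v₀ * x) * w * (v₀ * x)⁻¹ = v₀ * (x * w * x⁻¹) * v₀⁻¹ := by group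
            _ = (v₀ * z * v₀⁻¹) * (v₀ * w * v₀⁻¹) := by rw [e1]; group
            _ = w := by rw [h8, hVc v₀ hv₀ z hzV, mul_inv_cancel_right, ← mul_assoc, hz.sq, one_mul]
        have h11 := hwE _ (mul_mem (s.Q_le_T (vOf_le_Q hv₀)) hxT) h10
        have hvD : v₀ ∈ D := hDdef ▸ mem_sup_left hv₀
        have := mul_mem (inv_mem hvD) (hDdef ▸ mem_sup_right h11 : v₀ * x ∈ D)
        rwa [inv_mul_cancel_left] at this
    intro x hxT hxN
    by_cases hxQ : x ∈ pCoreOf 2 L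
    · exact hq x hxQ hxN
    have hwxQ : w⁻¹ * x ∈ pCoreOf 2 L := by
      refine hcTV _ (mul_mem (inv_mem hwT) hxT) ?_
      obtain ⟨v₀, hv₀, hv₀w⟩ : ∃ v₀ ∈ vOf L, w * v₀ * w⁻¹ ≠ v₀ := by
        by_contra hcon
        push Not at hcon
        exact hwV (mem_centralizer_iff.2 fun a ha => (mul_inv_eq_iff_eq_mul.1 (hcon a ha)).symm)
      have hxV : x ∉ centralizer (vOf L : Set G) := fun h => hxQ (hcTV x hxT h)
      have hx0 : x * v₀ * x⁻¹ ≠ v₀ := fun e1 => by
        rcases four_fixed hV4 (fun a ha => vOf_sq ha) hzV hz.ne (hfixz x hxT) hv₀ e1 with e2 | e2 | e2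
        · exact hv₀w (by rw [e2]; group)
        · exact hv₀w (by rw [e2, hfixz w hwT])
        · exact hxV e2
      have h9 := (four_move hV4 (fun a ha => vOf_sq ha) hVc (le_normalizer_vOf (s.T_le hwT)) hzV hz.ne
        (hfixz w hwT) hv₀).resolve_left hv₀w
      have h12 := (four_move hV4 (fun a ha => vOf_sq ha) hVc (le_normalizer_vOf (s.T_le hxT)) hzV hz.ne
        (hfixz x hxT) hv₀).resolve_left hx0
      have h13 : (w⁻¹ * x) * v₀ * (w⁻¹ * x)⁻¹ = v₀ := by
        calc (w⁻¹ * x) * v₀ * (w⁻¹ * x)⁻¹ = w⁻¹ * (x * v₀ * x⁻¹) * w := by group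
          _ = w⁻¹ * (w * v₀ * w⁻¹) * w := by rw [h12, h9]
          _ = v₀ := by group
      rcases four_fixed hV4 (fun a ha => vOf_sq ha) hzV hz.ne (hfixz _ (mul_mem (inv_mem hwT) hxT)) hv₀ h13
        with e2 | e2 | e2
      · exact absurd (by rw [e2]; group) hv₀w
      · exact absurd (by rw [e2, hfixz w hwT]) hv₀w
      · exact e2
    have hwN : w ∈ normalizer (D : Set G) := le_normalizer hwD
    have := mul_mem hwD (hq _ hwxQ (mul_mem (inv_mem hwN) hxN))
    rwa [mul_inv_cancel_left] at this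
  have hDeq : D = T := by
    haveI : Group.IsNilpotent ↥T := s.T_two.isNilpotent
    by_contra hne2
    have hlt : D.subgroupOf T < ⊤ := lt_top_iff_ne_top.2 fun e => hne2
      (le_antisymm hDT (subgroupOf_eq_top.1 e))
    obtain ⟨x, hx, hxn⟩ := SetLike.exists_of_lt (Group.normalizerCondition_of_isNilpotent _ hlt)
    exact hxn (mem_subgroupOf.2 (hND x x.2
      (mem_normalizer_fintype fun a ha => (mem_normalizer_iff.1 hx ⟨a, hDT ha⟩).1 ha)))
  rw [hDeq] at hDcard
  omega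

end Cfsg.Agent.Invol.JComp
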