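import Cfsg.Agent.Lib.Invol.JCompOutside
import Cfsg.Agent.S2946

/-!
The element `z_K` of `Ω₁Z(J(T)) ∩ W_K`, and the lemma which puts all components in one
overgroup when `T` does not normalize a component.
-/

set_option autoImplicit false

open scoped commutatorElement Classical

namespace Cfsg.Agent.Invol.JComp

open Subgroup

variable {G : Type*} [Group G] [Finite G]

theorem le_centralizer_singleton {K : Subgroup G} {x : G} :
    K ≤ centralizer ({x} : Set G) ↔ x ∈ centralizer (K : Set G) :=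
  ⟨fun h => mem_centralizer_iff.2 fun k hk => (mem_centralizer_singleton_iff.1 (h hk)),
    fun h k hk => mem_centralizer_singleton_iff.2 (mem_centralizer_iff.1 h k hk)⟩

theorem omegaCenter_le (R : Subgroup G) : omegaCenterOf R ≤ R := fun _ hx => (mem_omegaCenter.1 hx).1

theorem omegaCenter_comm {R : Subgroup G} {x y : G} (hx : x ∈ omegaCenterOf R) (hy : y ∈ omegaCenterOf R) :
    x * y = y * x := (mem_omegaCenter.1 hy).2.1 x (omegaCenter_le R hx)

theorem omegaCenter_sq {R : Subgroup G} {x : G} (hx : x ∈ omegaCenterOf R) : x * x = 1 :=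
  (mem_omegaCenter.1 hx).2.2

theorem J_le_centralizer {T : Subgroup G} {x : G} (hx : x ∈ omegaCenterOf (thompsonSubgroupOf 2 T)) :
    thompsonSubgroupOf 2 T ≤ centralizer ({x} : Set G) :=
  le_centralizer_singleton.2 (mem_centralizer_iff.2 fun r hr => (mem_omegaCenter.1 hx).2.1 r hr)

theorem wOf_sq {T K : Subgroup G} (hK : IsJComponent T K) {w : G} (hw : w ∈ wOf K) : w * w = 1 :=
  hK.2.2.2.2.2 w hw

theorem comp_le_normalizer_wOf (K : Subgroup G) : K ≤ normalizer (wOf K : Set G) :=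
  le_normalizer.trans (normalizer_le_normalizer_wOf K)

/-- Some element of odd order of a component moves its four-group. -/
theorem comp_exists_odd {T K : Subgroup G} (hK : IsJComponent T K) :
    ∃ k ∈ K, Odd (orderOf k) ∧ k ∉ centralizer (wOf K : Set G) := by
  by_contra h
  push Not at h
  have hW4 := hK.2.2.2.2.1
  have hbot : wOf K = ⊥ := by
    unfold Cfsg.wOf
    rw [commutator_eq_bot_iff_le_centralizer]
    intro v hv
    rw [← hK.1, centralizer_closure, mem_centralizer_iff]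
    rintro d ⟨hdK, hdo⟩
    have hc : d * v * d⁻¹ * v⁻¹ ∈ wOf K := by
      have := inv_mem (commutator_mem_commutator hv hdK : ⁅v, d⁆ ∈ wOf K)
      rw [commutatorElement_def] at this
      simpa [Cfsg.wOf, mul_assoc] using this
    obtain ⟨c, hcd⟩ : ∃ c, c = d * v * d⁻¹ * v⁻¹ := ⟨_, rfl⟩
    rw [← hcd] at hc
    have h1 : d * v * d⁻¹ = c * v := by rw [hcd, inv_mul_cancel_right]
    have h2 : d * c * d⁻¹ = c := by
      rw [← mem_centralizer_iff.1 (h d hdK hdo) c hc, mul_inv_cancel_right]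
    have h3 := Cfsg.Agent.S2946.pow_comm_conj h1 h2 (orderOf d)
    rw [pow_orderOf_eq_one, one_mul, inv_one, mul_one] at h3
    obtain ⟨j, hj⟩ := hdo
    rw [hj, pow_succ, pow_mul, pow_two, wOf_sq hK hc, one_pow, one_mul] at h3
    have hc1 : c = 1 := mul_eq_right.1 h3.symm
    rw [hc1, one_mul] at h1
    exact mul_inv_eq_iff_eq_mul.1 h1
  rw [hbot, card_bot] at hW4
  omega

theorem comp_fixed_eq_one {T K : Subgroup G} (hK : IsJComponent T K) {w : G} (hw : w ∈ wOf K)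
    (hc : w ∈ centralizer (K : Set G)) : w = 1 := by
  obtain ⟨k, hk, ho, hkW⟩ := comp_exists_odd hK
  exact eq_one_of_fixed (ev_of_odd hK.2.2.2.2.1 (comp_le_normalizer_wOf K hk) ho) hkW hw
    (by rw [mem_centralizer_iff.1 hc k hk, mul_inv_cancel_right])

/-- `z` is the involution of `Ω₁Z(J(T))` in `W_K`. -/
structure IsZ (T K : Subgroup G) (z : G) : Prop where
  mem0 : z ∈ omegaCenterOf (thompsonSubgroupOf 2 T)
  memW : z ∈ wOf K
  ne : z ≠ 1
  uniq : ∀ x ∈ omegaCenterOf (thompsonSubgroupOf 2 T), x ∈ wOf K → x = 1 ∨ x = z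
  not_cent : z ∉ centralizer (K : Set G)
  split : ∀ x ∈ omegaCenterOf (thompsonSubgroupOf 2 T), x ∈ centralizer (K : Set G) ∨ x * z ∈ centralizer (K : Set G)

theorem exists_z (h : Hyp G) {T K : Subgroup G} (hT : IsPGroup 2 ↥T) (hT1 : T ≠ ⊥) (hK : IsJComponent T K) :
    ∃ z, IsZ T K z := by
  obtain ⟨Z₀, hZ₀⟩ : ∃ Z₀, Z₀ = omegaCenterOf (thompsonSubgroupOf 2 T) := ⟨_, rfl⟩
  obtain ⟨hcard, hsup⟩ := Cfsg.Agent.S2946.result h.charTwo h.twoLocal h.zNorm T hT hT1 K hK Z₀ hZ₀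
  have hnb : Z₀ ⊓ wOf K ≠ ⊥ := fun e => by rw [e, card_bot] at hcard; omega
  obtain ⟨⟨z, hz0, hzW⟩, hz1⟩ := ne_bot_iff_exists_ne_one.1 hnb
  have hz1' : z ≠ 1 := fun e => hz1 (Subtype.ext e)
  have huniq : ∀ x ∈ Z₀ ⊓ wOf K, x = 1 ∨ x = z := by
    intro x hx
    by_contra hne
    push Not at hne
    have hsub : ({x, 1, z} : Set G) ⊆ ((Z₀ ⊓ wOf K : Subgroup G) : Set G) := by
      rintro y (rfl | rfl | rfl)
      exacts [hx, one_mem _, ⟨hz0, hzW⟩]
    have h1 := Set.ncard_le_ncard hsub (Set.toFinite _)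
    rw [Set.ncard_insert_of_notMem (by simp [hne.1, hne.2]) (Set.toFinite _), Set.ncard_pair hz1'.symm,
      ← Nat.card_coe_set_eq] at h1
    rw [show Nat.card ↥((Z₀ ⊓ wOf K : Subgroup G) : Set G) = 2 from hcard] at h1
    omega
  refine ⟨z, hZ₀ ▸ hz0, hzW, hz1', fun x hx hxW => huniq x ⟨hZ₀ ▸ hx, hxW⟩,
    fun hc => hz1' (comp_fixed_eq_one hK hzW hc), fun x hx => ?_⟩
  rw [← hZ₀, ← hsup, ← SetLike.mem_coe,
    coe_mul_of_left_le_normalizer_right _ _ ?_] at hx
  · obtain ⟨a, ha, b, hb, rfl⟩ := hx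
    have hac : a ∈ centralizer (K : Set G) := mem_centralizer_iff.2 fun k hk =>
      mem_centralizer_iff.1 ha.2.2 k (Or.inl hk)
    rcases huniq b hb with rfl | rfl
    · left; simpa using hac
    · right
      show a * b * b ∈ _
      rw [mul_assoc, omegaCenter_sq (hZ₀ ▸ hb.1 : b ∈ omegaCenterOf (thompsonSubgroupOf 2 T)), mul_one]
      exact hac
  · intro a ha
    refine mem_normalizer_fintype fun b hb => ?_
    have hab : a * b * a⁻¹ = b := by
      rw [omegaCenter_comm (hZ₀ ▸ ha.1 : a ∈ omegaCenterOf (thompsonSubgroupOf 2 T))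
        (hZ₀ ▸ hb.1 : b ∈ omegaCenterOf (thompsonSubgroupOf 2 T)), mul_inv_cancel_right]
    rw [SetLike.mem_coe, hab]
    exact hb

theorem IsZ.sq {T K : Subgroup G} {z : G} (h : IsZ T K z) : z * z = 1 := omegaCenter_sq h.mem0

theorem conj_mem_Z0 {T : Subgroup G} {g : G} (hg : g ∈ normalizer (thompsonSubgroupOf 2 T : Set G)) {x : G}
    (hx : x ∈ omegaCenterOf (thompsonSubgroupOf 2 T)) :
    g * x * g⁻¹ ∈ omegaCenterOf (thompsonSubgroupOf 2 T) := by
  have := omegaCenter_map (MulAut.conj g).toMonoidHom (MulAut.conj g).injective (thompsonSubgroupOf 2 T)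
  rw [map_conj_eq_self hg] at this
  rw [this]
  exact ⟨x, hx, rfl⟩

theorem comp_conj_J {T K : Subgroup G} {g : G} (hg : g ∈ normalizer (thompsonSubgroupOf 2 T : Set G))
    (hK : IsJComponent T K) : IsJComponent T (K.map (MulAut.conj g).toMonoidHom) :=
  isJComponent_congr (by rw [thompson_map _ (MulAut.conj g).injective, map_conj_eq_self hg])
    (isJComponent_map_conj g hK)

theorem conj_mem_wOf {K : Subgroup G} (g : G) {x : G} (hx : x ∈ wOf K) :
    g * x * g⁻¹ ∈ wOf (K.map (MulAut.conj g).toMonoidHom) := by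
  rw [wOf_map _ (MulAut.conj g).injective]
  exact ⟨x, hx, rfl⟩

theorem T_le_normalizer_J (T : Subgroup G) {t : G} (ht : t ∈ normalizer (T : Set G)) :
    t ∈ normalizer (thompsonSubgroupOf 2 T : Set G) :=
  mem_normalizer_of_map_eq (by rw [← thompson_map _ (MulAut.conj t).injective, map_conj_eq_self ht])

/-- Distinct components in the same group centralize each other's four-groups. -/
theorem Sit.wOf_centralizes {T L : Subgroup G} (s : Sit T L) {K K' : Subgroup G} (hK : IsJComponent T K)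
    (hKL : K ≤ L) (hK' : IsJComponent T K') (hK'L : K' ≤ L) (hne : K ≠ K') {w : G} (hw : w ∈ wOf K) :
    w ∈ centralizer (K' : Set G) := by
  obtain ⟨Ws, f⟩ := s.exists_frame
  obtain ⟨W, c⟩ := s.compData f hK hKL
  obtain ⟨W', c'⟩ := s.compData f hK' hK'L
  have hWW : W ≠ W' := by
    intro e
    obtain ⟨⟨v, hv⟩, hv1⟩ := ne_bot_iff_exists_ne_one.1 (fun e0 : wOf K = ⊥ => by
      have := hK.2.2.2.2.1; rw [e0, card_bot] at this; omega)
    exact hne (s.comp_eq hK hKL hK' hK'L hv (by rw [c'.w_eq, ← e, ← c.w_eq]; exact hv)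
      (fun e1 => hv1 (Subtype.ext e1)))
  exact mem_centralizer_iff.2 fun k hk =>
    (mem_centralizer_iff.1 (c'.others W c.mem hWW hk) w (c.w_eq ▸ hw)).symm

/-- If `T` moves a component outside `M`, every component lies in the overgroup of that one. -/
theorem Ctx.comp_le_over {M T : Subgroup G} (c : Ctx M T) {K L : Subgroup G} (hK : Out M T K)
    (hL : IsOver T K L) (hTL : T ≤ L) {t : G} (ht : t ∈ T) (hne : K.map (MulAut.conj t).toMonoidHom ≠ K)
    {K₄ : Subgroup G} (hK₄ : IsJComponent T K₄) (h : Out M T K₄ ∨ ∀ P : Subgroup G, IsPGroup 2 ↥P → T ≤ P → P = T) :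
    K₄ ≤ L := by
  by_contra hK₄L
  have s := c.sit_over hK hL hTL
  have hKL : K ≤ L := le_sup_left.trans hL.2
  have hJL : thompsonSubgroupOf 2 T ≤ L := le_sup_right.trans hL.2
  have hconjM : ∀ s ∈ T, ∀ {K' : Subgroup G}, Out M T K' → Out M T (K'.map (MulAut.conj s).toMonoidHom) := by
    intro u hu K' hK'
    refine ⟨comp_conj_J (T_le_normalizer_J T (le_normalizer hu)) hK'.1, fun hle => hK'.2 fun k hk => ?_⟩
    have h1 : u * k * u⁻¹ ∈ M := hle ⟨k, hk, rfl⟩
    have h2 := mul_mem (mul_mem (inv_mem (c.T_le_M hu)) h1) (c.T_le_M hu)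
    rwa [show u⁻¹ * (u * k * u⁻¹) * u = k by group] at h2
  obtain ⟨K₂, hK₂def⟩ : ∃ K₂, K₂ = K.map (MulAut.conj t).toMonoidHom := ⟨_, rfl⟩
  rw [← hK₂def] at hne
  have hK₂ : Out M T K₂ := hK₂def ▸ hconjM t ht hK
  have hK₂L : K₂ ≤ L := hK₂def ▸ (s.comp_conj hK.1 hKL (hTL ht)).2
  obtain ⟨z₁, hz₁⟩ := exists_z c.amb c.T_two c.T_ne hK.1
  obtain ⟨z₂, hz₂⟩ := exists_z c.amb c.T_two c.T_ne hK₂.1
  have h12 : z₁ ≠ z₂ := fun e => hne (s.comp_eq hK.1 hKL hK₂.1 hK₂L hz₁.memW (e ▸ hz₂.memW) hz₁.ne).symm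
  have hover : ∀ {K' : Subgroup G}, Out M T K' → K' ≤ L → ∀ x ∈ omegaCenterOf (thompsonSubgroupOf 2 T), x ≠ 1 →
      x ∈ centralizer (K' : Set G) → centralizer ({x} : Set G) ≤ L := fun hK' hK'L x hx hx1 hxc =>
    c.le_over hK' ⟨hL.1, sup_le hK'L hJL⟩ (isTwoLocal_centralizer (omegaCenter_sq hx) hx1)
      (le_centralizer_singleton.2 hxc) (J_le_centralizer hx)
  have h1c2 : z₁ ∈ centralizer (K₂ : Set G) := s.wOf_centralizes hK.1 hKL hK₂.1 hK₂L (Ne.symm hne) hz₁.memW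
  have h2c1 : z₂ ∈ centralizer (K : Set G) := s.wOf_centralizes hK₂.1 hK₂L hK.1 hKL hne hz₂.memW
  have claim : ∀ K' : Subgroup G, ¬ K' ≤ L → ∀ z, IsZ T K' z →
      z₁ ∉ centralizer (K' : Set G) ∧ z₂ ∉ centralizer (K' : Set G) ∧ (z = z₁ ∨ z = z₂) := by
    intro K' hK' z hz
    have n1 : z₁ ∉ centralizer (K' : Set G) := fun hc =>
      hK' ((le_centralizer_singleton.2 hc).trans (hover hK₂ hK₂L z₁ hz₁.mem0 hz₁.ne h1c2))
    have n2 : z₂ ∉ centralizer (K' : Set G) := fun hc =>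
      hK' ((le_centralizer_singleton.2 hc).trans (hover hK hKL z₂ hz₂.mem0 hz₂.ne h2c1))
    refine ⟨n1, n2, ?_⟩
    by_contra hcon
    push Not at hcon
    have e1 : z₁ * z ∈ centralizer (K' : Set G) := (hz.split z₁ hz₁.mem0).resolve_left n1
    have e2 : z₂ * z ∈ centralizer (K' : Set G) := (hz.split z₂ hz₂.mem0).resolve_left n2
    have hne1 : ∀ a : G, z ≠ a → a * a = 1 → a * z ≠ 1 := fun a ha hsq e =>
      ha (mul_left_cancel (e.trans hsq.symm))
    rcases hz₂.split z hz.mem0 with hzc | hzc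
    · exact hK' ((le_centralizer_singleton.2 e1).trans
        (hover hK₂ hK₂L _ (mul_mem hz₁.mem0 hz.mem0) (hne1 _ hcon.1 hz₁.sq) (mul_mem h1c2 hzc)))
    · rw [omegaCenter_comm hz.mem0 hz₂.mem0] at hzc
      exact hK' ((le_centralizer_singleton.2 e2).trans
        (hover hK₂ hK₂L _ (mul_mem hz₂.mem0 hz.mem0) (hne1 _ hcon.2 hz₂.sq) hzc))
  obtain ⟨z₄, hz₄⟩ := exists_z c.amb c.T_two c.T_ne hK₄
  obtain ⟨n1, n2, h4⟩ := claim K₄ hK₄L z₄ hz₄
  have h12c : z₁ * z₂ ∈ centralizer (K₄ : Set G) := by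
    have := mul_mem ((hz₄.split z₁ hz₁.mem0).resolve_left n1) ((hz₄.split z₂ hz₂.mem0).resolve_left n2)
    rwa [omegaCenter_comm hz₂.mem0 hz₄.mem0, mul_assoc, ← mul_assoc z₄ z₄, hz₄.sq, one_mul] at this
  have hx1 : z₁ * z₂ ≠ 1 := fun e => h12 (by
    rw [← mul_left_cancel (e.trans hz₁.sq.symm)])
  have hx0 := mul_mem hz₁.mem0 hz₂.mem0
  -- `T` permutes the two components
  have hperm : ∀ u ∈ T, K.map (MulAut.conj u).toMonoidHom = K ∨ K.map (MulAut.conj u).toMonoidHom = K₂ := by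
    intro u hu
    by_contra hcon
    push Not at hcon
    have hK₃ := hconjM u hu hK
    have hK₃L := (s.comp_conj hK.1 hKL (hTL hu)).2
    exact hK₄L ((le_centralizer_singleton.2 h12c).trans (hover hK₃ hK₃L _ hx0 hx1
      (mul_mem (s.wOf_centralizes hK.1 hKL hK₃.1 hK₃L (Ne.symm hcon.1) hz₁.memW)
        (s.wOf_centralizes hK₂.1 hK₂L hK₃.1 hK₃L (Ne.symm hcon.2) hz₂.memW))))
  have himg : ∀ u ∈ T, u * z₁ * u⁻¹ = z₁ ∨ u * z₁ * u⁻¹ = z₂ := by
    intro u hu
    have h0 := conj_mem_Z0 (T_le_normalizer_J T (le_normalizer hu)) hz₁.mem0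
    have hW := conj_mem_wOf u hz₁.memW
    rcases hperm u hu with e | e <;> rw [e] at hW
    · exact Or.inl ((hz₁.uniq _ h0 hW).resolve_left fun e' => hz₁.ne (conj_eq_one_iff.1 e'))
    · exact Or.inr ((hz₂.uniq _ h0 hW).resolve_left fun e' => hz₁.ne (conj_eq_one_iff.1 e'))
  have ht12 : t * z₁ * t⁻¹ = z₂ := by
    have hW := conj_mem_wOf t hz₁.memW
    rw [← hK₂def] at hW
    exact (hz₂.uniq _ (conj_mem_Z0 (T_le_normalizer_J T (le_normalizer ht)) hz₁.mem0) hW).resolve_left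
      fun e' => hz₁.ne (conj_eq_one_iff.1 e')
  have himg2 : ∀ u ∈ T, u * z₂ * u⁻¹ = z₁ ∨ u * z₂ * u⁻¹ = z₂ := by
    intro u hu
    have := himg (u * t) (mul_mem hu ht)
    rwa [show u * t * z₁ * (u * t)⁻¹ = u * (t * z₁ * t⁻¹) * u⁻¹ by group, ht12] at this
  have hfix : T ≤ centralizer ({z₁ * z₂} : Set G) := by
    intro u hu
    refine mem_centralizer_singleton_iff.2 ?_
    have hmul : u * (z₁ * z₂) * u⁻¹ = z₁ * z₂ := by
      rw [← conj_mul]
      rcases himg u hu with e1 | e1 <;> rcases himg2 u hu with e2 | e2 <;> rw [e1, e2]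
      · exact absurd (mul_left_cancel (mul_right_cancel (e1.trans e2.symm))) h12
      · exact omegaCenter_comm hz₂.mem0 hz₁.mem0
      · exact absurd (mul_left_cancel (mul_right_cancel (e1.trans e2.symm))) h12
    exact mul_inv_eq_iff_eq_mul.1 hmul
  obtain ⟨X, hX⟩ : ∃ X, X = centralizer ({z₁ * z₂} : Set G) := ⟨_, rfl⟩
  rw [← hX] at hfix
  have hX2 : IsTwoLocal X := hX ▸ isTwoLocal_centralizer (omegaCenter_sq hx0) hx1
  have hK₄X : K₄ ≤ X := hX ▸ le_centralizer_singleton.2 h12c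
  have sX : Sit T X := by
    rcases h with hO | hSyl
    · obtain ⟨S, -, -, hsit⟩ := c.sit hX2 (fun hle => hO.2 (hK₄X.trans hle)) (hX ▸ J_le_centralizer hx0)
      exact hsit hfix
    · obtain ⟨P, hP, hTP⟩ := exists_sylowIn c.T_two hfix
      rw [hSyl P hP.2.1 hTP] at hP
      refine Sit.of_mem c.amb.charTwo c.amb.twoLocal c.amb.zNorm c.T_ne
        (jOvergroups_of_two_local c.amb.charTwo hX2 hP fun hle => ?_)
      have hK₄J : K₄ ≤ thompsonSubgroupOf 2 T := by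
        rw [← hK₄.2.1]
        refine commutator_le.2 fun k hk j hj => ?_
        rw [commutatorElement_def]
        exact mul_mem ((mem_normalizer_iff.1 (hle (hK₄X hk)) j).1 hj) (inv_mem hj)
      obtain ⟨k, hk, ho, hkW⟩ := comp_exists_odd hK₄
      obtain ⟨n, hn⟩ := (c.T_two.to_le (thompsonEl_le T)) ⟨k, hK₄J hk⟩
      have hk1 : k = 1 := eq_one_of_odd_of_two ho (congrArg Subtype.val hn)
      exact hkW (hk1 ▸ one_mem _)
  obtain ⟨h4', h4X⟩ := sX.comp_conj hK₄ hK₄X (hfix ht)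
  have hnotL : ¬ K₄.map (MulAut.conj t).toMonoidHom ≤ L := fun hle => hK₄L fun k hk => by
    have h2 := mul_mem (mul_mem (inv_mem (hTL ht)) (hle ⟨k, hk, rfl⟩)) (hTL ht)
    change t⁻¹ * (t * k * t⁻¹) * t ∈ L at h2
    rwa [show t⁻¹ * (t * k * t⁻¹) * t = k by group] at h2
  obtain ⟨z₄', hz₄'⟩ := exists_z c.amb c.T_two c.T_ne h4'
  obtain ⟨m1, m2, -⟩ := claim _ hnotL z₄' hz₄'
  have hmoved : t * z₄ * t⁻¹ ≠ z₄ := by
    rcases h4 with rfl | rfl
    · rw [ht12]; exact Ne.symm h12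
    · exact fun e => h12 (mul_left_cancel (mul_right_cancel (ht12.trans e.symm)))
  have hne4 : K₄ ≠ K₄.map (MulAut.conj t).toMonoidHom := fun e => by
    have hW := conj_mem_wOf t hz₄.memW
    rw [← e] at hW
    exact hmoved ((hz₄.uniq _ (conj_mem_Z0 (T_le_normalizer_J T (le_normalizer ht)) hz₄.mem0) hW).resolve_left
      fun e' => hz₄.ne (conj_eq_one_iff.1 e'))
  have := sX.wOf_centralizes hK₄ hK₄X h4' h4X hne4 hz₄.memW
  rcases h4 with rfl | rfl
  · exact m1 this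
  · exact m2 this

end Cfsg.Agent.Invol.JComp
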