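import Cfsg.Agent.Lib.Invol.JCompFrame
import Cfsg.Agent.Lib.Grp.Coprime
import Cfsg.Agent.S2941

/-!
The `J(T)`-components inside an overgroup `L`: each of them belongs to one four-group of the frame, is normalized
by the group generated by the conjugates of `J(T)`, and is determined by its four-group.
-/

set_option autoImplicit false

open scoped commutatorElement Classical

namespace Cfsg.Agent.Invol.JComp

open Subgroup

variable {G : Type*} [Group G]

/-! ### The map `v ↦ ⁅k, v⁆` on an abelian group of exponent two -/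

theorem theta_iterate {V : Subgroup G} (hc : ∀ a ∈ V, ∀ b ∈ V, a * b = b * a) (hs : ∀ a ∈ V, a * a = 1)
    {k : G} (hk : k ∈ normalizer (V : Set G)) (r : ℕ) :
    ∀ v ∈ V, ((fun u => k * u * k⁻¹ * u⁻¹)^[2 ^ r]) v = k ^ 2 ^ r * v * (k ^ 2 ^ r)⁻¹ * v⁻¹ := by
  induction r with
  | zero => intro v _; simp
  | succ r ih =>
    intro v hv
    obtain ⟨K, hK⟩ : ∃ K, K = k ^ 2 ^ r := ⟨_, rfl⟩
    have hKn : K ∈ normalizer (V : Set G) := hK ▸ pow_mem hk _
    have h1 : K * v * K⁻¹ ∈ V := (mem_normalizer_iff.1 hKn v).1 hv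
    have hw : K * v * K⁻¹ * v⁻¹ ∈ V := mul_mem h1 (inv_mem hv)
    rw [show 2 ^ (r + 1) = 2 ^ r + 2 ^ r by rw [pow_succ]; ring, Function.iterate_add_apply, ih v hv, ← hK,
      ih _ hw, ← hK, pow_add, ← hK]
    have hvi : v⁻¹ = v := inv_eq_of_mul_eq_one_right (hs v hv)
    have h2 : K * (K * v * K⁻¹) * K⁻¹ ∈ V := (mem_normalizer_iff.1 hKn _).1 h1
    have h3 : (K * v * K⁻¹) * (K * v * K⁻¹) = 1 := hs _ h1
    calc K * (K * v * K⁻¹ * v⁻¹) * K⁻¹ * (K * v * K⁻¹ * v⁻¹)⁻¹
        = (K * (K * v * K⁻¹) * K⁻¹) * (K * v * K⁻¹)⁻¹ * (v * (K * v * K⁻¹)⁻¹) := by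
          rw [hvi]
          simp only [mul_inv_rev, inv_inv, hvi, mul_assoc, inv_mul_cancel_left]
      _ = (K * (K * v * K⁻¹) * K⁻¹) * ((K * v * K⁻¹)⁻¹ * (K * v * K⁻¹)⁻¹) * v := by
          rw [hc v hv _ (inv_mem h1)]; group
      _ = (K * K) * v * (K * K)⁻¹ * v⁻¹ := by
          rw [← mul_inv_rev, h3, hvi]; group

theorem theta_mem {V : Subgroup G} (hc : ∀ a ∈ V, ∀ b ∈ V, a * b = b * a) (hs : ∀ a ∈ V, a * a = 1)
    {k : G} (hk : k ∈ normalizer (V : Set G)) (ho : Odd (orderOf k)) {W₀ : Subgroup G}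
    (h : ∀ v ∈ V, k * (k * v * k⁻¹ * v⁻¹) * k⁻¹ * (k * v * k⁻¹ * v⁻¹)⁻¹ ∈ W₀) :
    ∀ v ∈ V, k * v * k⁻¹ * v⁻¹ ∈ W₀ := by
  intro v hv
  obtain ⟨r, hr⟩ : ∃ r, r = Nat.totient (orderOf k) := ⟨_, rfl⟩
  have hr1 : 0 < r := hr ▸ Nat.totient_pos.2 ho.pos
  have hmod : k ^ 2 ^ r = k := by
    have := Nat.ModEq.pow_totient (Nat.coprime_two_left.2 ho)
    rw [← hr] at this
    conv_rhs => rw [← pow_one k]
    exact pow_eq_pow_iff_modEq.2 this
  have h2 : 2 ≤ 2 ^ r := le_self_pow (by norm_num) hr1.ne'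
  obtain ⟨m, hm⟩ : ∃ m, 2 ^ r = 2 + m := ⟨2 ^ r - 2, by omega⟩
  obtain ⟨θ, hθ⟩ : ∃ θ : G → G, θ = fun u => k * u * k⁻¹ * u⁻¹ := ⟨_, rfl⟩
  have hin : ∀ n, (θ^[n]) v ∈ V := by
    intro n
    induction n with
    | zero => exact hv
    | succ n ih =>
      rw [Function.iterate_succ_apply', hθ]
      exact mul_mem ((mem_normalizer_iff.1 hk _).1 (hθ ▸ ih)) (inv_mem (hθ ▸ ih))
  have h3 := theta_iterate hc hs hk r v hv
  rw [hmod, ← hθ, hm, Function.iterate_add_apply] at h3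
  rw [← h3]
  simp only [Function.iterate_succ_apply', Function.iterate_zero_apply, hθ]
  exact h _ (hθ ▸ hin m)

/-- A fixed point free element maps a four-group onto itself by `v ↦ ⁅k, v⁆`. -/
theorem four_surj [Finite G] {W : Subgroup G} (hc : ∀ a ∈ W, ∀ b ∈ W, a * b = b * a) {k : G}
    (he : Ev W k) (hk : k ∉ centralizer (W : Set G)) {w : G} (hw : w ∈ W) :
    ∃ v ∈ W, k * v * k⁻¹ * v⁻¹ = w := by
  let f : ↥W → ↥W := fun v =>
    ⟨k * v * k⁻¹ * (v : G)⁻¹, mul_mem ((mem_normalizer_iff.1 he.1 _).1 v.2) (inv_mem v.2)⟩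
  have hf : Function.Injective f := by
    intro a b hab
    have h : k * a * k⁻¹ * (a : G)⁻¹ = k * b * k⁻¹ * (b : G)⁻¹ := congrArg Subtype.val hab
    have ha' : k * a * k⁻¹ ∈ W := (mem_normalizer_iff.1 he.1 _).1 a.2
    have hb' : k * b * k⁻¹ ∈ W := (mem_normalizer_iff.1 he.1 _).1 b.2
    have h1 : (k * a * k⁻¹) = (k * b * k⁻¹) * ((b : G)⁻¹ * a) := by
      rw [← mul_assoc, ← h]; group
    have h2 : k * ((b : G)⁻¹ * a) * k⁻¹ = (b : G)⁻¹ * a := by
      calc k * ((b : G)⁻¹ * a) * k⁻¹ = (k * b * k⁻¹)⁻¹ * (k * a * k⁻¹) := by group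
        _ = (b : G)⁻¹ * a := by rw [h1]; group
    exact Subtype.ext (inv_mul_eq_one.1 (eq_one_of_fixed he hk (mul_mem (inv_mem b.2) a.2) h2)).symm
  obtain ⟨v, hv⟩ := (Finite.injective_iff_surjective.1 hf) ⟨w, hw⟩
  exact ⟨v, v.2, congrArg Subtype.val hv⟩

section
variable [Finite G] {T L : Subgroup G} {Ws : Set (Subgroup G)}

theorem IsFrame.comm (f : IsFrame T L Ws) {W : Subgroup G} (hW : W ∈ Ws) :
    ∀ a ∈ W, ∀ b ∈ W, a * b = b * a := fun _ ha _ hb => vOf_comm (f.le W hW ha) (f.le W hW hb)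

theorem IsFrame.eq_of_mem (f : IsFrame T L Ws) {W W' : Subgroup G} (hW : W ∈ Ws) (hW' : W' ∈ Ws) {w : G}
    (h : w ∈ W) (h' : w ∈ W') (h1 : w ≠ 1) : W = W' := by
  by_contra hne
  have := f.indep W hW W' hW' W' hW' hne hne
  exact h1 (mem_bot.1 (this ▸ (⟨h, mem_sup_left h'⟩ : w ∈ W ⊓ (W' ⊔ W'))))

/-- An element of `D` centralizing every four-group lies in `C_L(V)`. -/
theorem Sit.mem_cOf (s : Sit T L) (f : IsFrame T L Ws) {d : G} (hd : d ∈ dOf T L)
    (h : ∀ W ∈ Ws, d ∈ centralizer (W : Set G)) : d ∈ cOf L := by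
  refine ⟨s.dOf_le hd, mem_centralizer_iff.2 fun v hv => ?_⟩
  have hle : (vOf L ⊓ centralizer (dOf T L : Set G)) ⊔ sSup Ws ≤ centralizer ({d} : Set G) :=
    sup_le (fun u hu => mem_centralizer_iff.2 fun g hg => by
        rw [Set.mem_singleton_iff.1 hg]; exact mem_centralizer_iff.1 hu.2 d hd)
      (sSup_le fun W hW u hu => mem_centralizer_iff.2 fun g hg => by
        rw [Set.mem_singleton_iff.1 hg]; exact (mem_centralizer_iff.1 (h W hW) u hu).symm)
  exact (mem_centralizer_iff.1 (hle (f.decomp hv)) d rfl).symm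

theorem Sit.Q_le_normalizer (s : Sit T L) {K : Subgroup G} (hK : IsJComponent T K) (hKL : K ≤ L) :
    pCoreOf 2 L ≤ normalizer (K : Set G) := by
  refine Cfsg.Agent.S2941.result s.charTwo s.twoLocal s.zNorm T s.T_two ?_ K hK _ ?_ ?_
  · intro h
    exact s.not_J_le_cOf fun j hj => by
      have hj' : j ∈ T := thompsonEl_le T hj
      rw [h, mem_bot] at hj'
      rw [hj']; exact one_mem _
  · exact sup_le (hKL.trans (le_normalizer_pCoreOf L)) (s.J_le.trans (le_normalizer_pCoreOf L))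
  · exact Q_le_cOf.trans s.cOf_le_normalizer_J

theorem Sit.comp_le_dOf (s : Sit T L) {K : Subgroup G} (hK : IsJComponent T K) (hKL : K ≤ L) :
    K ≤ dOf T L := by
  refine le_trans hK.2.1.ge (commutator_le.2 fun k hk j hj => ?_)
  rw [commutatorElement_def]
  exact mul_mem ((mem_normalizer_iff.1 (le_normalizer_dOf (hKL hk)) j).1 (J_le_dOf hj))
    (inv_mem (J_le_dOf hj))

/-- What is known about a component in `L`. -/
structure IsCompData (T L : Subgroup G) (Ws : Set (Subgroup G)) (K W : Subgroup G) : Prop where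
  mem : W ∈ Ws
  w_eq : wOf K = W
  le_d : K ≤ dOf T L
  ev : ∀ g ∈ K, Ev W g
  others : ∀ W' ∈ Ws, W' ≠ W → K ≤ centralizer (W' : Set G)
  inf_c : ∀ g ∈ K, g ∈ cOf L → g ∈ pCoreOf 2 L
  qnorm : pCoreOf 2 L ≤ normalizer (K : Set G)
  odd_gen : closure {g : G | g ∈ K ∧ Odd (orderOf g)} = K
  exists_odd : ∃ k ∈ K, Odd (orderOf k) ∧ k ∉ centralizer (W : Set G)

theorem Sit.compData (s : Sit T L) (f : IsFrame T L Ws) {K : Subgroup G} (hK : IsJComponent T K)
    (hKL : K ≤ L) : ∃ W, IsCompData T L Ws K W := by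
  haveI := Fact.mk Nat.prime_two
  have hKD : K ≤ dOf T L := s.comp_le_dOf hK hKL
  have hQn : pCoreOf 2 L ≤ normalizer (K : Set G) := s.Q_le_normalizer hK hKL
  obtain ⟨hodd, hcom, hidx, -, hW4, -⟩ := hK
  have hQp : IsPGroup 2 ↥(pCoreOf 2 K) := pCoreOf_isPGroup K
  have hev : ∀ W ∈ Ws, ∀ g ∈ K, Ev W g := fun W hW g hg => by
    have h4 := f.card W hW
    rw [← hodd] at hg
    induction hg using closure_induction with
    | mem y hy => exact ev_of_odd h4 (f.stab W hW (hKD hy.1)) hy.2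
    | one => exact Ev.one
    | mul a b _ _ ha hb => exact ha.mul h4 hb
    | inv a _ ha => exact ha.inv h4
  -- `K` is not in `C`
  have hKC : ¬ K ≤ cOf L := by
    intro h
    have hKQ : K ≤ pCoreOf 2 L := le_trans hcom.ge (commutator_le.2 fun k hk j hj => by
      rw [commutatorElement_def]; exact s.comm_cOf (h hk) (J_le_dOf hj))
    have hKp : IsPGroup 2 ↥K := (pCoreOf_isPGroup L).to_le hKQ
    rw [le_antisymm (pCoreOf_le K) (le_pCoreOf le_rfl le_normalizer hKp), relIndex_self] at hidx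
    omega
  -- `O₂(K)` centralizes `V`
  have hQC : pCoreOf 2 K ≤ cOf L := fun x hx => by
    obtain ⟨n, hn⟩ := hQp ⟨x, hx⟩
    refine s.mem_cOf f (hKD (pCoreOf_le K hx)) fun W hW => ?_
    refine centralizes_of_ev_two (f.card W hW) (hev W hW x (pCoreOf_le K hx)) (n := n) ?_
    rw [show x ^ 2 ^ n = 1 by simpa using congrArg Subtype.val hn]
    exact one_mem _
  have hinf : ∀ g ∈ K, g ∈ cOf L → g ∈ pCoreOf 2 L := by
    intro g hg hgC
    have hle : pCoreOf 2 K ≤ K ⊓ cOf L := le_inf (pCoreOf_le K) hQC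
    have hm := relIndex_mul_relIndex (pCoreOf 2 K) _ K hle inf_le_left
    rw [hidx] at hm
    have heq : K ⊓ cOf L = pCoreOf 2 K := by
      rcases (Nat.dvd_prime Nat.prime_three).1 (Dvd.intro _ hm) with h | h
      · exact le_antisymm (relIndex_eq_one.1 h) hle
      · have h1 : (K ⊓ cOf L).relIndex K = 1 := by rw [h] at hm; omega
        exact absurd (fun x hx => (relIndex_eq_one.1 h1 hx).2) hKC
    obtain ⟨n, hn⟩ := hQp ⟨g, heq.le ⟨hg, hgC⟩⟩
    exact s.cOf_two hgC (n := n) (by simpa using congrArg Subtype.val hn)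
  -- a moved four-group is `W_K`
  have hVn : vOf L ≤ normalizer (K : Set G) := vOf_le_Q.trans hQn
  have key : ∀ W ∈ Ws, ∀ k ∈ K, k ∉ centralizer (W : Set G) → W = wOf K := by
    intro W hW k hk hkW
    have hU : ∀ v ∈ W, k * v * k⁻¹ * v⁻¹ ∈ omegaCenterOf (pCoreOf 2 K) := by
      intro v hv
      have hvV := f.le W hW hv
      have hy : k * v * k⁻¹ * v⁻¹ ∈ W :=
        mul_mem ((mem_normalizer_iff.1 (hev W hW k hk).1 v).1 hv) (inv_mem hv)
      have hyK : k * v * k⁻¹ * v⁻¹ ∈ K := by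
        rw [show k * v * k⁻¹ * v⁻¹ = k * (v * k⁻¹ * v⁻¹) by group]
        exact mul_mem hk ((mem_normalizer_iff.1 (hVn hvV) _).1 (inv_mem hk))
      have hyV := f.le W hW hy
      have hle : vOf L ⊓ K ≤ pCoreOf 2 K := by
        refine le_pCoreOf inf_le_right ?_ ((pCoreOf_isPGroup L).to_le (inf_le_left.trans vOf_le_Q))
        intro g hg
        refine mem_normalizer_fintype fun u hu => ?_
        exact ⟨(mem_normalizer_iff.1 (le_normalizer_vOf (hKL hg)) u).1 hu.1,
          (mem_normalizer_iff.1 (le_normalizer hg) u).1 hu.2⟩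
      exact mem_omegaCenter.2 ⟨hle ⟨hyV, hyK⟩,
        fun r hr => ((mem_centralizer_iff.1 (hQC hr).2) _ hyV).symm, vOf_sq hyV⟩
    have hle : W ≤ wOf K := fun w hw => by
      obtain ⟨v, hv, rfl⟩ := four_surj (f.comm hW) (hev W hW k hk) hkW hw
      obtain ⟨u, hu, rfl⟩ := four_surj (f.comm hW) (hev W hW k hk) hkW hv
      show _ ∈ ⁅omegaCenterOf (pCoreOf 2 K), K⁆
      rw [commutator_comm, ← commutatorElement_def]
      exact commutator_mem_commutator hk (hU u hu)
    exact eq_of_le_of_card_ge hle (by rw [hW4, f.card W hW])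
  obtain ⟨W, hW, k, hk, hko, hkW⟩ : ∃ W ∈ Ws, ∃ k ∈ K, Odd (orderOf k) ∧ k ∉ centralizer (W : Set G) := by
    by_contra hcon
    push Not at hcon
    refine hKC ?_
    rw [← hodd]
    exact (closure_le _).2 fun g hg => s.mem_cOf f (hKD hg.1) fun W hW => hcon W hW g hg.1 hg.2
  have hWK := key W hW k hk hkW
  refine ⟨W, hW, hWK.symm, hKD, hev W hW, fun W' hW' hne g hg => ?_, hinf, hQn, hodd, k, hk, hko, hkW⟩
  by_contra hg'
  exact hne ((key W' hW' g hg hg').trans hWK.symm)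

theorem IsCompData.normal_hat_elem {K W : Subgroup G} (f : IsFrame T L Ws) (c : IsCompData T L Ws K W)
    (s : Sit T L) {k : G} (hk : k ∈ K) (hkW : k ∉ centralizer (W : Set G)) :
    K ≤ zpowers k ⊔ pCoreOf 2 L := by
  intro g hg
  have h4 := f.card W c.mem
  have hin : ∀ y ∈ K, y ∈ centralizer (W : Set G) → y ∈ pCoreOf 2 L := fun y hy hyW =>
    c.inf_c y hy (s.mem_cOf f (c.le_d hy) fun W' hW' =>
      if h : W' = W then h ▸ hyW else c.others W' hW' h hy)
  rcases (c.ev k hk).cases h4 hkW (c.ev g hg) with h | h | h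
  · exact mem_sup_right (hin g hg h)
  · rw [show g = k * (k⁻¹ * g) by group]
    exact mul_mem (mem_sup_left (mem_zpowers k)) (mem_sup_right (hin _ (mul_mem (inv_mem hk) hg) h))
  · rw [show g = k⁻¹ * (k * g) by group]
    exact mul_mem (mem_sup_left (inv_mem (mem_zpowers k))) (mem_sup_right (hin _ (mul_mem hk hg) h))

theorem IsCompData.inverted {K W : Subgroup G} (f : IsFrame T L Ws) (c : IsCompData T L Ws K W)
    (s : Sit T L) (hK : IsJComponent T K) {k t : G} (hk : k ∈ K) (ht : t ∈ thompsonSubgroupOf 2 T)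
    (htW : t * t = 1) (htW' : t ∉ centralizer (W : Set G))
    (hto : ∀ W' ∈ Ws, W' ≠ W → t ∈ centralizer (W' : Set G)) :
    t * k * t⁻¹ * k ∈ pCoreOf 2 L := by
  have htD : t ∈ dOf T L := J_le_dOf ht
  have htn := f.stab W c.mem htD
  have h4 := f.card W c.mem
  have htK : t * k * t⁻¹ ∈ K := by
    have hJK : thompsonSubgroupOf 2 T ≤ normalizer (K : Set G) :=
      le_trans (Grp.right_le_normalizer_commutator (thompsonSubgroupOf 2 T) K) (le_of_eq (by rw [hK.2.1]))
    exact (mem_normalizer_iff.1 (hJK ht) k).1 hk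
  have hW : t * k * t⁻¹ * k ∈ centralizer (W : Set G) :=
    (flip h4 (c.ev k hk) htn (not_ev_of_sq h4 htn (by rw [htW]; exact one_mem _) htW')).1
  exact c.inf_c _ (mul_mem htK hk) (s.mem_cOf f (c.le_d (mul_mem htK hk)) fun W' hW' =>
    if h : W' = W then h ▸ hW else
      mul_mem (mul_mem (mul_mem (hto W' hW' h) (c.others W' hW' h hk)) (inv_mem (hto W' hW' h)))
        (c.others W' hW' h hk))

/-- The pairing argument: `D` normalizes the preimage of a component. -/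
theorem Sit.dOf_le_normalizer_hat (s : Sit T L) (f : IsFrame T L Ws) {W : Subgroup G} (hW : W ∈ Ws)
    {k t : G} (hk : k ∈ dOf T L) (hke : Ev W k) (hkW : k ∉ centralizer (W : Set G))
    (hko : ∀ W' ∈ Ws, W' ≠ W → k ∈ centralizer (W' : Set G))
    (ht : t ∈ thompsonSubgroupOf 2 T) (ht2 : t * t = 1) (htW : t ∉ centralizer (W : Set G))
    (hto : ∀ W' ∈ Ws, W' ≠ W → t ∈ centralizer (W' : Set G))
    (hinv : t * k * t⁻¹ * k ∈ pCoreOf 2 L) :
    dOf T L ≤ normalizer ((zpowers k ⊔ pCoreOf 2 L : Subgroup G) : Set G) := by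
  have hDL := s.dOf_le
  have h4 := f.card W hW
  have htD : t ∈ dOf T L := J_le_dOf ht
  have htn := f.stab W hW htD
  have htne : ¬ Ev W t := not_ev_of_sq h4 htn (by rw [ht2]; exact one_mem _) htW
  haveI hQn : ((pCoreOf 2 L).subgroupOf L).Normal := normal_subgroupOf_of_le_normalizer (le_normalizer_pCoreOf L)
  let π := QuotientGroup.mk' ((pCoreOf 2 L).subgroupOf L)
  have hπ : ∀ (x : ↥L), π x = 1 ↔ (x : G) ∈ pCoreOf 2 L := fun x =>
    (QuotientGroup.eq_one_iff x).trans mem_subgroupOf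
  have hevcase : ∀ d ∈ dOf T L, Ev W d → d * k * d⁻¹ ∈ zpowers k ⊔ pCoreOf 2 L := by
    intro d hd hde
    obtain ⟨c, hc⟩ : ∃ c, c = d * k * d⁻¹ * k⁻¹ := ⟨_, rfl⟩
    have hcD : c ∈ dOf T L := hc ▸ mul_mem (mul_mem (mul_mem hd hk) (inv_mem hd)) (inv_mem hk)
    have hcC : c ∈ cOf L := s.mem_cOf f hcD fun W' hW' => by
      by_cases h : W' = W
      · rw [h, hc]; exact hde.comm h4 hke
      · rw [hc]
        refine mul_mem ?_ (inv_mem (hko W' hW' h))
        refine mem_centralizer_iff.2 fun w hw => ?_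
        have hw' := (mem_normalizer_iff''.1 (f.stab W' hW' hd) w).1 hw
        have := mem_centralizer_iff.1 (hko W' hW' h) _ hw'
        calc w * (d * k * d⁻¹) = d * ((d⁻¹ * w * d) * k) * d⁻¹ := by group
          _ = d * (k * (d⁻¹ * w * d)) * d⁻¹ := by rw [this]
          _ = d * k * d⁻¹ * w := by group
    obtain ⟨u, hu⟩ : ∃ u, u = d⁻¹ * (t * d * t⁻¹) := ⟨_, rfl⟩
    have htd : t * d * t⁻¹ ∈ dOf T L := mul_mem (mul_mem htD hd) (inv_mem htD)
    have huD : u ∈ dOf T L := hu ▸ mul_mem (inv_mem hd) htd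
    have hue : Ev W u := by
      rw [hu]
      refine (hde.inv h4).mul h4 ?_
      rw [show t * d * t⁻¹ = (t * d * t⁻¹ * d) * d⁻¹ by group]
      exact (Ev.of_centralizer (flip h4 hde htn htne).1).mul h4 (hde.inv h4)
    have huo : ∀ W' ∈ Ws, W' ≠ W → u ∈ centralizer (W' : Set G) := fun W' hW' h => by
      rw [hu]
      refine mem_centralizer_iff.2 fun w hw => ?_
      have h1 := mem_centralizer_iff.1 (inv_mem (hto W' hW' h)) w hw
      have hdw : d * w * d⁻¹ ∈ W' := (mem_normalizer_iff.1 (f.stab W' hW' hd) w).1 hw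
      have h2 := mem_centralizer_iff.1 (hto W' hW' h) _ hdw
      calc w * (d⁻¹ * (t * d * t⁻¹)) = d⁻¹ * ((d * w * d⁻¹) * t) * d * t⁻¹ := by group
        _ = d⁻¹ * (t * (d * w * d⁻¹)) * d * t⁻¹ := by rw [h2]
        _ = d⁻¹ * t * d * (w * t⁻¹) := by group
        _ = d⁻¹ * t * d * (t⁻¹ * w) := by rw [h1]
        _ = d⁻¹ * (t * d * t⁻¹) * w := by group
    have huk : u * k * u⁻¹ * k⁻¹ ∈ pCoreOf 2 L := by
      have hsplit : ∀ e, e ∈ cOf L → ∀ y ∈ dOf T L, y * k * y⁻¹ * k⁻¹ = 1 →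
          (y * e) * k * (y * e)⁻¹ * k⁻¹ ∈ pCoreOf 2 L := by
        intro e he y hy h1
        rw [show (y * e) * k * (y * e)⁻¹ * k⁻¹ =
          (y * (e * k * e⁻¹ * k⁻¹) * y⁻¹) * (y * k * y⁻¹ * k⁻¹) by group, h1, mul_one]
        exact (mem_normalizer_iff.1 (le_normalizer_pCoreOf L (hDL hy)) _).1 (s.comm_cOf he hk)
      have hmem : ∀ y ∈ dOf T L, y ∈ centralizer (W : Set G) →
          (∀ W' ∈ Ws, W' ≠ W → y ∈ centralizer (W' : Set G)) → y ∈ cOf L :=
        fun y hy hyW hyo => s.mem_cOf f hy fun W' hW' =>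
          if h : W' = W then h ▸ hyW else hyo W' hW' h
      rcases hke.cases h4 hkW hue with h | h | h
      · exact s.comm_cOf (hmem u huD h huo) hk
      · have := hsplit _ (hmem _ (mul_mem (inv_mem hk) huD) h fun W' hW' h' =>
          mul_mem (inv_mem (hko W' hW' h')) (huo W' hW' h')) k hk (by group)
        rwa [show k * (k⁻¹ * u) = u by group] at this
      · have := hsplit _ (hmem _ (mul_mem hk huD) h fun W' hW' h' =>
          mul_mem (hko W' hW' h') (huo W' hW' h')) k⁻¹ (inv_mem hk) (by group)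
        rwa [show k⁻¹ * (k * u) = u by group] at this
    -- in the quotient by `O₂(L)`
    let t' : ↥L := ⟨t, hDL htD⟩
    let k' : ↥L := ⟨k, hDL hk⟩
    let d' : ↥L := ⟨d, hDL hd⟩
    let c' : ↥L := ⟨c, hDL hcD⟩
    let u' : ↥L := ⟨u, hDL huD⟩
    have e1 : π t' * π k' * (π t')⁻¹ = (π k')⁻¹ := by
      rw [eq_inv_iff_mul_eq_one]
      simp only [← map_inv, ← map_mul]
      exact (hπ _).2 hinv
    have e2 : π d' * π k' * (π d')⁻¹ = π c' * π k' := by
      simp only [← map_inv, ← map_mul]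
      exact congrArg π (Subtype.ext (show d * k * d⁻¹ = c * k by rw [hc]; group))
    have e3 : π c' * π k' = π k' * π c' := by
      rw [← mul_inv_eq_iff_eq_mul, ← mul_inv_eq_one]
      simp only [← map_inv, ← map_mul]
      exact (hπ _).2 (s.comm_cOf hcC hk)
    have e4 : π c' * π t' = π t' * π c' := by
      rw [← mul_inv_eq_iff_eq_mul, ← mul_inv_eq_one]
      simp only [← map_inv, ← map_mul]
      exact (hπ _).2 (s.comm_cOf hcC htD)
    have e5 : π u' * π k' * (π u')⁻¹ = π k' := by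
      rw [← mul_inv_eq_one]
      simp only [← map_inv, ← map_mul]
      exact (hπ _).2 huk
    have e6 : π t' * π d' * (π t')⁻¹ = π d' * π u' := by
      simp only [← map_inv, ← map_mul]
      exact congrArg π (Subtype.ext (show t * d * t⁻¹ = d * u by rw [hu]; group))
    have hsq : π c' * π c' = 1 := by
      have h1 : π t' * (π d' * π k' * (π d')⁻¹) * (π t')⁻¹ = π c' * (π k')⁻¹ := by
        rw [e2]
        calc π t' * (π c' * π k') * (π t')⁻¹ = π c' * (π t' * π k' * (π t')⁻¹) := by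
              rw [← mul_assoc (π t'), ← e4]; group
          _ = π c' * (π k')⁻¹ := by rw [e1]
      have h2 : π t' * (π d' * π k' * (π d')⁻¹) * (π t')⁻¹ = (π k')⁻¹ * (π c')⁻¹ := by
        calc π t' * (π d' * π k' * (π d')⁻¹) * (π t')⁻¹
            = (π t' * π d' * (π t')⁻¹) * (π t' * π k' * (π t')⁻¹) * (π t' * π d' * (π t')⁻¹)⁻¹ := by group
          _ = (π d' * π u') * (π k')⁻¹ * (π d' * π u')⁻¹ := by rw [e1, e6]
          _ = π d' * (π u' * π k' * (π u')⁻¹)⁻¹ * (π d')⁻¹ := by group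
          _ = (π d' * π k' * (π d')⁻¹)⁻¹ := by rw [e5]; group
          _ = (π k')⁻¹ * (π c')⁻¹ := by rw [e2]; group
      have h3 := h1.symm.trans h2
      have h4 : (π k')⁻¹ * (π c')⁻¹ = (π c')⁻¹ * (π k')⁻¹ := by rw [← mul_inv_rev, ← mul_inv_rev, e3]
      rw [h4, mul_left_inj] at h3
      exact mul_eq_one_iff_eq_inv.2 h3
    have hcQ : c ∈ pCoreOf 2 L := by
      have h2 : c * c ∈ pCoreOf 2 L := (hπ (c' * c')).1 (by rw [map_mul]; exact hsq)
      obtain ⟨n, hn⟩ := pCoreOf_isPGroup L ⟨c * c, h2⟩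
      refine s.cOf_two hcC (n := n + 1) ?_
      rw [pow_succ', pow_mul, pow_two]
      simpa using congrArg Subtype.val hn
    rw [show d * k * d⁻¹ = c * k by rw [hc]; group]
    exact mul_mem (mem_sup_right hcQ) (mem_sup_left (mem_zpowers k))
  -- conjugation of the whole preimage
  have hclose : ∀ d ∈ dOf T L, d * k * d⁻¹ ∈ zpowers k ⊔ pCoreOf 2 L →
      ∀ y ∈ zpowers k ⊔ pCoreOf 2 L, d * y * d⁻¹ ∈ zpowers k ⊔ pCoreOf 2 L := by
    intro d hd h y hy
    have hle : zpowers k ⊔ pCoreOf 2 L ≤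
        (zpowers k ⊔ pCoreOf 2 L).comap (MulAut.conj d).toMonoidHom :=
      sup_le (zpowers_le.2 h) fun q hq =>
        mem_sup_right ((mem_normalizer_iff.1 (le_normalizer_pCoreOf L (hDL hd)) q).1 hq)
    exact hle hy
  intro d hd
  refine mem_normalizer_fintype fun y hy => ?_
  by_cases hde : Ev W d
  · exact hclose d hd (hevcase d hd hde) y hy
  · have hdt : Ev W (d * t) := (odd_odd h4 (f.stab W hW hd) hde htn htne).1
    have hinvk : t⁻¹ * k * t ∈ zpowers k ⊔ pCoreOf 2 L := by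
      rw [inv_eq_of_mul_eq_one_right ht2, show t * k * t = (t * k * t⁻¹ * k) * k⁻¹ by
        rw [inv_eq_of_mul_eq_one_right ht2]; group]
      exact mul_mem (mem_sup_right hinv) (mem_sup_left (inv_mem (mem_zpowers k)))
    refine hclose d hd ?_ y hy
    have h2 := hclose (d * t) (mul_mem hd htD) (hevcase _ (mul_mem hd htD) hdt) _ hinvk
    rwa [show d * t * (t⁻¹ * k * t) * (d * t)⁻¹ = d * k * d⁻¹ by group] at h2

theorem IsCompData.dOf_le_normalizer {K W : Subgroup G} (f : IsFrame T L Ws) (c : IsCompData T L Ws K W)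
    (s : Sit T L) (hK : IsJComponent T K) : dOf T L ≤ normalizer (K : Set G) := by
  obtain ⟨k, hk, -, hkW⟩ := c.exists_odd
  obtain ⟨t, ht, ht2, htW, hto⟩ := f.iso W c.mem
  have hn := s.dOf_le_normalizer_hat f c.mem (c.le_d hk) (c.ev k hk) hkW
    (fun W' hW' h => c.others W' hW' h hk) ht ht2 htW hto (c.inverted f s hK hk ht ht2 htW hto)
  intro d hd
  refine mem_normalizer_fintype fun y hy => ?_
  have hle : K.map (MulAut.conj d).toMonoidHom ≤ K := by
    conv_lhs => rw [← c.odd_gen]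
    rw [MonoidHom.map_closure]
    refine (closure_le _).2 ?_
    rintro _ ⟨g, ⟨hgK, hgo⟩, rfl⟩
    have h1 : d * g * d⁻¹ ∈ zpowers k ⊔ pCoreOf 2 L :=
      (mem_normalizer_iff.1 (hn hd) g).1 (c.normal_hat_elem f s hk hkW hgK)
    exact mem_of_odd_sup (pCoreOf_isPGroup L) c.qnorm
      ((sup_le_sup (zpowers_le.2 hk) le_rfl : zpowers k ⊔ pCoreOf 2 L ≤ K ⊔ pCoreOf 2 L) h1)
      (odd_orderOf_conj hgo)
  exact hle ⟨y, hy, rfl⟩

/-- A component is determined by its four-group. -/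
theorem IsCompData.unique {K K' W : Subgroup G} (f : IsFrame T L Ws) (c : IsCompData T L Ws K W)
    (c' : IsCompData T L Ws K' W) (s : Sit T L) (hK : IsJComponent T K) (hK' : IsJComponent T K') :
    K' ≤ K := by
  obtain ⟨k, hk, -, hkW⟩ := c.exists_odd
  obtain ⟨t, ht, ht2, htW, hto⟩ := f.iso W c.mem
  have htD : t ∈ dOf T L := J_le_dOf ht
  have h4 := f.card W c.mem
  rw [← c'.odd_gen]
  refine (closure_le _).2 ?_
  rintro g ⟨hg, hgo⟩
  refine mem_of_odd_sup (pCoreOf_isPGroup L) c.qnorm ?_ hgo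
  have hC : ∀ y ∈ dOf T L, y ∈ centralizer (W : Set G) →
      (∀ W' ∈ Ws, W' ≠ W → y ∈ centralizer (W' : Set G)) → y ∈ cOf L :=
    fun y hy hyW hyo => s.mem_cOf f hy fun W' hW' => if h : W' = W then h ▸ hyW else hyo W' hW' h
  -- a power of `k` times `g` is inverted modulo `O₂(L)` and central
  have key : ∀ y ∈ K, t * y * t⁻¹ * y ∈ pCoreOf 2 L → y⁻¹ * g ∈ cOf L → g ∈ K ⊔ pCoreOf 2 L := by
    intro y hy hyt hcC
    obtain ⟨z, hz⟩ : ∃ z, z = y⁻¹ * g := ⟨_, rfl⟩
    rw [← hz] at hcC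
    have hDL := s.dOf_le
    haveI hQn : ((pCoreOf 2 L).subgroupOf L).Normal :=
      normal_subgroupOf_of_le_normalizer (le_normalizer_pCoreOf L)
    let π := QuotientGroup.mk' ((pCoreOf 2 L).subgroupOf L)
    have hπ : ∀ (x : ↥L), π x = 1 ↔ (x : G) ∈ pCoreOf 2 L := fun x =>
      (QuotientGroup.eq_one_iff x).trans mem_subgroupOf
    let t' : ↥L := ⟨t, hDL htD⟩
    let y' : ↥L := ⟨y, hDL (c.le_d hy)⟩
    let z' : ↥L := ⟨z, hcC.1⟩
    have e1 : π t' * π y' * (π t')⁻¹ = (π y')⁻¹ := by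
      rw [eq_inv_iff_mul_eq_one]
      simp only [← map_inv, ← map_mul]
      exact (hπ _).2 hyt
    have e3 : π z' * π y' = π y' * π z' := by
      rw [← mul_inv_eq_iff_eq_mul, ← mul_inv_eq_one]
      simp only [← map_inv, ← map_mul]
      exact (hπ _).2 (s.comm_cOf hcC (c.le_d hy))
    have e4 : π z' * π t' = π t' * π z' := by
      rw [← mul_inv_eq_iff_eq_mul, ← mul_inv_eq_one]
      simp only [← map_inv, ← map_mul]
      exact (hπ _).2 (s.comm_cOf hcC htD)
    have e5 : π t' * (π y' * π z') * (π t')⁻¹ * (π y' * π z') = 1 := by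
      simp only [← map_inv, ← map_mul]
      refine (hπ _).2 ?_
      show t * (y * z) * t⁻¹ * (y * z) ∈ _
      rw [hz, mul_inv_cancel_left]
      exact c'.inverted f s hK' hg ht ht2 htW hto
    have hsq : π z' * π z' = 1 := by
      calc π z' * π z' = (π y')⁻¹ * π z' * (π y' * π z') := by
            rw [← mul_assoc, mul_assoc (π y')⁻¹ (π z'), e3]; group
        _ = (π t' * π y' * (π t')⁻¹) * (π t' * π z' * (π t')⁻¹) * (π y' * π z') := by
            rw [e1, ← e4]; group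
        _ = π t' * (π y' * π z') * (π t')⁻¹ * (π y' * π z') := by group
        _ = 1 := e5
    have hzQ : z ∈ pCoreOf 2 L := by
      have h2 : z * z ∈ pCoreOf 2 L := (hπ (z' * z')).1 (by rw [map_mul]; exact hsq)
      obtain ⟨n, hn⟩ := pCoreOf_isPGroup L ⟨z * z, h2⟩
      refine s.cOf_two hcC (n := n + 1) ?_
      rw [pow_succ', pow_mul, pow_two]
      simpa using congrArg Subtype.val hn
    rw [show g = y * z by rw [hz]; group]
    exact mul_mem (mem_sup_left hy) (mem_sup_right hzQ)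
  rcases (c.ev k hk).cases h4 hkW (c'.ev g hg) with h | h | h
  · exact mem_sup_right (c'.inf_c g hg (hC g (c'.le_d hg) h fun W' hW' h' => c'.others W' hW' h' hg))
  · exact key k hk (c.inverted f s hK hk ht ht2 htW hto) (hC _ (mul_mem (inv_mem (c.le_d hk)) (c'.le_d hg)) h
      fun W' hW' h' => mul_mem (inv_mem (c.others W' hW' h' hk)) (c'.others W' hW' h' hg))
  · refine key k⁻¹ (inv_mem hk) (c.inverted f s hK (inv_mem hk) ht ht2 htW hto) ?_
    rw [inv_inv]
    exact hC _ (mul_mem (c.le_d hk) (c'.le_d hg)) h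
      fun W' hW' h' => mul_mem (c.others W' hW' h' hk) (c'.others W' hW' h' hg)

/-- The components in `L` with a common nontrivial element in their four-groups coincide. -/
theorem Sit.comp_eq (s : Sit T L) {K K' : Subgroup G} (hK : IsJComponent T K) (hKL : K ≤ L)
    (hK' : IsJComponent T K') (hK'L : K' ≤ L) {w : G} (hw : w ∈ wOf K) (hw' : w ∈ wOf K') (hw1 : w ≠ 1) :
    K = K' := by
  obtain ⟨Ws, f⟩ := s.exists_frame
  obtain ⟨W, c⟩ := s.compData f hK hKL
  obtain ⟨W', c'⟩ := s.compData f hK' hK'L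
  have h : W = W' := f.eq_of_mem c.mem c'.mem (c.w_eq ▸ hw) (c'.w_eq ▸ hw') hw1
  subst h
  exact le_antisymm (c'.unique f c s hK' hK) (c.unique f c' s hK hK')

theorem Sit.comp_normal (s : Sit T L) {K : Subgroup G} (hK : IsJComponent T K) (hKL : K ≤ L) :
    dOf T L ≤ normalizer (K : Set G) := by
  obtain ⟨Ws, f⟩ := s.exists_frame
  obtain ⟨W, c⟩ := s.compData f hK hKL
  exact c.dOf_le_normalizer f s hK

/-- The conjugates of a component are components. -/
theorem Sit.comp_conj (s : Sit T L) {K : Subgroup G} (hK : IsJComponent T K) (hKL : K ≤ L) {x : G}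
    (hx : x ∈ L) :
    IsJComponent T (K.map (MulAut.conj x).toMonoidHom) ∧ K.map (MulAut.conj x).toMonoidHom ≤ L := by
  obtain ⟨d, hd, y, hy, hyJ, rfl⟩ := s.frattini hx
  have h1 : IsJComponent T (K.map (MulAut.conj y).toMonoidHom) :=
    isJComponent_congr (by rw [thompson_map _ (MulAut.conj y).injective, map_conj_eq_self hyJ])
      (isJComponent_map_conj y hK)
  have h2 : K.map (MulAut.conj y).toMonoidHom ≤ L :=
    (map_mono hKL).trans (map_conj_eq_self (le_normalizer hy)).le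
  rw [← map_conj_conj, map_conj_eq_self (s.comp_normal h1 h2 hd)]
  exact ⟨h1, h2⟩

end

end Cfsg.Agent.Invol.JComp
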