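import Cfsg.Agent.Lib.Invol.JCompComponent

/-!
Existence of a `J(T)`-component for every four-group of the frame of an overgroup `L`.
-/

set_option autoImplicit false

open scoped commutatorElement Classical

namespace Cfsg.Agent.Invol.JComp

open Subgroup

variable {G : Type*} [Group G] [Finite G]

/-- The counting with a best offender: an abelian `2`-group `Y` moved without fixed points by `k`, with an
element `a` inverting `k` and a subgroup `A₀` of index two commuting with `k`, has order at most four. -/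
theorem card_le_four {R Y A A₀ : Subgroup G} {a k : G} (hY : Y ≤ R)
    (hYc : ∀ x ∈ Y, ∀ y ∈ Y, x * y = y * x) (hYs : ∀ y ∈ Y, y * y = 1)
    (hA : IsMaxEl 2 R A) (haA : a ∈ A) (hA₀ : A₀ ≤ A) (hidx : Nat.card ↥A ≤ 2 * Nat.card ↥A₀)
    (hAn : A ≤ normalizer (Y : Set G)) (hkn : k ∈ normalizer (Y : Set G))
    (hfpf : ∀ y ∈ Y, k * y * k⁻¹ = y → y = 1) (hk3 : k ^ 3 = 1)
    (hinv : ∀ y ∈ Y, a * (k * y * k⁻¹) * a⁻¹ = k⁻¹ * (a * y * a⁻¹) * k)
    (hcomm : ∀ e ∈ A₀, ∀ y ∈ Y, e * (k * y * k⁻¹) * e⁻¹ = k * (e * y * e⁻¹) * k⁻¹) :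
    Nat.card ↥Y ≤ 4 := by
  obtain ⟨F, hF⟩ : ∃ F, F = Y ⊓ centralizer ({a} : Set G) := ⟨_, rfl⟩
  have haa : a * a = 1 := by rw [← pow_two]; exact hA.2.1.2 a haA
  have hFmem : ∀ y, y ∈ F ↔ y ∈ Y ∧ a * y * a⁻¹ = y := fun y => by
    rw [hF, mem_inf, mem_centralizer_iff]
    refine and_congr_right fun _ => ⟨fun h => ?_, fun h g hg => ?_⟩
    · rw [h a rfl, mul_inv_cancel_right]
    · rw [Set.mem_singleton_iff.1 hg]; exact mul_inv_eq_iff_eq_mul.1 h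
  have hYn : ∀ g ∈ A, ∀ y ∈ Y, g * y * g⁻¹ ∈ Y := fun g hg y hy => (mem_normalizer_iff.1 (hAn hg) y).1 hy
  have hkY : ∀ y ∈ Y, k * y * k⁻¹ ∈ Y := fun y hy => (mem_normalizer_iff.1 hkn y).1 hy
  -- `|Y| ≤ |F|²`
  have hsq : Nat.card ↥Y ≤ Nat.card ↥F * Nat.card ↥F := by
    let θ : ↥Y →* ↥Y :=
      { toFun := fun y => ⟨a * y * a⁻¹ * y, mul_mem (hYn a haA y y.2) y.2⟩
        map_one' := Subtype.ext (by simp)
        map_mul' := fun y z => Subtype.ext (by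
          show a * (y * z : G) * a⁻¹ * (y * z) = (a * y * a⁻¹ * y) * (a * z * a⁻¹ * z)
          have h := hYc _ (hYn a haA z z.2) _ y.2
          calc a * (y * z : G) * a⁻¹ * (y * z) = (a * y * a⁻¹) * ((a * z * a⁻¹) * y) * z := by group
            _ = (a * y * a⁻¹) * ((y : G) * (a * z * a⁻¹)) * z := by rw [h]
            _ = (a * y * a⁻¹ * y) * (a * z * a⁻¹ * z) := by group) }
    have hker : θ.ker.map Y.subtype ≤ F := by
      rintro _ ⟨y, hy, rfl⟩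
      refine (hFmem _).2 ⟨y.2, ?_⟩
      show a * (y : G) * a⁻¹ = y
      have h : a * y * a⁻¹ * (y : G) = 1 := congrArg Subtype.val hy
      rw [mul_eq_one_iff_eq_inv.1 h]
      exact inv_eq_of_mul_eq_one_right (hYs y y.2)
    have hrange : θ.range.map Y.subtype ≤ F := by
      rintro _ ⟨_, ⟨y, rfl⟩, rfl⟩
      refine (hFmem _).2 ⟨(θ y).2, ?_⟩
      show a * (a * y * a⁻¹ * y) * a⁻¹ = a * y * a⁻¹ * y
      have h := hYc _ y.2 _ (hYn a haA y y.2)
      calc a * (a * y * a⁻¹ * y) * a⁻¹ = (a * a) * y * (a * a)⁻¹ * (a * y * a⁻¹) := by group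
        _ = (y : G) * (a * y * a⁻¹) := by rw [haa]; group
        _ = a * y * a⁻¹ * y := h
    have h1 := θ.ker.card_mul_index
    rw [index_ker] at h1
    rw [← h1]
    refine Nat.mul_le_mul ?_ ?_
    · rw [← card_map_of_injective Y.subtype_injective]; exact card_le_of_le hker
    · rw [← card_map_of_injective Y.subtype_injective]; exact card_le_of_le hrange
  -- `F` and its conjugate under `k` are independent
  have hindep : ∀ v ∈ F, ∀ w ∈ F, v = k * w * k⁻¹ → w = 1 := by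
    intro v hv w hw he
    obtain ⟨hwY, haw⟩ := (hFmem w).1 hw
    have h1 := ((hFmem v).1 hv).2
    rw [he, hinv w hwY, haw] at h1
    refine hfpf w hwY ?_
    have h2 : k * (k * w * k⁻¹) * k⁻¹ = w := by
      rw [← h1]; group
    calc k * w * k⁻¹ = k * (k * (k * w * k⁻¹) * k⁻¹) * k⁻¹ := by rw [h2]
      _ = (k * k * k) * w * (k * k * k)⁻¹ := by group
      _ = w := by rw [show k * k * k = 1 by rw [← hk3, pow_succ, pow_two]]; group
  -- the bound for subgroups commuting with `k`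
  have key : ∀ E : Subgroup G, E ≤ A₀ → ∀ P : Subgroup G, P ≤ F →
      (∀ e ∈ E, ∀ v ∈ P, e * v * e⁻¹ = v) →
      Nat.card ↥P * Nat.card ↥P * Nat.card ↥E ≤
        Nat.card ↥A * Nat.card ↥(Y ⊓ centralizer (A : Set G)) := by
    intro E hE P hP hfix
    have hEA : E ≤ A := hE.trans hA₀
    obtain ⟨Z, hZ⟩ : ∃ Z, Z = Y ⊓ centralizer (E : Set G) := ⟨_, rfl⟩
    have hP2 : Nat.card ↥P * Nat.card ↥P ≤ Nat.card ↥Z := by
      rw [← Nat.card_prod]
      refine Nat.card_le_card_of_injective (fun p : ↥P × ↥P =>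
        (⟨(p.1 : G) * (k * p.2 * k⁻¹), hZ ▸ ⟨mul_mem ((hFmem _).1 (hP p.1.2)).1
          (hkY _ ((hFmem _).1 (hP p.2.2)).1), mem_centralizer_iff.2 fun e he => ?_⟩⟩ : ↥Z)) ?_
      · refine mul_inv_eq_iff_eq_mul.1 ?_
        calc e * ((p.1 : G) * (k * p.2 * k⁻¹)) * e⁻¹ =
            (e * p.1 * e⁻¹) * (e * (k * p.2 * k⁻¹) * e⁻¹) := by group
          _ = (p.1 : G) * (k * p.2 * k⁻¹) := by
            rw [hfix e he _ p.1.2, hcomm e (hE he) _ ((hFmem _).1 (hP p.2.2)).1, hfix e he _ p.2.2]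
      · rintro ⟨v, w⟩ ⟨v', w'⟩ h
        have h' : (v : G) * (k * w * k⁻¹) = (v' : G) * (k * w' * k⁻¹) := congrArg Subtype.val h
        have h1 : (v' : G)⁻¹ * v = k * ((w' : G) * (w : G)⁻¹) * k⁻¹ := by
          calc (v' : G)⁻¹ * v = (v' : G)⁻¹ * ((v : G) * (k * w * k⁻¹)) * (k * w * k⁻¹)⁻¹ := by group
            _ = _ := by rw [h']; group
        have h2 := hindep _ (mul_mem (inv_mem (hP v'.2)) (hP v.2)) _
          (mul_mem (hP w'.2) (inv_mem (hP w.2))) h1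
        rw [h2, mul_one, mul_inv_cancel, inv_mul_eq_one] at h1
        exact Prod.ext (Subtype.ext h1.symm) (Subtype.ext (mul_inv_eq_one.1 h2).symm)
    have hEZ : E ≤ centralizer (Z : Set G) := fun e he => mem_centralizer_iff.2 fun z hz =>
      ((mem_centralizer_iff.1 (hZ ▸ hz : z ∈ Y ⊓ centralizer (E : Set G)).2) e he).symm
    have hN : E ≤ normalizer (Z : Set G) := hEZ.trans (centralizer_le_normalizer _)
    have hel : (∀ x ∈ E ⊔ Z, ∀ y ∈ E ⊔ Z, x * y = y * x) ∧ ∀ x ∈ E ⊔ Z, x ^ 2 = 1 := by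
      have hm : ∀ x ∈ E ⊔ Z, ∃ b ∈ E, ∃ f ∈ Z, b * f = x := fun x hx => by
        rwa [← SetLike.mem_coe, coe_mul_of_left_le_normalizer_right _ _ hN] at hx
      have hbf : ∀ b ∈ E, ∀ f ∈ Z, Commute b f := fun b hb f hf =>
        (mem_centralizer_iff.1 (hEZ hb) f hf).symm
      refine ⟨fun x hx y hy => ?_, fun x hx => ?_⟩
      · obtain ⟨u, hu, w, hw, rfl⟩ := hm x hx
        obtain ⟨u', hu', w', hw', rfl⟩ := hm y hy
        have h1 : Commute u u' := hA.2.1.1 u (hEA hu) u' (hEA hu')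
        have h4 : Commute w w' := hYc w (hZ.le hw).1 w' (hZ.le hw').1
        exact ((h1.mul_right (hbf u hu w' hw')).mul_left ((hbf u' hu' w hw).symm.mul_right h4)).eq
      · obtain ⟨u, hu, w, hw, rfl⟩ := hm x hx
        rw [(hbf u hu w hw).mul_pow, hA.2.1.2 u (hEA hu), pow_two, hYs w (hZ.le hw).1, one_mul]
    have hsm := Grp.card_sup_mul_card_inf hN
    have h1 : Nat.card ↥(E ⊔ Z) ≤ Nat.card ↥A :=
      hA.2.2 _ (sup_le (hEA.trans hA.1) (hZ ▸ inf_le_left.trans hY)) hel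
    have h2 : Nat.card ↥(E ⊓ Z) ≤ Nat.card ↥(Y ⊓ centralizer (A : Set G)) :=
      card_le_of_le fun x hx => ⟨(hZ.le hx.2).1, mem_centralizer_iff.2 fun g hg =>
        hA.2.1.1 g hg x (hEA hx.1)⟩
    calc Nat.card ↥P * Nat.card ↥P * Nat.card ↥E ≤ Nat.card ↥Z * Nat.card ↥E := Nat.mul_le_mul_right _ hP2
      _ = Nat.card ↥(E ⊔ Z) * Nat.card ↥(E ⊓ Z) := by rw [hsm, mul_comm]
      _ ≤ _ := Nat.mul_le_mul h1 h2
  -- the fixed points of `A`
  obtain ⟨F₀, hF₀⟩ : ∃ F₀, F₀ = Y ⊓ centralizer (A : Set G) := ⟨_, rfl⟩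
  have hF₀F : F₀ ≤ F := fun y hy => by
    rw [hF₀] at hy
    exact (hFmem y).2 ⟨hy.1, by rw [mem_centralizer_iff.1 hy.2 a haA, mul_inv_cancel_right]⟩
  have hA0pos : 0 < Nat.card ↥A₀ := Nat.card_pos
  have h0 : Nat.card ↥F₀ ≤ 2 := by
    have h := key A₀ le_rfl F₀ hF₀F fun e he v hv => by
      rw [hF₀] at hv
      rw [mem_centralizer_iff.1 hv.2 e (hA₀ he), mul_inv_cancel_right]
    rw [← hF₀] at h
    have h' := h.trans (Nat.mul_le_mul_right _ hidx)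
    by_contra hlt
    have h3 : 3 * Nat.card ↥F₀ ≤ Nat.card ↥F₀ * Nat.card ↥F₀ := Nat.mul_le_mul_right _ (by omega)
    have h4 := Nat.mul_le_mul_right (Nat.card ↥A₀) h3
    have h5 : 0 < Nat.card ↥F₀ * Nat.card ↥A₀ := Nat.mul_pos Nat.card_pos hA0pos
    linarith
  -- no further element of `F`
  by_cases hFF : F ≤ F₀
  · calc Nat.card ↥Y ≤ Nat.card ↥F * Nat.card ↥F := hsq
      _ ≤ 2 * 2 := Nat.mul_le_mul ((card_le_of_le hFF).trans h0) ((card_le_of_le hFF).trans h0)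
  exfalso
  have hFn : ∀ e ∈ A, ∀ y ∈ F, e * y * e⁻¹ ∈ F := by
    intro e he y hy
    obtain ⟨hyY, hay⟩ := (hFmem y).1 hy
    refine (hFmem _).2 ⟨hYn e he y hyY, ?_⟩
    have hc : a * e = e * a := hA.2.1.1 a haA e he
    calc a * (e * y * e⁻¹) * a⁻¹ = (a * e) * y * (a * e)⁻¹ := by group
      _ = e * (a * y * a⁻¹) * e⁻¹ := by rw [hc]; group
      _ = e * y * e⁻¹ := by rw [hay]
  let θ : G → G → G := fun e y => e * y * e⁻¹ * y
  have hθF : ∀ e ∈ A, ∀ y ∈ F, θ e y ∈ F := fun e he y hy => mul_mem (hFn e he y hy) hy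
  have hθ0 : ∀ e ∈ A, ∀ y ∈ F₀, θ e y = 1 := fun e he y hy => by
    rw [hF₀] at hy
    show e * y * e⁻¹ * y = 1
    rw [mem_centralizer_iff.1 hy.2 e he, mul_inv_cancel_right, hYs y hy.1]
  have hθθ : ∀ e ∈ A, ∀ y ∈ F, θ e (θ e y) = 1 := fun e he y hy => by
    have hee : e * e = 1 := by rw [← pow_two]; exact hA.2.1.2 e he
    show e * (e * y * e⁻¹ * y) * e⁻¹ * (e * y * e⁻¹ * y) = 1
    have h := hYc _ ((hFmem y).1 hy).1 _ (hYn e he y ((hFmem y).1 hy).1)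
    calc e * (e * y * e⁻¹ * y) * e⁻¹ * (e * y * e⁻¹ * y) =
        (e * e) * y * (e * e)⁻¹ * (e * y * e⁻¹) * (e * y * e⁻¹ * y) := by group
      _ = (y * (e * y * e⁻¹)) * (e * y * e⁻¹ * y) := by rw [hee]; group
      _ = (e * y * e⁻¹ * y) * (e * y * e⁻¹ * y) := by rw [h]
      _ = 1 := hYs _ ((hFmem _).1 (hθF e he y hy)).1
  have hθc : ∀ e ∈ A, ∀ f ∈ A, ∀ y ∈ F, θ e (θ f y) = θ f (θ e y) := fun e he f hf y hy => by
    have hef : e * f = f * e := hA.2.1.1 e he f hf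
    show e * (f * y * f⁻¹ * y) * e⁻¹ * (f * y * f⁻¹ * y) = f * (e * y * e⁻¹ * y) * f⁻¹ * (e * y * e⁻¹ * y)
    have hy' := ((hFmem y).1 hy).1
    have h1 : (e * y * e⁻¹) * (f * y * f⁻¹) = (f * y * f⁻¹) * (e * y * e⁻¹) :=
      hYc _ (hYn e he y hy') _ (hYn f hf y hy')
    calc e * (f * y * f⁻¹ * y) * e⁻¹ * (f * y * f⁻¹ * y)
        = ((e * f) * y * (e * f)⁻¹) * ((e * y * e⁻¹) * (f * y * f⁻¹)) * y := by group
      _ = ((f * e) * y * (f * e)⁻¹) * ((f * y * f⁻¹) * (e * y * e⁻¹)) * y := by rw [hef, h1]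
      _ = _ := by group
  have hθm : ∀ e ∈ A, ∀ f ∈ A, ∀ y ∈ F, θ (e * f) y = θ e (θ f y) * (θ e y * θ f y) := fun e he f hf y hy => by
    have hy' := ((hFmem y).1 hy).1
    show e * f * y * (e * f)⁻¹ * y =
      e * (f * y * f⁻¹ * y) * e⁻¹ * (f * y * f⁻¹ * y) * ((e * y * e⁻¹ * y) * (f * y * f⁻¹ * y))
    have h1 : (f * y * f⁻¹ * y) * (e * y * e⁻¹ * y) = (e * y * e⁻¹ * y) * (f * y * f⁻¹ * y) :=
      hYc _ ((hFmem _).1 (hθF f hf y hy)).1 _ ((hFmem _).1 (hθF e he y hy)).1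
    calc e * f * y * (e * f)⁻¹ * y
        = e * f * y * (e * f)⁻¹ * ((e * y * e⁻¹) * (e * y * e⁻¹)) * y := by
          rw [hYs _ (hYn e he y hy'), mul_one]
      _ = e * (f * y * f⁻¹ * y) * e⁻¹ * ((e * y * e⁻¹ * y) * 1) := by group
      _ = e * (f * y * f⁻¹ * y) * e⁻¹ * ((e * y * e⁻¹ * y) *
            ((f * y * f⁻¹ * y) * (f * y * f⁻¹ * y))) := by rw [hYs _ ((hFmem _).1 (hθF f hf y hy)).1]
      _ = e * (f * y * f⁻¹ * y) * e⁻¹ * (((e * y * e⁻¹ * y) * (f * y * f⁻¹ * y)) * (f * y * f⁻¹ * y)) := by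
          rw [mul_assoc (e * y * e⁻¹ * y)]
      _ = e * (f * y * f⁻¹ * y) * e⁻¹ * (((f * y * f⁻¹ * y) * (e * y * e⁻¹ * y)) * (f * y * f⁻¹ * y)) := by
          rw [h1]
      _ = _ := by group
  -- `F₀` is not trivial
  have hF₀2 : 2 ≤ Nat.card ↥F₀ := by
    obtain ⟨x, hxF, hx0⟩ := SetLike.not_le_iff_exists.1 hFF
    obtain ⟨y, ⟨hyF, hy1⟩, hymax⟩ := Set.exists_max_image {y : G | y ∈ F ∧ y ≠ 1}
      (fun y => {e : G | e ∈ A ∧ θ e y = 1}.ncard) (Set.toFinite _) ⟨x, hxF, fun e => hx0 (e ▸ one_mem _)⟩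
    have hyA : ∀ e ∈ A, θ e y = 1 := by
      intro e he
      by_contra hne
      have h := hymax _ ⟨hθF e he y hyF, hne⟩
      have hlt : {g : G | g ∈ A ∧ θ g y = 1}.ncard < {g : G | g ∈ A ∧ θ g (θ e y) = 1}.ncard := by
        refine Set.ncard_lt_ncard ⟨?_, ?_⟩ (Set.toFinite _)
        · rintro g ⟨hg, hg'⟩
          exact ⟨hg, by rw [hθc g hg e he y hyF, hg', hθ0 e he 1 (one_mem _)]⟩
        · intro hsub
          exact hne (hsub ⟨he, hθθ e he y hyF⟩).2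
      omega
    have hy0 : y ∈ F₀ := by
      rw [hF₀]
      refine ⟨((hFmem y).1 hyF).1, mem_centralizer_iff.2 fun e he => mul_inv_eq_iff_eq_mul.1 ?_⟩
      rw [mul_eq_one_iff_eq_inv.1 (hyA e he), inv_eq_of_mul_eq_one_right (hYs y ((hFmem y).1 hyF).1)]
    haveI : Nontrivial ↥F₀ := ⟨⟨⟨y, hy0⟩, 1, fun e => hy1 (congrArg Subtype.val e)⟩⟩
    exact Finite.one_lt_card
  -- pick `w` fixed modulo `F₀`
  obtain ⟨w, ⟨hwF, hw0⟩, hmax⟩ := Set.exists_max_image {y : G | y ∈ F ∧ y ∉ F₀}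
    (fun y => {e : G | e ∈ A ∧ θ e y ∈ F₀}.ncard) (Set.toFinite _)
    (SetLike.not_le_iff_exists.1 hFF)
  have hwA : ∀ e ∈ A, θ e w ∈ F₀ := by
    intro e he
    by_contra hne
    have h := hmax _ ⟨hθF e he w hwF, hne⟩
    have hlt : {g : G | g ∈ A ∧ θ g w ∈ F₀}.ncard < {g : G | g ∈ A ∧ θ g (θ e w) ∈ F₀}.ncard := by
      refine Set.ncard_lt_ncard ⟨?_, ?_⟩ (Set.toFinite _)
      · rintro g ⟨hg, hg'⟩
        exact ⟨hg, by rw [hθc g hg e he w hwF, hθ0 e he _ hg']; exact one_mem _⟩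
      · intro hsub
        exact hne (hsub ⟨he, by rw [hθθ e he w hwF]; exact one_mem _⟩).2
    omega
  -- the kernel of `e ↦ θ e w`
  let φ : ↥A₀ →* ↥F₀ :=
    { toFun := fun e => ⟨θ e w, hwA e (hA₀ e.2)⟩
      map_one' := Subtype.ext (by
        show 1 * w * (1 : G)⁻¹ * w = 1
        rw [one_mul, inv_one, mul_one, hYs w ((hFmem w).1 hwF).1])
      map_mul' := fun e f => Subtype.ext (by
        show θ ((e : G) * f) w = θ e w * θ f w
        rw [hθm e (hA₀ e.2) f (hA₀ f.2) w hwF, hθ0 e (hA₀ e.2) _ (hwA f (hA₀ f.2)), one_mul]) }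
  have hker : Nat.card ↥A₀ ≤ 2 * Nat.card ↥(φ.ker.map A₀.subtype) := by
    rw [card_map_of_injective A₀.subtype_injective, ← φ.ker.card_mul_index, index_ker, mul_comm]
    exact Nat.mul_le_mul_right _ ((card_le_card_group _).trans h0)
  obtain ⟨P, hP⟩ : ∃ P, P = F₀ ⊔ zpowers w := ⟨_, rfl⟩
  have hPF : P ≤ F := hP ▸ sup_le hF₀F (zpowers_le.2 hwF)
  have hfix : ∀ e ∈ φ.ker.map A₀.subtype, ∀ v ∈ P, e * v * e⁻¹ = v := by
    rintro _ ⟨e, he, rfl⟩ v hv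
    have hle : P ≤ centralizer ({(e : G)} : Set G) := by
      rw [hP]
      refine sup_le (fun y hy => mem_centralizer_iff.2 fun g hg => ?_) (zpowers_le.2 (mem_centralizer_iff.2 fun g hg => ?_))
      · rw [Set.mem_singleton_iff.1 hg]
        rw [hF₀] at hy
        exact mem_centralizer_iff.1 hy.2 _ (hA₀ e.2)
      · rw [Set.mem_singleton_iff.1 hg]
        have h : (e : G) * w * (e : G)⁻¹ * w = 1 := congrArg Subtype.val he
        rw [mul_eq_one_iff_eq_inv, inv_eq_of_mul_eq_one_right (hYs w ((hFmem w).1 hwF).1)] at h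
        exact mul_inv_eq_iff_eq_mul.1 h
    show (e : G) * v * (e : G)⁻¹ = v
    rw [mem_centralizer_iff.1 (hle hv) _ rfl, mul_inv_cancel_right]
  have hPgt : 2 * Nat.card ↥F₀ ≤ Nat.card ↥P := by
    have hlt : Nat.card ↥F₀ < Nat.card ↥P := Fus.card_lt_of_lt (lt_of_le_of_ne (hP ▸ le_sup_left) fun e =>
      hw0 (e ▸ hP ▸ mem_sup_right (mem_zpowers w)))
    have hdvd : Nat.card ↥F₀ ∣ Nat.card ↥P := card_dvd_of_le (hP ▸ le_sup_left)
    obtain ⟨m, hm⟩ := hdvd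
    rw [hm] at hlt ⊢
    have : 2 ≤ m := by
      by_contra hm'
      interval_cases m <;> omega
    rw [mul_comm 2]
    exact Nat.mul_le_mul_left _ this
  have hkey := key _ (map_subtype_le _) P hPF hfix
  rw [← hF₀] at hkey
  have hp := Nat.card_pos (α := ↥F₀)
  have hk' := Nat.card_pos (α := ↥(φ.ker.map A₀.subtype))
  have hsqP := Nat.mul_le_mul_right (Nat.card ↥(φ.ker.map A₀.subtype)) (Nat.mul_le_mul hPgt hPgt)
  have h1 := Nat.mul_le_mul_right (Nat.card ↥F₀) (hidx.trans (Nat.mul_le_mul_left 2 hker))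
  have h3 := Nat.mul_le_mul_right (Nat.card ↥F₀ * Nat.card ↥(φ.ker.map A₀.subtype)) hF₀2
  have h5 : 0 < Nat.card ↥F₀ * Nat.card ↥(φ.ker.map A₀.subtype) := Nat.mul_pos hp hk'
  linarith

section
variable {T L : Subgroup G} {Ws : Set (Subgroup G)}

/-- Every four-group of the frame belongs to a component. -/
theorem Sit.exists_comp (s : Sit T L) (f : IsFrame T L Ws) {W : Subgroup G} (hW : W ∈ Ws) :
    ∃ K, IsJComponent T K ∧ K ≤ L ∧ wOf K = W := by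
  haveI := Fact.mk Nat.prime_two
  have h4 := f.card W hW
  obtain ⟨p, hp, hpe, hpW, hpo⟩ := f.rot W hW
  obtain ⟨t, ht, ht2, htW, hto⟩ := f.iso W hW
  obtain ⟨J, hJ⟩ : ∃ J, J = thompsonSubgroupOf 2 T := ⟨_, rfl⟩
  have hti : t⁻¹ = t := inv_eq_of_mul_eq_one_right ht2
  have hDL := s.dOf_le
  have htD : t ∈ dOf T L := J_le_dOf ht
  have htn := f.stab W hW htD
  have htne : ¬ Ev W t := not_ev_of_sq h4 htn (by rw [ht2]; exact one_mem _) htW
  -- the inverted element of order three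
  obtain ⟨q, hq⟩ : ∃ q, q = p * (t * p⁻¹ * t⁻¹) := ⟨_, rfl⟩
  have hqD : q ∈ dOf T L := hq ▸ mul_mem hp (mul_mem (mul_mem htD (inv_mem hp)) (inv_mem htD))
  have hflip := (flip h4 (hpe.inv h4) htn htne).1
  have hqe : Ev W q := by
    rw [hq, show t * p⁻¹ * t⁻¹ = (t * p⁻¹ * t⁻¹ * p⁻¹) * p by group]
    exact hpe.mul h4 ((Ev.of_centralizer hflip).mul h4 hpe)
  have hqW : q ∉ centralizer (W : Set G) := by
    intro h
    refine hpW ?_
    have hpp : p * p ∈ centralizer (W : Set G) := by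
      have h' : q = (p * (t * p⁻¹ * t⁻¹ * p⁻¹) * p⁻¹) * (p * p) := by rw [hq]; group
      have hc : p * (t * p⁻¹ * t⁻¹ * p⁻¹) * p⁻¹ ∈ centralizer (W : Set G) := by
        have := hpe.comm h4 (Ev.of_centralizer hflip)
        have h'' := mul_mem this hflip
        rwa [inv_mul_cancel_right] at h''
      rw [h'] at h
      exact (mul_mem_cancel_left hc).1 h
    have := hpe.cube h4
    rw [pow_succ, pow_two] at this
    exact (mul_mem_cancel_left hpp).1 this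
  have hqo : ∀ W' ∈ Ws, W' ≠ W → q ∈ centralizer (W' : Set G) := fun W' hW' h => hq ▸
    mul_mem (hpo W' hW' h) (mul_mem (mul_mem (hto W' hW' h) (inv_mem (hpo W' hW' h))) (inv_mem (hto W' hW' h)))
  have hqinv : t * q * t⁻¹ = q⁻¹ := by
    rw [hq, hti]
    calc t * (p * (t * p⁻¹ * t)) * t = t * p * t * p⁻¹ * (t * t) := by group
      _ = t * p * t * p⁻¹ := by rw [ht2, mul_one]
      _ = (p * (t⁻¹ * p⁻¹ * t⁻¹))⁻¹ := by group
      _ = (p * (t * p⁻¹ * t))⁻¹ := by rw [hti]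
  obtain ⟨n, m, hm, hord, hodd⟩ := exists_two_pow_mul_odd q
  obtain ⟨k, hk⟩ : ∃ k, k = q ^ 2 ^ n := ⟨_, rfl⟩
  rw [← hk] at hodd
  have hkD : k ∈ dOf T L := hk ▸ pow_mem hqD _
  have hke : Ev W k := hk ▸ hqe.pow h4 _
  have hkW : k ∉ centralizer (W : Set G) := fun h => hqW (centralizes_of_ev_two h4 hqe (n := n) (hk ▸ h))
  have hko : ∀ W' ∈ Ws, W' ≠ W → k ∈ centralizer (W' : Set G) := fun W' hW' h => hk ▸ pow_mem (hqo W' hW' h) _
  have hkinv : t * k * t⁻¹ = k⁻¹ := by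
    rw [hk, ← conj_pow, hqinv, inv_pow]
  have hkinvQ : t * k * t⁻¹ * k ∈ pCoreOf 2 L := by rw [hkinv, inv_mul_cancel]; exact one_mem _
  have hk3C : k ^ 3 ∈ cOf L := s.mem_cOf f (pow_mem hkD 3) fun W' hW' =>
    if h : W' = W then h ▸ hke.cube h4 else pow_mem (hko W' hW' h) 3
  have hk3 : k ^ 3 = 1 := by
    have h6 : k ^ 6 ∈ pCoreOf 2 L := by
      have h := s.comm_cOf hk3C htD
      have e : k ^ 3 * t * (k ^ 3)⁻¹ * t⁻¹ = k ^ 6 := by
        calc k ^ 3 * t * (k ^ 3)⁻¹ * t⁻¹ = k ^ 3 * (t * k ^ 3 * t⁻¹)⁻¹ := by group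
          _ = k ^ 3 * ((t * k * t⁻¹) ^ 3)⁻¹ := by rw [conj_pow]
          _ = k ^ 6 := by rw [hkinv]; group
      rwa [e] at h
    obtain ⟨j, hj⟩ := pCoreOf_isPGroup L ⟨k ^ 6, h6⟩
    have h6' : (k ^ 6) ^ 2 ^ j = 1 := by simpa using congrArg Subtype.val hj
    have h36 : (k ^ 3) ^ 2 ^ (j + 1) = 1 := by
      rw [← pow_mul, show 3 * 2 ^ (j + 1) = 6 * 2 ^ j by ring, pow_mul, h6']
    exact eq_one_of_odd_of_two (Odd.of_dvd_nat hodd (orderOf_pow_dvd 3)) h36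
  have hk1 : k ≠ 1 := fun e => hkW (e ▸ one_mem _)
  have hordk : orderOf k = 3 := orderOf_eq_prime hk3 hk1
  -- the preimage and the component
  obtain ⟨Q, hQ⟩ : ∃ Q, Q = pCoreOf 2 L := ⟨_, rfl⟩
  have hQp : IsPGroup 2 ↥Q := hQ ▸ pCoreOf_isPGroup L
  have hQL : Q ≤ L := hQ ▸ pCoreOf_le L
  have hQn : L ≤ normalizer (Q : Set G) := hQ ▸ le_normalizer_pCoreOf L
  have hQC : Q ≤ cOf L := hQ ▸ Q_le_cOf
  have hQT : Q ≤ T := hQ ▸ s.Q_le_T
  obtain ⟨H, hH⟩ : ∃ H, H = zpowers k ⊔ Q := ⟨_, rfl⟩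
  have hkH : k ∈ H := hH ▸ mem_sup_left (mem_zpowers k)
  have hHL : H ≤ L := hH ▸ sup_le (zpowers_le.2 (hDL hkD)) hQL
  have hDH : dOf T L ≤ normalizer (H : Set G) := by
    rw [hH, hQ]; exact s.dOf_le_normalizer_hat f hW hkD hke hkW hko ht ht2 htW hto hkinvQ
  have hkn : zpowers k ≤ normalizer (Q : Set G) := (zpowers_le.2 (hDL hkD)).trans hQn
  have hQH : Q ≤ normalizer (H : Set G) := le_normalizer.trans' (hH ▸ le_sup_right)
  obtain ⟨K, hK⟩ : ∃ K, K = closure {g : G | g ∈ H ∧ Odd (orderOf g)} := ⟨_, rfl⟩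
  have hKH : K ≤ H := hK ▸ (closure_le _).2 fun g hg => hg.1
  have hoddH : ∀ g ∈ H, Odd (orderOf g) → g ∈ K := fun g hg ho => hK ▸ subset_closure ⟨hg, ho⟩
  have hkK : k ∈ K := hoddH k hkH hodd
  have hnorm : ∀ g, g ∈ normalizer (H : Set G) → g ∈ normalizer (K : Set G) := fun g hg =>
    mem_normalizer_fintype fun y hy => by
      have hle : K.map (MulAut.conj g).toMonoidHom ≤ K := by
        conv_lhs => rw [hK]
        rw [MonoidHom.map_closure]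
        refine (closure_le _).2 ?_
        rintro _ ⟨z, ⟨hz, hzo⟩, rfl⟩
        exact hoddH _ ((mem_normalizer_iff.1 hg z).1 hz) (odd_orderOf_conj hzo)
      exact hle ⟨y, hy, rfl⟩
  have hJK : thompsonSubgroupOf 2 T ≤ normalizer (K : Set G) := fun j hj => hnorm j (hDH (J_le_dOf hj))
  have hQK : Q ≤ normalizer (K : Set G) := fun x hx => hnorm x (hQH hx)
  have hKodd : closure {g : G | g ∈ K ∧ Odd (orderOf g)} = K := by
    refine le_antisymm ((closure_le _).2 fun g hg => hg.1) ?_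
    conv_lhs => rw [hK]
    exact closure_mono fun g hg => ⟨hoddH g hg.1 hg.2, hg.2⟩
  -- elements of the preimage
  have hHmem : ∀ g ∈ H, ∃ i : ℤ, ∃ x ∈ Q, k ^ i * x = g := fun g hg => by
    rw [hH, ← SetLike.mem_coe, coe_mul_of_left_le_normalizer_right _ _ hkn] at hg
    obtain ⟨_, ⟨i, rfl⟩, x, hx, he⟩ := hg
    exact ⟨i, x, hx, he⟩
  have hKmem : ∀ g ∈ K, ∃ i : ℤ, ∃ x ∈ K ⊓ Q, k ^ i * x = g := fun g hg => by
    obtain ⟨i, x, hx, he⟩ := hHmem g (hKH hg)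
    refine ⟨i, x, ⟨?_, hx⟩, he⟩
    have : x = (k ^ i)⁻¹ * g := by rw [← he]; group
    exact this ▸ K.mul_mem (K.inv_mem (K.zpow_mem hkK i)) hg
  have hzpow : ∀ i : ℤ, k ^ i ∈ centralizer (W : Set G) → k ^ i = 1 := by
    intro i hi
    rw [← zpow_mod_orderOf, hordk] at hi ⊢
    have h0 : 0 ≤ i % 3 := Int.emod_nonneg i (by norm_num)
    have h3 : i % 3 < 3 := Int.emod_lt_of_pos i (by norm_num)
    interval_cases hh : i % 3
    · simp
    · exact absurd (by simpa using hi) hkW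
    · refine absurd ?_ hkW
      have h2 : k * k ∈ centralizer (W : Set G) := by
        simpa [zpow_two, pow_two] using hi
      have h31 : k * k * k = 1 := by rw [← hk3, pow_succ, pow_two]
      rw [show k = (k * k)⁻¹ from eq_inv_of_mul_eq_one_right h31]
      exact inv_mem h2
  have hQW : ∀ x ∈ Q, x ∈ centralizer (W : Set G) := fun x hx =>
    centralizer_le (f.le W hW) (hQC hx).2
  have htwoH : ∀ g ∈ H, ∀ j : ℕ, g ^ 2 ^ j = 1 → g ∈ Q := by
    intro g hg j hj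
    obtain ⟨i, x, hx, rfl⟩ := hHmem g hg
    have he : Ev W (k ^ i * x) := by
      have h1 : Ev W (k ^ i) := by
        rw [← zpow_mod_orderOf, hordk]
        obtain ⟨a, ha⟩ := Int.eq_ofNat_of_zero_le (Int.emod_nonneg i (show ((3 : ℕ) : ℤ) ≠ 0 by norm_num))
        rw [ha, zpow_natCast]
        exact hke.pow h4 a
      exact h1.mul h4 (Ev.of_centralizer (hQW x hx))
    have hc := centralizes_of_ev_two h4 he (n := j) (by rw [hj]; exact one_mem _)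
    rw [hzpow i ((mul_mem_cancel_right (hQW x hx)).1 hc), one_mul]
    exact hx
  -- `[K, J(T)] = K`
  have hcom : ⁅K, thompsonSubgroupOf 2 T⁆ = K := by
    refine le_antisymm (commutator_le.2 fun g hg j hj => ?_) ?_
    · rw [commutatorElement_def, show g * j * g⁻¹ * j⁻¹ = g * (j * g⁻¹ * j⁻¹) by group]
      exact mul_mem hg ((mem_normalizer_iff.1 (hJK hj) _).1 (inv_mem hg))
    obtain ⟨M, hM⟩ : ∃ M, M = ⁅K, thompsonSubgroupOf 2 T⁆ := ⟨_, rfl⟩
    rw [← hM]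
    have hMn : K ≤ normalizer (M : Set G) := hM ▸ Grp.left_le_normalizer_commutator _ _
    have hk2 : k * k ∈ M := by
      have h := commutator_mem_commutator hkK ht
      rw [← hM, commutatorElement_def, show k * t * k⁻¹ * t⁻¹ = k * (t * k * t⁻¹)⁻¹ by group, hkinv, inv_inv] at h
      exact h
    have hkM : k ∈ M := by
      rw [show k = (k * k) * (k * k) * (k ^ 3)⁻¹ by group, hk3, inv_one, mul_one]
      exact mul_mem hk2 hk2
    conv_lhs => rw [← hKodd]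
    refine (closure_le _).2 fun g hg => ?_
    obtain ⟨i, x, hx, he⟩ := hKmem g hg.1
    exact mem_of_odd_sup (hQp.to_le inf_le_right) (inf_le_left.trans hMn)
      (he ▸ mul_mem (mem_sup_left (zpow_mem hkM i)) (mem_sup_right hx)) hg.2
  -- `O₂(K) = K ∩ Q`
  have hKQn : K ≤ normalizer ((K ⊓ Q : Subgroup G) : Set G) := fun g hg =>
    mem_normalizer_fintype fun y hy => ⟨(mem_normalizer_iff.1 (le_normalizer hg) y).1 hy.1,
      (mem_normalizer_iff.1 (hQn (hHL (hKH hg))) y).1 hy.2⟩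
  have hO2 : pCoreOf 2 K = K ⊓ Q := by
    refine le_antisymm (fun x hx => ⟨pCoreOf_le K hx, ?_⟩)
      (le_pCoreOf inf_le_left hKQn (hQp.to_le inf_le_right))
    obtain ⟨j, hj⟩ := pCoreOf_isPGroup K ⟨x, hx⟩
    exact htwoH x (hKH (pCoreOf_le K hx)) j (by simpa using congrArg Subtype.val hj)
  have hidx : (pCoreOf 2 K).relIndex K = 3 := by
    rw [hO2]
    have h1 := Grp.card_sup_mul_card_inf hkn
    have hbot : zpowers k ⊓ Q = ⊥ := by
      refine (Subgroup.eq_bot_iff_forall _).2 ?_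
      rintro y ⟨⟨i, rfl⟩, hy⟩
      exact hzpow i (hQW _ hy)
    have hKn : K ≤ normalizer (Q : Set G) := (hKH.trans hHL).trans hQn
    have h2 := Grp.card_sup_mul_card_inf hKn
    have hKQ : K ⊔ Q = H := le_antisymm (sup_le hKH (hH ▸ le_sup_right))
      (hH ▸ sup_le_sup (zpowers_le.2 hkK) le_rfl)
    rw [hbot, card_bot, mul_one, Nat.card_zpowers, hordk, ← hH] at h1
    rw [hKQ, h1] at h2
    have h3 : Nat.card ↥(K ⊓ Q : Subgroup G) * (K ⊓ Q).relIndex K = Nat.card ↥K := by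
      rw [relIndex, ← Nat.card_congr (subgroupOfEquivOfLe (inf_le_left : K ⊓ Q ≤ K)).toEquiv, card_mul_index]
    have hQ0 := Nat.card_pos (α := ↥Q)
    have hI0 := Nat.card_pos (α := ↥(K ⊓ Q : Subgroup G))
    rw [← h3] at h2
    have h5 : 3 * (Nat.card ↥(K ⊓ Q : Subgroup G) * Nat.card ↥Q) =
        (K ⊓ Q).relIndex K * (Nat.card ↥(K ⊓ Q : Subgroup G) * Nat.card ↥Q) := by linarith
    exact (Nat.eq_of_mul_eq_mul_right (Nat.mul_pos hI0 hQ0) h5).symm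
  -- Sylow subgroups of `K J(T)`
  have hsyl : ∀ S : Subgroup G, IsSylowTwoIn S (K ⊔ thompsonSubgroupOf 2 T) → thompsonSubgroupOf 2 T ≤ S →
      thompsonSubgroupOf 2 S = thompsonSubgroupOf 2 T := by
    intro S hS hJS
    refine thompson_eq_of_between hJS fun x hx => ?_
    have hx' := hS.1 hx
    rw [← SetLike.mem_coe, coe_mul_of_right_le_normalizer_left _ _ hJK] at hx'
    obtain ⟨g, hg, j, hj, rfl⟩ := hx'
    have hgS : g ∈ S := by
      have := mul_mem hx (inv_mem (hJS hj))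
      rwa [mul_inv_cancel_right] at this
    obtain ⟨a, ha⟩ := hS.2.1 ⟨g, hgS⟩
    exact mul_mem (hQT (htwoH g (hKH hg) a (by simpa using congrArg Subtype.val ha))) (thompsonEl_le T hj)
  -- the four-group
  obtain ⟨U, hU⟩ : ∃ U, U = omegaCenterOf (K ⊓ Q) := ⟨_, rfl⟩
  have hUc : ∀ x ∈ U, ∀ y ∈ U, x * y = y * x := fun x hx y hy =>
    (mem_omegaCenter.1 (hU ▸ hy)).2.1 x (mem_omegaCenter.1 (hU ▸ hx)).1
  have hUs : ∀ x ∈ U, x * x = 1 := fun x hx => (mem_omegaCenter.1 (hU ▸ hx)).2.2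
  have hUn : ∀ g, g ∈ normalizer (K : Set G) → g ∈ normalizer (U : Set G) := fun g hg => by
    rw [hU, ← hO2]
    refine mem_normalizer_of_map_eq ?_
    rw [← omegaCenter_map _ (MulAut.conj g).injective, ← pCoreOf_map _ (MulAut.conj g).injective,
      map_conj_eq_self hg]
  have hkU : k ∈ normalizer (U : Set G) := hUn k (le_normalizer hkK)
  obtain ⟨θ, hθ⟩ : ∃ θ : G → G, ∀ u, θ u = k * u * k⁻¹ * u⁻¹ := ⟨_, fun u => rfl⟩
  have hθU : ∀ u ∈ U, θ u ∈ U := fun u hu => hθ u ▸ mul_mem ((mem_normalizer_iff.1 hkU u).1 hu) (inv_mem hu)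
  have hθmul : ∀ u ∈ U, ∀ v ∈ U, θ (u * v) = θ u * θ v := fun u hu v hv => by
    rw [hθ, hθ, hθ]
    have h := hUc _ (mul_mem ((mem_normalizer_iff.1 hkU v).1 hv) (inv_mem hv)) _ (inv_mem hu)
    calc k * (u * v) * k⁻¹ * (u * v)⁻¹ = k * u * k⁻¹ * ((k * v * k⁻¹ * v⁻¹) * u⁻¹) := by group
      _ = k * u * k⁻¹ * (u⁻¹ * (k * v * k⁻¹ * v⁻¹)) := by rw [h]
      _ = _ := by group
  let Y : Subgroup G :=
    { carrier := {y | ∃ u ∈ U, θ u = y}
      one_mem' := ⟨1, one_mem _, by rw [hθ]; group⟩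
      mul_mem' := by
        rintro _ _ ⟨u, hu, rfl⟩ ⟨v, hv, rfl⟩
        exact ⟨u * v, mul_mem hu hv, hθmul u hu v hv⟩
      inv_mem' := by
        rintro _ ⟨u, hu, rfl⟩
        exact ⟨u, hu, (inv_eq_of_mul_eq_one_right (hUs _ (hθU u hu))).symm⟩ }
  have hYmem : ∀ y, y ∈ Y ↔ ∃ u ∈ U, θ u = y := fun y => Iff.rfl
  have hYU : Y ≤ U := fun y hy => by
    obtain ⟨u, hu, rfl⟩ := hy
    exact hθU u hu
  have hfpf : ∀ y ∈ Y, k * y * k⁻¹ = y → y = 1 := by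
    intro y hy hky
    obtain ⟨u, hu, rfl⟩ := hy
    have h4' := theta_iterate hUc hUs hkU 2 u hu
    rw [show (fun u => k * u * k⁻¹ * u⁻¹) = θ from funext fun u => (hθ u).symm,
      show k ^ 2 ^ 2 = k by rw [show (2 : ℕ) ^ 2 = 3 + 1 by norm_num, pow_succ, hk3, one_mul]] at h4'
    simp only [show (2 : ℕ) ^ 2 = 4 by norm_num, Function.iterate_succ_apply', Function.iterate_zero_apply] at h4'
    rw [← hθ] at h4'
    have h1 : θ (θ u) = 1 := by rw [hθ (θ u), hky, mul_inv_cancel]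
    have h0 : θ 1 = 1 := by rw [hθ]; group
    rw [h1, h0, h0] at h4'
    exact h4'.symm
  have hWU : W ≤ U := fun w hw => by
    have hwV := f.le W hW hw
    obtain ⟨v, hv, rfl⟩ := four_surj (f.comm hW) hke hkW hw
    refine hU ▸ mem_omegaCenter.2 ⟨⟨?_, hQ ▸ vOf_le_Q hwV⟩,
      fun r hr => ((mem_centralizer_iff.1 (hQC hr.2).2) _ hwV).symm, vOf_sq hwV⟩
    rw [show k * v * k⁻¹ * v⁻¹ = k * (v * k⁻¹ * v⁻¹) by group]
    exact mul_mem hkK ((mem_normalizer_iff.1 (hQK (hQ ▸ vOf_le_Q (f.le W hW hv))) _).1 (inv_mem hkK))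
  have hWY : W ≤ Y := fun w hw => by
    obtain ⟨v, hv, rfl⟩ := four_surj (f.comm hW) hke hkW hw
    exact ⟨v, hWU hv, hθ v⟩
  have hwOf : wOf K = ⁅U, K⁆ := by rw [hU, ← hO2]; rfl
  have hYW : Y ≤ wOf K := fun y hy => by
    obtain ⟨u, hu, rfl⟩ := hy
    rw [hwOf, commutator_comm, hθ, ← commutatorElement_def]
    exact commutator_mem_commutator hkK hu
  have hkY : k ∈ normalizer (Y : Set G) := mem_normalizer_fintype fun y hy => by
    obtain ⟨u, hu, rfl⟩ := hy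
    exact ⟨k * u * k⁻¹, (mem_normalizer_iff.1 hkU u).1 hu, by rw [hθ, hθ]; group⟩
  have hpowY : ∀ n : ℕ, ∀ u ∈ U, k ^ n * u * (k ^ n)⁻¹ * u⁻¹ ∈ Y := by
    intro n u hu
    induction n with
    | zero => simp [Subgroup.one_mem]
    | succ n ih =>
      have h := mul_mem (show θ (k ^ n * u * (k ^ n)⁻¹) ∈ Y from
        ⟨_, (mem_normalizer_iff.1 (pow_mem hkU n) u).1 hu, rfl⟩) ih
      rw [hθ] at h
      rwa [show k ^ (n + 1) * u * (k ^ (n + 1))⁻¹ * u⁻¹ =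
        k * (k ^ n * u * (k ^ n)⁻¹) * k⁻¹ * (k ^ n * u * (k ^ n)⁻¹)⁻¹ * (k ^ n * u * (k ^ n)⁻¹ * u⁻¹) by
        rw [pow_succ']; group]
  have hWY' : wOf K ≤ Y := by
    rw [hwOf, commutator_comm]
    refine commutator_le.2 fun g hg u hu => ?_
    obtain ⟨i, x, hx, rfl⟩ := hKmem g hg
    have hxu : x * u = u * x := (mem_omegaCenter.1 (hU ▸ hu)).2.1 x hx
    rw [commutatorElement_def, show k ^ i * x * u * (k ^ i * x)⁻¹ * u⁻¹ =
      k ^ i * (x * u * x⁻¹) * (k ^ i)⁻¹ * u⁻¹ by group, hxu, mul_inv_cancel_right, ← zpow_mod_orderOf, hordk]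
    obtain ⟨a, ha⟩ := Int.eq_ofNat_of_zero_le (Int.emod_nonneg i (show ((3 : ℕ) : ℤ) ≠ 0 by norm_num))
    rw [ha, zpow_natCast]
    exact hpowY a u hu
  have hWeq : wOf K = Y := le_antisymm hWY' hYW
  -- the counting
  obtain ⟨A, hA, a, haA, haW⟩ : ∃ A, IsMaxEl 2 T A ∧ ∃ a ∈ A, a ∉ centralizer (W : Set G) := by
    by_contra hcon
    push Not at hcon
    exact htW (thompsonEl_le_of hcon ht)
  have hAD : ∀ g ∈ A, g ∈ dOf T L := fun g hg => J_le_dOf (hA.le_thompsonEl hg)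
  have hAK : ∀ g ∈ A, g ∈ normalizer (K : Set G) := fun g hg => hJK (hA.le_thompsonEl hg)
  have hAsq : ∀ g ∈ A, g * g = 1 := fun g hg => by rw [← pow_two]; exact hA.2.1.2 g hg
  have hAev : ∀ g ∈ A, g ∉ centralizer (W : Set G) → ¬ Ev W g := fun g hg hgW =>
    not_ev_of_sq h4 (f.stab W hW (hAD g hg)) (by rw [hAsq g hg]; exact one_mem _) hgW
  obtain ⟨A₀, hA₀⟩ : ∃ A₀, A₀ = A ⊓ centralizer (W : Set G) := ⟨_, rfl⟩
  have hA2 : Nat.card ↥A ≤ 2 * Nat.card ↥A₀ := by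
    have hsub : (A : Set G) ⊆ (A₀ : Set G) ∪ (fun y => a * y) '' (A₀ : Set G) := by
      intro x hx
      by_cases hxW : x ∈ centralizer (W : Set G)
      · exact Or.inl (hA₀ ▸ mem_inf.2 ⟨hx, hxW⟩)
      refine Or.inr ⟨a⁻¹ * x, hA₀ ▸ mem_inf.2 ⟨mul_mem (inv_mem haA) hx, ?_⟩, by group⟩
      refine (odd_odd h4 (f.stab W hW (hAD a haA)) (hAev a haA haW) (f.stab W hW (hAD x hx))
        (hAev x hx hxW)).2.2 ?_
      rw [hA.2.1.1 a haA x hx, mul_inv_cancel_right, mul_inv_cancel]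
      exact one_mem _
    have h1 := (Set.ncard_le_ncard hsub (Set.toFinite _)).trans (Set.ncard_union_le _ _)
    rw [Set.ncard_image_of_injective _ (mul_right_injective a), ← Nat.card_coe_set_eq,
      ← Nat.card_coe_set_eq] at h1
    rw [two_mul]; exact h1
  have hcen : ∀ g ∈ K, (∀ W' ∈ Ws, g ∈ centralizer (W' : Set G)) → ∀ u ∈ U, g * u * g⁻¹ = u := by
    intro g hg hgc u hu
    obtain ⟨i, x, hx, rfl⟩ := hKmem g hg
    have h := hgc W hW
    rw [hzpow i ((mul_mem_cancel_right (hQW x hx.2)).1 h), one_mul,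
      (mem_omegaCenter.1 (hU ▸ hu)).2.1 x hx, mul_inv_cancel_right]
  have hoth : ∀ g ∈ A, ∀ z ∈ ({k, k⁻¹} : Set G), ∀ W' ∈ Ws, W' ≠ W →
      g * k * g⁻¹ * z ∈ centralizer (W' : Set G) := by
    intro g hg z hz W' hW' hne
    refine mul_mem (mem_centralizer_iff.2 fun w hw => ?_) ?_
    · have hw' := (mem_normalizer_iff''.1 (f.stab W' hW' (hAD g hg)) w).1 hw
      have := mem_centralizer_iff.1 (hko W' hW' hne) _ hw'
      calc w * (g * k * g⁻¹) = g * ((g⁻¹ * w * g) * k) * g⁻¹ := by group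
        _ = g * (k * (g⁻¹ * w * g)) * g⁻¹ := by rw [this]
        _ = g * k * g⁻¹ * w := by group
    · rcases hz with rfl | rfl
      exacts [hko W' hW' hne, inv_mem (hko W' hW' hne)]
  have hcomm : ∀ e ∈ A₀, ∀ u ∈ U, e * (k * u * k⁻¹) * e⁻¹ = k * (e * u * e⁻¹) * k⁻¹ := by
    intro e he u hu
    rw [hA₀] at he
    have hc : ∀ W' ∈ Ws, e * k * e⁻¹ * k⁻¹ ∈ centralizer (W' : Set G) := fun W' hW' =>
      if h : W' = W then h ▸ (Ev.of_centralizer he.2).comm h4 hke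
      else hoth e he.1 k⁻¹ (by simp) W' hW' h
    have := hcen _ (mul_mem ((mem_normalizer_iff.1 (hAK e he.1) k).1 hkK) (inv_mem hkK)) hc
      (k * (e * u * e⁻¹) * k⁻¹)
      ((mem_normalizer_iff.1 hkU _).1 ((mem_normalizer_iff.1 (hUn e (hAK e he.1)) u).1 hu))
    rw [← this]; group
  have hinv : ∀ g ∈ A, g ∉ centralizer (W : Set G) → ∀ u ∈ U,
      g * (k * u * k⁻¹) * g⁻¹ = k⁻¹ * (g * u * g⁻¹) * k := by
    intro g hg hgW u hu
    have hc : ∀ W' ∈ Ws, g * k * g⁻¹ * k ∈ centralizer (W' : Set G) := fun W' hW' =>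
      if h : W' = W then h ▸ (flip h4 hke (f.stab W hW (hAD g hg)) (hAev g hg hgW)).1
      else hoth g hg k (by simp) W' hW' h
    have := hcen _ (mul_mem ((mem_normalizer_iff.1 (hAK g hg) k).1 hkK) hkK) hc
      (k⁻¹ * (g * u * g⁻¹) * k)
      ((mem_normalizer_iff''.1 hkU _).1 ((mem_normalizer_iff.1 (hUn g (hAK g hg)) u).1 hu))
    rw [← this]; group
  have hAY : A ≤ normalizer (Y : Set G) := fun g hg => mem_normalizer_fintype fun y hy => by
    obtain ⟨u, hu, rfl⟩ := hy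
    have hgu : g * u * g⁻¹ ∈ U := (mem_normalizer_iff.1 (hUn g (hAK g hg)) u).1 hu
    by_cases hgW : g ∈ centralizer (W : Set G)
    · refine ⟨g * u * g⁻¹, hgu, ?_⟩
      rw [hθ, hθ, ← hcomm g (hA₀ ▸ ⟨hg, hgW⟩) u hu]
      group
    · refine ⟨k⁻¹ * (g * u * g⁻¹) * k, (mem_normalizer_iff''.1 hkU _).1 hgu, ?_⟩
      have h1 : g * θ u * g⁻¹ = (k⁻¹ * (g * u * g⁻¹) * k) * (g * u * g⁻¹)⁻¹ := by
        rw [← hinv g hg hgW u hu, hθ]; group
      rw [h1, hθ]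
      have h2 := hUc _ hgu _ ((mem_normalizer_iff''.1 hkU _).1 hgu)
      have e1 : (g * u * g⁻¹)⁻¹ = g * u * g⁻¹ := inv_eq_of_mul_eq_one_right (hUs _ hgu)
      have e2 : (k⁻¹ * (g * u * g⁻¹) * k)⁻¹ = k⁻¹ * (g * u * g⁻¹) * k :=
        inv_eq_of_mul_eq_one_right (hUs _ ((mem_normalizer_iff''.1 hkU _).1 hgu))
      rw [e1, e2, ← h2]
      group
  have hY4 : Nat.card ↥Y ≤ 4 := card_le_four (R := T)
    (hYU.trans fun u hu => hQT ((mem_omegaCenter (R := K ⊓ Q)).1 (hU ▸ hu)).1.2)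
    (fun x hx y hy => hUc x (hYU hx) y (hYU hy)) (fun y hy => hUs y (hYU hy)) hA haA
    (hA₀ ▸ inf_le_left) hA2 hAY hkY hfpf hk3 (fun y hy => hinv a haA haW y (hYU hy))
    (fun e he y hy => hcomm e he y (hYU hy))
  have hWK : wOf K = W := (eq_of_le_of_card_ge (hWeq ▸ hWY : W ≤ wOf K) (by rw [hWeq, h4]; exact hY4)).symm
  exact ⟨K, ⟨hKodd, hcom, hidx, hsyl, hWK.symm ▸ h4, fun w hw => vOf_sq (f.le W hW (hWK ▸ hw))⟩,
    hKH.trans hHL, hWK⟩

end

end Cfsg.Agent.Invol.JComp
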