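import Cfsg.Agent.Lib.Invol.JCompSit
import Cfsg.Agent.Lib.Grp.Solvable
import Cfsg.Agent.S0612
import Cfsg.Agent.S0617

/-!
The action of an overgroup `L` on `V = Ω₁(Z(O₂(L)))`: the four-groups moved by the conjugates of `J(T)`.
The failure of factorization theorem is applied in the semidirect product of `V` with the induced group.
-/

set_option autoImplicit false
set_option maxHeartbeats 1600000

open scoped commutatorElement

namespace Cfsg.Agent.Invol.JComp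

open Subgroup

variable {G : Type*} [Group G]

/-- The four-groups of `V` moved by the conjugates of `J(T)`. -/
structure IsFrame (T L : Subgroup G) (Ws : Set (Subgroup G)) : Prop where
  nonempty : Ws.Nonempty
  card : ∀ W ∈ Ws, Nat.card ↥W = 4
  le : ∀ W ∈ Ws, W ≤ vOf L
  indep : ∀ W ∈ Ws, ∀ W' ∈ Ws, ∀ W'' ∈ Ws, W ≠ W' → W ≠ W'' → W ⊓ (W' ⊔ W'') = ⊥
  disj : ∀ W ∈ Ws, W ⊓ centralizer (dOf T L : Set G) = ⊥
  decomp : vOf L ≤ (vOf L ⊓ centralizer (dOf T L : Set G)) ⊔ sSup Ws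
  stab : ∀ W ∈ Ws, dOf T L ≤ normalizer (W : Set G)
  iso : ∀ W ∈ Ws, ∃ t ∈ thompsonSubgroupOf 2 T, t * t = 1 ∧ t ∉ centralizer (W : Set G) ∧
    ∀ W' ∈ Ws, W' ≠ W → t ∈ centralizer (W' : Set G)
  rot : ∀ W ∈ Ws, ∃ p ∈ dOf T L, Ev W p ∧ p ∉ centralizer (W : Set G) ∧
    ∀ W' ∈ Ws, W' ≠ W → p ∈ centralizer (W' : Set G)

section
variable [Finite G] {L : Subgroup G}

/-- The action of `L` on `V`. -/
noncomputable def act (L : Subgroup G) : ↥L →* MulAut ↥(vOf L) :=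
  ((vOf L).normalizerMonoidHom).comp (Subgroup.inclusion le_normalizer_vOf)

theorem act_apply (x : ↥L) (v : ↥(vOf L)) : ((act L x v : ↥(vOf L)) : G) = (x : G) * v * (x : G)⁻¹ := rfl

/-- The semidirect product of `V` with the group induced by `L`. -/
abbrev Amb (L : Subgroup G) : Type _ := ↥(vOf L) ⋊[(act L).range.subtype] ↥(act L).range

/-- The map of `L` into the semidirect product. -/
noncomputable def psi (L : Subgroup G) : ↥L →* Amb L := SemidirectProduct.inr.comp (act L).rangeRestrict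

theorem psi_conj (x : ↥L) (v : ↥(vOf L)) :
    psi L x * SemidirectProduct.inl v * (psi L x)⁻¹ = SemidirectProduct.inl (act L x v) := by
  have h := SemidirectProduct.inl_aut (φ := (act L).range.subtype) ((act L).rangeRestrict x) v
  rw [map_inv] at h
  exact h.symm

theorem psi_conj_eq_iff (x : ↥L) (v : ↥(vOf L)) :
    psi L x * SemidirectProduct.inl v * (psi L x)⁻¹ = SemidirectProduct.inl v ↔
      (x : G) * v * (x : G)⁻¹ = v := by
  rw [psi_conj, SemidirectProduct.inl_injective.eq_iff, Subtype.ext_iff, act_apply]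

theorem psi_eq_one_iff (x : ↥L) : psi L x = 1 ↔ (x : G) ∈ cOf L := by
  unfold psi
  rw [MonoidHom.comp_apply, map_eq_one_iff _ SemidirectProduct.inr_injective, Subtype.ext_iff]
  constructor
  · intro h
    refine ⟨x.2, mem_centralizer_iff.2 fun v hv => ?_⟩
    have := congrArg (fun e : MulAut ↥(vOf L) => ((e ⟨v, hv⟩ : ↥(vOf L)) : G)) (show act L x = 1 from h)
    exact (mul_inv_eq_iff_eq_mul.1 (show (x : G) * v * (x : G)⁻¹ = v from this)).symm
  · intro h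
    show act L x = 1
    ext v
    rw [act_apply, ← mem_centralizer_iff.1 h.2 v v.2, mul_inv_cancel_right]
    rfl

end

theorem indep_option {α β : Type*} [CompleteLattice α] {P : β → Prop} {c : α} {f : β → α}
    (h : iSupIndep (fun o : Option {E // P E} => o.elim c (fun E => f E))) (E : β) (hE : P E) :
    Disjoint c (f E) ∧ Disjoint (f E) (⨆ F, ⨆ (_ : P F), ⨆ (_ : F ≠ E), f F) := by
  refine ⟨Disjoint.mono_right ?_ (h none), Disjoint.mono_right ?_ (h (some ⟨E, hE⟩))⟩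
  · exact le_iSup₂_of_le (some ⟨E, hE⟩) (fun e => by simp at e) le_rfl
  · refine iSup_le fun F => iSup₂_le fun hF hne => le_iSup₂_of_le (some ⟨F, hF⟩) (fun e => ?_) le_rfl
    exact hne (congrArg Subtype.val (Option.some.inj e))

/-- The subgroup of `V` corresponding to a subgroup of the model. -/
noncomputable def downV [Finite G] {L : Subgroup G} {X : Type*} [Group X] (inlV : ↥(vOf L) →* X)
    (U : Subgroup X) : Subgroup G :=
  (U.comap inlV).map (vOf L).subtype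

theorem Sit.exists_frame_aux [Finite G] {T L : Subgroup G} (s : Sit T L) {X : Type*} [Group X] [Finite X]
    (inlV : ↥(vOf L) →* X) (hinlV : Function.Injective inlV) (psiL : ↥L →* X)
    (psiL_conj : ∀ x v, psiL x * inlV v * (psiL x)⁻¹ = inlV (act L x v))
    (psiL_eq_one_iff : ∀ x : ↥L, psiL x = 1 ↔ (x : G) ∈ cOf L) :
    ∃ Ws, IsFrame T L Ws := by
  classical
  have psiL_conj_eq_iff : ∀ (x : ↥L) (v : ↥(vOf L)),
      psiL x * inlV v * (psiL x)⁻¹ = inlV v ↔ (x : G) * v * (x : G)⁻¹ = v := fun x v => by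
    rw [psiL_conj, hinlV.eq_iff, Subtype.ext_iff, act_apply]
  haveI := s.solvable
  haveI : Fact (Nat.Prime 2) := ⟨Nat.prime_two⟩
  obtain ⟨J, hJ⟩ : ∃ J, J = thompsonSubgroupOf 2 T := ⟨_, rfl⟩
  obtain ⟨D, hD⟩ : ∃ D, D = dOf T L := ⟨_, rfl⟩
  have hDL : D ≤ L := hD ▸ s.dOf_le
  obtain ⟨V', hV'⟩ : ∃ V', V' = inlV.range := ⟨_, rfl⟩
  obtain ⟨H, hH⟩ : ∃ H, H = (D.subgroupOf L).map psiL := ⟨_, rfl⟩
  have hVmem : ∀ v, (inlV v : X) ∈ V' := fun v => hV' ▸ ⟨v, rfl⟩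
  have hpsiD : ∀ (x : G) (hx : x ∈ L), x ∈ D → psiL ⟨x, hx⟩ ∈ H := fun x hx hxD =>
    hH ▸ ⟨⟨x, hx⟩, hxD, rfl⟩
  have hHmem : ∀ h ∈ H, ∃ x : ↥L, (x : G) ∈ D ∧ psiL x = h := fun h hh => by
    rw [hH] at hh; exact hh
  -- elementary facts about the pair
  have hV : Cfsg.IsElementaryAbelian 2 V' := by
    subst hV'
    refine ⟨⟨⟨?_⟩⟩, ?_⟩
    · rintro ⟨_, a, rfl⟩ ⟨_, b, rfl⟩
      apply Subtype.ext
      show inlV a * inlV b = inlV b * inlV a
      rw [← map_mul, ← map_mul, show a * b = b * a from Subtype.ext (vOf_comm a.2 b.2)]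
    · rintro _ ⟨a, rfl⟩
      rw [← map_pow, show a ^ 2 = 1 from Subtype.ext (by simpa [pow_two] using vOf_sq a.2), map_one]
  have hpsiN : ∀ x : ↥L, psiL x ∈ normalizer (V' : Set (X)) := fun x =>
    mem_normalizer_fintype fun u hu => by
      rw [SetLike.mem_coe, hV'] at hu ⊢
      obtain ⟨v, rfl⟩ := hu
      exact ⟨_, (psiL_conj x v).symm⟩
  have hHV : H ≤ normalizer (V' : Set (X)) := fun h hh => by
    obtain ⟨x, -, rfl⟩ := hHmem h hh
    exact hpsiN x
  have hcentV : ∀ x : ↥L, psiL x ∈ centralizer (V' : Set (X)) → psiL x = 1 := fun x hx => by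
    refine (psiL_eq_one_iff x).2 ⟨x.2, mem_centralizer_iff.2 fun v hv => ?_⟩
    have h := mem_centralizer_iff.1 hx _ (hVmem ⟨v, hv⟩)
    exact (mul_inv_eq_iff_eq_mul.1 ((psiL_conj_eq_iff x ⟨v, hv⟩).1 (mul_inv_eq_iff_eq_mul.2 h.symm))).symm
  have hf : H ⊓ centralizer (V' : Set (X)) = ⊥ := by
    rw [eq_bot_iff]
    rintro h ⟨hh, hc⟩
    obtain ⟨x, -, rfl⟩ := hHmem h hh
    exact mem_bot.2 (hcentV x hc)
  have hHn : ∀ x : ↥L, psiL x ∈ normalizer (H : Set (X)) := fun x =>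
    mem_normalizer_fintype fun u hu => by
      obtain ⟨y, hy, rfl⟩ := hHmem u hu
      rw [SetLike.mem_coe, ← map_inv, ← map_mul, ← map_mul]
      have hLD : L ≤ normalizer (D : Set G) := hD ▸ le_normalizer_dOf
      exact hpsiD _ _ ((mem_normalizer_iff.1 (hLD x.2) y).1 hy)
  have hsol : Group.IsSolvable ↥H := by
    haveI : Group.IsSolvable ↥(D.subgroupOf L) := inferInstance
    rw [hH]
    exact solvable_of_surjective (psiL.subgroupMap_surjective (D.subgroupOf L))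
  have hO2 : pCore 2 ↥H = ⊥ := by
    obtain ⟨N, hN⟩ : ∃ N, N = ((pCoreOf 2 H).comap psiL).map L.subtype := ⟨_, rfl⟩
    have hNC : N ≤ cOf L := by
      refine s.le_cOf (hN ▸ map_subtype_le _) ?_ ?_ ?_
      · intro g hg
        refine mem_normalizer_fintype fun y hy => ?_
        rw [SetLike.mem_coe, hN] at hy ⊢
        obtain ⟨z, hz, rfl⟩ := hy
        refine ⟨⟨g, hg⟩ * z * ⟨g, hg⟩⁻¹, ?_, rfl⟩
        rw [SetLike.mem_coe, mem_comap, map_mul, map_mul, map_inv]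
        exact (mem_normalizer_iff.1 (normalizer_le_normalizer_pCoreOf H (hHn ⟨g, hg⟩)) _).1 hz
      · intro c hc
        rw [hN]
        refine ⟨⟨c, hc.1⟩, ?_, rfl⟩
        rw [SetLike.mem_coe, mem_comap, (psiL_eq_one_iff ⟨c, hc.1⟩).2 hc]
        exact one_mem _
      · intro x hx
        rw [hN] at hx
        obtain ⟨z, hz, rfl⟩ := hx
        obtain ⟨n, hn⟩ := pCoreOf_isPGroup H ⟨psiL z, hz⟩
        refine ⟨n, (psiL_eq_one_iff (z ^ 2 ^ n)).1 ?_⟩
        rw [map_pow]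
        simpa using congrArg Subtype.val hn
    rw [eq_bot_iff]
    intro h hh
    obtain ⟨x, -, hx⟩ := hHmem h h.2
    have hxN : (x : G) ∈ N := hN ▸ ⟨x, ⟨h, hh, hx.symm⟩, rfl⟩
    exact mem_bot.2 (Subtype.ext (hx.symm.trans ((psiL_eq_one_iff x).2 (hNC hxN))))
  have hS1 : centralizer (pPrimeCore 2 ↥H : Set ↥H) ≤ pPrimeCore 2 ↥H := by
    have hF : fittingSubgroup ↥H ≤ pPrimeCore 2 ↥H := by
      rw [Grp.fittingSubgroup_eq_iSup_pCore]
      refine iSup_le fun q => ?_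
      by_cases hq : (q : ℕ) = 2
      · rw [hq, hO2]; exact bot_le
      · haveI := Fact.mk q.2
        refine Grp.le_pPrimeCore Grp.pCore_isNormal ?_
        obtain ⟨k, hk⟩ := IsPGroup.iff_card.1 (Grp.pCore_isPGroup (p := (q : ℕ)) (G := ↥H))
        rw [hk]
        exact Nat.Coprime.pow_left k ((Nat.coprime_primes q.2 Nat.prime_two).2 hq)
    exact ((centralizer_le hF).trans Grp.centralizer_fittingSubgroup_le).trans hF
  -- images and fixed points of subgroups of `L`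
  obtain ⟨im, him⟩ : ∃ im : Subgroup G → Subgroup (X), ∀ B, im B = (B.subgroupOf L).map psiL :=
    ⟨_, fun B => rfl⟩
  have him_mem : ∀ (B : Subgroup G) (x : ↥L), (x : G) ∈ B → psiL x ∈ im B := fun B x hx =>
    him B ▸ ⟨x, hx, rfl⟩
  have him_cent : ∀ (B : Subgroup G), B ≤ L → ∀ v : ↥(vOf L),
      inlV v ∈ centralizer (im B : Set (X)) ↔ (v : G) ∈ centralizer (B : Set G) := by
    intro B hB v
    constructor
    · intro h
      refine mem_centralizer_iff.2 fun b hb => ?_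
      have h1 := mem_centralizer_iff.1 h _ (him_mem B ⟨b, hB hb⟩ hb)
      exact mul_inv_eq_iff_eq_mul.1 ((psiL_conj_eq_iff ⟨b, hB hb⟩ v).1 (mul_inv_eq_iff_eq_mul.2 h1))
    · intro h
      refine mem_centralizer_iff.2 ?_
      rw [him]
      rintro _ ⟨x, hx, rfl⟩
      exact mul_inv_eq_iff_eq_mul.1 ((psiL_conj_eq_iff x v).2
        (mul_inv_eq_iff_eq_mul.2 (mem_centralizer_iff.1 h x hx)))
  have hfixcard : ∀ B : Subgroup G, B ≤ L → Nat.card ↥(V' ⊓ centralizer (im B : Set (X))) =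
      Nat.card ↥(vOf L ⊓ centralizer (B : Set G)) := by
    intro B hB
    have h : V' ⊓ centralizer (im B : Set (X)) =
        ((vOf L ⊓ centralizer (B : Set G)).subgroupOf (vOf L)).map inlV := by
      ext u
      constructor
      · rintro ⟨hu, hc⟩
        rw [hV'] at hu
        obtain ⟨v, rfl⟩ := hu
        exact ⟨v, ⟨v.2, (him_cent B hB v).1 hc⟩, rfl⟩
      · rintro ⟨v, hv, rfl⟩
        exact ⟨hVmem v, (him_cent B hB v).2 hv.2⟩
    rw [h, card_map_of_injective hinlV,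
      Nat.card_congr (subgroupOfEquivOfLe inf_le_left).toEquiv]
  have himcard : ∀ B : Subgroup G, B ≤ L →
      Nat.card ↥(im B) * Nat.card ↥(cOf L ⊓ B : Subgroup G) = Nat.card ↥B := by
    intro B hB
    let g : ↥B →* X := psiL.comp (Subgroup.inclusion hB)
    have hrange : g.range = im B := by
      rw [him]
      ext u
      constructor
      · rintro ⟨b, rfl⟩; exact ⟨Subgroup.inclusion hB b, b.2, rfl⟩
      · rintro ⟨x, hx, rfl⟩; exact ⟨⟨x, hx⟩, rfl⟩
    have hker : g.ker = (cOf L ⊓ B).subgroupOf B := by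
      ext b
      rw [MonoidHom.mem_ker, mem_subgroupOf]
      exact ⟨fun h => ⟨(psiL_eq_one_iff _).1 h, b.2⟩, fun h => (psiL_eq_one_iff _).2 h.1⟩
    rw [← hrange, ← index_ker, mul_comm, ← Nat.card_congr (subgroupOfEquivOfLe inf_le_right).toEquiv, ← hker,
      card_mul_index]
  -- elementary abelian subgroups of largest order give best offenders
  have hoff : ∀ R : Subgroup G, vOf L ≤ R → R ≤ L → ∀ A, IsMaxEl 2 R A →
      Cfsg.IsBestOffenderOn 2 V' (im A) := by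
    intro R hVR hRL A hA
    have hAL : A ≤ L := hA.1.trans hRL
    refine ⟨fun B hB => ?_, commutator_le.2 fun a ha b hb => ?_, fun a ha => ?_⟩
    · obtain ⟨B₀, hB₀⟩ : ∃ B₀, B₀ = A ⊓ (B.comap psiL).map L.subtype := ⟨_, rfl⟩
      have hB₀A : B₀ ≤ A := hB₀ ▸ inf_le_left
      have hB₀L : B₀ ≤ L := hB₀A.trans hAL
      have himB : im B₀ = B := by
        rw [him]
        refine le_antisymm ?_ fun b hb => ?_
        · rintro _ ⟨x, hx, rfl⟩
          rw [SetLike.mem_coe, mem_subgroupOf, hB₀] at hx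
          obtain ⟨-, y, hy, he⟩ := hx
          rwa [← show y = x from Subtype.ext he]
        · have h := hB hb
          rw [him] at h
          obtain ⟨x, hx, rfl⟩ := h
          exact ⟨x, mem_subgroupOf.2 (hB₀ ▸ ⟨hx, x, hb, rfl⟩), rfl⟩
      have hkerB : cOf L ⊓ B₀ = cOf L ⊓ A := by
        refine le_antisymm (inf_le_inf_left _ hB₀A) fun x hx => ⟨hx.1, hB₀ ▸ ⟨hx.2, ⟨x, hx.1.1⟩, ?_, rfl⟩⟩
        rw [SetLike.mem_coe, mem_comap, (psiL_eq_one_iff ⟨x, hx.1.1⟩).2 hx.1]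
        exact one_mem _
      obtain ⟨F, hF⟩ : ∃ F, F = vOf L ⊓ centralizer (B₀ : Set G) := ⟨_, rfl⟩
      have hB₀F : B₀ ≤ centralizer (F : Set G) := fun b hb => mem_centralizer_iff.2 fun f hf =>
        ((mem_centralizer_iff.1 (hF ▸ hf : f ∈ vOf L ⊓ centralizer (B₀ : Set G)).2) b hb).symm
      have hN : B₀ ≤ normalizer (F : Set G) := hB₀F.trans (centralizer_le_normalizer _)
      have hel : (∀ x ∈ B₀ ⊔ F, ∀ y ∈ B₀ ⊔ F, x * y = y * x) ∧ ∀ x ∈ B₀ ⊔ F, x ^ 2 = 1 := by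
        have hm : ∀ x ∈ B₀ ⊔ F, ∃ b ∈ B₀, ∃ f ∈ F, b * f = x := fun x hx => by
          rwa [← SetLike.mem_coe, coe_mul_of_left_le_normalizer_right _ _ hN] at hx
        have hbf : ∀ b ∈ B₀, ∀ f ∈ F, Commute b f := fun b hb f hf =>
          (mem_centralizer_iff.1 (hB₀F hb) f hf).symm
        refine ⟨fun x hx y hy => ?_, fun x hx => ?_⟩
        · obtain ⟨u, hu, w, hw, rfl⟩ := hm x hx
          obtain ⟨u', hu', w', hw', rfl⟩ := hm y hy
          have h1 : Commute u u' := hA.2.1.1 u (hB₀A hu) u' (hB₀A hu')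
          have h4 : Commute w w' := vOf_comm (hF.le hw).1 (hF.le hw').1
          exact ((h1.mul_right (hbf u hu w' hw')).mul_left ((hbf u' hu' w hw).symm.mul_right h4)).eq
        · obtain ⟨u, hu, w, hw, rfl⟩ := hm x hx
          rw [(hbf u hu w hw).mul_pow, hA.2.1.2 u (hB₀A hu), pow_two, vOf_sq (hF.le hw).1, one_mul]
      have hsm := Grp.card_sup_mul_card_inf hN
      have h1 : Nat.card ↥(B₀ ⊔ F) ≤ Nat.card ↥A :=
        hA.2.2 _ (sup_le (hB₀A.trans hA.1) (hF ▸ inf_le_left.trans hVR)) hel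
      have h2 : Nat.card ↥(B₀ ⊓ F) ≤ Nat.card ↥(vOf L ⊓ centralizer (A : Set G)) :=
        card_le_of_le fun x hx => ⟨(hF.le hx.2).1, mem_centralizer_iff.2 fun a ha =>
          hA.2.1.1 a ha x (hB₀A hx.1)⟩
      have h3 : Nat.card ↥B₀ * Nat.card ↥F ≤ Nat.card ↥A * Nat.card ↥(vOf L ⊓ centralizer (A : Set G)) :=
        hsm ▸ Nat.mul_le_mul h1 h2
      rw [← himB, hfixcard B₀ hB₀L, hfixcard A hAL, ← hF]
      rw [← himcard B₀ hB₀L, ← himcard A hAL, hkerB] at h3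
      refine Nat.le_of_mul_le_mul_right ?_ (Nat.card_pos (α := ↥(cOf L ⊓ A : Subgroup G)))
      linarith
    · rw [him] at ha hb
      obtain ⟨x, hx, rfl⟩ := ha
      obtain ⟨y, hy, rfl⟩ := hb
      rw [← map_commutatorElement, show ⁅x, y⁆ = 1 from commutatorElement_eq_one_iff_mul_comm.2
        (Subtype.ext (hA.2.1.1 _ hx _ hy)), map_one]
      exact one_mem _
    · rw [him] at ha
      obtain ⟨x, hx, rfl⟩ := ha
      rw [← map_pow, show x ^ 2 = 1 from Subtype.ext (by simpa using hA.2.1.2 _ hx), map_one]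
      exact one_mem _
  have hVT : ∀ x ∈ L, vOf L ≤ T.map (MulAut.conj x).toMonoidHom := fun x hx =>
    vOf_le_Q.trans (normal_le_sylowIn (isSylowTwoIn_conj s.syl hx) (pCoreOf_isPGroup L) (pCoreOf_le L)
      (le_normalizer_pCoreOf L))
  have himle : ∀ B, B ≤ D → im B ≤ H := fun B hB => by
    rw [him]
    rintro _ ⟨x, hx, rfl⟩
    exact hpsiD x x.2 (hB hx)
  have hAD : ∀ A, IsMaxEl 2 T A → A ≤ D := fun A hA => hD ▸ hA.le_thompsonEl.trans J_le_dOf
  have hS3 : H = ⨆ A : {A : Subgroup (X) // A ≤ H ∧ Cfsg.IsBestOffenderOn 2 V' A}, (A : Subgroup (X)) := by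
    obtain ⟨K, hK⟩ : ∃ K, K = ⨆ A : {A : Subgroup (X) // A ≤ H ∧ Cfsg.IsBestOffenderOn 2 V' A},
        (A : Subgroup (X)) := ⟨_, rfl⟩
    rw [← hK]
    refine le_antisymm ?_ (hK ▸ iSup_le fun A => A.2.1)
    obtain ⟨M, hM⟩ : ∃ M, M = (K.comap psiL).map L.subtype := ⟨_, rfl⟩
    have hDM : D ≤ M := by
      rw [hD]
      refine (closure_le _).2 ?_
      rintro _ ⟨x, hx, j, hj, rfl⟩
      have hle : thompsonSubgroupOf 2 T ≤ M.comap (MulAut.conj x).toMonoidHom := by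
        refine thompsonEl_le_of fun A hA a ha => ?_
        have hA' := hA.map (MulAut.conj x).toMonoidHom fun y _ hy =>
          (MulAut.conj x).injective (hy.trans (map_one _).symm)
        have hTL : T.map (MulAut.conj x).toMonoidHom ≤ L := (isSylowTwoIn_conj s.syl hx).1
        have hoA := hoff _ (hVT x hx) hTL _ hA'
        have hle : im (A.map (MulAut.conj x).toMonoidHom) ≤ H := himle _ (by
          rintro _ ⟨y, hy, rfl⟩
          exact (mem_normalizer_iff.1 ((hD ▸ le_normalizer_dOf : L ≤ normalizer (D : Set G)) hx) y).1 (hAD A hA hy))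
        have hxa : x * a * x⁻¹ ∈ L := mul_mem (mul_mem hx (hA.1.trans s.T_le ha)) (inv_mem hx)
        rw [mem_comap, hM]
        exact ⟨⟨_, hxa⟩, hK ▸ le_iSup (fun A : {A : Subgroup (X) // A ≤ H ∧
          Cfsg.IsBestOffenderOn 2 V' A} => (A : Subgroup (X))) ⟨_, hle, hoA⟩
            (him_mem _ ⟨_, hxa⟩ ⟨a, ha, rfl⟩), rfl⟩
      exact hle hj
    intro h hh
    obtain ⟨x, hx, rfl⟩ := hHmem h hh
    have := hDM hx
    rw [hM] at this
    obtain ⟨y, hy, he⟩ := this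
    rwa [← show y = x from Subtype.ext he]
  have hH1 : H ≠ ⊥ := fun h => s.not_J_le_cOf fun j hj => (psiL_eq_one_iff ⟨j, s.J_le hj⟩).1
    (mem_bot.1 (h ▸ hpsiD j (s.J_le hj) (hD ▸ J_le_dOf hj)))
  -- the structure theorem
  obtain ⟨-, hE, -, -, hind, hdec⟩ := S0617.result V' H hV hHV hf hS1 hS3 hH1
  let P : Subgroup (X) → Prop := fun E => ∃ A : Subgroup (X), A ≤ H ∧
    Cfsg.IsBestOffenderOn 2 V' A ∧ ⁅V', A⁆ ≠ ⊥ ∧
    (∀ B : Subgroup (X), B ≤ A → Cfsg.IsBestOffenderOn 2 V' B → ⁅V', B⁆ ≠ ⊥ → B = A) ∧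
    E = ⁅((Cfsg.pPrimeCore 2 ↥H).map H.subtype), A⁆ ⊔ A
  have hind₂ := indep_option (P := P) (c := V' ⊓ centralizer (H : Set X)) (f := fun E => ⁅V', E⁆) hind
  have hdec₂ : V' ≤ (V' ⊓ centralizer (H : Set X)) ⊔ ⨆ F, ⨆ (_ : P F), ⁅V', F⁆ :=
    hdec.ge.trans (sup_le_sup le_rfl (iSup_le fun F => le_iSup₂_of_le F.1 F.2 le_rfl))
  clear hind
  have hEH : ∀ E, P E → E ≤ H := by
    rintro E ⟨A, hA, -, -, -, rfl⟩
    refine sup_le (commutator_le.2 fun q hq a ha => ?_) hA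
    have hqH : q ∈ H := map_subtype_le _ hq
    rw [commutatorElement_def]
    exact mul_mem (mul_mem (mul_mem hqH (hA ha)) (inv_mem hqH)) (inv_mem (hA ha))
  have hUV : ∀ E, P E → ⁅V', E⁆ ≤ V' := fun E hE' => by
    refine commutator_le.2 fun v hv e he => ?_
    rw [commutatorElement_def, show v * e * v⁻¹ * e⁻¹ = v * (e * v⁻¹ * e⁻¹) by group]
    exact mul_mem hv ((mem_normalizer_iff.1 (hHV (hEH E hE' he)) _).1 (inv_mem hv))
  have hUn : ∀ E, P E → ∀ h ∈ H, h ∈ normalizer ((⁅V', E⁆ : Subgroup (X)) : Set (X)) := fun E hE' h hh => by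
    refine mem_normalizer_of_map_eq ?_
    rw [map_commutator, map_conj_eq_self (hHV hh), map_conj_eq_self ((hE ⟨E, hE'⟩).1 hh)]
  have hdown : ∀ (U : Subgroup (X)) (v : ↥(vOf L)),
      (v : G) ∈ downV inlV U ↔ inlV v ∈ U := fun U v =>
    ⟨fun ⟨w, hw, e⟩ => by rwa [← show w = v from Subtype.ext e], fun h => ⟨v, h, rfl⟩⟩
  have hUcard : ∀ U : Subgroup (X), U ≤ V' → Nat.card ↥(downV inlV U) = Nat.card ↥U := by
    intro U hU
    unfold downV
    rw [card_map_of_injective (vOf L).subtype_injective, ← card_map_of_injective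
      hinlV (K := U.comap inlV), map_comap_eq, inf_eq_right.2]
    exact hV' ▸ hU
  have hWcard : ∀ E, P E → Nat.card ↥(downV inlV ⁅V', E⁆) = 4 := fun E hE' =>
    (hUcard _ (hUV E hE')).trans ((hE ⟨E, hE'⟩).2.2)
  have hWcent : ∀ E, P E → ∀ x : ↥L, ((x : G) ∈ centralizer (downV inlV ⁅V', E⁆ : Set G) ↔
      psiL x ∈ centralizer ((⁅V', E⁆ : Subgroup (X)) : Set (X))) := by
    intro E hE' x
    constructor
    · intro h
      refine mem_centralizer_iff.2 fun u hu => ?_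
      have hu' := hUV E hE' hu
      rw [hV'] at hu'
      obtain ⟨v, rfl⟩ := hu'
      exact (mul_inv_eq_iff_eq_mul.1 ((psiL_conj_eq_iff x v).2 (mul_inv_eq_iff_eq_mul.2
        (mem_centralizer_iff.1 h v ((hdown _ v).2 hu)).symm))).symm
    · intro h
      refine mem_centralizer_iff.2 fun w hw => ?_
      have hwV : w ∈ vOf L := map_subtype_le _ hw
      exact (mul_inv_eq_iff_eq_mul.1 ((psiL_conj_eq_iff x ⟨w, hwV⟩).1 (mul_inv_eq_iff_eq_mul.2
        (mem_centralizer_iff.1 h _ ((hdown _ ⟨w, hwV⟩).1 hw)).symm))).symm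
  have hpair : ∀ E F, P E → P F → E ≠ F → F ≤ centralizer ((⁅V', E⁆ : Subgroup (X)) : Set (X)) := by
    intro E F hE' hF' hne
    rw [← commutator_eq_bot_iff_le_centralizer, eq_bot_iff]
    refine commutator_le.2 fun f hf u hu => ?_
    have h1 : ⁅f, u⁆ ∈ ⁅V', E⁆ := by
      rw [commutatorElement_def]
      exact mul_mem ((mem_normalizer_iff.1 (hUn E hE' f (hEH F hF' hf)) u).1 hu) (inv_mem hu)
    have h2 : ⁅f, u⁆ ∈ ⁅V', F⁆ := by
      rw [commutator_comm]
      exact commutator_mem_commutator hf (hUV E hE' hu)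
    exact (hind₂ E hE').2.le_bot ⟨h1, mem_iSup_of_mem F (mem_iSup_of_mem hF' (mem_iSup_of_mem hne.symm h2))⟩
  obtain ⟨Ws, hWs⟩ : ∃ Ws : Set (Subgroup G), Ws = {W | ∃ E, P E ∧ W = downV inlV ⁅V', E⁆} := ⟨_, rfl⟩
  have hmemWs : ∀ W, W ∈ Ws ↔ ∃ E, P E ∧ W = downV inlV ⁅V', E⁆ := fun W => by rw [hWs]; exact Iff.rfl
  have hcentD : ∀ v : ↥(vOf L), (v : G) ∈ centralizer (D : Set G) ↔
      inlV v ∈ centralizer (H : Set (X)) := fun v => by
    rw [← him_cent D hDL v, him, hH]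
  have hne : ∀ E, P E → ⁅V', E⁆ ≠ ⊥ := fun E hE' h => by
    have := (hE ⟨E, hE'⟩).2.2
    rw [h, card_bot] at this
    norm_num at this
  have hdisj : ∀ E, P E → ∀ u ∈ ⁅V', E⁆, u ∈ centralizer (H : Set (X)) → u = 1 := fun E hE' u hu hc =>
    mem_bot.1 ((hind₂ E hE').1.le_bot ⟨⟨hUV E hE' hu, hc⟩, hu⟩)
  refine ⟨Ws, ⟨?_, ?_, ?_, ?_, ?_, ?_, ?_, ?_, ?_⟩⟩
  · by_contra hcon
    rw [Set.not_nonempty_iff_eq_empty, Set.eq_empty_iff_forall_notMem] at hcon
    have hd : V' ⊓ centralizer (H : Set (X)) = V' := le_antisymm inf_le_left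
      (hdec₂.trans (sup_le le_rfl (iSup₂_le fun E hE' => absurd ((hmemWs _).2 ⟨E, hE', rfl⟩) (hcon _))))
    refine hH1 (le_bot_iff.1 (hf ▸ le_inf le_rfl ?_))
    intro h hh
    exact mem_centralizer_iff.2 fun v hv => ((mem_centralizer_iff.1 (hd.ge hv).2) h hh).symm
  · intro W hW
    obtain ⟨E, hE', rfl⟩ := (hmemWs W).1 hW
    exact hWcard E hE'
  · intro W hW
    obtain ⟨E, -, rfl⟩ := (hmemWs W).1 hW
    exact map_subtype_le _
  · intro W hW W' hW' W'' hW'' h1 h2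
    obtain ⟨E, hE', rfl⟩ := (hmemWs W).1 hW
    obtain ⟨E', hE'', rfl⟩ := (hmemWs W').1 hW'
    obtain ⟨F, hF, rfl⟩ := (hmemWs W'').1 hW''
    rw [eq_bot_iff]
    rintro x ⟨hx, hx'⟩
    have hle : downV inlV ⁅V', E'⁆ ⊔ downV inlV ⁅V', F⁆ ≤ downV inlV (⁅V', E'⁆ ⊔ ⁅V', F⁆) :=
      sup_le (map_mono (comap_mono le_sup_left)) (map_mono (comap_mono le_sup_right))
    have hxV : x ∈ vOf L := map_subtype_le _ hx
    have hsup : ⁅V', E'⁆ ⊔ ⁅V', F⁆ ≤ ⨆ F, ⨆ (_ : P F), ⨆ (_ : F ≠ E), ⁅V', F⁆ := sup_le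
      (le_iSup_of_le E' (le_iSup₂_of_le hE'' (fun e => h1 (by rw [e])) le_rfl))
      (le_iSup_of_le F (le_iSup₂_of_le hF (fun e => h2 (by rw [e])) le_rfl))
    have h3 : inlV ⟨x, hxV⟩ ∈ (⊥ : Subgroup X) := (hind₂ E hE').2.le_bot
      ⟨(hdown _ ⟨x, hxV⟩).1 hx, hsup ((hdown _ ⟨x, hxV⟩).1 (hle hx'))⟩
    rw [mem_bot, map_eq_one_iff _ hinlV] at h3
    exact mem_bot.2 (congrArg Subtype.val h3)
  · intro W hW
    obtain ⟨E, hE', rfl⟩ := (hmemWs W).1 hW
    rw [eq_bot_iff]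
    rintro x ⟨hx, hc⟩
    have hxV : x ∈ vOf L := map_subtype_le _ hx
    have := hdisj E hE' _ ((hdown _ ⟨x, hxV⟩).1 hx) ((hcentD ⟨x, hxV⟩).1 (hD ▸ hc))
    rw [map_eq_one_iff _ hinlV] at this
    exact mem_bot.2 (congrArg Subtype.val this)
  · intro v hv
    have hm : (inlV ⟨v, hv⟩ : X) ∈
        (((vOf L ⊓ centralizer (dOf T L : Set G)) ⊔ sSup Ws).subgroupOf (vOf L)).map inlV := by
      have h := hdec₂ (hVmem ⟨v, hv⟩)
      refine SetLike.le_def.1 (sup_le ?_ (iSup₂_le fun E hE' => ?_)) h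
      · rintro u ⟨hu, hc⟩
        rw [hV'] at hu
        obtain ⟨w, rfl⟩ := hu
        exact ⟨w, mem_sup_left ⟨w.2, hD ▸ (hcentD w).2 hc⟩, rfl⟩
      · intro u hu
        have hu' := hUV E hE' hu
        rw [hV'] at hu'
        obtain ⟨w, rfl⟩ := hu'
        exact ⟨w, mem_sup_right (mem_sSup_of_mem ((hmemWs _).2 ⟨E, hE', rfl⟩) ((hdown _ w).2 hu)), rfl⟩
    obtain ⟨w, hw, he⟩ := hm
    have := hinlV he
    subst this
    exact hw
  · intro W hW d hd
    obtain ⟨E, hE', rfl⟩ := (hmemWs W).1 hW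
    have hdD : d ∈ D := hD ▸ hd
    refine mem_normalizer_fintype fun w hw => ?_
    obtain ⟨v, hv, rfl⟩ := hw
    refine ⟨act L ⟨d, hDL hdD⟩ v, ?_, rfl⟩
    rw [SetLike.mem_coe, mem_comap, ← psiL_conj]
    exact (mem_normalizer_iff.1 (hUn E hE' _ (hpsiD d (hDL hdD) hdD)) _).1 hv
  · intro W hW
    obtain ⟨E, hE', rfl⟩ := (hmemWs W).1 hW
    -- some member of `J(T)` moves the four-group
    obtain ⟨A, hA, a, ha, haW⟩ : ∃ A, IsMaxEl 2 T A ∧ ∃ a ∈ A, a ∉ centralizer (downV inlV ⁅V', E⁆ : Set G) := by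
      by_contra hcon
      push Not at hcon
      have hJc : thompsonSubgroupOf 2 T ≤ centralizer (downV inlV ⁅V', E⁆ : Set G) :=
        thompsonEl_le_of hcon
      have hDc : D ≤ centralizer (downV inlV ⁅V', E⁆ : Set G) := by
        rw [hD]
        refine (closure_le _).2 ?_
        rintro g ⟨x, hx, j, hj, rfl⟩
        obtain ⟨d, hd, he⟩ := s.conj_J_le hx
        obtain ⟨j', hj', hjj⟩ := he.le ⟨j, hj, rfl⟩
        have hjj' : d * j' * d⁻¹ = x * j * x⁻¹ := hjj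
        rw [← hjj']
        have hdD : d ∈ D := hD ▸ hd
        refine mem_centralizer_iff.2 fun w hw => ?_
        have hn : d ∈ normalizer (downV inlV ⁅V', E⁆ : Set G) := by
          refine mem_normalizer_fintype fun y hy => ?_
          obtain ⟨v, hv, rfl⟩ := hy
          refine ⟨act L ⟨d, hDL hdD⟩ v, ?_, rfl⟩
          rw [SetLike.mem_coe, mem_comap, ← psiL_conj]
          exact (mem_normalizer_iff.1 (hUn E hE' _ (hpsiD d (hDL hdD) hdD)) _).1 hv
        have h := mem_centralizer_iff.1 (hJc hj') _ ((mem_normalizer_iff''.1 hn w).1 hw)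
        calc w * (d * j' * d⁻¹) = d * ((d⁻¹ * w * d) * j') * d⁻¹ := by group
          _ = d * (j' * (d⁻¹ * w * d)) * d⁻¹ := by rw [h]
          _ = d * j' * d⁻¹ * w := by group
      refine hne E hE' ((Subgroup.eq_bot_iff_forall _).2 fun u hu => hdisj E hE' u hu ?_)
      refine mem_centralizer_iff.2 fun h hh => ?_
      obtain ⟨x, hx, rfl⟩ := hHmem h hh
      exact ((mem_centralizer_iff.1 ((hWcent E hE' x).1 (hDc hx))) u hu).symm
    have hAL : A ≤ L := hA.1.trans s.T_le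
    have haE : psiL ⟨a, hAL ha⟩ ∉ centralizer ((⁅V', E⁆ : Subgroup (X)) : Set (X)) := fun h =>
      haW ((hWcent E hE' _).2 h)
    have himA : im A ≠ ⊥ := fun h => haE (by
      rw [show psiL ⟨a, hAL ha⟩ = 1 from mem_bot.1 (h ▸ him_mem A ⟨a, hAL ha⟩ ha)]; exact one_mem _)
    have hoA := hoff T (map_conj_one T ▸ hVT 1 (one_mem L)) s.T_le A hA
    obtain ⟨k, B, hB, -, hBs⟩ := S0612.result V' H hV hHV hf hS1 hS3 hH1 (im A) (himle A (hAD A hA)) hoA himA
    obtain ⟨i, hi⟩ : ∃ i, ¬ B i ≤ centralizer ((⁅V', E⁆ : Subgroup (X)) : Set (X)) := by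
      by_contra hcon
      push Not at hcon
      exact haE (iSup_le hcon (hBs.symm ▸ him_mem A ⟨a, hAL ha⟩ ha))
    obtain ⟨hBA, hBo, hBn, hBmin⟩ := hB i
    have hPB : P (⁅((Cfsg.pPrimeCore 2 ↥H).map H.subtype), B i⁆ ⊔ B i) :=
      ⟨B i, hBA.trans (himle A (hAD A hA)), hBo, hBn, hBmin, rfl⟩
    have hEB : ⁅((Cfsg.pPrimeCore 2 ↥H).map H.subtype), B i⁆ ⊔ B i = E := by
      by_contra hcon
      exact hi (le_sup_right.trans (hpair E _ hE' hPB (Ne.symm hcon)))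
    obtain ⟨b, hb, hbE⟩ := SetLike.not_le_iff_exists.1 hi
    have hb' := hBA hb
    rw [him] at hb'
    obtain ⟨x, hx, hxb⟩ := hb'
    refine ⟨x, hA.le_thompsonEl hx, by simpa [pow_two] using hA.2.1.2 _ hx,
      fun h => hbE (hxb ▸ (hWcent E hE' x).1 h), fun W' hW' hne' => ?_⟩
    obtain ⟨F, hF, rfl⟩ := (hmemWs W').1 hW'
    refine (hWcent F hF x).2 (hxb.symm ▸ hpair F E hF hE' (fun e => hne' (by rw [e])) ?_)
    rw [← hEB]
    exact mem_sup_right hb
  · intro W hW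
    obtain ⟨E, hE', rfl⟩ := (hmemWs W).1 hW
    obtain ⟨eS⟩ := (hE ⟨E, hE'⟩).2.1
    have h6 : Nat.card ↥E = 6 := by
      rw [Nat.card_congr eS.toEquiv, Nat.card_eq_fintype_card]
      decide
    obtain ⟨e, he⟩ := exists_prime_orderOf_dvd_card' (G := ↥E) 3 (by rw [h6]; norm_num)
    obtain ⟨x, hx, hxe⟩ := hHmem _ (hEH E hE' e.2)
    obtain ⟨n, m, hm, hord, hodd⟩ := exists_two_pow_mul_odd (x : G)
    have hne' : psiL (x ^ 2 ^ n) ≠ 1 := by
      rw [map_pow, hxe, ← SubmonoidClass.coe_pow]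
      intro h
      have h' : e ^ 2 ^ n = 1 := Subtype.ext h
      have h3 : Nat.Coprime 3 (2 ^ n) := Nat.Coprime.pow_right n (by norm_num)
      exact absurd (Nat.eq_one_of_dvd_coprimes h3 (he ▸ dvd_rfl) (orderOf_dvd_of_pow_eq_one h')) (by omega)
    have hpE : psiL (x ^ 2 ^ n) ∈ E := by
      rw [map_pow, hxe]; exact pow_mem e.2 _
    have hcW : ((x ^ 2 ^ n : ↥L) : G) ∉ centralizer (downV inlV ⁅V', E⁆ : Set G) := by
      intro hc
      refine hne' (hcentV _ (mem_centralizer_iff.2 fun v hv => ?_))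
      have hle : (V' ⊓ centralizer (H : Set (X))) ⊔ (⨆ F, ⨆ (_ : P F), ⁅V', F⁆) ≤
          centralizer ({psiL (x ^ 2 ^ n)} : Set (X)) := by
        refine sup_le (fun u hu => mem_centralizer_iff.2 fun g hg => ?_) (iSup₂_le fun F hF u hu =>
          mem_centralizer_iff.2 fun g hg => ?_)
        · rw [Set.mem_singleton_iff.1 hg]
          exact mem_centralizer_iff.1 hu.2 _ (hEH E hE' hpE)
        · rw [Set.mem_singleton_iff.1 hg]
          by_cases hFE : F = E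
          · rw [hFE] at hu
            exact ((mem_centralizer_iff.1 ((hWcent E hE' _).1 hc)) u hu).symm
          · exact ((mem_centralizer_iff.1 (hpair F E hF hE' hFE hpE)) u hu).symm
      exact (mem_centralizer_iff.1 (hle (hdec₂ hv)) _ rfl).symm
    refine ⟨(x ^ 2 ^ n : ↥L), ?_, ?_, hcW, fun W' hW' hne'' => ?_⟩
    · rw [SubmonoidClass.coe_pow, ← hD]; exact pow_mem hx _
    · refine ev_of_odd (hWcard E hE') ?_ (by rwa [SubmonoidClass.coe_pow])
      refine mem_normalizer_fintype fun y hy => ?_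
      obtain ⟨v, hv, rfl⟩ := hy
      refine ⟨act L (x ^ 2 ^ n) v, ?_, rfl⟩
      rw [SetLike.mem_coe, mem_comap, ← psiL_conj]
      exact (mem_normalizer_iff.1 (hUn E hE' _ (hEH E hE' hpE)) _).1 hv
    · obtain ⟨F, hF, rfl⟩ := (hmemWs W').1 hW'
      exact (hWcent F hF _).2 (hpair F E hF hE' (fun e => hne'' (by rw [e])) hpE)

theorem Sit.exists_frame [Finite G] {T L : Subgroup G} (s : Sit T L) :
    ∃ Ws, IsFrame T L Ws := by
  haveI : Finite (MulAut ↥(vOf L)) := Finite.of_injective _ MulEquiv.toEquiv_injective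
  haveI : Finite (Amb L) := Finite.of_equiv _ SemidirectProduct.equivProd.symm
  exact s.exists_frame_aux (X := Amb L) SemidirectProduct.inl SemidirectProduct.inl_injective (psi L)
    psi_conj psi_eq_one_iff

end Cfsg.Agent.Invol.JComp
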