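import Mathlib

/-!
Facts about permutations of three and four points.
-/

set_option autoImplicit false

namespace Cfsg.Agent.Invol.JComp

theorem stab_mul : ∀ σ τ : Equiv.Perm (Fin 4), σ 0 = 0 → τ 0 = 0 →
    (Equiv.Perm.decomposeFin (σ * τ)).2 =
      (Equiv.Perm.decomposeFin σ).2 * (Equiv.Perm.decomposeFin τ).2 := by decide

theorem stab_one : ∀ σ : Equiv.Perm (Fin 4), σ 0 = 0 →
    ((Equiv.Perm.decomposeFin σ).2 = 1 ↔ σ = 1) := by decide

set_option maxRecDepth 20000 in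
theorem perm3_two : ∀ a : Equiv.Perm (Fin 3), a * a = 1 →
    (∀ b, (b * a * b⁻¹ * a) * (b * a * b⁻¹ * a) = 1) → a = 1 := by decide

set_option maxRecDepth 20000 in
theorem perm4_two : ∀ a : Equiv.Perm (Fin 4), a ^ 8 = 1 → (∀ b, (b * a * b⁻¹ * a) ^ 8 = 1) →
    a = 1 ∨ a = Equiv.swap 0 1 * Equiv.swap 2 3 ∨ a = Equiv.swap 0 2 * Equiv.swap 1 3 ∨
      a = Equiv.swap 0 3 * Equiv.swap 1 2 := by decide

theorem perm4_klein : ∀ a b : Equiv.Perm (Fin 4),
    a ∈ [1, Equiv.swap 0 1 * Equiv.swap 2 3, Equiv.swap 0 2 * Equiv.swap 1 3, Equiv.swap 0 3 * Equiv.swap 1 2] →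
    b ∈ [1, Equiv.swap 0 1 * Equiv.swap 2 3, Equiv.swap 0 2 * Equiv.swap 1 3, Equiv.swap 0 3 * Equiv.swap 1 2] →
    a * b = b * a ∧ a * a = 1 := by
  intro a b ha hb
  simp only [List.mem_cons, List.not_mem_nil, or_false] at ha hb
  rcases ha with rfl | rfl | rfl | rfl <;> rcases hb with rfl | rfl | rfl | rfl <;>
    refine ⟨?_, ?_⟩ <;> decide

end Cfsg.Agent.Invol.JComp
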