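import Cfsg.Agent.Lib.Invol.JCompCenter
import Cfsg.Agent.Lib.Invol.S4AmalgamPair
import Cfsg.Agent.Lib.Invol.JCompPerm

/-!
Pairs of components with different maximal overgroups: the amalgam of `⟨K₁, T⟩` and `⟨K₂, T⟩`.
-/

set_option autoImplicit false

open scoped commutatorElement Classical

namespace Cfsg.Agent.Invol.JComp

open Subgroup

variable {G : Type*} [Group G] [Finite G]

/-- The action on the three involutions of a four-group. -/
theorem exists_hom3 {X W : Subgroup G} (h4 : Nat.card ↥W = 4) (hX : X ≤ normalizer (W : Set G)) :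
    ∃ ψ : ↥X →* Equiv.Perm (Fin 3), ψ.ker = (centralizer (W : Set G)).subgroupOf X := by
  obtain ⟨φ, h0, h1, -⟩ := exists_perm' h4
  refine ⟨MonoidHom.mk' (fun x => (Equiv.Perm.decomposeFin (φ (inclusion hX x))).2) fun x y => by
    simp only [map_mul]
    exact stab_mul _ _ (h0 _) (h0 _), ?_⟩
  ext x
  rw [MonoidHom.mem_ker, mem_subgroupOf, MonoidHom.mk'_apply, stab_one _ (h0 _), h1]
  rfl

theorem orderOf_two_pow_dvd {H : Type*} [Group H] {a : H} {n N : ℕ} (h : a ^ 2 ^ n = 1) (hN : orderOf a ∣ N)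
    (k : ℕ) (hk : ∀ j, 2 ^ j ∣ N → j ≤ k) : a ^ 2 ^ k = 1 := by
  obtain ⟨j, -, hj⟩ := (Nat.dvd_prime_pow Nat.prime_two).1 (orderOf_dvd_of_pow_eq_one h)
  exact orderOf_dvd_iff_pow_eq_one.1 (hj ▸ Nat.pow_dvd_pow 2 (hk j (hj ▸ hN)))

/-- A component, its overgroup, and `T` normalizing the component. -/
structure Good (T K L : Subgroup G) : Prop where
  hyp : Hyp G
  sit : Sit T L
  comp : IsJComponent T K
  le : K ≤ L
  norm : T ≤ normalizer (K : Set G)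
  max : IsMaximalTwoLocal L
  ov : ∀ X : Subgroup G, IsTwoLocal X → K ≤ X → thompsonSubgroupOf 2 T ≤ X → X ≤ L

section
variable {T K L : Subgroup G}

theorem Good.T_two (g : Good T K L) : IsPGroup 2 ↥T := g.sit.T_two

theorem Good.P_le (g : Good T K L) : K ⊔ T ≤ L := sup_le g.le g.sit.T_le

theorem Good.T_ne (g : Good T K L) : T ≠ ⊥ := fun h => g.sit.mem.2.1 (by
  rw [le_bot_iff.1 ((thompsonEl_le T).trans h.le)]; exact bot_le)

theorem Good.P_le_normalizer (g : Good T K L) : K ⊔ T ≤ normalizer (K : Set G) := sup_le le_normalizer g.norm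

theorem Good.P_le_normalizer_wOf (g : Good T K L) : K ⊔ T ≤ normalizer (wOf K : Set G) :=
  g.P_le_normalizer.trans (normalizer_le_normalizer_wOf K)

theorem Good.syl (g : Good T K L) : IsSylowTwoIn T (K ⊔ T) := by
  refine ⟨le_sup_right, g.T_two, ?_⟩
  have h := relIndex_mul_relIndex T (K ⊔ T) L le_sup_right g.P_le
  exact (Nat.odd_mul.1 (h ▸ g.sit.syl.2.2)).1

theorem Good.card_P_dvd (g : Good T K L) : Nat.card ↥(K ⊔ T) ∣ 3 * Nat.card ↥T := by
  have h := Grp.card_sup_mul_card_inf g.norm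
  rw [sup_comm T K, inf_comm T K] at h
  have hOT : pCoreOf 2 K ≤ T := normal_le_sylowIn g.syl (pCoreOf_isPGroup K) ((pCoreOf_le K).trans le_sup_left)
    (g.P_le_normalizer.trans (normalizer_le_normalizer_pCoreOf K))
  have hK : Nat.card ↥K = Nat.card ↥(pCoreOf 2 K) * 3 := by
    rw [← g.comp.2.2.1, relIndex, ← Nat.card_congr (subgroupOfEquivOfLe (pCoreOf_le K)).toEquiv, card_mul_index]
  obtain ⟨m, hm⟩ := card_dvd_of_le (le_inf (pCoreOf_le K) hOT : pCoreOf 2 K ≤ K ⊓ T)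
  refine ⟨m, Nat.eq_of_mul_eq_mul_right (Nat.card_pos (α := ↥(pCoreOf 2 K))) ?_⟩
  calc 3 * Nat.card ↥T * Nat.card ↥(pCoreOf 2 K) = Nat.card ↥(K ⊔ T) * Nat.card ↥(K ⊓ T) := by
        rw [h, hK]; ring
    _ = Nat.card ↥(K ⊔ T) * m * Nat.card ↥(pCoreOf 2 K) := by rw [hm]; ring

theorem Good.exists_iso (g : Good T K L) :
    ∃ ψ : ↥(K ⊔ T) →* Equiv.Perm (Fin 3), Function.Surjective ψ ∧ ψ.ker = pCore 2 ↥(K ⊔ T) ∧
      ∀ x, ψ x = 1 ↔ (x : G) ∈ centralizer (wOf K : Set G) := by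
  haveI := Fact.mk Nat.prime_two
  obtain ⟨P, hP⟩ : ∃ P, P = K ⊔ T := ⟨_, rfl⟩
  have hKP : K ≤ P := hP ▸ le_sup_left
  have hTP : T ≤ P := hP ▸ le_sup_right
  have hsyl := g.syl
  have hdvd := g.card_P_dvd
  have hNW := g.P_le_normalizer_wOf
  rw [← hP] at hsyl hdvd hNW ⊢
  have h4 := g.comp.2.2.2.2.1
  obtain ⟨ψ, hψ⟩ := exists_hom3 h4 hNW
  have hmem : ∀ x : ↥P, ψ x = 1 ↔ (x : G) ∈ centralizer (wOf K : Set G) := fun x => by
    rw [← MonoidHom.mem_ker, hψ, mem_subgroupOf]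
  obtain ⟨k, hk, hko, hkW⟩ := comp_exists_odd g.comp
  have hcardS : Nat.card (Equiv.Perm (Fin 3)) = 6 := by
    rw [Nat.card_perm, Nat.card_fin]; rfl
  have h3 : 3 ∣ Nat.card ↥ψ.range := by
    have ho : orderOf (ψ ⟨k, hKP hk⟩) ∣ 6 := hcardS ▸ orderOf_dvd_natCard _
    have ho' : Odd (orderOf (ψ ⟨k, hKP hk⟩)) := hko.of_dvd_nat (by
      have := orderOf_map_dvd ψ ⟨k, hKP hk⟩
      rwa [orderOf_mk k (hKP hk)] at this)
    have h1 : orderOf (ψ ⟨k, hKP hk⟩) ≠ 1 := fun e => hkW ((hmem _).1 (orderOf_eq_one_iff.1 e))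
    have h6 : ∀ d : ℕ, d ∣ 6 → d = 1 ∨ d = 2 ∨ d = 3 ∨ d = 6 := fun d hd => by
      have hle := Nat.le_of_dvd (by norm_num) hd
      interval_cases d <;> omega
    have hd := h6 _ ho
    have hrng := orderOf_dvd_natCard (⟨ψ ⟨k, hKP hk⟩, _, rfl⟩ : ↥ψ.range)
    rw [← Subgroup.orderOf_coe] at hrng
    rcases hd with e | e | e | e <;> rw [e] at h1 ho' hrng
    · exact absurd rfl h1
    · exact absurd ho' (by decide)
    · exact hrng
    · exact absurd ho' (by decide)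
  have h2 : 2 ∣ Nat.card ↥ψ.range := by
    obtain ⟨Ws, f⟩ := g.sit.exists_frame
    obtain ⟨W, c⟩ := g.sit.compData f g.comp g.le
    obtain ⟨t, ht, ht2, htW, -⟩ := f.iso W c.mem
    rw [← c.w_eq] at htW
    have htP : t ∈ P := hTP ((thompsonEl_le T) ht)
    have hne : ψ ⟨t, htP⟩ ≠ 1 := fun e => htW ((hmem _).1 e)
    have ho : orderOf (ψ ⟨t, htP⟩) = 2 := orderOf_eq_prime (by
      rw [← map_pow, show (⟨t, htP⟩ : ↥P) ^ 2 = 1 from Subtype.ext (by rw [pow_two]; exact ht2), map_one]) hne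
    have hrng := orderOf_dvd_natCard (⟨ψ ⟨t, htP⟩, _, rfl⟩ : ↥ψ.range)
    rwa [← Subgroup.orderOf_coe, ho] at hrng
  have hrange : ψ.range = ⊤ := eq_top_of_card_eq _ (by
    have hle : Nat.card ↥ψ.range ∣ 6 := hcardS ▸ card_subgroup_dvd_card ψ.range
    rw [hcardS]
    exact Nat.dvd_antisymm hle (Nat.Coprime.mul_dvd_of_dvd_of_dvd (by norm_num : Nat.Coprime 2 3) h2 h3))
  have hsurj : Function.Surjective ψ := MonoidHom.range_eq_top.1 hrange
  refine ⟨ψ, hsurj, le_antisymm ?_ ?_, hmem⟩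
  · refine Grp.le_pCore inferInstance ?_
    have hidx : ψ.ker.index = 6 := by
      rw [index_ker, hrange, card_top, hcardS]
    have hcard : Nat.card ↥P = Nat.card ↥ψ.ker * 6 := by rw [← hidx, card_mul_index]
    obtain ⟨n, hn⟩ := IsPGroup.iff_card.1 g.T_two
    rw [hn, hcard] at hdvd
    have hd : Nat.card ↥ψ.ker ∣ 2 ^ n := by
      have : Nat.card ↥ψ.ker * 6 ∣ 3 * 2 ^ n := hdvd
      obtain ⟨m, hm⟩ := this
      exact ⟨2 * m, by
        have : 3 * 2 ^ n = 3 * (Nat.card ↥ψ.ker * (2 * m)) := by rw [hm]; ring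
        exact Nat.eq_of_mul_eq_mul_left (by norm_num) this⟩
    obtain ⟨j, -, hj⟩ := (Nat.dvd_prime_pow Nat.prime_two).1 hd
    exact IsPGroup.of_card hj
  · intro x hx
    rw [MonoidHom.mem_ker]
    have hp : ∀ y ∈ pCore 2 ↥P, ψ y * ψ y = 1 := fun y hy => by
      obtain ⟨n, hn⟩ := Grp.pCore_isPGroup ⟨y, hy⟩
      have := orderOf_two_pow_dvd (a := ψ y) (n := n) (N := 6)
        (by rw [← map_pow, show y ^ 2 ^ n = 1 from congrArg Subtype.val hn, map_one])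
        (hcardS ▸ orderOf_dvd_natCard _) 1 (fun j hj => by
          by_contra hlt
          have : 4 ∣ 6 := (Nat.pow_dvd_pow 2 (show 2 ≤ j by omega)).trans hj
          norm_num at this)
      rwa [pow_one, pow_two] at this
    refine perm3_two _ (hp x hx) fun b => ?_
    obtain ⟨y, rfl⟩ := hsurj b
    have hn : (pCore 2 ↥P).Normal := inferInstance
    rw [← map_inv, ← map_mul, ← map_mul, ← map_mul]
    exact hp _ (mul_mem (hn.conj_mem x hx y) hx)

theorem Good.pCoreOf_eq (g : Good T K L) :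
    pCoreOf 2 (K ⊔ T) = (K ⊔ T) ⊓ centralizer (wOf K : Set G) := by
  obtain ⟨ψ, -, hker, hmem⟩ := g.exists_iso
  ext x
  constructor
  · rintro ⟨y, hy, rfl⟩
    exact ⟨y.2, (hmem y).1 (MonoidHom.mem_ker.1 (hker ▸ hy))⟩
  · rintro ⟨hx1, hx2⟩
    exact ⟨⟨x, hx1⟩, hker ▸ MonoidHom.mem_ker.2 ((hmem ⟨x, hx1⟩).2 hx2), rfl⟩

theorem Good.relIndex_pCoreOf (g : Good T K L) : (pCoreOf 2 (K ⊔ T)).relIndex (K ⊔ T) = 6 := by
  obtain ⟨ψ, hs, hker, -⟩ := g.exists_iso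
  rw [relIndex, subgroupOf, Cfsg.pCoreOf, comap_map_eq_self_of_injective (K ⊔ T).subtype_injective, ← hker,
    index_ker, MonoidHom.range_eq_top.2 hs, card_top, Nat.card_perm, Nat.card_fin]
  rfl

theorem Good.not_comm (g : Good T K L) : ¬ ⁅K ⊔ T, K ⊔ T⁆ ≤ pCoreOf 2 (K ⊔ T) := by
  obtain ⟨ψ, hs, hker, hmem⟩ := g.exists_iso
  intro h
  obtain ⟨a, ha⟩ := hs (Equiv.swap 0 1)
  obtain ⟨b, hb⟩ := hs (Equiv.swap 1 2)
  have h1 := h (commutator_mem_commutator a.2 b.2)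
  rw [g.pCoreOf_eq] at h1
  have h2 := (hmem ⁅a, b⁆).2 h1.2
  rw [map_commutatorElement, ha, hb, commutatorElement_def] at h2
  revert h2
  decide

theorem Good.Q_le (g : Good T K L) : pCoreOf 2 L ≤ pCoreOf 2 (K ⊔ T) :=
  le_pCoreOf (g.sit.Q_le_T.trans le_sup_right) (g.P_le.trans (le_normalizer_pCoreOf L)) (pCoreOf_isPGroup L)

theorem Good.cent_le (g : Good T K L) :
    centralizer (pCoreOf 2 (K ⊔ T) : Set G) ≤ pCoreOf 2 (K ⊔ T) :=
  ((Subgroup.centralizer_le (SetLike.coe_subset_coe.2 g.Q_le)).trans g.sit.mem.2.2).trans g.Q_le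

theorem Good.exists_z (g : Good T K L) : ∃ z, IsZ T K z ∧ z ∈ omegaCenterOf T := by
  obtain ⟨z, hz⟩ := Cfsg.Agent.Invol.JComp.exists_z g.hyp g.T_two g.T_ne g.comp
  refine ⟨z, hz, mem_omegaCenter.2 ⟨thompsonEl_le T (omegaCenter_le _ hz.mem0), fun t ht => ?_, hz.sq⟩⟩
  have hW := conj_mem_wOf t hz.memW
  rw [map_conj_eq_self (g.norm ht)] at hW
  exact mul_inv_eq_iff_eq_mul.1 ((hz.uniq _ (conj_mem_Z0 (T_le_normalizer_J T (le_normalizer ht)) hz.mem0)
    hW).resolve_left fun e => hz.ne (conj_eq_one_iff.1 e))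

theorem Good.comm_center_ne (g : Good T K L) : ⁅omegaCenterOf T, K ⊔ T⁆ ≠ ⊥ := by
  obtain ⟨z, hz, hzT⟩ := g.exists_z
  intro h
  exact hz.not_cent (Subgroup.centralizer_le (SetLike.coe_subset_coe.2 le_sup_left) (commutator_eq_bot_iff_le_centralizer.1 h hzT))

theorem Good.unique (g : Good T K L) {L' : Subgroup G} (hL' : IsMaximalTwoLocal L') (h : K ⊔ T ≤ L') :
    L' = L := by
  have hle := g.ov L' hL'.1 (le_sup_left.trans h) ((thompsonEl_le T).trans (le_sup_right.trans h))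
  exact (hL'.2 L g.max.1 hle).symm

end

/-- The data of a component outside `M` normalized by `T`. -/
theorem Ctx.good {M T K L : Subgroup G} (c : Ctx M T) (hK : Out M T K) (hL : IsOver T K L) (hTL : T ≤ L)
    (hn : T ≤ normalizer (K : Set G)) : Good T K L :=
  ⟨c.amb, c.sit_over hK hL hTL, hK.1, le_sup_left.trans hL.2, hn, hL.1,
    fun _ hX hKX hJX => c.le_over hK hL hX hKX hJX⟩

/-- A pair from an element of `N(T)` outside the overgroup. -/
theorem Ctx.pair_of_normalizer {M T K L : Subgroup G} (c : Ctx M T) (hK : Out M T K) (hL : IsOver T K L)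
    (hTL : T ≤ L) {y : G} (hy : y ∈ normalizer (T : Set G)) (hyL : y ∉ L) :
    ∃ K₂ L₂, Good T K L ∧ Good T K₂ L₂ ∧ ¬ K₂ ≤ L := by
  obtain ⟨f, hf⟩ : ∃ f, f = (MulAut.conj y).toMonoidHom := ⟨_, rfl⟩
  have hfinj : Function.Injective f := hf ▸ (MulAut.conj y).injective
  have hTmap : T.map f = T := hf ▸ map_conj_eq_self hy
  have hJmap : (thompsonSubgroupOf 2 T).map f = thompsonSubgroupOf 2 T := by
    rw [← thompson_map f hfinj, hTmap]
  have hyM : y ∈ M := c.N_T_le hy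
  have hK₂ : Out M T (K.map f) := ⟨hf ▸ comp_conj_J (T_le_normalizer_J T hy) hK.1, fun hle => hK.2 fun k hk => by
    have h1 : y * k * y⁻¹ ∈ M := hle ⟨k, hk, by rw [hf]; rfl⟩
    have h2 := mul_mem (mul_mem (inv_mem hyM) h1) hyM
    rwa [show y⁻¹ * (y * k * y⁻¹) * y = k by group] at h2⟩
  have hL₂ : IsOver T (K.map f) (L.map f) := by
    refine ⟨hf ▸ isMaximalTwoLocal_map y hL.1, ?_⟩
    have := map_mono (f := f) hL.2
    rwa [Subgroup.map_sup, hJmap] at this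
  have hTL₂ : T ≤ L.map f := hTmap ▸ map_mono hTL
  have hne : ¬ K.map f ≤ L := fun hle => by
    have h := hL.1.2 (L.map f) hL₂.1.1 (c.le_over hK₂ hL₂ hL.1.1 hle (le_sup_right.trans hL.2))
    exact hyL (maximal_normalizer_le hL.1 (mem_normalizer_of_map_eq (hf ▸ h)))
  have hn : T ≤ normalizer (K : Set G) := fun t ht => by
    by_contra hcon
    exact hne (c.comp_le_over hK hL hTL ht (fun e => hcon (mem_normalizer_of_map_eq e)) hK₂.1 (Or.inl hK₂))
  refine ⟨K.map f, L.map f, c.good hK hL hTL hn, c.good hK₂ hL₂ hTL₂ ?_, hne⟩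
  rw [← hTmap]
  exact (map_mono hn).trans (le_normalizer_map f)

section
variable {T K₁ L₁ K₂ L₂ : Subgroup G}

theorem Good.not_le_symm (g₁ : Good T K₁ L₁) (g₂ : Good T K₂ L₂) (h : ¬ K₂ ≤ L₁) : ¬ K₁ ≤ L₂ := fun hle =>
  h (g₂.le.trans (g₁.ov L₂ g₂.max.1 hle g₂.sit.J_le))

theorem Good.core_bot (g₁ : Good T K₁ L₁) (g₂ : Good T K₂ L₂) (h : ¬ K₂ ≤ L₁) :
    pCoreOf 2 ((K₁ ⊔ T) ⊔ (K₂ ⊔ T)) = ⊥ := by
  by_contra hne
  refine h ((le_sup_left.trans (le_sup_right.trans (le_normalizer_pCoreOf _))).trans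
    (g₁.ov _ ⟨_, pCoreOf_isPGroup _, hne, rfl⟩ (le_sup_left.trans (le_sup_left.trans (le_normalizer_pCoreOf _)))
      (((thompsonEl_le T).trans le_sup_right).trans (le_sup_left.trans (le_normalizer_pCoreOf _)))))

theorem Good.inf_eq (g₁ : Good T K₁ L₁) (g₂ : Good T K₂ L₂) (h : ¬ K₂ ≤ L₁) : (K₁ ⊔ T) ⊓ (K₂ ⊔ T) = T := by
  haveI := Fact.mk Nat.prime_two
  obtain ⟨X, hX⟩ : ∃ X, X = (K₁ ⊔ T) ⊓ (K₂ ⊔ T) := ⟨_, rfl⟩
  rw [← hX]
  have hTX : T ≤ X := hX ▸ le_inf le_sup_right le_sup_right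
  have hXP : X ≤ K₁ ⊔ T := hX ▸ inf_le_left
  obtain ⟨a, ha⟩ := card_dvd_of_le hTX
  obtain ⟨b, hb⟩ := card_dvd_of_le hXP
  obtain ⟨d, hd⟩ := g₁.card_P_dvd
  have habd : a * b * d = 3 := by
    refine Nat.eq_of_mul_eq_mul_left (Nat.card_pos (α := ↥T)) ?_
    calc Nat.card ↥T * (a * b * d) = Nat.card ↥T * a * b * d := by ring
      _ = Nat.card ↥(K₁ ⊔ T) * d := by rw [← ha, ← hb]
      _ = Nat.card ↥T * 3 := by rw [← hd, mul_comm]
  rcases (Nat.dvd_prime Nat.prime_three).1 (⟨b * d, by rw [← habd]; ring⟩ : a ∣ 3) with ha1 | ha3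
  · exact (eq_of_le_of_card_ge hTX (le_of_eq (by rw [ha, ha1, mul_one]))).symm
  · exfalso
    have hb1 : b = 1 := by
      rw [ha3] at habd
      have hbd : b * d = 1 := by
        have : 3 * (b * d) = 3 * 1 := by rw [← mul_assoc, habd, mul_one]
        omega
      exact (mul_eq_one.1 hbd).1
    have hXe : X = K₁ ⊔ T := eq_of_le_of_card_ge hXP (le_of_eq (by rw [hb, hb1, mul_one]))
    exact g₁.not_le_symm g₂ h (le_trans le_sup_left ((hXe.symm.le.trans (hX ▸ inf_le_right)).trans g₂.P_le))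

/-- The amalgam. -/
theorem Good.pair_iso (g₁ : Good T K₁ L₁) (g₂ : Good T K₂ L₂) (h : ¬ K₂ ≤ L₁) :
    (Nonempty (↥(K₁ ⊔ T) ≃* Equiv.Perm (Fin 4)) ∧ Nonempty (↥(K₂ ⊔ T) ≃* Equiv.Perm (Fin 4))) ∨
      (Nonempty (↥(K₁ ⊔ T) ≃* Multiplicative (ZMod 2) × Equiv.Perm (Fin 4)) ∧
        Nonempty (↥(K₂ ⊔ T) ≃* Multiplicative (ZMod 2) × Equiv.Perm (Fin 4))) := by
  haveI := Fact.mk Nat.prime_two
  obtain ⟨H, hH⟩ : ∃ H, H = (K₁ ⊔ T) ⊔ (K₂ ⊔ T) := ⟨_, rfl⟩
  have hP₁ : K₁ ⊔ T ≤ H := hH ▸ le_sup_left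
  have hP₂ : K₂ ⊔ T ≤ H := hH ▸ le_sup_right
  have hTH : T ≤ H := le_sup_right.trans hP₁
  have hcore : pCoreOf 2 H = ⊥ := hH ▸ g₁.core_bot g₂ h
  have key : ∀ {K L : Subgroup G}, Good T K L → (hP : K ⊔ T ≤ H) →
      ((K ⊔ T).subgroupOf H ⊓ centralizer (pCoreOf 2 ((K ⊔ T).subgroupOf H) : Set ↥H) ≤
          pCoreOf 2 ((K ⊔ T).subgroupOf H)) ∧
        (∃ S : Sylow 2 ↥((K ⊔ T).subgroupOf H),
          (S : Subgroup ↥((K ⊔ T).subgroupOf H)) = (T.subgroupOf H).subgroupOf ((K ⊔ T).subgroupOf H)) ∧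
        Nonempty (↥((K ⊔ T).subgroupOf H) ⧸ pCore 2 ↥((K ⊔ T).subgroupOf H) ≃* Equiv.Perm (Fin 3)) ∧
        ¬ (K ⊔ T).subgroupOf H ≤ centralizer (omegaCenterOf (T.subgroupOf H) : Set ↥H) := by
    intro K L g hP
    obtain ⟨P', hP'⟩ : ∃ P', P' = (K ⊔ T).subgroupOf H := ⟨_, rfl⟩
    rw [← hP']
    have hmap : P'.map H.subtype = K ⊔ T := hP' ▸ map_subgroupOf_eq_of_le hP
    have hcoremap : (pCoreOf 2 P').map H.subtype = pCoreOf 2 (K ⊔ T) := by
      rw [← pCoreOf_map _ H.subtype_injective, hmap]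
    refine ⟨fun x hx => ?_, ?_, ?_, fun hle => ?_⟩
    · have hxc : (x : G) ∈ centralizer (pCoreOf 2 (K ⊔ T) : Set G) := by
        refine mem_centralizer_iff.2 fun q hq => ?_
        rw [← hcoremap] at hq
        obtain ⟨q', hq', rfl⟩ := hq
        exact congrArg Subtype.val (mem_centralizer_iff.1 hx.2 q' hq')
      have := g.cent_le hxc
      rw [← hcoremap] at this
      obtain ⟨q', hq', he⟩ := this
      rwa [H.subtype_injective he] at hq'
    · have hTle : T.subgroupOf H ≤ P' := hP' ▸ fun x hx => mem_subgroupOf.2 (mem_sup_right hx)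
      have hp : IsPGroup 2 ↥((T.subgroupOf H).subgroupOf P') :=
        ((g.T_two.of_equiv (subgroupOfEquivOfLe hTH).symm)).of_equiv (subgroupOfEquivOfLe hTle).symm
      refine ⟨hp.toSylow ?_, rfl⟩
      have hidx : ((T.subgroupOf H).subgroupOf P').index = T.relIndex (K ⊔ T) := by
        show (T.subgroupOf H).relIndex P' = _
        rw [← relIndex_map_map_of_injective _ _ H.subtype_injective, hmap, map_subgroupOf_eq_of_le hTH]
      rw [hidx]
      exact g.syl.2.2.not_two_dvd_nat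
    · obtain ⟨ψ, hs, hker, -⟩ := g.exists_iso
      obtain ⟨e, he⟩ : ∃ e : ↥P' ≃* ↥(K ⊔ T), ∀ x, ((e x : ↥(K ⊔ T)) : G) = ((x : ↥H) : G) := by
        subst hP'
        exact ⟨subgroupOfEquivOfLe hP, fun x => rfl⟩
      have hk : (ψ.comp e.toMonoidHom).ker = pCore 2 ↥P' := by
        ext x
        have h1 : x ∈ (ψ.comp e.toMonoidHom).ker ↔ e x ∈ pCore 2 ↥(K ⊔ T) := by rw [← hker]; rfl
        rw [h1]
        constructor
        · intro hx
          have : ((x : ↥H) : G) ∈ pCoreOf 2 (K ⊔ T) := ⟨e x, hx, he x⟩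
          rw [← hcoremap] at this
          obtain ⟨q, ⟨q', hq', hq''⟩, hqe⟩ := this
          have hqx : q' = x := Subtype.ext (H.subtype_injective ((congrArg H.subtype hq'').trans hqe))
          exact hqx ▸ hq'
        · intro hx
          have : ((x : ↥H) : G) ∈ pCoreOf 2 (K ⊔ T) := hcoremap ▸ ⟨(x : ↥H), ⟨x, hx, rfl⟩, rfl⟩
          obtain ⟨q, hq, hqe⟩ := this
          rwa [show e x = q from Subtype.ext ((he x).trans hqe.symm)]
      exact ⟨(QuotientGroup.quotientMulEquivOfEq hk.symm).trans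
        (QuotientGroup.quotientKerEquivOfSurjective _ (hs.comp e.surjective))⟩
    · refine g.comm_center_ne (commutator_eq_bot_iff_le_centralizer.2 fun z hz => mem_centralizer_iff.2 fun k hk => ?_)
      rw [← map_subgroupOf_eq_of_le hTH, omegaCenter_map _ H.subtype_injective] at hz
      obtain ⟨z', hz', rfl⟩ := hz
      have hk' : (⟨k, hP hk⟩ : ↥H) ∈ P' := hP' ▸ hk
      exact (congrArg Subtype.val (mem_centralizer_iff.1 (hle hk') z' hz')).symm
  obtain ⟨a₁, b₁, c₁, d₁⟩ := key g₁ hP₁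
  obtain ⟨a₂, b₂, c₂, d₂⟩ := key g₂ hP₂
  have hres := Cfsg.Agent.Invol.S4Am.pair ((K₁ ⊔ T).subgroupOf H) ((K₂ ⊔ T).subgroupOf H)
    (by rw [← subgroupOf_sup hP₁ hP₂, ← hH, subgroupOf_self]) (T.subgroupOf H)
    (by rw [subgroupOf, subgroupOf, subgroupOf, ← comap_inf, g₁.inf_eq g₂ h])
    (by rintro P (rfl | rfl) <;> assumption) (by rintro P (rfl | rfl) <;> assumption)
    (fun N hN hNT => by
      have hle : N.map H.subtype ≤ pCoreOf 2 H :=
        map_mono (Grp.le_pCore hN ((g₁.T_two.of_equiv (subgroupOfEquivOfLe hTH).symm).to_le hNT))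
      rwa [hcore, le_bot_iff, map_eq_bot_iff_of_injective _ H.subtype_injective] at hle)
    (by rintro P (rfl | rfl) <;> assumption) (by rintro P (rfl | rfl) <;> assumption)
  refine hres.imp ?_ ?_ <;> rintro ⟨⟨e₁⟩, ⟨e₂⟩⟩
  all_goals exact ⟨⟨(subgroupOfEquivOfLe hP₁).symm.trans e₁⟩, ⟨(subgroupOfEquivOfLe hP₂).symm.trans e₂⟩⟩

end

/-- The structure of an overgroup in a pair. -/
structure Four (T K L : Subgroup G) : Prop where
  good : Good T K L
  eq : L = K ⊔ T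
  comm : ∀ x ∈ pCoreOf 2 L, ∀ y ∈ pCoreOf 2 L, x * y = y * x
  sq : ∀ x ∈ pCoreOf 2 L, x * x = 1
  card_Q : Nat.card ↥(pCoreOf 2 L) ≤ 8
  card_T : Nat.card ↥T = 2 * Nat.card ↥(pCoreOf 2 L)
  W_le : wOf K ≤ pCoreOf 2 L
  W_normal : L ≤ normalizer (wOf K : Set G)
  decomp : ∀ x ∈ pCoreOf 2 L, ∃ h ∈ pCoreOf 2 L, h ∈ centralizer (L : Set G) ∧ ∃ w ∈ wOf K, h * w = x
  J_eq : thompsonSubgroupOf 2 T = T

theorem Good.four_of_hom {T K L : Subgroup G} (g : Good T K L) (ψ : ↥(K ⊔ T) →* Equiv.Perm (Fin 4))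
    (hψ : Function.Surjective ψ) (hc : ∀ x y, ψ (x * y * x⁻¹ * y⁻¹) = 1 → x * y = y * x)
    (hq : ∀ x, ψ (x * x) = 1 → x * x = 1) (hcard : Nat.card ↥(K ⊔ T) ≤ 48) : Four T K L := by
  haveI := Fact.mk Nat.prime_two
  obtain ⟨R, hR⟩ : ∃ R, R = pCoreOf 2 (K ⊔ T) := ⟨_, rfl⟩
  have hcardS : Nat.card (Equiv.Perm (Fin 4)) = 24 := by
    rw [Nat.card_perm, Nat.card_fin]; rfl
  have hV : ∀ y ∈ pCore 2 ↥(K ⊔ T),
      ψ y ∈ [1, Equiv.swap 0 1 * Equiv.swap 2 3, Equiv.swap 0 2 * Equiv.swap 1 3,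
        Equiv.swap 0 3 * Equiv.swap 1 2] := by
    have hp : ∀ y ∈ pCore 2 ↥(K ⊔ T), ψ y ^ 8 = 1 := fun y hy => by
      obtain ⟨n, hn⟩ := Grp.pCore_isPGroup ⟨y, hy⟩
      have := orderOf_two_pow_dvd (a := ψ y) (n := n) (N := 24)
        (by rw [← map_pow, show y ^ 2 ^ n = 1 from congrArg Subtype.val hn, map_one])
        (hcardS ▸ orderOf_dvd_natCard _) 3 (fun j hj => by
          by_contra hlt
          have : 16 ∣ 24 := (Nat.pow_dvd_pow 2 (show 4 ≤ j by omega)).trans hj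
          norm_num at this)
      exact this
    intro y hy
    have hn : (pCore 2 ↥(K ⊔ T)).Normal := inferInstance
    simp only [List.mem_cons, List.not_mem_nil, or_false]
    refine perm4_two _ (hp y hy) fun b => ?_
    obtain ⟨u, rfl⟩ := hψ b
    rw [← map_inv, ← map_mul, ← map_mul, ← map_mul]
    exact hp _ (mul_mem (hn.conj_mem y hy u) hy)
  have hRc : ∀ x ∈ R, ∀ y ∈ R, x * y = y * x := by
    rw [hR]
    rintro _ ⟨x, hx, rfl⟩ _ ⟨y, hy, rfl⟩
    refine congrArg Subtype.val (hc x y ?_)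
    rw [map_mul, map_mul, map_mul, map_inv, map_inv, (perm4_klein _ _ (hV x hx) (hV y hy)).1,
      mul_inv_cancel_right, mul_inv_cancel]
  have hRs : ∀ x ∈ R, x * x = 1 := by
    rw [hR]
    rintro _ ⟨x, hx, rfl⟩
    refine congrArg Subtype.val (hq x ?_)
    rw [map_mul]
    exact (perm4_klein _ _ (hV x hx) (hV x hx)).2
  have hRcard : Nat.card ↥(K ⊔ T) = Nat.card ↥R * 6 := by
    rw [hR, ← g.relIndex_pCoreOf, relIndex, ← Nat.card_congr (subgroupOfEquivOfLe (pCoreOf_le _)).toEquiv,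
      card_mul_index]
  have hQR : pCoreOf 2 L ≤ R := hR ▸ g.Q_le
  have hRQ : R ≤ pCoreOf 2 L := fun x hx => g.sit.mem.2.2 (mem_centralizer_iff.2 fun q hq => hRc q (hQR hq) x hx)
  obtain rfl := le_antisymm hRQ hQR
  have hV' : vOf L = pCoreOf 2 L := le_antisymm vOf_le_Q fun x hx =>
    mem_vOf.2 ⟨hx, fun r hr => hRc r hr x hx, hRs x hx⟩
  obtain ⟨Ws, f⟩ := g.sit.exists_frame
  obtain ⟨W, c⟩ := g.sit.compData f g.comp g.le
  have hWQ : W ≤ pCoreOf 2 L := (f.le W c.mem).trans vOf_le_Q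
  have hQ8 : Nat.card ↥(pCoreOf 2 L) ≤ 8 := by omega
  have hsup : ∀ A : Subgroup G, A ≤ pCoreOf 2 L → A ⊓ W = ⊥ → Nat.card ↥A ≤ 2 ∧ A ≤ pCoreOf 2 L := by
    intro A hA hd
    refine ⟨?_, hA⟩
    have hn : A ≤ normalizer (W : Set G) := hA.trans (fun x hx => centralizer_le_normalizer _
      (mem_centralizer_iff.2 fun w hw => hRc w (hWQ hw) x hx))
    have h := Grp.card_sup_mul_card_inf hn
    rw [hd, card_bot, mul_one, f.card W c.mem] at h
    have := card_le_of_le (sup_le hA hWQ : A ⊔ W ≤ _)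
    omega
  have hone : ∀ W' ∈ Ws, W' = W := fun W' hW' => by
    by_contra hne
    have hd : W' ⊓ W = ⊥ := by
      have := f.indep W' hW' W c.mem W c.mem hne hne
      rwa [sup_idem] at this
    have := (hsup W' ((f.le W' hW').trans vOf_le_Q) hd).1
    rw [f.card W' hW'] at this
    omega
  have hLW : L ≤ normalizer (W : Set G) := fun x hx =>
    mem_normalizer_of_map_eq (hone _ (g.sit.frame_conj f c.mem hx))
  obtain ⟨C, hC⟩ : ∃ C, C = vOf L ⊓ centralizer (dOf T L : Set G) := ⟨_, rfl⟩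
  have hCQ : C ≤ pCoreOf 2 L := hC ▸ inf_le_left.trans vOf_le_Q
  have hC2 : Nat.card ↥C ≤ 2 := (hsup C hCQ (by
    rw [eq_bot_iff, ← f.disj W c.mem]
    exact le_inf inf_le_right (inf_le_left.trans (hC.le.trans inf_le_right)))).1
  have hLC : ∀ x ∈ L, ∀ h ∈ C, x * h * x⁻¹ = h := by
    intro x hx h hh
    have hmem : x * h * x⁻¹ ∈ C := by
      rw [hC] at hh ⊢
      refine ⟨(mem_normalizer_iff.1 (le_normalizer_vOf hx) h).1 hh.1, mem_centralizer_iff.2 fun d hd => ?_⟩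
      have hd' := (mem_normalizer_iff.1 (inv_mem (le_normalizer_dOf (T := T) hx)) d).1 hd
      have := mem_centralizer_iff.1 hh.2 _ hd'
      calc d * (x * h * x⁻¹) = x * ((x⁻¹ * d * x⁻¹⁻¹) * h) * x⁻¹ := by group
        _ = x * (h * (x⁻¹ * d * x⁻¹⁻¹)) * x⁻¹ := by rw [this]
        _ = x * h * x⁻¹ * d := by group
    by_cases h1 : h = 1
    · rw [h1, mul_one, mul_inv_cancel]
    by_contra hne
    have hsub : ({x * h * x⁻¹, h, 1} : Set G) ⊆ (C : Set G) := by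
      rintro y (rfl | rfl | rfl)
      exacts [hmem, hh, one_mem _]
    have h2 := Set.ncard_le_ncard hsub (Set.toFinite _)
    rw [Set.ncard_insert_of_notMem (by simp [hne, conj_eq_one_iff, h1]) (Set.toFinite _), Set.ncard_pair h1,
      ← Nat.card_coe_set_eq] at h2
    have : Nat.card ↥((C : Set G)) = Nat.card ↥C := rfl
    omega
  have hdec : ∀ x ∈ pCoreOf 2 L, ∃ h ∈ C, ∃ w ∈ W, h * w = x := fun x hx => by
    have h1 := f.decomp (hV'.ge hx)
    rw [← hC, show sSup Ws = W from le_antisymm (sSup_le fun W' h' => (hone W' h').le) (le_sSup c.mem),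
      ← SetLike.mem_coe, coe_mul_of_left_le_normalizer_right _ _ (hCQ.trans fun y hy => centralizer_le_normalizer _
        (mem_centralizer_iff.2 fun w hw => hRc w (hWQ hw) y hy))] at h1
    exact h1
  have hPL : K ⊔ T = L := by
    refine eq_of_le_of_card_ge g.P_le ?_
    obtain ⟨φ, hφ⟩ := exists_hom3 (f.card W c.mem) hLW
    have hker : Nat.card ↥φ.ker ≤ Nat.card ↥(pCoreOf 2 L) := by
      refine Nat.card_le_card_of_injective (fun x => ⟨((x : ↥L) : G), ?_⟩) fun a b e => ?_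
      · obtain ⟨x, hx⟩ := x
        rw [hφ, mem_subgroupOf] at hx
        refine g.sit.mem.2.2 (mem_centralizer_iff.2 fun q hq => ?_)
        obtain ⟨h, hh, w, hw, rfl⟩ := hdec q hq
        have hh' : Commute h (x : G) := (mul_inv_eq_iff_eq_mul.1 (hLC x x.2 h hh)).symm
        exact (hh'.mul_left (mem_centralizer_iff.1 hx w hw)).eq
      · exact Subtype.ext (Subtype.ext (congrArg (fun y : ↥(pCoreOf 2 L) => (y : G)) e))
    have hrg : Nat.card ↥φ.range ≤ 6 := by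
      refine (Nat.card_le_card_of_injective _ φ.range.subtype_injective).trans (le_of_eq ?_)
      rw [Nat.card_perm, Nat.card_fin]; rfl
    rw [← card_mul_index φ.ker, index_ker, hRcard]
    exact Nat.mul_le_mul hker hrg
  have hT : Nat.card ↥T = 2 * Nat.card ↥(pCoreOf 2 L) := by
    obtain ⟨d, hd⟩ := g.card_P_dvd
    obtain ⟨a, ha⟩ := card_dvd_of_le (le_sup_right : T ≤ K ⊔ T)
    obtain ⟨m, hm⟩ := IsPGroup.iff_card.1 g.T_two
    obtain ⟨n, hn⟩ := IsPGroup.iff_card.1 (pCoreOf_isPGroup L)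
    have had : a * d = 3 := Nat.eq_of_mul_eq_mul_left (Nat.card_pos (α := ↥T))
      (by rw [← mul_assoc, ← ha, ← hd, mul_comm])
    rcases (Nat.dvd_prime Nat.prime_three).1 (⟨d, had.symm⟩ : a ∣ 3) with ha1 | ha3
    · exfalso
      rw [ha1, mul_one, hRcard] at ha
      have h3 : 3 ∣ 2 ^ m := hm ▸ ⟨2 * Nat.card ↥(pCoreOf 2 L), by rw [← ha]; ring⟩
      have := Nat.Prime.dvd_of_dvd_pow Nat.prime_three h3
      norm_num at this
    · rw [ha3, hRcard] at ha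
      omega
  have hJT : thompsonSubgroupOf 2 T = T := by
    refine eq_of_le_of_card_ge (thompsonEl_le T) ?_
    have hQJ : pCoreOf 2 L ≤ thompsonSubgroupOf 2 T := hV' ▸ g.sit.vOf_le_J f
    have hne : pCoreOf 2 L ≠ thompsonSubgroupOf 2 T := fun e => g.sit.mem.2.1 e.ge
    obtain ⟨a, ha⟩ := card_dvd_of_le hQJ
    have ha1 : a ≠ 1 := fun e => hne (eq_of_le_of_card_ge hQJ (le_of_eq (by rw [ha, e, mul_one])))
    have ha0 : a ≠ 0 := fun e => by
      rw [e, mul_zero] at ha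
      have := Nat.card_pos (α := ↥(thompsonSubgroupOf 2 T))
      omega
    rw [hT, ha, mul_comm]
    exact Nat.mul_le_mul_left _ (by omega)
  exact ⟨g, hPL.symm, hRc, hRs, hQ8, hT, c.w_eq ▸ hWQ, c.w_eq ▸ hLW, fun x hx => by
    obtain ⟨h, hh, w, hw, e⟩ := hdec x hx
    exact ⟨h, hCQ hh, mem_centralizer_iff.2 fun y hy => mul_inv_eq_iff_eq_mul.1 (hLC y hy h hh),
      w, c.w_eq ▸ hw, e⟩, hJT⟩

theorem Good.four {T K₁ L₁ K₂ L₂ : Subgroup G} (g₁ : Good T K₁ L₁) (g₂ : Good T K₂ L₂) (h : ¬ K₂ ≤ L₁) :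
    Four T K₁ L₁ := by
  have h24 : Nat.card (Equiv.Perm (Fin 4)) = 24 := by rw [Nat.card_perm, Nat.card_fin]; rfl
  rcases g₁.pair_iso g₂ h with ⟨⟨e⟩, -⟩ | ⟨⟨e⟩, -⟩
  · refine g₁.four_of_hom e.toMonoidHom e.surjective (fun x y hxy => ?_) (fun x hx => ?_) (by
      rw [Nat.card_congr e.toEquiv, h24]; norm_num)
    · have := e.map_eq_one_iff.1 hxy
      exact mul_inv_eq_iff_eq_mul.1 (mul_inv_eq_one.1 this)
    · exact e.map_eq_one_iff.1 hx
  · have hexp : ∀ a : Multiplicative (ZMod 2), a * a = 1 := by decide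
    refine g₁.four_of_hom ((MonoidHom.snd _ _).comp e.toMonoidHom) (Prod.snd_surjective.comp e.surjective)
      (fun x y hxy => ?_) (fun x hx => ?_) (by
      rw [Nat.card_congr e.toEquiv, Nat.card_prod, h24, Nat.card_congr Multiplicative.toAdd, Nat.card_zmod])
    · have h1 : e (x * y * x⁻¹ * y⁻¹) = 1 := Prod.ext (by
        simp only [map_mul, map_inv, Prod.fst_mul, Prod.fst_inv, Prod.fst_one]
        rw [mul_comm (e x).1 (e y).1, mul_inv_cancel_right, mul_inv_cancel]) hxy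
      exact mul_inv_eq_iff_eq_mul.1 (mul_inv_eq_one.1 (e.map_eq_one_iff.1 h1))
    · refine e.map_eq_one_iff.1 (Prod.ext ?_ hx)
      rw [map_mul, Prod.fst_mul, Prod.fst_one]
      exact hexp _

end Cfsg.Agent.Invol.JComp
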