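import Cfsg.Agent.Lib.Invol.JCompBasic

/-!
Overgroups `L` of a `2`-subgroup `T` in the family `jOvergroups T`: the elementary facts.
-/

set_option autoImplicit false

namespace Cfsg.Agent.Invol.JComp

open Subgroup

variable {G : Type*} [Group G]

/-- `Ω₁(Z(O₂(L)))`. -/
abbrev vOf (L : Subgroup G) : Subgroup G := omegaCenterOf (pCoreOf 2 L)

/-- `C_L(Ω₁(Z(O₂(L))))`. -/
abbrev cOf (L : Subgroup G) : Subgroup G := L ⊓ centralizer (vOf L : Set G)

/-- The subgroup generated by the conjugates of `J(T)` under `L`. -/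
def dOf (T L : Subgroup G) : Subgroup G :=
  closure {g | ∃ x ∈ L, ∃ j ∈ thompsonSubgroupOf 2 T, x * j * x⁻¹ = g}

/-- The situation of an overgroup in the family attached to `T`. -/
structure Sit (T L : Subgroup G) : Prop where
  mem : L ∈ jOvergroups T
  zNorm : ∀ S : Sylow 2 G, centralizer (omegaCenterOf (S : Subgroup G) : Set G) ≤
    normalizer ((S : Subgroup G) : Set G)
  solvable : Group.IsSolvable ↥L
  charTwo : IsCharacteristicTwoType G
  twoLocal : ∀ N : Subgroup G, IsTwoLocal N → Group.IsSolvable ↥N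

theorem pCoreOf_le (L : Subgroup G) : pCoreOf 2 L ≤ L := map_subtype_le _

theorem pCoreOf_isPGroup [Finite G] (L : Subgroup G) : IsPGroup 2 ↥(pCoreOf 2 L) :=
  Grp.pCore_isPGroup.map _

theorem le_pCoreOf {L N : Subgroup G} (hN : N ≤ L) (hn : L ≤ normalizer (N : Set G)) (hp : IsPGroup 2 ↥N) :
    N ≤ pCoreOf 2 L := by
  haveI : (N.subgroupOf L).Normal := normal_subgroupOf_of_le_normalizer hn
  exact fun x hx => ⟨⟨x, hN hx⟩,
    Grp.le_pCore inferInstance (hp.of_equiv (subgroupOfEquivOfLe hN).symm) hx, rfl⟩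

theorem normalizer_le_normalizer_pCoreOf [Finite G] (L : Subgroup G) :
    normalizer (L : Set G) ≤ normalizer (pCoreOf 2 L : Set G) := fun g hg =>
  mem_normalizer_of_map_eq (by
    rw [← pCoreOf_map _ (MulAut.conj g).injective, map_conj_eq_self hg])

theorem normalizer_le_normalizer_omegaCenter [Finite G] (L : Subgroup G) :
    normalizer (L : Set G) ≤ normalizer (omegaCenterOf L : Set G) := fun g hg =>
  mem_normalizer_of_map_eq (by
    rw [← omegaCenter_map _ (MulAut.conj g).injective, map_conj_eq_self hg])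

theorem le_normalizer_pCoreOf [Finite G] (L : Subgroup G) : L ≤ normalizer (pCoreOf 2 L : Set G) :=
  le_normalizer.trans (normalizer_le_normalizer_pCoreOf L)

/-- A `2`-subgroup of `L` is conjugate in `L` into a Sylow `2`-subgroup. -/
theorem exists_conj_le [Finite G] {T L P : Subgroup G} (hT : IsSylowTwoIn T L) (hP : IsPGroup 2 ↥P)
    (hPL : P ≤ L) : ∃ x ∈ L, P ≤ T.map (MulAut.conj x).toMonoidHom := by
  haveI := Fact.mk Nat.prime_two
  obtain ⟨hTL, hTp, hodd⟩ := hT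
  have hnd : ¬ 2 ∣ (T.subgroupOf L).index := fun h =>
    (Nat.not_even_iff_odd.2 hodd) (even_iff_two_dvd.2 h)
  let ST : Sylow 2 ↥L := (hTp.of_equiv (subgroupOfEquivOfLe hTL).symm).toSylow hnd
  obtain ⟨SP, hSP⟩ := (hP.of_equiv (subgroupOfEquivOfLe hPL).symm).exists_le_sylow
  obtain ⟨x, hx⟩ := MulAction.exists_smul_eq ↥L ST SP
  refine ⟨x, x.2, fun y hy => ?_⟩
  have h2 : (⟨y, hPL hy⟩ : ↥L) ∈ (SP : Subgroup ↥L) := hSP hy
  rw [← hx, Sylow.coe_subgroup_smul] at h2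
  obtain ⟨z, hz, hzy⟩ := h2
  exact ⟨z, hz, congrArg Subtype.val hzy⟩

theorem isSylowTwoIn_conj [Finite G] {T L : Subgroup G} (hT : IsSylowTwoIn T L) {x : G} (hx : x ∈ L) :
    IsSylowTwoIn (T.map (MulAut.conj x).toMonoidHom) L := by
  have := isSylowTwoIn_map (MulAut.conj x).toMonoidHom (MulAut.conj x).injective hT
  rwa [map_conj_eq_self (le_normalizer hx)] at this

theorem le_of_two_group [Finite G] {T L P : Subgroup G} (hT : IsSylowTwoIn T L) (hP : IsPGroup 2 ↥P)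
    (hPL : P ≤ L) (hTP : T ≤ P) : P = T := by
  obtain ⟨x, hx, hle⟩ := exists_conj_le hT hP hPL
  refine (eq_of_le_of_card_ge hTP ?_).symm
  exact (card_le_of_le hle).trans_eq (card_map_of_injective (MulAut.conj x).injective)

/-- A normal `2`-subgroup lies in every Sylow `2`-subgroup. -/
theorem normal_le_sylowIn [Finite G] {T L N : Subgroup G} (hT : IsSylowTwoIn T L) (hN : IsPGroup 2 ↥N)
    (hNL : N ≤ L) (hn : L ≤ normalizer (N : Set G)) : N ≤ T := by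
  obtain ⟨x, hx, hle⟩ := exists_conj_le hT hN hNL
  intro y hy
  obtain ⟨z, hz, e⟩ := hle ((mem_normalizer_iff.1 (hn hx) y).1 hy)
  have : z = y := mul_left_cancel (mul_right_cancel (show x * z * x⁻¹ = x * y * x⁻¹ from e))
  exact this ▸ hz

theorem isPGroup_zpowers_of_pow {x : G} {n : ℕ} (hn : x ^ 2 ^ n = 1) : IsPGroup 2 ↥(zpowers x) := by
  rintro ⟨y, i, rfl⟩
  refine ⟨n, Subtype.ext ?_⟩
  rw [SubmonoidClass.coe_pow, OneMemClass.coe_one, ← zpow_natCast, ← zpow_mul, mul_comm, zpow_mul,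
    zpow_natCast, hn, one_zpow]

/-- The `2`-elements normalizing a Sylow `2`-subgroup lie in it. -/
theorem mem_of_two_pow [Finite G] {T L : Subgroup G} (hT : IsSylowTwoIn T L) {x : G} (hx : x ∈ L)
    (hxN : x ∈ normalizer (T : Set G)) {n : ℕ} (hn : x ^ 2 ^ n = 1) : x ∈ T := by
  haveI := Fact.mk Nat.prime_two
  have h : IsPGroup 2 ↥(zpowers x ⊔ T) :=
    (isPGroup_zpowers_of_pow hn).to_sup_of_normal_right' hT.2.1 (zpowers_le.2 hxN)
  rw [← le_of_two_group hT h (sup_le (zpowers_le.2 hx) hT.1) le_sup_right]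
  exact mem_sup_left (mem_zpowers x)

/-- A Sylow `2`-subgroup of `L` containing a given `2`-subgroup. -/
theorem exists_sylowIn [Finite G] {L P : Subgroup G} (hP : IsPGroup 2 ↥P) (hPL : P ≤ L) :
    ∃ S : Subgroup G, IsSylowTwoIn S L ∧ P ≤ S := by
  haveI := Fact.mk Nat.prime_two
  obtain ⟨Q, hQ⟩ := (hP.of_equiv (subgroupOfEquivOfLe hPL).symm).exists_le_sylow
  refine ⟨(Q : Subgroup ↥L).map L.subtype,
    ⟨map_subtype_le _, Q.isPGroup'.map _, ?_⟩, fun y hy => ⟨⟨y, hPL hy⟩, hQ hy, rfl⟩⟩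
  rw [relIndex, subgroupOf, comap_map_eq_self_of_injective L.subtype_injective, ← Nat.not_even_iff_odd,
    even_iff_two_dvd]
  exact Q.not_dvd_index

section
variable {T L : Subgroup G}

theorem Sit.syl (s : Sit T L) : IsSylowTwoIn T L := s.mem.1

theorem Sit.T_le (s : Sit T L) : T ≤ L := s.syl.1

theorem Sit.T_two (s : Sit T L) : IsPGroup 2 ↥T := s.syl.2.1

theorem Sit.J_le (s : Sit T L) : thompsonSubgroupOf 2 T ≤ L := (thompsonEl_le T).trans s.T_le

variable [Finite G]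

theorem Sit.Q_le_T (s : Sit T L) : pCoreOf 2 L ≤ T :=
  normal_le_sylowIn s.syl (pCoreOf_isPGroup L) (pCoreOf_le L) (le_normalizer_pCoreOf L)

theorem mem_vOf {x : G} :
    x ∈ vOf L ↔ x ∈ pCoreOf 2 L ∧ (∀ r ∈ pCoreOf 2 L, r * x = x * r) ∧ x * x = 1 := mem_omegaCenter

theorem vOf_le_Q : vOf L ≤ pCoreOf 2 L := fun _ hx => (mem_vOf.1 hx).1

theorem vOf_comm {x y : G} (hx : x ∈ vOf L) (hy : y ∈ vOf L) : x * y = y * x :=
  (mem_vOf.1 hy).2.1 x (vOf_le_Q hx)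

theorem vOf_sq {x : G} (hx : x ∈ vOf L) : x * x = 1 := (mem_vOf.1 hx).2.2

theorem le_normalizer_vOf : L ≤ normalizer (vOf L : Set G) :=
  (le_normalizer_pCoreOf L).trans (normalizer_le_normalizer_omegaCenter _)

theorem Q_le_cOf : pCoreOf 2 L ≤ cOf L := fun x hx =>
  ⟨pCoreOf_le L hx, mem_centralizer_iff.2 fun v hv => ((mem_vOf.1 hv).2.1 x hx).symm⟩

theorem vOf_le_cOf : vOf L ≤ cOf L := vOf_le_Q.trans Q_le_cOf

theorem le_normalizer_cOf : L ≤ normalizer (cOf L : Set G) := by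
  intro g hg
  refine mem_normalizer_fintype fun c hc => ?_
  obtain ⟨hcL, hcV⟩ := hc
  refine ⟨L.mul_mem (L.mul_mem hg hcL) (L.inv_mem hg), mem_centralizer_iff.2 fun v hv => ?_⟩
  have h := mem_centralizer_iff.1 hcV (g⁻¹ * v * g) ((mem_normalizer_iff''.1 (le_normalizer_vOf hg) v).1 hv)
  calc v * (g * c * g⁻¹) = g * ((g⁻¹ * v * g) * c) * g⁻¹ := by group
    _ = g * (c * (g⁻¹ * v * g)) * g⁻¹ := by rw [h]
    _ = g * c * g⁻¹ * v := by group

theorem Sit.cOf_le_normalizer_T (s : Sit T L) : cOf L ≤ normalizer (T : Set G) := by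
  haveI := Fact.mk Nat.prime_two
  intro c hc
  obtain ⟨S, hS⟩ := s.T_two.exists_le_sylow
  have hZ : omegaCenterOf (S : Subgroup G) ≤ vOf L := fun z hz => by
    obtain ⟨h1, h2, h3⟩ := mem_omegaCenter.1 hz
    have h4 : z ∈ pCoreOf 2 L := s.mem.2.2 (mem_centralizer_iff.2 fun q hq => h2 q (hS (s.Q_le_T hq)))
    exact mem_vOf.2 ⟨h4, fun r hr => h2 r (hS (s.Q_le_T hr)), h3⟩
  have hcS : c ∈ normalizer ((S : Subgroup G) : Set G) := s.zNorm S (centralizer_le hZ hc.2)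
  have hSL : (S : Subgroup G) ⊓ L = T :=
    le_of_two_group s.syl (S.isPGroup'.to_le inf_le_left) inf_le_right (le_inf hS s.T_le)
  refine mem_normalizer_fintype fun t ht => ?_
  rw [SetLike.mem_coe, ← hSL]
  exact ⟨(mem_normalizer_iff.1 hcS t).1 (hS ht),
    L.mul_mem (L.mul_mem hc.1 (s.T_le ht)) (L.inv_mem hc.1)⟩

theorem Sit.cOf_two (s : Sit T L) {x : G} (hx : x ∈ cOf L) {n : ℕ} (hn : x ^ 2 ^ n = 1) :
    x ∈ pCoreOf 2 L := by
  have key : ∀ y ∈ cOf L, ∀ m : ℕ, y ^ 2 ^ m = 1 → y ∈ T ⊓ cOf L := fun y hy m hm =>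
    ⟨mem_of_two_pow s.syl hy.1 (s.cOf_le_normalizer_T hy) hm, hy⟩
  refine le_pCoreOf (inf_le_left.trans s.T_le) ?_ (s.T_two.to_le inf_le_left) (key x hx n hn)
  intro g hg
  refine mem_normalizer_fintype fun y hy => ?_
  obtain ⟨m, hm⟩ := s.T_two ⟨y, hy.1⟩
  refine key _ ((mem_normalizer_iff.1 (le_normalizer_cOf hg) y).1 hy.2) m ?_
  rw [conj_pow, show y ^ 2 ^ m = 1 by simpa using congrArg Subtype.val hm, mul_one, mul_inv_cancel]

theorem Sit.inf_cOf_le_Q (s : Sit T L) : T ⊓ cOf L ≤ pCoreOf 2 L := fun x hx => by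
  obtain ⟨m, hm⟩ := s.T_two ⟨x, hx.1⟩
  exact s.cOf_two hx.2 (n := m) (by simpa using congrArg Subtype.val hm)

theorem J_le_dOf : thompsonSubgroupOf 2 T ≤ dOf T L := fun j hj =>
  subset_closure ⟨1, one_mem _, j, hj, by group⟩

theorem Sit.dOf_le (s : Sit T L) : dOf T L ≤ L := by
  refine (closure_le _).2 ?_
  rintro _ ⟨x, hx, j, hj, rfl⟩
  exact mul_mem (mul_mem hx (s.J_le hj)) (inv_mem hx)

theorem le_normalizer_dOf : L ≤ normalizer (dOf T L : Set G) := by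
  intro g hg
  refine mem_normalizer_fintype fun d hd => ?_
  have : (dOf T L).map (MulAut.conj g).toMonoidHom ≤ dOf T L := by
    unfold dOf
    rw [MonoidHom.map_closure]
    refine closure_mono ?_
    rintro _ ⟨_, ⟨x, hx, j, hj, rfl⟩, rfl⟩
    exact ⟨g * x, mul_mem hg hx, j, hj, by simp [mul_assoc]⟩
  exact this ⟨d, hd, rfl⟩

/-- Modulo `O₂(L)`, `C_L(V)` is centralized by the conjugates of `J(T)`. -/
theorem Sit.comm_cOf (s : Sit T L) {c d : G} (hc : c ∈ cOf L) (hd : d ∈ dOf T L) :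
    c * d * c⁻¹ * d⁻¹ ∈ pCoreOf 2 L := by
  have hN : ∀ g ∈ L, ∀ q ∈ pCoreOf 2 L, g * q * g⁻¹ ∈ pCoreOf 2 L := fun g hg q hq =>
    (mem_normalizer_iff.1 (le_normalizer_pCoreOf L hg) q).1 hq
  let U : Subgroup G :=
    { carrier := {d | d ∈ L ∧ ∀ c ∈ cOf L, c * d * c⁻¹ * d⁻¹ ∈ pCoreOf 2 L}
      one_mem' := ⟨one_mem _, fun c _ => by simp⟩
      mul_mem' := by
        rintro a b ⟨ha, ha'⟩ ⟨hb, hb'⟩
        refine ⟨mul_mem ha hb, fun c hc => ?_⟩
        rw [show c * (a * b) * c⁻¹ * (a * b)⁻¹ = (c * a * c⁻¹ * a⁻¹) * (a * (c * b * c⁻¹ * b⁻¹) * a⁻¹) by group]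
        exact mul_mem (ha' c hc) (hN a ha _ (hb' c hc))
      inv_mem' := by
        rintro a ⟨ha, ha'⟩
        refine ⟨inv_mem ha, fun c hc => ?_⟩
        rw [show c * a⁻¹ * c⁻¹ * a⁻¹⁻¹ = a⁻¹ * (c * a * c⁻¹ * a⁻¹)⁻¹ * a⁻¹⁻¹ by group]
        exact hN _ (inv_mem ha) _ (inv_mem (ha' c hc)) }
  have hle : dOf T L ≤ U := by
    refine (closure_le U).2 ?_
    rintro _ ⟨x, hx, j, hj, rfl⟩
    refine ⟨mul_mem (mul_mem hx (s.J_le hj)) (inv_mem hx), fun c hc => ?_⟩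
    have hc' : x⁻¹ * c * x ∈ cOf L := (mem_normalizer_iff''.1 (le_normalizer_cOf hx) c).1 hc
    have hjT : j ∈ T := thompsonEl_le T hj
    have h1 : (x⁻¹ * c * x) * j * (x⁻¹ * c * x)⁻¹ * j⁻¹ ∈ T ⊓ cOf L := by
      refine ⟨T.mul_mem ((mem_normalizer_iff.1 (s.cOf_le_normalizer_T hc') j).1 hjT) (T.inv_mem hjT), ?_⟩
      rw [show (x⁻¹ * c * x) * j * (x⁻¹ * c * x)⁻¹ * j⁻¹ =
        (x⁻¹ * c * x) * (j * (x⁻¹ * c * x)⁻¹ * j⁻¹) by group]
      exact mul_mem hc' ((mem_normalizer_iff.1 (le_normalizer_cOf (s.T_le hjT)) _).1 (inv_mem hc'))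
    have h2 := hN x hx _ (s.inf_cOf_le_Q h1)
    rw [show c * (x * j * x⁻¹) * c⁻¹ * (x * j * x⁻¹)⁻¹ =
      x * ((x⁻¹ * c * x) * j * (x⁻¹ * c * x)⁻¹ * j⁻¹) * x⁻¹ by group]
    exact h2
  exact (hle hd).2 c hc

/-- Conjugates of `J(T)` in a common `2`-subgroup of `L` coincide. -/
theorem Sit.J_conj_eq (s : Sit T L) {x : G} (hx : x ∈ L) {P : Subgroup G} (hP : IsPGroup 2 ↥P)
    (hPL : P ≤ L) (hJP : thompsonSubgroupOf 2 T ≤ P)
    (hxP : (thompsonSubgroupOf 2 T).map (MulAut.conj x).toMonoidHom ≤ P) :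
    (thompsonSubgroupOf 2 T).map (MulAut.conj x).toMonoidHom = thompsonSubgroupOf 2 T := by
  obtain ⟨y, hy, hle⟩ := exists_conj_le s.syl hP hPL
  have key : ∀ z ∈ L, (thompsonSubgroupOf 2 T).map (MulAut.conj z).toMonoidHom ≤ T →
      (thompsonSubgroupOf 2 T).map (MulAut.conj z).toMonoidHom = thompsonSubgroupOf 2 T := by
    intro z _ hz
    have hf : Function.Injective (MulAut.conj z).toMonoidHom := (MulAut.conj z).injective
    refine eq_of_le_of_card_ge ?_ (card_map_of_injective hf).ge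
    rw [← thompson_map _ hf] at hz ⊢
    refine thompsonEl_le_of fun A hA => IsMaxEl.le_thompsonEl ⟨hA.le_thompsonEl.trans hz, hA.2.1, ?_⟩
    intro B hB hB'
    obtain ⟨C, hC⟩ := exists_maxEl T
    rw [← maxElemAbelianOrder_eq hA, maxElemAbelianOrder_map _ hf, maxElemAbelianOrder_eq hC]
    exact hC.2.2 B hB hB'
  have hf : Function.Injective (MulAut.conj y⁻¹).toMonoidHom := (MulAut.conj y⁻¹).injective
  have hT' : P.map (MulAut.conj y⁻¹).toMonoidHom ≤ T := by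
    intro p hp
    obtain ⟨q, hq, rfl⟩ := hp
    obtain ⟨t, ht, rfl⟩ := hle hq
    simpa [mul_assoc] using ht
  have h1 := key (y⁻¹ * x) (mul_mem (inv_mem hy) hx) (by
    rw [← map_conj_conj]; exact (map_mono hxP).trans hT')
  have h2 := key y⁻¹ (inv_mem hy) ((map_mono hJP).trans hT')
  have h3 := h1.trans h2.symm
  rw [← map_conj_conj] at h3
  exact map_injective hf h3

theorem Sit.thompson_eq_of_le (s : Sit T L) {P : Subgroup G} (hP : IsPGroup 2 ↥P) (hPL : P ≤ L)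
    (hJP : thompsonSubgroupOf 2 T ≤ P) : thompsonSubgroupOf 2 P = thompsonSubgroupOf 2 T := by
  obtain ⟨y, hy, hle⟩ := exists_conj_le s.syl hP hPL
  have hJy : (thompsonSubgroupOf 2 T).map (MulAut.conj y).toMonoidHom = thompsonSubgroupOf 2 T :=
    s.J_conj_eq hy (s.T_two.map _) (isSylowTwoIn_conj s.syl hy).1 (hJP.trans hle)
      (map_mono (thompsonEl_le T))
  rw [← thompson_map _ (MulAut.conj y).injective] at hJy
  rw [← hJy] at hJP ⊢
  exact thompson_eq_of_between hJP hle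

theorem Sit.cOf_le_normalizer_J (s : Sit T L) : cOf L ≤ normalizer (thompsonSubgroupOf 2 T : Set G) :=
  fun c hc => mem_normalizer_of_map_eq (s.J_conj_eq hc.1 s.T_two s.T_le (thompsonEl_le T) (by
    rintro _ ⟨j, hj, rfl⟩
    exact (mem_normalizer_iff.1 (s.cOf_le_normalizer_T hc) j).1 (thompsonEl_le T hj)))

theorem Sit.not_J_le_cOf (s : Sit T L) : ¬ thompsonSubgroupOf 2 T ≤ cOf L := fun h =>
  s.mem.2.1 fun _ hj => s.inf_cOf_le_Q ⟨thompsonEl_le T hj, h hj⟩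

/-- The Frattini argument. -/
theorem Sit.frattini (s : Sit T L) {x : G} (hx : x ∈ L) :
    ∃ d ∈ dOf T L, ∃ y ∈ L, y ∈ normalizer (thompsonSubgroupOf 2 T : Set G) ∧ x = d * y := by
  have hJp : IsPGroup 2 ↥(thompsonSubgroupOf 2 T) := s.T_two.to_le (thompsonEl_le T)
  obtain ⟨P, hP, hJP⟩ := exists_sylowIn hJp (J_le_dOf (L := L))
  have hxD : (thompsonSubgroupOf 2 T).map (MulAut.conj x).toMonoidHom ≤ dOf T L := by
    rintro _ ⟨j, hj, rfl⟩
    exact subset_closure ⟨x, hx, j, hj, rfl⟩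
  obtain ⟨d, hd, hle⟩ := exists_conj_le hP (hJp.map _) hxD
  refine ⟨d, hd, d⁻¹ * x, mul_mem (inv_mem (s.dOf_le hd)) hx, ?_, by group⟩
  refine mem_normalizer_of_map_eq (s.J_conj_eq (mul_mem (inv_mem (s.dOf_le hd)) hx) hP.2.1
    (hP.1.trans s.dOf_le) hJP ?_)
  rw [← map_conj_conj]
  refine (map_mono hle).trans ?_
  rw [map_conj_conj, inv_mul_cancel, map_conj_one]

theorem Sit.conj_J_le (s : Sit T L) {x : G} (hx : x ∈ L) :
    ∃ d ∈ dOf T L, (thompsonSubgroupOf 2 T).map (MulAut.conj x).toMonoidHom =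
      (thompsonSubgroupOf 2 T).map (MulAut.conj d).toMonoidHom := by
  obtain ⟨d, hd, y, -, hy, rfl⟩ := s.frattini hx
  exact ⟨d, hd, by rw [← map_conj_conj, map_conj_eq_self hy]⟩

/-- A normal subgroup of `L` which is a `2`-group modulo `C_L(V)` lies in `C_L(V)`. -/
theorem Sit.le_cOf (s : Sit T L) {N : Subgroup G} (hNL : N ≤ L) (hn : L ≤ normalizer (N : Set G))
    (hC : cOf L ≤ N) (h2 : ∀ x ∈ N, ∃ n : ℕ, x ^ 2 ^ n ∈ cOf L) : N ≤ cOf L := by
  haveI := Fact.mk Nat.prime_two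
  -- `T ⊓ N` is a Sylow subgroup of `N`
  have hTN : IsSylowTwoIn (T ⊓ N) N := by
    obtain ⟨P, hP, hle⟩ := exists_sylowIn (s.T_two.to_le (inf_le_left : T ⊓ N ≤ T)) (inf_le_right : T ⊓ N ≤ N)
    obtain ⟨g, hg, hPg⟩ := exists_conj_le s.syl hP.2.1 (hP.1.trans hNL)
    have h1 : P ≤ (T ⊓ N).map (MulAut.conj g).toMonoidHom := by
      intro y hy
      obtain ⟨t, ht, rfl⟩ := hPg hy
      exact ⟨t, ⟨ht, (mem_normalizer_iff.1 (hn hg) t).2 (hP.1 hy)⟩, rfl⟩
    have h2 : T ⊓ N = P := eq_of_le_of_card_ge hle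
      ((card_le_of_le h1).trans_eq (card_map_of_injective (MulAut.conj g).injective))
    rwa [h2]
  -- hence `N = (T ⊓ N) C`
  have hM : N ≤ (T ⊓ N) ⊔ cOf L := by
    haveI : ((cOf L).subgroupOf N).Normal :=
      normal_subgroupOf_of_le_normalizer (hNL.trans le_normalizer_cOf)
    have hp : IsPGroup 2 (↥N ⧸ (cOf L).subgroupOf N) := fun q => by
      obtain ⟨x, rfl⟩ := QuotientGroup.mk'_surjective _ q
      obtain ⟨n, hn'⟩ := h2 x x.2
      exact ⟨n, by rw [← map_pow]; exact (QuotientGroup.eq_one_iff _).2 (mem_subgroupOf.2 (by simpa using hn'))⟩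
    obtain ⟨k, hk⟩ := IsPGroup.iff_card.1 hp
    have hk' : (cOf L).relIndex N = 2 ^ k := by rw [relIndex, index_eq_card, hk]
    have hle : T ⊓ N ⊔ cOf L ≤ N := sup_le inf_le_right hC
    have d1 : (T ⊓ N ⊔ cOf L).relIndex N ∣ 2 ^ k :=
      hk' ▸ Dvd.intro_left _ (relIndex_mul_relIndex _ _ _ le_sup_right hle)
    have d2 : (T ⊓ N ⊔ cOf L).relIndex N ∣ (T ⊓ N).relIndex N :=
      Dvd.intro_left _ (relIndex_mul_relIndex _ _ _ le_sup_left hle)
    exact relIndex_eq_one.1 (Nat.eq_one_of_dvd_coprimes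
      (Nat.Coprime.pow_left k (Nat.coprime_two_left.2 hTN.2.2)) d1 d2)
  have hNT : N ≤ normalizer (T : Set G) :=
    hM.trans (sup_le (inf_le_left.trans le_normalizer) s.cOf_le_normalizer_T)
  have hTQ : T ⊓ N ≤ cOf L := by
    refine le_trans (le_pCoreOf (inf_le_left.trans s.T_le) ?_ hTN.2.1) Q_le_cOf
    intro g hg
    refine mem_normalizer_fintype fun y hy => ?_
    have hy' : g * y * g⁻¹ ∈ N := (mem_normalizer_iff.1 (hn hg) y).1 hy.2
    obtain ⟨m, hm⟩ := hTN.2.1 ⟨y, hy⟩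
    refine ⟨mem_of_two_pow s.syl (hNL hy') (hNT hy') (n := m) ?_, hy'⟩
    rw [conj_pow, show y ^ 2 ^ m = 1 by simpa using congrArg Subtype.val hm, mul_one, mul_inv_cancel]
  exact hM.trans (sup_le hTQ le_rfl)

end

end Cfsg.Agent.Invol.JComp
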