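import Cfsg.Agent.Lib.Invol.JCompExists

/-!
Consequences of the structure of an overgroup `L`: subnormality of the components, the permutation of the
four-groups, and the subgroups generated by odd elements which are subnormal in their join with `J(T)`.
-/

set_option autoImplicit false

open scoped commutatorElement Classical

namespace Cfsg.Agent.Invol.JComp

open Subgroup

variable {G : Type*} [Group G]

theorem Sit.of_mem [Finite G] {T L : Subgroup G} (hL : IsCharacteristicTwoType G)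
    (hN : ∀ N : Subgroup G, IsTwoLocal N → Group.IsSolvable ↥N)
    (hZ : ∀ S : Sylow 2 G, centralizer (omegaCenterOf (S : Subgroup G) : Set G) ≤
      normalizer ((S : Subgroup G) : Set G))
    (hT1 : T ≠ ⊥) (hLT : L ∈ jOvergroups T) : Sit T L := by
  have hQ : pCoreOf 2 L ≠ ⊥ := by
    intro h
    have h2 := hLT.2.2
    rw [h] at h2
    refine hT1 ((Subgroup.eq_bot_iff_forall _).2 fun t _ => mem_bot.1 (h2 (mem_centralizer_iff.2 ?_)))
    intro q hq
    rw [mem_bot.1 hq, one_mul, mul_one]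
  haveI := hN (normalizer (pCoreOf 2 L : Set G)) ⟨_, pCoreOf_isPGroup L, hQ, rfl⟩
  exact ⟨hLT, hZ, solvable_of_solvable_injective
    (inclusion_injective (le_normalizer_pCoreOf L)), hL, hN⟩

section
variable [Finite G] {T L : Subgroup G} {Ws : Set (Subgroup G)}

theorem normalizer_le_normalizer_wOf (K : Subgroup G) :
    normalizer (K : Set G) ≤ normalizer (wOf K : Set G) := fun g hg =>
  mem_normalizer_of_map_eq (by rw [← wOf_map _ (MulAut.conj g).injective, map_conj_eq_self hg])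

theorem Sit.comp_subnormal (s : Sit T L) {K : Subgroup G} (hK : IsJComponent T K) (hKL : K ≤ L) :
    (K.subgroupOf L).IsSubnormal := by
  obtain ⟨N, hN⟩ : ∃ N, N = sSup {K : Subgroup G | IsJComponent T K ∧ K ≤ L} := ⟨_, rfl⟩
  have hND : N ≤ dOf T L := hN ▸ sSup_le fun K' hK' => s.comp_le_dOf hK'.1 hK'.2
  have hNL : N ≤ L := hND.trans s.dOf_le
  have hKN : K ≤ N := hN ▸ le_sSup ⟨hK, hKL⟩
  have hNn : L ≤ normalizer (N : Set G) := by
    intro g hg
    refine mem_normalizer_fintype fun y hy => ?_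
    have hle : N ≤ N.comap (MulAut.conj g).toMonoidHom := by
      conv_lhs => rw [hN]
      refine sSup_le fun K' hK' => ?_
      rw [← map_le_iff_le_comap, hN]
      exact le_sSup (s.comp_conj hK'.1 hK'.2 hg)
    exact hle hy
  refine IsSubnormal.step _ (N.subgroupOf L) (fun x hx => hKN hx)
    (normal_subgroupOf_of_le_normalizer hNn).isSubnormal ?_
  refine normal_subgroupOf_of_le_normalizer fun x hx => mem_normalizer_iff.2 fun y => ?_
  have h := mem_normalizer_iff.1 (s.comp_normal hK hKL (hND (mem_subgroupOf.1 hx))) y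
  simpa [mem_subgroupOf] using h

/-- `L` permutes the four-groups of the frame. -/
theorem Sit.frame_conj (s : Sit T L) (f : IsFrame T L Ws) {W : Subgroup G} (hW : W ∈ Ws) {x : G}
    (hx : x ∈ L) : W.map (MulAut.conj x).toMonoidHom ∈ Ws := by
  obtain ⟨K, hK, hKL, rfl⟩ := s.exists_comp f hW
  obtain ⟨h1, h2⟩ := s.comp_conj hK hKL hx
  obtain ⟨W', c⟩ := s.compData f h1 h2
  rw [← wOf_map _ (MulAut.conj x).injective, c.w_eq]
  exact c.mem

/-- `V` lies in `J(T)`. -/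
theorem Sit.vOf_le_J (s : Sit T L) (f : IsFrame T L Ws) : vOf L ≤ thompsonSubgroupOf 2 T := by
  have hVT : vOf L ≤ T := vOf_le_Q.trans s.Q_le_T
  refine f.decomp.trans (sup_le (fun v hv => ?_) (sSup_le fun W hW => ?_))
  · obtain ⟨A, hA⟩ := exists_maxEl T
    exact hA.le_thompsonEl (hA.mem_of_commute (hVT hv.1) (by rw [pow_two]; exact vOf_sq hv.1)
      fun a ha => mem_centralizer_iff.1 hv.2 a (J_le_dOf (hA.le_thompsonEl ha)))
  obtain ⟨t, ht, -, htW, -⟩ := f.iso W hW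
  obtain ⟨A, hA, a, haA, haW⟩ : ∃ A, IsMaxEl 2 T A ∧ ∃ a ∈ A, a ∉ centralizer (W : Set G) := by
    by_contra hcon
    push Not at hcon
    exact htW (thompsonEl_le_of hcon ht)
  have h4 := f.card W hW
  have hAn : ∀ g ∈ A, g ∈ normalizer (W : Set G) := fun g hg => f.stab W hW (J_le_dOf (hA.le_thompsonEl hg))
  have hAev : ∀ g ∈ A, g ∉ centralizer (W : Set G) → ¬ Ev W g := fun g hg hgW =>
    not_ev_of_sq h4 (hAn g hg) (by rw [← pow_two, hA.2.1.2 g hg]; exact one_mem _) hgW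
  obtain ⟨A₀, hA₀⟩ : ∃ A₀, A₀ = A ⊓ centralizer (W : Set G) := ⟨_, rfl⟩
  have hA2 : Nat.card ↥A ≤ 2 * Nat.card ↥A₀ := by
    have hsub : (A : Set G) ⊆ (A₀ : Set G) ∪ (fun y => a * y) '' (A₀ : Set G) := by
      intro x hx
      by_cases hxW : x ∈ centralizer (W : Set G)
      · exact Or.inl (hA₀ ▸ mem_inf.2 ⟨hx, hxW⟩)
      refine Or.inr ⟨a⁻¹ * x, hA₀ ▸ mem_inf.2 ⟨mul_mem (inv_mem haA) hx, ?_⟩, by group⟩
      refine (odd_odd h4 (hAn a haA) (hAev a haA haW) (hAn x hx) (hAev x hx hxW)).2.2 ?_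
      rw [hA.2.1.1 a haA x hx, mul_inv_cancel_right, mul_inv_cancel]
      exact one_mem _
    have h1 := (Set.ncard_le_ncard hsub (Set.toFinite _)).trans (Set.ncard_union_le _ _)
    rw [Set.ncard_image_of_injective _ (mul_right_injective a), ← Nat.card_coe_set_eq,
      ← Nat.card_coe_set_eq] at h1
    rw [two_mul]; exact h1
  have hA₀W : A₀ ≤ centralizer (W : Set G) := hA₀ ▸ inf_le_right
  have hN : A₀ ≤ normalizer (W : Set G) := hA₀W.trans (centralizer_le_normalizer _)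
  have hWT : W ≤ T := (f.le W hW).trans hVT
  have hmax : IsMaxEl 2 T (A₀ ⊔ W) := by
    have hm : ∀ x ∈ A₀ ⊔ W, ∃ b ∈ A₀, ∃ w ∈ W, b * w = x := fun x hx => by
      rwa [← SetLike.mem_coe, coe_mul_of_left_le_normalizer_right _ _ hN] at hx
    have hbw : ∀ b ∈ A₀, ∀ w ∈ W, Commute b w := fun b hb w hw =>
      (mem_centralizer_iff.1 (hA₀W hb) w hw).symm
    refine ⟨sup_le ((hA₀ ▸ inf_le_left : A₀ ≤ A).trans hA.1) hWT, ⟨fun x hx y hy => ?_, fun x hx => ?_⟩,
      fun C hC hC' => (hA.2.2 C hC hC').trans ?_⟩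
    · obtain ⟨u, hu, w, hw, rfl⟩ := hm x hx
      obtain ⟨u', hu', w', hw', rfl⟩ := hm y hy
      have h1 : Commute u u' := hA.2.1.1 u (hA₀.le hu).1 u' (hA₀.le hu').1
      have h4' : Commute w w' := f.comm hW w hw w' hw'
      exact ((h1.mul_right (hbw u hu w' hw')).mul_left ((hbw u' hu' w hw).symm.mul_right h4')).eq
    · obtain ⟨u, hu, w, hw, rfl⟩ := hm x hx
      rw [(hbw u hu w hw).mul_pow, hA.2.1.2 u (hA₀.le hu).1, pow_two, vOf_sq (f.le W hW hw), one_mul]
    · have hsm := Grp.card_sup_mul_card_inf hN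
      rw [h4] at hsm
      have hi : Nat.card ↥(A₀ ⊓ W) ≤ 2 := by
        have hd := card_dvd_of_le (inf_le_right : A₀ ⊓ W ≤ W)
        rw [h4] at hd
        have hne : Nat.card ↥(A₀ ⊓ W) ≠ 4 := fun e => by
          have := eq_of_le_of_card_ge (inf_le_right : A₀ ⊓ W ≤ W) (by rw [e, h4])
          exact haW (mem_centralizer_iff.2 fun w hw =>
            (hA.2.1.1 a haA w (hA₀.le (this.ge hw).1).1).symm)
        have h3 := Nat.le_of_dvd (by omega) hd
        have : Nat.card ↥(A₀ ⊓ W) ≠ 3 := fun e => by rw [e] at hd; omega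
        omega
      nlinarith [Nat.card_pos (α := ↥(A₀ ⊔ W : Subgroup G))]
  exact le_sup_right.trans hmax.le_thompsonEl

/-- A subgroup generated by odd elements, subnormal in its join with `J(T)`, whose `W` is a four-group, has `W`
normalized by `J(T)`. -/
theorem Sit.J_le_normalizer_wOf (s : Sit T L) {K : Subgroup G} (hKL : K ≤ L)
    (hodd : closure {g : G | g ∈ K ∧ Odd (orderOf g)} = K)
    (hW4 : Nat.card ↥(wOf K) = 4)
    (hsn : (K.subgroupOf (K ⊔ thompsonSubgroupOf 2 T)).IsSubnormal) :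
    thompsonSubgroupOf 2 T ≤ normalizer (wOf K : Set G) := by
  haveI := Fact.mk Nat.prime_two
  obtain ⟨Ws, f⟩ := s.exists_frame
  obtain ⟨J, hJ⟩ : ∃ J, J = thompsonSubgroupOf 2 T := ⟨_, rfl⟩
  rw [← hJ] at hsn ⊢
  have hJp : IsPGroup 2 ↥J := hJ ▸ s.T_two.to_le (thompsonEl_le T)
  have hJL : J ≤ L := hJ ▸ s.J_le
  obtain ⟨R, hR⟩ : ∃ R, R = K ⊔ J := ⟨_, rfl⟩
  rw [← hR] at hsn
  have hKR : K ≤ R := hR ▸ le_sup_left
  have hJR : J ≤ R := hR ▸ le_sup_right
  have hRL : R ≤ L := hR ▸ sup_le hKL hJL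
  by_cases hall : ∀ k ∈ K, Odd (orderOf k) → k ∈ normalizer (J : Set G)
  · have hKN : K ≤ normalizer (J : Set G) := by
      rw [← hodd]; exact (closure_le _).2 fun g hg => hall g hg.1 hg.2
    exact (le_normalizer_of_subnormal hKR hJR (hR ▸ sup_le hKN le_normalizer) hJp hodd hsn).trans
      (normalizer_le_normalizer_wOf K)
  push Not at hall
  obtain ⟨k, hk, hko, hkJ⟩ := hall
  have hkL := hKL hk
  obtain ⟨J', hJ'⟩ : ∃ J', J' = J.map (MulAut.conj k).toMonoidHom := ⟨_, rfl⟩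
  have hJ'R : J' ≤ R := by
    rw [hJ']
    rintro _ ⟨j, hj, rfl⟩
    exact mul_mem (mul_mem (hKR hk) (hJR hj)) (inv_mem (hKR hk))
  have hJD : J ≤ dOf T L := hJ ▸ J_le_dOf
  have hJ'D : J' ≤ dOf T L := by
    rw [hJ']
    rintro _ ⟨j, hj, rfl⟩
    exact (mem_normalizer_iff.1 (le_normalizer_dOf hkL) j).1 (hJD hj)
  have hJ'p : IsPGroup 2 ↥J' := hJ' ▸ hJp.map _
  choose! t ht ht2 htW hto using f.iso
  have htn : ∀ W ∈ Ws, t W ∈ normalizer (W : Set G) := fun W hW => f.stab W hW (J_le_dOf (ht W hW))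
  have htne : ∀ W ∈ Ws, ¬ Ev W (t W) := fun W hW =>
    not_ev_of_sq (f.card W hW) (htn W hW) (by rw [ht2 W hW]; exact one_mem _) (htW W hW)
  have htwo : ∀ P : Subgroup G, IsPGroup 2 ↥P → ∀ W ∈ Ws, ∀ h ∈ P, Ev W h → h ∈ centralizer (W : Set G) := by
    intro P hP W hW h hh he
    obtain ⟨n, hn⟩ := hP ⟨h, hh⟩
    exact centralizes_of_ev_two (f.card W hW) he (n := n)
      (by rw [show h ^ 2 ^ n = 1 by simpa using congrArg Subtype.val hn]; exact one_mem _)
  have hJgood : ∀ W ∈ Ws, ∀ j ∈ J, j ∈ centralizer (W : Set G) ∨ t W * j ∈ centralizer (W : Set G) := by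
    intro W hW j hj
    by_cases he : Ev W j
    · exact Or.inl (htwo J hJp W hW j hj he)
    · exact Or.inr (htwo J hJp W hW _ (mul_mem (hJ ▸ ht W hW) hj)
        (odd_odd (f.card W hW) (htn W hW) (htne W hW) (f.stab W hW (hJD hj)) he).1)
  -- some conjugate element acts differently on some four-group
  obtain ⟨W, hW, h, hh, hhW, hhtW⟩ : ∃ W ∈ Ws, ∃ h ∈ J', h ∉ centralizer (W : Set G) ∧
      t W * h ∉ centralizer (W : Set G) := by
    by_contra hcon
    push Not at hcon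
    refine hkJ (mem_normalizer_of_map_eq ?_)
    rw [← hJ']
    obtain ⟨M, hM⟩ : ∃ M, M = (J ⊔ J') ⊔ cOf L := ⟨_, rfl⟩
    have hsq : ∀ y ∈ J ⊔ J', ∀ W ∈ Ws, y ∈ centralizer (W : Set G) ∨ t W * y ∈ centralizer (W : Set G) := by
      intro y hy
      rw [sup_eq_closure] at hy
      have hyD : ∀ z ∈ closure ((J : Set G) ∪ J'), z ∈ dOf T L := fun z hz =>
        (closure_le _).2 (Set.union_subset hJD hJ'D) hz
      induction hy using closure_induction with
      | mem z hz =>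
        intro W hW
        rcases hz with hz | hz
        · exact hJgood W hW z hz
        · by_cases hc : z ∈ centralizer (W : Set G)
          · exact Or.inl hc
          · exact Or.inr (hcon W hW z hz hc)
      | one => exact fun W _ => Or.inl (one_mem _)
      | mul a b ha hb iha ihb =>
        intro W hW
        have hconj : ∀ z, z ∈ centralizer (W : Set G) → t W * z * (t W)⁻¹ ∈ centralizer (W : Set G) := by
          intro z hz
          refine mem_centralizer_iff.2 fun w hw => ?_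
          have := mem_centralizer_iff.1 hz _ ((mem_normalizer_iff''.1 (htn W hW) w).1 hw)
          calc w * (t W * z * (t W)⁻¹) = t W * (((t W)⁻¹ * w * t W) * z) * (t W)⁻¹ := by group
            _ = t W * (z * ((t W)⁻¹ * w * t W)) * (t W)⁻¹ := by rw [this]
            _ = t W * z * (t W)⁻¹ * w := by group
        have hti : (t W)⁻¹ = t W := inv_eq_of_mul_eq_one_right (ht2 W hW)
        rcases iha W hW with h1 | h1 <;> rcases ihb W hW with h2 | h2
        · exact Or.inl (mul_mem h1 h2)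
        · refine Or.inr ?_
          rw [show t W * (a * b) = t W * a * (t W)⁻¹ * (t W * b) by group]
          exact mul_mem (hconj a h1) h2
        · refine Or.inr ?_
          rw [← mul_assoc]
          exact mul_mem h1 h2
        · refine Or.inl ?_
          rw [show a * b = t W * (t W * a) * (t W)⁻¹ * (t W * b) by
            rw [← mul_assoc (t W) (t W) a, ht2 W hW, one_mul, hti, ← mul_assoc, mul_assoc a, ht2 W hW, mul_one]]
          exact mul_mem (hconj _ h1) h2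
      | inv a ha iha =>
        intro W hW
        have hti : (t W)⁻¹ = t W := inv_eq_of_mul_eq_one_right (ht2 W hW)
        rcases iha W hW with h1 | h1
        · exact Or.inl (inv_mem h1)
        · refine Or.inr ?_
          rw [show t W * a⁻¹ = t W * (t W * a)⁻¹ * (t W)⁻¹ by
            rw [mul_inv_rev, ← mul_assoc, hti, mul_assoc _ (t W) (t W), ht2 W hW, mul_one]]
          refine mem_centralizer_iff.2 fun w hw => ?_
          have := mem_centralizer_iff.1 (inv_mem h1) _ ((mem_normalizer_iff''.1 (htn W hW) w).1 hw)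
          calc w * (t W * (t W * a)⁻¹ * (t W)⁻¹) = t W * (((t W)⁻¹ * w * t W) * (t W * a)⁻¹) * (t W)⁻¹ := by group
            _ = t W * ((t W * a)⁻¹ * ((t W)⁻¹ * w * t W)) * (t W)⁻¹ := by rw [this]
            _ = t W * (t W * a)⁻¹ * (t W)⁻¹ * w := by group
    have hY : J ⊔ J' ≤ dOf T L := sup_le hJD hJ'D
    have hYsq : ∀ y ∈ J ⊔ J', y * y ∈ cOf L := fun y hy => s.mem_cOf f (mul_mem (hY hy) (hY hy)) fun W hW => by
      rcases hsq y hy W hW with h1 | h1
      · exact mul_mem h1 h1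
      · have hyn := f.stab W hW (hY hy)
        by_cases he : Ev W y
        · exfalso
          refine htne W hW ?_
          have := (Ev.of_centralizer h1).mul (f.card W hW) (he.inv (f.card W hW))
          rwa [mul_inv_cancel_right] at this
        · exact odd_sq (f.card W hW) hyn he
    have hML : M ≤ L := hM ▸ sup_le (hY.trans s.dOf_le) inf_le_left
    haveI : ((cOf L).subgroupOf M).Normal := normal_subgroupOf_of_le_normalizer (hML.trans le_normalizer_cOf)
    have hMC : ∀ x ∈ M, x ^ 2 ∈ cOf L := fun x hx => by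
      rw [hM, ← SetLike.mem_coe, coe_mul_of_left_le_normalizer_right _ _
        ((hY.trans s.dOf_le).trans le_normalizer_cOf)] at hx
      obtain ⟨y, hy, c, hc, rfl⟩ := hx
      have hn := le_normalizer_cOf (L := L) ((hY.trans s.dOf_le) hy)
      rw [pow_two, show (y * c) * (y * c) = (y * c * y⁻¹) * (y * y) * c by simp [mul_assoc]]
      exact mul_mem (mul_mem ((mem_normalizer_iff.1 hn c).1 hc) (hYsq y hy)) hc
    obtain ⟨P, hP, hJP⟩ := exists_sylowIn hJp (le_sup_left.trans (le_sup_left.trans hM.ge) : J ≤ M)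
    have hMP : M ≤ P ⊔ cOf L := by
      have hp : IsPGroup 2 (↥M ⧸ (cOf L).subgroupOf M) := fun q => by
        obtain ⟨x, rfl⟩ := QuotientGroup.mk'_surjective _ q
        exact ⟨1, by rw [← map_pow]; exact (QuotientGroup.eq_one_iff _).2 (mem_subgroupOf.2 (by simpa using hMC x x.2))⟩
      obtain ⟨n, hn⟩ := IsPGroup.iff_card.1 hp
      have hk' : (cOf L).relIndex M = 2 ^ n := by rw [relIndex, index_eq_card, hn]
      have hle : P ⊔ cOf L ≤ M := sup_le hP.1 (hM ▸ le_sup_right)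
      have d1 : (P ⊔ cOf L).relIndex M ∣ 2 ^ n :=
        hk' ▸ Dvd.intro_left _ (relIndex_mul_relIndex _ _ _ le_sup_right hle)
      have d2 : (P ⊔ cOf L).relIndex M ∣ P.relIndex M :=
        Dvd.intro_left _ (relIndex_mul_relIndex _ _ _ le_sup_left hle)
      exact relIndex_eq_one.1 (Nat.eq_one_of_dvd_coprimes
        (Nat.Coprime.pow_left n (Nat.coprime_two_left.2 hP.2.2)) d1 d2)
    have hJP' := s.thompson_eq_of_le hP.2.1 (hP.1.trans hML) (hJ ▸ hJP)
    have hPn : P ≤ normalizer (J : Set G) := fun x hx => mem_normalizer_of_map_eq (by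
      rw [hJ, ← hJP', ← thompson_map _ (MulAut.conj x).injective, map_conj_eq_self (le_normalizer hx)])
    have hMn : M ≤ normalizer (J : Set G) := hMP.trans (sup_le hPn (hJ ▸ s.cOf_le_normalizer_J))
    obtain ⟨m, hm, hle⟩ := exists_conj_le hP hJ'p (le_sup_right.trans (le_sup_left.trans hM.ge) : J' ≤ M)
    have hJm : J ≤ P.map (MulAut.conj m).toMonoidHom := by
      rw [← map_conj_eq_self (hMn hm)]; exact map_mono hJP
    subst hJ
    rw [hJ'] at hle ⊢
    exact s.J_conj_eq hkL (hP.2.1.map _) ((isSylowTwoIn_conj hP hm).1.trans hML) hJm hle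
  have h4 := f.card W hW
  have hhn := f.stab W hW (hJ'D hh)
  have hhe : ¬ Ev W h := fun he => hhW (htwo J' hJ'p W hW h hh he)
  have hti : (t W)⁻¹ = t W := inv_eq_of_mul_eq_one_right (ht2 W hW)
  -- an element of odd order in `R` acting only on `W`
  obtain ⟨u, hu⟩ : ∃ u, u = h * t W * h⁻¹ * (t W)⁻¹ := ⟨_, rfl⟩
  have hht := (odd_odd h4 hhn hhe (htn W hW) (htne W hW)).1
  have hhh : h * h ∈ centralizer (W : Set G) := odd_sq h4 hhn hhe
  have hhinv : ¬ Ev W h⁻¹ := fun he => hhe (by simpa using he.inv h4)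
  have hu' : u = (h * t W) * (h⁻¹ * t W) := by rw [hu, hti]; group
  have hue : Ev W u := by
    rw [hu']
    exact hht.mul h4 (odd_odd h4 (inv_mem hhn) hhinv (htn W hW) (htne W hW)).1
  have huR : u ∈ R := hu ▸ mul_mem (mul_mem (mul_mem (hJ'R hh) (hJR (hJ ▸ ht W hW))) (inv_mem (hJ'R hh)))
    (inv_mem (hJR (hJ ▸ ht W hW)))
  have hthW : h * t W ∉ centralizer (W : Set G) := by
    intro hc
    refine hhtW ?_
    refine mem_centralizer_iff.2 fun w hw => ?_
    have := mem_centralizer_iff.1 hc _ ((mem_normalizer_iff''.1 (htn W hW) w).1 hw)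
    calc w * (t W * h) = t W * ((((t W)⁻¹ * w * t W)) * (h * t W)) * (t W)⁻¹ := by group
      _ = t W * ((h * t W) * ((t W)⁻¹ * w * t W)) * (t W)⁻¹ := by rw [this]
      _ = t W * h * w := by group
  have huW : u ∉ centralizer (W : Set G) := by
    intro hc
    rw [hu'] at hc
    refine hthW ?_
    have e : (h * t W) * (h⁻¹ * t W) = ((h * t W) * (h * h)⁻¹ * (h * t W)⁻¹) * ((h * t W) * (h * t W)) := by group
    have hc1 : (h * t W) * (h * h)⁻¹ * (h * t W)⁻¹ ∈ centralizer (W : Set G) := by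
      refine mem_centralizer_iff.2 fun w hw => ?_
      have := mem_centralizer_iff.1 (inv_mem hhh) _ ((mem_normalizer_iff''.1 hht.1 w).1 hw)
      calc w * ((h * t W) * (h * h)⁻¹ * (h * t W)⁻¹) =
          (h * t W) * (((h * t W)⁻¹ * w * (h * t W)) * (h * h)⁻¹) * (h * t W)⁻¹ := by group
        _ = (h * t W) * ((h * h)⁻¹ * ((h * t W)⁻¹ * w * (h * t W))) * (h * t W)⁻¹ := by rw [this]
        _ = (h * t W) * (h * h)⁻¹ * (h * t W)⁻¹ * w := by group
    rw [e] at hc
    have h2 := (mul_mem_cancel_left hc1).1 hc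
    have h3 := hht.cube h4
    rw [pow_succ, pow_two] at h3
    exact (mul_mem_cancel_left h2).1 h3
  have huo : ∀ W' ∈ Ws, W' ≠ W → u ∈ centralizer (W' : Set G) := fun W' hW' hne => by
    rw [hu]
    refine mul_mem (mem_centralizer_iff.2 fun w hw => ?_) (inv_mem (hto W hW W' hW' hne))
    have hw' := (mem_normalizer_iff''.1 (f.stab W' hW' (hJ'D hh)) w).1 hw
    have := mem_centralizer_iff.1 (hto W hW W' hW' hne) _ hw'
    calc w * (h * t W * h⁻¹) = h * ((h⁻¹ * w * h) * t W) * h⁻¹ := by group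
      _ = h * (t W * (h⁻¹ * w * h)) * h⁻¹ := by rw [this]
      _ = h * t W * h⁻¹ * w := by group
  obtain ⟨n, m, -, -, hro⟩ := exists_two_pow_mul_odd u
  obtain ⟨r, hr⟩ : ∃ r, r = u ^ 2 ^ n := ⟨_, rfl⟩
  have hrR : r ∈ R := hr ▸ pow_mem huR _
  have hre : Ev W r := hr ▸ hue.pow h4 _
  have hrW : r ∉ centralizer (W : Set G) := fun hc => huW (centralizes_of_ev_two h4 hue (n := n) (hr ▸ hc))
  have hrothers : ∀ W' ∈ Ws, W' ≠ W → r ∈ centralizer (W' : Set G) := fun W' hW' hne =>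
    hr ▸ pow_mem (huo W' hW' hne) _
  -- `O₂(R)` centralizes `W`
  have hO : ∀ x ∈ pCoreOf 2 R, x ∈ centralizer (W : Set G) := by
    intro x hx
    obtain ⟨q, hq⟩ : ∃ q, q = r * x * r⁻¹ * x⁻¹ := ⟨_, rfl⟩
    have hqO : q ∈ pCoreOf 2 R :=
      hq ▸ mul_mem ((mem_normalizer_iff.1 (le_normalizer_pCoreOf R hrR) x).1 hx) (inv_mem hx)
    have hxL := hRL (pCoreOf_le R hx)
    by_cases hxW : x ∈ normalizer (W : Set G)
    · by_cases hxe : Ev W x
      · exact htwo _ (pCoreOf_isPGroup R) W hW x hx hxe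
      · exfalso
        have hfl := (flip h4 (hre.inv h4) hxW hxe).1
        have hq' : q = (r * (x * r⁻¹ * x⁻¹ * r⁻¹) * r⁻¹) * (r * r) := by rw [hq]; group
        have hc1 : r * (x * r⁻¹ * x⁻¹ * r⁻¹) * r⁻¹ ∈ centralizer (W : Set G) := by
          have := mul_mem (hre.comm h4 (Ev.of_centralizer hfl)) hfl
          rwa [inv_mul_cancel_right] at this
        have hqe : Ev W q := hq' ▸ (Ev.of_centralizer hc1).mul h4 (hre.mul h4 hre)
        have h2 := htwo _ (pCoreOf_isPGroup R) W hW q hqO hqe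
        rw [hq', mul_mem_cancel_left hc1] at h2
        have h3 := hre.cube h4
        rw [pow_succ, pow_two] at h3
        exact hrW ((mul_mem_cancel_left h2).1 h3)
    · exfalso
      obtain ⟨W', hW'⟩ : ∃ W', W' = W.map (MulAut.conj x⁻¹).toMonoidHom := ⟨_, rfl⟩
      have hW'Ws : W' ∈ Ws := hW' ▸ s.frame_conj f hW (inv_mem hxL)
      have hne : W' ≠ W := fun e => hxW (by
        have := mem_normalizer_of_map_eq (hW'.symm.trans e)
        exact inv_mem_iff.1 this)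
      have hact : r⁻¹ * q ∈ centralizer (W : Set G) := by
        rw [hq, show r⁻¹ * (r * x * r⁻¹ * x⁻¹) = x * r⁻¹ * x⁻¹ by group]
        refine mem_centralizer_iff.2 fun w hw => ?_
        have hw' : x⁻¹ * w * x ∈ W' := hW' ▸ ⟨w, hw, by simp⟩
        have := mem_centralizer_iff.1 (inv_mem (hrothers W' hW'Ws hne)) _ hw'
        calc w * (x * r⁻¹ * x⁻¹) = x * ((x⁻¹ * w * x) * r⁻¹) * x⁻¹ := by group
          _ = x * (r⁻¹ * (x⁻¹ * w * x)) * x⁻¹ := by rw [this]
          _ = x * r⁻¹ * x⁻¹ * w := by group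
      have hqe : Ev W q := by
        rw [show q = r * (r⁻¹ * q) by group]
        exact hre.mul h4 (Ev.of_centralizer hact)
      have h2 := htwo _ (pCoreOf_isPGroup R) W hW q hqO hqe
      rw [show r = q * (r⁻¹ * q)⁻¹ by group] at hrW
      exact hrW (mul_mem h2 (inv_mem hact))
  have hKO : pCoreOf 2 K ≤ pCoreOf 2 R := by
    have h1 : ((pCoreOf 2 K).subgroupOf R).IsSubnormal := by
      refine IsSubnormal.step _ (K.subgroupOf R) (fun x hx => pCoreOf_le K hx) hsn ?_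
      refine normal_subgroupOf_of_le_normalizer fun x hx => mem_normalizer_iff.2 fun y => ?_
      have h := mem_normalizer_iff.1 (le_normalizer_pCoreOf K (mem_subgroupOf.1 hx)) y
      simpa [mem_subgroupOf] using h
    have hle := Grp.le_pCore_of_isSubnormal h1
      ((pCoreOf_isPGroup K).of_equiv (subgroupOfEquivOfLe ((pCoreOf_le K).trans hKR)).symm)
    exact fun x hx => ⟨⟨x, hKR (pCoreOf_le K hx)⟩, hle hx, rfl⟩
  -- `θ` on `X`
  obtain ⟨X, hX⟩ : ∃ X, X = vOf L ⊓ centralizer (pCoreOf 2 K : Set G) := ⟨_, rfl⟩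
  have hWX : W ≤ X := fun w hw => hX ▸ ⟨f.le W hW hw, mem_centralizer_iff.2 fun y hy =>
    (mem_centralizer_iff.1 (hO y (hKO hy)) w hw).symm⟩
  have hVK : vOf L ≤ normalizer (K : Set G) := le_normalizer_of_subnormal hKR
    ((s.vOf_le_J f).trans (hJ ▸ hJR)) (hRL.trans le_normalizer_vOf)
    ((pCoreOf_isPGroup L).to_le vOf_le_Q) hodd hsn
  have hkn : k ∈ normalizer (X : Set G) := mem_normalizer_fintype fun y hy => by
    rw [SetLike.mem_coe, hX] at hy ⊢
    refine ⟨(mem_normalizer_iff.1 (le_normalizer_vOf hkL) y).1 hy.1, mem_centralizer_iff.2 fun z hz => ?_⟩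
    have := mem_centralizer_iff.1 hy.2 _ ((mem_normalizer_iff''.1 (le_normalizer_pCoreOf K hk) z).1 hz)
    calc z * (k * y * k⁻¹) = k * ((k⁻¹ * z * k) * y) * k⁻¹ := by group
      _ = k * (y * (k⁻¹ * z * k)) * k⁻¹ := by rw [this]
      _ = k * y * k⁻¹ * z := by group
  have hθ : ∀ v ∈ X, k * v * k⁻¹ * v⁻¹ ∈ wOf K := by
    refine theta_mem (fun a ha b hb => vOf_comm (hX ▸ ha : a ∈ vOf L ⊓ _).1 (hX ▸ hb : b ∈ vOf L ⊓ _).1)
      (fun a ha => vOf_sq (hX ▸ ha : a ∈ vOf L ⊓ _).1) hkn hko fun v hv => ?_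
    have hy : k * v * k⁻¹ * v⁻¹ ∈ X := mul_mem ((mem_normalizer_iff.1 hkn v).1 hv) (inv_mem hv)
    have hyK : k * v * k⁻¹ * v⁻¹ ∈ K := by
      rw [show k * v * k⁻¹ * v⁻¹ = k * (v * k⁻¹ * v⁻¹) by group]
      exact mul_mem hk ((mem_normalizer_iff.1 (hVK (hX ▸ hv : v ∈ vOf L ⊓ _).1) _).1 (inv_mem hk))
    have hyV := (hX ▸ hy : k * v * k⁻¹ * v⁻¹ ∈ vOf L ⊓ centralizer (pCoreOf 2 K : Set G))
    have hle : vOf L ⊓ K ≤ pCoreOf 2 K := by
      refine le_pCoreOf inf_le_right ?_ ((pCoreOf_isPGroup L).to_le (inf_le_left.trans vOf_le_Q))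
      intro g hg
      refine mem_normalizer_fintype fun y hy => ?_
      exact ⟨(mem_normalizer_iff.1 (le_normalizer_vOf (hKL hg)) y).1 hy.1,
        (mem_normalizer_iff.1 (le_normalizer hg) y).1 hy.2⟩
    have hU : k * v * k⁻¹ * v⁻¹ ∈ omegaCenterOf (pCoreOf 2 K) :=
      mem_omegaCenter.2 ⟨hle ⟨hyV.1, hyK⟩, fun y hy => mem_centralizer_iff.1 hyV.2 y hy, vOf_sq hyV.1⟩
    show _ ∈ ⁅omegaCenterOf (pCoreOf 2 K), K⁆
    rw [commutator_comm, ← commutatorElement_def]
    exact commutator_mem_commutator hk hU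
  have hkW : k ∉ centralizer (W : Set G) := by
    intro hc
    rw [hJ'] at hh
    obtain ⟨j, hj, rfl⟩ := hh
    have hjn := f.stab W hW (hJD hj)
    have e : ∀ z, z ∈ normalizer (W : Set G) → z * k⁻¹ * z⁻¹ ∈ centralizer (W : Set G) := fun z hz => by
      refine mem_centralizer_iff.2 fun w hw => ?_
      have := mem_centralizer_iff.1 (inv_mem hc) _ ((mem_normalizer_iff''.1 hz w).1 hw)
      calc w * (z * k⁻¹ * z⁻¹) = z * ((z⁻¹ * w * z) * k⁻¹) * z⁻¹ := by group
        _ = z * (k⁻¹ * (z⁻¹ * w * z)) * z⁻¹ := by rw [this]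
        _ = z * k⁻¹ * z⁻¹ * w := by group
    have hh' : (MulAut.conj k).toMonoidHom j = k * (j * k⁻¹ * j⁻¹) * j := by simp [mul_assoc]
    rw [hh'] at hhW hhtW
    rcases hJgood W hW j hj with hj' | hj'
    · exact hhW (mul_mem (mul_mem hc (e j hjn)) hj')
    · refine hhtW ?_
      have e2 : t W * (k * (j * k⁻¹ * j⁻¹) * j) =
          (t W * (k * (j * k⁻¹ * j⁻¹)) * (t W)⁻¹) * (t W * j) := by group
      rw [e2]
      refine mul_mem (mem_centralizer_iff.2 fun w hw => ?_) hj'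
      have := mem_centralizer_iff.1 (mul_mem hc (e j hjn)) _ ((mem_normalizer_iff''.1 (htn W hW) w).1 hw)
      calc w * (t W * (k * (j * k⁻¹ * j⁻¹)) * (t W)⁻¹)
          = t W * (((t W)⁻¹ * w * t W) * (k * (j * k⁻¹ * j⁻¹))) * (t W)⁻¹ := by group
        _ = t W * ((k * (j * k⁻¹ * j⁻¹)) * ((t W)⁻¹ * w * t W)) * (t W)⁻¹ := by rw [this]
        _ = t W * (k * (j * k⁻¹ * j⁻¹)) * (t W)⁻¹ * w := by group
  by_cases hkn' : k ∈ normalizer (W : Set G)
  · have hke : Ev W k := ev_of_odd h4 hkn' hko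
    have hle : W ≤ wOf K := fun w hw => by
      obtain ⟨v, hv, rfl⟩ := four_surj (f.comm hW) hke hkW hw
      exact hθ v (hWX hv)
    rw [← eq_of_le_of_card_ge hle (by rw [hW4, h4])]
    exact hJD.trans (f.stab W hW)
  exfalso
  obtain ⟨W₁, hW₁⟩ : ∃ W₁, W₁ = W.map (MulAut.conj k).toMonoidHom := ⟨_, rfl⟩
  obtain ⟨W₂, hW₂⟩ : ∃ W₂, W₂ = W₁.map (MulAut.conj k).toMonoidHom := ⟨_, rfl⟩
  have hW₁Ws : W₁ ∈ Ws := hW₁ ▸ s.frame_conj f hW hkL
  have hW₂Ws : W₂ ∈ Ws := hW₂ ▸ s.frame_conj f hW₁Ws hkL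
  have hne1 : W ≠ W₁ := fun e => hkn' (mem_normalizer_of_map_eq (hW₁.symm.trans e.symm))
  have hne2 : W ≠ W₂ := fun e => hkn' (by
    have h2 : k * k ∈ normalizer (W : Set G) := mem_normalizer_of_map_eq (by
      rw [← map_conj_conj, ← hW₁, ← hW₂, ← e])
    obtain ⟨m, hm⟩ := hko
    have h1 : k ^ (2 * m + 1) = 1 := by rw [← hm, pow_orderOf_eq_one]
    have h3 : k = ((k * k) ^ m)⁻¹ := by
      rw [eq_inv_iff_mul_eq_one, ← pow_two, ← pow_mul, ← pow_succ']; exact h1
    rw [h3]; exact inv_mem (pow_mem h2 m))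
  have hindep := f.indep W hW W₁ hW₁Ws W₂ hW₂Ws hne1 hne2
  -- two bijections onto `W_K`
  let φ : ↥W → ↥(wOf K) := fun w => ⟨k * w * k⁻¹ * (w : G)⁻¹, hθ w (hWX w.2)⟩
  have hk1 : ∀ w ∈ W, k * w * k⁻¹ ∈ W₁ := fun w hw => hW₁ ▸ ⟨w, hw, rfl⟩
  have hφ : Function.Injective φ := by
    intro a b hab
    have he : k * a * k⁻¹ * (a : G)⁻¹ = k * b * k⁻¹ * (b : G)⁻¹ := congrArg Subtype.val hab
    have h1 : (b : G)⁻¹ * a = (k * b * k⁻¹)⁻¹ * (k * a * k⁻¹) := by
      have hc := f.comm hW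
      have e' : k * a * k⁻¹ = k * b * k⁻¹ * ((b : G)⁻¹ * a) := by
        rw [← mul_assoc, ← he]; group
      rw [e']; group
    have hmem : (b : G)⁻¹ * a ∈ W ⊓ (W₁ ⊔ W₂) :=
      ⟨W.mul_mem (W.inv_mem b.2) a.2, mem_sup_left (h1 ▸ W₁.mul_mem (W₁.inv_mem (hk1 b b.2)) (hk1 a a.2))⟩
    rw [hindep, mem_bot, inv_mul_eq_one] at hmem
    exact Subtype.ext hmem.symm
  obtain ⟨-, hsurj⟩ := (Nat.bijective_iff_injective_and_card φ).2 ⟨hφ, by rw [h4, hW4]⟩
  have hW₁X : ∀ w ∈ W₁, w ∈ X := fun w hw => by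
    rw [hW₁] at hw
    obtain ⟨v, hv, rfl⟩ := hw
    exact (mem_normalizer_iff.1 hkn v).1 (hWX hv)
  obtain ⟨c, hcW, hc1⟩ : ∃ c ∈ W₁, c ≠ 1 := by
    by_contra hcon
    push Not at hcon
    have := f.card W₁ hW₁Ws
    rw [(Subgroup.eq_bot_iff_forall _).2 hcon, card_bot] at this
    norm_num at this
  obtain ⟨a, ha⟩ := hsurj ⟨_, hθ c (hW₁X c hcW)⟩
  have ha' : k * a * k⁻¹ * (a : G)⁻¹ = k * c * k⁻¹ * c⁻¹ := congrArg Subtype.val ha
  have hmem : (a : G) ∈ W ⊓ (W₁ ⊔ W₂) := by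
    refine ⟨a.2, ?_⟩
    have h2 : k * c * k⁻¹ ∈ W₂ := hW₂ ▸ ⟨c, hcW, rfl⟩
    have e : (a : G) = (k * c * k⁻¹ * c⁻¹)⁻¹ * (k * a * k⁻¹) := by rw [← ha']; group
    rw [e]
    exact (W₁ ⊔ W₂).mul_mem ((W₁ ⊔ W₂).inv_mem ((W₁ ⊔ W₂).mul_mem (mem_sup_right h2)
      (mem_sup_left (W₁.inv_mem hcW)))) (mem_sup_left (hk1 a a.2))
  rw [hindep, mem_bot] at hmem
  rw [hmem, mul_one, mul_inv_cancel, inv_one, mul_one, eq_comm, mul_inv_eq_one] at ha'
  -- `k` fixes a nontrivial element of `W₁`, so `W₁ = W₂`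
  have hc2 : c ∈ W₂ := by rw [← ha']; exact hW₂ ▸ ⟨c, hcW, rfl⟩
  have h12 := f.eq_of_mem hW₁Ws hW₂Ws hcW hc2 hc1
  refine hne1 (map_injective (f := (MulAut.conj k).toMonoidHom) (MulAut.conj k).injective ?_)
  rw [← hW₁, ← hW₂]
  exact h12

end

end Cfsg.Agent.Invol.JComp
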