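import Cfsg.Agent.Lib.Invol.JCompCaseC

/-!
Every component outside `M` belongs to a pair.
-/

set_option autoImplicit false

open scoped commutatorElement Classical

namespace Cfsg.Agent.Invol.JComp

open Subgroup

variable {G : Type*} [Group G] [Finite G]

theorem omegaCenter_ne_bot {P : Subgroup G} (hP : IsPGroup 2 ↥P) (h1 : P ≠ ⊥) : omegaCenterOf P ≠ ⊥ := by
  haveI := Fact.mk Nat.prime_two
  haveI : Nontrivial ↥P := (nontrivial_iff_ne_bot P).2 h1
  haveI : Nontrivial ↥(Subgroup.center ↥P) := hP.center_nontrivial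
  obtain ⟨n, hn0, hn⟩ := (hP.to_subgroup (Subgroup.center ↥P)).nontrivial_iff_card.1 inferInstance
  obtain ⟨a, ha⟩ := exists_prime_orderOf_dvd_card' (G := ↥(Subgroup.center ↥P)) 2
    (hn ▸ dvd_pow_self 2 (by omega))
  intro hbot
  have haO : ((a : ↥P) : G) ∈ omegaCenterOf P := by
    refine mem_omegaCenter.2 ⟨(a : ↥P).2, fun r hr => congrArg Subtype.val
      (Subgroup.mem_center_iff.1 a.2 ⟨r, hr⟩), ?_⟩
    have := pow_orderOf_eq_one a
    rw [ha, pow_two] at this
    exact congrArg (fun u : ↥(Subgroup.center ↥P) => ((u : ↥P) : G)) this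
  rw [hbot, mem_bot] at haO
  have : orderOf a = 1 := orderOf_eq_one_iff.2 (Subtype.ext (Subtype.ext haO))
  omega

theorem omegaCenter_le_Z0 (T : Subgroup G) :
    omegaCenterOf T ≤ omegaCenterOf (thompsonSubgroupOf 2 T) := fun x hx => by
  obtain ⟨hxT, hxc, hx2⟩ := mem_omegaCenter.1 hx
  obtain ⟨A, hA⟩ := exists_maxEl T
  exact mem_omegaCenter.2 ⟨hA.le_thompsonEl (hA.mem_of_commute hxT (by rw [pow_two]; exact hx2)
    fun a ha => hxc a (hA.1 ha)), fun r hr => hxc r (thompsonEl_le T hr), hx2⟩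

theorem Ctx.exists_pair {M T K L : Subgroup G} (c : Ctx M T) (hK : Out M T K) (hL : IsOver T K L) (hTL : T ≤ L) :
    ∃ K₂ L₂, Good T K L ∧ Good T K₂ L₂ ∧ ¬ K₂ ≤ L := by
  by_cases hN : normalizer (T : Set G) ≤ L
  swap
  · obtain ⟨y, hy, hyL⟩ := SetLike.not_le_iff_exists.1 hN
    exact c.pair_of_normalizer hK hL hTL hy hyL
  haveI := Fact.mk Nat.prime_two
  have s := c.sit_over hK hL hTL
  have hKL : K ≤ L := le_sup_left.trans hL.2
  have hSyl : ∀ P : Subgroup G, IsPGroup 2 ↥P → T ≤ P → P = T := by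
    intro P hP hTP
    by_contra hne
    haveI : Group.IsNilpotent ↥P := hP.isNilpotent
    have hlt : T.subgroupOf P < ⊤ := lt_top_iff_ne_top.2 fun e => hne (le_antisymm (subgroupOf_eq_top.1 e) hTP)
    obtain ⟨y, hy, hyn⟩ := SetLike.exists_of_lt (Group.normalizerCondition_of_isNilpotent _ hlt)
    refine hyn (mem_subgroupOf.2 ?_)
    have hy' : (y : G) ∈ normalizer (T : Set G) :=
      mem_normalizer_fintype fun a ha => (mem_normalizer_iff.1 hy ⟨a, hTP ha⟩).1 ha
    obtain ⟨n, hn⟩ := hP y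
    exact mem_of_two_pow s.syl (hN hy') hy' (n := n) (by simpa using congrArg Subtype.val hn)
  obtain ⟨S, hS⟩ := exists_sylow_eq c.T_two hSyl
  -- a component outside `L`
  have hget : ∀ {K' : Subgroup G}, IsJComponent T K' → ¬ K' ≤ L → T ≤ normalizer (K : Set G) := by
    intro K' hK' hK'L t ht
    by_contra hcon
    exact hK'L (c.comp_le_over hK hL hTL ht (fun e => hcon (mem_normalizer_of_map_eq e)) hK' (Or.inr hSyl))
  have hconj : ∀ y ∈ normalizer (thompsonSubgroupOf 2 T : Set G), y ∉ L →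
      IsJComponent T (K.map (MulAut.conj y).toMonoidHom) ∧ ¬ K.map (MulAut.conj y).toMonoidHom ≤ L ∧
        ∀ X : Subgroup G, IsTwoLocal X → K.map (MulAut.conj y).toMonoidHom ≤ X → thompsonSubgroupOf 2 T ≤ X →
          X ≤ L.map (MulAut.conj y).toMonoidHom := by
    intro y hy hyL
    have hyM : y ∈ M := c.nJ hy
    have hK' : Out M T (K.map (MulAut.conj y).toMonoidHom) := ⟨comp_conj_J hy hK.1, fun hle => hK.2 fun k hk => by
      have h1 : y * k * y⁻¹ ∈ M := hle ⟨k, hk, rfl⟩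
      have h2 := mul_mem (mul_mem (inv_mem hyM) h1) hyM
      rwa [show y⁻¹ * (y * k * y⁻¹) * y = k by group] at h2⟩
    have hL' : IsOver T (K.map (MulAut.conj y).toMonoidHom) (L.map (MulAut.conj y).toMonoidHom) := by
      refine ⟨isMaximalTwoLocal_map y hL.1, ?_⟩
      have := map_mono (f := (MulAut.conj y).toMonoidHom) hL.2
      rwa [Subgroup.map_sup, map_conj_eq_self hy] at this
    refine ⟨hK'.1, fun hle => hyL ?_, fun X h1 h2 h3 => c.le_over hK' hL' h1 h2 h3⟩
    have h := hL.1.2 _ hL'.1.1 (c.le_over hK' hL' hL.1.1 hle (le_sup_right.trans hL.2))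
    exact maximal_normalizer_le hL.1 (mem_normalizer_of_map_eq h)
  have hNJ : normalizer (thompsonSubgroupOf 2 T : Set G) ≤ L := by
    intro y hy
    by_contra hyL
    have hn : T ≤ normalizer (K : Set G) := hget (hconj y hy hyL).1 (hconj y hy hyL).2.1
    obtain ⟨z, hz, hzT⟩ := (c.good hK hL hTL hn).exists_z
    have hJZ : ∀ {x : G}, x ∈ omegaCenterOf (thompsonSubgroupOf 2 T) →
        thompsonSubgroupOf 2 T ≤ centralizer ({x} : Set G) := fun hx => J_le_centralizer hx
    have hTz : T ≤ centralizer ({z} : Set G) :=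
      le_centralizer_singleton.2 (mem_centralizer_iff.2 fun t ht => (mem_omegaCenter.1 hzT).2.1 t ht)
    -- moving the common centralized elements
    have hboth : ∀ y ∈ normalizer (thompsonSubgroupOf 2 T : Set G), y ∉ L →
        ∀ x ∈ omegaCenterOf (thompsonSubgroupOf 2 T), x ∈ centralizer (K : Set G) →
          x ∈ centralizer ((K.map (MulAut.conj y).toMonoidHom : Subgroup G) : Set G) → x = 1 := by
      intro y hy hyL x hx hxK hxK'
      by_contra hx1
      exact (hconj y hy hyL).2.1 ((le_centralizer_singleton.2 hxK').trans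
        (c.le_over hK hL (isTwoLocal_centralizer (omegaCenter_sq hx) hx1) (le_centralizer_singleton.2 hxK)
          (hJZ hx)))
    have hcent : ∀ (y : G) {x : G}, x ∈ centralizer (K : Set G) →
        y * x * y⁻¹ ∈ centralizer ((K.map (MulAut.conj y).toMonoidHom : Subgroup G) : Set G) := by
      intro y x hx
      refine mem_centralizer_iff.2 ?_
      rintro _ ⟨k, hk, rfl⟩
      show y * k * y⁻¹ * (y * x * y⁻¹) = y * x * y⁻¹ * (y * k * y⁻¹)
      calc y * k * y⁻¹ * (y * x * y⁻¹) = y * (k * x) * y⁻¹ := by group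
        _ = y * (x * k) * y⁻¹ := by rw [mem_centralizer_iff.1 hx k hk]
        _ = y * x * y⁻¹ * (y * k * y⁻¹) := by group
    have hconjT : ∀ {y : G}, T.map (MulAut.conj y).toMonoidHom ≤ L → y ∈ L := by
      intro y hle
      obtain ⟨l, hl, hc⟩ := exists_conj_le s.syl (c.T_two.map _) hle
      have he := eq_of_le_of_card_ge hc (by
        rw [card_map_of_injective (MulAut.conj l).injective, card_map_of_injective (MulAut.conj y).injective])
      have hn2 : l⁻¹ * y ∈ normalizer (T : Set G) := mem_normalizer_of_map_eq (by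
        rw [← map_conj_conj, he, map_conj_conj, inv_mul_cancel, map_conj_one])
      have := mul_mem hl (hN hn2)
      rwa [mul_inv_cancel_left] at this
    -- `z` is fixed
    have hfix : ∀ y ∈ normalizer (thompsonSubgroupOf 2 T : Set G), y ∉ L → y * z * y⁻¹ = z := by
      intro y hy hyL
      by_contra hne
      obtain ⟨hK'c, hK'L, hover⟩ := hconj y hy hyL
      have hz'0 := conj_mem_Z0 hy hz.mem0
      obtain ⟨z', hz'⟩ := exists_z c.amb c.T_two c.T_ne hK'c
      have hz'e : z' = y * z * y⁻¹ := ((hz'.uniq _ hz'0 (conj_mem_wOf y hz.memW)).resolve_left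
        fun e => hz.ne (conj_eq_one_iff.1 e)).symm
      rw [← hz'e] at hne hz'0
      rcases hz'.split z hz.mem0 with h | h
      · have hTL' : T ≤ L.map (MulAut.conj y).toMonoidHom := hTz.trans (hover _
          (isTwoLocal_centralizer hz.sq hz.ne) (le_centralizer_singleton.2 h) (hJZ hz.mem0))
        have h' : T.map (MulAut.conj y⁻¹).toMonoidHom ≤ L := by
          refine (map_mono hTL').trans ?_
          rw [map_conj_conj, inv_mul_cancel, map_conj_one]
        exact hyL (inv_mem_iff.1 (hconjT h'))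
      · rcases hz.split z' hz'0 with h' | h'
        · refine hyL (hconjT ((?_ : _ ≤ centralizer ({z'} : Set G)).trans (c.le_over hK hL
            (isTwoLocal_centralizer hz'.sq hz'.ne) (le_centralizer_singleton.2 h') (hJZ hz'0))))
          rintro _ ⟨t, ht, rfl⟩
          refine mem_centralizer_singleton_iff.2 ?_
          have := mem_centralizer_singleton_iff.1 (hTz ht)
          show y * t * y⁻¹ * z' = z' * (y * t * y⁻¹)
          rw [hz'e]
          calc y * t * y⁻¹ * (y * z * y⁻¹) = y * (t * z) * y⁻¹ := by group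
            _ = y * (z * t) * y⁻¹ := by rw [this]
            _ = y * z * y⁻¹ * (y * t * y⁻¹) := by group
        · rw [omegaCenter_comm hz'0 hz.mem0] at h'
          have h1 := hboth y hy hyL _ (mul_mem hz.mem0 hz'0) h' h
          exact hne (mul_left_cancel (h1.trans hz.sq.symm))
    have hfix' : ∀ u ∈ normalizer (thompsonSubgroupOf 2 T : Set G), u * z * u⁻¹ = z := by
      intro u hu
      by_cases huL : u ∈ L
      · have h1 := hfix (y * u) (mul_mem hy hu) (fun h => hyL (by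
          have := mul_mem h (inv_mem huL); rwa [mul_inv_cancel_right] at this))
        rw [show y * u * z * (y * u)⁻¹ = y * (u * z * u⁻¹) * y⁻¹ by group] at h1
        exact mul_left_cancel (mul_right_cancel (h1.trans (hfix y hy hyL).symm))
      · exact hfix u hu huL
    have hmove : ∀ u ∈ normalizer (thompsonSubgroupOf 2 T : Set G), u ∉ L →
        ∀ h ∈ omegaCenterOf (thompsonSubgroupOf 2 T), h ≠ 1 → h ∈ centralizer (K : Set G) →
          u * h * u⁻¹ = h * z := by
      intro u hu huL h hh h1 hc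
      obtain ⟨hK'c, -, -⟩ := hconj u hu huL
      obtain ⟨z', hz'⟩ := exists_z c.amb c.T_two c.T_ne hK'c
      have hz'e : z' = z := by
        rw [← hfix u hu huL]
        exact ((hz'.uniq _ (conj_mem_Z0 hu hz.mem0) (conj_mem_wOf u hz.memW)).resolve_left
          fun e => hz.ne (conj_eq_one_iff.1 e)).symm
      have h2 : h * z' ∈ centralizer ((K.map (MulAut.conj u).toMonoidHom : Subgroup G) : Set G) :=
        (hz'.split h hh).resolve_left fun e => h1 (hboth u hu huL h hh hc e)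
      rw [hz'e] at h2
      have hh' := conj_mem_Z0 hu hh
      have h3 : u * h * u⁻¹ * z ∈ centralizer (K : Set G) := (hz.split _ hh').resolve_left fun e =>
        h1 (conj_eq_one_iff.1 (hboth u hu huL _ hh' e (hcent u hc)))
      have e1 := hboth u hu huL (h * z * (u * h * u⁻¹)) (mul_mem (mul_mem hh hz.mem0) hh') (by
        rw [mul_assoc, omegaCenter_comm hz.mem0 hh']
        exact mul_mem hc h3) (mul_mem h2 (hcent u hc))
      calc u * h * u⁻¹ = (h * z) * ((h * z) * (u * h * u⁻¹)) := by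
            rw [← mul_assoc (h * z), omegaCenter_sq (mul_mem hh hz.mem0), one_mul]
        _ = h * z := by rw [e1, mul_one]
    -- no element other than `1` of `Ω₁Z(J)` centralizes `K`
    have hno : ∀ h ∈ omegaCenterOf (thompsonSubgroupOf 2 T), h ∈ centralizer (K : Set G) → h = 1 := by
      intro h hh hc
      by_contra h1
      have hy' : y * h * y⁻¹ = h * z := hmove y hy hyL h hh h1 hc
      have horb : ∀ n ∈ normalizer (thompsonSubgroupOf 2 T : Set G), n * h * n⁻¹ = h ∨ n * h * n⁻¹ = h * z := by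
        intro n hn'
        by_cases hnL : n ∈ L
        · left
          have h2 := hmove (y * n) (mul_mem hy hn') (fun h' => hyL (by
            have := mul_mem h' (inv_mem hnL); rwa [mul_inv_cancel_right] at this)) h hh h1 hc
          rw [show y * n * h * (y * n)⁻¹ = y * (n * h * n⁻¹) * y⁻¹ by group, ← hy'] at h2
          exact mul_left_cancel (mul_right_cancel h2)
        · exact Or.inr (hmove n hn' hnL h hh h1 hc)
      have hT : ∀ t ∈ T, t * h * t⁻¹ = h ∧ t * (h * z) * t⁻¹ = h * z := by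
        intro t ht
        have htN := T_le_normalizer_J T (le_normalizer ht)
        have h2 : t * (h * z) * t⁻¹ = h * z := by
          have h3 := hmove (t * y) (mul_mem htN hy) (fun h' => hyL (by
            have := mul_mem (inv_mem (hTL ht)) h'; rwa [inv_mul_cancel_left] at this)) h hh h1 hc
          rwa [show t * y * h * (t * y)⁻¹ = t * (y * h * y⁻¹) * t⁻¹ by group, hy'] at h3
        refine ⟨?_, h2⟩
        have e := hfix' t htN
        rw [show t * (h * z) * t⁻¹ = (t * h * t⁻¹) * (t * z * t⁻¹) by group, e] at h2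
        exact mul_right_cancel h2
      obtain ⟨a, m, hm, hord, -⟩ := exists_two_pow_mul_odd y
      have hum : (y ^ m) ^ 2 ^ a = 1 := by rw [← pow_mul, mul_comm, ← hord, pow_orderOf_eq_one]
      have hpow : ∀ k : ℕ, y ^ k * h * (y ^ k)⁻¹ = h * z ^ k := by
        intro k
        induction k with
        | zero => simp
        | succ k ih =>
          calc y ^ (k + 1) * h * (y ^ (k + 1))⁻¹ = y * (y ^ k * h * (y ^ k)⁻¹) * y⁻¹ := by rw [pow_succ']; group
            _ = (y * h * y⁻¹) * (y * z * y⁻¹) ^ k := by rw [ih, conj_pow]; group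
            _ = h * z ^ (k + 1) := by rw [hy', hfix' y hy, pow_succ', mul_assoc]
      have hTN : T ≤ normalizer (thompsonSubgroupOf 2 T : Set G) := fun t ht =>
        T_le_normalizer_J T (le_normalizer ht)
      obtain ⟨P, hP, hTP⟩ := exists_sylowIn c.T_two hTN
      rw [hSyl P hP.2.1 hTP] at hP
      obtain ⟨n, hn', hle⟩ := exists_conj_le hP (isPGroup_zpowers_of_pow hum) (zpowers_le.2 (pow_mem hy m))
      obtain ⟨t, ht, hte⟩ := hle (mem_zpowers (y ^ m))
      have hfx : y ^ m * h * (y ^ m)⁻¹ = h := by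
        rw [← hte]
        show n * t * n⁻¹ * h * (n * t * n⁻¹)⁻¹ = h
        have h2 : t * (n⁻¹ * h * n⁻¹⁻¹) * t⁻¹ = n⁻¹ * h * n⁻¹⁻¹ := by
          rcases horb n⁻¹ (inv_mem hn') with e | e <;> rw [e]
          exacts [(hT t ht).1, (hT t ht).2]
        calc n * t * n⁻¹ * h * (n * t * n⁻¹)⁻¹ = n * (t * (n⁻¹ * h * n⁻¹⁻¹) * t⁻¹) * n⁻¹ := by group
          _ = h := by rw [h2]; group
      rw [hpow m] at hfx
      obtain ⟨j, rfl⟩ := hm
      rw [pow_succ, pow_mul, pow_two, hz.sq, one_pow, one_mul] at hfx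
      exact hz.ne (mul_eq_left.1 hfx)
    have hZ2 : ∀ x ∈ omegaCenterOf (thompsonSubgroupOf 2 T), x = 1 ∨ x = z := fun x hx => by
      rcases hz.split x hx with h | h
      · exact Or.inl (hno x hx h)
      · exact Or.inr (mul_right_cancel ((hno _ (mul_mem hx hz.mem0) h).trans hz.sq.symm))
    have hy2 : y ∈ centralizer (omegaCenterOf T : Set G) := mem_centralizer_iff.2 fun x hx => by
      rcases hZ2 x (omegaCenter_le_Z0 T hx) with e | e <;> subst e
      · simp
      · exact (mul_inv_eq_iff_eq_mul.1 (hfix y hy hyL)).symm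
    have := c.amb.zNorm S
    rw [hS] at this
    exact hyL (hN (this hy2))
  by_cases hX : ∃ X : Subgroup G, IsTwoLocal X ∧ T ≤ X ∧ ¬ X ≤ L
  swap
  · push Not at hX
    exact (caseC_false c.amb hSyl s hL.1 hNJ hX).elim
  obtain ⟨X, hX, hTX, hXL⟩ := hX
  have hmax : T ∈ maxStraddlingTwoSubgroups L := by
    refine ⟨⟨c.T_two, c.T_ne, hTL, X, hX, hTX, hXL⟩, fun P hP => ?_⟩
    obtain ⟨g, hg⟩ := MulAction.exists_smul_eq G S (hP.1.exists_le_sylow).choose
    have hle : P ≤ T.map (MulAut.conj g).toMonoidHom := by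
      intro p hp
      have h2 := (hP.1.exists_le_sylow).choose_spec hp
      rw [← hg, Sylow.coe_subgroup_smul, hS] at h2
      obtain ⟨a, ha, hae⟩ := h2
      exact ⟨a, ha, hae⟩
    have hinj : Function.Injective (MulAut.conj g).toMonoidHom := (MulAut.conj g).injective
    have h1 : maxElemAbelianOrder (T.map (MulAut.conj g).toMonoidHom) = maxElemAbelianOrder T :=
      maxElemAbelianOrder_map _ hinj T
    refine ⟨(maxElemAbelianOrder_mono hle).trans h1.le, fun he => ⟨?_, fun _ => ?_⟩⟩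
    · refine (card_le_of_le (thompson_mono hle (he.trans h1.symm))).trans (le_of_eq ?_)
      rw [thompson_map _ hinj, card_map_of_injective hinj]
    · exact (card_le_of_le hle).trans (card_map_of_injective hinj).le
  have c' : Ctx L T := ⟨c.amb, hmax, hNJ⟩
  obtain ⟨S', hJS', -, hsit⟩ := c'.sit hX hXL ((thompsonEl_le T).trans hTX)
  have sX := hsit hTX
  obtain ⟨K₂, hK₂, hK₂X, hK₂L⟩ : ∃ K₂, IsJComponent T K₂ ∧ K₂ ≤ X ∧ ¬ K₂ ≤ L := by
    by_contra hcon
    push Not at hcon
    refine hXL fun x hx => ?_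
    obtain ⟨d, hd, y, -, hy, rfl⟩ := sX.frattini hx
    exact mul_mem (sX.dOf_le_of_components hNJ hcon hd) (hNJ hy)
  have hO₂ : Out L T K₂ := ⟨hK₂, hK₂L⟩
  obtain ⟨L₂, hL₂⟩ := c'.exists_over hO₂
  have hTL₂ : T ≤ L₂ := hTX.trans (c'.le_over hO₂ hL₂ hX hK₂X ((thompsonEl_le T).trans hTX))
  have hn₂ : T ≤ normalizer (K₂ : Set G) := fun t ht => by
    by_contra hcon
    have hKL₂ := c'.comp_le_over hO₂ hL₂ hTL₂ ht (fun e => hcon (mem_normalizer_of_map_eq e)) hK.1 (Or.inr hSyl)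
    exact c'.over_not_le hO₂ hL₂ (c.le_over hK hL hL₂.1.1 hKL₂ (le_sup_right.trans hL₂.2))
  exact ⟨K₂, L₂, c.good hK hL hTL (hget hK₂ hK₂L), c'.good hO₂ hL₂ hTL₂ hn₂, hK₂L⟩

theorem Four.eq_or_eq {T K L X : Subgroup G} (f : Four T K L) (hTX : T ≤ X) (hXL : X ≤ L) : X = T ∨ X = L := by
  obtain ⟨a, ha⟩ := card_dvd_of_le hTX
  obtain ⟨b, hb⟩ := card_dvd_of_le hXL
  obtain ⟨d, hd⟩ := f.good.card_P_dvd
  rw [← f.eq] at hd
  have habd : a * b * d = 3 := by
    refine Nat.eq_of_mul_eq_mul_left (Nat.card_pos (α := ↥T)) ?_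
    calc Nat.card ↥T * (a * b * d) = Nat.card ↥T * a * b * d := by ring
      _ = Nat.card ↥L * d := by rw [← ha, ← hb]
      _ = Nat.card ↥T * 3 := by rw [← hd, mul_comm]
  rcases (Nat.dvd_prime Nat.prime_three).1 (⟨b * d, by rw [← habd]; ring⟩ : a ∣ 3) with ha1 | ha3
  · exact Or.inl (eq_of_le_of_card_ge hTX (le_of_eq (by rw [ha, ha1, mul_one]))).symm
  · refine Or.inr (eq_of_le_of_card_ge hXL (le_of_eq ?_))
    rw [ha3] at habd
    have hbd : b * d = 1 := by
      have : 3 * (b * d) = 3 * 1 := by rw [← mul_assoc, habd, mul_one]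
      omega
    rw [hb, (mul_eq_one.1 hbd).1, mul_one]

theorem Four.central_eq {T K L : Subgroup G} (f : Four T K L) {a b : G} (ha : a ∈ pCoreOf 2 L)
    (hac : a ∈ centralizer (L : Set G)) (ha1 : a ≠ 1) (hb : b ∈ pCoreOf 2 L)
    (hbc : b ∈ centralizer (L : Set G)) (hb1 : b ≠ 1) : a = b := by
  by_contra hne
  obtain ⟨C, hC⟩ : ∃ C, C = pCoreOf 2 L ⊓ centralizer (L : Set G) := ⟨_, rfl⟩
  have hCW : C ⊓ wOf K = ⊥ := (eq_bot_iff_forall _).2 fun x hx => comp_fixed_eq_one f.good.comp hx.2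
    (Subgroup.centralizer_le (SetLike.coe_subset_coe.2 f.good.le) (hC.le hx.1).2)
  have hn : C ≤ normalizer (wOf K : Set G) := hC ▸ inf_le_left.trans fun x hx =>
    centralizer_le_normalizer _ (f.Q_cent hx)
  have h := Grp.card_sup_mul_card_inf hn
  rw [hCW, card_bot, mul_one, f.good.comp.2.2.2.2.1] at h
  have h1 := card_le_of_le (sup_le (hC.le.trans inf_le_left) f.W_le : C ⊔ wOf K ≤ pCoreOf 2 L)
  have h8 := f.card_Q
  have hsub : ({a, b, 1} : Set G) ⊆ (C : Set G) := by
    rintro y (rfl | rfl | rfl)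
    exacts [hC ▸ ⟨ha, hac⟩, hC ▸ ⟨hb, hbc⟩, one_mem _]
  have h2 := Set.ncard_le_ncard hsub (Set.toFinite _)
  rw [Set.ncard_insert_of_notMem (by simp [hne, ha1]) (Set.toFinite _), Set.ncard_pair hb1,
    ← Nat.card_coe_set_eq] at h2
  have : Nat.card ↥((C : Set G)) = Nat.card ↥C := rfl
  omega

/-- The possibilities for `Ω₁Z(S)` and `Ω₁Z(J(T))`. -/
theorem Four.center_cases_sylow {T K L : Subgroup G} (f : Four T K L) (S : Sylow 2 G)
    (hTS : T ≤ (S : Subgroup G)) {Z Z₀ : Subgroup G} (hZ : Z = omegaCenterOf (S : Subgroup G))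
    (hZ₀ : Z₀ = omegaCenterOf (thompsonSubgroupOf 2 T)) :
    Z₀ ⊓ wOf K ≠ ⊥ ∧
      ((Z = Z₀ ∧ Nat.card ↥Z₀ = 2) ∨ (Z = Z₀ ∧ Nat.card ↥Z₀ = 4 ∧ T = (S : Subgroup G)) ∨
        (omegaCenterOf T = Z₀ ∧ Nat.card ↥Z₀ = 4 ∧
          (L ⊓ centralizer (Z₀ : Set G)).relIndex (normalizer (Z₀ : Set G)) = 2)) := by
  haveI := Fact.mk Nat.prime_two
  obtain ⟨z, hz, hzT⟩ := f.good.exists_z
  rw [f.J_eq] at hZ₀
  have hzZ₀ : z ∈ Z₀ := hZ₀ ▸ hzT
  refine ⟨fun e => hz.ne (mem_bot.1 (e ▸ (mem_inf.2 ⟨hzZ₀, hz.memW⟩))), ?_⟩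
  have hQT := f.Q_le_T
  have hZle : Z ≤ Z₀ := fun x hx => by
    rw [hZ] at hx
    obtain ⟨-, hxc, hx2⟩ := mem_omegaCenter.1 hx
    have hxQ : x ∈ pCoreOf 2 L := f.good.sit.mem.2.2 (mem_centralizer_iff.2 fun q hq => hxc q (hTS (hQT hq)))
    exact hZ₀ ▸ mem_omegaCenter.2 ⟨hQT hxQ, fun r hr => hxc r (hTS hr), hx2⟩
  have hform : ∀ x ∈ Z₀, ∃ h ∈ pCoreOf 2 L, h ∈ centralizer (L : Set G) ∧ (x = h ∨ x = h * z) := fun x hx => by
    obtain ⟨-, hxc, -⟩ := mem_omegaCenter.1 (hZ₀ ▸ hx : x ∈ omegaCenterOf T)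
    exact f.center_cases hz hzT (f.good.sit.mem.2.2 (mem_centralizer_iff.2 fun q hq => hxc q (hQT hq))) hxc
  have hcent : ∀ h ∈ pCoreOf 2 L, h ∈ centralizer (L : Set G) → h ∈ Z₀ := fun h hh hc =>
    hZ₀ ▸ mem_omegaCenter.2 ⟨hQT hh, fun r hr => mem_centralizer_iff.1 hc r (f.good.sit.T_le hr), f.sq h hh⟩
  by_cases hC : ∀ h ∈ pCoreOf 2 L, h ∈ centralizer (L : Set G) → h = 1
  · have hall : (Z₀ : Set G) = {1, z} := by
      ext x
      constructor
      · intro hx
        obtain ⟨h, hh, hc, e⟩ := hform x hx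
        rw [hC h hh hc, one_mul] at e
        exact e
      · rintro (rfl | rfl)
        exacts [one_mem _, hzZ₀]
    have hcard : Nat.card ↥Z₀ = 2 := by
      rw [show Nat.card ↥Z₀ = Nat.card ↥((Z₀ : Set G)) from rfl, Nat.card_coe_set_eq, hall,
        Set.ncard_pair hz.ne.symm]
    refine Or.inl ⟨eq_of_le_of_card_ge hZle ?_, hcard⟩
    rw [hcard]
    refine Finite.one_lt_card_iff_nontrivial.2 ((nontrivial_iff_ne_bot Z).2 ?_)
    rw [hZ]
    exact omegaCenter_ne_bot S.isPGroup' fun e => f.good.T_ne (le_bot_iff.1 (hTS.trans e.le))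
  push Not at hC
  obtain ⟨h, hh, hc, h1⟩ := hC
  have hhZ := hcent h hh hc
  have hhz : h ≠ z := fun e => f.not_mem_center hz (e ▸ hc)
  have hz1 : z ≠ 1 := hz.ne
  have hhz1 : h * z ≠ 1 := fun e => hhz (mul_right_cancel (e.trans hz.sq.symm))
  have hcases : ∀ x ∈ Z₀, x = 1 ∨ x = h ∨ x = z ∨ x = h * z := by
    intro x hx
    obtain ⟨h', hh', hc', e⟩ := hform x hx
    by_cases h'1 : h' = 1
    · subst h'1
      rcases e with e | e
      · exact Or.inl e
      · exact Or.inr (Or.inr (Or.inl (by rw [e, one_mul])))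
    obtain rfl := f.central_eq hh' hc' h'1 hh hc h1
    rcases e with e | e
    · exact Or.inr (Or.inl e)
    · exact Or.inr (Or.inr (Or.inr e))
  have hall : (Z₀ : Set G) = {1, h, z, h * z} := by
    ext x
    constructor
    · exact hcases x
    · rintro (rfl | rfl | rfl | rfl)
      exacts [one_mem _, hhZ, hzZ₀, mul_mem hhZ hzZ₀]
  have hcard : Nat.card ↥Z₀ = 4 := by
    rw [show Nat.card ↥Z₀ = Nat.card ↥((Z₀ : Set G)) from rfl, Nat.card_coe_set_eq, hall,
      Set.ncard_insert_of_notMem (by simp [h1.symm, hz1.symm, hhz1.symm]) (Set.toFinite _),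
      Set.ncard_insert_of_notMem (by simp [hhz, hz1]) (Set.toFinite _),
      Set.ncard_pair (fun e => h1 (mul_eq_right.1 e.symm))]
  right
  by_cases hTeq : T = (S : Subgroup G)
  · exact Or.inl ⟨by rw [hZ, hZ₀, hTeq], hcard, hTeq⟩
  refine Or.inr ⟨hZ₀.symm, hcard, ?_⟩
  have hTC : T ≤ centralizer (Z₀ : Set G) := fun t ht => mem_centralizer_iff.2 fun x hx =>
    ((mem_omegaCenter.1 (hZ₀ ▸ hx : x ∈ omegaCenterOf T)).2.1 t ht).symm
  have hCL : centralizer (Z₀ : Set G) ≤ L := by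
    rw [← f.centralizer_eq hh h1 hc]
    exact Subgroup.centralizer_le (Set.singleton_subset_iff.2 hhZ)
  have hCT : centralizer (Z₀ : Set G) = T := (f.eq_or_eq hTC hCL).resolve_right fun e =>
    f.not_mem_center hz (mem_centralizer_iff.2 fun x hx =>
      (mem_centralizer_iff.1 (e.ge hx) z hzZ₀).symm)
  rw [inf_eq_right.2 hCL, hCT]
  obtain ⟨y, hyS, hyN, hyT⟩ : ∃ y ∈ (S : Subgroup G), y ∈ normalizer (T : Set G) ∧ y ∉ T := by
    haveI : Group.IsNilpotent ↥(S : Subgroup G) := S.isPGroup'.isNilpotent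
    have hlt : T.subgroupOf (S : Subgroup G) < ⊤ := lt_top_iff_ne_top.2 fun e => hTeq
      (le_antisymm hTS (subgroupOf_eq_top.1 e))
    obtain ⟨y, hy, hyn⟩ := SetLike.exists_of_lt (Group.normalizerCondition_of_isNilpotent _ hlt)
    exact ⟨y, y.2, mem_normalizer_fintype fun a ha => (mem_normalizer_iff.1 hy ⟨a, hTS ha⟩).1 ha,
      fun h => hyn (mem_subgroupOf.2 h)⟩
  have hyZ : y ∈ normalizer (Z₀ : Set G) := hZ₀ ▸ normalizer_le_normalizer_omegaCenter T hyN
  have hTN : T ≤ normalizer (Z₀ : Set G) := hTC.trans (centralizer_le_normalizer _)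
  have hmove : ∀ n ∈ normalizer (Z₀ : Set G), n ∉ T → n * h * n⁻¹ = h * z ∧ n * z * n⁻¹ = z := by
    intro n hn hnT
    have hnz : n * z * n⁻¹ = z := by
      refine f.z_fixed hz hzT ?_
      rw [← hCT]
      refine mem_normalizer_fintype fun a ha => mem_centralizer_iff.2 fun x hx => ?_
      have hx' := (mem_normalizer_iff.1 (inv_mem hn) x).1 hx
      have := mem_centralizer_iff.1 ha _ hx'
      calc x * (n * a * n⁻¹) = n * ((n⁻¹ * x * n⁻¹⁻¹) * a) * n⁻¹ := by group
        _ = n * (a * (n⁻¹ * x * n⁻¹⁻¹)) * n⁻¹ := by rw [this]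
        _ = n * a * n⁻¹ * x := by group
    refine ⟨?_, hnz⟩
    rcases hcases _ ((mem_normalizer_iff.1 hn h).1 hhZ) with e | e | e | e
    · exact absurd (conj_eq_one_iff.1 e) h1
    · refine absurd (hCT.le (mem_centralizer_iff.2 fun x hx => ?_)) hnT
      have ch : Commute n h := mul_inv_eq_iff_eq_mul.1 e
      have cz : Commute n z := mul_inv_eq_iff_eq_mul.1 hnz
      rcases hcases x hx with rfl | rfl | rfl | rfl
      exacts [(Commute.one_right n).eq.symm, ch.eq.symm, cz.eq.symm, (ch.mul_right cz).eq.symm]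
    · exact absurd (mul_left_cancel (mul_right_cancel (e.trans hnz.symm))) hhz
    · exact e
  rw [relIndex, index_eq_two_iff]
  refine ⟨⟨y, hyZ⟩, fun b => ?_⟩
  simp only [mem_subgroupOf, Subgroup.coe_mul]
  by_cases hb : (b : G) ∈ T
  · refine Or.inr ⟨hb, fun hby => hyT ?_⟩
    have := mul_mem (inv_mem hb) hby
    rwa [inv_mul_cancel_left] at this
  · refine Or.inl ⟨?_, hb⟩
    by_contra hby
    have hb' := (hmove _ (mul_mem b.2 hyZ) hby).1
    rw [show (b : G) * y * h * ((b : G) * y)⁻¹ = b * (y * h * y⁻¹) * (b : G)⁻¹ by group,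
      (hmove y hyZ hyT).1, ← conj_mul, (hmove b b.2 hb).1, (hmove b b.2 hb).2, mul_assoc, hz.sq, mul_one] at hb'
    exact hz.ne (mul_eq_left.1 hb'.symm)

/-- A component with the unique overgroup, in a pair. -/
theorem exists_pair_of_outside {M T : Subgroup G} (c : Ctx M T) {K : Subgroup G}
    (hK : K ∈ jComponentsOutside M T) :
    ∃ L K₂ L₂, IsOver T K L ∧ Good T K L ∧ Good T K₂ L₂ ∧ ¬ K₂ ≤ L := by
  have hK' : Out M T K := ⟨hK.1.1, hK.2.1⟩
  obtain ⟨L, hL⟩ := c.exists_over hK'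
  obtain ⟨K₂, L₂, h⟩ := c.exists_pair hK' hL (c.T_le_over hK' hL hK.2.2)
  exact ⟨L, K₂, L₂, hL, h⟩

end Cfsg.Agent.Invol.JComp
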