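import Cfsg.Agent.Lib.Invol.JFiveCore
import Cfsg.Agent.Lib.Invol.ThompsonComplement

/-!
# Thompson's criterion for `p ≥ 5`: the minimal obstruction does not exist
-/

set_option autoImplicit false

open scoped commutatorElement

namespace Cfsg.Agent.Invol.JFive

universe u

variable {p : ℕ} [hp : Fact p.Prime]

/-- A coprime element fixing the translation it induces on a `p`-subgroup fixes the point. -/
theorem eq_one_of_translate {X : Type*} [Group X] [Finite X] {P : Subgroup X} (hP : IsPGroup p P)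
    {l r d : X} (hl : (orderOf l).Coprime p) (hd : d ∈ P) (he : l * r * l⁻¹ = r * d)
    (hc : l * d = d * l) : d = 1 := by
  have h : ∀ k : ℕ, l ^ k * r * (l ^ k)⁻¹ = r * d ^ k := by
    intro k
    induction k with
    | zero => simp
    | succ k ih =>
      calc l ^ (k + 1) * r * (l ^ (k + 1))⁻¹ = l * (l ^ k * r * (l ^ k)⁻¹) * l⁻¹ := by
            rw [pow_succ']; group
        _ = l * r * l⁻¹ * (l * d ^ k * l⁻¹) := by rw [ih]; group
        _ = r * d ^ (k + 1) := by
            rw [he, (Commute.pow_right (show Commute l d from hc) k).eq, mul_inv_cancel_right,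
              mul_assoc, ← pow_succ']
  have h1 := h (orderOf l)
  rw [pow_orderOf_eq_one, one_mul, inv_one, mul_one, left_eq_mul] at h1
  obtain ⟨e, he'⟩ := IsPGroup.iff_orderOf.1 hP ⟨d, hd⟩
  rw [Subgroup.orderOf_mk] at he'
  have h2 : orderOf d ∣ Nat.gcd (p ^ e) (orderOf l) :=
    Nat.dvd_gcd (he' ▸ dvd_rfl) (orderOf_dvd_of_pow_eq_one h1)
  rw [(Nat.Coprime.pow_left e hl.symm).gcd_eq_one, Nat.dvd_one] at h2
  exact orderOf_eq_one_iff.mp h2

theorem sub_one_pow_pred {R0 : Type*} [Ring R0] [CharP R0 p] (x : R0) :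
    (x - 1) ^ (p - 1) = ∑ i ∈ Finset.range p, x ^ i := by
  let _ : Algebra (ZMod p) R0 := ZMod.algebra R0 p
  have h : ((Polynomial.X - 1) ^ (p - 1) : Polynomial (ZMod p)) =
      ∑ i ∈ Finset.range p, Polynomial.X ^ i := by
    refine mul_left_cancel₀ (Polynomial.X_sub_C_ne_zero (1 : ZMod p)) ?_
    rw [map_one, ← pow_succ', Nat.sub_add_cancel hp.out.one_le, mul_geom_sum, sub_pow_char, one_pow]
  simpa using congrArg (Polynomial.aeval x) h

/-- A normal `p`-subgroup is not absorbed by commutation with a normal `p`-subgroup. -/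
theorem commutator_ne_self {X : Type*} [Group X] [Finite X] {R P : Subgroup X} (hP : IsPGroup p P)
    (hRP : R ≤ P) (hR : R ≠ ⊥) : ⁅R, P⁆ ≠ R := by
  intro h
  have : Group.IsNilpotent P := hP.isNilpotent
  obtain ⟨k, hk⟩ := Subgroup.nilpotent_iff_lowerCentralSeries.mp this
  have h1 : ∀ n, R ≤ (Subgroup.lowerCentralSeries (⊤ : Subgroup P) n).map P.subtype := by
    intro n
    induction n with
    | zero =>
      rw [Subgroup.lowerCentralSeries, ← MonoidHom.range_eq_map, Subgroup.range_subtype]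
      exact hRP
    | succ n ih =>
      rw [Subgroup.lowerCentralSeries_succ, Subgroup.map_commutator, ← MonoidHom.range_eq_map,
        Subgroup.range_subtype]
      exact h.ge.trans (Subgroup.commutator_mono ih le_rfl)
  have h2 := h1 k
  rw [hk, Subgroup.map_bot] at h2
  exact hR (le_bot_iff.mp h2)

/-- The functor `J`. -/
def jFunctor : Unit → ∀ (Q : Type u) [Group Q], Subgroup Q :=
  fun _ Q [Group Q] => Cfsg.thompsonSubgroupA Q

theorem isCharPFunctor_jFunctor : ∀ i, Cfsg.IsCharPFunctor.{u} p (jFunctor.{u} i) :=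
  fun _ => isCharPFunctor_thompsonSubgroupA p

set_option maxHeartbeats 1000000 in
/-- There is no minimal obstruction for `J` when `p ≥ 5`. -/
theorem not_isThompsonMinimal (hp5 : 5 ≤ p) {X : Type u} [Group X] [Finite X] :
    ¬ IsThompsonMinimal p (jFunctor.{u}) X := by
  classical
  intro hmin
  obtain ⟨M, hd⟩ := hmin.data
  set P := Cfsg.pCore p X
  have hPn : P.Normal := hd.pn
  have hMn : M.Normal := hd.mn
  have hPp : IsPGroup p P := hd.isP
  obtain ⟨S⟩ : Nonempty (Sylow p X) := inferInstance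
  have hStop : (S : Subgroup X) ≠ ⊤ := by
    intro e
    refine hmin.notNPC (Invol.hasNormalPComplement_of_isPGroup fun x => ?_)
    obtain ⟨k, hk⟩ := S.isPGroup' ⟨x, e ▸ Subgroup.mem_top x⟩
    exact ⟨k, congrArg Subtype.val hk⟩
  have hPS : P ≤ (S : Subgroup X) := Grp.pCore_le_sylow S
  -- a maximal abelian subgroup outside `P`
  obtain ⟨A, hA, hAP⟩ : ∃ A, Fus.IsMaxAb (S : Subgroup X) A ∧ ¬ A ≤ P := by
    by_contra hall
    push Not at hall
    have key : ∀ g : X, (Cfsg.thompsonSubgroupAOf (S : Subgroup X)).map (MulAut.conj g).toMonoidHom ≤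
        Cfsg.thompsonSubgroupAOf (S : Subgroup X) := by
      intro g
      rw [Subgroup.map_le_iff_le_comap]
      refine Fus.thompsonA_le_of fun A hA => Subgroup.map_le_iff_le_comap.mp (Fus.IsMaxAb.le_thompsonA ?_)
      refine ⟨?_, ?_, fun B hB hc => ?_⟩
      · rintro _ ⟨a, ha, rfl⟩
        exact hPS (hPn.conj_mem a (hall A hA ha) g)
      · rintro _ ⟨a, ha, rfl⟩ _ ⟨b, hb, rfl⟩
        rw [← map_mul, hA.2.1 a ha b hb, map_mul]
      · rw [Subgroup.card_map_of_injective (MulAut.conj g).injective]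
        exact hA.2.2 B hB hc
    have hJn : (Cfsg.thompsonSubgroupAOf (S : Subgroup X)).Normal :=
      ⟨fun y hy g => key g ⟨y, hy, rfl⟩⟩
    have h1 : Subgroup.normalizer (Cfsg.thompsonSubgroupAOf (S : Subgroup X) : Set X) = S :=
      hmin.norm () S
    rw [Subgroup.normalizer_eq_top] at h1
    exact hStop h1.symm
  -- the `p'`-elements
  set L : Set X := {l | (orderOf l).Coprime p} with hL
  have hLconj : ∀ l ∈ L, ∀ g : X, g * l * g⁻¹ ∈ L := fun l hl g => by
    change (orderOf (g * l * g⁻¹)).Coprime p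
    rw [← MulAut.conj_apply, MulEquiv.orderOf_eq]
    exact hl
  have hpow : ∀ (Y : Subgroup X) (l : X), l ∈ L → ∀ n, l ^ p ^ n ∈ Y → l ∈ Y := by
    intro Y l hl n hn
    obtain ⟨s, hs⟩ := exists_pow_eq_self_of_coprime (Nat.Coprime.pow_left n (Nat.Coprime.symm hl))
    rw [← hs]
    exact pow_mem hn s
  have hLM : ∀ l ∈ L, l ∈ M := fun l hl => by
    obtain ⟨n, hn⟩ := hd.top l
    exact hpow M l hl n hn
  have hCn : ∀ (T : Subgroup X), T.Normal → (T ⊓ Subgroup.centralizer L).Normal := by
    intro T hT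
    refine ⟨fun y hy g => ⟨hT.conj_mem y hy.1 g, Subgroup.mem_centralizer_iff.mpr fun l hl => ?_⟩⟩
    have h1 := Subgroup.mem_centralizer_iff.mp hy.2 _ (hLconj l hl g⁻¹)
    calc l * (g * y * g⁻¹) = g * ((g⁻¹ * l * g⁻¹⁻¹) * y) * g⁻¹ := by group
      _ = g * (y * (g⁻¹ * l * g⁻¹⁻¹)) * g⁻¹ := by rw [h1]
      _ = g * y * g⁻¹ * l := by group
  -- a minimal normal `p`-subgroup not centralised by them
  obtain ⟨R, ⟨hRn, hRP, hRL⟩, hRmin⟩ := Set.exists_min_image
    {R : Subgroup X | R.Normal ∧ R ≤ P ∧ ¬ R ≤ Subgroup.centralizer L}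
    (fun R : Subgroup X => Nat.card R) (Set.toFinite _)
    ⟨P, hPn, le_rfl, fun h => by
      refine hmin.notNPC (Invol.hasNormalPComplement_of_isPGroup ?_)
      have hres : Cfsg.pResidual p X = ⊥ := by
        rw [Cfsg.pResidual, Subgroup.closure_eq_bot_iff]
        intro l hl
        have hlP : l ∈ P := hmin.cent (Subgroup.mem_centralizer_iff.mpr fun x hx =>
          (Subgroup.mem_centralizer_iff.mp (h hx) l hl).symm)
        exact eq_one_of_coprime_of_mem hPp hlP hl
      obtain ⟨j, hj⟩ := Transfer.exists_pResidual_index (G := X) p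
      rw [hres, Subgroup.index_bot] at hj
      exact IsPGroup.of_card hj⟩
  set N : Subgroup X := R ⊓ Subgroup.centralizer L
  have hNn : N.Normal := hCn R hRn
  have hsmall : ∀ T : Subgroup X, T.Normal → T ≤ R → T ≠ R → T ≤ N := by
    intro T hT hTR hne
    refine le_inf hTR ?_
    by_contra h
    exact hne (Subgroup.eq_of_le_of_card_ge hTR (hRmin T ⟨hT, hTR.trans hRP, h⟩))
  have hNR : N ≤ R := inf_le_left
  have hRp : IsPGroup p R := hPp.to_le hRP
  -- `N` is central in `R`
  have hZ : ∀ n ∈ N, ∀ r ∈ R, r * n = n * r := by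
    by_contra hne
    push Not at hne
    obtain ⟨n, hn, r, hr, hne⟩ := hne
    have hD : (R ⊓ Subgroup.centralizer (N : Set X) : Subgroup X).Normal := by
      have : (Subgroup.centralizer (N : Set X)).Normal := Subgroup.normal_centralizer
      exact Subgroup.normal_inf_normal _ _
    have hDN := hsmall _ hD inf_le_left fun h =>
      hne (Subgroup.mem_centralizer_iff.mp (h.ge hr).2 n hn).symm
    apply hRL
    intro y hy
    refine Subgroup.mem_centralizer_iff.mpr fun l hl => ?_
    set d := y⁻¹ * (l * y * l⁻¹) with hd'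
    have hdD : d ∈ R ⊓ Subgroup.centralizer (N : Set X) := by
      refine ⟨R.mul_mem (R.inv_mem hy) (hRn.conj_mem y hy l), Subgroup.mem_centralizer_iff.mpr fun m hm => ?_⟩
      have h1 : y * m * y⁻¹ ∈ N := hNn.conj_mem m hm y
      have h2 := Subgroup.mem_centralizer_iff.mp hm.2 l hl
      have h3 := Subgroup.mem_centralizer_iff.mp h1.2 l hl
      have h4 : l * y * l⁻¹ * m = y * m * y⁻¹ * (l * y * l⁻¹) := by
        calc l * y * l⁻¹ * m = l * y * l⁻¹ * (m * l) * l⁻¹ := by group
          _ = l * y * l⁻¹ * (l * m) * l⁻¹ := by rw [← h2]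
          _ = l * (y * m * y⁻¹) * y * l⁻¹ := by group
          _ = y * m * y⁻¹ * l * y * l⁻¹ := by rw [h3]
          _ = y * m * y⁻¹ * (l * y * l⁻¹) := by group
      rw [hd', mul_assoc y⁻¹ (l * y * l⁻¹) m, h4]
      group
    have hd1 := eq_one_of_translate hPp hl (hRP hdD.1) (show l * y * l⁻¹ = y * d by rw [hd']; group)
      (Subgroup.mem_centralizer_iff.mp (hDN hdD).2 l hl)
    rw [hd', inv_mul_eq_one, eq_mul_inv_iff_mul_eq] at hd1
    exact hd1.symm
  have hNne : N ≠ R := fun h => hRL (h.ge.trans inf_le_right)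
  have hRbot : R ≠ ⊥ := fun h => hRL (h ▸ bot_le)
  -- commutators with `P`
  have hRPN : ⁅R, P⁆ ≤ N :=
    hsmall _ (Subgroup.commutator_normal R P) (Subgroup.commutator_le_left R P)
      (commutator_ne_self hPp hRP hRbot)
  have hcR : ∀ r ∈ R, ∀ s ∈ R, ⁅r, s⁆ ∈ N := fun r hr s hs =>
    hRPN (Subgroup.commutator_mem_commutator hr (hRP hs))
  -- the chief factor
  set Nn := N.subgroupOf R
  have hNnn : Nn.Normal := hNn.subgroupOf R
  let _ : CommGroup (↥R ⧸ Nn) :=
    { (inferInstance : Group (↥R ⧸ Nn)) with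
      mul_comm := fun a b => by
        induction a using QuotientGroup.induction_on with | _ a
        induction b using QuotientGroup.induction_on with | _ b
        rw [← QuotientGroup.mk_mul, ← QuotientGroup.mk_mul, QuotientGroup.eq, Subgroup.mem_subgroupOf]
        simp only [Subgroup.coe_mul, Subgroup.coe_inv]
        have := hcR _ (inv_mem b.2) _ (inv_mem a.2)
        rwa [commutatorElement_def, inv_inv, inv_inv, mul_assoc _ (b : X) (a : X),
          show (b : X)⁻¹ * (a : X)⁻¹ * ((b : X) * a) = ((a : X) * b)⁻¹ * (b * a) by group] at this }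
  have hexp : ∀ w : ↥R ⧸ Nn, w ^ p = 1 := by
    set φ := powMonoidHom (α := ↥R ⧸ Nn) p
    set T := Subgroup.normalClosure {y | ∃ r ∈ R, r ^ p = y}
    have hTR : T ≤ R := Subgroup.normalClosure_le_normal (by rintro _ ⟨r, hr, rfl⟩; exact pow_mem hr p)
    have hT : T ≤ (φ.range.comap (QuotientGroup.mk' Nn)).map R.subtype := by
      refine (Subgroup.closure_le _).mpr ?_
      intro y hy
      obtain ⟨_, ⟨r, hr, rfl⟩, hc⟩ := Group.mem_conjugatesOfSet_iff.mp hy
      obtain ⟨g, rfl⟩ := isConj_iff.mp hc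
      refine ⟨(⟨g * r * g⁻¹, hRn.conj_mem r hr g⟩ : R) ^ p, ⟨QuotientGroup.mk ⟨g * r * g⁻¹, _⟩, rfl⟩, ?_⟩
      simp [conj_pow]
    intro w
    induction w using QuotientGroup.induction_on with | _ w
    rcases eq_or_ne T R with hTe | hTe
    · exfalso
      have hsurj : Function.Surjective φ := by
        intro w'
        induction w' using QuotientGroup.induction_on with | _ w'
        obtain ⟨y, hy, he⟩ := hT (hTe.ge w'.2)
        rw [Subgroup.coe_subtype] at he
        obtain rfl : y = w' := Subtype.ext he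
        exact hy
      have hinj := (Finite.injective_iff_surjective (f := φ)).mpr hsurj
      obtain ⟨k, hk⟩ := IsPGroup.iff_card.mp (hRp.to_quotient Nn)
      rcases Nat.eq_zero_or_pos k with rfl | hk0
      · rw [pow_zero] at hk
        refine hNne (le_antisymm hNR fun y hy => ?_)
        have := (Nat.card_eq_one_iff_unique.mp hk).1.elim (QuotientGroup.mk ⟨y, hy⟩ : ↥R ⧸ Nn) 1
        exact Subgroup.mem_subgroupOf.mp ((QuotientGroup.eq_one_iff _).mp this)
      · obtain ⟨z, hz⟩ := exists_prime_orderOf_dvd_card' p (hk ▸ dvd_pow_self p hk0.ne')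
        have h1 : φ z = φ 1 := by
          change z ^ p = 1 ^ p
          rw [← hz, pow_orderOf_eq_one, one_pow]
        rw [hinj h1, orderOf_one] at hz
        exact hp.out.one_lt.ne hz
    · rw [← QuotientGroup.mk_pow, QuotientGroup.eq_one_iff, Subgroup.mem_subgroupOf]
      exact hsmall T Subgroup.normalClosure_normal hTR hTe (Subgroup.subset_normalClosure ⟨w, w.2, by simp⟩)
  -- the module
  let V := Additive (↥R ⧸ Nn)
  let End' := AddMonoid.End V
  have hVnt : Nontrivial V := by
    obtain ⟨y, hy, hyN⟩ := SetLike.exists_of_lt (lt_of_le_of_ne hNR hNne)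
    refine ⟨⟨Additive.ofMul (QuotientGroup.mk ⟨y, hy⟩ : ↥R ⧸ Nn), 0, fun h => hyN ?_⟩⟩
    exact Subgroup.mem_subgroupOf.mp ((QuotientGroup.eq_one_iff _).mp (Additive.ofMul.injective h))
  have : Nontrivial End' := ⟨⟨1, 0, fun h => by
    obtain ⟨v, hv⟩ := exists_ne (0 : V)
    exact hv (DFunLike.congr_fun h v)⟩⟩
  have : CharP End' p := by
    refine (CharP.charP_iff_prime_eq_zero hp.out).mpr ?_
    ext z
    change ((p : End') : V →+ V) z = 0
    rw [AddMonoid.End.natCast_apply]
    exact Additive.toMul.injective (hexp (Additive.toMul z))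
  let α : X → (↥R ⧸ Nn) →* (↥R ⧸ Nn) := fun g => QuotientGroup.map Nn Nn
    (MulAut.conjNormal g : MulAut R).toMonoidHom (fun y hy => by
      rw [Subgroup.mem_comap, Subgroup.mem_subgroupOf]
      change ((MulAut.conjNormal g y : R) : X) ∈ N
      rw [MulAut.conjNormal_apply]
      exact hNn.conj_mem _ (Subgroup.mem_subgroupOf.mp hy) g)
  let ρ0 : X →* End' :=
    { toFun := fun g => MonoidHom.toAdditive (α g)
      map_one' := by
        ext v
        obtain ⟨w, rfl⟩ := Additive.ofMul.surjective v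
        induction w using QuotientGroup.induction_on with | _ w
        change Additive.ofMul (α 1 (QuotientGroup.mk w)) = _
        simp [α]
        rfl
      map_mul' := fun g h => by
        ext v
        obtain ⟨w, rfl⟩ := Additive.ofMul.surjective v
        induction w using QuotientGroup.induction_on with | _ w
        change Additive.ofMul (α (g * h) (QuotientGroup.mk w)) =
          Additive.ofMul (α g (α h (QuotientGroup.mk w)))
        simp [α] }
  have hρ : ∀ (g : X) (r : R), ρ0 g (Additive.ofMul (QuotientGroup.mk r : ↥R ⧸ Nn)) =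
      Additive.ofMul (QuotientGroup.mk ⟨g * r * g⁻¹, hRn.conj_mem r r.2 g⟩ : ↥R ⧸ Nn) := by
    intro g r
    refine congrArg Additive.ofMul ((QuotientGroup.map_mk _ _ _ _ r).trans ?_)
    congr 1
  have hclass : ∀ (g : X) (r : R) (h : ⁅g, (r : X)⁆ ∈ R),
      Additive.ofMul (QuotientGroup.mk ⟨⁅g, (r : X)⁆, h⟩ : ↥R ⧸ Nn) =
        (ρ0 g - 1) (Additive.ofMul (QuotientGroup.mk r : ↥R ⧸ Nn)) := by
    intro g r h
    change _ = ρ0 g _ - Additive.ofMul (QuotientGroup.mk r : ↥R ⧸ Nn)
    rw [hρ, ← ofMul_div, ← QuotientGroup.mk_div]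
    congr 2
    exact Subtype.ext (by simp [commutatorElement_def, div_eq_mul_inv])
  have hker : ∀ g : X, (∀ r ∈ R, ⁅g, r⁆ ∈ N) → ρ0 g = 1 := by
    intro g hg
    ext v
    obtain ⟨w, rfl⟩ := Additive.ofMul.surjective v
    induction w using QuotientGroup.induction_on with | _ w
    have h1 := hclass g w (hNR (hg w w.2))
    rw [show (QuotientGroup.mk ⟨⁅g, (w : X)⁆, hNR (hg w w.2)⟩ : ↥R ⧸ Nn) = 1 from
      (QuotientGroup.eq_one_iff _).mpr (Subgroup.mem_subgroupOf.mpr (hg w w.2)), ofMul_one] at h1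
    exact (sub_eq_zero (G := V)).mp h1.symm
  have hρP : ∀ y ∈ P, ρ0 y = 1 := fun y hy => hker y fun r hr =>
    hRPN (by rw [Subgroup.commutator_comm]; exact Subgroup.commutator_mem_commutator hy hr)
  -- the commutative subring
  let E : Subring End' := Subring.closure ((fun g => ρ0 g) '' (M : Set X))
  have hgen : ∀ a ∈ M, ∀ b ∈ M, ρ0 a * ρ0 b = ρ0 b * ρ0 a := by
    intro a ha b hb
    rw [← map_mul, ← map_mul, show a * b = a * b * a⁻¹ * b⁻¹ * (b * a) by group, map_mul,
      hρP _ (hd.comm a ha b hb), one_mul]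
  have hEc : ∀ x ∈ E, ∀ y ∈ E, x * y = y * x := by
    intro x hx
    suffices h : E ≤ Subring.centralizer ({x} : Set End') from fun y hy =>
      Subring.mem_centralizer_iff.mp (h hy) x rfl
    refine Subring.closure_le.mpr ?_
    rintro _ ⟨b, hb, rfl⟩
    refine Subring.mem_centralizer_iff.mpr ?_
    rintro _ rfl
    have h : E ≤ Subring.centralizer ({ρ0 b} : Set End') := by
      refine Subring.closure_le.mpr ?_
      rintro _ ⟨a, ha, rfl⟩
      refine Subring.mem_centralizer_iff.mpr ?_
      rintro _ rfl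
      exact hgen b hb a ha
    exact (Subring.mem_centralizer_iff.mp (h hx) _ rfl).symm
  set q := ordCompl[p] (Nat.card X) with hq
  have hqc : p.Coprime q := Nat.coprime_ordCompl hp.out Nat.card_pos.ne'
  set k := q.totient with hk
  have hkpos : 0 < k := Nat.totient_pos.mpr (Nat.ordCompl_pos p Nat.card_pos.ne')
  have hgq : ∀ m ∈ M, ρ0 m ^ q = 1 := by
    intro m hm
    obtain ⟨e, hec, hem⟩ := hd.mid m hm
    have h1 : orderOf (ρ0 m) ∣ e := orderOf_dvd_of_pow_eq_one (by rw [← map_pow, hρP _ hem])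
    have h2 : orderOf (ρ0 m) ∣ Nat.card X :=
      (orderOf_map_dvd ρ0 m).trans (orderOf_dvd_natCard m)
    rw [← Nat.ordProj_mul_ordCompl_eq_self (Nat.card X) p] at h2
    exact orderOf_dvd_iff_pow_eq_one.mp
      (((hec.coprime_dvd_left h1).pow_right _).dvd_of_dvd_mul_left h2)
  have hEM : ∀ x ∈ E, x ^ p ^ k = x := by
    intro x hx
    induction hx using Subring.closure_induction with
    | mem x hx =>
      obtain ⟨m, hm, rfl⟩ := hx
      have h1 : p ^ k ≡ 1 [MOD q] := Nat.ModEq.pow_totient hqc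
      have h2 : orderOf (ρ0 m) ∣ q := orderOf_dvd_of_pow_eq_one (hgq m hm)
      change ρ0 m ^ p ^ k = ρ0 m
      conv_rhs => rw [← pow_one (ρ0 m)]
      rw [← pow_mod_orderOf (ρ0 m) (p ^ k),
        show p ^ k % orderOf (ρ0 m) = 1 % orderOf (ρ0 m) from h1.of_dvd h2, pow_mod_orderOf]
    | zero => exact zero_pow (pow_ne_zero _ hp.out.ne_zero)
    | one => exact one_pow _
    | add a b ha hb iha ihb => rw [add_pow_char_pow_of_commute _ _ (hEc a ha b hb), iha, ihb]
    | neg a ha iha => exact (Odd.neg_pow ((hp.out.odd_of_ne_two (by omega)).pow (n := k)) a).trans (congrArg Neg.neg iha)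
    | mul a b ha hb iha ihb => rw [(show Commute a b from hEc a ha b hb).mul_pow, iha, ihb]
  -- `A` acts nontrivially on it
  let uA : A →* End'ˣ := ρ0.toHomUnits.comp A.subtype
  have huA : ∀ g : A, ((uA g : End'ˣ) : End') = ρ0 g := fun g => rfl
  have hθ : ∀ (g : A) (z : End'), θ uA g z = ρ0 g * z * ρ0 ((g : X)⁻¹) := by
    intro g z
    rw [θ_apply, huA, ← map_inv]
    rfl
  have hinv : ∀ (g : A), ∀ z ∈ E, θ uA g z ∈ E := by
    intro g z hz
    have h : E ≤ E.comap (θ uA g) := by
      refine Subring.closure_le.mpr ?_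
      rintro _ ⟨m, hm, rfl⟩
      refine Subring.mem_comap.mpr ?_
      rw [hθ, ← map_mul, ← map_mul]
      exact Subring.subset_closure ⟨_, hMn.conj_mem m hm g, rfl⟩
    exact h hz
  have hne : ∃ g : A, ∃ z ∈ E, θ uA g z ≠ z := by
    by_contra hall
    push Not at hall
    apply hAP
    intro a ha
    obtain ⟨e, he⟩ := S.isPGroup' ⟨a, hA.1 ha⟩
    refine mem_pCore_of_comm hd (e := e) (congrArg Subtype.val he) fun m hm => ?_
    set Y : Subgroup X := M ⊓ ρ0.toHomUnits.ker with hY
    have hYn : Y.Normal := Subgroup.normal_inf_normal _ _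
    have hY1 : a * m * a⁻¹ * m⁻¹ ∈ Y := by
      refine ⟨M.mul_mem (hMn.conj_mem m hm a) (M.inv_mem hm), MonoidHom.mem_ker.mpr (Units.ext ?_)⟩
      change ρ0 (a * m * a⁻¹ * m⁻¹) = 1
      have h1 := hall ⟨a, ha⟩ _ (Subring.subset_closure ⟨m, hm, rfl⟩)
      rw [hθ, ← map_mul, ← map_mul] at h1
      rw [map_mul, h1, ← map_mul, mul_inv_cancel, map_one]
    rcases hmin.maximal S ((S : Subgroup X) ⊔ Y) le_sup_left with h | h
    · exact Grp.le_pCore hYn (S.isPGroup'.to_le (le_sup_right.trans h.le)) hY1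
    · exfalso
      apply hRL
      intro r hr
      refine Subgroup.mem_centralizer_iff.mpr fun l hl => ?_
      have hl' : l ∈ (S : Subgroup X) ⊔ Y := h.ge (Subgroup.mem_top l)
      obtain ⟨n, hn⟩ : ∃ n, l ^ p ^ n ∈ Y := by
        obtain ⟨s, hs, y, hy, rfl⟩ := Subgroup.mem_sup_of_normal_right.mp hl'
        obtain ⟨n, hn⟩ := S.isPGroup' ⟨s, hs⟩
        refine ⟨n, (QuotientGroup.eq_one_iff _).mp ?_⟩
        rw [QuotientGroup.mk_pow, QuotientGroup.mk_mul, (QuotientGroup.eq_one_iff y).mpr hy, mul_one,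
          ← QuotientGroup.mk_pow, show s ^ p ^ n = 1 from congrArg Subtype.val hn, QuotientGroup.mk_one]
      have hlY := (hpow Y l hl n hn).2
      have h1 : ρ0 l = 1 := congrArg Units.val (MonoidHom.mem_ker.mp hlY)
      have h2 := hρ l ⟨r, hr⟩
      rw [h1] at h2
      have h3 := (QuotientGroup.eq.mp (Additive.ofMul.injective h2))
      rw [Subgroup.mem_subgroupOf] at h3
      have h4 : r⁻¹ * (l * r * l⁻¹) ∈ N := h3
      have h5 := eq_one_of_translate hPp hl (hRP (hNR h4))
        (show l * r * l⁻¹ = r * (r⁻¹ * (l * r * l⁻¹)) by group)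
        (Subgroup.mem_centralizer_iff.mp h4.2 l hl)
      rw [inv_mul_eq_one, eq_mul_inv_iff_mul_eq] at h5
      exact h5.symm
  have hAp : IsPGroup p A := S.isPGroup'.to_le hA.1
  have hpk : p ≤ p ^ k := Nat.le_self_pow hkpos.ne' p
  obtain ⟨H, hcard, hH⟩ := exists_trace_ne_zero uA (by omega) hAp
    (fun a b => Subtype.ext (hA.2.1 a a.2 b b.2)) E hEc hpk hEM hinv hne
  refine maxAb_obstruction hp5 S.isPGroup' hA (A₀ := H.map A.subtype) (R := R) (N := N)
    (Subgroup.map_subtype_le H) ?_ (hRP.trans hPS) hNR hZ (fun a _ r hr => hRn.conj_mem r hr a)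
    (fun a _ n hn => hNn.conj_mem n hn a) hcR fun a ha haH => ?_
  · rw [Subgroup.card_map_of_injective A.subtype_injective, hcard]
  have haH' : (⟨a, ha⟩ : A) ∉ H := fun h => haH ⟨_, h, rfl⟩
  obtain ⟨hap, c, -, t, htE, hHc, htfix, ht0, hsum⟩ := hH _ haH'
  have hcomm : ∀ (g : A) (z : End'), θ uA g z = z → ρ0 g * z = z * ρ0 g := fun g z h =>
    (θ_eq_self_iff uA g z).mp h
  -- a fixed vector on which `t` is nonzero
  set e := t ^ (p ^ k - 1) with he
  have het : e * t = t := by rw [he, ← pow_succ, Nat.sub_add_cancel (hp.out.one_le.trans hpk), hEM t htE]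
  have hee : e * e = e := by
    have h2 : t * t ^ (p ^ k - 2) = e := by rw [he, ← pow_succ']; congr 1; omega
    conv_lhs => arg 2; rw [← h2]
    rw [← mul_assoc, het, h2]
  have hefix : ∀ g : A, ρ0 g * e = e * ρ0 g := fun g =>
    ((show Commute (ρ0 g) t from hcomm g t (htfix g)).pow_right _).eq
  let Fix : Set V := {z | e z = z}
  let _ : MulAction A Fix :=
    { smul := fun g z => ⟨ρ0 g z, by
        change (e * ρ0 g) (z : V) = ρ0 g (z : V)
        rw [← hefix]
        exact congrArg (ρ0 g) z.2⟩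
      one_smul := fun z => Subtype.ext (by
        change ρ0 ((1 : A) : X) (z : V) = z
        rw [Subgroup.coe_one, map_one]
        rfl)
      mul_smul := fun g h z => Subtype.ext (by
        change ρ0 ((g * h : A) : X) (z : V) = ρ0 g (ρ0 h z)
        rw [Subgroup.coe_mul, map_mul]
        rfl) }
  have hpdvd : p ∣ Nat.card Fix := by
    let K : AddSubgroup V :=
      { carrier := Fix
        zero_mem' := map_zero e
        add_mem' := fun {a b} ha hb => by
          change e (a + b) = a + b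
          rw [map_add, show e a = a from ha, show e b = b from hb]
        neg_mem' := fun {a} ha => by
          change e (-a) = -a
          rw [map_neg, show e a = a from ha] }
    obtain ⟨v, hv⟩ : ∃ v : V, e v ≠ 0 := by
      by_contra h
      push Not at h
      have : e = 0 := AddMonoidHom.ext h
      exact ht0 (by rw [← het, this, zero_mul])
    have hK : (e v : V) ∈ K := by
      change (e * e) v = e v
      rw [hee]
    have hord : addOrderOf (⟨e v, hK⟩ : K) = p := by
      rw [AddSubgroup.addOrderOf_mk]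
      refine addOrderOf_eq_prime ?_ hv
      exact Additive.toMul.injective (hexp (Additive.toMul (e v)))
    exact hord ▸ addOrderOf_dvd_natCard (⟨e v, hK⟩ : K)
  have h0 : (⟨0, map_zero e⟩ : Fix) ∈ MulAction.fixedPoints A Fix := fun g =>
    Subtype.ext (map_zero (ρ0 g))
  obtain ⟨w, hw, hw0⟩ := hAp.exists_fixed_point_of_prime_dvd_card_of_fixed_point Fix hpdvd h0
  have hwfix : ∀ g : A, ρ0 g (w : V) = w := fun g => congrArg Subtype.val (hw g)
  have htw : t (w : V) ≠ 0 := by
    intro h
    apply hw0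
    refine Subtype.ext ?_
    change (0 : V) = w
    rw [← (show e (w : V) = w from w.2), he,
      show p ^ k - 1 = p ^ k - 2 + 1 by omega, pow_succ]
    change 0 = (t ^ (p ^ k - 2)) (t (w : V))
    rw [h, map_zero]
  obtain ⟨vq, hvq⟩ := Additive.ofMul.surjective (c (w : V))
  induction vq using QuotientGroup.induction_on with | _ v
  refine ⟨v, v.2, fun g hg => ?_, ?_, ?_⟩
  · obtain ⟨g', hg', rfl⟩ := hg
    have hR' : ⁅((g' : A) : X), (v : X)⁆ ∈ R :=
      mul_mem (hRn.conj_mem v v.2 g') (inv_mem v.2)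
    have h1 := hclass g' v hR'
    rw [hvq] at h1
    have h2 : (ρ0 g' - 1) (c (w : V)) = 0 := by
      change (ρ0 g' * c) (w : V) - c (w : V) = 0
      rw [hcomm g' c (hHc g' hg')]
      change c (ρ0 g' (w : V)) - _ = 0
      rw [hwfix, sub_self]
    rw [h2] at h1
    exact Subgroup.mem_subgroupOf.mp ((QuotientGroup.eq_one_iff _).mp (Additive.ofMul.injective h1))
  all_goals
    have hit : ∀ n, ∃ h : (fun r : X => ⁅a, r⁆)^[n] v ∈ R,
        Additive.ofMul (QuotientGroup.mk ⟨_, h⟩ : ↥R ⧸ Nn) = ((ρ0 a - 1) ^ n) (c (w : V)) := by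
      intro n
      induction n with
      | zero => exact ⟨v.2, by rw [← hvq, pow_zero]; rfl⟩
      | succ n ih =>
        obtain ⟨h, he'⟩ := ih
        have h' : (fun r : X => ⁅a, r⁆)^[n + 1] v ∈ R := by
          rw [Function.iterate_succ_apply']
          exact mul_mem (hRn.conj_mem _ h a) (inv_mem h)
        refine ⟨h', ?_⟩
        rw [pow_succ']
        change _ = (ρ0 a - 1) (((ρ0 a - 1) ^ n) (c (w : V)))
        rw [← he', ← hclass a ⟨_, h⟩ (mul_mem (hRn.conj_mem _ h a) (inv_mem h))]
        congr 2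
        exact Subtype.ext (Function.iterate_succ_apply' _ _ _)
  · intro hN'
    obtain ⟨h, he'⟩ := hit (p - 1)
    rw [show (QuotientGroup.mk ⟨_, h⟩ : ↥R ⧸ Nn) = 1 from
      (QuotientGroup.eq_one_iff _).mpr (Subgroup.mem_subgroupOf.mpr hN'), ofMul_one,
      sub_one_pow_pred] at he'
    refine htw ?_
    let ev : End' →+ V :=
      { toFun := fun φ => φ (w : V)
        map_zero' := rfl
        map_add' := fun _ _ => rfl }
    calc t (w : V) = ev (∑ i ∈ Finset.range p, θ uA ((⟨a, ha⟩ : A) ^ i) c) := by rw [hsum]; rfl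
      _ = ev ((∑ i ∈ Finset.range p, ρ0 a ^ i) * c) := by
          rw [Finset.sum_mul, map_sum, map_sum]
          refine Finset.sum_congr rfl fun i _ => ?_
          rw [hθ]
          change (ρ0 (((⟨a, ha⟩ : A) ^ i : A) : X) * c)
            (ρ0 (((⟨a, ha⟩ : A) ^ i : A) : X)⁻¹ (w : V)) = _
          rw [show (((⟨a, ha⟩ : A) ^ i : A) : X)⁻¹ = ((((⟨a, ha⟩ : A) ^ i)⁻¹ : A) : X) from rfl,
            hwfix, SubgroupClass.coe_pow, map_pow]
          rfl
      _ = 0 := he'.symm
  · obtain ⟨h, he'⟩ := hit p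
    rw [sub_pow_char_of_commute _ (Commute.one_right _), one_pow, ← map_pow] at he'
    have h2 : (ρ0 (a ^ p) - 1) (c (w : V)) = 0 := by
      change (ρ0 (a ^ p) * c) (w : V) - c (w : V) = 0
      have h3 := hcomm _ c (hHc _ hap)
      rw [SubgroupClass.coe_pow] at h3
      rw [h3]
      change c (ρ0 (a ^ p) (w : V)) - _ = 0
      have h4 := hwfix ((⟨a, ha⟩ : A) ^ p)
      rw [SubgroupClass.coe_pow] at h4
      rw [h4, sub_self]
    rw [h2] at he'
    exact Subgroup.mem_subgroupOf.mp ((QuotientGroup.eq_one_iff _).mp (Additive.ofMul.injective he'))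

/-- The normaliser of `J(S)` has a normal `p`-complement as soon as its `p'`-elements centralise
`J(S)`. -/
theorem hasNormalPComplement_normalizer_thompson {G : Type u} [Group G] [Finite G] (S : Sylow p G)
    (h : ∀ g ∈ Subgroup.normalizer (Cfsg.thompsonSubgroupAOf (S : Subgroup G) : Set G),
      (orderOf g).Coprime p →
        g ∈ Subgroup.centralizer (Cfsg.thompsonSubgroupAOf (S : Subgroup G) : Set G)) :
    Cfsg.HasNormalPComplement p
      ↥(Subgroup.normalizer (Cfsg.thompsonSubgroupAOf (S : Subgroup G) : Set G)) := by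
  set J := Cfsg.thompsonSubgroupAOf (S : Subgroup G)
  set N := Subgroup.normalizer (J : Set G)
  have hJS : J ≤ (S : Subgroup G) := Fus.thompsonA_le _
  have hSN : (S : Subgroup G) ≤ N := fun g hg =>
    Invol.mem_normalizer_of_forall_mem fun u hu => Fus.conj_mem_thompsonA (Subgroup.le_normalizer hg) hu
  set C : Subgroup N := (Subgroup.centralizer (J : Set G)).subgroupOf N
  have hCn : C.Normal := by
    rw [show C = J.normalizerMonoidHom.ker from J.normalizerMonoidHom_ker.symm]
    infer_instance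
  have hS' : (S : Subgroup G).subgroupOf N = ((S.subtype hSN : Sylow p N) : Subgroup N) := rfl
  set T : Subgroup C := ((S.subtype hSN : Sylow p N) : Subgroup N).subgroupOf C
  have hTd : ¬ p ∣ T.index := by
    have h1 := Grp.sylow_inf_normal_relIndex (S.subtype hSN) C
    exact h1
  let TS : Sylow p C := ((S.subtype hSN).isPGroup'.comap_subtype (K := C)).toSylow hTd
  have hcen : ∀ z ∈ (TS : Subgroup C), ∀ y : C, y * z = z * y := by
    intro z hz y
    have h1 : (((z : C) : N) : G) ∈ (S : Subgroup G) := hz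
    have h2 : (((z : C) : N) : G) ∈ Subgroup.centralizer (J : Set G) := z.2
    have h3 : (((z : C) : N) : G) ∈ J := Fus.centralizer_thompsonA_le ⟨h1, h2⟩
    exact Subtype.ext (Subtype.ext (Subgroup.mem_centralizer_iff.mp y.2 _ h3).symm)
  have hC : Cfsg.HasNormalPComplement p C := Transfer.hasNormalPComplement_of_control TS
    fun x hx y hy ⟨g, hg⟩ => ⟨1, one_mem _, by
      rw [one_mul, inv_one, mul_one, ← hg, hcen x hx g, mul_inv_cancel_right]⟩
  rw [Transfer.hasNormalPComplement_iff_not_dvd] at hC ⊢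
  have hle : Cfsg.pResidual p N ≤ (Cfsg.pResidual p C).map C.subtype := by
    rw [Cfsg.pResidual, Subgroup.closure_le]
    intro g hg
    have hgC : g ∈ C := h g g.2 (by rwa [Subgroup.orderOf_coe])
    exact ⟨⟨g, hgC⟩, Transfer.mem_pResidual_of_coprime (by rw [Subgroup.orderOf_mk]; exact hg), rfl⟩
  intro hd'
  refine hC (hd'.trans ?_)
  rw [← Subgroup.card_map_of_injective (K := Cfsg.pResidual p C) C.subtype_injective]
  exact Subgroup.card_dvd_of_le hle

/-- Thompson's criterion for `p ≥ 5`. -/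
theorem hasNormalPComplement_of_thompson_five (hp5 : 5 ≤ p) {G : Type u} [Group G] [Finite G]
    (S : Sylow p G)
    (h : ∀ g ∈ Subgroup.normalizer (Cfsg.thompsonSubgroupAOf (S : Subgroup G) : Set G),
      (orderOf g).Coprime p →
        g ∈ Subgroup.centralizer (Cfsg.thompsonSubgroupAOf (S : Subgroup G) : Set G)) :
    Cfsg.HasNormalPComplement p G := by
  by_contra hG
  have hN := Invol.normalizersNPC_of_one (W := jFunctor.{u}) isCharPFunctor_jFunctor S
    fun _ => hasNormalPComplement_normalizer_thompson S h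
  obtain ⟨X, _, _, -, hmin⟩ := Invol.exists_thompsonMinimal isCharPFunctor_jFunctor hN hG
  exact not_isThompsonMinimal hp5 hmin

/-- Conversely, a normal `p`-complement forces the automizers to be `p`-groups. -/
theorem mem_centralizer_of_hasNormalPComplement {G : Type u} [Group G] [Finite G]
    (hG : Cfsg.HasNormalPComplement p G) {J : Subgroup G} (hJ : IsPGroup p J) {g : G}
    (hg : g ∈ Subgroup.normalizer (J : Set G)) (hgc : (orderOf g).Coprime p) :
    g ∈ Subgroup.centralizer (J : Set G) := by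
  refine Subgroup.mem_centralizer_iff.mpr fun j hj => ?_
  have hn : (Cfsg.pResidual p G).Normal := Transfer.instNormalPResidual p
  set d := g * j * g⁻¹ * j⁻¹
  have h1 : d ∈ J := mul_mem ((Subgroup.mem_normalizer_iff.mp hg j).mp hj) (inv_mem hj)
  have h2 : d ∈ Cfsg.pResidual p G := by
    have hgR := Transfer.mem_pResidual_of_coprime hgc
    have := mul_mem hgR (hn.conj_mem _ (inv_mem hgR) j)
    rwa [← mul_assoc, ← mul_assoc] at this
  have h3 : d = 1 := eq_one_of_coprime_of_mem hJ h1 ((Transfer.mem_pResidual_iff hG).mp h2)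
  rw [mul_inv_eq_one, mul_inv_eq_iff_eq_mul] at h3
  exact h3.symm

end Cfsg.Agent.Invol.JFive
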