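import Mathlib

/-!
# Algebra for Thompson's `p ≥ 5` criterion

* `level_eq_zero`: values of an equivariant alternating form on a free cyclic module vanish in
  filtration degree at least `p`, the target being acted on quadratically.
* `exists_trace_ne_zero`: an abelian `p`-group acting nontrivially on a reduced finite commutative
  ring has a maximal subgroup whose fixed ring has nonzero trace.
-/

set_option autoImplicit false

namespace Cfsg.Agent.Invol.JFive

/-- Equivariance and quadratic action force the high levels to vanish. -/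
theorem level_eq_zero {G : Type*} [AddCommGroup G] (X : G →+ G) (T : ℕ → ℕ → G) {p : ℕ}
    (hp : Odd p) (hX : ∀ g, X (X g) = 0) (hdiag : ∀ i, T i i = 0)
    (hzero : ∀ i j, p ≤ i ∨ p ≤ j → T i j = 0)
    (heq : ∀ i j, X (T i j) = T (i + 1) j + T i (j + 1) + T (i + 1) (j + 1)) :
    ∀ i j, p ≤ i + j → T i j = 0 := by
  suffices key : ∀ K i j, p ≤ i + j → 2 * p ≤ i + j + K → T i j = 0 from
    fun i j h => key (2 * p) i j h (by omega)
  intro K
  induction K with
  | zero => exact fun i j _ h => hzero i j (by omega)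
  | succ K ih =>
    intro i₀ j₀ hp0 hK
    obtain ⟨m, hm⟩ := hp
    set s := i₀ + j₀ with hs
    have hh : ∀ i j, s < i + j → T i j = 0 := fun i j h => ih i j (by omega) (by omega)
    have h1 : ∀ i, i ≤ s → X (T i (s - i)) = 0 := by
      intro i
      induction i with
      | zero => intro _; rw [hzero 0 (s - 0) (by omega), map_zero]
      | succ i ihi =>
        intro hi
        have h := congrArg X (heq i (s - (i + 1)))
        rw [hX, map_add, map_add, hh (i + 1) (s - (i + 1) + 1) (by omega), map_zero, add_zero,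
          show s - (i + 1) + 1 = s - i by omega, ihi (by omega), add_zero] at h
        exact h.symm
    have h2 : ∀ i, i ≤ s - 1 → X (T i (s - 1 - i)) = 0 := by
      have hind : ∀ i, i ≤ s - 1 → (X (T i (s - 1 - i)) = 0 ↔ X (T 0 (s - 1)) = 0) := by
        intro i
        induction i with
        | zero => intro _; rw [Nat.sub_zero]
        | succ i ihi =>
          intro hi
          rw [← ihi (by omega)]
          have h := congrArg X (heq i (s - 1 - (i + 1)))
          rw [hX, map_add, map_add, show s - 1 - (i + 1) + 1 = s - (i + 1) by omega,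
            h1 (i + 1) (by omega), add_zero, show s - (i + 1) = s - 1 - i by omega] at h
          constructor
          · intro h0
            rw [h0, zero_add] at h
            exact h.symm
          · intro h0
            rw [h0, add_zero] at h
            exact h.symm
      intro i hi
      rw [hind i hi]
      by_cases hs1 : p ≤ s - 1
      · rw [hzero 0 (s - 1) (Or.inr hs1), map_zero]
      · rw [← hind m (by omega), show s - 1 - m = m by omega, hdiag, map_zero]
    have h3 : ∀ i, i ≤ s → T i (s - i) = 0 := by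
      intro i
      induction i with
      | zero => intro _; exact hzero 0 (s - 0) (by omega)
      | succ i ihi =>
        intro hi
        have h := heq i (s - (i + 1))
        rw [show s - (i + 1) = s - 1 - i by omega] at h
        rw [h2 i (by omega), hh (i + 1) (s - 1 - i + 1) (by omega), add_zero,
          show s - 1 - i + 1 = s - i by omega, ihi (by omega), add_zero] at h
        rw [show s - (i + 1) = s - 1 - i by omega]
        exact h.symm
    have := h3 i₀ (by omega)
    rwa [show s - i₀ = j₀ by omega] at this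

variable {p : ℕ} [hp : Fact p.Prime] {R : Type*} [Ring R] [CharP R p]

/-- Power sums over a complete set of residues. -/
theorem sum_range_cast_pow (k : ℕ) (hk : k ≤ p - 1) :
    (∑ i ∈ Finset.range p, (i : R) ^ k) = if k = p - 1 then -1 else 0 := by
  have hz : (∑ i ∈ Finset.range p, (i : ZMod p) ^ k) = ∑ x : ZMod p, x ^ k := by
    refine Finset.sum_bij' (fun i _ => (i : ZMod p)) (fun x _ => x.val) (fun _ _ => Finset.mem_univ _)
      (fun x _ => Finset.mem_range.mpr x.val_lt) (fun i hi => ?_) (fun x _ => ?_) fun i _ => rfl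
    · exact ZMod.val_cast_of_lt (Finset.mem_range.mp hi)
    · exact ZMod.natCast_zmod_val x
  have hR : (∑ i ∈ Finset.range p, (i : R) ^ k) =
      ZMod.castHom (dvd_refl p) R (∑ x : ZMod p, x ^ k) := by
    rw [← hz, map_sum]
    exact Finset.sum_congr rfl fun i _ => by rw [map_pow, map_natCast]
  rw [hR]
  split_ifs with h
  · subst h
    have h1 : (∑ x : ZMod p, x ^ (p - 1)) = -1 := by
      rw [← Finset.sum_erase_add _ _ (Finset.mem_univ (0 : ZMod p)),
        Finset.sum_congr rfl fun x hx => ZMod.pow_card_sub_one_eq_one (Finset.ne_of_mem_erase hx),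
        zero_pow (by have := hp.out.two_le; omega), add_zero, Finset.sum_const,
        Finset.card_erase_of_mem (Finset.mem_univ _), Finset.card_univ, ZMod.card, nsmul_eq_mul,
        mul_one, Nat.cast_sub hp.out.one_le, ZMod.natCast_self, zero_sub, Nat.cast_one]
    rw [h1, map_neg, map_one]
  · rw [FiniteField.sum_pow_lt_card_sub_one (ZMod p) k (by rw [ZMod.card]; omega), map_zero]

/-- The trace of `x ^ (p - 1)` along a translation. -/
theorem sum_shift_pow {x d : R} (h : Commute x d) :
    (∑ i ∈ Finset.range p, (x + (i : R) * d) ^ (p - 1)) = -d ^ (p - 1) := by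
  have hpow : ∀ i : ℕ, (x + (i : R) * d) ^ (p - 1) =
      ∑ k ∈ Finset.range (p - 1 + 1), (i : R) ^ (p - 1 - k) *
        (x ^ k * d ^ (p - 1 - k) * ((p - 1).choose k : R)) := by
    intro i
    have hc : Commute x ((i : R) * d) := ((Nat.cast_commute i x).symm).mul_right h
    rw [hc.add_pow]
    refine Finset.sum_congr rfl fun k _ => ?_
    rw [(Nat.cast_commute i d).mul_pow, ← mul_assoc, ← mul_assoc, ← mul_assoc,
      (((Nat.cast_commute i (x ^ k)).pow_left (p - 1 - k))).eq]
  simp only [hpow]
  rw [Finset.sum_comm]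
  simp only [← Finset.sum_mul]
  rw [Finset.sum_congr rfl fun k hk => by rw [sum_range_cast_pow (p - 1 - k) (Nat.sub_le _ _)],
    Finset.sum_eq_single 0]
  · simp
  · intro k hk hk0
    rw [if_neg (by have := Finset.mem_range.mp hk; omega), zero_mul]
  · simp

theorem natCast_pow_char (j : ℕ) : (j : R) ^ p = j := by
  rw [← map_natCast (ZMod.castHom (dvd_refl p) R), ← map_pow, ZMod.pow_card]

variable {A : Type*} [Group A] (u : A →* Rˣ)

/-- Conjugation by a unit, as a ring endomorphism. -/
def θ (g : A) : R →+* R where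
  toFun x := (u g : R) * x * ((u g)⁻¹ : Rˣ)
  map_one' := by simp
  map_zero' := by simp
  map_mul' x y := by simp [mul_assoc]
  map_add' x y := by simp [mul_add, add_mul]

theorem θ_apply (g : A) (x : R) : θ u g x = (u g : R) * x * ((u g)⁻¹ : Rˣ) := rfl

theorem θ_mul (g h : A) (x : R) : θ u (g * h) x = θ u g (θ u h x) := by
  simp [θ_apply, map_mul, mul_inv_rev, mul_assoc]

theorem θ_one (x : R) : θ u 1 x = x := by simp [θ_apply]

theorem θ_eq_self_iff (g : A) (x : R) : θ u g x = x ↔ (u g : R) * x = x * (u g : R) := by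
  rw [θ_apply, Units.mul_inv_eq_iff_eq_mul]

/-- The elements of `A` fixing `x`. -/
def fixer (x : R) : Subgroup A where
  carrier := {g | θ u g x = x}
  one_mem' := θ_one u x
  mul_mem' {a b} ha hb := by
    change θ u (a * b) x = x
    rw [θ_mul, hb, ha]
  inv_mem' {a} ha := by
    change θ u a⁻¹ x = x
    conv_lhs => rw [← (show θ u a x = x from ha)]
    rw [← θ_mul, inv_mul_cancel, θ_one]

theorem θ_pow_shift {g : A} {y d : R} (hy : θ u g y = y + d) (hd : θ u g d = d) (i : ℕ) :
    θ u (g ^ i) y = y + (i : R) * d := by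
  induction i with
  | zero => simp [θ_one]
  | succ i ih =>
    rw [pow_succ', θ_mul, ih, map_add, map_mul, map_natCast, hy, hd, Nat.cast_succ, add_mul,
      one_mul, add_assoc, add_comm d]

/-- A moved element yields a translated one. -/
theorem exists_shift [Finite A] (hA : IsPGroup p A) (P : R → Prop) {g : A}
    (hP : ∀ x, P x → P (θ u g x - x)) {x : R} (hx : P x) (hgx : θ u g x ≠ x) :
    ∃ y d : R, P y ∧ P d ∧ d ≠ 0 ∧ θ u g y = y + d ∧ θ u g d = d := by
  have : Nontrivial R := ⟨⟨_, _, hgx⟩⟩
  let E := AddMonoid.End R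
  have : Nontrivial E := ⟨⟨1, 0, fun h => one_ne_zero (DFunLike.congr_fun h (1 : R))⟩⟩
  have : CharP E p := by
    refine (CharP.charP_iff_prime_eq_zero hp.out).mpr ?_
    ext z
    change ((p : E) : R →+ R) z = 0
    rw [AddMonoid.End.natCast_apply, nsmul_eq_mul, CharP.cast_eq_zero, zero_mul]
  let Θ : E := (θ u g).toAddMonoidHom
  have hΘ : ∀ (n : ℕ) (z : R), (Θ ^ n) z = θ u (g ^ n) z := by
    intro n
    induction n with
    | zero => intro z; rw [pow_zero, pow_zero, θ_one]; rfl
    | succ n ih =>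
      intro z
      rw [pow_succ' Θ, pow_succ' g, θ_mul, ← ih]
      rfl
  obtain ⟨k, hk⟩ := hA g
  have hnil : ((Θ - 1) ^ p ^ k) x = 0 := by
    rw [sub_pow_char_pow_of_commute _ _ (Commute.one_right _), one_pow]
    change (Θ ^ p ^ k) x - x = 0
    rw [hΘ, hk, θ_one, sub_self]
  have hD : ∀ (n : ℕ) (z : R), ((Θ - 1) ^ (n + 1)) z =
      θ u g (((Θ - 1) ^ n) z) - ((Θ - 1) ^ n) z := by
    intro n z
    rw [pow_succ']
    rfl
  have hPn : ∀ n : ℕ, P (((Θ - 1) ^ n) x) := by
    intro n
    induction n with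
    | zero => rw [pow_zero]; exact hx
    | succ n ih => rw [hD]; exact hP _ ih
  classical
  have hex : ∃ n : ℕ, ((Θ - 1) ^ n) x = 0 := ⟨_, hnil⟩
  have hs := Nat.find_spec hex
  have h2 : 2 ≤ Nat.find hex := by
    by_contra h
    rcases (by omega : Nat.find hex = 0 ∨ Nat.find hex = 1) with h' | h'
    · rw [h', pow_zero] at hs
      exact hgx (by rw [show x = 0 from hs, map_zero])
    · rw [h', hD 0, pow_zero] at hs
      exact hgx (sub_eq_zero.mp hs)
  obtain ⟨n, hn⟩ : ∃ n, Nat.find hex = n + 2 := ⟨Nat.find hex - 2, by omega⟩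
  refine ⟨((Θ - 1) ^ n) x, ((Θ - 1) ^ (n + 1)) x, hPn n, hPn (n + 1),
    Nat.find_min hex (by omega), ?_, ?_⟩
  · rw [hD]; abel
  · rw [hn, hD] at hs
    exact sub_eq_zero.mp hs

/-- An abelian `p`-group acting nontrivially on a reduced commutative subring has a subgroup `H` of
index `p` such that, for every outside element `a`, some `H`-fixed element has nonzero `a`-trace. -/
theorem exists_trace_ne_zero [Finite A] (hp3 : 3 ≤ p) (hA : IsPGroup p A) (hAc : ∀ a b : A, a * b = b * a)
    (E : Subring R) (hEc : ∀ x ∈ E, ∀ y ∈ E, x * y = y * x) {M : ℕ} (hM : p ≤ M)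
    (hEM : ∀ x ∈ E, x ^ M = x) (hinv : ∀ (g : A), ∀ x ∈ E, θ u g x ∈ E)
    (hne : ∃ g : A, ∃ x ∈ E, θ u g x ≠ x) :
    ∃ H : Subgroup A, Nat.card A = p * Nat.card H ∧ ∀ a ∉ H, a ^ p ∈ H ∧
      ∃ c ∈ E, ∃ t ∈ E, (∀ h ∈ H, θ u h c = c) ∧ (∀ g, θ u g t = t) ∧ t ≠ 0 ∧
        (∑ i ∈ Finset.range p, θ u (a ^ i) c) = t := by
  classical
  have hp2 := hp.out.two_le
  have hθc : ∀ (g h : A) (x : R), θ u g (θ u h x) = θ u h (θ u g x) := fun g h x => by
    rw [← θ_mul, ← θ_mul, hAc]
  obtain ⟨H, ⟨x₀, hx₀, hxH, g₀, hg₀⟩, hmax⟩ := Set.exists_max_image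
    {H : Subgroup A | ∃ x ∈ E, H ≤ fixer u x ∧ ∃ g, θ u g x ≠ x}
    (fun H : Subgroup A => Nat.card H) (Set.toFinite _)
    (by obtain ⟨g, x, hx, h⟩ := hne; exact ⟨⊥, x, hx, bot_le, g, h⟩)
  let F : R → Prop := fun x => x ∈ E ∧ H ≤ fixer u x
  have hmaximal : ∀ g ∉ H, ∀ x, F x → θ u g x = x → ∀ g', θ u g' x = x := by
    intro g hg x hx hgx g'
    by_contra hne'
    have h1 : H ⊔ Subgroup.zpowers g ≤ fixer u x := sup_le hx.2 (Subgroup.zpowers_le.mpr hgx)
    have h2 := hmax _ ⟨x, hx.1, h1, g', hne'⟩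
    have h3 := Subgroup.eq_of_le_of_card_ge (le_sup_left : H ≤ H ⊔ Subgroup.zpowers g) h2
    exact hg (h3.symm.le (le_sup_right (a := H) (Subgroup.mem_zpowers g)))
  have hFd : ∀ (g : A) (x : R), F x → F (θ u g x - x) := by
    intro g x hx
    refine ⟨sub_mem (hinv g x hx.1) hx.1, fun h hh => ?_⟩
    change θ u h (θ u g x - x) = _
    rw [map_sub, hθc, show θ u h x = x from hx.2 hh]
  have hmove : ∀ g ∉ H, θ u g x₀ ≠ x₀ := fun g hg h => hg₀ (hmaximal g hg x₀ ⟨hx₀, hxH⟩ h g₀)
  have hshift : ∀ g ∉ H, ∃ y d : R, F y ∧ F d ∧ d ≠ 0 ∧ θ u g y = y + d ∧ ∀ g', θ u g' d = d := by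
    intro g hg
    obtain ⟨y, d, hy, hd, hd0, h1, h2⟩ :=
      exists_shift u hA F (hFd g) (⟨hx₀, hxH⟩ : F x₀) (hmove g hg)
    exact ⟨y, d, hy, hd, hd0, h1, hmaximal g hg d hd h2⟩
  have hpow : ∀ g ∉ H, g ^ p ∈ H := by
    intro g hg
    by_contra hgp
    obtain ⟨y, d, hy, -, hd0, h1, h2⟩ := hshift g hg
    have h3 : θ u (g ^ p) y = y := by
      rw [θ_pow_shift u h1 (h2 g), CharP.cast_eq_zero, zero_mul, add_zero]
    have h4 := hmaximal _ hgp y hy h3 g
    rw [h1] at h4
    exact hd0 (by simpa using h4)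
  have hg₀H : g₀ ∉ H := fun h => hg₀ (hxH h)
  -- two independent elements outside `H` are impossible
  have htop : H ⊔ Subgroup.zpowers g₀ = ⊤ := by
    by_contra hne'
    obtain ⟨h₁, -, hh₁⟩ := SetLike.exists_of_lt (lt_top_iff_ne_top.mpr hne')
    have hh₁H : h₁ ∉ H := fun h => hh₁ (Subgroup.mem_sup_left h)
    obtain ⟨y, d, hy, hd, hd0, hy1, hd1⟩ := hshift g₀ hg₀H
    have hdy : Commute d y := hEc d hd.1 y hy.1
    set q := d ^ (M - 2) with hq
    set e := d ^ (M - 1) with he
    have hp3 : 2 ≤ M := hp2.trans hM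
    have hqE : q ∈ E := pow_mem hd.1 _
    have heE : e ∈ E := pow_mem hd.1 _
    have hed : e * d = d := by
      rw [he, ← pow_succ, Nat.sub_add_cancel (by omega), hEM d hd.1]
    have hdq : d * q = e := by rw [hq, he, ← pow_succ']; congr 1; omega
    have hee : e * e = e := by
      have h := congrArg (· * q) hed
      simp only [mul_assoc, hdq] at h
      exact h
    have he0 : e ≠ 0 := fun h => hd0 (by rw [← hed, h, zero_mul])
    have heq' : q * e = q := by
      obtain ⟨r, hr⟩ : ∃ r, M - 2 = r + 1 := ⟨M - 3, by omega⟩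
      have hde : Commute d e := hEc d hd.1 e heE
      rw [hq, hr, pow_succ, mul_assoc, hde.eq, hed]
    set y' := y * q with hy'
    have hy'E : y' ∈ E := mul_mem hy.1 hqE
    have hqfix : ∀ g, θ u g q = q := fun g => by rw [hq, map_pow, hd1]
    have hefix : ∀ g, θ u g e = e := fun g => by rw [he, map_pow, hd1]
    have hy'F : F y' := ⟨hy'E, fun h hh => by
      change θ u h y' = y'
      rw [hy', map_mul, hqfix, show θ u h y = y from hy.2 hh]⟩
    have hy'1 : θ u g₀ y' = y' + e := by rw [hy', map_mul, hqfix, hy1, add_mul, hdq]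
    set c := θ u h₁ y' - y' with hc
    have hcF : F c := hFd h₁ y' hy'F
    have hcfix : ∀ g, θ u g c = c := by
      refine hmaximal g₀ hg₀H c hcF ?_
      rw [hc, map_sub, hθc, hy'1, map_add, hefix]
      abel
    have hy'e : y' * e = y' := by rw [hy', mul_assoc, heq']
    have hce : c * e = c := by
      rw [hc, sub_mul, hy'e]
      congr 1
      rw [← hefix h₁, ← map_mul, hy'e]
    have hep : e ^ p = e := IsIdempotentElem.pow_eq hee (by omega)
    -- the Artin–Schreier element
    have hzF : F (y' ^ p - y') := ⟨sub_mem (pow_mem hy'E _) hy'E, fun h hh => by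
      change θ u h (y' ^ p - y') = _
      rw [map_sub, map_pow, show θ u h y' = y' from hy'F.2 hh]⟩
    have hcp : c ^ p = c := by
      have hz := hmaximal g₀ hg₀H _ hzF (by
        rw [map_sub, map_pow, hy'1, add_pow_char_of_commute _ (hEc y' hy'E e heE), hep]
        abel) h₁
      rw [map_sub, map_pow, show θ u h₁ y' = y' + c by rw [hc]; abel,
        add_pow_char_of_commute _ (hEc y' hy'E c hcF.1)] at hz
      have h5 : c ^ p - c = 0 := by
        calc c ^ p - c = (y' ^ p + c ^ p - (y' + c)) - (y' ^ p - y') := by abel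
          _ = 0 := by rw [hz, sub_self]
      exact sub_eq_zero.mp h5
    obtain ⟨j, hj⟩ : ∃ j ∈ Finset.range p, e - e * (c + (j : R) * (-1)) ^ (p - 1) ≠ 0 := by
      by_contra hall
      push Not at hall
      have h1 : (∑ i ∈ Finset.range p, (e - e * (c + (i : R) * (-1)) ^ (p - 1))) = 0 :=
        Finset.sum_eq_zero hall
      rw [Finset.sum_sub_distrib, ← Finset.mul_sum, sum_shift_pow (Commute.neg_one_right c),
        Finset.sum_const, Finset.card_range, nsmul_eq_mul, CharP.cast_eq_zero, zero_mul,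
        zero_sub, mul_neg, neg_neg] at h1
      have hev : Even (p - 1) := hp.out.even_sub_one (by omega)
      rw [hev.neg_one_pow, mul_one] at h1
      exact he0 h1
    obtain ⟨hjp, hj0⟩ := hj
    set z := c + (j : R) * (-1) with hz
    have hzE : z ∈ E := add_mem hcF.1 (mul_mem (natCast_mem E j) (neg_mem E.one_mem))
    set f := e - e * z ^ (p - 1) with hf
    have hfE : f ∈ E := sub_mem heE (mul_mem heE (pow_mem hzE _))
    have hzfix : ∀ g, θ u g z = z := fun g => by
      rw [hz, map_add, map_mul, map_natCast, map_neg, map_one, hcfix]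
    have hffix : ∀ g, θ u g f = f := fun g => by
      rw [hf, map_sub, map_mul, hefix, map_pow, hzfix]
    have hzp : z ^ p = z := by
      rw [hz, mul_neg, mul_one, ← sub_eq_add_neg,
        sub_pow_char_of_commute _ (Nat.cast_commute j c).symm, hcp, natCast_pow_char]
    have hzf : z * f = 0 := by
      rw [hf, mul_sub, ← mul_assoc, hEc z hzE e heE, mul_assoc, ← pow_succ',
        Nat.sub_add_cancel hp.out.one_le, hzp, sub_self]
    have hcf : c * f = (j : R) * f := by
      have h6 : (c - (j : R)) * f = 0 := by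
        rw [← hzf, hz, mul_neg, mul_one, sub_eq_add_neg]
      rw [sub_mul] at h6
      exact sub_eq_zero.mp h6
    have hef : e * f = f := by rw [hf, mul_sub, ← mul_assoc, hee]
    have hy2F : F (y' * f) := ⟨mul_mem hy'E hfE, fun h hh => by
      change θ u h (y' * f) = _
      rw [map_mul, hffix, show θ u h y' = y' from hy'F.2 hh]⟩
    have h01 : θ u g₀ (y' * f) = y' * f + f := by rw [map_mul, hffix, hy'1, add_mul, hef]
    have hj1 : θ u (g₀ ^ j) (y' * f) = y' * f + (j : R) * f := θ_pow_shift u h01 (hffix g₀) j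
    set g := h₁ * (g₀ ^ j)⁻¹ with hg
    have hgH : g ∉ H := fun h => hh₁ (by
      have := mul_mem (Subgroup.mem_sup_left (T := Subgroup.zpowers g₀) h)
        (Subgroup.mem_sup_right (S := H) (pow_mem (Subgroup.mem_zpowers g₀) j))
      rwa [hg, inv_mul_cancel_right] at this)
    have hgfix : θ u g (y' * f) = y' * f := by
      have h7 : θ u g (θ u (g₀ ^ j) (y' * f)) = θ u h₁ (y' * f) := by
        rw [← θ_mul, hg, inv_mul_cancel_right]
      rw [hj1, map_add, map_mul _ (j : R), map_natCast, hffix, map_mul _ y' f, hffix,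
        map_mul _ y' f, hffix, show θ u h₁ y' = y' + c by rw [hc]; abel, add_mul, hcf] at h7
      rw [map_mul, hffix]
      exact add_right_cancel h7
    have := hmaximal g hgH _ hy2F hgfix g₀
    rw [h01] at this
    exact hj0 (by simpa using this)
  refine ⟨H, ?_, fun a ha => ⟨hpow a ha, ?_⟩⟩
  · have hHn : H.Normal := ⟨fun n hn g => by rwa [hAc g n, mul_inv_cancel_right]⟩
    have hgen : Subgroup.zpowers (QuotientGroup.mk' H g₀) = ⊤ := by
      rw [← MonoidHom.map_zpowers, ← Subgroup.map_top_of_surjective _ (QuotientGroup.mk'_surjective H),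
        ← htop, Subgroup.map_sup, show H.map (QuotientGroup.mk' H) = ⊥ by
          rw [Subgroup.map_eq_bot_iff, QuotientGroup.ker_mk'], bot_sup_eq]
    have hord : orderOf (QuotientGroup.mk' H g₀) = p := by
      refine orderOf_eq_prime ?_ fun h => hg₀H ((QuotientGroup.eq_one_iff g₀).mp h)
      rw [← map_pow]
      exact (QuotientGroup.eq_one_iff _).mpr (hpow g₀ hg₀H)
    rw [Subgroup.card_eq_card_quotient_mul_card_subgroup H]
    congr 1
    rw [← Subgroup.card_top (G := A ⧸ H), ← hgen, Nat.card_zpowers, hord]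
  · obtain ⟨y, d, hy, hd, hd0, h1, h2⟩ := hshift a ha
    refine ⟨y ^ (p - 1), pow_mem hy.1 _, -d ^ (p - 1), neg_mem (pow_mem hd.1 _), ?_, ?_, ?_, ?_⟩
    · intro h hh
      rw [map_pow, show θ u h y = y from hy.2 hh]
    · intro g
      rw [map_neg, map_pow, h2]
    · intro h
      rw [neg_eq_zero] at h
      refine hd0 ?_
      rw [← hEM d hd.1, show M = (p - 1) + (M - (p - 1)) by omega, pow_add, h, zero_mul]
    · simp only [map_pow, θ_pow_shift u h1 (h2 a)]
      exact sum_shift_pow (hEc y hy.1 d hd.1)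

end Cfsg.Agent.Invol.JFive
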