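import Cfsg.Agent.Lib.Invol.JFiveAlg
import Cfsg.Agent.Lib.Fus.ZJTheorem
import Cfsg.Agent.Lib.Grp.Basic

/-!
# A maximal abelian subgroup cannot induce a free block on a class two section, `p ≥ 5`
-/

set_option autoImplicit false

open scoped commutatorElement

namespace Cfsg.Agent.Invol.JFive

variable {Ω : Type*} [Group Ω] {p : ℕ} [hp : Fact p.Prime]

omit hp in
theorem commute_sup {H K : Subgroup Ω} (hH : ∀ a ∈ H, ∀ b ∈ H, a * b = b * a)
    (hK : ∀ a ∈ K, ∀ b ∈ K, a * b = b * a) (hHK : ∀ a ∈ H, ∀ b ∈ K, a * b = b * a) :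
    ∀ a ∈ H ⊔ K, ∀ b ∈ H ⊔ K, a * b = b * a := by
  have h1 : H ⊔ K ≤ Subgroup.centralizer (H : Set Ω) := sup_le
    (fun a ha => Subgroup.mem_centralizer_iff.mpr fun b hb => hH b hb a ha)
    (fun a ha => Subgroup.mem_centralizer_iff.mpr fun b hb => hHK b hb a ha)
  have h2 : H ⊔ K ≤ Subgroup.centralizer (K : Set Ω) := sup_le
    (fun a ha => Subgroup.mem_centralizer_iff.mpr fun b hb => (hHK a ha b hb).symm)
    (fun a ha => Subgroup.mem_centralizer_iff.mpr fun b hb => hK b hb a ha)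
  intro a ha b hb
  have h3 : H ⊔ K ≤ Subgroup.centralizer ({a} : Set Ω) := sup_le
    (fun c hc => Subgroup.mem_centralizer_singleton_iff.mpr (Subgroup.mem_centralizer_iff.mp (h1 ha) c hc))
    (fun c hc => Subgroup.mem_centralizer_singleton_iff.mpr (Subgroup.mem_centralizer_iff.mp (h2 ha) c hc))
  exact (Subgroup.mem_centralizer_singleton_iff.mp (h3 hb)).symm

theorem commute_zpowers (x : Ω) :
    ∀ a ∈ Subgroup.zpowers x, ∀ b ∈ Subgroup.zpowers x, a * b = b * a := by
  rintro _ ⟨i, rfl⟩ _ ⟨j, rfl⟩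
  exact zpow_mul_comm x i j

theorem card_mul_le_of_lt [Finite Ω] {S H K : Subgroup Ω} (hS : IsPGroup p S) (hKS : K ≤ S)
    (hHK : H < K) : p * Nat.card H ≤ Nat.card K := by
  obtain ⟨m, hm⟩ := IsPGroup.iff_card.mp (hS.to_le hKS)
  obtain ⟨n, hn⟩ := IsPGroup.iff_card.mp (hS.to_le (hHK.le.trans hKS))
  have h : Nat.card H < Nat.card K :=
    lt_of_not_ge fun h => hHK.ne (Subgroup.eq_of_le_of_card_ge hHK.le h)
  rw [hn, hm] at h ⊢
  rw [← pow_succ']
  exact Nat.pow_le_pow_right hp.out.pos ((Nat.pow_lt_pow_iff_right hp.out.one_lt).mp h)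

omit hp in
theorem commutator_mul_right' (a r s : Ω) : ⁅a, r * s⁆ = ⁅a, r⁆ * (r * ⁅a, s⁆ * r⁻¹) := by
  simp only [commutatorElement_def]; group

omit hp in
theorem commutator_mul_left' (a b n : Ω) : ⁅a * b, n⁆ = a * ⁅b, n⁆ * a⁻¹ * ⁅a, n⁆ := by
  simp only [commutatorElement_def]; group

omit hp in
/-- Commuting elements act symmetrically on an abelian subgroup. -/
theorem commutator_symm {N : Subgroup Ω} (hNc : ∀ m ∈ N, ∀ n ∈ N, m * n = n * m) {a b n : Ω}
    (hab : a * b = b * a) (hn : n ∈ N) (ha : a * n * a⁻¹ ∈ N) (hb : b * n * b⁻¹ ∈ N) :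
    ⁅a, ⁅b, n⁆⁆ = ⁅b, ⁅a, n⁆⁆ := by
  have e : ∀ a b : Ω, ⁅a, ⁅b, n⁆⁆ =
      a * b * n * (a * b)⁻¹ * ((a * n * a⁻¹)⁻¹ * (n * (b * n * b⁻¹)⁻¹)) := by
    intro a b
    simp only [commutatorElement_def]; group
  rw [e a b, e b a, ← hab]
  congr 1
  have h1 := hNc _ (inv_mem ha) _ hn
  rw [← mul_assoc, h1, mul_assoc, hNc _ (inv_mem ha) _ (inv_mem hb), ← mul_assoc,
    ← hNc _ (inv_mem hb) _ hn, mul_assoc]

theorem exists_iterate_eq_one [Finite Ω] {S : Subgroup Ω} (hS : IsPGroup p S) {a r : Ω}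
    (ha : a ∈ S) (hr : r ∈ S) : ∃ k, (fun r : Ω => ⁅a, r⁆)^[k] r = 1 := by
  have : Group.IsNilpotent S := hS.isNilpotent
  obtain ⟨k, hk⟩ := Subgroup.nilpotent_iff_lowerCentralSeries.mp this
  refine ⟨k, ?_⟩
  have h : ∀ n, ∃ s ∈ Subgroup.lowerCentralSeries (⊤ : Subgroup S) n,
      (s : Ω) = (fun r : Ω => ⁅a, r⁆)^[n] r := by
    intro n
    induction n with
    | zero => exact ⟨⟨r, hr⟩, Subgroup.mem_top _, rfl⟩
    | succ n ih =>
      obtain ⟨s, hs, he⟩ := ih
      refine ⟨⁅(⟨a, ha⟩ : S), s⁆, ?_, ?_⟩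
      · rw [Subgroup.lowerCentralSeries_succ, Subgroup.commutator_comm]
        exact Subgroup.commutator_mem_commutator (Subgroup.mem_top _) hs
      · rw [Function.iterate_succ_apply', ← he]
        rfl
  obtain ⟨s, hs, he⟩ := h k
  rw [hk, Subgroup.mem_bot] at hs
  rw [← he, hs, Subgroup.coe_one]

/-- Timmesfeld's replacement: a subgroup of `A` centralising `[N, A]` does as well as `A`. -/
theorem exists_best [Finite Ω] {S A N : Subgroup Ω} (hA : Fus.IsMaxAb S A) (hNS : N ≤ S)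
    (hNc : ∀ m ∈ N, ∀ n ∈ N, m * n = n * m) (hAN : ∀ a ∈ A, ∀ n ∈ N, a * n * a⁻¹ ∈ N) :
    (∀ B ≤ A, Nat.card B * Nat.card ↥(N ⊓ Subgroup.centralizer (B : Set Ω)) ≤
        Nat.card A * Nat.card ↥(N ⊓ A)) ∧
    ∃ B ≤ A, (∀ e ∈ B, ∀ g ∈ A, ∀ n ∈ N, ⁅e, ⁅g, n⁆⁆ = 1) ∧
      Nat.card A ≤ Nat.card ↥(B ⊔ (N ⊓ Subgroup.centralizer (B : Set Ω))) := by
  set f : Subgroup Ω → ℕ := fun B => Nat.card B * Nat.card ↥(N ⊓ Subgroup.centralizer (B : Set Ω))
  have hprod : ∀ B ≤ A, f B = Nat.card ↥(B ⊔ (N ⊓ Subgroup.centralizer (B : Set Ω))) *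
      Nat.card ↥(B ⊓ (N ⊓ Subgroup.centralizer (B : Set Ω))) := by
    intro B hB
    rw [Grp.card_sup_mul_card_inf]
    intro b hb
    refine Subgroup.centralizer_le_normalizer _ (Subgroup.mem_centralizer_iff.mpr fun m hm => ?_)
    exact (Subgroup.mem_centralizer_iff.mp hm.2 b hb).symm
  have hinf : ∀ B ≤ A, Nat.card ↥(B ⊓ (N ⊓ Subgroup.centralizer (B : Set Ω))) ≤ Nat.card ↥(N ⊓ A) :=
    fun B hB => Subgroup.card_le_of_le fun x hx => ⟨hx.2.1, hB hx.1⟩
  have hbd : ∀ B ≤ A, f B ≤ Nat.card A * Nat.card ↥(N ⊓ A) := by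
    intro B hB
    rw [hprod B hB]
    refine Nat.mul_le_mul (hA.2.2 _ (sup_le (hB.trans hA.1) (inf_le_left.trans hNS))
      (commute_sup (fun a ha b hb => hA.2.1 a (hB ha) b (hB hb))
        (fun a ha b hb => hNc a ha.1 b hb.1)
        fun a ha b hb => Subgroup.mem_centralizer_iff.mp hb.2 a ha)) (hinf B hB)
  refine ⟨hbd, ?_⟩
  set Bn : Ω → Subgroup Ω := fun n => A ⊓ Subgroup.centralizer {m | ∃ g ∈ A, ⁅g, n⁆ = m}
  have hcm : ∀ g ∈ A, ∀ n ∈ N, ⁅g, n⁆ ∈ N := fun g hg n hn =>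
    mul_mem (hAN g hg n hn) (inv_mem hn)
  have hAsup : ∀ B ≤ A, N ⊓ A ≤ N ⊓ Subgroup.centralizer (B : Set Ω) := fun B hB x hx =>
    ⟨hx.1, Subgroup.mem_centralizer_iff.mpr fun b hb => hA.2.1 b (hB hb) x hx.2⟩
  have hone : ∀ n ∈ N, Nat.card A * Nat.card ↥(N ⊓ A) ≤ f (Bn n) := by
    intro n hn
    set B := Bn n
    set C := N ⊓ Subgroup.centralizer (B : Set Ω)
    have hBA : B ≤ A := inf_le_left
    have hmemC : ∀ g ∈ A, ⁅g, n⁆ ∈ C := fun g hg => ⟨hcm g hg n hn,
      Subgroup.mem_centralizer_iff.mpr fun b hb =>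
        (Subgroup.mem_centralizer_iff.mp hb.2 _ ⟨g, hg, rfl⟩).symm⟩
    let φ : (↥A ⧸ B.subgroupOf A) → (↥C ⧸ (N ⊓ A).subgroupOf C) := fun Q =>
      QuotientGroup.mk (⟨⁅(Q.out : Ω), n⁆, hmemC _ Q.out.2⟩ : C)
    have hφ : Function.Injective φ := by
      intro P Q hPQ
      rw [← QuotientGroup.out_eq' P, ← QuotientGroup.out_eq' Q, QuotientGroup.eq]
      have h1 := (QuotientGroup.eq.mp hPQ)
      rw [Subgroup.mem_subgroupOf] at h1 ⊢
      simp only [Subgroup.coe_mul, Subgroup.coe_inv] at h1 ⊢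
      set b := (P.out : Ω)
      set c := (Q.out : Ω)
      have hb : b ∈ A := P.out.2
      have hc : c ∈ A := Q.out.2
      have hd : b⁻¹ * c ∈ A := mul_mem (inv_mem hb) hc
      have h2 : b * ⁅b⁻¹ * c, n⁆ * b⁻¹ = ⁅b, n⁆⁻¹ * ⁅c, n⁆ := by
        rw [hNc _ (inv_mem (hcm b hb n hn)) _ (hcm c hc n hn), eq_mul_inv_iff_mul_eq,
          ← commutator_mul_left', mul_inv_cancel_left]
      have h3 : ⁅b⁻¹ * c, n⁆ ∈ A := by
        have h5 := mul_mem (mul_mem (inv_mem hb) (h2 ▸ h1.2 : b * ⁅b⁻¹ * c, n⁆ * b⁻¹ ∈ A)) hb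
        rwa [show b⁻¹ * (b * ⁅b⁻¹ * c, n⁆ * b⁻¹) * b = ⁅b⁻¹ * c, n⁆ by group] at h5
      refine ⟨hd, Subgroup.mem_centralizer_iff.mpr ?_⟩
      rintro _ ⟨g, hg, rfl⟩
      have h4 := commutator_symm hNc (hA.2.1 _ hd g hg) hn (hAN _ hd n hn) (hAN g hg n hn)
      have h5 : ⁅g, ⁅b⁻¹ * c, n⁆⁆ = 1 :=
        commutatorElement_eq_one_iff_mul_comm.mpr (hA.2.1 g hg _ h3)
      exact (commutatorElement_eq_one_iff_mul_comm.mp (h4.trans h5)).symm
    have h6 := Nat.card_le_card_of_injective φ hφ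
    have e1 := Subgroup.card_eq_card_quotient_mul_card_subgroup (B.subgroupOf A)
    have e2 := Subgroup.card_eq_card_quotient_mul_card_subgroup ((N ⊓ A).subgroupOf C)
    rw [Nat.card_congr (Subgroup.subgroupOfEquivOfLe hBA).toEquiv] at e1
    rw [Nat.card_congr (Subgroup.subgroupOfEquivOfLe (hAsup B hBA)).toEquiv] at e2
    change _ ≤ Nat.card B * Nat.card C
    rw [e1, e2]
    calc _ ≤ Nat.card (↥C ⧸ (N ⊓ A).subgroupOf C) * Nat.card B * Nat.card ↥(N ⊓ A) :=
          Nat.mul_le_mul_right _ (Nat.mul_le_mul_right _ h6)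
      _ = _ := by ring
  obtain ⟨B, ⟨hBA, hBf⟩, hBmin⟩ := Set.exists_min_image
    {B : Subgroup Ω | B ≤ A ∧ Nat.card A * Nat.card ↥(N ⊓ A) ≤ f B}
    (fun B : Subgroup Ω => Nat.card B) (Set.toFinite _)
    ⟨Bn 1, inf_le_left, hone 1 N.one_mem⟩
  refine ⟨B, hBA, fun e he g hg n hn => ?_, ?_⟩
  · suffices hle : B ≤ Bn n from commutatorElement_eq_one_iff_mul_comm.mpr
      (Subgroup.mem_centralizer_iff.mp (hle he).2 _ ⟨g, hg, rfl⟩).symm
    set B' := Bn n
    have hB'A : B' ≤ A := inf_le_left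
    have h1 : f B * f B' ≤ f (B ⊓ B') * f (B ⊔ B') := by
      set C := N ⊓ Subgroup.centralizer (B : Set Ω)
      set C' := N ⊓ Subgroup.centralizer (B' : Set Ω)
      have ec : Nat.card C * Nat.card C' = Nat.card ↥(C ⊔ C') * Nat.card ↥(C ⊓ C') := by
        rw [Grp.card_sup_mul_card_inf]
        intro x hx
        refine Subgroup.centralizer_le_normalizer _ (Subgroup.mem_centralizer_iff.mpr fun m hm => ?_)
        exact hNc m hm.1 x hx.1
      have eb : Nat.card B * Nat.card B' = Nat.card ↥(B ⊔ B') * Nat.card ↥(B ⊓ B') := by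
        rw [Grp.card_sup_mul_card_inf]
        intro x hx
        refine Subgroup.centralizer_le_normalizer _ (Subgroup.mem_centralizer_iff.mpr fun m hm => ?_)
        exact hA.2.1 m (hB'A hm) x (hBA hx)
      have hs : Nat.card ↥(C ⊔ C') ≤ Nat.card ↥(N ⊓ Subgroup.centralizer ((B ⊓ B' : Subgroup Ω) : Set Ω)) :=
        Subgroup.card_le_of_le (sup_le (inf_le_inf_left _ (Subgroup.centralizer_le inf_le_left))
          (inf_le_inf_left _ (Subgroup.centralizer_le inf_le_right)))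
      have hi : Nat.card ↥(C ⊓ C') ≤ Nat.card ↥(N ⊓ Subgroup.centralizer ((B ⊔ B' : Subgroup Ω) : Set Ω)) :=
        Subgroup.card_le_of_le fun x hx => ⟨hx.1.1, Subgroup.le_centralizer_iff.mp
          (sup_le (Subgroup.le_centralizer_iff.mp (Subgroup.zpowers_le.mpr hx.1.2))
            (Subgroup.le_centralizer_iff.mp (Subgroup.zpowers_le.mpr hx.2.2)))
          (Subgroup.mem_zpowers x)⟩
      calc f B * f B' = (Nat.card B * Nat.card B') * (Nat.card C * Nat.card C') := by
            simp only [f]; ring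
        _ ≤ (Nat.card ↥(B ⊔ B') * Nat.card ↥(B ⊓ B')) *
            (Nat.card ↥(N ⊓ Subgroup.centralizer ((B ⊓ B' : Subgroup Ω) : Set Ω)) *
              Nat.card ↥(N ⊓ Subgroup.centralizer ((B ⊔ B' : Subgroup Ω) : Set Ω))) := by
            rw [eb, ec]; exact Nat.mul_le_mul_left _ (Nat.mul_le_mul hs hi)
        _ = _ := by simp only [f]; ring
    have hpos : 0 < Nat.card A * Nat.card ↥(N ⊓ A) := Nat.mul_pos Nat.card_pos Nat.card_pos
    have h2 : Nat.card A * Nat.card ↥(N ⊓ A) ≤ f (B ⊓ B') := by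
      have h3 := (Nat.mul_le_mul hBf (hone n hn)).trans
        (h1.trans (Nat.mul_le_mul_left _ (hbd _ (sup_le hBA hB'A))))
      exact Nat.le_of_mul_le_mul_right h3 hpos
    have h3 := hBmin _ ⟨inf_le_left.trans hBA, h2⟩
    exact (Subgroup.eq_of_le_of_card_ge inf_le_left h3).ge.trans inf_le_right
  · have h1 := hBf.trans (hprod B hBA).le
    exact Nat.le_of_mul_le_mul_right (h1.trans (Nat.mul_le_mul_left _ (hinf B hBA))) Nat.card_pos

/-- The obstruction. -/
theorem maxAb_obstruction [Finite Ω] (hp5 : 5 ≤ p) {S A A₀ R N : Subgroup Ω} (hS : IsPGroup p S)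
    (hA : Fus.IsMaxAb S A) (hA0 : A₀ ≤ A) (hcard : Nat.card A = p * Nat.card A₀)
    (hRS : R ≤ S) (hNR : N ≤ R) (hZ : ∀ n ∈ N, ∀ r ∈ R, r * n = n * r)
    (hAR : ∀ a ∈ A, ∀ r ∈ R, a * r * a⁻¹ ∈ R) (hAN : ∀ a ∈ A, ∀ n ∈ N, a * n * a⁻¹ ∈ N)
    (hcR : ∀ r ∈ R, ∀ s ∈ R, ⁅r, s⁆ ∈ N)
    (hv : ∀ a ∈ A, a ∉ A₀ → ∃ v ∈ R, (∀ e ∈ A₀, ⁅e, v⁆ ∈ N) ∧
      (fun r : Ω => ⁅a, r⁆)^[p - 1] v ∉ N ∧ (fun r : Ω => ⁅a, r⁆)^[p] v ∈ N) : False := by
  have hNS : N ≤ S := hNR.trans hRS
  have hNc : ∀ m ∈ N, ∀ n ∈ N, m * n = n * m := fun m hm n hn => (hZ n hn m (hNR hm))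
  obtain ⟨hbd, B, hBA, hBk, hBcard⟩ := exists_best hA hNS hNc hAN
  -- the centralizer of `A₀` in `N`
  have hC0 : Nat.card ↥(N ⊓ Subgroup.centralizer (A₀ : Set Ω)) ≤ p * Nat.card ↥(N ⊓ A) := by
    refine Nat.le_of_mul_le_mul_left ((hbd A₀ hA0).trans_eq ?_) (Nat.card_pos (α := A₀))
    rw [hcard]; ring
  -- the operator
  have hxR : ∀ a ∈ A, ∀ r ∈ R, ⁅a, r⁆ ∈ R := fun a ha r hr =>
    mul_mem (hAR a ha r hr) (inv_mem hr)
  have hxN : ∀ a ∈ A, ∀ n ∈ N, ⁅a, n⁆ ∈ N := fun a ha n hn => mul_mem (hAN a ha n hn) (inv_mem hn)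
  have hitR : ∀ a ∈ A, ∀ k, ∀ r ∈ R, (fun r : Ω => ⁅a, r⁆)^[k] r ∈ R := by
    intro a ha k
    induction k with
    | zero => exact fun r hr => hr
    | succ k ih =>
      intro r hr
      rw [Function.iterate_succ_apply']
      exact hxR a ha _ (ih r hr)
  have hitN : ∀ a ∈ A, ∀ k, ∀ r ∈ N, (fun r : Ω => ⁅a, r⁆)^[k] r ∈ N := by
    intro a ha k
    induction k with
    | zero => exact fun r hr => hr
    | succ k ih =>
      intro r hr
      rw [Function.iterate_succ_apply']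
      exact hxN a ha _ (ih r hr)
  have hmulN : ∀ a ∈ A, ∀ r ∈ R, ∀ n ∈ N, ⁅a, r * n⁆ = ⁅a, r⁆ * ⁅a, n⁆ := by
    intro a ha r hr n hn
    rw [commutator_mul_right', hZ _ (hxN a ha n hn) r hr, mul_inv_cancel_right]
  have hitmul : ∀ a ∈ A, ∀ k, ∀ r ∈ R, ∀ n ∈ N, (fun r : Ω => ⁅a, r⁆)^[k] (r * n) =
      (fun r : Ω => ⁅a, r⁆)^[k] r * (fun r : Ω => ⁅a, r⁆)^[k] n := by
    intro a ha k
    induction k with
    | zero => exact fun r _ n _ => rfl
    | succ k ih =>
      intro r hr n hn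
      simp only [Function.iterate_succ_apply', ih r hr n hn]
      exact hmulN a ha _ (hitR a ha k r hr) _ (hitN a ha k n hn)
  have hconj : ∀ a ∈ A, ∀ e ∈ A, ∀ k, ∀ r : Ω,
      e * (fun r : Ω => ⁅a, r⁆)^[k] r * e⁻¹ = (fun r : Ω => ⁅a, r⁆)^[k] (e * r * e⁻¹) := by
    intro a ha e he k
    induction k with
    | zero => exact fun r => rfl
    | succ k ih =>
      intro r
      simp only [Function.iterate_succ_apply', ← ih]
      rw [← MulAut.conj_apply, map_commutatorElement, MulAut.conj_apply, MulAut.conj_apply,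
        hA.2.1 e he a ha, mul_inv_cancel_right]
  have hevN : ∀ v ∈ R, ∀ e : Ω, ⁅e, v⁆ ∈ N → e * v * e⁻¹ = v * ⁅e, v⁆ := by
    intro v hv e he
    rw [hZ _ he v hv, commutatorElement_def, inv_mul_cancel_right]
  have hfix : ∀ a ∈ A, ∀ k, ∀ v ∈ R, ∀ e ∈ A, ⁅e, v⁆ ∈ N →
      (fun r : Ω => ⁅a, r⁆)^[k] ⁅e, v⁆ = 1 →
      e * (fun r : Ω => ⁅a, r⁆)^[k] v = (fun r : Ω => ⁅a, r⁆)^[k] v * e := by
    intro a ha k v hv e he hev h1
    rw [← mul_inv_eq_iff_eq_mul, hconj a ha e he, hevN v hv e hev, hitmul a ha k v hv _ hev, h1,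
      mul_one]
  by_cases hB : B ≤ A₀
  · -- all of `B` lies in `A₀`
    obtain ⟨a, ha, haA0⟩ : ∃ a ∈ A, a ∉ A₀ := SetLike.not_le_iff_exists.mp fun h => by
      have h1 := Subgroup.card_le_of_le h
      rw [hcard] at h1
      have := Nat.card_pos (α := A₀)
      nlinarith
    obtain ⟨v, hvR, hvA0, hvn, -⟩ := hv a ha haA0
    set x := fun r : Ω => ⁅a, r⁆ with hx
    have hsq : ∀ m ∈ N ⊓ Subgroup.centralizer (A₀ : Set Ω), x (x m) = 1 := by
      intro m hm
      suffices h : x m ∈ A from commutatorElement_eq_one_iff_mul_comm.mpr (hA.2.1 a ha _ h)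
      by_contra hxm
      set μ := x m
      have hμN : μ ∈ N := hxN a ha m hm.1
      have hμC : μ ∈ N ⊓ Subgroup.centralizer (A₀ : Set Ω) := by
        refine ⟨hμN, Subgroup.mem_centralizer_iff.mpr fun g hg => ?_⟩
        refine commutatorElement_eq_one_iff_mul_comm.mp ?_
        change ⁅g, ⁅a, m⁆⁆ = 1
        rw [commutator_symm hNc (hA.2.1 g (hA0 hg) a ha) hm.1 (hAN g (hA0 hg) m hm.1)
          (hAN a ha m hm.1), commutatorElement_eq_one_iff_mul_comm.mpr
          (Subgroup.mem_centralizer_iff.mp hm.2 g hg), commutatorElement_one_right]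
      set C := N ⊓ A
      have hCC0 : C ≤ N ⊓ Subgroup.centralizer (A₀ : Set Ω) := fun y hy =>
        ⟨hy.1, Subgroup.mem_centralizer_iff.mpr fun g hg => hA.2.1 g (hA0 hg) y hy.2⟩
      have hle : C ⊔ Subgroup.zpowers μ ≤ N ⊓ Subgroup.centralizer (A₀ : Set Ω) :=
        sup_le hCC0 (Subgroup.zpowers_le.mpr hμC)
      have hlt : C < C ⊔ Subgroup.zpowers μ := lt_of_le_of_ne le_sup_left fun e =>
        hxm (e.symm.le (Subgroup.mem_sup_right (S := C) (Subgroup.mem_zpowers μ))).2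
      have heq := Subgroup.eq_of_le_of_card_ge hle
        (hC0.trans (card_mul_le_of_lt hS (hle.trans (inf_le_left.trans hNS)) hlt))
      have hm' : m ∈ C ⊔ Subgroup.zpowers μ := heq.ge hm
      rw [← SetLike.mem_coe, Subgroup.coe_mul_of_left_le_normalizer_right] at hm'
      · obtain ⟨c, hc, z, hz, he⟩ := hm'
        rw [SetLike.mem_coe, ← mem_powers_iff_mem_zpowers] at hz
        obtain ⟨j, rfl⟩ := hz
        have hpow : ∀ i : ℕ, ∀ n ∈ N, x (n ^ i) = x n ^ i := by
          intro i n hn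
          induction i with
          | zero => simp [hx]
          | succ i ih =>
            rw [pow_succ, pow_succ, ← ih]
            exact hmulN a ha _ (pow_mem (hNR hn) i) n hn
        have h1 : μ = x μ ^ j := by
          rw [← hpow j μ hμN]
          change x m = _
          conv_lhs => rw [← he]
          change x (c * μ ^ j) = x (μ ^ j)
          rw [show x (c * μ ^ j) = x c * x (μ ^ j) from
            hmulN a ha c (hNR hc.1) _ (pow_mem hμN j),
            show x c = 1 from commutatorElement_eq_one_iff_mul_comm.mpr (hA.2.1 a ha c hc.2),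
            one_mul]
        have h2 : ∀ k : ℕ, μ = (x^[k] μ) ^ (j ^ k) := by
          intro k
          induction k with
          | zero => simp
          | succ k ih =>
            conv_lhs => rw [h1, ih, hpow _ _ (hitN a ha k μ hμN), ← pow_mul]
            rw [Function.iterate_succ_apply', ← pow_succ]
        obtain ⟨k, hk⟩ := exists_iterate_eq_one hS (hA.1 ha) (hNS hμN)
        refine hxm ?_
        rw [h2 k, hk, one_pow]
        exact one_mem A
      · intro c hc
        refine Subgroup.centralizer_le_normalizer _ (Subgroup.mem_centralizer_iff.mpr fun y hy => ?_)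
        exact hNc y ((Subgroup.zpowers_le.mpr hμN) hy) c hc.1
    have hcube : ∀ e ∈ B, x^[p - 2] ⁅e, v⁆ = 1 := by
      intro e he
      have hne := hvA0 e (hB he)
      have h : x ⁅e, v⁆ ∈ N ⊓ Subgroup.centralizer (A₀ : Set Ω) := by
        refine ⟨hxN a ha _ hne, Subgroup.mem_centralizer_iff.mpr fun g hg => ?_⟩
        refine commutatorElement_eq_one_iff_mul_comm.mp ?_
        have hg' := hA0 hg
        have hng := hvA0 g hg
        have hsym : ⁅g, ⁅e, v⁆⁆ = ⁅e, ⁅g, v⁆⁆ := by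
          have h1 := commutator_mul_left' e g v
          have h2 := commutator_mul_left' g e v
          rw [← hA.2.1 e (hBA he) g hg', h1] at h2
          have h3 : g * ⁅e, v⁆ * g⁻¹ = e * ⁅g, v⁆ * e⁻¹ * ⁅e, v⁆ * ⁅g, v⁆⁻¹ :=
            eq_mul_inv_of_mul_eq h2.symm
          rw [commutatorElement_def g ⁅e, v⁆, commutatorElement_def e ⁅g, v⁆, h3,
            mul_assoc _ ⁅e, v⁆, hNc _ hne _ (inv_mem hng), ← mul_assoc, mul_inv_cancel_right]
        change ⁅g, ⁅a, ⁅e, v⁆⁆⁆ = 1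
        rw [commutator_symm hNc (hA.2.1 g hg' a ha) hne (hAN g hg' _ hne) (hAN a ha _ hne), hsym,
          commutator_symm hNc (hA.2.1 a ha e (hBA he)) hng (hAN a ha _ hng) (hAN e (hBA he) _ hng)]
        exact hBk e he a ha _ hng
      have h2 := hsq _ h
      rw [show p - 2 = p - 5 + 3 by omega, Function.iterate_add_apply]
      change x^[p - 5] (x (x (x ⁅e, v⁆))) = 1
      rw [h2]
      exact Function.iterate_fixed (commutatorElement_one_right a) _
    set y := x^[p - 2] v with hy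
    have hyR : y ∈ R := hitR a ha _ v hvR
    have hyn : x y ∉ N := by
      rwa [hy, ← Function.iterate_succ_apply' x, show (p - 2).succ = p - 1 by omega]
    set CN := N ⊓ Subgroup.centralizer (B : Set Ω)
    set T := B ⊔ CN with hT
    have hTc : ∀ a ∈ T, ∀ b ∈ T, a * b = b * a := commute_sup
      (fun a ha b hb => hA.2.1 a (hBA ha) b (hBA hb)) (fun a ha b hb => hNc a ha.1 b hb.1)
      fun a ha b hb => Subgroup.mem_centralizer_iff.mp hb.2 a ha
    have hTy : ∀ t ∈ T, t * y = y * t := by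
      intro t ht
      have h : T ≤ Subgroup.centralizer ({y} : Set Ω) := sup_le
        (fun e he => Subgroup.mem_centralizer_singleton_iff.mpr
          (hfix a ha _ v hvR e (hBA he) (hvA0 e (hB he)) (hcube e he)))
        (fun n hn => Subgroup.mem_centralizer_singleton_iff.mpr (hZ n hn.1 y hyR).symm)
      exact Subgroup.mem_centralizer_singleton_iff.mp (h ht)
    have hTS : T ≤ S := sup_le (hBA.trans hA.1) (inf_le_left.trans hNS)
    have hlt : T < T ⊔ Subgroup.zpowers y := by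
      refine lt_of_le_of_ne le_sup_left fun e => ?_
      have hyT : y ∈ T := e.symm.le (Subgroup.mem_sup_right (S := T) (Subgroup.mem_zpowers y))
      rw [← SetLike.mem_coe, hT, Subgroup.coe_mul_of_left_le_normalizer_right] at hyT
      · obtain ⟨b, hb, n, hn, he⟩ := hyT
        have hbR : b ∈ R := by
          rw [show b = y * n⁻¹ by rw [← he]; simp]
          exact mul_mem hyR (inv_mem (hNR hn.1))
        refine hyn ?_
        rw [← he]
        change ⁅a, b * n⁆ ∈ N
        rw [hmulN a ha b hbR n hn.1, commutatorElement_eq_one_iff_mul_comm.mpr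
          (hA.2.1 a ha b (hBA hb)), one_mul]
        exact hxN a ha n hn.1
      · intro b hb
        refine Subgroup.centralizer_le_normalizer _ (Subgroup.mem_centralizer_iff.mpr fun m hm => ?_)
        exact (Subgroup.mem_centralizer_iff.mp hm.2 b hb).symm
    have h1 := hA.2.2 (T ⊔ Subgroup.zpowers y)
      (sup_le hTS (Subgroup.zpowers_le.mpr (hRS hyR)))
      (commute_sup hTc (commute_zpowers y) (by
        rintro t ht _ ⟨i, rfl⟩
        exact (Commute.zpow_right (hTy t ht) i).eq))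
    exact absurd (hBcard.trans_lt (lt_of_not_ge fun h => hlt.ne
      (Subgroup.eq_of_le_of_card_ge hlt.le h))) (not_lt.mpr h1)
  · -- an element of `B` outside `A₀`
    obtain ⟨a, haB, haA0⟩ := SetLike.not_le_iff_exists.mp hB
    have ha := hBA haB
    obtain ⟨v, hvR, hvA0, hvn, hvp⟩ := hv a ha haA0
    set x := fun r : Ω => ⁅a, r⁆ with hx
    have hx2 : ∀ n ∈ N, x (x n) = 1 := fun n hn => hBk a haB a ha n hn
    have hk : ∀ k, 2 ≤ k → ∀ n ∈ N, x^[k] n = 1 := by
      intro k hk n hn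
      rw [show k = k - 2 + 2 by omega, Function.iterate_add_apply]
      change x^[k - 2] (x (x n)) = 1
      rw [hx2 n hn]
      exact Function.iterate_fixed (commutatorElement_one_right a) _
    have hge : ∀ i, p ≤ i → x^[i] v ∈ N := by
      intro i hi
      rw [show i = i - p + p by omega, Function.iterate_add_apply]
      exact hitN a ha _ _ hvp
    -- bilinearity
    have hbil1 : ∀ r ∈ R, ∀ t ∈ R, ∀ s ∈ R, ⁅r * t, s⁆ = ⁅t, s⁆ * ⁅r, s⁆ := by
      intro r hr t ht s hs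
      rw [commutator_mul_left', hZ _ (hcR t ht s hs) r hr, mul_inv_cancel_right]
    have hbil2 : ∀ r ∈ R, ∀ t ∈ R, ∀ s ∈ R, ⁅r, t * s⁆ = ⁅r, t⁆ * ⁅r, s⁆ := by
      intro r hr t ht s hs
      rw [commutator_mul_right', hZ _ (hcR r hr s hs) t ht, mul_inv_cancel_right]
    let _ : CommGroup N :=
      { (inferInstance : Group N) with
        mul_comm := fun m n => Subtype.ext (hNc m m.2 n n.2) }
    let X : Additive N →+ Additive N := MonoidHom.toAdditive
      { toFun := fun n => ⟨x n, hxN a ha n n.2⟩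
        map_one' := Subtype.ext (commutatorElement_one_right a)
        map_mul' := fun m n => Subtype.ext (hmulN a ha m (hNR m.2) n n.2) }
    let T : ℕ → ℕ → Additive N := fun i j => Additive.ofMul
      ⟨⁅x^[i] v, x^[j] v⁆, hcR _ (hitR a ha i v hvR) _ (hitR a ha j v hvR)⟩
    have hT0 : T (p - 3) (p - 2) = 0 := by
      refine level_eq_zero X T (hp.out.odd_of_ne_two (by omega)) ?_ ?_ ?_ ?_ _ _ (by omega)
      · intro n
        exact Additive.toMul.injective (Subtype.ext (hx2 _ (Additive.toMul n).2))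
      · intro i
        exact Additive.toMul.injective (Subtype.ext (commutatorElement_self _))
      · intro i j hij
        refine Additive.toMul.injective (Subtype.ext (commutatorElement_eq_one_iff_mul_comm.mpr ?_))
        rcases hij with h | h
        · exact (hZ _ (hge i h) _ (hitR a ha j v hvR)).symm
        · exact hZ _ (hge j h) _ (hitR a ha i v hvR)
      · intro i j
        refine Additive.toMul.injective (Subtype.ext ?_)
        set r := x^[i] v with hr
        set s := x^[j] v with hs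
        have hrR : r ∈ R := hitR a ha i v hvR
        have hsR : s ∈ R := hitR a ha j v hvR
        have hr1 : x^[i + 1] v = x r := Function.iterate_succ_apply' x i v
        have hs1 : x^[j + 1] v = x s := Function.iterate_succ_apply' x j v
        change x ⁅r, s⁆ = ⁅x^[i + 1] v, s⁆ * ⁅r, x^[j + 1] v⁆ * ⁅x^[i + 1] v, x^[j + 1] v⁆
        rw [hr1, hs1]
        have h1 : a * ⁅r, s⁆ * a⁻¹ = ⁅x r * r, x s * s⁆ := by
          rw [← MulAut.conj_apply, map_commutatorElement, MulAut.conj_apply, MulAut.conj_apply]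
          congr 1 <;> simp [hx, commutatorElement_def]
        have hxr := hxR a ha r hrR
        have hxs := hxR a ha s hsR
        rw [hbil1 _ hxr _ hrR _ (mul_mem hxs hsR), hbil2 _ hrR _ hxs _ hsR,
          hbil2 _ hxr _ hxs _ hsR] at h1
        change ⁅a, ⁅r, s⁆⁆ = _
        rw [commutatorElement_def a, h1]
        have q1 := hcR _ hxr _ hsR
        have q2 := hcR _ hrR _ hxs
        have q3 := hcR _ hxr _ hxs
        have q4 := hcR _ hrR _ hsR
        calc ⁅r, x s⁆ * ⁅r, s⁆ * (⁅x r, x s⁆ * ⁅x r, s⁆) * ⁅r, s⁆⁻¹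
            = ⁅r, x s⁆ * (⁅x r, x s⁆ * ⁅x r, s⁆) := by
              rw [mul_assoc ⁅r, x s⁆, hNc _ q4 _ (mul_mem q3 q1), ← mul_assoc,
                mul_inv_cancel_right]
          _ = ⁅x r, s⁆ * ⁅r, x s⁆ * ⁅x r, x s⁆ := by
              rw [hNc _ q1 _ q2, mul_assoc ⁅r, x s⁆ ⁅x r, s⁆, hNc _ q1 _ q3]
    set y := x^[p - 3] v with hy
    set z := x^[p - 2] v with hz
    set w := x^[p - 1] v with hw
    have hyR : y ∈ R := hitR a ha _ v hvR
    have hzR : z ∈ R := hitR a ha _ v hvR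
    have hzy : x y = z := by
      rw [hy, hz, ← Function.iterate_succ_apply' x, show (p - 3).succ = p - 2 by omega]
    have hwz : x z = w := by
      rw [hw, hz, ← Function.iterate_succ_apply' x, show (p - 2).succ = p - 1 by omega]
    have hwp : x w ∈ N := by
      rwa [hw, ← Function.iterate_succ_apply' x, show (p - 1).succ = p by omega]
    have hyz : y * z = z * y := commutatorElement_eq_one_iff_mul_comm.mp
      (congrArg (fun n : Additive N => ((Additive.toMul n : N) : Ω)) hT0)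
    have hA0c : ∀ e ∈ A₀, e * y = y * e ∧ e * z = z * e := fun e he =>
      ⟨hfix a ha _ v hvR e (hA0 he) (hvA0 e he) (hk _ (by omega) _ (hvA0 e he)),
        hfix a ha _ v hvR e (hA0 he) (hvA0 e he) (hk _ (by omega) _ (hvA0 e he))⟩
    set T1 := A₀ ⊔ Subgroup.zpowers z with hT1
    have hT1c : ∀ a ∈ T1, ∀ b ∈ T1, a * b = b * a := commute_sup
      (fun a ha b hb => hA.2.1 a (hA0 ha) b (hA0 hb)) (commute_zpowers z) (by
        rintro t ht _ ⟨i, rfl⟩
        exact (Commute.zpow_right (hA0c t ht).2 i).eq)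
    have hT1y : ∀ t ∈ T1, t * y = y * t := by
      intro t ht
      have h : T1 ≤ Subgroup.centralizer ({y} : Set Ω) := sup_le
        (fun e he => Subgroup.mem_centralizer_singleton_iff.mpr (hA0c e he).1)
        (Subgroup.zpowers_le.mpr (Subgroup.mem_centralizer_singleton_iff.mpr hyz.symm))
      exact Subgroup.mem_centralizer_singleton_iff.mp (h ht)
    have hT1S : T1 ≤ S := sup_le (hA0.trans hA.1) (Subgroup.zpowers_le.mpr (hRS hzR))
    have hlt1 : A₀ < T1 := by
      refine lt_of_le_of_ne le_sup_left fun e => hvn ?_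
      have hzA : z ∈ A₀ := e.symm.le (Subgroup.mem_sup_right (S := A₀) (Subgroup.mem_zpowers z))
      rw [← hwz]
      change ⁅a, z⁆ ∈ N
      rw [commutatorElement_eq_one_iff_mul_comm.mpr (hA.2.1 a ha z (hA0 hzA))]
      exact one_mem N
    have hlt2 : T1 < T1 ⊔ Subgroup.zpowers y := by
      refine lt_of_le_of_ne le_sup_left fun e => hvn ?_
      have hyT : y ∈ T1 := e.symm.le (Subgroup.mem_sup_right (S := T1) (Subgroup.mem_zpowers y))
      rw [← SetLike.mem_coe, hT1, Subgroup.coe_mul_of_left_le_normalizer_right] at hyT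
      · obtain ⟨b, hb, t, ht, he⟩ := hyT
        rw [SetLike.mem_coe, ← mem_powers_iff_mem_zpowers] at ht
        obtain ⟨j, rfl⟩ := ht
        change b * z ^ j = y at he
        have hbR : b ∈ R := by
          rw [eq_mul_inv_of_mul_eq he]
          exact mul_mem hyR (inv_mem (pow_mem hzR j))
        -- modulo `N`, `x` is a homomorphism
        let Nn := N.subgroupOf R
        have hNn : Nn.Normal := ⟨fun n hn r => by
          rw [Subgroup.mem_subgroupOf] at hn ⊢
          simp only [Subgroup.coe_mul, Subgroup.coe_inv]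
          rwa [hZ _ hn r r.2, mul_inv_cancel_right]⟩
        let D : R →* (↥R ⧸ Nn) :=
          { toFun := fun r => QuotientGroup.mk ⟨x r, hxR a ha r r.2⟩
            map_one' := by
              rw [QuotientGroup.eq_one_iff, Subgroup.mem_subgroupOf]
              simp [hx]
            map_mul' := fun r s => by
              rw [← QuotientGroup.mk_mul, QuotientGroup.eq, Subgroup.mem_subgroupOf]
              simp only [Subgroup.coe_mul, Subgroup.coe_inv]
              have hc := hcR _ r.2 _ (hxR a ha s s.2)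
              change (⁅a, (r : Ω) * s⁆)⁻¹ * (⁅a, (r : Ω)⁆ * ⁅a, (s : Ω)⁆) ∈ N
              rw [commutator_mul_right',
                show (r : Ω) * ⁅a, (s : Ω)⁆ * (r : Ω)⁻¹ = ⁅(r : Ω), x s⁆ * x s by
                  simp [hx, commutatorElement_def, mul_assoc],
                show ⁅(r : Ω), x s⁆ * x s = x s * ⁅(r : Ω), x s⁆ from
                  (hZ _ hc (x s) (hxR a ha s s.2)).symm]
              change (⁅a, (r : Ω)⁆ * (x s * ⁅(r : Ω), x s⁆))⁻¹ * (⁅a, (r : Ω)⁆ * x s) ∈ N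
              have h6 : ∀ A B C : Ω, (A * (B * C))⁻¹ * (A * B) = C⁻¹ := fun A B C => by group
              rw [h6]
              exact inv_mem hc }
        have hD : ∀ r : R, D r = QuotientGroup.mk ⟨x r, hxR a ha r r.2⟩ := fun r => rfl
        have hDN : ∀ r : R, (r : Ω) ∈ N → D r = 1 := fun r hr => by
          rw [hD, QuotientGroup.eq_one_iff, Subgroup.mem_subgroupOf]
          exact hxN a ha r hr
        have e1 : D ⟨y, hyR⟩ = D ⟨z, hzR⟩ ^ j := by
          have hb1 : D ⟨b, hbR⟩ = 1 := by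
            rw [hD, QuotientGroup.eq_one_iff, Subgroup.mem_subgroupOf]
            change ⁅a, b⁆ ∈ N
            rw [commutatorElement_eq_one_iff_mul_comm.mpr (hA.2.1 a ha b (hA0 hb))]
            exact one_mem N
          rw [show (⟨y, hyR⟩ : R) = ⟨b, hbR⟩ * (⟨z, hzR⟩ : R) ^ j from Subtype.ext he.symm,
            map_mul, map_pow, hb1, one_mul]
        -- `z ≡ w ^ j`, hence `w ≡ (x w) ^ j ≡ 1`
        have hwR : w ∈ R := hitR a ha _ v hvR
        rw [hD, hD] at e1
        simp only [hzy, hwz] at e1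
        have e2 : (⟨z, hzR⟩ : R)⁻¹ * (⟨w, hwR⟩ : R) ^ j ∈ Nn := by
          rw [← QuotientGroup.eq, QuotientGroup.mk_pow]
          exact e1
        have e3 := hDN _ (Subgroup.mem_subgroupOf.mp e2)
        rw [map_mul, map_inv, map_pow, inv_mul_eq_one] at e3
        rw [hD, hD] at e3
        have hxw : (QuotientGroup.mk (⟨x w, hxR a ha w hwR⟩ : R) : ↥R ⧸ Nn) = 1 := by
          rw [QuotientGroup.eq_one_iff, Subgroup.mem_subgroupOf]
          exact hwp
        rw [hxw, one_pow, QuotientGroup.eq_one_iff, Subgroup.mem_subgroupOf] at e3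
        rw [← hwz]
        exact e3
      · intro b hb
        refine Subgroup.centralizer_le_normalizer _ (Subgroup.mem_centralizer_iff.mpr ?_)
        rintro _ ⟨i, rfl⟩
        exact (Commute.zpow_right (hA0c b hb).2 i).eq.symm
    have h1 := hA.2.2 (T1 ⊔ Subgroup.zpowers y)
      (sup_le hT1S (Subgroup.zpowers_le.mpr (hRS hyR)))
      (commute_sup hT1c (commute_zpowers y) (by
        rintro t ht _ ⟨i, rfl⟩
        exact (Commute.zpow_right (hT1y t ht) i).eq))
    have h2 := card_mul_le_of_lt hS hT1S hlt1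
    have h3 := card_mul_le_of_lt hS (sup_le hT1S (Subgroup.zpowers_le.mpr (hRS hyR))) hlt2
    have hpos := Nat.card_pos (α := A₀)
    rw [hcard] at h1
    nlinarith

end Cfsg.Agent.Invol.JFive
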