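import Cfsg.Agent.Lib.Invol.JSevenClassTwo
import Cfsg.Agent.Lib.Invol.KInfTransfer
import Cfsg.Agent.Lib.Invol.ThompsonJ
import Cfsg.Agent.Lib.Invol.PResidual
import Cfsg.Agent.Lib.Transfer.Tate

/-!
# The normalizer of `J(S)` controls transfer for `p ≥ 7`
-/

set_option autoImplicit false
set_option linter.style.haveILetI false

open scoped commutatorElement

namespace Cfsg.Agent.Invol.JSeven

universe u

variable {p : ℕ} [hp : Fact p.Prime]

omit hp in
theorem cg_eq {H : Type*} [Group H] (a : H) : cg a = fun r : H => ⁅a, r⁆ := rfl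

/-- If `J(S)` is not normal and `p ≥ 7`, some element outside `O_p` acts with degree `p - 1`. -/
theorem exists_nilp_of_J (hp7 : 7 ≤ p) {X : Type u} [Group X] [Finite X] (S : Sylow p X)
    (hJ : ¬ (Cfsg.thompsonSubgroupAOf (S : Subgroup X)).Normal) :
    ∃ g ∈ (S : Subgroup X), g ∉ Cfsg.pCore p X ∧ g ∈ nilpSet p (Cfsg.pCore p X) := by
  set P := Cfsg.pCore p X
  haveI hPn : P.Normal := Grp.pCore_isNormal
  have hPS : P ≤ (S : Subgroup X) := Grp.pCore_le_sylow S
  have hPp : IsPGroup p P := Grp.pCore_isPGroup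
  obtain ⟨A₀, hA₀, hA₀P⟩ : ∃ A, Fus.IsMaxAb (S : Subgroup X) A ∧ ¬ A ≤ P := by
    by_contra hall
    push Not at hall
    refine hJ ⟨fun y hy g => ?_⟩
    have key : (Cfsg.thompsonSubgroupAOf (S : Subgroup X)).map (MulAut.conj g).toMonoidHom ≤
        Cfsg.thompsonSubgroupAOf (S : Subgroup X) := by
      rw [Subgroup.map_le_iff_le_comap]
      refine Fus.thompsonA_le_of fun A hA => Subgroup.map_le_iff_le_comap.mp (Fus.IsMaxAb.le_thompsonA ?_)
      refine ⟨?_, ?_, fun B hB hc => ?_⟩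
      · rintro _ ⟨a, ha, rfl⟩
        exact hPS (hPn.conj_mem a (hall A hA ha) g)
      · rintro _ ⟨a, ha, rfl⟩ _ ⟨b, hb, rfl⟩
        rw [← map_mul, hA.2.1 a ha b hb, map_mul]
      · rw [Subgroup.card_map_of_injective (MulAut.conj g).injective]
        exact hA.2.2 B hB hc
    exact key ⟨y, hy, rfl⟩
  obtain ⟨A, ⟨hA, hAP⟩, hmax⟩ := Set.exists_max_image
    {A : Subgroup X | Fus.IsMaxAb (S : Subgroup X) A ∧ ¬ A ≤ P}
    (fun A : Subgroup X => Nat.card ↥(A ⊓ P)) (Set.toFinite _) ⟨A₀, hA₀, hA₀P⟩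
  have hE : Extreme (S : Subgroup X) P A := ⟨hA, hPS, fun A' h1 h2 => hmax A' ⟨h1, h2⟩⟩
  obtain ⟨Q, hQn, hQP, hPQ, hQQ, hC⟩ := exists_critical_normal hPp
  haveI := hQn
  set Z := KInf.zen Q
  haveI hZn : Z.Normal := KInf.zen_normal Q
  have hZQ : Z ≤ Q := KInf.zen_le Q
  have hZc : ∀ m ∈ Z, ∀ n ∈ Z, m * n = n * m := fun m hm n hn =>
    Subgroup.mem_centralizer_iff.mp hn.2 m (hZQ hm)
  obtain ⟨a, ha, haP, hdeg⟩ := hE.class_two S.isPGroup' (by omega) hAP hQP hZQ
    (fun n hn r hr => Subgroup.mem_centralizer_iff.mp hn.2 r hr)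
    (fun a _ r hr => hQn.conj_mem r hr a) (fun a _ n hn => hZn.conj_mem n hn a)
    (fun r hr s hs => hQQ (Subgroup.commutator_mem_commutator hr hs))
    fun k hk r hr => hPQ (Subgroup.commutator_mem_commutator hk.2 hr)
  -- degrees `i` on `Q` and `j` on `Z`
  obtain ⟨i, j, hj1, hji, hij, hi, hj⟩ : ∃ i j : ℕ, 1 ≤ j ∧ j ≤ i ∧ i + j - 1 = 6 ∧
      (∀ v ∈ Q, (cg a)^[i] v ∈ Z) ∧
      ∀ U V : Subgroup X, Cfsg.IsChiefFactor U V → ∀ n ∈ U ⊓ Z, (cg a)^[j] n ∈ V := by
    rcases hdeg with h4 | ⟨h5, h2⟩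
    · refine ⟨4, 3, by norm_num, by norm_num, by norm_num, h4, fun U V hUV n hn => ?_⟩
      haveI := hUV.2.1
      haveI := hUV.2.2.1
      have hUPp : IsPGroup p ↥(U ⊓ Z : Subgroup X) := hPp.to_le (inf_le_right.trans (hZQ.trans hQP))
      by_cases hcase : U ⊓ Z ≤ V
      · change cg a (cg a (cg a n)) ∈ V
        have h : ∀ z ∈ V, cg a z ∈ V := fun z hz =>
          mul_mem (hUV.2.2.1.conj_mem z hz a) (inv_mem hz)
        exact h _ (h _ (h _ (hcase hn)))
      · have hch := chief_inf hUV hcase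
        have hUP := commutator_chief_le (p := p) hch hPn hPp hUPp
        exact (hE.cube_mem (N := Z) (V := V ⊓ Z) S.isPGroup' (hZQ.trans hQP) hZc
          (fun g _ z hz => hZn.conj_mem z hz g) inf_le_right
          (fun g _ z hz => ⟨hUV.2.2.1.conj_mem z hz.1 g, hZn.conj_mem z hz.2 g⟩) hn.2
          (fun k hk => by
            rw [← commutatorElement_inv]
            exact inv_mem (hUP (Subgroup.commutator_mem_commutator hn hk.2))) ha).1
    · refine ⟨5, 2, by norm_num, by norm_num, by norm_num, h5, fun U V hUV n hn => ?_⟩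
      change cg a (cg a n) ∈ V
      rw [show cg a (cg a n) = 1 from h2 n hn.2]
      exact one_mem V
  have hab : ∀ U V : Subgroup X, Cfsg.IsChiefFactor U V → U ≤ P →
      ∀ b ∈ U, ∀ c ∈ U, b * c * b⁻¹ * c⁻¹ ∈ V := fun U V hUV hUP b hb c hc =>
    commutator_chief_le (p := p) hUV hUV.2.1 (hPp.to_le hUP) (hPp.to_le hUP)
      (Subgroup.commutator_mem_commutator hb hc)
  have hstep : ∀ U : Subgroup X, U.Normal → ∀ n, ∀ z ∈ U, (cg a)^[n] z ∈ U := by
    intro U hU n
    induction n with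
    | zero => exact fun z hz => hz
    | succ n ih =>
      intro z hz
      rw [Function.iterate_succ_apply']
      exact U.mul_mem (hU.conj_mem _ (ih z hz) a) (U.inv_mem (ih z hz))
  refine ⟨a, hA.1 ha, haP, fun U V hUV hUP => ?_⟩
  haveI := hUV.2.1
  haveI := hUV.2.2.1
  have h6 : Cfsg.iterCommutator U (Subgroup.zpowers a) (i + j - 1) ≤ V := by
    refine degree_of_selfCentralizing (P := P) (Q := Q) (Z := Z) hPp hQP hZQ hPQ hC hj1 ?_ ?_
      U V hUV hUP
    · intro U V hUV hUQ
      haveI := hUV.2.1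
      haveI := hUV.2.2.1
      by_cases hcase : U ⊓ Z ≤ V
      · exact iterCommutator_le_of_forall (hab U V hUV (hUQ.trans hQP)) fun u hu =>
          hcase ⟨hstep U hUV.2.1 i u hu, hi u (hUQ hu)⟩
      · refine iterCommutator_le_of_inf hUV hcase (iterCommutator_le_of_forall (U := U ⊓ Z) (V := V)
          (fun b hb c hc => hab U V hUV (hUQ.trans hQP) b hb.1 c hc.1) fun n hn => ?_)
        rw [show i = i - j + j by omega, Function.iterate_add_apply]
        exact hstep V hUV.2.2.1 _ _ (hj U V hUV n hn)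
    · intro U V hUV hUZ
      haveI := hUV.2.1
      haveI := hUV.2.2.1
      exact iterCommutator_le_of_forall (hab U V hUV (hUZ.trans (hZQ.trans hQP))) fun n hn =>
        hj U V hUV n ⟨hn, hUZ hn⟩
  rw [hij] at h6
  rw [show p - 1 = 6 + (p - 7) by omega]
  exact iterCommutator_le_add h6 _

/-- `N(J(S))` controls transfer for `p ≥ 7`. -/
theorem transferCtrl_thompsonA (hp7 : 7 ≤ p) {G : Type u} [Group G] [Finite G] :
    TransferCtrl p {fun Q [Group Q] => Cfsg.thompsonSubgroupA Q} G :=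
  transferCtrl_of_nilpotent (isCharPFunctor_thompsonSubgroupA p)
    (fun _ _ _ _ _ S hn => exists_nilp_of_J hp7 S hn) G (IsSectionOf.refl G)

omit hp in
/-- An element of order prime to `p` times a commutator: `O^p(G) ∩ S ≤ G'`. -/
theorem pResidual_inf_le_commutator [Fact p.Prime] {G : Type u} [Group G] [Finite G] (S : Sylow p G) :
    Cfsg.pResidual p G ⊓ (S : Subgroup G) ≤ commutator G := by
  rintro x ⟨hxR, hxS⟩
  have h : ∀ y ∈ Cfsg.pResidual p G, (orderOf (Abelianization.of y)).Coprime p := by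
    intro y hy
    induction hy using Subgroup.closure_induction with
    | mem y hy => exact Nat.Coprime.coprime_dvd_left (orderOf_map_dvd Abelianization.of y) hy
    | one => simp
    | mul a b _ _ ha hb =>
      rw [map_mul]
      exact Nat.Coprime.coprime_dvd_left (Commute.orderOf_mul_dvd_mul_orderOf (Commute.all _ _))
        (Nat.Coprime.mul_left ha hb)
    | inv a _ ha => rw [map_inv, orderOf_inv]; exact ha
  obtain ⟨k, hk⟩ := S.isPGroup' ⟨x, hxS⟩
  have h1 : orderOf (Abelianization.of x) ∣ p ^ k :=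
    (orderOf_map_dvd Abelianization.of x).trans (orderOf_dvd_of_pow_eq_one (congrArg Subtype.val hk))
  have h2 := Nat.eq_one_of_dvd_coprimes ((h x hxR).pow_right k) dvd_rfl h1
  rw [← Abelianization.ker_of, MonoidHom.mem_ker]
  exact orderOf_eq_one_iff.mp h2

/-- A subgroup containing `S` with `S ∩ O^p(G) ≤ O^p(M)` has the same largest `p`-factor group. -/
theorem nonempty_pFactor_equiv {G : Type u} [Group G] [Finite G] (S : Sylow p G) {M : Subgroup G}
    (hSM : (S : Subgroup G) ≤ M)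
    [(Cfsg.pResidual p G).Normal] [(Cfsg.pResidual p M).Normal]
    (h : Cfsg.pResidual p G ⊓ (S : Subgroup G) ≤ (Cfsg.pResidual p M).map M.subtype) :
    Nonempty (G ⧸ Cfsg.pResidual p G ≃* M ⧸ Cfsg.pResidual p M) := by
  set π : M →* G ⧸ Cfsg.pResidual p G := (QuotientGroup.mk' _).comp M.subtype
  have hπ : Function.Surjective π := by
    intro y
    induction y using QuotientGroup.induction_on with | _ g
    have hg : g ∈ (S : Subgroup G) ⊔ Cfsg.pResidual p G := by
      rw [sup_comm, Invol.pResidual_sup_sylow]; trivial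
    obtain ⟨s, hs, r, hr, rfl⟩ := Subgroup.mem_sup_of_normal_right.mp hg
    refine ⟨⟨s, hSM hs⟩, ?_⟩
    change QuotientGroup.mk s = QuotientGroup.mk (s * r)
    rw [QuotientGroup.eq, inv_mul_cancel_left]
    exact hr
  have hmap : ∀ o ∈ Cfsg.pResidual p M, (o : G) ∈ Cfsg.pResidual p G := fun o ho =>
    Transfer.pResidual_map_le M.subtype ⟨o, ho, rfl⟩
  have hker : π.ker = Cfsg.pResidual p M := by
    refine le_antisymm (fun x hx => ?_) fun o ho => (QuotientGroup.eq_one_iff _).mpr (hmap o ho)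
    have hx' : (x : G) ∈ Cfsg.pResidual p G := (QuotientGroup.eq_one_iff _).mp hx
    have hx2 : x ∈ ((S.subtype hSM : Sylow p M) : Subgroup M) ⊔ Cfsg.pResidual p M := by
      rw [sup_comm, Invol.pResidual_sup_sylow]; trivial
    obtain ⟨s, hs, o, ho, rfl⟩ := Subgroup.mem_sup_of_normal_right.mp hx2
    have hsG : (s : G) ∈ Cfsg.pResidual p G ⊓ (S : Subgroup G) := by
      refine ⟨?_, hs⟩
      have := mul_mem hx' (inv_mem (hmap o ho))
      rwa [Subgroup.coe_mul, mul_inv_cancel_right] at this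
    obtain ⟨t, ht, hts⟩ := h hsG
    obtain rfl : t = s := Subtype.ext hts
    exact mul_mem ht ho
  exact ⟨((QuotientGroup.quotientMulEquivOfEq hker.symm).trans
    (QuotientGroup.quotientKerEquivOfSurjective π hπ)).symm⟩

/-- For `p ≥ 7` the largest `p`-factor group of `G` is that of `N_G(J(S))`. -/
theorem nonempty_pFactor_equiv_normalizer_J (hp7 : 7 ≤ p) {G : Type u} [Group G] [Finite G]
    (S : Sylow p G) [(Cfsg.pResidual p G).Normal]
    [(Cfsg.pResidual p ↥(Subgroup.normalizer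
      (Cfsg.thompsonSubgroupAOf (S : Subgroup G) : Set G))).Normal] :
    Nonempty (G ⧸ Cfsg.pResidual p G ≃*
      ↥(Subgroup.normalizer (Cfsg.thompsonSubgroupAOf (S : Subgroup G) : Set G)) ⧸
        Cfsg.pResidual p ↥(Subgroup.normalizer (Cfsg.thompsonSubgroupAOf (S : Subgroup G) : Set G))) := by
  set W : ∀ (Q : Type u) [Group Q], Subgroup Q := fun Q [Group Q] => Cfsg.thompsonSubgroupA Q
  have hSM : (S : Subgroup G) ≤
      Subgroup.normalizer (Cfsg.thompsonSubgroupAOf (S : Subgroup G) : Set G) :=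
    Subgroup.le_normalizer.trans (normalizer_le_normalizer_inducedFunctor
      (W := W) (isCharPFunctor_thompsonSubgroupA p) S.isPGroup')
  refine nonempty_pFactor_equiv S hSM (Transfer.tate_of_le_commutator S _ hSM fun x hx => ?_)
  have h1 := inf_commutator_eq_of_transferCtrl (transferCtrl_thompsonA (G := G) hp7) S
  have h2 : x ∈ (S : Subgroup G) ⊓ commutator G := ⟨hx.2, pResidual_inf_le_commutator S hx⟩
  rw [h1] at h2
  rw [commutator_def, Subgroup.map_commutator, ← MonoidHom.range_eq_map, Subgroup.range_subtype]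
  exact h2.2

end Cfsg.Agent.Invol.JSeven
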