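import Cfsg.Agent.Lib.Invol.JFiveCore

/-!
# Exact replacement for abelian subgroups of largest order

For a maximal abelian subgroup `A` acting on an abelian `N` and `s ⊆ N`, the subgroup
`B = C_A([s, A])` has `C_N(B) = [s, A](N ∩ A)` and `B C_N(B)` is again of largest order.
-/

set_option autoImplicit false

open scoped commutatorElement

namespace Cfsg.Agent.Invol.JSeven

open JFive

variable {Ω : Type*} [Group Ω]

/-- The commutators `[g, n]`, `g ∈ A`, `n ∈ s`. -/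
def comms (A : Subgroup Ω) (s : Set Ω) : Set Ω := {m | ∃ g ∈ A, ∃ n ∈ s, ⁅g, n⁆ = m}

/-- `C_A([s, A])`. -/
def bsub (A : Subgroup Ω) (s : Set Ω) : Subgroup Ω := A ⊓ Subgroup.centralizer (comms A s)

/-- `[s, A] (N ∩ A)`. -/
def qsub (A N : Subgroup Ω) (s : Set Ω) : Subgroup Ω := Subgroup.closure (comms A s) ⊔ (N ⊓ A)

variable {S A N : Subgroup Ω}

theorem comm_mem (hAN : ∀ a ∈ A, ∀ n ∈ N, a * n * a⁻¹ ∈ N) {g n : Ω} (hg : g ∈ A) (hn : n ∈ N) :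
    ⁅g, n⁆ ∈ N :=
  mul_mem (hAN g hg n hn) (inv_mem hn)

theorem comm_mul (hNc : ∀ m ∈ N, ∀ n ∈ N, m * n = n * m) (hAN : ∀ a ∈ A, ∀ n ∈ N, a * n * a⁻¹ ∈ N)
    {g : Ω} (hg : g ∈ A) {r s : Ω} (hr : r ∈ N) (hs : s ∈ N) :
    ⁅g, r * s⁆ = ⁅g, r⁆ * ⁅g, s⁆ := by
  rw [commutator_mul_right', hNc r hr _ (comm_mem hAN hg hs), mul_inv_cancel_right]

theorem comm_inv (hNc : ∀ m ∈ N, ∀ n ∈ N, m * n = n * m) (hAN : ∀ a ∈ A, ∀ n ∈ N, a * n * a⁻¹ ∈ N)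
    {g : Ω} (hg : g ∈ A) {r : Ω} (hr : r ∈ N) : ⁅g, r⁻¹⁆ = ⁅g, r⁆⁻¹ := by
  refine eq_inv_of_mul_eq_one_left ?_
  rw [← comm_mul hNc hAN hg (inv_mem hr) hr, inv_mul_cancel, commutatorElement_one_right]

theorem closure_comms_le (hAN : ∀ a ∈ A, ∀ n ∈ N, a * n * a⁻¹ ∈ N) {s : Set Ω} (hs : s ⊆ N) :
    Subgroup.closure (comms A s) ≤ N := by
  refine (Subgroup.closure_le _).mpr ?_
  rintro _ ⟨g, hg, n, hn, rfl⟩
  exact comm_mem hAN hg (hs hn)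

theorem qsub_le (hAN : ∀ a ∈ A, ∀ n ∈ N, a * n * a⁻¹ ∈ N) {s : Set Ω} (hs : s ⊆ N) :
    qsub A N s ≤ N :=
  sup_le (closure_comms_le hAN hs) inf_le_left

theorem bsub_le (A : Subgroup Ω) (s : Set Ω) : bsub A s ≤ A := inf_le_left

theorem bsub_eq (A : Subgroup Ω) (s : Set Ω) :
    bsub A s = A ⊓ Subgroup.centralizer (Subgroup.closure (comms A s) : Set Ω) := by
  rw [Subgroup.centralizer_closure]; rfl

theorem qsub_le_centralizer (hAc : ∀ a ∈ A, ∀ b ∈ A, a * b = b * a) (s : Set Ω) :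
    qsub A N s ≤ Subgroup.centralizer (bsub A s : Set Ω) := by
  refine sup_le ((Subgroup.closure_le _).mpr fun m hm => Subgroup.mem_centralizer_iff.mpr ?_)
    fun m hm => Subgroup.mem_centralizer_iff.mpr fun b hb => hAc b hb.1 m hm.2
  exact fun b hb => ((Subgroup.mem_centralizer_iff.mp hb.2) m hm).symm

/-- The closure of the commutators is invariant. -/
theorem conj_mem_closure_comms (hAN : ∀ a ∈ A, ∀ n ∈ N, a * n * a⁻¹ ∈ N)
    (hNc : ∀ m ∈ N, ∀ n ∈ N, m * n = n * m) {s : Set Ω} (hs : s ⊆ N) :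
    ∀ a ∈ A, ∀ m ∈ Subgroup.closure (comms A s), a * m * a⁻¹ ∈ Subgroup.closure (comms A s) := by
  intro a ha m hm
  induction hm using Subgroup.closure_induction with
  | mem m hm =>
    obtain ⟨g, hg, n, hn, rfl⟩ := hm
    have h : a * ⁅g, n⁆ * a⁻¹ = ⁅a * g, n⁆ * ⁅a, n⁆⁻¹ := by
      rw [commutator_mul_left', mul_inv_cancel_right]
    rw [h]
    exact mul_mem (Subgroup.subset_closure ⟨_, mul_mem ha hg, n, hn, rfl⟩)
      (inv_mem (Subgroup.subset_closure ⟨a, ha, n, hn, rfl⟩))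
  | one => simp
  | mul x y _ _ hx hy => rw [show a * (x * y) * a⁻¹ = a * x * a⁻¹ * (a * y * a⁻¹) by group]; exact mul_mem hx hy
  | inv x _ hx => rw [show a * x⁻¹ * a⁻¹ = (a * x * a⁻¹)⁻¹ by group]; exact inv_mem hx

variable [Finite Ω]

theorem card_bound (hA : Fus.IsMaxAb S A) (hNS : N ≤ S) (hNc : ∀ m ∈ N, ∀ n ∈ N, m * n = n * m)
    {B : Subgroup Ω} (hB : B ≤ A) :
    Nat.card B * Nat.card ↥(N ⊓ Subgroup.centralizer (B : Set Ω)) =
      Nat.card ↥(B ⊔ (N ⊓ Subgroup.centralizer (B : Set Ω))) *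
        Nat.card ↥(B ⊓ (N ⊓ Subgroup.centralizer (B : Set Ω))) ∧
    Nat.card ↥(B ⊓ (N ⊓ Subgroup.centralizer (B : Set Ω))) ≤ Nat.card ↥(N ⊓ A) ∧
    Nat.card B * Nat.card ↥(N ⊓ Subgroup.centralizer (B : Set Ω)) ≤
      Nat.card A * Nat.card ↥(N ⊓ A) := by
  have h1 : Nat.card B * Nat.card ↥(N ⊓ Subgroup.centralizer (B : Set Ω)) =
      Nat.card ↥(B ⊔ (N ⊓ Subgroup.centralizer (B : Set Ω))) *
        Nat.card ↥(B ⊓ (N ⊓ Subgroup.centralizer (B : Set Ω))) := by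
    rw [Grp.card_sup_mul_card_inf]
    intro b hb
    refine Subgroup.centralizer_le_normalizer _ (Subgroup.mem_centralizer_iff.mpr fun m hm => ?_)
    exact (Subgroup.mem_centralizer_iff.mp hm.2 b hb).symm
  have h2 : Nat.card ↥(B ⊓ (N ⊓ Subgroup.centralizer (B : Set Ω))) ≤ Nat.card ↥(N ⊓ A) :=
    Subgroup.card_le_of_le fun x hx => ⟨hx.2.1, hB hx.1⟩
  refine ⟨h1, h2, ?_⟩
  rw [h1]
  refine Nat.mul_le_mul (hA.2.2 _ (sup_le (hB.trans hA.1) (inf_le_left.trans hNS))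
    (commute_sup (fun a ha b hb => hA.2.1 a (hB ha) b (hB hb))
      (fun a ha b hb => hNc a ha.1 b hb.1)
      fun a ha b hb => Subgroup.mem_centralizer_iff.mp hb.2 a ha)) h2

section
variable (hA : Fus.IsMaxAb S A) (hNS : N ≤ S) (hNc : ∀ m ∈ N, ∀ n ∈ N, m * n = n * m)
  (hAN : ∀ a ∈ A, ∀ n ∈ N, a * n * a⁻¹ ∈ N)
include hA hNS hNc hAN

theorem exact_single {n : Ω} (hn : n ∈ N) :
    Nat.card A * Nat.card ↥(N ⊓ A) ≤ Nat.card (bsub A {n}) * Nat.card (qsub A N {n}) ∧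
    ∀ m ∈ N ⊓ Subgroup.centralizer (bsub A {n} : Set Ω), ∃ b ∈ A, ⁅b, n⁆⁻¹ * m ∈ A := by
  set B := bsub A {n} with hB
  set Q := qsub A N {n} with hQdef
  set C := N ⊓ Subgroup.centralizer (B : Set Ω)
  have hBA : B ≤ A := bsub_le A _
  have hs : ({n} : Set Ω) ⊆ N := Set.singleton_subset_iff.mpr hn
  have hQC : Q ≤ C := le_inf (qsub_le hAN hs) (qsub_le_centralizer hA.2.1 _)
  have hIQ : N ⊓ A ≤ Q := le_sup_right
  have hmem : ∀ g ∈ A, ⁅g, n⁆ ∈ Q := fun g hg =>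
    Subgroup.mem_sup_left (Subgroup.subset_closure ⟨g, hg, n, rfl, rfl⟩)
  let φ : (↥A ⧸ B.subgroupOf A) → (↥Q ⧸ (N ⊓ A).subgroupOf Q) := fun c =>
    QuotientGroup.mk (⟨⁅(c.out : Ω), n⁆, hmem _ c.out.2⟩ : Q)
  have hφ : Function.Injective φ := by
    intro P P' hPP
    rw [← QuotientGroup.out_eq' P, ← QuotientGroup.out_eq' P', QuotientGroup.eq]
    have h1 := (QuotientGroup.eq.mp hPP)
    rw [Subgroup.mem_subgroupOf] at h1 ⊢
    simp only [Subgroup.coe_mul, Subgroup.coe_inv] at h1 ⊢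
    set b := (P.out : Ω)
    set c := (P'.out : Ω)
    have hb : b ∈ A := P.out.2
    have hc : c ∈ A := P'.out.2
    have hd : b⁻¹ * c ∈ A := mul_mem (inv_mem hb) hc
    have h2 : b * ⁅b⁻¹ * c, n⁆ * b⁻¹ = ⁅b, n⁆⁻¹ * ⁅c, n⁆ := by
      rw [hNc _ (inv_mem (comm_mem hAN hb hn)) _ (comm_mem hAN hc hn), eq_mul_inv_iff_mul_eq,
        ← commutator_mul_left', mul_inv_cancel_left]
    have h3 : ⁅b⁻¹ * c, n⁆ ∈ A := by
      have h5 := mul_mem (mul_mem (inv_mem hb) (h2 ▸ h1.2 : b * ⁅b⁻¹ * c, n⁆ * b⁻¹ ∈ A)) hb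
      rwa [show b⁻¹ * (b * ⁅b⁻¹ * c, n⁆ * b⁻¹) * b = ⁅b⁻¹ * c, n⁆ by group] at h5
    refine ⟨hd, Subgroup.mem_centralizer_iff.mpr ?_⟩
    rintro _ ⟨g, hg, m, rfl, rfl⟩
    have h4 := commutator_symm hNc (hA.2.1 _ hd g hg) hn (hAN _ hd _ hn) (hAN g hg _ hn)
    have h5 : ⁅g, ⁅b⁻¹ * c, m⁆⁆ = 1 :=
      commutatorElement_eq_one_iff_mul_comm.mpr (hA.2.1 g hg _ h3)
    exact (commutatorElement_eq_one_iff_mul_comm.mp (h4.trans h5)).symm
  have e1 := Subgroup.card_eq_card_quotient_mul_card_subgroup (B.subgroupOf A)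
  have e2 := Subgroup.card_eq_card_quotient_mul_card_subgroup ((N ⊓ A).subgroupOf Q)
  rw [Nat.card_congr (Subgroup.subgroupOfEquivOfLe hBA).toEquiv] at e1
  rw [Nat.card_congr (Subgroup.subgroupOfEquivOfLe hIQ).toEquiv] at e2
  have h6 := Nat.card_le_card_of_injective φ hφ
  have hle : Nat.card A * Nat.card ↥(N ⊓ A) ≤ Nat.card B * Nat.card Q := by
    calc Nat.card A * Nat.card ↥(N ⊓ A)
        = Nat.card (↥A ⧸ B.subgroupOf A) * Nat.card B * Nat.card ↥(N ⊓ A) := by rw [e1]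
      _ ≤ Nat.card (↥Q ⧸ (N ⊓ A).subgroupOf Q) * Nat.card B * Nat.card ↥(N ⊓ A) :=
          Nat.mul_le_mul_right _ (Nat.mul_le_mul_right _ h6)
      _ = Nat.card B * Nat.card Q := by rw [e2]; ring
  refine ⟨hle, fun m hm => ?_⟩
  have hb := (card_bound hA hNS hNc hBA).2.2
  have hCQ : C = Q := (Subgroup.eq_of_le_of_card_ge hQC
    (Nat.le_of_mul_le_mul_left (hb.trans hle) Nat.card_pos)).symm
  have h7 : Nat.card (↥Q ⧸ (N ⊓ A).subgroupOf Q) ≤ Nat.card (↥A ⧸ B.subgroupOf A) := by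
    have h8 : Nat.card B * Nat.card Q ≤ Nat.card A * Nat.card ↥(N ⊓ A) := by rwa [← hCQ]
    rw [e1, e2] at h8
    refine Nat.le_of_mul_le_mul_right ?_ (Nat.mul_pos (Nat.card_pos (α := B)) (Nat.card_pos (α := ↥(N ⊓ A))))
    calc _ = Nat.card B * (Nat.card (↥Q ⧸ (N ⊓ A).subgroupOf Q) * Nat.card ↥(N ⊓ A)) := by ring
      _ ≤ _ := h8
      _ = _ := by ring
  obtain ⟨P, hP⟩ := (hφ.bijective_of_nat_card_le h7).2
    (QuotientGroup.mk (⟨m, hCQ.le hm⟩ : Q))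
  refine ⟨(P.out : Ω), P.out.2, ?_⟩
  have h9 := QuotientGroup.eq.mp hP
  exact (Subgroup.mem_subgroupOf.mp h9).2

theorem exact_set {s : Set Ω} (hs : s ⊆ N) :
    Nat.card A * Nat.card ↥(N ⊓ A) ≤ Nat.card (bsub A s) * Nat.card (qsub A N s) := by
  induction s, Set.toFinite s using Set.Finite.induction_on with
  | empty =>
    refine Nat.mul_le_mul (Subgroup.card_le_of_le fun a ha => ⟨ha, Subgroup.mem_centralizer_iff.mpr ?_⟩)
      (Subgroup.card_le_of_le le_sup_right)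
    rintro _ ⟨g, hg, n, hn, -⟩
    exact absurd hn (Set.notMem_empty n)
  | @insert n s hns hfin ih =>
    have hn : n ∈ N := hs (Set.mem_insert n s)
    have hs' : s ⊆ N := (Set.subset_insert n s).trans hs
    have h1 := ih hs'
    have h2 := (exact_single hA hNS hNc hAN hn).1
    have hs1 : ({n} : Set Ω) ⊆ N := Set.singleton_subset_iff.mpr hn
    set B₁ := bsub A s
    set B₂ := bsub A ({n} : Set Ω)
    set Q₁ := qsub A N s
    set Q₂ := qsub A N ({n} : Set Ω)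
    have eb : Nat.card B₁ * Nat.card B₂ = Nat.card ↥(B₁ ⊔ B₂) * Nat.card ↥(B₁ ⊓ B₂) := by
      rw [Grp.card_sup_mul_card_inf]
      intro x hx
      refine Subgroup.centralizer_le_normalizer _ (Subgroup.mem_centralizer_iff.mpr fun m hm => ?_)
      exact hA.2.1 m (bsub_le A _ hm) x (bsub_le A _ hx)
    have ec : Nat.card Q₁ * Nat.card Q₂ = Nat.card ↥(Q₁ ⊔ Q₂) * Nat.card ↥(Q₁ ⊓ Q₂) := by
      rw [Grp.card_sup_mul_card_inf]
      intro x hx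
      refine Subgroup.centralizer_le_normalizer _ (Subgroup.mem_centralizer_iff.mpr fun m hm => ?_)
      exact hNc m (qsub_le hAN hs1 hm) x (qsub_le hAN hs' hx)
    have hi : Nat.card ↥(Q₁ ⊓ Q₂) ≤
        Nat.card ↥(N ⊓ Subgroup.centralizer ((B₁ ⊔ B₂ : Subgroup Ω) : Set Ω)) :=
      Subgroup.card_le_of_le fun x hx => ⟨qsub_le hAN hs' hx.1, Subgroup.le_centralizer_iff.mp
        (sup_le (Subgroup.le_centralizer_iff.mp (Subgroup.zpowers_le.mpr (qsub_le_centralizer hA.2.1 s hx.1)))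
          (Subgroup.le_centralizer_iff.mp (Subgroup.zpowers_le.mpr (qsub_le_centralizer hA.2.1 _ hx.2))))
        (Subgroup.mem_zpowers x)⟩
    have hi2 : Nat.card ↥(B₁ ⊓ B₂) ≤ Nat.card (bsub A (insert n s)) := by
      refine Subgroup.card_le_of_le fun x hx => ⟨hx.1.1, Subgroup.mem_centralizer_iff.mpr ?_⟩
      rintro m ⟨g, hg, k, hk, rfl⟩
      rcases Set.mem_insert_iff.mp hk with rfl | hk
      · exact Subgroup.mem_centralizer_iff.mp hx.2.2 _ ⟨g, hg, k, rfl, rfl⟩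
      · exact Subgroup.mem_centralizer_iff.mp hx.1.2 _ ⟨g, hg, k, hk, rfl⟩
    have hi3 : Nat.card ↥(Q₁ ⊔ Q₂) ≤ Nat.card (qsub A N (insert n s)) := by
      refine Subgroup.card_le_of_le (sup_le (sup_le_sup_right ?_ _) (sup_le_sup_right ?_ _))
      · exact Subgroup.closure_mono fun m ⟨g, hg, k, hk, he⟩ => ⟨g, hg, k, Set.mem_insert_of_mem n hk, he⟩
      · exact Subgroup.closure_mono fun m ⟨g, hg, k, hk, he⟩ => ⟨g, hg, k, Set.mem_insert_iff.mpr (Or.inl hk), he⟩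
    have hb := (card_bound hA hNS hNc (sup_le (bsub_le A s) (bsub_le A _) : B₁ ⊔ B₂ ≤ A)).2.2
    set K := Nat.card A * Nat.card ↥(N ⊓ A)
    have hK : 0 < K := Nat.mul_pos Nat.card_pos Nat.card_pos
    refine Nat.le_of_mul_le_mul_left ?_ hK
    calc K * K ≤ (Nat.card B₁ * Nat.card Q₁) * (Nat.card B₂ * Nat.card Q₂) := Nat.mul_le_mul h1 h2
      _ = (Nat.card B₁ * Nat.card B₂) * (Nat.card Q₁ * Nat.card Q₂) := by ring
      _ = (Nat.card ↥(B₁ ⊔ B₂) * Nat.card ↥(Q₁ ⊓ Q₂)) *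
          (Nat.card ↥(B₁ ⊓ B₂) * Nat.card ↥(Q₁ ⊔ Q₂)) := by rw [eb, ec]; ring
      _ ≤ K * _ := Nat.mul_le_mul ((Nat.mul_le_mul_left _ hi).trans hb) (Nat.mul_le_mul hi2 hi3)

theorem centralizer_eq_qsub {s : Set Ω} (hs : s ⊆ N) :
    N ⊓ Subgroup.centralizer (bsub A s : Set Ω) = qsub A N s ∧
    Nat.card A ≤ Nat.card ↥(bsub A s ⊔ (N ⊓ Subgroup.centralizer (bsub A s : Set Ω))) := by
  obtain ⟨h1, h2, h3⟩ := card_bound hA hNS hNc (bsub_le A s)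
  have h4 := exact_set hA hNS hNc hAN hs
  have he := Subgroup.eq_of_le_of_card_ge
    (le_inf (qsub_le hAN hs) (qsub_le_centralizer hA.2.1 s))
    (Nat.le_of_mul_le_mul_left (h3.trans h4) Nat.card_pos)
  refine ⟨he.symm, ?_⟩
  rw [he] at h4
  exact Nat.le_of_mul_le_mul_right ((h4.trans h1.le).trans (Nat.mul_le_mul_left _ h2)) Nat.card_pos

end

end Cfsg.Agent.Invol.JSeven
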