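import Cfsg.Agent.Lib.Invol.JSevenCubic

/-!
# The degree on a class two section
-/

set_option autoImplicit false

open scoped commutatorElement

namespace Cfsg.Agent.Invol.JSeven

open JFive

/-- Levels of an equivariant form with values in a quadratic module. -/
theorem level_vanish {G : Type*} [AddCommGroup G] (X : G →+ G) (T : ℕ → ℕ → G) {d : ℕ}
    (hX : ∀ g, X (X g) = 0) (hzero : ∀ i j, d ≤ i ∨ d ≤ j → T i j = 0)
    (heq : ∀ i j, X (T i j) = T (i + 1) j + T i (j + 1) + T (i + 1) (j + 1)) :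
    (∀ i j, d < i + j → T i j = 0) ∧
      (d = 6 → T 3 3 = X (T 0 5) + X (T 0 5) + X (T 0 5)) := by
  have hhigh : ∀ i j, d < i + j → T i j = 0 := by
    suffices key : ∀ K i j, d < i + j → 2 * d ≤ i + j + K → T i j = 0 from
      fun i j h => key (2 * d) i j h (by omega)
    intro K
    induction K with
    | zero => exact fun i j _ h => hzero i j (by omega)
    | succ K ih =>
      intro i₀ j₀ hd0 hK
      set s := i₀ + j₀ with hs
      have hh : ∀ i j, s < i + j → T i j = 0 := fun i j h => ih i j (by omega) (by omega)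
      have h1 : ∀ i, i ≤ s → X (T i (s - i)) = 0 := by
        intro i
        induction i with
        | zero => intro _; rw [hzero 0 (s - 0) (by omega), map_zero]
        | succ i ihi =>
          intro hi
          have h := congrArg X (heq i (s - (i + 1)))
          rw [hX, map_add, map_add, hh (i + 1) (s - (i + 1) + 1) (by omega), map_zero, add_zero,
            show s - (i + 1) + 1 = s - i by omega, ihi (by omega), add_zero] at h
          exact h.symm
      have h2 : ∀ i, i ≤ s - 1 → X (T i (s - 1 - i)) = 0 := by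
        intro i
        induction i with
        | zero => intro _; rw [hzero 0 (s - 1 - 0) (by omega), map_zero]
        | succ i ihi =>
          intro hi
          have h := congrArg X (heq i (s - 1 - (i + 1)))
          rw [hX, map_add, map_add, show s - 1 - (i + 1) + 1 = s - (i + 1) by omega,
            h1 (i + 1) (by omega), add_zero, show s - (i + 1) = s - 1 - i by omega, ihi (by omega),
            add_zero] at h
          exact h.symm
      have h3 : ∀ i, i ≤ s → T i (s - i) = 0 := by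
        intro i
        induction i with
        | zero => intro _; exact hzero 0 (s - 0) (by omega)
        | succ i ihi =>
          intro hi
          have h := heq i (s - (i + 1))
          rw [show s - (i + 1) = s - 1 - i by omega] at h
          rw [h2 i (by omega), hh (i + 1) (s - 1 - i + 1) (by omega), add_zero,
            show s - 1 - i + 1 = s - i by omega, ihi (by omega), add_zero] at h
          rw [show s - (i + 1) = s - 1 - i by omega]
          exact h.symm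
      have := h3 i₀ (by omega)
      rwa [show s - i₀ = j₀ by omega] at this
  refine ⟨hhigh, ?_⟩
  rintro rfl
  have z06 : T 0 6 = 0 := hzero 0 6 (by omega)
  have x15 : X (T 1 5) = 0 := by
    have h := congrArg X (heq 0 5)
    rw [hX, map_add, map_add, z06, hhigh 1 6 (by omega), map_zero, add_zero, add_zero] at h
    exact h.symm
  have x24 : X (T 2 4) = 0 := by
    have h := congrArg X (heq 1 4)
    rw [hX, map_add, map_add, x15, hhigh 2 5 (by omega), map_zero, add_zero, add_zero] at h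
    exact h.symm
  have x14 : X (T 1 4) = - X (T 0 5) := by
    have h := congrArg X (heq 0 4)
    rw [hX, map_add, map_add, x15, add_zero] at h
    exact eq_neg_of_add_eq_zero_left h.symm
  have x23 : X (T 2 3) = X (T 0 5) := by
    have h := congrArg X (heq 1 3)
    rw [hX, map_add, map_add, x24, x14, add_zero] at h
    exact (add_neg_eq_zero.mp h.symm)
  have t15 : T 1 5 = X (T 0 5) := by
    rw [heq 0 5, z06, hhigh 1 6 (by omega), add_zero, add_zero]
  have t24 : T 2 4 = - (X (T 0 5) + X (T 0 5)) := by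
    have h := heq 1 4
    rw [x14, t15, hhigh 2 5 (by omega), add_zero] at h
    rw [neg_add]
    exact eq_add_neg_of_add_eq h.symm
  have h := heq 2 3
  rw [x23, t24, hhigh 3 4 (by omega), add_zero] at h
  rw [eq_add_neg_iff_add_eq] at h
  rw [← h]
  abel

variable {Ω : Type*} [Group Ω] [Finite Ω] {p : ℕ} [hp : Fact p.Prime]

set_option maxHeartbeats 1000000 in
/-- Some element of `A` outside `P` has small degree on a class two section. -/
theorem Extreme.class_two {S P A R N : Subgroup Ω} (h : Extreme S P A) (hS : IsPGroup p S)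
    (hp3 : p ≠ 3) (hAP : ¬ A ≤ P) (hRP : R ≤ P) (hNR : N ≤ R)
    (hZ : ∀ n ∈ N, ∀ r ∈ R, r * n = n * r)
    (hAR : ∀ a ∈ A, ∀ r ∈ R, a * r * a⁻¹ ∈ R) (hAN : ∀ a ∈ A, ∀ n ∈ N, a * n * a⁻¹ ∈ N)
    (hcR : ∀ r ∈ R, ∀ s ∈ R, ⁅r, s⁆ ∈ N) (hRH : ∀ k ∈ A ⊓ P, ∀ r ∈ R, ⁅k, r⁆ ∈ N) :
    ∃ a ∈ A, a ∉ P ∧ ((∀ v ∈ R, (fun r : Ω => ⁅a, r⁆)^[4] v ∈ N) ∨
      ((∀ v ∈ R, (fun r : Ω => ⁅a, r⁆)^[5] v ∈ N) ∧ ∀ n ∈ N, ⁅a, ⁅a, n⁆⁆ = 1)) := by
  classical
  have hA := h.isMax
  have hNP : N ≤ P := hNR.trans hRP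
  have hNS : N ≤ S := hNP.trans h.le
  have hRS : R ≤ S := hRP.trans h.le
  have hNc : ∀ m ∈ N, ∀ n ∈ N, m * n = n * m := fun m hm n hn => hZ n hn m (hNR hm)
  have hxR : ∀ g ∈ A, ∀ r ∈ R, ⁅g, r⁆ ∈ R := fun g hg r hr =>
    mul_mem (hAR g hg r hr) (inv_mem hr)
  have hxN : ∀ g ∈ A, ∀ n ∈ N, ⁅g, n⁆ ∈ N := fun g hg n hn => comm_mem hAN hg hn
  have hitR : ∀ g ∈ A, ∀ i, ∀ r ∈ R, (fun r : Ω => ⁅g, r⁆)^[i] r ∈ R := by
    intro g hg i
    induction i with
    | zero => exact fun r hr => hr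
    | succ i ih => intro r hr; rw [Function.iterate_succ_apply']; exact hxR g hg _ (ih r hr)
  have hitN : ∀ g ∈ A, ∀ i, ∀ r ∈ N, (fun r : Ω => ⁅g, r⁆)^[i] r ∈ N := by
    intro g hg i
    induction i with
    | zero => exact fun r hr => hr
    | succ i ih => intro r hr; rw [Function.iterate_succ_apply']; exact hxN g hg _ (ih r hr)
  have hmulN : ∀ g ∈ A, ∀ r ∈ R, ∀ n ∈ N, ⁅g, r * n⁆ = ⁅g, r⁆ * ⁅g, n⁆ := by
    intro g hg r hr n hn
    rw [commutator_mul_right', hZ _ (hxN g hg n hn) r hr, mul_inv_cancel_right]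
  have hitmul : ∀ g ∈ A, ∀ i, ∀ r ∈ R, ∀ n ∈ N, (fun r : Ω => ⁅g, r⁆)^[i] (r * n) =
      (fun r : Ω => ⁅g, r⁆)^[i] r * (fun r : Ω => ⁅g, r⁆)^[i] n := by
    intro g hg i
    induction i with
    | zero => exact fun r _ n _ => rfl
    | succ i ih =>
      intro r hr n hn
      simp only [Function.iterate_succ_apply', ih r hr n hn]
      exact hmulN g hg _ (hitR g hg i r hr) _ (hitN g hg i n hn)
  have hconj : ∀ g ∈ A, ∀ e ∈ A, ∀ i, ∀ r : Ω,
      e * (fun r : Ω => ⁅g, r⁆)^[i] r * e⁻¹ = (fun r : Ω => ⁅g, r⁆)^[i] (e * r * e⁻¹) := by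
    intro g hg e he i
    induction i with
    | zero => exact fun r => rfl
    | succ i ih =>
      intro r
      simp only [Function.iterate_succ_apply', ← ih]
      rw [← MulAut.conj_apply, map_commutatorElement, MulAut.conj_apply, MulAut.conj_apply,
        hA.2.1 e he g hg, mul_inv_cancel_right]
  have hfix : ∀ g ∈ A, ∀ i, ∀ v ∈ R, ∀ e ∈ A, ⁅e, v⁆ ∈ N →
      (fun r : Ω => ⁅g, r⁆)^[i] ⁅e, v⁆ = 1 →
      e * (fun r : Ω => ⁅g, r⁆)^[i] v = (fun r : Ω => ⁅g, r⁆)^[i] v * e := by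
    intro g hg i v hv e he hev h1
    rw [← mul_inv_eq_iff_eq_mul, hconj g hg e he,
      show e * v * e⁻¹ = v * ⁅e, v⁆ by rw [hZ _ hev v hv, commutatorElement_def, inv_mul_cancel_right],
      hitmul g hg i v hv _ hev, h1, mul_one]
  -- the quotient `W = R/N` with the operators `[g, ·]`
  let Nn := N.subgroupOf R
  have hNn : Nn.Normal := ⟨fun n hn r => by
    rw [Subgroup.mem_subgroupOf] at hn ⊢
    simp only [Subgroup.coe_mul, Subgroup.coe_inv]
    rwa [hZ _ hn r r.2, mul_inv_cancel_right]⟩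
  let π : R →* ↥R ⧸ Nn := QuotientGroup.mk' Nn
  have hWc : ∀ a b : ↥R ⧸ Nn, a * b = b * a := by
    intro a b
    induction a using QuotientGroup.induction_on with | _ a
    induction b using QuotientGroup.induction_on with | _ b
    rw [← QuotientGroup.mk_mul, ← QuotientGroup.mk_mul, QuotientGroup.eq, Subgroup.mem_subgroupOf]
    simp only [Subgroup.coe_mul, Subgroup.coe_inv]
    have h9 := hcR _ (inv_mem b.2) _ (inv_mem a.2)
    rwa [commutatorElement_def, inv_inv, inv_inv, mul_assoc _ (b : Ω) (a : Ω),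
      show (b : Ω)⁻¹ * (a : Ω)⁻¹ * ((b : Ω) * a) = ((a : Ω) * b)⁻¹ * (b * a) by group] at h9
  have hπ1 : ∀ r : R, π r = 1 ↔ (r : Ω) ∈ N := fun r => by
    rw [QuotientGroup.mk'_apply, QuotientGroup.eq_one_iff, Subgroup.mem_subgroupOf]
  let D : A → (R →* ↥R ⧸ Nn) := fun g => MonoidHom.mk'
    (fun r => π ⟨⁅(g : Ω), r⁆, hxR g g.2 r r.2⟩) fun r s => by
      rw [← map_mul]
      refine QuotientGroup.eq.mpr ?_
      rw [Subgroup.mem_subgroupOf]
      simp only [Subgroup.coe_mul, Subgroup.coe_inv]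
      have hc := hcR _ r.2 _ (hxR g g.2 s s.2)
      rw [commutator_mul_right',
        show (r : Ω) * ⁅(g : Ω), (s : Ω)⁆ * (r : Ω)⁻¹ =
          ⁅(r : Ω), ⁅(g : Ω), (s : Ω)⁆⁆ * ⁅(g : Ω), (s : Ω)⁆ by
            rw [commutatorElement_def (r : Ω)]; group,
        ← hZ _ hc _ (hxR g g.2 s s.2)]
      have h6 : ∀ A B C : Ω, (A * (B * C))⁻¹ * (A * B) = C⁻¹ := fun A B C => by group
      rw [h6]
      exact inv_mem hc
  let xW : A → ((↥R ⧸ Nn) →* ↥R ⧸ Nn) := fun g => QuotientGroup.lift Nn (D g) fun r hr => by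
    rw [MonoidHom.mem_ker]
    exact (hπ1 _).mpr (hxN g g.2 r hr)
  have hxW : ∀ (g : A) (r : R), xW g (π r) = π ⟨⁅(g : Ω), r⁆, hxR g g.2 r r.2⟩ := fun g r => rfl
  have hπsurj : ∀ w, ∃ r : R, π r = w := QuotientGroup.mk'_surjective Nn
  let cj : A → R → R := fun g r => ⟨(g : Ω) * r * (g : Ω)⁻¹, hAR g g.2 r r.2⟩
  have hcj : ∀ (g : A) (r : R), π (cj g r) = xW g (π r) * π r := fun g r => by
    rw [hxW, ← map_mul]
    exact congrArg π (Subtype.ext (by simp [cj, commutatorElement_def]))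
  have hcomm : ∀ (g k : A) (w : ↥R ⧸ Nn), xW g (xW k w) = xW k (xW g w) := by
    intro g k w
    obtain ⟨r, rfl⟩ := hπsurj w
    have h1 : cj g (cj k r) = cj k (cj g r) := Subtype.ext (by
      change (g : Ω) * ((k : Ω) * r * (k : Ω)⁻¹) * (g : Ω)⁻¹ = k * (g * r * (g : Ω)⁻¹) * (k : Ω)⁻¹
      calc _ = ((g : Ω) * k) * r * ((g : Ω) * k)⁻¹ := by group
        _ = ((k : Ω) * g) * r * ((k : Ω) * g)⁻¹ := by rw [hA.2.1 _ g.2 _ k.2]
        _ = _ := by group)
    have h2 := congrArg π h1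
    rw [hcj, hcj, hcj, hcj, map_mul, map_mul, mul_assoc (xW g (xW k (π r))),
      mul_assoc (xW k (xW g (π r))), ← mul_assoc (xW g (π r)) (xW k (π r)),
      hWc (xW g (π r)) (xW k (π r)), mul_assoc (xW k (π r))] at h2
    exact mul_right_cancel h2
  have hprodW : ∀ (g k : A) (w : ↥R ⧸ Nn), (k : Ω) ∈ P → xW (g * k) w = xW g w := by
    intro g k w hk
    obtain ⟨r, rfl⟩ := hπsurj w
    rw [hxW, hxW]
    refine QuotientGroup.eq.mpr ?_
    rw [Subgroup.mem_subgroupOf]
    simp only [Subgroup.coe_mul, Subgroup.coe_inv]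
    rw [commutator_mul_left']
    have h1 := hAN g g.2 _ (hRH k ⟨k.2, hk⟩ r r.2)
    rw [mul_inv_rev, mul_assoc, ← hZ _ (hxN g g.2 _ h1 |> fun _ => inv_mem h1) _ (hxR g g.2 r r.2),
      inv_mul_cancel_left]
    exact inv_mem h1
  have hitW : ∀ (g : A) (i : ℕ) (r : R),
      π ⟨(fun r : Ω => ⁅(g : Ω), r⁆)^[i] r, hitR g g.2 i r r.2⟩ = (xW g)^[i] (π r) := by
    intro g i r
    induction i with
    | zero => rfl
    | succ i ih =>
      rw [Function.iterate_succ_apply' (xW g), ← ih, hxW]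
      exact congrArg π (Subtype.ext (Function.iterate_succ_apply' _ _ _))
  have hmemW : ∀ (g : A) (i : ℕ) (v : Ω) (hv : v ∈ R),
      (fun r : Ω => ⁅(g : Ω), r⁆)^[i] v ∈ N ↔ (xW g)^[i] (π ⟨v, hv⟩) = 1 := fun g i v hv => by
    rw [← hitW g i ⟨v, hv⟩, hπ1]
  have hnilW : ∀ (g : A) (r : R), ∃ i, (xW g)^[i] (π r) = 1 := fun g r => by
    obtain ⟨i, hi⟩ := exists_iterate_eq_one hS (hA.1 g.2) (hRS r.2)
    exact ⟨i, (hmemW g i r r.2).mp (by rw [hi]; exact one_mem N)⟩
  have hitW1 : ∀ (g : A) (i : ℕ), (xW g)^[i] 1 = 1 := fun g i =>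
    Function.iterate_fixed (map_one _) i
  -- `B = C_A([N, A])`
  set B := bsub A (N : Set Ω) with hBdef
  have hsub : (N : Set Ω) ⊆ N := le_refl _
  have hBA : B ≤ A := bsub_le A _
  obtain ⟨hQ, hBcard⟩ := centralizer_eq_qsub hA hNS hNc hAN hsub
  rcases h.dich_bsub hNP hNc hAN hsub with hBP | hBfull
  · -- `B ≤ P`: degree four
    obtain ⟨a, ha, haP⟩ := SetLike.not_le_iff_exists.mp hAP
    refine ⟨a, ha, haP, Or.inl fun v hv => ?_⟩
    by_contra hvn
    set x := fun r : Ω => ⁅a, r⁆ with hx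
    -- quadratic action on the points fixed by `A ∩ P`
    have hWq : ∀ w ∈ N, (∀ k ∈ A ⊓ P, ⁅k, w⁆ = 1) → x (x w) = 1 := by
      intro w hw hwk
      have hs1 : ({w} : Set Ω) ⊆ N := Set.singleton_subset_iff.mpr hw
      have hAH : A ⊓ P ≤ bsub A ({w} : Set Ω) := by
        refine fun k hk => ⟨hk.1, Subgroup.mem_centralizer_iff.mpr ?_⟩
        rintro _ ⟨g, hg, w', rfl, rfl⟩
        refine (commutatorElement_eq_one_iff_mul_comm.mp ?_).symm
        rw [commutator_symm hNc (hA.2.1 k hk.1 g hg) hw (hAN k hk.1 _ hw) (hAN g hg _ hw), hwk k hk,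
          commutatorElement_one_right]
      rcases h.dich_bsub hNP hNc hAN hs1 with hb | hb
      · have hwC : w ∈ N ⊓ Subgroup.centralizer (bsub A ({w} : Set Ω) : Set Ω) :=
          ⟨hw, Subgroup.mem_centralizer_iff.mpr fun e he =>
            commutatorElement_eq_one_iff_mul_comm.mp (hwk e ⟨he.1, hb he⟩)⟩
        obtain ⟨b, hb2, hbc⟩ := (exact_single hA hNS hNc hAN hw).2 w hwC
        set u := ⁅b, w⁆
        have huN : u ∈ N := hxN b hb2 w hw
        have hu : u = ⁅b, u⁆ := by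
          conv_lhs => rw [show u = ⁅b, u * (u⁻¹ * w)⁆ by rw [mul_inv_cancel_left]]
          rw [comm_mul hNc hAN hb2 huN (mul_mem (inv_mem huN) hw),
            show ⁅b, u⁻¹ * w⁆ = 1 from
              commutatorElement_eq_one_iff_mul_comm.mpr (hA.2.1 b hb2 _ hbc), mul_one]
        have hu1 : u = 1 := by
          obtain ⟨i, hi⟩ := exists_iterate_eq_one hS (hA.1 hb2) (hNS huN)
          rwa [Function.iterate_fixed (f := fun r : Ω => ⁅b, r⁆) hu.symm i] at hi
        rw [hu1, inv_one, one_mul] at hbc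
        have : x w = 1 := commutatorElement_eq_one_iff_mul_comm.mpr (hA.2.1 a ha w hbc)
        rw [this]
        exact commutatorElement_one_right a
      · obtain ⟨k, hk, hkB⟩ := hb a ha
        have haB : a ∈ bsub A ({w} : Set Ω) := by
          have := mul_mem hkB (inv_mem (hAH hk))
          rwa [mul_inv_cancel_right] at this
        exact commutatorElement_eq_one_iff_mul_comm.mpr
          (Subgroup.mem_centralizer_iff.mp haB.2 _ ⟨a, ha, w, rfl, rfl⟩).symm
    set y := x^[3] v with hy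
    have hyR : y ∈ R := hitR a ha 3 v hv
    have hey : ∀ e ∈ B, e * y = y * e := by
      intro e he
      have hev : ⁅e, v⁆ ∈ N := hRH e ⟨hBA he, hBP he⟩ v hv
      refine hfix a ha 3 v hv e (hBA he) hev ?_
      refine hWq (x ⁅e, v⁆) (hxN a ha _ hev) fun g hg => ?_
      have hgv : ⁅g, v⁆ ∈ N := hRH g hg v hv
      have hsym : ⁅g, ⁅e, v⁆⁆ = ⁅e, ⁅g, v⁆⁆ := by
        have h1 := commutator_mul_left' e g v
        have h2 := commutator_mul_left' g e v
        rw [← hA.2.1 e (hBA he) g hg.1, h1] at h2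
        have h3 : g * ⁅e, v⁆ * g⁻¹ = e * ⁅g, v⁆ * e⁻¹ * ⁅e, v⁆ * ⁅g, v⁆⁻¹ :=
          eq_mul_inv_of_mul_eq h2.symm
        rw [commutatorElement_def g ⁅e, v⁆, commutatorElement_def e ⁅g, v⁆, h3,
          mul_assoc _ ⁅e, v⁆, hNc _ hev _ (inv_mem hgv), ← mul_assoc, mul_inv_cancel_right]
      change ⁅g, ⁅a, ⁅e, v⁆⁆⁆ = 1
      rw [commutator_symm hNc (hA.2.1 g hg.1 a ha) hev (hAN g hg.1 _ hev) (hAN a ha _ hev), hsym,
        commutator_symm hNc (hA.2.1 a ha e (hBA he)) hgv (hAN a ha _ hgv) (hAN e (hBA he) _ hgv)]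
      exact commutatorElement_eq_one_iff_mul_comm.mpr
        (Subgroup.mem_centralizer_iff.mp he.2 _ ⟨a, ha, _, hgv, rfl⟩).symm
    set CN := N ⊓ Subgroup.centralizer (B : Set Ω)
    set T := B ⊔ CN with hT
    have hTc : ∀ a ∈ T, ∀ b ∈ T, a * b = b * a := commute_sup
      (fun a ha b hb => hA.2.1 a (hBA ha) b (hBA hb)) (fun a ha b hb => hNc a ha.1 b hb.1)
      fun a ha b hb => Subgroup.mem_centralizer_iff.mp hb.2 a ha
    have hTy : ∀ t ∈ T, t * y = y * t := by
      intro t ht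
      have h' : T ≤ Subgroup.centralizer ({y} : Set Ω) := sup_le
        (fun e he => Subgroup.mem_centralizer_singleton_iff.mpr (hey e he))
        (fun n hn => Subgroup.mem_centralizer_singleton_iff.mpr (hZ n hn.1 y hyR).symm)
      exact Subgroup.mem_centralizer_singleton_iff.mp (h' ht)
    have hTS : T ≤ S := sup_le (hBA.trans hA.1) (inf_le_left.trans hNS)
    have hlt : T < T ⊔ Subgroup.zpowers y := by
      refine lt_of_le_of_ne le_sup_left fun e => ?_
      have hyT : y ∈ T := e.symm.le (Subgroup.mem_sup_right (S := T) (Subgroup.mem_zpowers y))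
      rw [← SetLike.mem_coe, hT, Subgroup.coe_mul_of_left_le_normalizer_right] at hyT
      · obtain ⟨b, hb, n, hn, he⟩ := hyT
        have hbR : b ∈ R := by
          rw [show b = y * n⁻¹ by rw [← he]; simp]
          exact mul_mem hyR (inv_mem (hNR hn.1))
        refine hvn ?_
        rw [show (4 : ℕ) = 3 + 1 from rfl, Function.iterate_succ_apply', ← hy, ← he]
        change ⁅a, b * n⁆ ∈ N
        rw [hmulN a ha b hbR n hn.1, commutatorElement_eq_one_iff_mul_comm.mpr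
          (hA.2.1 a ha b (hBA hb)), one_mul]
        exact hxN a ha n hn.1
      · intro b hb
        refine Subgroup.centralizer_le_normalizer _ (Subgroup.mem_centralizer_iff.mpr fun m hm => ?_)
        exact (Subgroup.mem_centralizer_iff.mp hm.2 b hb).symm
    have h1 := hA.2.2 (T ⊔ Subgroup.zpowers y)
      (sup_le hTS (Subgroup.zpowers_le.mpr (hRS hyR)))
      (commute_sup hTc (commute_zpowers y) (by
        rintro t ht _ ⟨i, rfl⟩
        exact (Commute.zpow_right (hTy t ht) i).eq))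
    exact absurd (hBcard.trans_lt (lt_of_not_ge fun h' => hlt.ne
      (Subgroup.eq_of_le_of_card_ge hlt.le h'))) (not_lt.mpr h1)
  -- `A = B(A ∩ P)`: quadratic on `N`, degree five
  obtain ⟨a₀, ha₀, ha₀P⟩ := SetLike.not_le_iff_exists.mp hAP
  obtain ⟨k₀, hk₀, haB⟩ := hBfull a₀ ha₀
  set a := a₀ * k₀
  have ha : a ∈ A := hBA haB
  have haP : a ∉ P := fun h' => ha₀P (by simpa [a] using P.mul_mem h' (P.inv_mem hk₀.2))
  have hx2 : ∀ n ∈ N, ⁅a, ⁅a, n⁆⁆ = 1 := fun n hn => commutatorElement_eq_one_iff_mul_comm.mpr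
    (Subgroup.mem_centralizer_iff.mp haB.2 _ ⟨a, ha, n, hn, rfl⟩).symm
  refine ⟨a, ha, haP, Or.inr ⟨?_, hx2⟩⟩
  by_contra hno
  push Not at hno
  obtain ⟨u₀, hu₀R, hu₀⟩ := hno
  set x := fun r : Ω => ⁅a, r⁆ with hx
  set ξ := xW ⟨a, ha⟩ with hξ
  -- the degree
  obtain ⟨d, hd6, hdtop, hdne⟩ : ∃ d, 6 ≤ d ∧ (∀ w, ξ^[d] w = 1) ∧ ∃ w, ξ^[d - 1] w ≠ 1 := by
    have hex : ∃ d, ∀ w, ξ^[d] w = 1 := by
      have hall : ∀ w, ∃ i, ξ^[i] w = 1 := fun w => by
        obtain ⟨r, rfl⟩ := hπsurj w; exact hnilW _ r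
      choose i hi using hall
      obtain ⟨M, hM⟩ := (Set.finite_range i).bddAbove
      refine ⟨M, fun w => ?_⟩
      rw [show M = M - i w + i w by have := hM ⟨w, rfl⟩; omega, Function.iterate_add_apply, hi,
        hitW1]
    have hspec := Nat.find_spec hex
    have h6 : 6 ≤ Nat.find hex := by
      by_contra hlt'
      refine hu₀ ((hmemW ⟨a, ha⟩ 5 u₀ hu₀R).mpr ?_)
      change ξ^[5] _ = 1
      rw [show 5 = 5 - Nat.find hex + Nat.find hex by omega, Function.iterate_add_apply, hspec, hitW1]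
    refine ⟨_, h6, hspec, ?_⟩
    have := Nat.find_min hex (show Nat.find hex - 1 < Nat.find hex by omega)
    push Not at this
    exact this
  -- a point whose top image is fixed
  obtain ⟨v, hvn, hvfix⟩ : ∃ v : R, ξ^[d - 1] (π v) ≠ 1 ∧
      ∀ g : A, ξ^[d - 1] (xW g (π v)) = 1 := by
    have hSn : Group.IsNilpotent S := hS.isNilpotent
    obtain ⟨L, hL⟩ := Subgroup.nilpotent_iff_lowerCentralSeries.mp hSn
    let Γ : ℕ → Subgroup Ω := fun i =>
      (Subgroup.lowerCentralSeries (⊤ : Subgroup S) i).map S.subtype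
    let good : ℕ → Prop := fun i => ∃ u : R, (u : Ω) ∈ Γ i ∧ ξ^[d - 1] (π u) ≠ 1
    have h0 : good 0 := by
      obtain ⟨w, hw⟩ := hdne
      obtain ⟨r, rfl⟩ := hπsurj w
      refine ⟨r, ?_, hw⟩
      change (r : Ω) ∈ (Subgroup.lowerCentralSeries (⊤ : Subgroup S) 0).map S.subtype
      rw [Subgroup.lowerCentralSeries, ← MonoidHom.range_eq_map, Subgroup.range_subtype]
      exact hRS r.2
    have hLn : ¬ good L := by
      rintro ⟨u, hu, hne'⟩
      simp only [Γ, hL, Subgroup.map_bot, Subgroup.mem_bot] at hu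
      rw [show u = 1 from Subtype.ext hu, map_one, hitW1] at hne'
      exact hne' rfl
    have hex : ∃ i, ¬ good i := ⟨L, hLn⟩
    obtain ⟨i, hi⟩ : ∃ i, Nat.find hex = i + 1 := Nat.exists_eq_succ_of_ne_zero fun e =>
      Nat.find_spec hex (by rw [e]; exact h0)
    obtain ⟨u, hu, hne'⟩ : good i := not_not.mp (Nat.find_min hex (show i < Nat.find hex by omega))
    refine ⟨u, hne', fun g => ?_⟩
    by_contra hg
    refine Nat.find_spec hex ?_
    rw [hi]
    refine ⟨⟨⁅(g : Ω), u⁆, hxR g g.2 u u.2⟩, ?_, by rwa [← hxW]⟩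
    change ⁅(g : Ω), (u : Ω)⁆ ∈ (Subgroup.lowerCentralSeries (⊤ : Subgroup S) (i + 1)).map S.subtype
    rw [Subgroup.lowerCentralSeries_succ, Subgroup.map_commutator, ← MonoidHom.range_eq_map,
      Subgroup.range_subtype, Subgroup.commutator_comm]
    exact Subgroup.commutator_mem_commutator (hA.1 g.2) hu
  set k := d - 3 with hk
  set y := x^[k] (v : Ω) with hy
  have hyR : y ∈ R := hitR a ha k v v.2
  -- values of the form on the orbit
  let _ : CommGroup N :=
    { (inferInstance : Group N) with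
      mul_comm := fun m n => Subtype.ext (hNc m m.2 n n.2) }
  let X : Additive N →+ Additive N := MonoidHom.toAdditive
    { toFun := fun n => ⟨x n, hxN a ha n n.2⟩
      map_one' := Subtype.ext (commutatorElement_one_right a)
      map_mul' := fun m n => Subtype.ext (comm_mul hNc hAN ha m.2 n.2) }
  have hbil1 : ∀ r ∈ R, ∀ t ∈ R, ∀ s ∈ R, ⁅r * t, s⁆ = ⁅t, s⁆ * ⁅r, s⁆ := by
    intro r hr t ht s hs
    rw [commutator_mul_left', hZ _ (hcR t ht s hs) r hr, mul_inv_cancel_right]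
  have hbil2 : ∀ r ∈ R, ∀ t ∈ R, ∀ s ∈ R, ⁅r, t * s⁆ = ⁅r, t⁆ * ⁅r, s⁆ := by
    intro r hr t ht s hs
    rw [commutator_mul_right', hZ _ (hcR r hr s hs) t ht, mul_inv_cancel_right]
  have hlevel : ∀ v₁ v₂ : R,
      (7 ≤ d → ⁅x^[k] (v₁ : Ω), x^[k] (v₂ : Ω)⁆ = 1) ∧
      (d = 6 → ⁅x^[k] (v₁ : Ω), x^[k] (v₂ : Ω)⁆ = x ⁅(v₁ : Ω), x^[5] (v₂ : Ω)⁆ *
        x ⁅(v₁ : Ω), x^[5] (v₂ : Ω)⁆ * x ⁅(v₁ : Ω), x^[5] (v₂ : Ω)⁆) := by
    intro v₁ v₂
    let T : ℕ → ℕ → Additive N := fun i j => Additive.ofMul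
      ⟨⁅x^[i] (v₁ : Ω), x^[j] (v₂ : Ω)⁆, hcR _ (hitR a ha i _ v₁.2) _ (hitR a ha j _ v₂.2)⟩
    have hge : ∀ (u : R) i, d ≤ i → x^[i] (u : Ω) ∈ N := fun u i hi => by
      refine (hmemW ⟨a, ha⟩ i u u.2).mpr ?_
      change ξ^[i] _ = 1
      rw [show i = i - d + d by omega, Function.iterate_add_apply, hdtop, hitW1]
    obtain ⟨hhi, h6⟩ := level_vanish X T (d := d)
      (fun n => Additive.toMul.injective (Subtype.ext (hx2 _ (Additive.toMul n).2)))
      (fun i j hij => Additive.toMul.injective (Subtype.ext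
        (commutatorElement_eq_one_iff_mul_comm.mpr (by
          rcases hij with h' | h'
          · exact (hZ _ (hge v₁ i h') _ (hitR a ha j _ v₂.2)).symm
          · exact hZ _ (hge v₂ j h') _ (hitR a ha i _ v₁.2)))))
      (fun i j => by
        refine Additive.toMul.injective (Subtype.ext ?_)
        set r := x^[i] (v₁ : Ω) with hr
        set s := x^[j] (v₂ : Ω) with hs
        have hrR : r ∈ R := hitR a ha i _ v₁.2
        have hsR : s ∈ R := hitR a ha j _ v₂.2
        have hr1 : x^[i + 1] (v₁ : Ω) = x r := Function.iterate_succ_apply' x i _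
        have hs1 : x^[j + 1] (v₂ : Ω) = x s := Function.iterate_succ_apply' x j _
        change x ⁅r, s⁆ =
          ⁅x^[i + 1] (v₁ : Ω), s⁆ * ⁅r, x^[j + 1] (v₂ : Ω)⁆ * ⁅x^[i + 1] (v₁ : Ω), x^[j + 1] (v₂ : Ω)⁆
        rw [hr1, hs1]
        have h1 : a * ⁅r, s⁆ * a⁻¹ = ⁅x r * r, x s * s⁆ := by
          rw [← MulAut.conj_apply, map_commutatorElement, MulAut.conj_apply, MulAut.conj_apply]
          congr 1 <;> simp [hx, commutatorElement_def]
        have hxr := hxR a ha r hrR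
        have hxs := hxR a ha s hsR
        rw [hbil1 _ hxr _ hrR _ (mul_mem hxs hsR), hbil2 _ hrR _ hxs _ hsR,
          hbil2 _ hxr _ hxs _ hsR] at h1
        change ⁅a, ⁅r, s⁆⁆ = _
        rw [commutatorElement_def a, h1]
        have q1 := hcR _ hxr _ hsR
        have q2 := hcR _ hrR _ hxs
        have q3 := hcR _ hxr _ hxs
        have q4 := hcR _ hrR _ hsR
        calc ⁅r, x s⁆ * ⁅r, s⁆ * (⁅x r, x s⁆ * ⁅x r, s⁆) * ⁅r, s⁆⁻¹
            = ⁅r, x s⁆ * (⁅x r, x s⁆ * ⁅x r, s⁆) := by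
              rw [mul_assoc ⁅r, x s⁆, hNc _ q4 _ (mul_mem q3 q1), ← mul_assoc,
                mul_inv_cancel_right]
          _ = ⁅x r, s⁆ * ⁅r, x s⁆ * ⁅x r, x s⁆ := by
              rw [hNc _ q1 _ q2, mul_assoc ⁅r, x s⁆ ⁅x r, s⁆, hNc _ q1 _ q3])
    refine ⟨fun h7 => congrArg (fun n : Additive N => ((Additive.toMul n : N) : Ω))
      (hhi k k (by omega)), fun h6' => ?_⟩
    have h8 := congrArg (fun n : Additive N => ((Additive.toMul n : N) : Ω)) (h6 h6')
    rw [show k = 3 by omega]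
    exact h8
  -- the orbit of `v`
  let w : A → R := fun g => cj g v
  have hwtop : ∀ g : A, ξ^[d - 1] (π (w g)) = ξ^[d - 1] (π v) := fun g => by
    rw [hcj, iterate_map_mul, hvfix, one_mul]
  have horb0 : ∀ g : A, ⁅y, x^[k] (w g : Ω)⁆ = 1 := by
    intro g
    rcases (show 7 ≤ d ∨ d = 6 by omega) with h7 | h6
    · exact (hlevel v (w g)).1 h7
    · have hc : x ⁅(v : Ω), x^[5] (v : Ω)⁆ = 1 := by
        set c := x ⁅(v : Ω), x^[5] (v : Ω)⁆
        have h1 := (hlevel v v).2 h6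
        rw [commutatorElement_self] at h1
        have hcS : c ∈ S := hNS (hxN a ha _ (hcR _ v.2 _ (hitR a ha 5 _ v.2)))
        obtain ⟨e, he⟩ := hS ⟨c, hcS⟩
        have he' : c ^ p ^ e = 1 := congrArg Subtype.val he
        have h3 : c ^ 3 = 1 := by rw [pow_succ, pow_two]; exact h1.symm
        have hd : orderOf c ∣ Nat.gcd (p ^ e) 3 :=
          Nat.dvd_gcd (orderOf_dvd_of_pow_eq_one he') (orderOf_dvd_of_pow_eq_one h3)
        rw [Nat.Coprime.gcd_eq_one (((Nat.coprime_primes hp.out Nat.prime_three).mpr hp3).pow_left e),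
          Nat.dvd_one] at hd
        exact orderOf_eq_one_iff.mp hd
      rw [(hlevel v (w g)).2 h6]
      obtain ⟨n, hn, hne'⟩ : ∃ n ∈ N, x^[5] (w g : Ω) = x^[5] (v : Ω) * n := by
        refine ⟨(x^[5] (v : Ω))⁻¹ * x^[5] (w g : Ω), ?_, by rw [mul_inv_cancel_left]⟩
        have h1 := (hitW ⟨a, ha⟩ 5 (w g))
        have h2 := (hitW ⟨a, ha⟩ 5 v)
        have h3 := hwtop g
        rw [show d - 1 = 5 by omega] at h3
        rw [h3, ← h2] at h1
        exact Subgroup.mem_subgroupOf.mp (QuotientGroup.eq.mp h1.symm)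
      rw [show ⁅(v : Ω), x^[5] (w g : Ω)⁆ = ⁅(v : Ω), x^[5] (v : Ω)⁆ by
        rw [hne', hbil2 _ v.2 _ (hitR a ha 5 _ v.2) _ (hNR hn),
          commutatorElement_eq_one_iff_mul_comm.mpr (hZ n hn v v.2), mul_one], hc, one_mul, one_mul]
  have horb : ∀ g g' : A, x^[k] (w g : Ω) * x^[k] (w g' : Ω) = x^[k] (w g' : Ω) * x^[k] (w g : Ω) := by
    intro g g'
    have h1 := horb0 (g⁻¹ * g')
    rw [← commutatorElement_eq_one_iff_mul_comm]
    have e1 : ∀ (g₁ g₂ : A), (g₁ : Ω) * x^[k] (w g₂ : Ω) * (g₁ : Ω)⁻¹ = x^[k] (w (g₁ * g₂) : Ω) := by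
      intro g₁ g₂
      rw [hconj a ha g₁ g₁.2 k]
      congr 1
      simp [w, cj, mul_assoc]
    have h2 := congrArg (MulAut.conj (g : Ω)) h1
    rw [map_commutatorElement, map_one, MulAut.conj_apply, MulAut.conj_apply, e1,
      mul_inv_cancel_left] at h2
    have e2 : (g : Ω) * y * (g : Ω)⁻¹ = x^[k] (w g : Ω) := by
      rw [hy, hconj a ha g g.2 k]
    rwa [e2] at h2
  -- the abelian subgroup `L`
  set gens : Set Ω := (N : Set Ω) ∪ {r | ∃ g : A, r = x^[k] (w g : Ω)}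
  set L := Subgroup.closure gens with hLdef
  have hgensR : ∀ r ∈ gens, r ∈ R := by
    rintro r (hr | ⟨g, rfl⟩)
    · exact hNR hr
    · exact hitR a ha k _ (w g).2
  have hLR : L ≤ R := (Subgroup.closure_le _).mpr hgensR
  have hLc : ∀ m ∈ L, ∀ n ∈ L, m * n = n * m := by
    have hg : ∀ r ∈ gens, ∀ s ∈ gens, r * s = s * r := by
      rintro r (hr | ⟨g, rfl⟩) s hs
      · exact (hZ r hr s (hgensR s hs)).symm
      · rcases hs with hs | ⟨g', rfl⟩
        · exact hZ s hs _ (hitR a ha k _ (w g).2)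
        · exact horb g g'
    intro m hm n hn
    have h1 : L ≤ Subgroup.centralizer gens :=
      (Subgroup.closure_le _).mpr fun r hr => Subgroup.mem_centralizer_iff.mpr fun s hs => hg s hs r hr
    have h2 : L ≤ Subgroup.centralizer (L : Set Ω) := by
      rw [hLdef, Subgroup.centralizer_closure]; exact h1
    exact (Subgroup.mem_centralizer_iff.mp (h2 hn) m hm)
  have hAL : ∀ g ∈ A, ∀ m ∈ L, g * m * g⁻¹ ∈ L := by
    intro g hg m hm
    induction hm using Subgroup.closure_induction with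
    | mem m hm =>
      rcases hm with hm | ⟨g', rfl⟩
      · exact Subgroup.subset_closure (Or.inl (hAN g hg m hm))
      · refine Subgroup.subset_closure (Or.inr ⟨⟨g, hg⟩ * g', ?_⟩)
        rw [hconj a ha g hg k]
        congr 1
        simp [w, cj, mul_assoc]
    | one => simp
    | mul r s _ _ hr hs => rw [show g * (r * s) * g⁻¹ = g * r * g⁻¹ * (g * s * g⁻¹) by group]; exact mul_mem hr hs
    | inv r _ hr => rw [show g * r⁻¹ * g⁻¹ = (g * r * g⁻¹)⁻¹ by group]; exact inv_mem hr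
  have hyL : y ∈ L := Subgroup.subset_closure (Or.inr ⟨1, by simp [w, cj, hy]⟩)
  have htop : ξ^[2] (π ⟨y, hyR⟩) ≠ 1 := by
    rw [show (π ⟨y, hyR⟩) = ξ^[k] (π v) from hitW ⟨a, ha⟩ k v, ← Function.iterate_add_apply,
      show 2 + k = d - 1 by omega]
    exact hvn
  have hLP : L ≤ P := hLR.trans hRP
  have hsubL : (L : Set Ω) ⊆ L := le_refl _
  obtain ⟨hQL, -⟩ := centralizer_eq_qsub hA (hLP.trans h.le) hLc hAL hsubL
  rcases h.dich_bsub hLP hLc hAL hsubL with hb | hb
  · have hyC : y ∈ L ⊓ Subgroup.centralizer (bsub A (L : Set Ω) : Set Ω) := by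
      refine ⟨hyL, Subgroup.mem_centralizer_iff.mpr fun e he => ?_⟩
      have hev : ⁅e, (v : Ω)⁆ ∈ N := hRH e ⟨he.1, hb he⟩ v v.2
      refine hfix a ha k v v.2 e he.1 hev ?_
      rw [show k = k - 2 + 2 by omega, Function.iterate_add_apply]
      change x^[k - 2] (x (x ⁅e, (v : Ω)⁆)) = 1
      rw [show x (x ⁅e, (v : Ω)⁆) = 1 from hx2 _ hev]
      exact Function.iterate_fixed (commutatorElement_one_right a) _
    rw [hQL] at hyC
    -- the square of `ξ` kills `[L, A](L ∩ A)`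
    let ξ2 : R →* ↥R ⧸ Nn := (ξ.comp ξ).comp π
    have hK : qsub A L (L : Set Ω) ≤ ξ2.ker.map R.subtype := by
      refine sup_le ((Subgroup.closure_le _).mpr ?_) ?_
      · rintro _ ⟨g, hg, l, hl, rfl⟩
        refine ⟨⟨⁅g, l⁆, hxR g hg l (hLR hl)⟩, ?_, rfl⟩
        change ξ (ξ (π ⟨⁅g, l⁆, hxR g hg l (hLR hl)⟩)) = 1
        rw [← hxW ⟨g, hg⟩ ⟨l, hLR hl⟩, hcomm ⟨a, ha⟩ ⟨g, hg⟩, hcomm ⟨a, ha⟩ ⟨g, hg⟩]
        -- `ξ² l` is fixed
        have hfixed : ∀ l ∈ L, ∃ hlR : l ∈ R, ∀ g' : A, xW g' (ξ (ξ (π ⟨l, hlR⟩))) = 1 := by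
          intro l hl
          induction hl using Subgroup.closure_induction with
          | mem l hl =>
            refine ⟨hgensR l hl, fun g' => ?_⟩
            rcases hl with hl | ⟨g'', rfl⟩
            · rw [show π ⟨l, _⟩ = 1 from (hπ1 _).mpr hl, map_one, map_one, map_one]
            · rw [show π ⟨x^[k] (w g'' : Ω), _⟩ = ξ^[k] (π (w g'')) from hitW ⟨a, ha⟩ k (w g'')]
              change xW g' (ξ^[2] (ξ^[k] (π (w g'')))) = 1
              rw [← Function.iterate_add_apply, show 2 + k = d - 1 by omega, hwtop]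
              have h1 : ∀ (i : ℕ) (z : ↥R ⧸ Nn), xW g' (ξ^[i] z) = ξ^[i] (xW g' z) := by
                intro i
                induction i with
                | zero => exact fun z => rfl
                | succ i ih =>
                  intro z
                  rw [Function.iterate_succ_apply', Function.iterate_succ_apply', hcomm, ih]
              rw [h1, hvfix]
          | one => exact ⟨one_mem R, fun g' => by
              rw [show π ⟨1, one_mem R⟩ = 1 from map_one π, map_one, map_one, map_one]⟩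
          | mul r s _ _ hr hs =>
            obtain ⟨hrR, hr⟩ := hr
            obtain ⟨hsR, hs⟩ := hs
            refine ⟨mul_mem hrR hsR, fun g' => ?_⟩
            rw [show (⟨r * s, mul_mem hrR hsR⟩ : R) = ⟨r, hrR⟩ * ⟨s, hsR⟩ from rfl, map_mul, map_mul,
              map_mul, map_mul, hr, hs, one_mul]
          | inv r _ hr =>
            obtain ⟨hrR, hr⟩ := hr
            refine ⟨inv_mem hrR, fun g' => ?_⟩
            rw [show (⟨r⁻¹, inv_mem hrR⟩ : R) = (⟨r, hrR⟩ : R)⁻¹ from rfl, map_inv, map_inv, map_inv,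
              map_inv, hr, inv_one]
        obtain ⟨hlR, hl'⟩ := hfixed l hl
        exact hl' ⟨g, hg⟩
      · rintro l ⟨hlL, hlA⟩
        refine ⟨⟨l, hLR hlL⟩, ?_, rfl⟩
        change ξ (ξ (π ⟨l, hLR hlL⟩)) = 1
        rw [show ξ (π ⟨l, hLR hlL⟩) = 1 from (hπ1 _).mpr (by
          change ⁅a, l⁆ ∈ N
          rw [commutatorElement_eq_one_iff_mul_comm.mpr (hA.2.1 a ha l hlA)]
          exact one_mem N), map_one]
    obtain ⟨r, hr, hre⟩ := hK hyC
    exact htop (by
      rw [show (⟨y, hyR⟩ : R) = r from Subtype.ext hre.symm]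
      exact hr)
  · obtain ⟨k', hk', hkB⟩ := hb a ha
    have h2 : ⁅a * k', ⁅a * k', y⁆⁆ = 1 := commutatorElement_eq_one_iff_mul_comm.mpr
      (Subgroup.mem_centralizer_iff.mp hkB.2 _ ⟨_, hkB.1, y, hyL, rfl⟩).symm
    refine htop ?_
    set a' : A := ⟨a, ha⟩ * ⟨k', hk'.1⟩
    change ξ (ξ (π ⟨y, hyR⟩)) = 1
    rw [← hprodW ⟨a, ha⟩ ⟨k', hk'.1⟩ (ξ (π ⟨y, hyR⟩)) hk'.2,
      ← hprodW ⟨a, ha⟩ ⟨k', hk'.1⟩ (π ⟨y, hyR⟩) hk'.2, hxW, hxW]
    refine (hπ1 _).mpr ?_
    change ⁅a * k', ⁅a * k', y⁆⁆ ∈ N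
    rw [h2]
    exact one_mem N

end Cfsg.Agent.Invol.JSeven
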