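import Cfsg.Agent.Lib.Invol.JSevenBest

/-!
# A maximal abelian subgroup with largest intersection with `P` acts cubically on abelian sections
-/

set_option autoImplicit false

open scoped commutatorElement

namespace Cfsg.Agent.Invol.JSeven

open JFive

variable {Ω : Type*} [Group Ω] [Finite Ω] {p : ℕ} [hp : Fact p.Prime]

/-- A subgroup of a `p`-group `S` inside its commutator with `S` is trivial. -/
theorem eq_bot_of_le_commutator {S M : Subgroup Ω} (hS : IsPGroup p S) (hMS : M ≤ S)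
    (h : M ≤ ⁅M, S⁆) : M = ⊥ := by
  have : Group.IsNilpotent S := hS.isNilpotent
  obtain ⟨k, hk⟩ := Subgroup.nilpotent_iff_lowerCentralSeries.mp this
  have h1 : ∀ n, M ≤ (Subgroup.lowerCentralSeries (⊤ : Subgroup S) n).map S.subtype := by
    intro n
    induction n with
    | zero =>
      rw [Subgroup.lowerCentralSeries, ← MonoidHom.range_eq_map, Subgroup.range_subtype]
      exact hMS
    | succ n ih =>
      rw [Subgroup.lowerCentralSeries_succ, Subgroup.map_commutator, ← MonoidHom.range_eq_map,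
        Subgroup.range_subtype]
      exact h.trans (Subgroup.commutator_mono ih le_rfl)
  have h2 := h1 k
  rw [hk, Subgroup.map_bot] at h2
  exact le_bot_iff.mp h2

/-- `A` is a maximal abelian subgroup of `S` meeting `P` as largely as those not inside `P` do. -/
structure Extreme (S P A : Subgroup Ω) : Prop where
  isMax : Fus.IsMaxAb S A
  le : P ≤ S
  extreme : ∀ A', Fus.IsMaxAb S A' → ¬ A' ≤ P → Nat.card ↥(A' ⊓ P) ≤ Nat.card ↥(A ⊓ P)

omit hp in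
/-- The dichotomy: a replacement lies in `P` or covers `A` modulo `P`. -/
theorem Extreme.dich {S P A : Subgroup Ω} (h : Extreme S P A) {B C : Subgroup Ω} (hB : B ≤ A)
    (hC : C ≤ P) (hCc : ∀ a ∈ C, ∀ b ∈ C, a * b = b * a) (hBC : ∀ a ∈ B, ∀ b ∈ C, a * b = b * a)
    (hcard : Nat.card A ≤ Nat.card ↥(B ⊔ C)) :
    B ≤ P ∨ ∀ a ∈ A, ∃ k ∈ A ⊓ P, a * k ∈ B := by
  rw [or_iff_not_imp_left]
  intro hBP
  have hA := h.isMax
  have hBc : ∀ a ∈ B, ∀ b ∈ B, a * b = b * a := fun a ha b hb => hA.2.1 a (hB ha) b (hB hb)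
  have hTc := commute_sup hBc hCc hBC
  have hTS : B ⊔ C ≤ S := sup_le (hB.trans hA.1) (hC.trans h.le)
  have hTmax : Fus.IsMaxAb S (B ⊔ C) := ⟨hTS, hTc, fun D hD hDc => (hA.2.2 D hD hDc).trans hcard⟩
  have hext := h.extreme _ hTmax fun hle => hBP (le_sup_left.trans hle)
  set T := (B ⊔ C) ⊓ P
  have hBT : B ⊔ T = B ⊔ C := le_antisymm (sup_le le_sup_left inf_le_left)
    (sup_le le_sup_left (le_trans (le_inf le_sup_right hC) le_sup_right))
  have e1 : Nat.card ↥(B ⊔ T) * Nat.card ↥(B ⊓ T) = Nat.card B * Nat.card T := by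
    rw [Grp.card_sup_mul_card_inf]
    intro x hx
    refine Subgroup.centralizer_le_normalizer _ (Subgroup.mem_centralizer_iff.mpr fun m hm => ?_)
    exact hTc m hm.1 x (Subgroup.mem_sup_left hx)
  have e2 : Nat.card ↥(B ⊔ (A ⊓ P)) * Nat.card ↥(B ⊓ (A ⊓ P)) = Nat.card B * Nat.card ↥(A ⊓ P) := by
    rw [Grp.card_sup_mul_card_inf]
    intro x hx
    refine Subgroup.centralizer_le_normalizer _ (Subgroup.mem_centralizer_iff.mpr fun m hm => ?_)
    exact hA.2.1 m hm.1 x (hB hx)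
  have e3 : B ⊓ T = B ⊓ (A ⊓ P) := le_antisymm (fun x hx => ⟨hx.1, hB hx.1, hx.2.2⟩)
    fun x hx => ⟨hx.1, Subgroup.mem_sup_left hx.1, hx.2.2⟩
  have h1 : Nat.card A ≤ Nat.card ↥(B ⊔ (A ⊓ P)) := by
    refine Nat.le_of_mul_le_mul_right ?_ (Nat.card_pos (α := ↥(B ⊓ (A ⊓ P))))
    calc Nat.card A * Nat.card ↥(B ⊓ (A ⊓ P))
        ≤ Nat.card ↥(B ⊔ T) * Nat.card ↥(B ⊓ T) := by
          rw [hBT, e3]; exact Nat.mul_le_mul_right _ hcard
      _ = Nat.card B * Nat.card T := e1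
      _ ≤ Nat.card B * Nat.card ↥(A ⊓ P) := Nat.mul_le_mul_left _ hext
      _ = _ := e2.symm
  have h2 := Subgroup.eq_of_le_of_card_ge (sup_le hB inf_le_left) h1
  intro a ha
  have ha' : a ∈ B ⊔ (A ⊓ P) := h2.ge ha
  rw [← SetLike.mem_coe, Subgroup.coe_mul_of_left_le_normalizer_right] at ha'
  · obtain ⟨b, hb, k, hk, he⟩ := ha'
    refine ⟨k⁻¹, inv_mem hk, ?_⟩
    rw [← he]
    change b * k * k⁻¹ ∈ B
    rwa [mul_inv_cancel_right]
  · intro x hx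
    refine Subgroup.centralizer_le_normalizer _ (Subgroup.mem_centralizer_iff.mpr fun m hm => ?_)
    exact hA.2.1 m hm.1 x (hB hx)

omit hp in
/-- The dichotomy for `C_A([s, A])`. -/
theorem Extreme.dich_bsub {S P A N : Subgroup Ω} (h : Extreme S P A) (hNP : N ≤ P)
    (hNc : ∀ m ∈ N, ∀ n ∈ N, m * n = n * m) (hAN : ∀ a ∈ A, ∀ n ∈ N, a * n * a⁻¹ ∈ N)
    {s : Set Ω} (hs : s ⊆ N) :
    bsub A s ≤ P ∨ ∀ a ∈ A, ∃ k ∈ A ⊓ P, a * k ∈ bsub A s :=
  h.dich (bsub_le A s) (inf_le_left.trans hNP) (fun a ha b hb => hNc a ha.1 b hb.1)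
    (fun a ha b hb => Subgroup.mem_centralizer_iff.mp hb.2 a ha)
    (centralizer_eq_qsub h.isMax (hNP.trans h.le) hNc hAN hs).2

/-- Cubic action. -/
theorem Extreme.cube_mem {S P A N V : Subgroup Ω} (h : Extreme S P A) (hS : IsPGroup p S)
    (hNP : N ≤ P) (hNc : ∀ m ∈ N, ∀ n ∈ N, m * n = n * m)
    (hAN : ∀ a ∈ A, ∀ n ∈ N, a * n * a⁻¹ ∈ N) (hVN : V ≤ N)
    (hAV : ∀ a ∈ A, ∀ v ∈ V, a * v * a⁻¹ ∈ V) {n : Ω} (hn : n ∈ N)
    (hV : ∀ k ∈ A ⊓ P, ⁅k, n⁆ ∈ V) {a : Ω} (ha : a ∈ A) :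
    (fun r : Ω => ⁅a, r⁆)^[3] n ∈ V := by
  have hA := h.isMax
  have hNS : N ≤ S := hNP.trans h.le
  have hxN : ∀ g ∈ A, ∀ m ∈ N, ⁅g, m⁆ ∈ N := fun g hg m hm => comm_mem hAN hg hm
  have hxV : ∀ g ∈ A, ∀ v ∈ V, ⁅g, v⁆ ∈ V := fun g hg v hv => mul_mem (hAV g hg v hv) (inv_mem hv)
  have hhom : ∀ g ∈ A, ∀ r ∈ N, ∀ s ∈ N, ⁅g, r * s⁆ = ⁅g, r⁆ * ⁅g, s⁆ := fun g hg r hr s hs =>
    comm_mul hNc hAN hg hr hs
  have hitN : ∀ g ∈ A, ∀ i, (fun r : Ω => ⁅g, r⁆)^[i] n ∈ N := by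
    intro g hg i
    induction i with
    | zero => exact hn
    | succ i ih => rw [Function.iterate_succ_apply']; exact hxN g hg _ ih
  -- changing `a` modulo `P` is harmless
  have hconv : ∀ k ∈ A ⊓ P, ∀ i, ∃ v ∈ V,
      (fun r : Ω => ⁅a * k, r⁆)^[i] n = v * (fun r : Ω => ⁅a, r⁆)^[i] n := by
    intro k hk i
    have hkx : ∀ i, ⁅k, (fun r : Ω => ⁅a, r⁆)^[i] n⁆ ∈ V := by
      intro i
      induction i with
      | zero => exact hV k hk
      | succ i ih =>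
        rw [Function.iterate_succ_apply', commutator_symm hNc (hA.2.1 k hk.1 a ha) (hitN a ha i)
          (hAN k hk.1 _ (hitN a ha i)) (hAN a ha _ (hitN a ha i))]
        exact hxV a ha _ ih
    induction i with
    | zero => exact ⟨1, one_mem V, by simp⟩
    | succ i ih =>
      obtain ⟨v, hv, hve⟩ := ih
      rw [Function.iterate_succ_apply', Function.iterate_succ_apply', hve,
        hhom _ (mul_mem ha hk.1) v (hVN hv) _ (hitN a ha i), commutator_mul_left' a k ((fun r : Ω => ⁅a, r⁆)^[i] n), ← mul_assoc]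
      exact ⟨_, mul_mem (hxV _ (mul_mem ha hk.1) v hv) (hAV a ha _ (hkx i)), rfl⟩
  by_cases hAP : A ≤ P
  · change ⁅a, ⁅a, ⁅a, n⁆⁆⁆ ∈ V
    exact hxV a ha _ (hxV a ha _ (hV a ⟨ha, hAP ha⟩))
  suffices hgoal : ∃ k ∈ A ⊓ P, (fun r : Ω => ⁅a * k, r⁆)^[3] n ∈ V by
    obtain ⟨k, hk, hk3⟩ := hgoal
    obtain ⟨v, hv, hve⟩ := hconv k hk 3
    rw [hve] at hk3
    exact (V.mul_mem_cancel_left hv).mp hk3
  have hs1 : ({n} : Set Ω) ⊆ N := Set.singleton_subset_iff.mpr hn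
  set M0 := Subgroup.closure (comms A ({n} : Set Ω))
  have hM0N : M0 ≤ N := closure_comms_le hAN hs1
  rcases h.dich_bsub hNP hNc hAN hs1 with hb | hb
  swap
  · obtain ⟨k, hk, hkB⟩ := hb a ha
    refine ⟨k, hk, ?_⟩
    have h2 : ⁅a * k, ⁅a * k, n⁆⁆ = 1 := commutatorElement_eq_one_iff_mul_comm.mpr
      (Subgroup.mem_centralizer_iff.mp hkB.2 _ ⟨a * k, hkB.1, n, rfl, rfl⟩).symm
    change ⁅a * k, ⁅a * k, ⁅a * k, n⁆⁆⁆ ∈ V
    rw [h2, commutatorElement_one_right]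
    exact one_mem V
  -- the smallest invariant piece whose centralizer lies in `P`
  obtain ⟨M, ⟨hM0, hMinv, hMP⟩, hMmin⟩ := Set.exists_min_image
    {M : Subgroup Ω | M ≤ M0 ∧ (∀ g ∈ A, ∀ m ∈ M, g * m * g⁻¹ ∈ M) ∧
      A ⊓ Subgroup.centralizer (M : Set Ω) ≤ P}
    (fun M : Subgroup Ω => Nat.card M) (Set.toFinite _)
    ⟨M0, le_rfl, conj_mem_closure_comms hAN hNc hs1, by rw [← bsub_eq]; exact hb⟩
  have hMN : M ≤ N := hM0.trans hM0N
  set M' := Subgroup.closure (comms A (M : Set Ω))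
  have hM'M : M' ≤ M := by
    refine (Subgroup.closure_le _).mpr ?_
    rintro _ ⟨g, hg, m, hm, rfl⟩
    exact mul_mem (hMinv g hg m hm) (inv_mem hm)
  have hM'lt : M' < M := by
    refine lt_of_le_of_ne hM'M fun e => ?_
    have hbot : M = ⊥ := eq_bot_of_le_commutator hS (hMN.trans hNS) <| by
      conv_lhs => rw [← e]
      refine (Subgroup.closure_le _).mpr ?_
      rintro _ ⟨g, hg, m, hm, rfl⟩
      rw [SetLike.mem_coe, ← commutatorElement_inv]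
      exact inv_mem (Subgroup.commutator_mem_commutator hm (hA.1 hg))
    refine hAP fun y hy => hMP ⟨hy, Subgroup.mem_centralizer_iff.mpr fun m hm => ?_⟩
    rw [hbot, SetLike.mem_coe, Subgroup.mem_bot] at hm
    rw [hm, one_mul, mul_one]
  rcases h.dich_bsub hNP hNc hAN (s := (M : Set Ω)) hMN with hb' | hb'
  · exfalso
    rw [bsub_eq] at hb'
    have := hMmin M' ⟨hM'M.trans hM0, conj_mem_closure_comms hAN hNc hMN, hb'⟩
    exact hM'lt.ne (Subgroup.eq_of_le_of_card_ge hM'M this)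
  obtain ⟨k, hk, hkB⟩ := hb' a ha
  refine ⟨k, hk, ?_⟩
  set a' := a * k
  have ha' : a' ∈ A := hkB.1
  -- `x² n` is realised by an element of `A`
  set w := ⁅a', ⁅a', n⁆⁆
  have hwN : w ∈ N := hxN a' ha' _ (hxN a' ha' n hn)
  have hwC : w ∈ N ⊓ Subgroup.centralizer (bsub A ({n} : Set Ω) : Set Ω) := by
    refine ⟨hwN, Subgroup.mem_centralizer_iff.mpr fun e he => ?_⟩
    refine commutatorElement_eq_one_iff_mul_comm.mp ?_
    change ⁅e, ⁅a', ⁅a', n⁆⁆⁆ = 1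
    rw [commutator_symm hNc (hA.2.1 e he.1 a' ha') (hxN a' ha' n hn)
      (hAN e he.1 _ (hxN a' ha' n hn)) (hAN a' ha' _ (hxN a' ha' n hn)),
      show ⁅e, ⁅a', n⁆⁆ = 1 from commutatorElement_eq_one_iff_mul_comm.mpr
        (Subgroup.mem_centralizer_iff.mp he.2 _ ⟨a', ha', n, rfl, rfl⟩).symm,
      commutatorElement_one_right]
  obtain ⟨b, hb2, hbc⟩ := (exact_single hA hNS hNc hAN hn).2 w hwC
  have hbN : ⁅b, n⁆ ∈ N := hxN b hb2 n hn
  -- on `[n, A]` the element `b` acts as the square of `a'`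
  have hagree : ∀ m ∈ M0, ⁅b, m⁆ = ⁅a', ⁅a', m⁆⁆ := by
    intro m hm
    induction hm using Subgroup.closure_induction with
    | mem m hm =>
      obtain ⟨g, hg, n', rfl, rfl⟩ := hm
      have hgn := hxN g hg _ hn
      rw [commutator_symm hNc (hA.2.1 b hb2 g hg) hn (hAN b hb2 _ hn) (hAN g hg _ hn),
        commutator_symm hNc (hA.2.1 a' ha' g hg) hn (hAN a' ha' _ hn) (hAN g hg _ hn),
        commutator_symm hNc (hA.2.1 a' ha' g hg) (hxN a' ha' _ hn) (hAN a' ha' _ (hxN a' ha' _ hn))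
          (hAN g hg _ (hxN a' ha' _ hn))]
      change ⁅g, ⁅b, n'⁆⁆ = ⁅g, w⁆
      calc ⁅g, ⁅b, n'⁆⁆ = ⁅g, ⁅b, n'⁆⁆ * ⁅g, ⁅b, n'⁆⁻¹ * w⁆ := by
            rw [show ⁅g, ⁅b, n'⁆⁻¹ * w⁆ = 1 from
              commutatorElement_eq_one_iff_mul_comm.mpr (hA.2.1 g hg _ hbc), mul_one]
        _ = ⁅g, w⁆ := by
            rw [← hhom g hg _ hbN _ (mul_mem (inv_mem hbN) hwN), mul_inv_cancel_left]
    | one => simp
    | mul r s hr hs ihr ihs =>
      rw [hhom b hb2 r (hM0N hr) s (hM0N hs), hhom a' ha' r (hM0N hr) s (hM0N hs),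
        hhom a' ha' _ (hxN a' ha' r (hM0N hr)) _ (hxN a' ha' s (hM0N hs)), ihr, ihs]
    | inv r hr ihr =>
      rw [comm_inv hNc hAN hb2 (hM0N hr), comm_inv hNc hAN ha' (hM0N hr),
        comm_inv hNc hAN ha' (hxN a' ha' r (hM0N hr)), ihr]
  have hbP : b ∈ P := hMP ⟨hb2, Subgroup.mem_centralizer_iff.mpr fun m hm => by
    have h3 : ⁅b, m⁆ = 1 := by
      rw [hagree m (hM0 hm)]
      refine commutatorElement_eq_one_iff_mul_comm.mpr ?_
      exact (Subgroup.mem_centralizer_iff.mp hkB.2 _ ⟨a', ha', m, hm, rfl⟩).symm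
    exact (commutatorElement_eq_one_iff_mul_comm.mp h3).symm⟩
  change ⁅a', w⁆ ∈ V
  have h4 : ⁅a', w⁆ = ⁅a', ⁅b, n⁆⁆ := by
    calc ⁅a', w⁆ = ⁅a', ⁅b, n⁆ * (⁅b, n⁆⁻¹ * w)⁆ := by rw [mul_inv_cancel_left]
      _ = ⁅a', ⁅b, n⁆⁆ := by
        rw [hhom a' ha' _ hbN _ (mul_mem (inv_mem hbN) hwN),
          show ⁅a', ⁅b, n⁆⁻¹ * w⁆ = 1 from
            commutatorElement_eq_one_iff_mul_comm.mpr (hA.2.1 a' ha' _ hbc), mul_one]
  rw [h4]
  exact hxV a' ha' _ (hV b ⟨hb2, hbP⟩)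

end Cfsg.Agent.Invol.JSeven
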