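import Cfsg.Agent.Lib.Grp.SchurZassenhaus

/-!
Regular elements in one coset of a normal `p`-extension are conjugate modulo the `p'`-part.
-/

namespace Cfsg.Agent.Invol.KO

universe u

variable {G : Type u} [Group G] [Finite G] {p : ℕ} [Fact p.Prime]

theorem conj_of_mul_inv_mem {P : Subgroup G} [P.Normal] (hP : IsPGroup p P) {a b : G}
    (ha : ¬ p ∣ orderOf a) (hb : ¬ p ∣ orderOf b) (hab : b * a⁻¹ ∈ P) :
    ∃ x ∈ P, b = x * a * x⁻¹ := by
  have hp : p.Prime := Fact.out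
  obtain ⟨j, hj⟩ := IsPGroup.iff_card.mp hP
  have key : ∀ {u v : G}, ¬ p ∣ orderOf v → v * u⁻¹ ∈ P → orderOf v ∣ orderOf u := by
    intro u v hv huv
    have h1 : (v : G ⧸ P) = (u : G ⧸ P) := by
      rw [QuotientGroup.eq]
      have := ‹P.Normal›.conj_mem _ (inv_mem huv) v⁻¹
      simpa [mul_assoc] using this
    have h2 : v ^ orderOf u ∈ P := by
      rw [← QuotientGroup.eq_one_iff, QuotientGroup.mk_pow, h1, ← QuotientGroup.mk_pow,
        pow_orderOf_eq_one, QuotientGroup.mk_one]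
    have h3 : orderOf (v ^ orderOf u) = 1 := Nat.eq_one_of_dvd_coprimes
      (Nat.Coprime.pow_left j (hp.coprime_iff_not_dvd.2 hv))
      (hj ▸ Subgroup.orderOf_dvd_natCard P h2) (orderOf_pow_dvd _)
    exact orderOf_dvd_of_pow_eq_one (orderOf_eq_one_iff.mp h3)
  have heq : orderOf b = orderOf a := Nat.dvd_antisymm (key hb hab)
    (key ha (by simpa using inv_mem hab))
  have hle : Subgroup.zpowers b ≤ P ⊔ Subgroup.zpowers a := by
    rw [Subgroup.zpowers_le, show b = (b * a⁻¹) * a by group]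
    exact Subgroup.mul_mem_sup hab (Subgroup.mem_zpowers a)
  have hsol : Group.IsSolvable P := by
    haveI := hP.isNilpotent
    infer_instance
  obtain ⟨x, hx, hconj⟩ := Grp.exists_conj_of_le_sup (N := P) (H := Subgroup.zpowers a)
    (K := Subgroup.zpowers b) (by rw [Subgroup.normalizer_eq_top_iff.mpr ‹P.Normal›]; exact le_top)
    hle (by rw [Nat.card_zpowers, Nat.card_zpowers, heq])
    (by rw [Nat.card_zpowers, hj]; exact Nat.Coprime.pow_left j (hp.coprime_iff_not_dvd.2 ha))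
    (Or.inl hsol)
  refine ⟨x, hx, ?_⟩
  have hmem : x * a * x⁻¹ ∈ Subgroup.zpowers b := by
    rw [← hconj]
    exact Subgroup.smul_mem_pointwise_smul a (MulAut.conj x) _ (Subgroup.mem_zpowers a)
  have hqa : ((x * a * x⁻¹ : G) : G ⧸ P) = (b : G ⧸ P) := by
    have h1 : (x : G ⧸ P) = 1 := (QuotientGroup.eq_one_iff x).2 hx
    have h2 : (b : G ⧸ P) = (a : G ⧸ P) := by
      rw [show b = (b * a⁻¹) * a by group, QuotientGroup.mk_mul,
        (QuotientGroup.eq_one_iff _).2 hab, one_mul]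
    simp [h1, h2]
  have hd : (x * a * x⁻¹) * b⁻¹ ∈ P := by
    rw [← QuotientGroup.eq_one_iff, QuotientGroup.mk_mul, hqa, QuotientGroup.mk_inv, mul_inv_cancel]
  have hd2 : (x * a * x⁻¹) * b⁻¹ ∈ Subgroup.zpowers b :=
    mul_mem hmem (inv_mem (Subgroup.mem_zpowers b))
  have h1 : orderOf ((x * a * x⁻¹) * b⁻¹) = 1 := Nat.eq_one_of_dvd_coprimes
    (Nat.Coprime.pow_left j (hp.coprime_iff_not_dvd.2 hb))
    (hj ▸ Subgroup.orderOf_dvd_natCard P hd)
    (by simpa [Nat.card_zpowers] using Subgroup.orderOf_dvd_natCard (Subgroup.zpowers b) hd2)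
  exact (mul_inv_eq_one.mp (orderOf_eq_one_iff.mp h1)).symm

/-- The same modulo a normal subgroup. -/
theorem conj_mod {K L : Subgroup G} [K.Normal] [L.Normal] (hKL : K ≤ L) {j : ℕ}
    (hidx : K.relIndex L = p ^ j) {a b : G} (ha : ¬ p ∣ orderOf a) (hb : ¬ p ∣ orderOf b)
    (hab : b * a⁻¹ ∈ L) : ∃ x ∈ L, b * (x * a * x⁻¹)⁻¹ ∈ K := by
  set f := QuotientGroup.mk' K with hf
  have hfs : Function.Surjective f := QuotientGroup.mk'_surjective K
  haveI : (L.map f).Normal := Subgroup.Normal.map inferInstance f hfs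
  have hP : IsPGroup p (L.map f) := by
    refine IsPGroup.of_card (n := j) ?_
    have h1 := Subgroup.relIndex_map_map f K L
    rw [QuotientGroup.ker_mk', sup_idem, sup_eq_left.2 hKL, QuotientGroup.map_mk'_self,
      Subgroup.relIndex_bot_left] at h1
    rw [h1, hidx]
  obtain ⟨_, ⟨x, hx, rfl⟩, he⟩ := conj_of_mul_inv_mem hP
    (fun h => ha (h.trans (orderOf_map_dvd f a))) (fun h => hb (h.trans (orderOf_map_dvd f b)))
    (a := f a) (b := f b) (by rw [← map_inv, ← map_mul]; exact ⟨_, hab, rfl⟩)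
  refine ⟨x, hx, (QuotientGroup.eq_one_iff _).mp ?_⟩
  show f (b * (x * a * x⁻¹)⁻¹) = 1
  rw [map_mul, map_inv, map_mul, map_mul, map_inv, he, mul_inv_cancel]

end Cfsg.Agent.Invol.KO
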