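import Cfsg.Agent.Lib.Char.Average
import Cfsg.Agent.Lib.Char.FongReynolds

/-!
Values of characters over an extendible invariant character, compared along the cosets of two
normal subgroups.
-/

namespace Cfsg.Agent.Invol.KO

open scoped ComplexConjugate
open Cfsg Cfsg.Agent.Char Cfsg.Agent.Block

set_option linter.unusedSectionVars false

universe u

variable {H : Type u} [Group H] [Fintype H] (K : Subgroup H) [hK : K.Normal] [Fintype K]

theorem avgN_classFun {f : H → ℂ} (hf : IsClassFunction H f) :
    IsClassFunction H (avgN K f) := by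
  intro g h
  show (Nat.card K : ℂ)⁻¹ * _ = (Nat.card K : ℂ)⁻¹ * _
  congr 1
  refine Fintype.sum_equiv (conjEquivN K h⁻¹).toEquiv _ _ fun n => ?_
  show f (n * (h * g * h⁻¹)) = f ((conjEquivN K h⁻¹ n : H) * g)
  rw [← hf ((conjEquivN K h⁻¹ n : H) * g) h, conjEquivN_apply]
  exact congrArg f (by group)

variable {μ : H → ℂ} (hμ : IsIrrCharacter H μ) (hμK : IsIrrCharacter K (fun n : K => μ n))

include hμ hμK in
theorem avg_normSq : avgN K (μ * fun g => conj (μ g)) = fun _ => 1 := by
  have h1 : avgN K (μ * fun g => conj (μ g)) 1 = 1 := by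
    rw [avgN_one_eq]
    refine Eq.trans ?_ (classInner_self_irr hμK)
    simp [classInner]
  have hc : IsCharacter H (avgN K (μ * fun g => conj (μ g))) :=
    IsChar.avgN K (IsChar.mul (IsIrr.isCharacter hμ) (IsChar.conj (IsIrr.isCharacter hμ)))
  refine eq_of_constituent_degree hc isIrr_one ?_ h1
  have hone : avgN K (fun _ : H => (1 : ℂ)) = fun _ => 1 := by
    funext g
    simp [avgN, Nat.card_eq_fintype_card]
  rw [classInner_avgN, hone, show classInner (μ * fun g => conj (μ g)) (fun _ => (1 : ℂ)) =
    classInner μ μ by simp [classInner], classInner_self_irr hμ]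
  exact one_ne_zero

include hμ hμK in
theorem sum_coset_normSq (y : H) : ∑ n : K, μ (n * y) * conj (μ (n * y)) = (Nat.card K : ℂ) := by
  have h := congrFun (avg_normSq K hμ hμK) y
  simp only [avgN, Pi.mul_apply] at h
  field_simp [Nat.card_pos.ne'] at h
  exact h

include hμ in
theorem avg_eq_zero {f : H → ℂ} (hf : IsCharacter H f)
    (h0 : classInner (fun n : K => f n) (fun n : K => μ n) = 0) :
    avgN K (f * fun g => conj (μ g)) = 0 := by
  refine IsChar.eq_zero_of_one_eq_zero
    (IsChar.avgN K (IsChar.mul hf (IsChar.conj (IsIrr.isCharacter hμ)))) ?_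
  rw [avgN_one_eq, ← h0]
  simp [classInner]

include hμ hμK in
theorem eq_mul_avg {f : H → ℂ} (hf : IsCharacter H f) {c : ℂ}
    (hres : (fun n : K => f n) = c • fun n : K => μ n) :
    f = μ * avgN K (f * fun g => conj (μ g)) := by
  classical
  obtain ⟨a, ha, hd⟩ := IsChar.exists_decomp_inner hf
  have hover : ∀ φ : IrrCharacter H, a φ ≠ 0 →
      μ * avgN K ((φ : H → ℂ) * fun g => conj (μ g)) = (φ : H → ℂ) := by
    intro φ hφ
    refine (gallagher K hμ φ.2 hμK ?_).2
    intro h0
    obtain ⟨η, hη⟩ := IsChar.exists_constituent' (IsChar.res (irr_isChar φ) K)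
      (show (φ : H → ℂ) ((1 : K) : H) ≠ 0 by simpa using irr_one_ne_zero φ)
    by_cases he : (η : K → ℂ) = fun n : K => μ n
    · exact hη (he ▸ h0)
    · have h := FR.inner_comp_expand K.subtype hd (η : K → ℂ)
      simp only [Subgroup.coe_subtype] at h
      rw [hres, classInner_smul_left, classInner_irr_ne hμK η.2 (Ne.symm he), mul_zero] at h
      have hn : ∀ ψ : IrrCharacter H, ∃ n : ℕ,
          classInner (fun k : K => (ψ : H → ℂ) k) (η : K → ℂ) = n := fun ψ =>
        IsChar.classInner_nat (IsChar.res (irr_isChar ψ) K) (irr_isChar η)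
      choose n hn using hn
      have hz : ((∑ ψ : IrrCharacter H, a ψ * n ψ : ℕ) : ℂ) = 0 := by
        rw [h, Nat.cast_sum]
        exact Finset.sum_congr rfl fun ψ _ => by rw [Nat.cast_mul, hn]
      have h2 := (Finset.sum_eq_zero_iff.mp (Nat.cast_eq_zero.mp hz)) φ (Finset.mem_univ _)
      exact hη ((hn φ).trans (by rw [(mul_eq_zero.mp h2).resolve_left hφ, Nat.cast_zero]))
  funext g
  have hlin : avgN K (f * fun g => conj (μ g)) = ∑ φ : IrrCharacter H,
      (a φ : ℂ) • avgN K ((φ : H → ℂ) * fun g => conj (μ g)) := by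
    conv_lhs => rw [hd]
    rw [Finset.sum_mul, avgN_sum]
    exact Finset.sum_congr rfl fun φ _ => by rw [smul_mul_assoc, avgN_smul]
  rw [hlin, Pi.mul_apply, Finset.sum_apply, Finset.mul_sum]
  conv_lhs => rw [hd, sum_irr_apply]
  refine Finset.sum_congr rfl fun φ _ => ?_
  by_cases hφ : a φ = 0
  · simp [hφ]
  · rw [Pi.smul_apply, smul_eq_mul]
    conv_lhs => rw [← hover φ hφ]
    simp only [Pi.mul_apply]
    ring

section Nested

variable (L : Subgroup H) [L.Normal] [Fintype L] (hKL : K ≤ L)

include hμ hμK hKL in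
/-- A function constant on the cosets of `K` is not weighted by the squared norms. -/
theorem sum_weighted (X : H → ℂ) (hX : ∀ (n : K) (y : H), X (n * y) = X y) (g : H) :
    ∑ l : L, X (l * g) * (μ (l * g) * conj (μ (l * g))) = ∑ l : L, X (l * g) := by
  have hshift : ∀ n : K, ∑ l : L, X (l * g) * (μ (l * g) * conj (μ (l * g))) =
      ∑ l : L, X (l * g) * (μ (n * (l * g)) * conj (μ (n * (l * g)))) := by
    intro n
    refine (Fintype.sum_equiv (Equiv.mulLeft (⟨(n : H), hKL n.2⟩ : L)) _ _ fun l => ?_).symm
    simp [mul_assoc, hX]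
  have h : (Nat.card K : ℂ) * ∑ l : L, X (l * g) * (μ (l * g) * conj (μ (l * g))) =
      (Nat.card K : ℂ) * ∑ l : L, X (l * g) := by
    calc (Nat.card K : ℂ) * ∑ l : L, X (l * g) * (μ (l * g) * conj (μ (l * g)))
        = ∑ n : K, ∑ l : L, X (l * g) * (μ (l * g) * conj (μ (l * g))) := by
          simp [Nat.card_eq_fintype_card]
      _ = ∑ n : K, ∑ l : L, X (l * g) * (μ (n * (l * g)) * conj (μ (n * (l * g)))) :=
          Finset.sum_congr rfl fun n _ => hshift n
      _ = ∑ l : L, X (l * g) * ∑ n : K, (μ (n * (l * g)) * conj (μ (n * (l * g)))) := by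
          rw [Finset.sum_comm]
          simp only [Finset.mul_sum]
      _ = _ := by
          simp only [sum_coset_normSq K hμ hμK]
          rw [Finset.mul_sum]
          exact Finset.sum_congr rfl fun l _ => mul_comm _ _
  exact mul_left_cancel₀ (Nat.cast_ne_zero.mpr Nat.card_pos.ne') h

include hμ hμK hKL in
/-- The squared norms of a function and of its projection along one coset of `L`. -/
theorem coset_identity {w w' : H → ℂ} (hμL : IsIrrCharacter L (fun l : L => μ l))
    (hw : w = μ * avgN K (w * fun g => conj (μ g)))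
    (hw' : w' = μ * avgN L (w * fun g => conj (μ g))) (g : H) (c : ℂ)
    (hF : ∀ l : L, avgN K (w * fun g => conj (μ g)) (l * g) = 0 ∨
      avgN K (w * fun g => conj (μ g)) (l * g) = c) :
    ∃ S : Finset L, (∀ l, l ∈ S ↔ avgN K (w * fun g => conj (μ g)) (l * g) ≠ 0) ∧
      ∑ l : L, w (l * g) * conj (w (l * g)) = (S.card : ℂ) * (c * conj c) ∧
      (Nat.card L : ℂ) * ∑ l : L, w' (l * g) * conj (w' (l * g)) =
        (S.card : ℂ) ^ 2 * (c * conj c) := by
  classical
  set F := avgN K (w * fun g => conj (μ g)) with hFdef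
  set F' := avgN L (w * fun g => conj (μ g)) with hF'def
  set S := Finset.univ.filter fun l : L => F (l * g) ≠ 0 with hS
  have hFK : ∀ (n : K) (y : H), F (n * y) = F y := fun n y => avgN_mul_left K _ n y
  have hind : ∀ l : L, F (l * g) = if l ∈ S then c else 0 := by
    intro l
    by_cases h : F (l * g) = 0
    · rw [if_neg (by simp [S, h]), h]
    · rw [if_pos (by simp [S, h]), (hF l).resolve_left h]
  refine ⟨S, fun l => by simp [S], ?_, ?_⟩
  · calc ∑ l : L, w (l * g) * conj (w (l * g))
        = ∑ l : L, (F (l * g) * conj (F (l * g))) * (μ (l * g) * conj (μ (l * g))) := by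
          refine Finset.sum_congr rfl fun l _ => ?_
          rw [hw]
          simp only [Pi.mul_apply, map_mul]
          ring
      _ = ∑ l : L, F (l * g) * conj (F (l * g)) :=
          sum_weighted K hμ hμK L hKL (fun y => F y * conj (F y))
            (fun n y => by simp only [hFK]) g
      _ = ∑ l : L, if l ∈ S then c * conj c else 0 := by
          refine Finset.sum_congr rfl fun l _ => ?_
          rw [hind l]
          split_ifs <;> simp
      _ = _ := by
          rw [Finset.sum_ite_mem, Finset.univ_inter, Finset.sum_const, nsmul_eq_mul]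
  · have hF'g : ∀ l : L, F' (l * g) = F' g := fun l => avgN_mul_left L _ l g
    have hval : (Nat.card L : ℂ) * F' g = (S.card : ℂ) * c := by
      calc (Nat.card L : ℂ) * F' g = ∑ l : L, w (l * g) * conj (μ (l * g)) := by
            simp [hF'def, avgN, Nat.card_pos.ne']
        _ = ∑ l : L, F (l * g) * (μ (l * g) * conj (μ (l * g))) := by
            refine Finset.sum_congr rfl fun l _ => ?_
            rw [hw]
            simp only [Pi.mul_apply]
            ring
        _ = ∑ l : L, F (l * g) := sum_weighted K hμ hμK L hKL F hFK g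
        _ = _ := by
            rw [Finset.sum_congr rfl fun l _ => hind l, Finset.sum_ite_mem, Finset.univ_inter,
              Finset.sum_const, nsmul_eq_mul]
    have hsum : ∑ l : L, w' (l * g) * conj (w' (l * g)) =
        (Nat.card L : ℂ) * (F' g * conj (F' g)) := by
      calc ∑ l : L, w' (l * g) * conj (w' (l * g))
          = ∑ l : L, (F' g * conj (F' g)) * (μ (l * g) * conj (μ (l * g))) := by
            refine Finset.sum_congr rfl fun l _ => ?_
            rw [hw']
            simp only [Pi.mul_apply, map_mul, hF'g]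
            ring
        _ = (F' g * conj (F' g)) * ∑ l : L, μ (l * g) * conj (μ (l * g)) := by
            rw [Finset.mul_sum]
        _ = _ := by rw [sum_coset_normSq L hμ hμL]; ring
    rw [hsum]
    have hc2 : conj ((Nat.card L : ℂ) * F' g) = conj ((S.card : ℂ) * c) := congrArg conj hval
    simp only [map_mul, map_natCast] at hc2
    calc (Nat.card L : ℂ) * ((Nat.card L : ℂ) * (F' g * conj (F' g)))
        = ((Nat.card L : ℂ) * F' g) * ((Nat.card L : ℂ) * conj (F' g)) := by ring
      _ = _ := by rw [hval, hc2]; ring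

end Nested

end Cfsg.Agent.Invol.KO
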