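import Cfsg.Agent.Lib.Invol.KOCoset
import Cfsg.Agent.Lib.Invol.KOConj
import Cfsg.Agent.Lib.Char.FongBlock
import Cfsg.Agent.Lib.Char.OverCyclic

/-!
A set of characters over an invariant character of `O_{p'}` whose weighted sum vanishes on the
singular elements is empty or full.
-/

namespace Cfsg.Agent.Invol.KO

open scoped ComplexConjugate
open Cfsg Cfsg.Agent.Char Cfsg.Agent.Block

set_option linter.unusedSectionVars false

universe u

variable {G : Type u} [Group G] [Fintype G] {p : ℕ}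

/-- The weighted sum of a set of characters. -/
noncomputable def wfun (U : Finset (IrrCharacter G)) : G → ℂ :=
  ∑ χ ∈ U, (χ : G → ℂ) 1 • (χ : G → ℂ)

theorem wfun_apply (U : Finset (IrrCharacter G)) (x : G) :
    wfun U x = ∑ χ ∈ U, (χ : G → ℂ) 1 * (χ : G → ℂ) x := by
  simp [wfun, Finset.sum_apply]

theorem wfun_classFun (U : Finset (IrrCharacter G)) : IsClassFunction G (wfun U) :=
  classFunction_sum fun χ _ => classFunction_smul _ (IsIrr.classFun χ.2)

theorem wfun_norm (U : Finset (IrrCharacter G)) :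
    ∑ x : G, wfun U x * conj (wfun U x) =
      (Nat.card G : ℂ) * ∑ χ ∈ U, (χ : G → ℂ) 1 * (χ : G → ℂ) 1 := by
  classical
  have h : classInner (wfun U) (wfun U) = ∑ χ ∈ U, (χ : G → ℂ) 1 * (χ : G → ℂ) 1 := by
    rw [wfun, classInner_sum_left]
    refine Finset.sum_congr rfl fun χ hχ => ?_
    rw [classInner_smul_left, classInner_sum_right, Finset.sum_eq_single χ (fun ψ _ hne => ?_)
      (fun h => absurd hχ h), classInner_smul_right, classInner_self_irr χ.2]
    · obtain ⟨d, -, hd⟩ := IsIrr.one_eq_pos χ.2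
      simp [hd]
    · rw [classInner_smul_right, classInner_irr_ne χ.2 ψ.2 fun e => hne (Subtype.ext e).symm,
        mul_zero]
  rw [← h, classInner, ← mul_assoc, mul_inv_cancel₀ (Nat.cast_ne_zero.mpr Nat.card_pos.ne'),
    one_mul]

section Ext

variable (L : Subgroup G) [L.Normal]

/-- An invariant character of a normal subgroup extends over any element. -/
theorem exists_ext_cyclic {μ : L → ℂ} (hμ : IsIrrCharacter L μ)
    (hinv : ∀ g : G, Char.conjN L g μ = μ) (g : G) :
    ∃ (H : Subgroup G) (hLH : L ≤ H) (ν : H → ℂ), g ∈ H ∧ IsIrrCharacter H ν ∧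
      ∀ x : L, ν ⟨x, hLH x.2⟩ = μ x := by
  classical
  set H := L ⊔ Subgroup.zpowers g with hH
  have hLH : L ≤ H := le_sup_left
  refine ⟨H, hLH, ?_⟩
  set K := L.subgroupOf H with hK
  haveI : K.Normal := Subgroup.Normal.subgroupOf inferInstance _
  have hgH : g ∈ H := Subgroup.mem_sup_right (Subgroup.mem_zpowers g)
  have hcyc : IsCyclic (H ⧸ K) := by
    refine ⟨⟨QuotientGroup.mk ⟨g, hgH⟩, fun q => ?_⟩⟩
    induction q using QuotientGroup.induction_on with
    | _ x =>
      obtain ⟨a, ha, b, hb, hab⟩ := Subgroup.mem_sup_of_normal_left.mp x.2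
      obtain ⟨k, rfl⟩ := Subgroup.mem_zpowers_iff.mp hb
      refine ⟨k, ?_⟩
      show (QuotientGroup.mk (s := K) ⟨g, hgH⟩) ^ k = _
      rw [← QuotientGroup.mk_zpow, QuotientGroup.eq, Subgroup.mem_subgroupOf]
      simp only [Subgroup.coe_mul, InvMemClass.coe_inv, SubgroupClass.coe_zpow, ← hab]
      have := ‹L.Normal›.conj_mem a ha (g ^ k)⁻¹
      simpa [mul_assoc] using this
  set μK : K → ℂ := fun x => μ ⟨((x : H) : G), x.2⟩ with hμK
  have hμKi : IsIrrCharacter K μK := IsIrr.comp_mulEquiv (Subgroup.subgroupOfEquivOfLe hLH) hμ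
  obtain ⟨k, ρ, hρ, hρeq, -, -⟩ := IsIrr.exists_rep hμKi
  haveI := hρ
  have hinv' : ∀ (t : H) (m : K), ρ.character (conjEquivN K t m) = ρ.character m := by
    intro t m
    have h := congrFun (hinv t) ⟨((m : H) : G), m.2⟩
    rw [conjEquivN_apply, hρeq]
    simpa [μK, Char.conjN] using h
  obtain ⟨ν, hν, hνres⟩ := Ext.exists_extension K ρ hinv' (Ext.cyclic_mem K ρ hinv' hcyc)
  exact ⟨ν, hgH, hν, fun x => (hνres ⟨⟨x, hLH x.2⟩, x.2⟩).trans (congrFun hρeq _)⟩

end Ext

variable (K L : Subgroup G) [hKn : K.Normal] [hLn : L.Normal] [Fintype K] [Fintype L]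

/-- The squared mass of a function along a coset. -/
noncomputable def mass (f : G → ℂ) (g : G) : ℝ := ∑ l : L, Complex.normSq (f (l * g))

theorem mass_cast (f : G → ℂ) (g : G) :
    (mass L f g : ℂ) = ∑ l : L, f (l * g) * conj (f (l * g)) := by
  rw [mass, Complex.ofReal_sum]
  exact Finset.sum_congr rfl fun l _ => (Complex.mul_conj _).symm

theorem sum_mass (f : G → ℂ) :
    ∑ g : G, (mass L f g : ℂ) = (Nat.card L : ℂ) * ∑ x : G, f x * conj (f x) := by
  simp only [mass_cast]
  rw [Finset.sum_comm, Nat.card_eq_fintype_card, ← Finset.card_univ, ← nsmul_eq_mul,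
    ← Finset.sum_const]
  exact Finset.sum_congr rfl fun l _ =>
    Fintype.sum_equiv (Equiv.mulLeft (l : G)) _ _ fun g => rfl

variable {K L}

variable [Fact p.Prime] {θ : IrrCharacter K} {μ : L → ℂ}

open Classical in
/-- The characters of `U` over `μ`. -/
noncomputable def overSet (μ : L → ℂ) (U : Finset (IrrCharacter G)) : Finset (IrrCharacter G) :=
  U.filter fun χ => classInner (fun x : L => (χ : G → ℂ) x) μ ≠ 0

theorem res_eq_smul {μ : L → ℂ} (hμ : IsIrrCharacter L μ) (hinv : ∀ g : G, Char.conjN L g μ = μ)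
    (χ : IrrCharacter G) (h : classInner (fun x : L => (χ : G → ℂ) x) μ ≠ 0) :
    (fun x : L => (χ : G → ℂ) x) = classInner (fun x : L => (χ : G → ℂ) x) μ • μ ∧
      (χ : G → ℂ) 1 = classInner (fun x : L => (χ : G → ℂ) x) μ * μ 1 := by
  classical
  have horb : conjOrbit L μ = {μ} := by
    ext φ
    rw [mem_conjOrbit, Finset.mem_singleton]
    exact ⟨fun ⟨g, hg⟩ => hg.symm.trans (hinv g), fun h => ⟨1, by rw [hinv, h]⟩⟩
  have hL := clifford L χ.2 hμ h
  rw [horb, Finset.sum_singleton] at hL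
  refine ⟨hL, ?_⟩
  simpa using congrFun hL 1

/-- What one coset contributes. -/
theorem coset_step (hKL : K ≤ L) {j : ℕ} (hidx : K.relIndex L = p ^ j) (hμ : IsIrrCharacter L μ)
    (hμres : ∀ (x : L) (hx : (x : G) ∈ K), μ x = (θ : K → ℂ) ⟨x, hx⟩)
    (hμinv : ∀ g : G, Char.conjN L g μ = μ) (U : Finset (IrrCharacter G))
    (hU : ∀ χ ∈ U, (fun n : K => (χ : G → ℂ) n) =
      classInner (fun n : K => (χ : G → ℂ) n) (θ : K → ℂ) • (θ : K → ℂ))
    (hv : ∀ x : G, p ∣ orderOf x → wfun U x = 0) (g : G) :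
    ∃ s : ℕ, (Nat.card L : ℂ) * (mass L (wfun (overSet μ U)) g : ℂ) =
        (s : ℂ) * (mass L (wfun U) g : ℂ) ∧
      (mass L (wfun U) g ≠ 0 → Nat.card K ≤ s) ∧
      (wfun U g ≠ 0 → s ≤ Nat.card K → ∀ x ∈ L, x * g * x⁻¹ * g⁻¹ ∈ K) := by
  classical
  obtain ⟨H, hLH, ν, hgH, hν, hνμ⟩ := exists_ext_cyclic L hμ hμinv g
  letI : Fintype H := Fintype.ofFinite _
  set K' := K.subgroupOf H with hK'
  set L' := L.subgroupOf H with hL'
  haveI : K'.Normal := Subgroup.Normal.subgroupOf inferInstance _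
  haveI : L'.Normal := Subgroup.Normal.subgroupOf inferInstance _
  letI : Fintype K' := Fintype.ofFinite _
  letI : Fintype L' := Fintype.ofFinite _
  have hKH : K ≤ H := hKL.trans hLH
  let eK : K' ≃* K := Subgroup.subgroupOfEquivOfLe hKH
  let eL : L' ≃* L := Subgroup.subgroupOfEquivOfLe hLH
  have hKL' : K' ≤ L' := fun x hx => hKL hx
  have hνK : (fun n : K' => ν n) = fun n : K' => (θ : K → ℂ) (eK n) :=
    funext fun n => (hνμ ⟨((n : H) : G), hKL n.2⟩).trans (hμres ⟨((n : H) : G), hKL n.2⟩ n.2)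
  have hνL : (fun n : L' => ν n) = fun n : L' => μ (eL n) :=
    funext fun n => hνμ ⟨((n : H) : G), n.2⟩
  have hνKi : IsIrrCharacter K' (fun n : K' => ν n) := hνK ▸ IsIrr.comp_mulEquiv eK θ.2
  have hνLi : IsIrrCharacter L' (fun n : L' => ν n) := hνL ▸ IsIrr.comp_mulEquiv eL hμ
  set w : H → ℂ := fun y => wfun U (y : G) with hw
  set w' : H → ℂ := fun y => wfun (overSet μ U) (y : G) with hw'
  set nc : H → ℂ := fun y => conj (ν y)
  have hres : ∀ χ : IrrCharacter G, IsCharacter H (fun y : H => (χ : G → ℂ) y) := fun χ =>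
    IsChar.res (irr_isChar χ) H
  have hwsum : ∀ V : Finset (IrrCharacter G), (fun y : H => wfun V (y : G)) =
      ∑ χ ∈ V, (χ : G → ℂ) 1 • fun y : H => (χ : G → ℂ) y := fun V => by
    funext y
    simp [wfun_apply, Finset.sum_apply]
  have havg : ∀ (N : Subgroup H) [N.Normal] [Fintype N], avgN N (w * nc) =
      ∑ χ ∈ U, (χ : G → ℂ) 1 • avgN N ((fun y : H => (χ : G → ℂ) y) * nc) := by
    intro N _ _
    rw [hw, hwsum, Finset.sum_mul, avgN_sum]
    exact Finset.sum_congr rfl fun χ _ => by rw [smul_mul_assoc, avgN_smul]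
  have hw1 : w = ν * avgN K' (w * nc) := by
    rw [havg, hw, hwsum, Finset.mul_sum]
    refine Finset.sum_congr rfl fun χ hχ => ?_
    rw [mul_smul_comm]
    congr 1
    refine eq_mul_avg K' hν hνKi (hres χ) (c := classInner (fun n : K => (χ : G → ℂ) n)
      (θ : K → ℂ)) ?_
    rw [hνK]
    funext n
    exact congrFun (hU χ hχ) (eK n)
  have hw2 : w' = ν * avgN L' (w * nc) := by
    rw [havg, hw', hwsum, Finset.mul_sum, overSet, Finset.sum_filter]
    refine Finset.sum_congr rfl fun χ _ => ?_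
    rw [mul_smul_comm]
    have hcc : classInner (fun n : L' => (χ : G → ℂ) (n : H)) (fun n : L' => ν n) =
        classInner (fun x : L => (χ : G → ℂ) x) μ := by
      rw [hνL]
      exact classInner_comp_surjective eL.toMonoidHom eL.surjective
        (fun x : L => (χ : G → ℂ) x) μ
    split_ifs with h
    · congr 1
      refine eq_mul_avg L' hν hνLi (hres χ)
        (c := classInner (fun x : L => (χ : G → ℂ) x) μ) ?_
      rw [hνL]
      funext n
      exact congrFun (res_eq_smul hμ hμinv χ h).1 (eL n)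
    · rw [avg_eq_zero L' hν (hres χ) (hcc.trans (not_not.mp h))]
      simp
  set F := avgN K' (w * nc) with hF
  have hFc : IsClassFunction H F := by
    refine avgN_classFun K' fun a b => ?_
    simp only [Pi.mul_apply, nc, hw]
    rw [IsIrr.classFun hν a b]
    exact congrArg (· * _) (wfun_classFun U (a : G) (b : G))
  have hFK : ∀ (n : K') (y : H), F (n * y) = F y := fun n y => avgN_mul_left K' _ n y
  set gH : H := ⟨g, hgH⟩ with hgH'
  have hreg : ∀ y : H, F y ≠ 0 → ∃ n : K', ¬ p ∣ orderOf (((n : H) * y : H) : G) := by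
    intro y hy
    by_contra hno
    push Not at hno
    refine hy ?_
    simp only [hF, avgN, Pi.mul_apply, hw]
    rw [Finset.sum_eq_zero fun n _ => by rw [hv _ (hno n), zero_mul], mul_zero]
  have hconst : ∃ c : ℂ, ∀ l : L', F (l * gH) = 0 ∨ F (l * gH) = c := by
    by_cases hall : ∀ l : L', F (l * gH) = 0
    · exact ⟨0, fun l => Or.inl (hall l)⟩
    push Not at hall
    obtain ⟨l₀, hl₀⟩ := hall
    refine ⟨F (l₀ * gH), fun l => or_iff_not_imp_left.mpr fun hl => ?_⟩
    obtain ⟨n₀, hn₀⟩ := hreg _ hl₀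
    obtain ⟨n, hn⟩ := hreg _ hl
    have hmem : (((n : H) * (l * gH) : H) : G) * (((n₀ : H) * (l₀ * gH) : H) : G)⁻¹ ∈ L := by
      have e : (((n : H) * (l * gH) : H) : G) * (((n₀ : H) * (l₀ * gH) : H) : G)⁻¹ =
          (((n : H) : G) * (l : H)) * ((((n₀ : H) : G) * (l₀ : H))⁻¹) := by
        simp only [Subgroup.coe_mul]
        group
      rw [e]
      exact mul_mem (mul_mem (hKL n.2) l.2) (inv_mem (mul_mem (hKL n₀.2) l₀.2))
    obtain ⟨x, hx, hxm⟩ := conj_mod hKL hidx hn₀ hn hmem
    set a : H := (n₀ : H) * (l₀ * gH) with ha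
    set b : H := (n : H) * (l * gH) with hb
    set xH : H := ⟨x, hLH hx⟩ with hxH
    set m : H := b * (xH * a * xH⁻¹)⁻¹ with hm
    have hmK : m ∈ K' := by
      rw [hK', Subgroup.mem_subgroupOf]
      simpa [m] using hxm
    have e1 : F b = F a := by
      rw [← hFc a xH, ← hFK ⟨m, hmK⟩ (xH * a * xH⁻¹)]
      congr 1
      show b = m * (xH * a * xH⁻¹)
      rw [hm, inv_mul_cancel_right]
    rw [ha, hb, hFK, hFK] at e1
    exact e1
  obtain ⟨c, hc⟩ := hconst
  obtain ⟨S, hSmem, hS1, hS2⟩ := coset_identity K' hν hνKi L' hKL' hνLi hw1 hw2 gH c hc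
  have hcardK : Nat.card K' = Nat.card K := Nat.card_congr eK.toEquiv
  have hcardL : Nat.card L' = Nat.card L := Nat.card_congr eL.toEquiv
  have hm1 : (mass L (wfun U) g : ℂ) = (S.card : ℂ) * (c * conj c) := by
    rw [← hS1, mass_cast]
    exact (Fintype.sum_equiv eL.toEquiv _ _ fun l => rfl).symm
  have hm2 : (Nat.card L : ℂ) * (mass L (wfun (overSet μ U)) g : ℂ) =
      (S.card : ℂ) ^ 2 * (c * conj c) := by
    rw [← hS2, hcardL, mass_cast]
    congr 1
    exact (Fintype.sum_equiv eL.toEquiv _ _ fun l => rfl).symm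
  have hle : ∀ l ∈ S, Nat.card K ≤ S.card ∧ (S.card ≤ Nat.card K →
      ∀ l' ∈ S, ((l' : H) : G) * ((l : H) : G)⁻¹ ∈ K) := by
    intro l hl
    let emb : K' → L' := fun n => ⟨(n : H), hKL' n.2⟩ * l
    have hemb : Function.Injective emb := fun a b h =>
      Subtype.ext (congrArg (fun z : L' => (z : H)) (mul_right_cancel h) :)
    have hsub : Finset.univ.image emb ⊆ S := by
      intro z hz
      obtain ⟨n, -, rfl⟩ := Finset.mem_image.mp hz
      rw [hSmem]
      show F (((n : H) * (l : H)) * gH) ≠ 0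
      rw [mul_assoc, hFK]
      exact (hSmem l).mp hl
    have hcard : (Finset.univ.image emb).card = Nat.card K := by
      rw [Finset.card_image_of_injective _ hemb, Finset.card_univ, ← Nat.card_eq_fintype_card,
        hcardK]
    refine ⟨hcard ▸ Finset.card_le_card hsub, fun hle l' hl' => ?_⟩
    rw [← Finset.eq_of_subset_of_card_le hsub (hcard ▸ hle)] at hl'
    obtain ⟨n, -, rfl⟩ := Finset.mem_image.mp hl'
    have hn : ((n : H) : G) ∈ K := n.2
    simpa [emb] using hn
  refine ⟨S.card, by rw [hm2, hm1]; ring, fun hne => ?_, fun hgne hcard x hx => ?_⟩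
  · obtain ⟨l, hl⟩ : S.Nonempty := by
      rw [Finset.nonempty_iff_ne_empty]
      intro h
      refine hne ?_
      rw [h, Finset.card_empty, Nat.cast_zero, zero_mul] at hm1
      exact_mod_cast hm1
    exact (hle l hl).1
  · have hg0 : F gH ≠ 0 := fun h0 => hgne (by
      have := congrFun hw1 gH
      rw [Pi.mul_apply, h0, mul_zero] at this
      simpa [hw, gH] using this)
    have h1 : (1 : L') ∈ S := (hSmem 1).mpr (by simpa using hg0)
    set xH : H := ⟨x, hLH hx⟩ with hxH
    have hlmem : xH * gH * xH⁻¹ * gH⁻¹ ∈ L' := by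
      rw [hL', Subgroup.mem_subgroupOf]
      have h2 : x * (g * x⁻¹ * g⁻¹) ∈ L := mul_mem hx (hLn.conj_mem _ (inv_mem hx) g)
      simpa [xH, gH, mul_assoc] using h2
    have hlS : (⟨_, hlmem⟩ : L') ∈ S := (hSmem _).mpr (by
      show F (xH * gH * xH⁻¹ * gH⁻¹ * gH) ≠ 0
      rw [inv_mul_cancel_right, hFc]
      exact hg0)
    have := (hle 1 h1).2 hcard _ hlS
    simpa [xH, gH] using this

/-- The invariant case. -/
theorem mem_of_invariant {M : Ideal AlgInt} (hKL : K ≤ L) {j : ℕ}
    (hidx : K.relIndex L = p ^ j) (hcop : ¬ p ∣ Nat.card K) (Q : Subgroup G) (hQL : Q ≤ L)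
    (hQp : IsPGroup p Q)
    (hcent : ∀ x ∈ Subgroup.centralizer (Q : Set G), ¬ p ∣ orderOf x → x ∈ K)
    (hinv : Fong.Fixed K θ) (U : Finset (IrrCharacter G))
    (hU : ∀ χ ∈ U, classInner (fun n : K => (χ : G → ℂ) n) (θ : K → ℂ) ≠ 0)
    (hv : ∀ x : G, p ∣ orderOf x → wfun U x = 0) (hne : U.Nonempty) (ψ : IrrCharacter G)
    (hψ : classInner (fun n : K => (ψ : G → ℂ) n) (θ : K → ℂ) ≠ 0) : ψ ∈ U := by
  classical
  have hp : p.Prime := Fact.out
  obtain ⟨μ, hμ, hμres, hμinv⟩ := Fong.exists_invariant_ext L hKL hcop hidx hinv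
  have hresK : ∀ χ : IrrCharacter G, classInner (fun n : K => (χ : G → ℂ) n) (θ : K → ℂ) ≠ 0 →
      (fun n : K => (χ : G → ℂ) n) =
        classInner (fun n : K => (χ : G → ℂ) n) (θ : K → ℂ) • (θ : K → ℂ) ∧
      (χ : G → ℂ) 1 = classInner (fun n : K => (χ : G → ℂ) n) (θ : K → ℂ) * (θ : K → ℂ) 1 :=
    fun χ h => res_eq_smul θ.2 (fun g => hinv.conj g) χ h
  have hμ1 : μ 1 = (θ : K → ℂ) 1 := hμres 1 (one_mem K)
  set d := (θ : K → ℂ) 1 with hd
  have hd0 : d ≠ 0 := irr_one_ne_zero θ
  set A := ∑ χ ∈ U, (χ : G → ℂ) 1 * (χ : G → ℂ) 1 with hA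
  set A' := ∑ χ ∈ overSet μ U, (χ : G → ℂ) 1 * (χ : G → ℂ) 1 with hA'
  -- the two masses
  have hAA : (Nat.card L : ℂ) * A' = (Nat.card K : ℂ) * A := by
    have hLsum : ∑ x : L, wfun U x * conj (μ x) = ∑ n : K, wfun U n * conj ((θ : K → ℂ) n) := by
      rw [← Finset.sum_filter_add_sum_filter_not Finset.univ (fun x : L => (x : G) ∈ K)
        (fun x : L => wfun U x * conj (μ x)), Finset.sum_eq_zero (s := Finset.univ.filter
          (fun x : L => ¬ (x : G) ∈ K)) (fun x hx => by
            rw [hv _ (by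
              by_contra h
              exact (Finset.mem_filter.1 hx).2 (Fong.mem_of_regular_of_index hidx x.2 h)),
              zero_mul]), add_zero]
      symm
      refine Finset.sum_bij' (fun k _ => (⟨k, hKL k.2⟩ : L))
        (fun x hx => (⟨x, (Finset.mem_filter.1 hx).2⟩ : K)) (fun k _ => by simp)
        (fun x _ => Finset.mem_univ _) (fun k _ => rfl) (fun x _ => rfl) fun k _ => ?_
      rw [hμres ⟨k, hKL k.2⟩ k.2]
    have e1 : ∑ x : L, wfun U x * conj (μ x) = (Nat.card L : ℂ) * (A' / d) := by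
      calc ∑ x : L, wfun U x * conj (μ x)
          = ∑ χ ∈ U, (χ : G → ℂ) 1 *
              ((Nat.card L : ℂ) * classInner (fun x : L => (χ : G → ℂ) x) μ) := by
            simp only [classInner, wfun_apply, Finset.sum_mul]
            rw [Finset.sum_comm]
            refine Finset.sum_congr rfl fun χ _ => ?_
            rw [← mul_assoc (Nat.card L : ℂ), mul_inv_cancel₀
              (Nat.cast_ne_zero.mpr Nat.card_pos.ne'), one_mul, Finset.mul_sum]
            exact Finset.sum_congr rfl fun x _ => by ring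
        _ = _ := by
            rw [hA', overSet, Finset.sum_filter, Finset.sum_div, Finset.mul_sum]
            refine Finset.sum_congr rfl fun χ _ => ?_
            split_ifs with h
            · have h1 := (res_eq_smul hμ hμinv χ h).2
              rw [hμ1] at h1
              field_simp
              linear_combination (-((χ : G → ℂ) 1)) * h1
            · rw [not_not.mp h]
              simp
    have e2 : ∑ n : K, wfun U n * conj ((θ : K → ℂ) n) = (Nat.card K : ℂ) * (A / d) := by
      calc ∑ n : K, wfun U n * conj ((θ : K → ℂ) n)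
          = ∑ χ ∈ U, (χ : G → ℂ) 1 *
              ((Nat.card K : ℂ) * classInner (fun n : K => (χ : G → ℂ) n) (θ : K → ℂ)) := by
            simp only [classInner, wfun_apply, Finset.sum_mul]
            rw [Finset.sum_comm]
            refine Finset.sum_congr rfl fun χ _ => ?_
            rw [← mul_assoc (Nat.card K : ℂ), mul_inv_cancel₀
              (Nat.cast_ne_zero.mpr Nat.card_pos.ne'), one_mul, Finset.mul_sum]
            exact Finset.sum_congr rfl fun x _ => by ring
        _ = _ := by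
            rw [hA, Finset.sum_div, Finset.mul_sum]
            refine Finset.sum_congr rfl fun χ hχ => ?_
            have h1 := (hresK χ (hU χ hχ)).2
            field_simp
            linear_combination (-((χ : G → ℂ) 1)) * h1
    rw [hLsum, e2] at e1
    field_simp at e1
    linear_combination -e1
  -- every coset
  choose s hs1 hs2 hs3 using fun g : G =>
    coset_step hKL hidx hμ hμres hμinv U (fun χ hχ => (hresK χ (hU χ hχ)).1) hv g
  have htot : ∑ g : G, ((s g : ℝ) - Nat.card K) * mass L (wfun U) g = 0 := by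
    have h : ∑ g : G, ((s g : ℂ) - (Nat.card K : ℂ)) * (mass L (wfun U) g : ℂ) = 0 := by
      simp only [sub_mul, Finset.sum_sub_distrib, ← hs1, ← Finset.mul_sum, sum_mass, wfun_norm]
      linear_combination (Nat.card L : ℂ) * (Nat.card G : ℂ) * hAA
    exact_mod_cast h
  have hsupp : ∀ g : G, g ∉ K → wfun U g = 0 := by
    intro g hgK
    by_contra hg
    have hnn : ∀ y : G, 0 ≤ mass L (wfun U) y := fun y =>
      Finset.sum_nonneg fun l _ => Complex.normSq_nonneg _
    have hnon : ∀ y ∈ (Finset.univ : Finset G),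
        0 ≤ ((s y : ℝ) - Nat.card K) * mass L (wfun U) y := fun y _ => by
      by_cases h : mass L (wfun U) y = 0
      · simp [h]
      · exact mul_nonneg (sub_nonneg.mpr (by exact_mod_cast hs2 y h)) (hnn y)
    have hpos : mass L (wfun U) g ≠ 0 := by
      intro h0
      have h1 := (Finset.sum_eq_zero_iff_of_nonneg fun l _ => Complex.normSq_nonneg _).mp h0
        (1 : L) (Finset.mem_univ _)
      simp only [OneMemClass.coe_one, one_mul, Complex.normSq_eq_zero] at h1
      exact hg h1
    have h2 := (mul_eq_zero.mp ((Finset.sum_eq_zero_iff_of_nonneg hnon).mp htot g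
      (Finset.mem_univ g))).resolve_right hpos
    have h3 : s g = Nat.card K := by exact_mod_cast sub_eq_zero.mp h2
    have hcomm := hs3 g hg h3.le
    have hregg : ¬ p ∣ orderOf g := fun h => hg (hv g h)
    -- a fixed point of `Q` on the coset
    set o : Set G := {y : G | y * g⁻¹ ∈ K} with ho
    let act : MulAction Q o :=
      { smul := fun x y => ⟨(x : G) * y * (x : G)⁻¹, by
          show (x : G) * y * (x : G)⁻¹ * g⁻¹ ∈ K
          have e : (x : G) * y * (x : G)⁻¹ * g⁻¹ = ((x : G) * ((y : G) * g⁻¹) * (x : G)⁻¹) *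
              ((x : G) * g * (x : G)⁻¹ * g⁻¹) := by group
          rw [e]
          exact mul_mem (hKn.conj_mem _ y.2 _) (hcomm x (hQL x.2))⟩
        one_smul := fun y => Subtype.ext (by
          show ((1 : Q) : G) * y * ((1 : Q) : G)⁻¹ = (y : G)
          simp)
        mul_smul := fun a b y => Subtype.ext (by
          show ((a * b : Q) : G) * y * ((a * b : Q) : G)⁻¹ =
            (a : G) * ((b : G) * y * (b : G)⁻¹) * (a : G)⁻¹
          simp [mul_assoc]) }
    have hocard : Nat.card o = Nat.card K := Nat.card_congr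
      { toFun := fun y => ⟨(y : G) * g⁻¹, y.2⟩
        invFun := fun k => ⟨(k : G) * g, by simp [ho]⟩
        left_inv := fun y => by simp
        right_inv := fun k => by simp }
    obtain ⟨y, hy⟩ := @IsPGroup.nonempty_fixed_point_of_prime_not_dvd_card p Q _ hQp _ o act
      (by rw [hocard]; exact hcop)
    have hyc : (y : G) ∈ Subgroup.centralizer (Q : Set G) := by
      refine Subgroup.mem_centralizer_iff.mpr fun x hx => ?_
      have h4 : x * y * x⁻¹ = (y : G) := congrArg Subtype.val (hy ⟨x, hx⟩)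
      exact mul_inv_eq_iff_eq_mul.mp h4
    have hyr : ¬ p ∣ orderOf (y : G) := by
      intro hdvd
      have h5 : (y : G) ^ orderOf g ∈ K := by
        have h6 : ((y : G) : G ⧸ K) = (g : G ⧸ K) := by
          have h7 : (((y : G) * g⁻¹ : G) : G ⧸ K) = 1 := (QuotientGroup.eq_one_iff _).2 y.2
          simpa [mul_inv_eq_one] using h7
        rw [← QuotientGroup.eq_one_iff, QuotientGroup.mk_pow, h6, ← QuotientGroup.mk_pow,
          pow_orderOf_eq_one, QuotientGroup.mk_one]
      have h8 : orderOf (y : G) ∣ orderOf g * Nat.card K := by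
        refine orderOf_dvd_of_pow_eq_one ?_
        rw [pow_mul]
        exact congrArg Subtype.val (pow_card_eq_one' (x := (⟨_, h5⟩ : K)))
      exact (hp.dvd_mul.mp (hdvd.trans h8)).elim hregg hcop
    have hgmem : g = ((y : G) * g⁻¹)⁻¹ * (y : G) := by group
    exact hgK (hgmem ▸ mul_mem (inv_mem y.2) (hcent _ hyc hyr))
  -- the function is a multiple of the induced character
  set a := ∑ χ ∈ U, (χ : G → ℂ) 1 * classInner (fun n : K => (χ : G → ℂ) n) (θ : K → ℂ) with ha
  have hwK : ∀ n : K, wfun U (n : G) = a * (θ : K → ℂ) n := by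
    intro n
    rw [wfun_apply, ha, Finset.sum_mul]
    refine Finset.sum_congr rfl fun χ hχ => ?_
    have := congrFun (hresK χ (hU χ hχ)).1 n
    simp only [Pi.smul_apply, smul_eq_mul] at this
    rw [this]
    ring
  have hw : wfun U = extendByZero K (a • (θ : K → ℂ)) := funext fun g => by
    by_cases hg : g ∈ K
    · rw [extendByZero_of_mem _ hg]
      exact hwK ⟨g, hg⟩
    · rw [extendByZero_not_mem _ hg, hsupp g hg]
  have hinner : ∀ χ : IrrCharacter G, classInner (wfun U) (χ : G → ℂ) =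
      (Nat.card G : ℂ)⁻¹ * (a * ((Nat.card K : ℂ) *
        conj (classInner (fun n : K => (χ : G → ℂ) n) (θ : K → ℂ)))) := by
    intro χ
    rw [classInner_conj_symm, classInner, classInner, hw, sum_extendByZero_mul,
      ← mul_assoc (Nat.card K : ℂ), mul_inv_cancel₀ (Nat.cast_ne_zero.mpr Nat.card_pos.ne'),
      one_mul, Finset.mul_sum (a := a)]
    congr 1
    exact Finset.sum_congr rfl fun n _ => by simp only [Pi.smul_apply, smul_eq_mul]; ring
  have hcoef : ∀ χ : IrrCharacter G,
      classInner (wfun U) (χ : G → ℂ) = if χ ∈ U then (χ : G → ℂ) 1 else 0 := by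
    intro χ
    rw [wfun, classInner_sum_left, ← Finset.sum_ite_eq' U χ (fun φ => (φ : G → ℂ) 1)]
    refine Finset.sum_congr rfl fun φ _ => ?_
    rw [classInner_smul_left]
    split_ifs with h
    · rw [h, classInner_self_irr χ.2, mul_one]
    · rw [classInner_irr_ne φ.2 χ.2 fun e => h (Subtype.ext e), mul_zero]
  obtain ⟨χ₀, hχ₀⟩ := hne
  have ha0 : a ≠ 0 := fun h0 => irr_one_ne_zero χ₀ (by
    have h := hinner χ₀
    rw [hcoef, if_pos hχ₀, h0] at h
    simpa using h)
  by_contra hψU
  have h := hinner ψ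
  rw [hcoef, if_neg hψU, eq_comm] at h
  simp [ha0, hψ, Nat.card_pos.ne'] at h

end Cfsg.Agent.Invol.KO
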