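import Cfsg.Agent.Lib.Invol.KOInvariant
import Cfsg.Agent.Lib.Char.FongReynolds
import Cfsg.Agent.Lib.Char.FongCores
import Cfsg.Agent.Lib.Block.PPartDerived

/-!
The theorem of Kiyota and Okuyama: in a `p`-solvable group a set of characters whose weighted sum
vanishes on the singular elements is a union of blocks.
-/

namespace Cfsg.Agent.Invol.KO

open scoped ComplexConjugate
open Cfsg Cfsg.Agent.Char Cfsg.Agent.Block

set_option linter.unusedSectionVars false

universe u

theorem wfun_inner {G : Type u} [Group G] [Fintype G] [DecidableEq (IrrCharacter G)]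
    (U : Finset (IrrCharacter G)) (χ : IrrCharacter G) :
    classInner (wfun U) (χ : G → ℂ) = if χ ∈ U then (χ : G → ℂ) 1 else 0 := by
  rw [wfun, classInner_sum_left, ← Finset.sum_ite_eq' U χ (fun φ => (φ : G → ℂ) 1)]
  refine Finset.sum_congr rfl fun φ _ => ?_
  rw [classInner_smul_left]
  split_ifs with h
  · rw [h, classInner_self_irr χ.2, mul_one]
  · rw [classInner_irr_ne φ.2 χ.2 fun e => h (Subtype.ext e), mul_zero]

section Proj

variable {H : Type u} [Group H] [Fintype H] {p : ℕ} [Fact p.Prime]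
  (K : Subgroup H) [hKn : K.Normal] [Fintype K]

theorem singular_mul (hcop : ¬ p ∣ Nat.card K) {x : H} (hx : p ∣ orderOf x) (n : K) :
    p ∣ orderOf ((n : H) * x) := by
  by_contra h
  set r := orderOf ((n : H) * x) with hr
  have hxK : x ^ r ∈ K := by
    rw [← QuotientGroup.eq_one_iff, QuotientGroup.mk_pow]
    have h1 : (x : H ⧸ K) = (((n : H) * x : H) : H ⧸ K) := by
      rw [QuotientGroup.mk_mul, (QuotientGroup.eq_one_iff (n : H)).2 n.2, one_mul]
    rw [h1, ← QuotientGroup.mk_pow, hr, pow_orderOf_eq_one, QuotientGroup.mk_one]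
  have h2 : orderOf x ∣ r * Nat.card K := by
    refine orderOf_dvd_of_pow_eq_one ?_
    rw [pow_mul]
    exact congrArg Subtype.val (pow_card_eq_one' (x := (⟨_, hxK⟩ : K)))
  exact ((Fact.out : p.Prime).dvd_mul.mp (hx.trans h2)).elim h hcop

open Classical in
/-- The part over an invariant character of a combination vanishing on the singular elements. -/
theorem over_vanish (hcop : ¬ p ∣ Nat.card K) {θ : K → ℂ} (hθ : IsIrrCharacter K θ)
    (hinv : ∀ g : H, Char.conjN K g θ = θ) (a : IrrCharacter H → ℂ)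
    (hv : ∀ x : H, p ∣ orderOf x → ∑ φ : IrrCharacter H, a φ * (φ : H → ℂ) x = 0)
    {x : H} (hx : p ∣ orderOf x) :
    ∑ φ ∈ Finset.univ.filter (fun φ : IrrCharacter H =>
      classInner (fun n : K => (φ : H → ℂ) n) θ ≠ 0), a φ * (φ : H → ℂ) x = 0 := by
  set β : H → ℂ := extendByZero K (fun n => conj (θ n)) with hβdef
  have hβ : IsClassFunction H β := by
    intro g h
    by_cases hg : g ∈ K
    · have hg' : h * g * h⁻¹ ∈ K := hKn.conj_mem g hg h
      rw [hβdef, extendByZero_of_mem _ hg, extendByZero_of_mem _ hg']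
      exact congrArg conj (congrFun (hinv h) ⟨g, hg⟩)
    · rw [hβdef, extendByZero_not_mem _ hg, extendByZero_not_mem _ fun h' => hg (by
        simpa [mul_assoc] using hKn.conj_mem _ h' h⁻¹)]
  have horb : inertia K θ = ⊤ := (Subgroup.eq_top_iff' _).mpr fun g => hinv g
  have hφ : ∀ φ : IrrCharacter H, ∑ n : K, conj (θ n) * (φ : H → ℂ) (n * x) =
      (Nat.card K : ℂ) / θ 1 * if classInner (fun n : K => (φ : H → ℂ) n) θ ≠ 0 then
        (φ : H → ℂ) x else 0 := by
    intro φ
    rw [← sum_extendByZero_mul K (fun n => conj (θ n)) (fun y => (φ : H → ℂ) (y * x)),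
      sum_classFun_mul_apply φ.2 hβ x, hβdef, sum_extendByZero_mul]
    have hc : ∑ n : K, conj (θ n) * (φ : H → ℂ) n =
        (Nat.card K : ℂ) * classInner (fun n : K => (φ : H → ℂ) n) θ := by
      rw [classInner, ← mul_assoc, mul_inv_cancel₀ (Nat.cast_ne_zero.mpr Nat.card_pos.ne'),
        one_mul]
      exact Finset.sum_congr rfl fun n _ => mul_comm _ _
    rw [hc]
    split_ifs with h
    · have h1 := clifford_one K φ.2 hθ h
      rw [horb, Subgroup.index_top, Nat.cast_one, mul_one] at h1
      rw [h1]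
      field_simp [h, IsIrr.one_ne_zero hθ]
    · rw [not_not.mp h]
      simp
  have h0 : ∑ n : K, conj (θ n) * ∑ φ : IrrCharacter H, a φ * (φ : H → ℂ) (n * x) = 0 :=
    Finset.sum_eq_zero fun n _ => by rw [hv _ (singular_mul K hcop hx n), mul_zero]
  simp only [Finset.mul_sum] at h0
  rw [Finset.sum_comm] at h0
  have h1 : ∑ φ : IrrCharacter H, a φ * ∑ n : K, conj (θ n) * (φ : H → ℂ) (n * x) = 0 := by
    rw [← h0]
    refine Finset.sum_congr rfl fun φ _ => ?_
    rw [Finset.mul_sum]
    exact Finset.sum_congr rfl fun n _ => mul_left_comm _ _ _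
  simp only [hφ] at h1
  rw [Finset.sum_filter]
  refine (mul_eq_zero.mp (?_ : (Nat.card K : ℂ) / θ 1 * _ = 0)).resolve_left
    (div_ne_zero (Nat.cast_ne_zero.mpr Nat.card_pos.ne') (IsIrr.one_ne_zero hθ))
  refine Eq.trans ?_ h1
  rw [Finset.mul_sum]
  refine Finset.sum_congr rfl fun φ _ => ?_
  split_ifs <;> ring

end Proj

/-- The induction. -/
theorem closed {p : ℕ} [Fact p.Prime] {M : Ideal AlgInt} (hM : IsPModular p M) :
    ∀ (n : ℕ) (G : Type u) [Group G] [Fintype G], Nat.card G = n → IsPSolvable p G →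
      ∀ (U : Finset (IrrCharacter G)), (∀ x : G, p ∣ orderOf x → wfun U x = 0) →
      ∀ χ ∈ U, ∀ ψ : IrrCharacter G, SameBlock M (χ : G → ℂ) (ψ : G → ℂ) → ψ ∈ U := by
  intro n
  induction n using Nat.strong_induction_on with
  | _ n ih =>
    intro G _ _ hn hsolv U hv χ hχ ψ hblock
    classical
    haveI := Grp.pPrimeCore_isNormal (p := p) (G := G)
    haveI := Fong.pPrimePCore_normal (p := p) (G := G)
    set K := Cfsg.pPrimeCore p G with hKdef
    letI : Fintype K := Fintype.ofFinite _
    letI : Fintype (Cfsg.pPrimePCore p G) := Fintype.ofFinite _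
    have hcop : ¬ p ∣ Nat.card K := Grp.pPrimeCore_not_dvd
    obtain ⟨θ, hθ⟩ := IsChar.exists_constituent' (IsChar.res (irr_isChar χ) K)
      (show (χ : G → ℂ) ((1 : K) : G) ≠ 0 by simpa using irr_one_ne_zero χ)
    have hb : IsPBlock M ({θ} : Set (IrrCharacter K)) := Fong.isPBlock_singleton hM hcop θ
    set T := inertia K (θ : K → ℂ) with hTdef
    have hKT : K ≤ T := le_inertia K (IsIrr.classFun θ.2)
    letI : Fintype T := Fintype.ofFinite _
    have hT : FR.IsStab K ({θ} : Set (IrrCharacter K)) T := by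
      intro g
      rw [hTdef, mem_inertia]
      constructor
      · rintro hg η hη η' hη'
        obtain rfl : η = θ := hη
        exact Subtype.ext (funext fun m => (hη' m).trans (congrFun hg m))
      · intro h
        have h1 : (⟨_, IsIrr.conjN K θ.2 g⟩ : IrrCharacter K) ∈ ({θ} : Set (IrrCharacter K)) :=
          h θ rfl _ fun m => rfl
        exact congrArg Subtype.val (Set.mem_singleton_iff.mp h1)
    obtain ⟨η, hη, hindχ, -, -⟩ := FR.corr hM hb hT hKT rfl hθ
    have hηover : FR.Over K ({θ} : Set (IrrCharacter K)) hKT η := ⟨θ, rfl, hη⟩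
    obtain ⟨θ', hθ', hψθ⟩ := FR.overG_of_sameBlock hM hb hT hKT hηover hindχ.symm hblock
    obtain rfl : θ' = θ := hθ'
    by_cases hTtop : T = ⊤
    · -- the invariant case
      have hinv : ∀ g : G, Char.conjN K g (θ' : K → ℂ) = (θ' : K → ℂ) := fun g =>
        (mem_inertia K).mp ((show inertia K (θ' : K → ℂ) = ⊤ from hTtop) ▸ Subgroup.mem_top g)
      set U' := U.filter fun φ : IrrCharacter G =>
        classInner (fun m : K => (φ : G → ℂ) m) (θ' : K → ℂ) ≠ 0 with hU'
      have hv' : ∀ x : G, p ∣ orderOf x → wfun U' x = 0 := by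
        intro x hx
        have h := over_vanish K hcop θ'.2 hinv
          (fun φ => if φ ∈ U then (φ : G → ℂ) 1 else 0) (fun y hy => by
            simp only [ite_mul, zero_mul, Finset.sum_ite_mem, Finset.univ_inter]
            rw [← wfun_apply]
            exact hv y hy) hx
        rw [wfun_apply, ← h, hU', Finset.sum_filter, Finset.sum_filter]
        simp only [ite_mul, zero_mul]
        rw [← Finset.sum_ite_mem_eq]
        refine Finset.sum_congr rfl fun φ _ => ?_
        split_ifs <;> rfl
      obtain ⟨Q, hQp, hQL, hQ⟩ := Fong.exists_sylow_pPrimePCore (p := p) (G := G)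
      obtain ⟨j, hj⟩ := Fong.exists_relIndex_pPrimePCore (p := p) (G := G)
      refine (Finset.mem_filter.mp (mem_of_invariant (M := M) Fong.pPrimeCore_le_pPrimePCore hj
        hcop Q hQL hQp (fun y hy hr => Fong.mem_pPrimeCore_of_commute hsolv hQL hQ hy hr)
        (fun g m => congrFun (hinv g) m) U' (fun φ hφ => (Finset.mem_filter.mp hφ).2) hv'
        ⟨χ, Finset.mem_filter.mpr ⟨hχ, hθ⟩⟩ ψ hψθ)).1
    · -- the inertia group
      obtain ⟨ζ, hζ, hindψ, -, -⟩ := FR.corr hM hb hT hKT rfl hψθ
      have hζover : FR.Over K ({θ'} : Set (IrrCharacter K)) hKT ζ := ⟨θ', rfl, hζ⟩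
      set K' := K.subgroupOf T with hK'
      haveI : K'.Normal := Subgroup.Normal.subgroupOf inferInstance _
      letI : Fintype K' := Fintype.ofFinite _
      let e : K' ≃* K := Subgroup.subgroupOfEquivOfLe hKT
      set θT : K' → ℂ := fun m => (θ' : K → ℂ) (e m) with hθT
      have hθTi : IsIrrCharacter K' θT := IsIrr.comp_mulEquiv e θ'.2
      have hover : ∀ φ : IrrCharacter T,
          classInner (fun m : K' => (φ : T → ℂ) m) θT =
            classInner (fun m : K => (φ : T → ℂ) ⟨(m : G), hKT m.2⟩) (θ' : K → ℂ) := fun φ =>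
        Corr.classInner_subgroupOf K hKT (fun m : K => (φ : T → ℂ) ⟨(m : G), hKT m.2⟩) _
      have hTinv : ∀ t : T, Char.conjN K' t θT = θT := by
        intro t
        funext m
        exact congrFun ((mem_inertia K).mp t.2) (e m)
      set UT := (Finset.univ : Finset (IrrCharacter T)).filter (fun φ : IrrCharacter T =>
        classInner (fun m : K' => (φ : T → ℂ) m) θT ≠ 0 ∧
          ∃ ξ ∈ U, (ξ : G → ℂ) = indFun T (φ : T → ℂ)) with hUT
      have hvT : ∀ x : T, p ∣ orderOf x → wfun UT x = 0 := by
        intro x hx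
        have hcl : IsClassFunction T (fun t : T => wfun U t) := fun a b =>
          wfun_classFun U (a : G) (b : G)
        have hsum : ∀ y : T, ∑ φ : IrrCharacter T,
            classInner (fun t : T => wfun U t) (φ : T → ℂ) * (φ : T → ℂ) y = wfun U y := by
          intro y
          have h := congrFun (classFunction_expansion hcl) y
          rw [Finset.sum_apply] at h
          simpa using h.symm
        have hcop' : ¬ p ∣ Nat.card K' := by rwa [Nat.card_congr e.toEquiv]
        have h := over_vanish K' hcop' hθTi hTinv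
          (fun φ => classInner (fun t : T => wfun U t) (φ : T → ℂ))
          (fun y hy => (hsum y).trans (hv _ (by rwa [Subgroup.orderOf_coe]))) hx
        have hcoef : ∀ φ : IrrCharacter T, classInner (fun m : K' => (φ : T → ℂ) m) θT ≠ 0 →
            classInner (fun t : T => wfun U t) (φ : T → ℂ) =
              (T.index : ℂ) * if φ ∈ UT then (φ : T → ℂ) 1 else 0 := by
          intro φ hφ
          obtain ⟨ξ, hξ, -, -, -⟩ := FR.ind_of_over hM hb hT hKT
            (⟨θ', rfl, by rwa [← hover]⟩ : FR.Over K ({θ'} : Set (IrrCharacter K)) hKT φ)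
          rw [← classInner_conj_symm, ← classInner_indFun T _ (wfun_classFun U), ← hξ,
            classInner_conj_symm, wfun_inner]
          have hmem : φ ∈ UT ↔ ξ ∈ U := by
            rw [hUT, Finset.mem_filter]
            exact ⟨fun ⟨_, _, ξ', hξ', he⟩ => (show ξ' = ξ from Subtype.ext (he.trans hξ.symm)) ▸ hξ',
              fun h => ⟨Finset.mem_univ _, hφ, ξ, h, hξ⟩⟩
          simp only [hmem]
          split_ifs
          · rw [hξ, indFun_one_eq]
          · rw [mul_zero]
        rw [Finset.sum_congr rfl fun φ hφ => by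
          rw [hcoef φ (Finset.mem_filter.mp hφ).2, mul_assoc], ← Finset.mul_sum] at h
        have h2 := (mul_eq_zero.mp h).resolve_left
          (Nat.cast_ne_zero.mpr Subgroup.index_ne_zero_of_finite)
        rw [wfun_apply]
        refine Eq.trans ?_ h2
        simp only [ite_mul, zero_mul, Finset.sum_ite_mem]
        congr 1
        rw [eq_comm, Finset.inter_eq_right]
        exact fun φ hφ => Finset.mem_filter.mpr ⟨Finset.mem_univ _, (Finset.mem_filter.mp hφ).2.1⟩
      have hlt : Nat.card T < n := hn ▸ lt_of_le_of_ne (Subgroup.card_le_card_group T)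
        (fun h => hTtop (Subgroup.eq_top_of_card_eq T h))
      have hmem := ih _ hlt T rfl (PPartDerived.isPSolvable_subgroup hsolv T) UT hvT η
        (Finset.mem_filter.mpr ⟨Finset.mem_univ _, by rwa [hover], χ, hχ, hindχ.symm⟩) ζ
        ((FR.sameBlock_ind_iff hM hb hT hKT hηover hζover hindχ.symm hindψ.symm).mp hblock)
      obtain ⟨-, -, ξ, hξ, he⟩ := Finset.mem_filter.mp hmem
      exact (show ξ = ψ from Subtype.ext (he.trans hindψ)) ▸ hξ

end Cfsg.Agent.Invol.KO
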