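import Cfsg.Agent.Lib.Invol.LargeSubgroup
import Cfsg.Agent.Lib.Grp.Coprime

/-!
# The L-Lemma

If a Sylow subgroup lies in one maximal subgroup, a subgroup of it outside the `p`-core lies in a
subgroup `L` in which it has, together with `O_p(L)`, a single maximal overgroup.
-/

set_option autoImplicit false
set_option linter.style.haveILetI false

namespace Cfsg.Agent.Invol.LL

open scoped Pointwise

variable {G : Type*} [Group G] {p : ℕ}

local notation "Op" => Cfsg.pCoreOf p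

/-- Conjugation of subgroups by an element. -/
abbrev cj (g : G) (K : Subgroup G) : Subgroup G := MulAut.conj g • K

theorem cj_cj (a b : G) (K : Subgroup G) : cj a (cj b K) = cj (a * b) K := Grp.conj_smul_conj_smul a b K

theorem cj_one (K : Subgroup G) : cj (1 : G) K = K := by simp [cj]

theorem mem_cj {a x : G} {K : Subgroup G} : x ∈ cj a K ↔ a⁻¹ * x * a ∈ K := by
  rw [cj, ← Grp.map_conj_eq_smul]; exact wc_mem_map_conj

theorem cj_le_cj {a : G} {K K' : Subgroup G} : cj a K ≤ cj a K' ↔ K ≤ K' :=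
  Subgroup.pointwise_smul_le_pointwise_smul_iff

theorem cj_le_iff {a : G} {K K' : Subgroup G} : cj a K ≤ K' ↔ K ≤ cj a⁻¹ K' := by
  rw [← cj_le_cj (a := a⁻¹), cj_cj, inv_mul_cancel, cj_one]

theorem cj_eq_self {a : G} {K : Subgroup G} : cj a K = K ↔ a ∈ Subgroup.normalizer (K : Set G) :=
  (Grp.mem_normalizer_iff_smul).symm

theorem cj_mem_self {a : G} {K : Subgroup G} (h : a ∈ K) : cj a K = K :=
  cj_eq_self.mpr (Subgroup.le_normalizer h)

theorem isPGroup_cj (a : G) {K : Subgroup G} (h : IsPGroup p K) : IsPGroup p ↥(cj a K) := by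
  rw [cj, ← Grp.map_conj_eq_smul]; exact h.map _

theorem le_normalizer_cj {a : G} {K N : Subgroup G} (h : K ≤ Subgroup.normalizer (N : Set G)) :
    cj a K ≤ Subgroup.normalizer ((cj a N : Subgroup G) : Set G) := by
  intro x hx
  rw [← cj_eq_self, cj_cj]
  have h1 := cj_eq_self.mpr (h (mem_cj.mp hx))
  calc cj (x * a) N = cj a (cj (a⁻¹ * x * a) N) := by rw [cj_cj]; group
    _ = cj a N := by rw [h1]

variable [Finite G] [hp : Fact p.Prime]

theorem op_cj_le (a : G) (K : Subgroup G) : cj a (Op K) ≤ Op (cj a K) :=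
  lg_le_pCoreOf (cj_le_cj.mpr (lg_pCoreOf_le K)) (le_normalizer_cj (lg_le_normalizer_pCoreOf K))
    (isPGroup_cj a (lg_isPGroup_pCoreOf K))

theorem op_cj (a : G) (K : Subgroup G) : cj a (Op K) = Op (cj a K) := by
  refine le_antisymm (op_cj_le a K) ?_
  have h := op_cj_le (p := p) a⁻¹ (cj a K)
  rw [cj_cj, inv_mul_cancel, cj_one] at h
  calc Op (cj a K) = cj a (cj a⁻¹ (Op (cj a K))) := by rw [cj_cj, mul_inv_cancel, cj_one]
    _ ≤ cj a (Op K) := cj_le_cj.mpr h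

/-- A `p`-subgroup is conjugate into a Sylow subgroup of `X`. -/
theorem exists_cj_le {X T D : Subgroup G} (hT : IsPGroup p T) (hTX : T ≤ X) (hi : ¬ p ∣ T.relIndex X)
    (hD : IsPGroup p D) (hDX : D ≤ X) : ∃ x ∈ X, D ≤ cj x T := by
  let S : Sylow p ↥X := (hT.comap_subtype (K := X)).toSylow hi
  obtain ⟨R, hR⟩ := (hD.comap_subtype (K := X)).exists_le_sylow
  obtain ⟨x, hx⟩ := MulAction.exists_smul_eq ↥X S R
  refine ⟨x, x.2, fun d hd => ?_⟩
  have h1 : (⟨d, hDX hd⟩ : ↥X) ∈ (R : Subgroup ↥X) := hR hd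
  rw [← hx, Sylow.coe_subgroup_smul, ← Grp.map_conj_eq_smul] at h1
  obtain ⟨s, hs, hse⟩ := h1
  rw [cj, ← Grp.map_conj_eq_smul]
  exact ⟨(s : G), hs, congrArg Subtype.val hse⟩

omit hp in
/-- The normalizer grows in a `p`-group. -/
theorem exists_normalizing {D T : Subgroup G} (hT : IsPGroup p T) (hDT : D ≤ T) (hne : D ≠ T) [Fact p.Prime] :
    ∃ e ∈ T, e ∉ D ∧ e ∈ Subgroup.normalizer (D : Set G) := by
  haveI : Group.IsNilpotent ↥T := hT.isNilpotent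
  have hlt : D.subgroupOf T < ⊤ := lt_top_iff_ne_top.mpr fun h =>
    hne (le_antisymm hDT (Subgroup.subgroupOf_eq_top.mp h))
  obtain ⟨y, hy, hyn⟩ := SetLike.exists_of_lt (Group.normalizerCondition_of_isNilpotent _ hlt)
  refine ⟨y, y.2, fun h => hyn h, Subgroup.mem_normalizer_iff.mpr fun a => ⟨fun ha => ?_, fun ha => ?_⟩⟩
  · exact (Subgroup.mem_normalizer_iff.mp hy ⟨a, hDT ha⟩).mp ha
  · have ha' : a ∈ T := by
      simpa [mul_assoc] using T.mul_mem (T.mul_mem (T.inv_mem y.2) (hDT ha)) y.2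
    exact (Subgroup.mem_normalizer_iff.mp hy ⟨a, ha'⟩).mpr ha

/-- The Sylow subgroup `T` of `X` lies in the single maximal subgroup `M`. -/
structure Setup (p : ℕ) (X T M : Subgroup G) : Prop where
  pT : IsPGroup p T
  TX : T ≤ X
  idx : ¬ p ∣ T.relIndex X
  MX : M < X
  TM : T ≤ M
  uniq : ∀ Y : Subgroup G, Y < X → T ≤ Y → Y ≤ M

/-- The conclusion of the lemma. -/
def Good (p : ℕ) (X M A : Subgroup G) : Prop :=
  ∃ L, A ⊔ Cfsg.pCoreOf p X ≤ L ∧ L ≤ X ∧ ∃ L₀, A ⊔ Cfsg.pCoreOf p L ≤ L₀ ∧ L₀ < L ∧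
    (∀ Z : Subgroup G, A ⊔ Cfsg.pCoreOf p L ≤ Z → Z < L → Z ≤ L₀) ∧
    (∃ g ∈ X, L₀ = L ⊓ cj g M) ∧
    ∀ x ∈ L, x ∉ L₀ → (A ⊔ cj x A) ⊔ Cfsg.pCoreOf p L = L

omit hp [Finite G] in
theorem cj_lt {X Y : Subgroup G} {x : G} (hx : x ∈ X) (h : Y < X) : cj x Y < X := by
  refine lt_of_le_of_ne ((cj_le_cj.mpr h.le).trans (cj_mem_self hx).le) fun he => h.ne ?_
  rw [← cj_one Y, ← inv_mul_cancel x, ← cj_cj, he, cj_mem_self (X.inv_mem hx)]

theorem main : ∀ (n : ℕ) (X T M A : Subgroup G), Nat.card ↥X = n → Setup p X T M → A ≤ T →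
    ¬ A ≤ Op X → Good p X M A := by
  intro n
  induction n using Nat.strong_induction_on with
  | _ n ih =>
  intro X T M A hn h hAT hA
  set O := Op X with hO
  have hOp : IsPGroup p ↥O := lg_isPGroup_pCoreOf X
  have hOX : O ≤ X := lg_pCoreOf_le X
  have hXO : X ≤ Subgroup.normalizer (O : Set G) := lg_le_normalizer_pCoreOf X
  have hOT : O ≤ T := by
    obtain ⟨x, hx, hle⟩ := exists_cj_le h.pT h.TX h.idx hOp hOX
    have h1 : cj x⁻¹ O ≤ T := cj_le_iff.mpr (by rw [inv_inv]; exact hle)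
    rwa [cj_eq_self.mpr (hXO (X.inv_mem hx))] at h1
  have hAX : A ≤ X := hAT.trans h.TX
  have hAp : IsPGroup p ↥A := h.pT.to_le hAT
  -- the Sylow subgroup is not normal, so `M` is its own normalizer
  have hTn : ¬ X ≤ Subgroup.normalizer (T : Set G) := fun hle =>
    hA (hAT.trans (lg_le_pCoreOf h.TX hle h.pT))
  have hNT : X ⊓ Subgroup.normalizer (T : Set G) ≤ M :=
    h.uniq _ (lt_of_le_of_ne inf_le_left fun he => hTn (he.ge.trans inf_le_right))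
      (le_inf h.TX Subgroup.le_normalizer)
  have hNM : ∀ x ∈ X, cj x M = M → x ∈ M := by
    intro x hx hxM
    have hTi : ¬ p ∣ T.relIndex M := fun hd =>
      h.idx (hd.trans (Dvd.intro _ (Subgroup.relIndex_mul_relIndex T M X h.TM h.MX.le)))
    obtain ⟨m, hm, hle⟩ := exists_cj_le h.pT h.TM hTi (isPGroup_cj x h.pT)
      ((cj_le_cj.mpr h.TM).trans hxM.le)
    have heq : cj x T = cj m T := Subgroup.eq_of_le_of_card_ge hle (by
      rw [Grp.card_conj_smul, Grp.card_conj_smul])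
    have h1 : cj (m⁻¹ * x) T = T := by rw [← cj_cj, heq, cj_cj, inv_mul_cancel, cj_one]
    have h2 := hNT ⟨X.mul_mem (X.inv_mem (h.MX.le hm)) hx, cj_eq_self.mp h1⟩
    simpa using M.mul_mem hm h2
  by_cases hall : ∀ Y : Subgroup G, A ⊔ O ≤ Y → Y < X → Y ≤ M
  · refine ⟨X, sup_le hAX hOX, le_rfl, M, (sup_le hAT hOT).trans h.TM, h.MX, hall,
      ⟨1, X.one_mem, ?_⟩, fun x hx hxM => ?_⟩
    · rw [cj_one, inf_eq_right.mpr h.MX.le]
    by_contra hne
    have hYle : A ⊔ cj x A ⊔ O ≤ X :=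
      sup_le (sup_le hAX ((cj_le_cj.mpr hAX).trans (cj_mem_self hx).le)) hOX
    have hY : A ⊔ cj x A ⊔ O ≤ M :=
      hall _ (sup_le (le_sup_left.trans le_sup_left) le_sup_right) (lt_of_le_of_ne hYle hne)
    have hxinv : cj x⁻¹ M ≤ M := by
      refine hall _ (sup_le ?_ ?_) (cj_lt (X.inv_mem hx) h.MX)
      · exact cj_le_iff.mp ((le_sup_right.trans le_sup_left).trans hY)
      · rw [← cj_eq_self.mpr (hXO (X.inv_mem hx))]
        exact cj_le_cj.mpr (le_sup_right.trans hY)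
    have heq : cj x⁻¹ M = M := Subgroup.eq_of_le_of_card_ge hxinv (by rw [Grp.card_conj_smul])
    exact hxM (by simpa using M.inv_mem (hNM x⁻¹ (X.inv_mem hx) heq))
  push Not at hall
  obtain ⟨Y, hAY, hYX, hYM⟩ := hall
  -- a largest `p`-subgroup in two maximal subgroups
  let Two : Subgroup G → Prop := fun D => IsPGroup p ↥D ∧ A ⊔ O ≤ D ∧
    ∃ N₁ N₂ : Subgroup G, Maximal (· < X) N₁ ∧ Maximal (· < X) N₂ ∧ N₁ ≠ N₂ ∧ D ≤ N₁ ∧ D ≤ N₂
  have hMmax : Maximal (· < X) M := ⟨h.MX, fun Z hZ hle => h.uniq Z hZ (h.TM.trans hle)⟩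
  obtain ⟨D, -, ⟨hDp, hAD, N₁, N₂, hN₁, hN₂, hne, hDN₁, hDN₂⟩, hDmax⟩ : ∃ D, A ⊔ O ≤ D ∧ Maximal Two D := by
    obtain ⟨N, hYN, hN⟩ := Finite.exists_le_maximal (p := fun Z : Subgroup G => Z < X) hYX
    refine Finite.exists_le_maximal (p := Two) ⟨h.pT.to_le (sup_le hAT hOT), le_rfl, M, N, hMmax, hN, ?_,
      (sup_le hAT hOT).trans h.TM, hAY.trans hYN⟩
    exact fun he => hYM (hYN.trans he.ge)
  have hDX : D ≤ X := hDN₁.trans hN₁.prop.le
  obtain ⟨x₁, hx₁, hDT₁⟩ := exists_cj_le h.pT h.TX h.idx hDp hDX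
  -- conjugates of `M` are the maximal subgroups over Sylow subgroups
  have hover : ∀ (x : G), x ∈ X → ∀ N, Maximal (· < X) N → cj x T ≤ N → N = cj x M := by
    intro x hx N hN hle
    have h1 : cj x⁻¹ N ≤ M := h.uniq _ (cj_lt (X.inv_mem hx) hN.prop) (cj_le_iff.mp hle)
    have h2 : N ≤ cj x M := by rw [cj_le_iff, inv_inv] at h1; exact h1
    exact le_antisymm h2 (hN.2 (cj_lt hx h.MX) h2)
  set T₁ := cj x₁ T with hT₁
  set M₁ := cj x₁ M with hM₁
  have hT₁M : T₁ ≤ M₁ := cj_le_cj.mpr h.TM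
  have hM₁max : Maximal (· < X) M₁ := by
    refine ⟨cj_lt hx₁ h.MX, fun Z hZ hle => ?_⟩
    obtain ⟨N, hZN, hN⟩ := Finite.exists_le_maximal (p := fun Z : Subgroup G => Z < X) hZ
    exact hZN.trans (hover x₁ hx₁ N hN (hT₁M.trans (hle.trans hZN))).le
  have hT₁X : T₁ ≤ X := hT₁M.trans hM₁max.prop.le
  have hDne : D ≠ T₁ := fun he => hne
    ((hover x₁ hx₁ N₁ hN₁ (he.ge.trans hDN₁)).trans (hover x₁ hx₁ N₂ hN₂ (he.ge.trans hDN₂)).symm)
  obtain ⟨e, heT, heD, heN⟩ := exists_normalizing (p := p) (isPGroup_cj x₁ h.pT) hDT₁ hDne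
  have hDe : IsPGroup p ↥(D ⊔ Subgroup.zpowers e) :=
    (isPGroup_cj x₁ h.pT).to_le (sup_le hDT₁ (Subgroup.zpowers_le.mpr heT))
  have honly : ∀ S : Subgroup G, IsPGroup p ↥S → D < S → ∀ N N', Maximal (· < X) N → Maximal (· < X) N' →
      S ≤ N → S ≤ N' → N = N' := fun S hS hlt N N' hN hN' hSN hSN' => by
    by_contra hne'
    exact hlt.not_ge (hDmax ⟨hS, hAD.trans hlt.le, N, N', hN, hN', hne', hSN, hSN'⟩ hlt.le)
  have hOD : O ≤ D := le_sup_right.trans hAD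
  have hAD' : A ≤ D := le_sup_left.trans hAD
  have hnorm : ∀ U : Subgroup G, A ≤ U → U ≤ X → IsPGroup p ↥U → D ≤ Subgroup.normalizer (U : Set G) →
      e ∈ Subgroup.normalizer (U : Set G) → X ⊓ Subgroup.normalizer (U : Set G) ≤ M₁ := by
    intro U hAU hUX hUp hDU heU
    have hlt : X ⊓ Subgroup.normalizer (U : Set G) < X := lt_of_le_of_ne inf_le_left fun he =>
      hA (hAU.trans (lg_le_pCoreOf hUX (he.ge.trans inf_le_right) hUp))
    obtain ⟨N, hle, hN⟩ := Finite.exists_le_maximal (p := fun Z : Subgroup G => Z < X) hlt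
    have hDeN : D ⊔ Subgroup.zpowers e ≤ N := sup_le ((le_inf hDX hDU).trans hle)
      (Subgroup.zpowers_le.mpr (hle ⟨hT₁X heT, heU⟩))
    have := honly _ hDe (lt_of_le_of_ne le_sup_left fun he => heD
      (he ▸ Subgroup.mem_sup_right (Subgroup.mem_zpowers e))) N M₁ hN hM₁max hDeN
      (sup_le (hDT₁.trans hT₁M) (Subgroup.zpowers_le.mpr (hT₁M heT)))
    exact hle.trans this.le
  have hND : X ⊓ Subgroup.normalizer (D : Set G) ≤ M₁ := hnorm D hAD' hDX hDp Subgroup.le_normalizer heN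
  obtain ⟨N, hN, hNM₁, hDN⟩ : ∃ N, Maximal (· < X) N ∧ N ≠ M₁ ∧ D ≤ N := by
    rcases eq_or_ne N₁ M₁ with he | he
    · exact ⟨N₂, hN₂, fun h2 => hne (he.trans h2.symm), hDN₂⟩
    · exact ⟨N₁, hN₁, he, hDN₁⟩
  -- `D` is a Sylow subgroup of `N`
  have hDsyl : ¬ p ∣ D.relIndex N := by
    intro hd
    obtain ⟨S, hS⟩ := (hDp.comap_subtype (K := N)).exists_le_sylow
    set S' := (S : Subgroup ↥N).map N.subtype with hS'
    have hDS : D ≤ S' := fun d hd => ⟨⟨d, hDN hd⟩, hS hd, rfl⟩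
    have hS'p : IsPGroup p ↥S' := S.isPGroup'.map _
    have hS'N : S' ≤ N := Subgroup.map_subtype_le _
    have hlt : D < S' := lt_of_le_of_ne hDS fun he => by
      rw [he, hS'] at hd
      refine S.not_dvd_index ?_
      rwa [Subgroup.relIndex, Subgroup.subgroupOf,
        Subgroup.comap_map_eq_self_of_injective (Subgroup.subtype_injective _)] at hd
    obtain ⟨x₂, hx₂, hle⟩ := exists_cj_le h.pT h.TX h.idx hS'p (hS'N.trans hN.prop.le)
    obtain ⟨f, hfS, hfD, hfN⟩ := exists_normalizing (p := p) hS'p hDS hlt.ne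
    exact hNM₁ (honly _ (hS'p.to_le (sup_le hDS (Subgroup.zpowers_le.mpr hfS)))
      (lt_of_le_of_ne le_sup_left fun he => hfD (he ▸ Subgroup.mem_sup_right (Subgroup.mem_zpowers f)))
      N M₁ hN hM₁max (sup_le hDN (Subgroup.zpowers_le.mpr (hS'N hfS)))
      (sup_le (hDT₁.trans hT₁M) (Subgroup.zpowers_le.mpr (hND ⟨hN.prop.le (hS'N hfS), hfN⟩))))
  -- a smallest subgroup of `N` over `D` outside `M₁`
  obtain ⟨Z, hZN, ⟨hZN', hDZ, hZM⟩, hZmin⟩ : ∃ Z, Z ≤ N ∧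
      Minimal (fun Z : Subgroup G => Z ≤ N ∧ D ≤ Z ∧ ¬ Z ≤ M₁) Z :=
    exists_minimal_le_of_wellFoundedLT (fun Z : Subgroup G => Z ≤ N ∧ D ≤ Z ∧ ¬ Z ≤ M₁) N
      ⟨le_rfl, hDN, fun hle => hNM₁ (le_antisymm hle (hN.2 hM₁max.prop hle))⟩
  have hZX : Z ≤ X := hZN.trans hN.prop.le
  have hsetup : Setup p Z D (Z ⊓ M₁) :=
    { pT := hDp
      TX := hDZ
      idx := fun hd => hDsyl (hd.trans (Dvd.intro _ (Subgroup.relIndex_mul_relIndex D Z N hDZ hZN)))
      MX := lt_of_le_of_ne inf_le_left fun he => hZM (he.ge.trans inf_le_right)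
      TM := le_inf hDZ (hDT₁.trans hT₁M)
      uniq := fun W hW hDW => le_inf hW.le (by
        by_contra hWM
        exact hW.not_ge (hZmin ⟨hW.le.trans hZN, hDW, hWM⟩ hW.le)) }
  have hcardZ : Nat.card ↥Z < n :=
    hn ▸ Set.Finite.card_lt_card (Set.toFinite (X : Set G)) (lt_of_le_of_lt hZN hN.prop)
  have hOZ : O ≤ Op Z := lg_le_pCoreOf (hOD.trans hDZ) (hZX.trans hXO) hOp
  by_cases hex : ∃ g ∈ X, cj g A ≤ D ∧ ¬ cj g A ≤ Op Z
  · obtain ⟨g, hg, hgD, hgO⟩ := hex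
    obtain ⟨L, hL1, hLZ, L₀, hL2, hL3, hL4, ⟨k, hk, hL5⟩, hL6⟩ :=
      ih _ hcardZ Z D (Z ⊓ M₁) (cj g A) rfl hsetup hgD hgO
    have hsm : ∀ B C : Subgroup G, cj g⁻¹ (B ⊔ C) = cj g⁻¹ B ⊔ cj g⁻¹ C := fun B C => Subgroup.smul_sup _ B C
    have hAback : cj g⁻¹ (cj g A) = A := by rw [cj_cj, inv_mul_cancel, cj_one]
    have hOg : cj g⁻¹ O = O := cj_eq_self.mpr (hXO (X.inv_mem hg))
    refine ⟨cj g⁻¹ L, ?_, (cj_le_cj.mpr (hLZ.trans hZX)).trans (cj_mem_self (X.inv_mem hg)).le,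
      cj g⁻¹ L₀, ?_, ?_, fun W hW hWL => ?_, ⟨g⁻¹ * k * x₁, X.mul_mem (X.mul_mem (X.inv_mem hg) (hZX hk)) hx₁, ?_⟩,
      fun x hx hx0 => ?_⟩
    · calc A ⊔ O = cj g⁻¹ (cj g A ⊔ O) := by rw [hsm, hAback, hOg]
        _ ≤ cj g⁻¹ L := cj_le_cj.mpr ((sup_le_sup_left hOZ _).trans hL1)
    · calc A ⊔ Op (cj g⁻¹ L) = cj g⁻¹ (cj g A ⊔ Op L) := by rw [hsm, hAback, op_cj]
        _ ≤ cj g⁻¹ L₀ := cj_le_cj.mpr hL2
    · exact lt_of_le_of_ne (cj_le_cj.mpr hL3.le) fun he => hL3.ne ((smul_left_cancel_iff _).mp he)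
    · have h1 : cj g A ⊔ Op L ≤ cj g W := by
        calc cj g A ⊔ Op L = cj g (A ⊔ Op (cj g⁻¹ L)) := by
              show cj g A ⊔ Op L = MulAut.conj g • (A ⊔ Op (cj g⁻¹ L))
              rw [Subgroup.smul_sup]
              congr 1
              show Op L = cj g (Op (cj g⁻¹ L))
              rw [op_cj, cj_cj, mul_inv_cancel, cj_one]
          _ ≤ cj g W := cj_le_cj.mpr hW
      have h2 : cj g W < L := by
        have hWL' : cj g W ≤ L := by rw [cj_le_iff]; exact hWL.le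
        refine lt_of_le_of_ne hWL' fun he => hWL.ne ?_
        rw [← he, cj_cj, inv_mul_cancel, cj_one]
      have h3 := hL4 _ h1 h2
      rwa [cj_le_iff] at h3
    · have hkL : cj k (Z ⊓ M₁) = Z ⊓ cj k M₁ := by
        rw [cj, Subgroup.smul_inf]; congr 1; exact cj_mem_self hk
      rw [hL5, hkL, ← inf_assoc, inf_eq_left.mpr hLZ, hM₁, cj_cj]
      show MulAut.conj g⁻¹ • (L ⊓ cj (k * x₁) M) = _
      rw [Subgroup.smul_inf]
      congr 1
      show cj g⁻¹ (cj (k * x₁) M) = cj (g⁻¹ * k * x₁) M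
      rw [cj_cj, mul_assoc]
    · have hx' : g * x * g⁻¹ ∈ L := by
        have := mem_cj.mp hx; rwa [inv_inv] at this
      have hx0' : g * x * g⁻¹ ∉ L₀ := fun hh => hx0 (mem_cj.mpr (by rwa [inv_inv]))
      have h1 := congrArg (cj g⁻¹) (hL6 _ hx' hx0')
      rw [hsm, hsm, hAback, cj_cj, cj_cj, op_cj,
        show g⁻¹ * (g * x * g⁻¹) * g = x by group] at h1
      exact h1
  push Not at hex
  exfalso
  set U := ⨆ g : {g : G // g ∈ X ∧ cj g A ≤ D}, cj g.1 A with hU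
  have hUD : U ≤ D := iSup_le fun g => g.2.2
  have hAU : A ≤ U := le_iSup_of_le ⟨1, X.one_mem, by rwa [cj_one]⟩ (by rw [cj_one])
  have hstab : ∀ y ∈ X, (∀ g ∈ X, cj g A ≤ D → cj (y * g) A ≤ D) → y ∈ Subgroup.normalizer (U : Set G) := by
    intro y hy hyD
    rw [← cj_eq_self]
    refine Subgroup.eq_of_le_of_card_ge ?_ (by rw [Grp.card_conj_smul])
    rw [cj, ← Grp.map_conj_eq_smul, hU, Subgroup.map_iSup]
    refine iSup_le fun g => ?_
    rw [Grp.map_conj_eq_smul]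
    show cj y (cj g.1 A) ≤ _
    rw [cj_cj]
    exact le_iSup_of_le (f := fun g : {g : G // g ∈ X ∧ cj g A ≤ D} => cj g.1 A)
      ⟨y * g.1, X.mul_mem hy g.2.1, hyD g.1 g.2.1 g.2.2⟩ le_rfl
  have hOZD : Op Z ≤ D := by
    obtain ⟨z, hz, hle⟩ := exists_cj_le hDp hDZ hsetup.idx (lg_isPGroup_pCoreOf (p := p) Z) (lg_pCoreOf_le Z)
    have h1 : cj z⁻¹ (Op Z) ≤ D := cj_le_iff.mpr (by rw [inv_inv]; exact hle)
    rwa [cj_eq_self.mpr (lg_le_normalizer_pCoreOf Z (Z.inv_mem hz))] at h1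
  have hZU : Z ≤ Subgroup.normalizer (U : Set G) := fun y hy => hstab y (hZX hy) fun g hg hgD => by
    rw [← cj_cj]
    exact ((cj_le_cj.mpr (hex g hg hgD)).trans (cj_eq_self.mpr (lg_le_normalizer_pCoreOf Z hy)).le).trans hOZD
  have hDU : ∀ y ∈ X ⊓ Subgroup.normalizer (D : Set G), y ∈ Subgroup.normalizer (U : Set G) :=
    fun y hy => hstab y hy.1 fun g _ hgD => by
      rw [← cj_cj]; exact (cj_le_cj.mpr hgD).trans (cj_eq_self.mpr hy.2).le
  exact hZM ((le_inf hZX hZU).trans (hnorm U hAU (hUD.trans hDX) (hDp.to_le hUD)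
    (fun d hd => hDU d ⟨hDX hd, Subgroup.le_normalizer hd⟩) (hDU e ⟨hT₁X heT, heN⟩)))

end Cfsg.Agent.Invol.LL
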