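import Mathlib
import Cfsg.Agent.Lib.Invol.D8Order

/-!
One class of involutions with centralizer of order four: the order is `12` or `60`.
-/

set_option autoImplicit false
set_option linter.unusedSectionVars false
set_option linter.style.haveILetI false

open scoped ComplexConjugate

namespace Cfsg.Agent.Invol.V4Order

open Cfsg Cfsg.Agent Cfsg.Agent.Block

universe u

theorem arith_small : ∀ k : Fin 12, ∀ i : Fin 24, (2 * (i.val : ℤ) - 23) ∣ (2 * (k.val : ℤ) + 1) →
    ∀ j : Fin 24, (2 * (j.val : ℤ) - 23) ∣ (2 * (k.val : ℤ) + 1) →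
    ∀ x y z : ℤ, x = 2 * (i.val : ℤ) - 23 → y = 2 * (j.val : ℤ) - 23 → z = -1 - x - y →
      z ∣ (2 * (k.val : ℤ) + 1) →
      (2 * (k.val : ℤ) + 1) * (x * y * z + y * z + x * z + x * y) = 8 * (x * y * z) →
      k.val = 1 ∨ k.val = 7 := by
  intro k i hi j hj x y z hx hy hz
  subst hz hx hy
  revert k i hi j hj
  decide +kernel

theorem final_arith {n m : ℕ} {x : Fin 3 → ℤ} (hn : n = 4 * m) (hm : ¬ 2 ∣ m)
    (hdvd : ∀ i, x i ∣ (m : ℤ)) (hsum : x 0 + x 1 + x 2 = -1)
    (heq : (n : ℚ) * (1 + 1 / (x 0 : ℚ) + 1 / (x 1 : ℚ) + 1 / (x 2 : ℚ)) = 32) : n = 12 ∨ n = 60 := by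
  subst hn
  have hm0 : (m : ℤ) ≠ 0 := by omega
  have hodd : ∀ i, x i % 2 = 1 := fun i => by
    obtain ⟨c, hc⟩ := hdvd i
    have : (x i * c) % 2 = 1 := by omega
    rw [Int.mul_emod] at this
    rcases Int.emod_two_eq_zero_or_one (x i) with h | h
    · rw [h] at this; simp at this
    · exact h
  have hne : ∀ i, x i ≠ -1 := by
    intro i hi
    have h0 : ∀ a b : ℚ, a + b = 0 → 1 / a + 1 / b = 0 := fun a b h => by
      rw [eq_neg_of_add_eq_zero_right h, one_div_neg_eq_neg_one_div, add_neg_cancel]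
    fin_cases i <;> simp only [Fin.zero_eta, Fin.isValue, Fin.mk_one, Fin.reduceFinMk] at hi <;>
      rw [hi] at heq hsum <;> push_cast at heq
    · have := h0 (x 1) (x 2) (by exact_mod_cast (show x 1 + x 2 = 0 by omega))
      nlinarith
    · have := h0 (x 0) (x 2) (by exact_mod_cast (show x 0 + x 2 = 0 by omega))
      nlinarith
    · have := h0 (x 0) (x 1) (by exact_mod_cast (show x 0 + x 1 = 0 by omega))
      nlinarith
  have hlow : ∀ i, (-1 : ℚ) / 3 ≤ 1 / (x i : ℚ) := by
    intro i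
    rcases le_or_gt (x i) 0 with h | h
    · have h3 : (x i : ℚ) ≤ -3 := by
        have := hodd i; have := hne i
        exact_mod_cast (show x i ≤ -3 by omega)
      rw [le_div_iff_of_neg (by linarith)]
      linarith
    · have : (0 : ℚ) < (x i : ℚ) := by exact_mod_cast h
      have := div_pos one_pos this
      linarith
  obtain ⟨p, hp⟩ : ∃ i, 0 < x i := by
    by_contra h
    push Not at h
    have := h 0; have := h 1; have := h 2
    have := hodd 0; have := hodd 1; have := hodd 2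
    have := hne 0; have := hne 1; have := hne 2
    omega
  have hpos : (0 : ℚ) < 1 / (x p : ℚ) := div_pos one_pos (by exact_mod_cast hp)
  have hgt : (1 : ℚ) / 3 < 1 + 1 / (x 0 : ℚ) + 1 / (x 1 : ℚ) + 1 / (x 2 : ℚ) := by
    have := hlow 0; have := hlow 1; have := hlow 2
    fin_cases p <;> simp only [Fin.zero_eta, Fin.isValue, Fin.mk_one, Fin.reduceFinMk] at hpos <;> linarith
  have hm24 : m < 24 := by
    have : (m : ℚ) < 24 := by
      push_cast at heq
      nlinarith
    exact_mod_cast this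
  have hint : (m : ℤ) * (x 0 * x 1 * x 2 + x 1 * x 2 + x 0 * x 2 + x 0 * x 1) = 8 * (x 0 * x 1 * x 2) := by
    have hq : ∀ i, (x i : ℚ) ≠ 0 := fun i => Int.cast_ne_zero.2 fun h => by have := hodd i; omega
    have := hq 0; have := hq 1; have := hq 2
    push_cast at heq
    field_simp at heq
    have h4 : ((m * (x 0 * x 1 * x 2 + x 1 * x 2 + x 0 * x 2 + x 0 * x 1) : ℤ) : ℚ) =
        ((8 * (x 0 * x 1 * x 2) : ℤ) : ℚ) := by
      push_cast
      linear_combination (1 / 4 : ℚ) * heq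
    exact_mod_cast h4
  have hrange : ∀ i, ∃ q : Fin 24, x i = 2 * (q.val : ℤ) - 23 := by
    intro i
    have h1 : |x i| ≤ (m : ℤ) := Int.le_of_dvd (by omega) ((abs_dvd _ _).2 (hdvd i))
    have := abs_le.1 h1
    have := hodd i
    exact ⟨⟨((x i + 23) / 2).toNat, by omega⟩, by simp only; omega⟩
  obtain ⟨i, hi⟩ := hrange 0
  obtain ⟨j, hj⟩ := hrange 1
  have hk : ((⟨m / 2, by omega⟩ : Fin 12).val : ℤ) * 2 + 1 = m := by simp only; omega
  have h := arith_small ⟨m / 2, by omega⟩ i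
    (by rw [← hi, mul_comm, hk]; exact hdvd 0) j (by rw [← hj, mul_comm, hk]; exact hdvd 1)
    (x 0) (x 1) (x 2) hi hj (by omega) (by rw [mul_comm, hk]; exact hdvd 2) (by rw [mul_comm (2 : ℤ), hk]; exact hint)
  simp only at h
  omega

variable {G : Type u} [Group G] [Finite G]

set_option maxHeartbeats 800000 in
theorem order_eq (t : G) (ht : orderOf t = 2)
    (h4 : Nat.card (Subgroup.centralizer ({t} : Set G)) = 4)
    (hexp : ∀ c ∈ Subgroup.centralizer ({t} : Set G), c * c = 1)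
    (hone : ∀ u : G, orderOf u = 2 → IsConj t u) : Nat.card G = 12 ∨ Nat.card G = 60 := by
  classical
  haveI := Fintype.ofFinite G
  haveI := Fact.mk Nat.prime_two
  set C := Subgroup.centralizer ({t} : Set G) with hC
  have htt : t * t = 1 := by rw [← pow_two, ← ht, pow_orderOf_eq_one]
  have ht1 : t ≠ 1 := fun h => by rw [h, orderOf_one] at ht; omega
  have htC : t ∈ C := Subgroup.mem_centralizer_singleton_iff.2 rfl
  have hn1t : ¬ IsConj (1 : G) t := fun h => ht1 (isConj_one_right.1 h)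
  have hinvol : ∀ u, IsConj t u → u * u = 1 ∧ u ≠ 1 := by
    intro u hu
    obtain ⟨g, rfl⟩ := isConj_iff.1 hu
    refine ⟨by rw [show g * t * g⁻¹ * (g * t * g⁻¹) = g * (t * t) * g⁻¹ by group, htt]; group, fun h => ht1 ?_⟩
    rwa [mul_inv_eq_one, mul_eq_left] at h
  have hclass : ∀ u, u * u = 1 → u ≠ 1 → IsConj t u := fun u h1 h2 =>
    hone u (orderOf_eq_prime (by rw [pow_two, h1]) h2)
  set K := Finset.univ.filter (fun u : G => IsConj t u) with hK
  have hA : (K.filter (fun u => IsConj t (t * u))).card = 2 := by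
    have hAe : K.filter (fun u => IsConj t (t * u)) =
        ((Finset.univ.filter (fun u : G => u ∈ C)).erase 1).erase t := by
      ext u
      simp only [hK, Finset.mem_filter, Finset.mem_univ, true_and, Finset.mem_erase]
      constructor
      · rintro ⟨hu, htu⟩
        have h1 := hinvol u hu
        have h2 := hinvol _ htu
        have hc : u * t = t * u := by
          calc u * t = t * (t * u * (t * u)) * u := by
                rw [show t * (t * u * (t * u)) * u = (t * t) * u * t * (u * u) by group, htt, h1.1, one_mul, mul_one]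
            _ = t * u := by rw [h2.1, mul_one]
        exact ⟨fun h => h2.2 (by rw [h, htt]), h1.2, Subgroup.mem_centralizer_singleton_iff.2 hc⟩
      · rintro ⟨hut, hu1, huC⟩
        refine ⟨hclass u (hexp u huC) hu1, hclass _ (hexp _ (C.mul_mem htC huC)) fun h => hut ?_⟩
        rw [← mul_right_inj t, htt, h]
    have hcard : (Finset.univ.filter (fun u : G => u ∈ C)).card = 4 := by
      rw [← h4, Nat.card_eq_fintype_card, Fintype.card_subtype]
    rw [hAe, Finset.card_erase_of_mem (Finset.mem_erase.2 ⟨ht1, Finset.mem_filter.2 ⟨Finset.mem_univ _, htC⟩⟩),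
      Finset.card_erase_of_mem (Finset.mem_filter.2 ⟨Finset.mem_univ _, C.one_mem⟩), hcard]
  -- the class function
  set F : G → ℂ := fun g => if IsConj t g then 1 else 0 with hF
  have hFcl : IsClassFunction G F := by
    intro a b
    simp only [hF]
    have h : IsConj a (b * a * b⁻¹) := isConj_iff.2 ⟨b, rfl⟩
    have e1 : IsConj t (b * a * b⁻¹) ↔ IsConj t a := ⟨fun h' => h'.trans h.symm, fun h' => h'.trans h⟩
    simp only [e1]
  have hcount : ∑ g : G, F (t * (g * t * g⁻¹)) = 8 := by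
    rw [D8Order.sum_conj_eq t (fun u => F (t * u)), ← hC, h4, ← hK]
    simp only [hF]
    rw [Finset.sum_boole, hA]
    norm_num
  have hvals : ∀ χ : IrrCharacter G, ∃ d a : ℤ, (χ : G → ℂ) 1 = d ∧ (χ : G → ℂ) t = a ∧
      2 ∣ d - a ∧ 0 < d ∧ d.natAbs ∣ Nat.card G := by
    intro χ
    obtain ⟨d, ρ, hρ⟩ := irr_isChar χ
    obtain ⟨b, c, -, hc, hk⟩ := Cfsg.Agent.Char.exists_rep_eigenbasis ρ t
    have h2 : ∀ i, c i = 1 ∨ c i = -1 := fun i => by
      obtain ⟨j, hj⟩ := orderOf_dvd_of_pow_eq_one (x := t) (n := 2) (by rw [pow_two, htt])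
      have : c i ^ 2 = 1 := by rw [hj, pow_mul, hc i, one_pow]
      rwa [sq_eq_one_iff] at this
    have h1 := hk 1
    rw [hρ, pow_one] at h1
    simp only [pow_one] at h1
    refine ⟨(charDegree (χ : G → ℂ) : ℤ), ∑ i, (if c i = 1 then (1 : ℤ) else -1), ?_, ?_, ?_, ?_, ?_⟩
    · rw [charDeg_spec']; push_cast; rfl
    · rw [h1]
      push_cast
      refine Finset.sum_congr rfl fun i _ => ?_
      rcases h2 i with h | h <;> rw [h] <;> norm_num
    · have h0 := hk 0
      rw [hρ, pow_zero, charDeg_spec'] at h0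
      simp only [pow_zero, Finset.sum_const, Finset.card_univ, nsmul_eq_mul, mul_one] at h0
      have hd : (charDegree (χ : G → ℂ) : ℤ) = ∑ _i : Fin (Module.finrank ℂ (Fin d → ℂ)), (1 : ℤ) := by
        have : charDegree (χ : G → ℂ) = Fintype.card (Fin (Module.finrank ℂ (Fin d → ℂ))) := by exact_mod_cast h0
        simp [this]
      rw [hd, ← Finset.sum_sub_distrib]
      exact Finset.dvd_sum fun i _ => by split_ifs <;> norm_num
    · exact_mod_cast charDeg_pos χ
    · simpa using charDeg_dvd χ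
  choose d a hd ha hmod hdpos hddvd using hvals
  have hcol : ∀ g h : G, ∀ v w' : IrrCharacter G → ℤ, (∀ χ : IrrCharacter G, (χ : G → ℂ) g = v χ) →
      (∀ χ : IrrCharacter G, (χ : G → ℂ) h = w' χ) →
      ((∑ χ, v χ * w' χ : ℤ) : ℂ) = if IsConj g h then (Nat.card (Subgroup.centralizer ({h} : Set G)) : ℂ) else 0 := by
    intro g h v w' hv hw'
    refine Eq.trans ?_ ((Cfsg.Agent.Char.sum_irr_mul_conj g h).trans (by congr))
    rw [Int.cast_sum]
    refine Finset.sum_congr rfl fun χ _ => ?_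
    rw [hv, hw', map_intCast, Int.cast_mul]
  have haa : ∑ χ, a χ * a χ = 4 := by
    have h := hcol t t a a ha ha
    rw [if_pos (IsConj.refl t), ← hC, h4] at h
    exact_mod_cast h
  have hda : ∑ χ, d χ * a χ = 0 := by
    have h := hcol 1 t d a hd ha
    rw [if_neg hn1t] at h
    exact_mod_cast h
  have hinner : ∀ χ : IrrCharacter G, classInner F (χ : G → ℂ) = (a χ : ℂ) / 4 := by
    intro χ
    have h := D8Order.sum_conj_eq t (fun u => conj ((χ : G → ℂ) u))
    rw [Finset.sum_congr rfl (g := fun _ => conj ((χ : G → ℂ) t)) fun g _ => by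
      rw [Cfsg.Agent.Char.IsIrr.classFun χ.2 t g], Finset.sum_const, Finset.card_univ,
      ← Nat.card_eq_fintype_card, nsmul_eq_mul, ← hC, h4, ha, map_intCast] at h
    rw [classInner]
    simp only [hF, ite_mul, zero_mul, one_mul]
    rw [Finset.sum_ite, Finset.sum_const_zero, add_zero]
    have hG0 : (Nat.card G : ℂ) ≠ 0 := Nat.cast_ne_zero.2 Nat.card_pos.ne'
    push_cast at h
    field_simp
    linear_combination -h
  have hsum : ∑ χ : IrrCharacter G, (a χ : ℂ) * (a χ : ℂ) * (a χ : ℂ) / (d χ : ℂ) =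
      32 / (Nat.card G : ℂ) := by
    have h := sum_classFun_mul_conj hFcl t t
    rw [hcount] at h
    rw [show (32 : ℂ) / (Nat.card G : ℂ) = 4 * ((Nat.card G : ℂ)⁻¹ * 8) by ring, h, Finset.mul_sum]
    refine Finset.sum_congr rfl fun χ _ => ?_
    rw [hinner, ha, hd]
    ring
  set one := trivialIrr G with hone_def
  have hv1 : d one = 1 ∧ a one = 1 := by
    have e : ∀ g : G, (one : G → ℂ) g = 1 := fun g => rfl
    have h1 : d one = 1 := by have := hd one; rw [e] at this; exact_mod_cast this.symm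
    have h2 : a one = 1 := by have := ha one; rw [e] at this; exact_mod_cast this.symm
    exact ⟨h1, h2⟩
  obtain ⟨hd1, ha1⟩ := hv1
  set T := (Finset.univ.erase one).filter (fun χ => a χ ≠ 0) with hT
  have hrest : ∀ v : IrrCharacter G → ℤ, ∑ χ, v χ * a χ = v one + ∑ χ ∈ T, v χ * a χ := by
    intro v
    rw [← Finset.add_sum_erase _ _ (Finset.mem_univ one), ha1, mul_one, hT, Finset.sum_filter_of_ne]
    intro χ _ h h0
    exact h (by rw [h0, mul_zero])
  have hTa : ∑ χ ∈ T, a χ * a χ = 3 := by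
    have h := hrest a
    rw [haa, ha1] at h
    linarith
  have hTone : ∀ χ ∈ T, a χ = 1 ∨ a χ = -1 := by
    intro χ hχ
    have h0 : a χ ≠ 0 := (Finset.mem_filter.1 hχ).2
    have h1 : a χ * a χ ≤ 3 := hTa ▸ Finset.single_le_sum (fun j _ => mul_self_nonneg (a j)) hχ
    have : a χ ≤ 1 := by nlinarith
    have : -1 ≤ a χ := by nlinarith
    omega
  have hT3 : T.card = 3 := by
    rw [Finset.sum_congr rfl (g := fun _ => (1 : ℤ)) fun χ hχ => by
      rcases hTone χ hχ with h | h <;> rw [h] <;> rfl] at hTa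
    simp at hTa
    omega
  obtain ⟨χ₁, χ₂, χ₃, h12, h13, h23, hTeq⟩ := Finset.card_eq_three.1 hT3
  have hD : d χ₁ * a χ₁ + (d χ₂ * a χ₂ + d χ₃ * a χ₃) = -1 := by
    have h := hrest d
    rw [hda, hd1, hTeq, Finset.sum_insert (by simp [h12, h13]), Finset.sum_pair h23] at h
    linarith
  -- the two-part of the order
  obtain ⟨m, hGm, hm2⟩ : ∃ m, Nat.card G = 4 * m ∧ ¬ 2 ∣ m := by
    obtain ⟨S, hS⟩ := (IsPGroup.of_card (n := 2) (by rw [h4]; rfl) : IsPGroup 2 C).exists_le_sylow
    haveI : Nontrivial (S : Subgroup G) :=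
      Finite.one_lt_card_iff_nontrivial.1 (by have := Subgroup.card_le_of_le hS; omega)
    haveI := S.isPGroup'.center_nontrivial
    obtain ⟨⟨z, hz⟩, hzo⟩ := exists_prime_orderOf_dvd_card' (G := Subgroup.center (S : Subgroup G)) 2 (by
      obtain ⟨n, hn⟩ := IsPGroup.iff_card.1 (S.isPGroup'.to_subgroup (Subgroup.center (S : Subgroup G)))
      rw [hn]
      refine dvd_pow_self 2 fun h0 => ?_
      have := Finite.one_lt_card (α := Subgroup.center (S : Subgroup G))
      rw [hn, h0, pow_zero] at this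
      omega)
    rw [Subgroup.orderOf_mk, ← Subgroup.orderOf_coe] at hzo
    obtain ⟨g, hg⟩ := isConj_iff.1 (hone z hzo)
    have hle : ∀ s ∈ (S : Subgroup G), g⁻¹ * s * g ∈ C := by
      intro s hs
      have h := congrArg Subtype.val (Subgroup.mem_center_iff.1 hz ⟨s, hs⟩)
      simp only [Subgroup.coe_mul] at h
      rw [hC, Subgroup.mem_centralizer_singleton_iff]
      rw [← hg] at h
      calc g⁻¹ * s * g * t = g⁻¹ * (s * (g * t * g⁻¹)) * g := by group
        _ = t * (g⁻¹ * s * g) := by rw [h]; group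
    have hSC : Nat.card (S : Subgroup G) ≤ 4 := h4 ▸ Nat.card_le_card_of_injective
      (fun s : (S : Subgroup G) => (⟨g⁻¹ * s * g, hle s s.2⟩ : C))
      (fun x y h => by simpa using h)
    refine ⟨(S : Subgroup G).index, ?_, S.not_dvd_index⟩
    have := Subgroup.card_le_of_le hS
    rw [← (S : Subgroup G).card_mul_index, show Nat.card (S : Subgroup G) = 4 by omega]
  have hxd : ∀ χ ∈ T, d χ * a χ ∣ (m : ℤ) := by
    intro χ hχ
    have h1 : (d χ).natAbs ∣ 4 * m := hGm ▸ hddvd χ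
    have hoddd : ¬ 2 ∣ d χ := fun h2 => by
      have := hmod χ
      rcases hTone χ hχ with e | e <;> omega
    have hcop : (d χ).natAbs.Coprime 4 := by
      have : (d χ).natAbs.Coprime (2 ^ 2) := Nat.Coprime.pow_right _ ((Nat.prime_two.coprime_iff_not_dvd.2
        (fun h => hoddd (Int.natCast_dvd.2 h))).symm)
      exact this
    have h2 := hcop.dvd_of_dvd_mul_left h1
    have h3 : d χ ∣ (m : ℤ) := Int.dvd_natCast.2 h2
    rcases hTone χ hχ with e | e <;> rw [e]
    · simpa using h3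
    · simpa using h3
  have hmem : χ₁ ∈ T ∧ χ₂ ∈ T ∧ χ₃ ∈ T := by rw [hTeq]; simp
  refine final_arith hGm hm2 (x := ![d χ₁ * a χ₁, d χ₂ * a χ₂, d χ₃ * a χ₃]) ?_ ?_ ?_
  · intro i
    fin_cases i
    · exact hxd _ hmem.1
    · exact hxd _ hmem.2.1
    · exact hxd _ hmem.2.2
  · simpa [add_assoc] using hD
  · have hs : ∑ χ : IrrCharacter G, (a χ : ℂ) * (a χ : ℂ) * (a χ : ℂ) / (d χ : ℂ) =
        1 + ((a χ₁ : ℂ) * a χ₁ * a χ₁ / d χ₁ +
          ((a χ₂ : ℂ) * a χ₂ * a χ₂ / d χ₂ + (a χ₃ : ℂ) * a χ₃ * a χ₃ / d χ₃)) := by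
      rw [← Finset.add_sum_erase _ _ (Finset.mem_univ one), ha1, hd1,
        ← Finset.sum_filter_of_ne (p := fun χ => a χ ≠ 0) (fun χ _ h h0 => h (by simp [h0])), ← hT,
        hTeq, Finset.sum_insert (by simp [h12, h13]), Finset.sum_pair h23]
      norm_num
    rw [hsum] at hs
    have key : ∀ χ ∈ T, (1 : ℂ) / (((d χ * a χ : ℤ) : ℚ) : ℂ) = (a χ : ℂ) * a χ * a χ / d χ := by
      intro χ hχ
      rcases hTone χ hχ with e | e <;> rw [e] <;> push_cast <;> ring
    have : (((Nat.card G : ℚ) * (1 + 1 / ((d χ₁ * a χ₁ : ℤ) : ℚ) + 1 / ((d χ₂ * a χ₂ : ℤ) : ℚ) +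
        1 / ((d χ₃ * a χ₃ : ℤ) : ℚ)) : ℚ) : ℂ) = ((32 : ℚ) : ℂ) := by
      simp only [Rat.cast_mul, Rat.cast_add, Rat.cast_div, Rat.cast_one, Rat.cast_natCast]
      rw [key _ hmem.1, key _ hmem.2.1, key _ hmem.2.2, add_assoc, add_assoc, ← hs]
      have hG0 : (Nat.card G : ℂ) ≠ 0 := Nat.cast_ne_zero.2 Nat.card_pos.ne'
      push_cast
      field_simp
    simpa using (by exact_mod_cast this :
      (Nat.card G : ℚ) * (1 + 1 / ((d χ₁ * a χ₁ : ℤ) : ℚ) + 1 / ((d χ₂ * a χ₂ : ℤ) : ℚ) +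
        1 / ((d χ₃ * a χ₃ : ℤ) : ℚ)) = 32)

end Cfsg.Agent.Invol.V4Order
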