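import Cfsg.Prelude.Def_LocalStructure
import Cfsg.Agent.Lib.Grp.Cores
import Cfsg.Agent.Lib.Grp.Coprime

/-!
# Groups with a unique maximal subgroup over a `p`-subgroup
-/

namespace Cfsg.Agent.Invol.MinOverBasic

open scoped Pointwise

variable {L : Type*} [Group L] [Finite L]

/-- The hypotheses. -/
structure Setup (p : ℕ) (L₀ T Y : Subgroup L) : Prop where
  co : IsCoatom L₀
  YT : Y ≤ T
  TL : T ≤ L₀
  pg : IsPGroup p T
  idx : ¬ p ∣ T.relIndex L₀
  clo : Subgroup.normalClosure (Y : Set L) = ⊤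
  uniq : ∀ M : Subgroup L, IsCoatom M → Y ≤ M → M = L₀

variable {p : ℕ} {L₀ T Y : Subgroup L}

theorem setup_of {T' : Sylow p ↥L₀} [Fact p.Prime] (hL₀ : IsCoatom L₀)
    (hYT : Y ≤ (T' : Subgroup ↥L₀).map L₀.subtype) (hmin : Cfsg.IsMinimalOver Y) :
    Setup p L₀ ((T' : Subgroup ↥L₀).map L₀.subtype) Y where
  co := hL₀
  YT := hYT
  TL := Subgroup.map_subtype_le _
  pg := T'.isPGroup'.map _
  idx := by
    rw [Subgroup.relIndex, Subgroup.subgroupOf,
      Subgroup.comap_map_eq_self_of_injective (Subgroup.subtype_injective _)]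
    exact T'.not_dvd_index
  clo := hmin.1
  uniq := fun M hM hYM => hmin.2.unique ⟨hM, hYM⟩ ⟨hL₀, hYT.trans (Subgroup.map_subtype_le _)⟩

theorem Setup.le_L₀ (h : Setup p L₀ T Y) {X : Subgroup L} (hX : Y ≤ X) (hne : X ≠ ⊤) : X ≤ L₀ := by
  obtain ⟨M, hM, hXM⟩ := (eq_top_or_exists_le_coatom X).resolve_left hne
  exact h.uniq M hM (hX.trans hXM) ▸ hXM

theorem Setup.normal_eq_top (h : Setup p L₀ T Y) {X : Subgroup L} [X.Normal] (hX : Y ≤ X) : X = ⊤ :=
  top_unique (h.clo ▸ Subgroup.normalClosure_le_normal hX)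

theorem Setup.normalizer_L₀ (h : Setup p L₀ T Y) : Subgroup.normalizer (L₀ : Set L) = L₀ := by
  rcases eq_or_lt_of_le (Subgroup.le_normalizer (H := L₀)) with h' | h'
  · exact h'.symm
  · haveI := Subgroup.normalizer_eq_top_iff.mp (h.co.2 _ h')
    exact absurd (h.normal_eq_top (h.YT.trans h.TL)) h.co.1

theorem Setup.normalizer_T (h : Setup p L₀ T Y) : Subgroup.normalizer (T : Set L) ≤ L₀ := by
  refine h.le_L₀ (h.YT.trans Subgroup.le_normalizer) fun ht => ?_
  haveI := Subgroup.normalizer_eq_top_iff.mp ht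
  exact h.co.1 (top_unique ((h.normal_eq_top h.YT).ge.trans h.TL))

theorem Setup.sylow [Fact p.Prime] (h : Setup p L₀ T Y) : ∃ P : Sylow p L, (P : Subgroup L) = T := by
  obtain ⟨P, hP⟩ := h.pg.exists_le_sylow
  refine ⟨P, le_antisymm ?_ hP⟩
  haveI : Group.IsNilpotent ↥(P : Subgroup L) := P.isPGroup'.isNilpotent
  by_contra hne
  have hlt : T.subgroupOf (P : Subgroup L) < ⊤ :=
    lt_top_iff_ne_top.mpr fun h' => hne (Subgroup.subgroupOf_eq_top.mp h')
  obtain ⟨x, hxn, hxT⟩ := SetLike.exists_of_lt (Group.normalizerCondition_of_isNilpotent _ hlt)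
  have hxN : (x : L) ∈ Subgroup.normalizer (T : Set L) := by
    refine Subgroup.mem_normalizer_iff.mpr fun y => ⟨fun hy => ?_, fun hy => ?_⟩
    · exact (Subgroup.mem_normalizer_iff.mp hxn ⟨y, hP hy⟩).mp hy
    · have hy' : y ∈ (P : Subgroup L) := by
        simpa [mul_assoc] using (P : Subgroup L).mul_mem ((P : Subgroup L).mul_mem
          ((P : Subgroup L).inv_mem x.2) (hP hy)) x.2
      exact (Subgroup.mem_normalizer_iff.mp hxn ⟨y, hy'⟩).mpr hy
  -- `T` is a Sylow subgroup of `L₀`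
  set Q := L₀ ⊓ (P : Subgroup L) with hQ
  have hQp : IsPGroup p ↥Q := P.isPGroup'.to_le inf_le_right
  have hTQ : T ≤ Q := le_inf h.TL hP
  have h1 : T.relIndex Q ∣ T.relIndex L₀ :=
    Dvd.intro _ (Subgroup.relIndex_mul_relIndex T Q L₀ hTQ inf_le_left)
  obtain ⟨a, ha⟩ := IsPGroup.iff_card.mp hQp
  have h2 : T.relIndex Q ∣ p ^ a := ha ▸ Dvd.intro_left _ (Grp.card_mul_relIndex hTQ)
  obtain ⟨b, -, hb⟩ := (Nat.dvd_prime_pow Fact.out).mp h2
  rcases b with _ | b
  · have hle : Q ≤ T := Subgroup.relIndex_eq_one.mp (by rw [hb, pow_zero])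
    exact hxT (Subgroup.mem_subgroupOf.mpr (hle ⟨h.normalizer_T hxN, x.2⟩))
  · exact h.idx ((dvd_pow_self p b.succ_ne_zero).trans (hb ▸ h1))

theorem Setup.pCore_le_T [Fact p.Prime] (h : Setup p L₀ T Y) : Cfsg.pCore p L ≤ T := by
  obtain ⟨P, hP⟩ := h.sylow
  haveI := Grp.pCore_isNormal (p := p) (G := L)
  exact hP ▸ Grp.pCore_le_sylow P

theorem Setup.gen (h : Setup p L₀ T Y) {g : L} (hg : g ∉ L₀) :
    Y ⊔ MulAut.conj g • Y = ⊤ := by
  by_contra hne
  have h1 : Y ⊔ MulAut.conj g • Y ≤ L₀ := h.le_L₀ le_sup_left hne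
  have h2 : Y ≤ MulAut.conj g⁻¹ • L₀ := by
    have := Subgroup.pointwise_smul_le_pointwise_smul_iff (a := MulAut.conj g⁻¹) |>.mpr
      (le_sup_right.trans h1)
    rwa [Grp.conj_smul_conj_smul, inv_mul_cancel, map_one, one_smul] at this
  have hco : IsCoatom (MulAut.conj g⁻¹ • L₀ : Subgroup L) := by
    rw [← Grp.map_conj_eq_smul]
    exact (OrderIso.isCoatom_iff (MulEquiv.mapSubgroup (MulAut.conj g⁻¹)) L₀).mpr h.co
  have h3 : g⁻¹ ∈ Subgroup.normalizer (L₀ : Set L) := Grp.mem_normalizer_iff_smul.mpr (h.uniq _ hco h2)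
  rw [h.normalizer_L₀] at h3
  exact hg (by simpa using L₀.inv_mem h3)

theorem Setup.inter_of_normal (h : Setup p L₀ T Y) [Fact p.Prime] {N : Subgroup L} [N.Normal]
    (hN : N ≤ L₀) : N ⊓ T ≤ Cfsg.pCore p L ∧ ¬ p ∣ (N ⊓ T).relIndex N := by
  obtain ⟨P, hP⟩ := h.sylow
  have hidx : ¬ p ∣ (P : Subgroup L).relIndex N := Grp.sylow_inf_normal_relIndex P N
  have hpg : IsPGroup p ↥((P : Subgroup L).subgroupOf N) := P.isPGroup'.comap_subtype
  let Q : Sylow p ↥N := hpg.toSylow hidx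
  have hQ : (Q : Subgroup ↥N).map N.subtype = N ⊓ T := by
    show ((P : Subgroup L).subgroupOf N).map N.subtype = N ⊓ T
    rw [Subgroup.subgroupOf_map_subtype, inf_comm, hP]
  have hfr := Sylow.normalizer_sup_eq_top Q
  rw [hQ] at hfr
  have hY : Y ≤ Subgroup.normalizer ((N ⊓ T : Subgroup L) : Set L) := fun y hy => by
    rw [Grp.mem_normalizer_iff_smul, Subgroup.smul_inf,
      Grp.normalizer_le_smul (Subgroup.normalizer_eq_top (H := N)).ge (Subgroup.mem_top y),
      Grp.normalizer_le_smul Subgroup.le_normalizer (h.YT hy)]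
  have hn : (N ⊓ T).Normal := by
    refine Subgroup.normalizer_eq_top_iff.mp (by_contra fun hne => h.co.1 ?_)
    exact top_unique (hfr ▸ sup_le (h.le_L₀ hY hne) hN)
  refine ⟨Grp.le_pCore hn (h.pg.to_le inf_le_right), ?_⟩
  rw [← hP, inf_comm, Subgroup.inf_relIndex_right]
  exact hidx

theorem Setup.inf_pCore (h : Setup p L₀ T Y) [Fact p.Prime] {N : Subgroup L} [N.Normal]
    (hN : N ≤ L₀) : N ⊓ T = N ⊓ Cfsg.pCore p L :=
  le_antisymm (le_inf inf_le_left (h.inter_of_normal hN).1) (inf_le_inf_left _ h.pCore_le_T)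

/-- Modulo the `p`-core, the Sylow subgroups of a normal subgroup in `L₀` are normal. -/
theorem Setup.sylow_mod (h : Setup p L₀ T Y) [Fact p.Prime] {N : Subgroup L} [N.Normal]
    (hN : N ≤ L₀) {r : ℕ} [Fact r.Prime] (R : Sylow r ↥N) :
    ((N ⊓ T) ⊔ (R : Subgroup ↥N).map N.subtype).Normal := by
  have hXn : (N ⊓ T).Normal := by
    haveI := Grp.pCore_isNormal (p := p) (G := L)
    rw [h.inf_pCore hN]
    infer_instance
  set R' := (R : Subgroup ↥N).map N.subtype
  set X := N ⊓ T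
  set M := Subgroup.normalizer ((X ⊔ R' : Subgroup L) : Set L) with hM
  have hMN : M ⊔ N = ⊤ := by
    refine top_unique ((Sylow.normalizer_sup_eq_top R).ge.trans (sup_le_sup_right (fun g hg => ?_) _))
    rw [hM, Grp.mem_normalizer_iff_smul, Subgroup.smul_sup,
      Grp.normalizer_le_smul (Subgroup.normalizer_eq_top (H := X)).ge (Subgroup.mem_top g),
      Grp.mem_normalizer_iff_smul.mp hg]
  refine Subgroup.normalizer_eq_top_iff.mp (by_contra fun hne => ?_)
  have hXM : X ≤ M := le_sup_left.trans Subgroup.le_normalizer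
  have hMidx : ¬ p ∣ M.index := by
    intro hd
    have e1 := Grp.card_sup_mul_card_inf_normal (H := M) (N := N)
    rw [hMN, Subgroup.card_top] at e1
    have e2 : M.index * Nat.card ↥(M ⊓ N) = Nat.card ↥N := by
      refine Nat.eq_of_mul_eq_mul_left (Nat.card_pos (α := ↥M)) ?_
      rw [← mul_assoc, M.card_mul_index, e1]
    have e3 : p * Nat.card ↥X ∣ Nat.card ↥N :=
      e2 ▸ Nat.mul_dvd_mul hd (Subgroup.card_dvd_of_le (le_inf hXM inf_le_left))
    rw [← Grp.card_mul_relIndex (inf_le_left : X ≤ N), mul_comm p] at e3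
    exact (h.inter_of_normal hN).2 (Nat.dvd_of_mul_dvd_mul_left Nat.card_pos e3)
  obtain ⟨S₁⟩ : Nonempty (Sylow p ↥M) := inferInstance
  have hS'idx : ¬ p ∣ ((S₁ : Subgroup ↥M).map M.subtype).index := by
    rw [Subgroup.index_map_subtype]
    exact fun h' => ((Nat.Prime.dvd_mul Fact.out).mp h').elim S₁.not_dvd_index hMidx
  obtain ⟨P, hP⟩ := h.sylow
  obtain ⟨g, hg⟩ := MulAction.exists_smul_eq L ((S₁.isPGroup'.map M.subtype).toSylow hS'idx) P
  have hg' : MulAut.conj g • ((S₁ : Subgroup ↥M).map M.subtype) = T := by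
    rw [← hP, ← hg]; rfl
  have hY : Y ≤ MulAut.conj g • M := (h.YT.trans hg'.ge).trans
    (Subgroup.pointwise_smul_le_pointwise_smul_iff.mpr (Subgroup.map_subtype_le _))
  have hgne : MulAut.conj g • M ≠ ⊤ := fun ht => hne (by
    have := congrArg (fun K : Subgroup L => MulAut.conj g⁻¹ • K) ht
    simp only [Grp.conj_smul_conj_smul, inv_mul_cancel, map_one, one_smul] at this
    rw [← hM, this]
    exact Grp.normalizer_le_smul (Subgroup.normalizer_eq_top (H := (⊤ : Subgroup L))).ge (Subgroup.mem_top _))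
  have h1 : M ≤ MulAut.conj g⁻¹ • L₀ := by
    have := Subgroup.pointwise_smul_le_pointwise_smul_iff (a := MulAut.conj g⁻¹) |>.mpr
      (h.le_L₀ hY hgne)
    rwa [Grp.conj_smul_conj_smul, inv_mul_cancel, map_one, one_smul] at this
  have h2 : N ≤ MulAut.conj g⁻¹ • L₀ := by
    rw [← Grp.normalizer_le_smul (Subgroup.normalizer_eq_top (H := N)).ge (Subgroup.mem_top g⁻¹)]
    exact Subgroup.pointwise_smul_le_pointwise_smul_iff.mpr hN
  have h3 : MulAut.conj g⁻¹ • L₀ = ⊤ := top_unique (hMN ▸ sup_le h1 h2)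
  have h4 := congrArg (fun K : Subgroup L => MulAut.conj g • K) h3
  simp only [Grp.conj_smul_conj_smul, mul_inv_cancel, map_one, one_smul] at h4
  exact h.co.1 (h4.trans
    (Grp.normalizer_le_smul (Subgroup.normalizer_eq_top (H := (⊤ : Subgroup L))).ge (Subgroup.mem_top g)))

end Cfsg.Agent.Invol.MinOverBasic
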