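import Mathlib
import Cfsg.Prelude.Def_PLocal
import Cfsg.Agent.Lib.Grp.QuadraticGroup
import Cfsg.Agent.Lib.Recog.MaxClassFacts
import Cfsg.Agent.Lib.Fus.PSLTwo
import Cfsg.Agent.S0201

/-!
# Groups without a quaternion section have no nontrivial quadratic action in odd characteristic
-/

set_option autoImplicit false
set_option linter.unusedSectionVars false
set_option linter.style.haveILetI false

namespace Cfsg.Agent.Invol.NoQuadratic

open scoped commutatorElement

universe u

/-- No 2-subgroup maps onto the quaternion group of order 8. -/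
def QuatFree (Q : Type u) [Group Q] : Prop :=
  ∀ T : Subgroup Q, IsPGroup 2 T → ∀ ψ : T →* QuaternionGroup 2, ¬ Function.Surjective ψ

theorem exists_q8_sl {p : ℕ} [hp : Fact p.Prime] (hp2 : p ≠ 2) :
    ∃ f : QuaternionGroup 2 →* Matrix.SpecialLinearGroup (Fin 2) (ZMod p), Function.Injective f := by
  obtain ⟨x, y, hxy⟩ := ZMod.sq_add_sq p (-1 : ZMod p)
  let i := Fus.PSLTwo.mk2 (0 : ZMod p) 1 (-1) 0 (by ring)
  let j := Fus.PSLTwo.mk2 x y y (-x) (by linear_combination -hxy)
  have h2 : i ^ (2 * 2) = 1 := by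
    apply Subtype.ext
    simp only [Matrix.SpecialLinearGroup.coe_pow, i, Fus.PSLTwo.coe_mk2]
    simp [pow_succ, Matrix.one_fin_two]
  have hjj : j * j = i ^ 2 := by
    apply Subtype.ext
    simp only [Matrix.SpecialLinearGroup.coe_pow, Matrix.SpecialLinearGroup.coe_mul, i, j, Fus.PSLTwo.coe_mk2,
      pow_two, Matrix.mul_fin_two]
    ext a b
    fin_cases a <;> fin_cases b <;> simp <;> first | linear_combination hxy | ring
  have hji : j * i * j⁻¹ = i⁻¹ := by
    rw [mul_inv_eq_iff_eq_mul, eq_inv_mul_iff_mul_eq]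
    apply Subtype.ext
    simp only [Matrix.SpecialLinearGroup.coe_mul, i, j, Fus.PSLTwo.coe_mk2, Matrix.mul_fin_two]
    ext a b
    fin_cases a <;> fin_cases b <;> simp
  refine ⟨MaxClass.quaternionHom i j h2 hjj hji, (injective_iff_map_eq_one _).mpr fun z hz => ?_⟩
  have hcase : ∀ z : QuaternionGroup 2, z = 1 ∨ z = .a 2 ∨ z * z = .a 2 := by decide
  by_contra hne
  have h4 : MaxClass.quaternionHom i j h2 hjj hji (.a 2) = 1 := by
    rcases (hcase z).resolve_left hne with h | h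
    · rw [← h]; exact hz
    · rw [← h, map_mul, hz, one_mul]
  rw [show (QuaternionGroup.a 2 : QuaternionGroup 2) = .a 1 * .a 1 by decide, map_mul,
    MaxClass.quaternionHom_a] at h4
  have h5 := congrArg (fun M : Matrix.SpecialLinearGroup (Fin 2) (ZMod p) => (M : Matrix (Fin 2) (Fin 2) (ZMod p)) 0 0) h4
  simp [i, Matrix.mul_apply, Fin.sum_univ_two] at h5
  exact Ring.two_ne_zero (R := ZMod p) (by rw [ZMod.ringChar_zmod_n]; exact hp2)
    (by linear_combination -h5)

/-- The main point: a faithful irreducible module of a group without quaternion sections has no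
nontrivial quadratic element. -/
theorem false_of_quad {p : ℕ} [hp : Fact p.Prime] (hp2 : p ≠ 2) {Q : Type u} [Group Q] [Finite Q]
    (hfree : QuatFree Q) {W : Type u} [AddCommGroup W] [Module (ZMod p) W] [Finite W]
    (ρ : Q →* Module.End (ZMod p) W) (hinj : Function.Injective ρ) {a : Q}
    (ha : ∀ w, ρ a (ρ a w - w) = ρ a w - w) (hcore : a ∉ Cfsg.pCore p Q) : False := by
  obtain ⟨n, x, hx, hxp, hx1⟩ := Grp.Quad.exists_pair (p := p) (MonoidHom.id Q) (fun q => ⟨q, rfl⟩) hcore
  set b := n * a * n⁻¹ with hb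
  set Γ := Subgroup.closure ({a, b} : Set Q) with hΓ
  have hbq : ∀ w, ρ b (ρ b w - w) = ρ b w - w := by
    intro w
    have hn : ∀ w, ρ n (ρ n⁻¹ w) = w := fun w => by
      rw [← Module.End.mul_apply, ← map_mul, mul_inv_cancel, map_one]; rfl
    have hni : ∀ w, ρ n⁻¹ (ρ n w) = w := fun w => by
      rw [← Module.End.mul_apply, ← map_mul, inv_mul_cancel, map_one]; rfl
    have hbw : ∀ w, ρ b w = ρ n (ρ a (ρ n⁻¹ w)) := fun w => by
      rw [hb, map_mul, map_mul]; rfl
    have h1 : ρ b w - w = ρ n (ρ a (ρ n⁻¹ w) - ρ n⁻¹ w) := by rw [map_sub, hn, ← hbw]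
    rw [h1, hbw, hni, ha]
  have hgen : Subgroup.closure ({⟨a, Subgroup.subset_closure (by simp)⟩, ⟨b, Subgroup.subset_closure (by simp)⟩} :
      Set Γ) = ⊤ := by
    refine Subgroup.map_injective Γ.subtype_injective ?_
    rw [MonoidHom.map_closure, Set.image_pair, ← MonoidHom.range_eq_map, Subgroup.range_subtype]
    rfl
  obtain ⟨K, _, _, _, φ, P, hP, -, -, -, -, hle, -⟩ := Grp.Quad.exists_sl_two_of_ne (p := p) hp2
    (ρ.comp Γ.subtype) hgen ha hbq (x := ⟨x, hx⟩)
    (fun h => hx1 (hinj (h.trans (map_one ρ).symm)))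
    (by rwa [Subgroup.orderOf_mk])
  obtain ⟨f, hf⟩ := exists_q8_sl (p := p) hp2
  let g : QuaternionGroup 2 →* Matrix.SpecialLinearGroup (Fin 2) K :=
    (Grp.SL2.conjHom P hP).comp ((Grp.SL2.primeHom K p).comp f)
  have hg : Function.Injective g :=
    (Grp.SL2.conjHom_injective P hP).comp ((Grp.SL2.primeHom_injective (F := K) p).comp hf)
  have hrange : g.range ≤ φ.range := by
    rintro _ ⟨z, rfl⟩
    exact hle ⟨_, ⟨f z, rfl⟩, rfl⟩
  -- the preimage of the quaternion group
  let Γ₀ : Subgroup Γ := g.range.comap φ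
  let ψ : Γ₀ →* QuaternionGroup 2 :=
    (MonoidHom.ofInjective hg).symm.toMonoidHom.comp
      ((φ.comp Γ₀.subtype).codRestrict g.range fun z => z.2)
  have hψ : Function.Surjective ψ := by
    intro z
    obtain ⟨y, hy⟩ := hrange ⟨z, rfl⟩
    refine ⟨⟨y, show φ y ∈ g.range from ⟨z, hy.symm⟩⟩, ?_⟩
    simp only [ψ, MonoidHom.comp_apply, MulEquiv.coe_toMonoidHom]
    rw [MulEquiv.symm_apply_eq]
    exact Subtype.ext hy
  obtain ⟨T⟩ : Nonempty (Sylow 2 Γ₀) := inferInstance
  haveI : Fact (Nat.Prime 2) := ⟨Nat.prime_two⟩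
  have hT : (T : Subgroup Γ₀).map ψ = ⊤ := by
    have h8 : IsPGroup 2 (⊤ : Subgroup (QuaternionGroup 2)) := by
      refine IsPGroup.of_card (n := 3) ?_
      rw [Subgroup.card_top, Nat.card_eq_fintype_card, QuaternionGroup.card]; norm_num
    exact ((T.mapSurjective hψ).is_maximal' h8 le_top).symm
  let e : ↥(T : Subgroup Γ₀) →* Q := (Γ.subtype.comp Γ₀.subtype).comp (T : Subgroup Γ₀).subtype
  have he : Function.Injective e :=
    (Γ.subtype_injective.comp Γ₀.subtype_injective).comp (T : Subgroup Γ₀).subtype_injective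
  refine hfree e.range (T.2.map ((Γ.subtype.comp Γ₀.subtype)) |>.to_le ?_)
    ((ψ.comp (T : Subgroup Γ₀).subtype).comp (MonoidHom.ofInjective he).symm.toMonoidHom) ?_
  · rintro _ ⟨t, rfl⟩
    exact ⟨_, t.2, rfl⟩
  · intro z
    obtain ⟨t, ht, htz⟩ := hT.ge (Subgroup.mem_top z)
    exact ⟨MonoidHom.ofInjective he ⟨t, ht⟩, by simp [htz]⟩

theorem quatFree_psl {F : Type*} [Field F] [Fintype F] (hodd : Fintype.card F % 2 = 1)
    {Q : Type u} [Group Q] [Finite Q] (iso : Q ≃* Matrix.ProjectiveSpecialLinearGroup (Fin 2) F) :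
    QuatFree Q := by
  haveI : Fact (Nat.Prime 2) := ⟨Nat.prime_two⟩
  intro T hT ψ hψ
  set T' := T.map iso.toMonoidHom with hT'
  obtain ⟨S, hS⟩ := (hT.map iso.toMonoidHom).exists_le_sylow
  obtain ⟨k, ⟨d⟩, -⟩ := Fus.PSLTwo.exists_sylow_dihedral hodd S
  obtain ⟨x, hx⟩ := hψ (.a 1)
  obtain ⟨y, hy⟩ := hψ (.xa 0)
  let j : T →* DihedralGroup (2 ^ k) :=
    d.toMonoidHom.comp ((iso.toMonoidHom.comp T.subtype).codRestrict
      (S : Subgroup (Matrix.ProjectiveSpecialLinearGroup (Fin 2) F)) fun t => hS ⟨t, t.2, rfl⟩)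
  have hj : Function.Injective j := fun s t h =>
    Subtype.ext (iso.injective (congrArg Subtype.val (d.injective h)))
  have hr : ∀ t : T, ψ t * ψ t ≠ 1 → ∃ i, j t = .r i := by
    intro t ht
    rcases h : j t with i | i
    · exact ⟨i, rfl⟩
    · refine absurd ?_ ht
      have h1 : t * t = 1 := hj (by rw [map_mul, map_one, h, DihedralGroup.sr_mul_sr, sub_self, DihedralGroup.one_def])
      rw [← map_mul, h1, map_one]
  obtain ⟨i, hi⟩ := hr x (by rw [hx]; decide)
  obtain ⟨l, hl⟩ := hr y (by rw [hy]; decide)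
  have hc : x * y = y * x := hj (by rw [map_mul, map_mul, hi, hl, DihedralGroup.r_mul_r, DihedralGroup.r_mul_r, add_comm])
  have := congrArg ψ hc
  rw [map_mul, map_mul, hx, hy] at this
  revert this
  decide

theorem quatFree_of_simple_eight {Q : Type u} [Group Q] [Finite Q] [IsSimpleGroup Q]
    (hna : ¬ IsMulCommutative Q) (h8 : ¬ 16 ∣ Nat.card Q) : QuatFree Q := by
  haveI : Fact (Nat.Prime 2) := ⟨Nat.prime_two⟩
  intro T hT ψ hψ
  obtain ⟨S, hS⟩ := hT.exists_le_sylow
  have hge : 8 ≤ Nat.card T := by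
    have := Nat.card_le_card_of_surjective ψ hψ
    rwa [Nat.card_eq_fintype_card (α := QuaternionGroup 2), QuaternionGroup.card] at this
  obtain ⟨j, hj⟩ := IsPGroup.iff_card.mp S.2
  have hj3 : j ≤ 3 := by
    by_contra h
    exact h8 ((pow_dvd_pow 2 (show 4 ≤ j by omega)).trans (hj ▸ Subgroup.card_subgroup_dvd_card (S : Subgroup Q)))
  have hle : Nat.card S ≤ 8 := by rw [hj]; exact Nat.pow_le_pow_right two_pos hj3
  have hTS : T = (S : Subgroup Q) := Subgroup.eq_of_le_of_card_ge hS (hle.trans hge)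
  have hcard : Nat.card T = Nat.card (QuaternionGroup 2) := by
    rw [Nat.card_eq_fintype_card (α := QuaternionGroup 2), QuaternionGroup.card]
    exact le_antisymm (hTS ▸ hle) hge
  let e : ↥(S : Subgroup Q) ≃* QuaternionGroup (2 ^ (0 + 1)) :=
    (MulEquiv.subgroupCongr hTS.symm).trans
      (MulEquiv.ofBijective ψ ((Nat.bijective_iff_surjective_and_card ψ).mpr ⟨hψ, hcard⟩))
  have hz := S0201.result S 0 e fun N hN hodd => by
    refine (hN.eq_bot_or_eq_top).resolve_right fun h => ?_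
    rw [h, Subgroup.card_top] at hodd
    exact (Nat.not_even_iff_odd.mpr hodd) ((even_iff_two_dvd).mpr
      ((dvd_trans (by rw [hcard, Nat.card_eq_fintype_card, QuaternionGroup.card]; norm_num) (Subgroup.card_subgroup_dvd_card T))))
  rcases (inferInstance : (Subgroup.center Q).Normal).eq_bot_or_eq_top with h | h
  · rw [h, Subgroup.card_bot] at hz
    omega
  · exact hna ⟨⟨fun x y => (Subgroup.mem_center_iff.mp (h ▸ Subgroup.mem_top y) x)⟩⟩

end Cfsg.Agent.Invol.NoQuadratic
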