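import Cfsg.Agent.Lib.Invol.NoSCNBasic

/-!
# A non-central invariant normal abelian subgroup of a group without normal elementary subgroups of order 8

Such a subgroup `B` is homocyclic on two generators; if it is self-centralizing its exponent is 4 and all
squares are central.
-/

set_option autoImplicit false

namespace Cfsg.Agent.Invol.NoSCN

variable {X : Type*} [Group X] [Finite X] {A : Subgroup (MulAut X)}

/-- A non-central invariant normal abelian subgroup with its involutions and exponent `2 ^ (m + 2)`. -/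
structure Homo (A : Subgroup (MulAut X)) (B D : Subgroup X) (ω : MulAut X) (m : ℕ) : Prop where
  hyp : Hyp A
  normal : B.Normal
  comm : ∀ a ∈ B, ∀ b ∈ B, a * b = b * a
  inv : ∀ φ ∈ A, ∀ b ∈ B, φ b ∈ B
  D_center : D ≤ Subgroup.center X
  mem_D : ∀ w, w ∈ D ↔ w ∈ B ∧ w * w = 1
  D_card : Nat.card D = 4
  ω_mem : ω ∈ A
  noncentral : ¬ B ≤ Subgroup.center X
  rot : Rot ω D
  exp : ∀ b ∈ B, b ^ 2 ^ (m + 2) = 1
  root : ∀ j, j ≤ m + 2 → ∀ b ∈ B, b ^ 2 ^ j = 1 → ∃ c ∈ B, b = c ^ 2 ^ (m + 2 - j)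

theorem Hyp.exists_homo (h : Hyp A) {B : Subgroup X} [hB : B.Normal]
    (hBc : ∀ a ∈ B, ∀ b ∈ B, a * b = b * a) (hBi : ∀ φ ∈ A, ∀ b ∈ B, φ b ∈ B)
    (hnc : ¬ B ≤ Subgroup.center X) : ∃ D ω m, Homo A B D ω m := by
  classical
  obtain ⟨D, -, hDz, hD, -, hcase⟩ := h.omega_cases hBc hBi
  obtain ⟨h4, ω, hω, hrot⟩ := hcase.resolve_left fun hc => hnc hc.1
  have hex : ∃ n, ∀ b ∈ B, b ^ 2 ^ n = 1 := by
    obtain ⟨k, hk⟩ := IsPGroup.iff_card.mp h.pgroup
    exact ⟨k, fun b _ => by rw [← hk]; exact pow_card_eq_one'⟩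
  set n := Nat.find hex with hn
  have hexp : ∀ b ∈ B, b ^ 2 ^ n = 1 := Nat.find_spec hex
  have hn2 : 2 ≤ n := by
    by_contra hlt
    refine hnc fun b hb => hDz ((hD b).mpr ⟨hb, ?_⟩)
    have h1 := hexp b hb
    rcases (show n = 0 ∨ n = 1 by omega) with e | e <;> rw [e] at h1
    · rw [show b = 1 by simpa using h1, mul_one]
    · rw [← pow_two]; simpa using h1
  obtain ⟨m, hm⟩ : ∃ m, n = m + 2 := ⟨n - 2, by omega⟩
  refine ⟨D, ω, m, h, hB, hBc, hBi, hDz, hD, h4, hω, hnc, hrot, fun b hb => hm ▸ hexp b hb, ?_⟩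
  -- every involution is a power of largest exponent
  have htop : ∀ u ∈ D, ∃ e ∈ B, u = e ^ 2 ^ (m + 1) := by
    obtain ⟨b, hb, hbne⟩ : ∃ b ∈ B, b ^ 2 ^ (m + 1) ≠ 1 := by
      have := Nat.find_min hex (show m + 1 < Nat.find hex by omega)
      push Not at this
      exact this
    have hw : b ^ 2 ^ (m + 1) ∈ D := (hD _).mpr ⟨pow_mem hb _, by
      rw [← pow_add, ← two_mul, ← pow_succ', show m + 1 + 1 = n by omega]; exact hexp b hb⟩
    intro u hu
    rcases hrot.all _ hw hbne u hu with e | e | e | e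
    · exact ⟨1, one_mem B, by rw [one_pow]; exact e⟩
    · exact ⟨b, hb, e⟩
    · exact ⟨ω b, hBi ω hω b hb, by rw [← map_pow]; exact e⟩
    · exact ⟨ω (ω b), hBi ω hω _ (hBi ω hω b hb), by rw [← map_pow, ← map_pow]; exact e⟩
  intro j
  induction j with
  | zero => intro _ b _ hb; exact ⟨1, one_mem B, by simpa using hb⟩
  | succ j ih =>
    intro hj b hb hbj
    have hu : b ^ 2 ^ j ∈ D := (hD _).mpr ⟨pow_mem hb _, by
      rw [← pow_add, ← two_mul, ← pow_succ']; exact hbj⟩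
    obtain ⟨e, he, hue⟩ := htop _ hu
    obtain ⟨k, hk⟩ : ∃ k, m + 1 = k + j := ⟨m + 1 - j, by omega⟩
    have hk1 : m + 2 - (j + 1) = k := by omega
    have hk2 : m + 2 - j = k + 1 := by omega
    rw [hk1]
    set b' := b * (e ^ 2 ^ k)⁻¹ with hb'
    have hb'B : b' ∈ B := mul_mem hb (inv_mem (pow_mem he _))
    have hcm : Commute b (e ^ 2 ^ k)⁻¹ := hBc _ hb _ (inv_mem (pow_mem he _))
    have hb'j : b' ^ 2 ^ j = 1 := by
      rw [hb', hcm.mul_pow, inv_pow, ← pow_mul, ← pow_add, ← hk, hue, mul_inv_cancel]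
    obtain ⟨c, hc, hbc⟩ := ih (by omega) b' hb'B hb'j
    rw [hk2] at hbc
    refine ⟨c ^ 2 * e, mul_mem (pow_mem hc _) he, ?_⟩
    have hce : Commute (c ^ 2) e := hBc _ (pow_mem hc 2) _ he
    rw [hce.mul_pow, ← pow_mul, ← pow_succ', ← hbc, hb', inv_mul_cancel_right]

namespace Homo

variable {B D : Subgroup X} {ω : MulAut X} {m : ℕ} (H : Homo A B D ω m)
include H

theorem conj_mem (x : X) {b : X} (hb : b ∈ B) : x * b * x⁻¹ ∈ B := H.normal.conj_mem b hb x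

theorem comm_pow {a b : X} (ha : a ∈ B) (hb : b ∈ B) (k : ℕ) : (a * b) ^ k = a ^ k * b ^ k :=
  (show Commute a b from H.comm a ha b hb).mul_pow k

omit H in
/-- `[x, b]`. -/
def d (x b : X) : X := x * b * x⁻¹ * b⁻¹

theorem d_mem (x : X) {b : X} (hb : b ∈ B) : d x b ∈ B := mul_mem (H.conj_mem x hb) (inv_mem hb)

theorem d_mul (x : X) {b c : X} (hb : b ∈ B) (hc : c ∈ B) : d x (b * c) = d x b * d x c := by
  have h1 := H.comm _ (H.d_mem x hc) _ (inv_mem hb)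
  calc d x (b * c) = (x * b * x⁻¹) * (d x c * b⁻¹) := by simp only [d]; group
    _ = (x * b * x⁻¹) * (b⁻¹ * d x c) := by rw [h1]
    _ = d x b * d x c := by simp only [d]; group

omit H in
theorem d_one (x : X) : d x 1 = 1 := by simp [d]

theorem d_pow (x : X) {b : X} (hb : b ∈ B) : ∀ k : ℕ, d x (b ^ k) = d x b ^ k
  | 0 => by rw [pow_zero, pow_zero, d_one]
  | k + 1 => by rw [pow_succ, H.d_mul x (pow_mem hb k) hb, d_pow x hb k, pow_succ]

theorem d_comp (x y : X) {b : X} (hb : b ∈ B) :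
    d (x * y) b = d x (d y b) * d y b * d x b := by
  simp only [d]; group

omit H in
theorem d_of_center (x : X) {w : X} (hw : w ∈ Subgroup.center X) : d x w = 1 := by
  simp only [d]
  rw [Subgroup.mem_center_iff.mp hw x, mul_inv_cancel_right, mul_inv_cancel]

theorem mem_D_of_pow {b : X} (hb : b ∈ B) : b ^ 2 ^ (m + 1) ∈ D := (H.mem_D _).mpr ⟨pow_mem hb _, by
  rw [← pow_add, ← two_mul, ← pow_succ']; exact H.exp b hb⟩

/-- Commutators with `B` are squares. -/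
theorem d_pow_top (x : X) {b : X} (hb : b ∈ B) : d x b ^ 2 ^ (m + 1) = 1 := by
  rw [← H.d_pow x hb]; exact d_of_center x (H.D_center (H.mem_D_of_pow hb))

theorem d_sq (x : X) {b : X} (hb : b ∈ B) : ∃ c ∈ B, d x b = c ^ 2 := by
  obtain ⟨c, hc, h⟩ := H.root (m + 1) (by omega) _ (H.d_mem x hb) (H.d_pow_top x hb)
  exact ⟨c, hc, by rw [h, show m + 2 - (m + 1) = 1 by omega, pow_one]⟩

theorem exists_root {w : X} (hw : w ∈ D) : ∃ b ∈ B, b ^ 2 ^ (m + 1) = w := by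
  obtain ⟨hwB, hw2⟩ := (H.mem_D w).mp hw
  obtain ⟨c, hc, h⟩ := H.root 1 (by omega) w hwB (by rw [pow_one, pow_two]; exact hw2)
  exact ⟨c, hc, by rw [h, show m + 2 - 1 = m + 1 by omega]⟩

/-- The action of `x` between the two top layers of `B`. -/
theorem exists_delta : ∃ δ : X → X → X,
    (∀ x, ∀ b ∈ B, δ x (b ^ 2 ^ (m + 1)) = d x b ^ 2 ^ m) ∧ (∀ x, ∀ w ∈ D, δ x w ∈ D) ∧
    (∀ x, ∀ u ∈ D, ∀ w ∈ D, δ x (u * w) = δ x u * δ x w) ∧
    (∀ x y, ∀ w ∈ D, δ (x * y) w = δ x w * δ y w) ∧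
    (∀ φ ∈ A, ∀ x, ∀ w ∈ D, δ (φ x) (φ w) = φ (δ x w)) := by
  classical
  let δ : X → X → X := fun x w =>
    if hw : w ∈ D then d x (H.exists_root hw).choose ^ 2 ^ m else 1
  have hspec : ∀ x, ∀ b ∈ B, δ x (b ^ 2 ^ (m + 1)) = d x b ^ 2 ^ m := by
    intro x b hb
    have hw := H.mem_D_of_pow hb
    simp only [δ, dif_pos hw]
    obtain ⟨hrB, hr⟩ := (H.exists_root hw).choose_spec
    generalize (H.exists_root hw).choose = r at hrB hr
    have hq : (r * b⁻¹) ^ 2 ^ (m + 1) = 1 := by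
      rw [H.comm_pow hrB (inv_mem hb), hr, inv_pow, mul_inv_cancel]
    obtain ⟨c, hc, hrc⟩ := H.root (m + 1) (by omega) _ (mul_mem hrB (inv_mem hb)) hq
    have hr' : r = c ^ 2 * b := by
      rw [show m + 2 - (m + 1) = 1 by omega, pow_one] at hrc
      rw [← hrc, inv_mul_cancel_right]
    rw [hr', H.d_mul x (pow_mem hc 2) hb, H.d_pow x hc, H.comm_pow (pow_mem (H.d_mem x hc) 2) (H.d_mem x hb),
      ← pow_mul, ← pow_succ', H.d_pow_top x hc, one_mul]
  refine ⟨δ, hspec, fun x w hw => ?_, fun x u hu w hw => ?_, fun x y w hw => ?_, fun φ hφ x w hw => ?_⟩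
  · obtain ⟨b, hb, rfl⟩ := H.exists_root hw
    rw [hspec x b hb]
    exact (H.mem_D _).mpr ⟨pow_mem (H.d_mem x hb) _, by
      rw [← pow_add, ← two_mul, ← pow_succ']; exact H.d_pow_top x hb⟩
  · obtain ⟨a, ha, rfl⟩ := H.exists_root hu
    obtain ⟨b, hb, rfl⟩ := H.exists_root hw
    rw [← H.comm_pow ha hb, hspec x _ (mul_mem ha hb), hspec x a ha, hspec x b hb, H.d_mul x ha hb,
      H.comm_pow (H.d_mem x ha) (H.d_mem x hb)]
  · obtain ⟨b, hb, rfl⟩ := H.exists_root hw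
    rw [hspec _ b hb, hspec _ b hb, hspec _ b hb, H.d_comp x y hb]
    have h1 := H.d_mem x (H.d_mem y hb)
    rw [H.comm_pow (mul_mem h1 (H.d_mem y hb)) (H.d_mem x hb), H.comm_pow h1 (H.d_mem y hb)]
    obtain ⟨c, hc, hyc⟩ := H.d_sq y hb
    have h2 : d x (d y b) ^ 2 ^ m = 1 := by
      rw [hyc, H.d_pow x hc, ← pow_mul, ← pow_succ']; exact H.d_pow_top x hc
    rw [h2, one_mul]
    exact H.comm _ (pow_mem (H.d_mem y hb) _) _ (pow_mem (H.d_mem x hb) _)
  · obtain ⟨b, hb, rfl⟩ := H.exists_root hw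
    rw [map_pow, hspec _ _ (H.inv φ hφ b hb), hspec x b hb, map_pow]
    simp [d]

omit H in
/-- The twist of a map is semilinear. -/
theorem twist_anti {ψ : MulAut X} (hψ : Rot ψ D) (f : X → X) (hf : ∀ w ∈ D, f w ∈ D)
    (hfm : ∀ u ∈ D, ∀ w ∈ D, f (u * w) = f u * f w) {w : X} (hw : w ∈ D) :
    f (ψ w) * ψ (f (ψ (ψ (ψ w)))) = ψ (ψ (f w * ψ (f (ψ (ψ w))))) := by
  have h1 : ψ w ∈ D := hψ.mem _ hw
  have h2 : ψ (ψ w) ∈ D := hψ.mem _ h1
  rw [hψ.three hw, map_mul, map_mul, hψ.three (hf _ h2), hψ.two w hw, hfm _ hw _ h1,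
    hψ.two _ (hf _ hw)]
  have c1 := hψ.comm (hf _ h1) (hψ.mem _ (hf _ hw))
  calc f (ψ w) * ψ (f w) = ψ (f w) * f (ψ w) := c1
    _ = f w * f w * (ψ (f w) * f (ψ w)) := by rw [hψ.sq _ (hf _ hw), one_mul]
    _ = f w * (f w * ψ (f w)) * f (ψ w) := by group
    _ = f w * (ψ (f w) * f w) * f (ψ w) := by rw [hψ.comm (hf _ hw) (hψ.mem _ (hf _ hw))]
    _ = _ := by group

omit H in
/-- A semilinear map fixing no involution is injective and its own inverse. -/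
theorem anti_facts (hrot : Rot ω D) {f : X → X} (hf : ∀ w ∈ D, f w ∈ D)
    (hfm : ∀ u ∈ D, ∀ w ∈ D, f (u * w) = f u * f w)
    (hanti : ∀ w ∈ D, f (ω w) = ω (ω (f w))) :
    ((∀ w ∈ D, f w = 1) ∨ ∀ w ∈ D, f w = 1 → w = 1) ∧
      ∀ w ∈ D, f w ≠ 1 → f (f w) = w ∧ ∃ u ∈ D, f u ≠ u := by
  have hf1 : f 1 = 1 := by
    have := hfm 1 (one_mem D) 1 (one_mem D)
    rw [mul_one, left_eq_mul] at this
    exact this
  have hkill : ∀ w ∈ D, w ≠ 1 → f w = 1 → ∀ v ∈ D, f v = 1 := by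
    intro w hw hw1 he v hv
    rcases hrot.all w hw hw1 v hv with e | e | e | e <;> rw [e]
    · exact hf1
    · exact he
    · rw [hanti w hw, he, map_one, map_one]
    · rw [hanti _ (hrot.mem w hw), hanti w hw, he]; simp
  refine ⟨?_, fun w hw hne => ⟨?_, ?_⟩⟩
  · by_cases hz : ∀ w ∈ D, f w = 1
    · exact Or.inl hz
    · exact Or.inr fun w hw he => by_contra fun hw1 => hz (hkill w hw hw1 he)
  · have hw1 : w ≠ 1 := fun e => hne (e ▸ hf1)
    rcases hrot.all w hw hw1 _ (hf w hw) with e | e | e | e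
    · exact absurd e hne
    · rw [e, e]
    · rw [e, hanti w hw, e, hrot.three hw]
    · rw [e, hanti _ (hrot.mem w hw), hanti w hw, e, hrot.three hw, hrot.three hw]
  · by_contra hall
    push Not at hall
    have hw1 : w ≠ 1 := fun e => hne (e ▸ hf1)
    have h1 := hanti w hw
    rw [hall _ (hrot.mem w hw), hall w hw] at h1
    exact hw1 (hrot.ne w hw (ω.injective h1).symm)

omit H in
theorem rot_pow_cases {ψ : MulAut X} (hrot : Rot ω D) (hψ : Odd (orderOf ψ)) (h4 : Nat.card D = 4)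
    (hmem : ∀ w ∈ D, ψ w ∈ D) :
    (∀ w ∈ D, ψ w = w) ∨
      (Rot ψ D ∧ ((∀ w ∈ D, ψ w = ω w) ∨ ∀ w ∈ D, ψ w = ω (ω w))) := by
  by_cases hf : ∀ w ∈ D, ψ w = w
  · exact Or.inl hf
  push Not at hf
  obtain ⟨v, hv, hvm⟩ := hf
  obtain ⟨hψr, -⟩ := rot_of_moved hψ h4.le hmem hrot.sq hv hvm
  refine Or.inr ⟨hψr, ?_⟩
  have hv1 : v ≠ 1 := fun e => hvm (by rw [e, map_one])
  have hext : ∀ χ : MulAut X, χ v = ψ v → χ (χ v) = ψ (ψ v) → (∀ w ∈ D, χ (χ (χ w)) = w) →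
      ∀ w ∈ D, ψ w = χ w := by
    intro χ e1 e2 e3 w hw
    rcases hψr.all v hv hv1 w hw with e | e | e | e <;> rw [e]
    · rw [map_one, map_one]
    · exact e1.symm
    · conv_rhs => rw [← e1]
      exact e2.symm
    · conv_rhs => rw [← e2]
      rw [hψr.three hv, e3 v hv]
  rcases hrot.all v hv hv1 _ (hmem v hv) with e | e | e | e
  · exact absurd (show v = 1 by simpa using congrArg ψ.symm e) hv1
  · exact absurd e hvm
  · exact Or.inl (hext ω e.symm (by rw [hψr.two v hv, hrot.two v hv, e]) (fun w hw => hrot.three hw))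
  · exact Or.inr (hext (ω * ω) e.symm (by rw [hψr.two v hv, hrot.flip.two v hv, e]; rfl)
      (fun w hw => hrot.flip.three hw))

end Homo

end Cfsg.Agent.Invol.NoSCN
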