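import Mathlib
import Cfsg.Agent.Lib.Transfer.NormalSteps
import Cfsg.Agent.Lib.Grp.Frattini

/-!
# 2-groups without normal elementary abelian subgroups of order 8: basic facts

A group `A` of automorphisms of odd order with `X = [X, A]` acts without fixed points on the abelian
factor group of `X`; an invariant normal abelian subgroup is central or has an element of `A`
permuting its three involutions cyclically.
-/

set_option autoImplicit false

namespace Cfsg.Agent.Invol.NoSCN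

variable {X : Type*} [Group X]

/-- `φ` permutes the non-identity elements of the four-group `D` cyclically. -/
structure Rot (φ : MulAut X) (D : Subgroup X) : Prop where
  mem : ∀ w ∈ D, φ w ∈ D
  sq : ∀ w ∈ D, w * w = 1
  two : ∀ w ∈ D, φ (φ w) = w * φ w
  ne : ∀ w ∈ D, φ w = w → w = 1
  all : ∀ w ∈ D, w ≠ 1 → ∀ v ∈ D, v = 1 ∨ v = w ∨ v = φ w ∨ v = φ (φ w)

namespace Rot

variable {φ : MulAut X} {D : Subgroup X} (h : Rot φ D)
include h

theorem comm {u v : X} (hu : u ∈ D) (hv : v ∈ D) : u * v = v * u := by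
  have h1 := h.sq _ (mul_mem hu hv)
  have h2 : (u * v)⁻¹ = u * v := inv_eq_of_mul_eq_one_right h1
  rw [mul_inv_rev, inv_eq_of_mul_eq_one_right (h.sq u hu), inv_eq_of_mul_eq_one_right (h.sq v hv)] at h2
  exact h2.symm

theorem three {w : X} (hw : w ∈ D) : φ (φ (φ w)) = w := by
  rw [h.two w hw, map_mul, h.two w hw, h.comm hw (h.mem w hw), ← mul_assoc, h.sq _ (h.mem w hw),
    one_mul]

theorem sum {w : X} (hw : w ∈ D) : φ w * φ (φ w) = w := by
  rw [h.two w hw, h.comm hw (h.mem w hw), ← mul_assoc, h.sq _ (h.mem w hw), one_mul]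

theorem two_ne {w : X} (hw : w ∈ D) (he : φ (φ w) = w) : w = 1 := by
  rw [h.two w hw, mul_eq_left] at he
  have := congrArg φ.symm he
  simpa using this

theorem flip : Rot (φ * φ) D where
  mem w hw := h.mem _ (h.mem w hw)
  sq := h.sq
  two w hw := by
    show φ (φ (φ (φ w))) = w * φ (φ w)
    rw [h.three hw, h.two w hw, ← mul_assoc, h.sq w hw, one_mul]
  ne w hw he := h.two_ne hw he
  all w hw hw1 v hv := by
    rcases h.all w hw hw1 v hv with e | e | e | e
    · exact Or.inl e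
    · exact Or.inr (Or.inl e)
    · refine Or.inr (Or.inr (Or.inr ?_))
      show v = φ (φ (φ (φ w)))
      rw [h.three hw]; exact e
    · exact Or.inr (Or.inr (Or.inl e))

end Rot

variable [Finite X]

/-- An automorphism of odd order with `φ a = a c`, `c` fixed and an involution, fixes `a`. -/
theorem eq_one_of_shift {φ : MulAut X} (hφ : Odd (orderOf φ)) {a c : X} (h : φ a = a * c) (hc : φ c = c)
    (h2 : c * c = 1) : c = 1 := by
  have h3 : ∀ m : ℕ, (φ ^ m) a = a * c ^ m := by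
    intro m
    induction m with
    | zero => simp
    | succ m ih =>
      rw [pow_succ', MulAut.mul_apply, ih, map_mul, map_pow, h, hc, pow_succ', mul_assoc]
  obtain ⟨k, hk⟩ := hφ
  have h4 := h3 (orderOf φ)
  rw [pow_orderOf_eq_one, hk, pow_succ, pow_mul, pow_two, h2, one_pow, one_mul] at h4
  exact mul_eq_left.mp h4.symm

/-- An automorphism of odd order moving a four-group permutes its involutions cyclically. -/
theorem rot_of_moved {φ : MulAut X} (hφ : Odd (orderOf φ)) {D : Subgroup X} (hD : Nat.card D ≤ 4)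
    (hmem : ∀ w ∈ D, φ w ∈ D) (hsq : ∀ w ∈ D, w * w = 1) {v : X} (hv : v ∈ D) (hvm : φ v ≠ v) :
    Rot φ D ∧ Nat.card D = 4 := by
  classical
  haveI := Fintype.ofFinite D
  have hcover : ∀ x y : X, x ∈ D → y ∈ D → x ≠ 1 → y ≠ 1 → x ≠ y →
      Nat.card D = 4 ∧ ∀ z ∈ D, z = 1 ∨ z = x ∨ z = y ∨ z = x * y := by
    intro x y hx hy hx1 hy1 hxy
    let s : Finset D := {⟨1, one_mem D⟩, ⟨x, hx⟩, ⟨y, hy⟩, ⟨x * y, mul_mem hx hy⟩}
    have h1 : x * y ≠ 1 := fun e => hxy (by
      calc x = x * (y * y) := by rw [hsq y hy, mul_one]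
        _ = (x * y) * y := by group
        _ = y := by rw [e, one_mul])
    have h2 : x * y ≠ x := fun e => hy1 (mul_eq_left.mp e)
    have h3 : x * y ≠ y := fun e => hx1 (mul_eq_right.mp e)
    have hs : s.card = 4 := by
      simp [s, Finset.card_insert_of_notMem, Subtype.ext_iff, hx1.symm, hy1.symm, h1.symm, hxy,
        h2.symm, h3.symm]
    have hle : Fintype.card D ≤ s.card := by rw [hs, ← Nat.card_eq_fintype_card]; exact hD
    have huniv : s = Finset.univ := Finset.eq_univ_of_card _ (le_antisymm (Finset.card_le_univ _) hle)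
    refine ⟨?_, fun z hz => ?_⟩
    · rw [Nat.card_eq_fintype_card, ← Finset.card_univ, ← huniv, hs]
    · have := huniv ▸ Finset.mem_univ (⟨z, hz⟩ : D)
      simpa [s, Subtype.ext_iff] using this
  have hinj : ∀ w, φ w = 1 → w = 1 := fun w e => by simpa using congrArg φ.symm e
  have hne : ∀ w ∈ D, φ w = w → w = 1 := by
    intro w hw he
    by_contra hw1
    have hv1 : v ≠ 1 := fun e => hvm (by rw [e, map_one])
    have hwv : w ≠ v := fun e => hvm (e ▸ he)
    obtain ⟨-, hall⟩ := hcover w v hw hv hw1 hv1 hwv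
    rcases hall _ (hmem v hv) with e | e | e | e
    · exact hv1 (hinj v e)
    · exact hwv (φ.injective (he.trans e.symm))
    · exact hvm e
    · have h1 : v * φ v = w := by
        have hcm : w * v = v * w := by
          have h2 : (w * v)⁻¹ = w * v := inv_eq_of_mul_eq_one_right (hsq _ (mul_mem hw hv))
          rw [mul_inv_rev, inv_eq_of_mul_eq_one_right (hsq w hw), inv_eq_of_mul_eq_one_right (hsq v hv)] at h2
          exact h2.symm
        rw [e, hcm, ← mul_assoc, hsq v hv, one_mul]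
      exact hw1 (eq_one_of_shift hφ (a := v) (by
        rw [← h1, ← mul_assoc, hsq v hv, one_mul]) he (hsq w hw))
  have hv1 : v ≠ 1 := fun e => hvm (by rw [e, map_one])
  have htwo : ∀ w ∈ D, φ (φ w) = w * φ w := by
    intro w hw
    by_cases hw1 : w = 1
    · simp [hw1]
    have hwm : w ≠ φ w := fun e => hw1 (hne w hw e.symm)
    obtain ⟨-, hall⟩ := hcover w (φ w) hw (hmem w hw) hw1 (fun e => hw1 (hinj w e)) hwm
    rcases hall _ (hmem _ (hmem w hw)) with e | e | e | e
    · exact absurd (hinj _ (hinj _ e)) hw1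
    · exfalso
      obtain ⟨k, hk⟩ := hφ
      have h2 : ∀ j : ℕ, (φ ^ (2 * j)) w = w := by
        intro j
        induction j with
        | zero => simp
        | succ j ih =>
          rw [show 2 * (j + 1) = (2 * j + 1) + 1 by ring, pow_succ', MulAut.mul_apply, pow_succ',
            MulAut.mul_apply, ih, e]
      have h3 := congrArg (fun f : MulAut X => f w) (pow_orderOf_eq_one φ)
      simp only [hk, pow_succ', MulAut.mul_apply, h2, MulAut.one_apply] at h3
      exact hwm h3.symm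
    · exact absurd (φ.injective e).symm hwm
    · exact e
  refine ⟨⟨hmem, hsq, htwo, hne, fun w hw hw1 z hz => ?_⟩,
    (hcover v (φ v) hv (hmem v hv) hv1 (fun e => hv1 (hinj v e)) (Ne.symm hvm)).1⟩
  have hwm : w ≠ φ w := fun e => hw1 (hne w hw e.symm)
  rw [htwo w hw]
  exact (hcover w (φ w) hw (hmem w hw) hw1 (fun e => hw1 (hinj w e)) hwm).2 z hz

variable (A : Subgroup (MulAut X))

/-- Standing hypotheses. -/
structure Hyp : Prop where
  pgroup : IsPGroup 2 X
  odd : Odd (Nat.card A)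
  gen : Subgroup.closure {g : X | ∃ φ ∈ A, ∃ x : X, g = x⁻¹ * φ x} = ⊤
  small : ∀ E : Subgroup X, E.Normal → (∀ a ∈ E, a * a = 1) → Nat.card E ≤ 4

variable {A}

namespace Hyp

variable (h : Hyp A)
include h

theorem odd_order {φ : MulAut X} (hφ : φ ∈ A) : Odd (orderOf φ) := by
  have h1 : orderOf φ ∣ Nat.card A := (Subgroup.orderOf_mk (H := A) φ hφ) ▸ orderOf_dvd_natCard _
  exact h.odd.of_dvd_nat h1

/-- `A` has no fixed points on an abelian factor group. -/
theorem fpf {N : Subgroup X} [N.Normal] (hc : commutator X ≤ N) {x : X}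
    (hx : ∀ φ ∈ A, φ x * x⁻¹ ∈ N) : x ∈ N := by
  classical
  letI : CommGroup (X ⧸ N) :=
    { (inferInstance : Group (X ⧸ N)) with
      mul_comm := (Subgroup.Normal.quotient_commutative_iff_commutator_le.mpr hc).1.comm }
  letI := Fintype.ofFinite A
  let F : X →* X ⧸ N :=
    { toFun := fun y => ∏ φ : A, (QuotientGroup.mk ((φ : MulAut X) y) : X ⧸ N)
      map_one' := by simp
      map_mul' := fun y z => by
        rw [← Finset.prod_mul_distrib]
        exact Finset.prod_congr rfl fun φ _ => by rw [map_mul, QuotientGroup.mk_mul] }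
  have hF : ∀ (ψ : A) (y : X), F ((ψ : MulAut X) y) = F y := by
    intro ψ y
    show ∏ φ : A, (QuotientGroup.mk ((φ : MulAut X) ((ψ : MulAut X) y)) : X ⧸ N) = _
    exact Fintype.prod_equiv (Equiv.mulRight ψ) _ _ fun φ => rfl
  have hker : F.ker = ⊤ := top_le_iff.mp (h.gen ▸ (Subgroup.closure_le _).mpr (by
    rintro _ ⟨φ, hφ, y, rfl⟩
    rw [SetLike.mem_coe, MonoidHom.mem_ker, map_mul, map_inv, hF ⟨φ, hφ⟩, inv_mul_cancel]))
  have h1 : F x = (QuotientGroup.mk x : X ⧸ N) ^ Nat.card A := by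
    show ∏ φ : A, (QuotientGroup.mk ((φ : MulAut X) x) : X ⧸ N) = _
    have : ∀ φ : A, (QuotientGroup.mk ((φ : MulAut X) x) : X ⧸ N) = QuotientGroup.mk x := fun φ => by
      rw [QuotientGroup.eq]
      have h2 := N.inv_mem (hx φ φ.2)
      rw [mul_inv_rev, inv_inv] at h2
      exact Subgroup.Normal.mem_comm inferInstance h2
    simp [this, Nat.card_eq_fintype_card]
  have h2 : F x = 1 := by rw [← MonoidHom.mem_ker, hker]; trivial
  rw [h2] at h1
  obtain ⟨k, hk⟩ := h.pgroup.to_quotient N (QuotientGroup.mk x)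
  have h3 := Nat.eq_one_of_dvd_coprimes ((h.odd.coprime_two_left).pow_left k)
    (orderOf_dvd_of_pow_eq_one hk) (orderOf_dvd_of_pow_eq_one h1.symm)
  exact (QuotientGroup.eq_one_iff x).mp (orderOf_eq_one_iff.mp h3)

theorem central_of_fixed {B : Subgroup X} [hB : B.Normal] (hf : ∀ φ ∈ A, ∀ b ∈ B, φ b = b) :
    B ≤ Subgroup.center X := by
  intro b hb
  have key : ∀ g : X, g ∈ Subgroup.centralizer ({b} : Set X) := fun g => by
    have hg : g ∈ (⊤ : Subgroup X) := trivial
    rw [← h.gen] at hg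
    refine (Subgroup.closure_le _).mpr ?_ hg
    rintro _ ⟨φ, hφ, y, rfl⟩
    rw [SetLike.mem_coe, Subgroup.mem_centralizer_singleton_iff]
    have h1 := hf φ hφ _ (hB.conj_mem b hb y)
    rw [map_mul, map_mul, map_inv, hf φ hφ b hb] at h1
    calc y⁻¹ * φ y * b = y⁻¹ * (φ y * b * (φ y)⁻¹) * φ y := by group
      _ = y⁻¹ * (y * b * y⁻¹) * φ y := by rw [h1]
      _ = _ := by group
  exact Subgroup.mem_center_iff.mpr fun g => Subgroup.mem_centralizer_singleton_iff.mp (key g)

/-- An element of `A` fixing the involutions of an invariant abelian subgroup fixes it. -/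
theorem fixed_of_omega {B : Subgroup X} (hBc : ∀ a ∈ B, ∀ b ∈ B, a * b = b * a) {φ : MulAut X}
    (hφ : φ ∈ A) (hBi : ∀ b ∈ B, φ b ∈ B) (hΩ : ∀ b ∈ B, b * b = 1 → φ b = b) : ∀ b ∈ B, φ b = b := by
  suffices key : ∀ k, ∀ b ∈ B, b ^ 2 ^ k = 1 → φ b = b from fun b hb => by
    obtain ⟨k, hk⟩ := h.pgroup b
    exact key k b hb hk
  intro k
  induction k with
  | zero => intro b _ hb; simp only [pow_zero, pow_one] at hb; simp [hb]
  | succ k ih =>
    intro b hb hbk
    have hc : b⁻¹ * φ b ∈ B := mul_mem (inv_mem hb) (hBi b hb)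
    have h2 : (b⁻¹ * φ b) * (b⁻¹ * φ b) = 1 := by
      have h1 := ih (b ^ 2) (pow_mem hb 2) (by rw [← pow_mul, ← pow_succ']; exact hbk)
      rw [map_pow] at h1
      calc b⁻¹ * φ b * (b⁻¹ * φ b) = b⁻¹ * (φ b * b⁻¹) * φ b := by group
        _ = b⁻¹ * (b⁻¹ * φ b) * φ b := by rw [hBc _ (hBi b hb) _ (inv_mem hb)]
        _ = (b ^ 2)⁻¹ * φ b ^ 2 := by rw [pow_two, pow_two]; group
        _ = 1 := by rw [h1, inv_mul_cancel]
    have := eq_one_of_shift (h.odd_order hφ) (a := b) (c := b⁻¹ * φ b) (by group) (hΩ _ hc h2) h2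
    exact (inv_mul_eq_one.mp this).symm

/-- The involutions of an invariant normal abelian subgroup. -/
theorem omega_cases {B : Subgroup X} [hB : B.Normal] (hBc : ∀ a ∈ B, ∀ b ∈ B, a * b = b * a)
    (hBi : ∀ φ ∈ A, ∀ b ∈ B, φ b ∈ B) :
    ∃ D : Subgroup X, D.Normal ∧ D ≤ Subgroup.center X ∧ (∀ w, w ∈ D ↔ w ∈ B ∧ w * w = 1) ∧
      Nat.card D ≤ 4 ∧
      ((B ≤ Subgroup.center X ∧ ∀ φ ∈ A, ∀ b ∈ B, φ b = b) ∨
        (Nat.card D = 4 ∧ ∃ ω ∈ A, Rot ω D)) := by
  let D : Subgroup X :=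
    { carrier := {w | w ∈ B ∧ w * w = 1}
      one_mem' := ⟨one_mem B, mul_one 1⟩
      mul_mem' := fun {a b} ha hb => ⟨mul_mem ha.1 hb.1, by
        rw [show a * b * (a * b) = a * (b * a) * b by group, hBc b hb.1 a ha.1,
          show a * (a * b) * b = a * a * (b * b) by group, ha.2, hb.2, mul_one]⟩
      inv_mem' := fun {a} ha => ⟨inv_mem ha.1, by rw [← mul_inv_rev, ha.2, inv_one]⟩ }
  have hDn : D.Normal := ⟨fun w hw g => ⟨hB.conj_mem w hw.1 g, by
    rw [show g * w * g⁻¹ * (g * w * g⁻¹) = g * (w * w) * g⁻¹ by group, hw.2, mul_one, mul_inv_cancel]⟩⟩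
  have hcard : Nat.card D ≤ 4 := h.small D hDn fun a ha => ha.2
  have hDi : ∀ φ ∈ A, ∀ w ∈ D, φ w ∈ D := fun φ hφ w hw =>
    ⟨hBi φ hφ w hw.1, by rw [← map_mul, hw.2, map_one]⟩
  haveI := hDn
  by_cases hf : ∀ φ ∈ A, ∀ w ∈ D, φ w = w
  · have hfB : ∀ φ ∈ A, ∀ b ∈ B, φ b = b := fun φ hφ =>
      h.fixed_of_omega hBc hφ (hBi φ hφ) fun b hb hb2 => hf φ hφ b ⟨hb, hb2⟩
    have hBz := h.central_of_fixed hfB
    exact ⟨D, hDn, fun w hw => hBz hw.1, fun w => Iff.rfl, hcard, Or.inl ⟨hBz, hfB⟩⟩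
  push Not at hf
  obtain ⟨ω, hω, v, hv, hvm⟩ := hf
  obtain ⟨hrot, h4⟩ := rot_of_moved (h.odd_order hω) hcard (hDi ω hω) (fun w hw => hw.2) hv hvm
  refine ⟨D, hDn, ?_, fun w => Iff.rfl, hcard, Or.inr ⟨h4, ω, hω, hrot⟩⟩
  haveI := h.pgroup.isNilpotent
  have hne : D ≠ ⊥ := fun e => by rw [e, Subgroup.card_bot] at h4; omega
  obtain ⟨w, hw, hw1⟩ := (Subgroup.bot_or_exists_ne_one _).resolve_left (Grp.inf_center_ne_bot D hne)
  have hz : ∀ y ∈ Subgroup.center X, ω y ∈ Subgroup.center X := fun y hy => by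
    refine Subgroup.mem_center_iff.mpr fun g => ?_
    obtain ⟨g, rfl⟩ := ω.surjective g
    rw [← map_mul, ← map_mul, Subgroup.mem_center_iff.mp hy g]
  intro y hy
  rcases hrot.all w hw.1 hw1 y hy with e | e | e | e <;> rw [e]
  · exact one_mem _
  · exact hw.2
  · exact hz w hw.2
  · exact hz _ (hz w hw.2)

/-- No involution outside a central four-group has all its commutators inside it. -/
theorem no_extension {D : Subgroup X} (hD : D ≤ Subgroup.center X) (hsq : ∀ w ∈ D, w * w = 1)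
    (h4 : Nat.card D = 4) {t : X} (ht : t * t = 1) (hc : ∀ x : X, x * t * x⁻¹ * t⁻¹ ∈ D) : t ∈ D := by
  by_contra htD
  set E := D ⊔ Subgroup.zpowers t
  have hdesc : ∀ y ∈ E, ∃ w ∈ D, y = w ∨ y = w * t := by
    intro y hy
    haveI : D.Normal := ⟨fun n hn g => by
      rw [Subgroup.mem_center_iff.mp (hD hn) g, mul_inv_cancel_right]; exact hn⟩
    obtain ⟨w, hw, z, ⟨i, rfl⟩, rfl⟩ := Subgroup.mem_sup_of_normal_left.mp hy
    refine ⟨w, hw, ?_⟩
    have h2 : t ^ (2 : ℤ) = 1 := by rw [zpow_two]; exact ht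
    obtain ⟨j, rfl | rfl⟩ := i.even_or_odd'
    · left; simp [zpow_mul, h2]
    · right; simp [zpow_add, zpow_mul, h2]
  have hDc : ∀ w ∈ D, t * w = w * t := fun w hw => Subgroup.mem_center_iff.mp (hD hw) t
  have hEs : ∀ a ∈ E, a * a = 1 := by
    intro a ha
    obtain ⟨w, hw, rfl | rfl⟩ := hdesc a ha
    · exact hsq _ hw
    · rw [show w * t * (w * t) = w * (t * w) * t by group, hDc w hw,
        show w * (w * t) * t = w * w * (t * t) by group, hsq w hw, ht, one_mul]
  have hEn : E.Normal := ⟨fun a ha g => by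
    obtain ⟨w, hw, e | e⟩ := hdesc a ha <;> rw [e]
    · rw [Subgroup.mem_center_iff.mp (hD hw) g, mul_inv_cancel_right]
      exact Subgroup.mem_sup_left hw
    · have : g * (w * t) * g⁻¹ = w * (g * t * g⁻¹ * t⁻¹) * t := by
        rw [← mul_assoc, Subgroup.mem_center_iff.mp (hD hw) g]; group
      rw [this]
      exact mul_mem (Subgroup.mem_sup_left (mul_mem hw (hc g)))
        (Subgroup.mem_sup_right (Subgroup.mem_zpowers t))⟩
  have hlt : D < E := lt_of_le_of_ne le_sup_left fun e => htD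
    (e ▸ Subgroup.mem_sup_right (Subgroup.mem_zpowers t))
  have h1 := h.small E hEn hEs
  rw [← h4] at h1
  exact hlt.ne (Subgroup.eq_of_le_of_card_ge hlt.le h1)

end Hyp

end Cfsg.Agent.Invol.NoSCN
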