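import Cfsg.Agent.Lib.Invol.NoSCNSquares

/-!
# Gauss sums of the squaring map of a 2-group with central squares
-/

set_option autoImplicit false

open scoped BigOperators

namespace Cfsg.Agent.Invol.NoSCN

variable {X : Type*} [Group X] [Fintype X]

/-- The signs `λ(x²)` summed over the group. -/
def gauss (l : X → ℤ) : ℤ := ∑ x : X, l (x * x)

variable {Z : Subgroup X} (hZ : Z ≤ Subgroup.center X) (hsq : ∀ x : X, x * x ∈ Z)
  (hcm : ∀ x y : X, x * y * x⁻¹ * y⁻¹ ∈ Z) {l : X → ℤ}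
  (hmul : ∀ a ∈ Z, ∀ b ∈ Z, l (a * b) = l a * l b) (hval : ∀ a ∈ Z, l a = 1 ∨ l a = -1)
include hZ hsq hcm hmul hval

omit [Fintype X] hsq in
theorem comm_hom_left (x x' e : X) :
    l (x * x' * e * (x * x')⁻¹ * e⁻¹) = l (x' * e * x'⁻¹ * e⁻¹) * l (x * e * x⁻¹ * e⁻¹) := by
  rw [← hmul _ (hcm x' e) _ (hcm x e)]
  congr 1
  calc x * x' * e * (x * x')⁻¹ * e⁻¹ = x * (x' * e * x'⁻¹ * e⁻¹) * x⁻¹ * (x * e * x⁻¹ * e⁻¹) := by group
    _ = _ := by rw [Subgroup.mem_center_iff.mp (hZ (hcm x' e)) x, mul_inv_cancel_right]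

/-- The radical. -/
def rad : Subgroup X where
  carrier := {e | ∀ x, l (x * e * x⁻¹ * e⁻¹) = 1}
  one_mem' := fun x => by
    have h1 := hmul 1 (one_mem Z) 1 (one_mem Z)
    rw [mul_one] at h1
    rcases hval 1 (one_mem Z) with h | h
    · rw [mul_one, mul_inv_cancel, inv_one, mul_one]; exact h
    · rw [h] at h1; norm_num at h1
  mul_mem' := fun {a b} ha hb x => by
    rw [show x * (a * b) * x⁻¹ * (a * b)⁻¹ = (x * a * x⁻¹ * a⁻¹) * (a * (x * b * x⁻¹ * b⁻¹) * a⁻¹) by group,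
      Subgroup.mem_center_iff.mp (hZ (hcm x b)) a, mul_inv_cancel_right, hmul _ (hcm x a) _ (hcm x b),
      ha x, hb x, mul_one]
  inv_mem' := fun {a} ha x => by
    have h1 := ha x
    have hz := hcm x a
    rw [show x * a⁻¹ * x⁻¹ * a⁻¹⁻¹ = a⁻¹ * (x * a * x⁻¹ * a⁻¹)⁻¹ * a by group,
      Subgroup.mem_center_iff.mp (hZ (Z.inv_mem hz)) a⁻¹, inv_mul_cancel_right]
    have h2 := hmul _ hz _ (Z.inv_mem hz)
    rw [mul_inv_cancel, h1, one_mul] at h2
    have h3 := hmul 1 (one_mem Z) 1 (one_mem Z)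
    rw [mul_one] at h3
    rcases hval 1 (one_mem Z) with h | h
    · rw [← h2, h]
    · rw [h] at h3; norm_num at h3

omit hsq in
theorem mem_rad {e : X} : e ∈ rad hZ hcm hmul hval ↔ ∀ x, l (x * e * x⁻¹ * e⁻¹) = 1 := Iff.rfl

omit hsq in
theorem le_rad : Z ≤ rad hZ hcm hmul hval := fun z hz x => by
  rw [Subgroup.mem_center_iff.mp (hZ hz) x, mul_inv_cancel_right, mul_inv_cancel]
  have := (mem_rad hZ hcm hmul hval).mp (one_mem (rad hZ hcm hmul hval)) 1
  simpa using this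

theorem gauss_sq :
    (gauss l = 0) ∨ ((∀ e ∈ rad hZ hcm hmul hval, l (e * e) = 1) ∧
      gauss l ^ 2 = Nat.card X * Nat.card (rad hZ hcm hmul hval)) := by
  classical
  have hinner : ∀ e : X, ∑ x : X, l (x⁻¹ * e * x * e⁻¹) =
      if e ∈ rad hZ hcm hmul hval then (Fintype.card X : ℤ) else 0 := by
    intro e
    rw [show ∑ x : X, l (x⁻¹ * e * x * e⁻¹) = ∑ x : X, l (x * e * x⁻¹ * e⁻¹) from
      Fintype.sum_equiv (Equiv.inv X) _ _ fun x => by simp]
    split_ifs with he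
    · rw [Finset.sum_congr rfl fun x _ => he x]; simp
    · obtain ⟨x₀, hx₀⟩ := not_forall.mp he
      have hneg : l (x₀ * e * x₀⁻¹ * e⁻¹) = -1 := (hval _ (hcm x₀ e)).resolve_left hx₀
      have key : ∑ x : X, l (x * e * x⁻¹ * e⁻¹) = -∑ x : X, l (x * e * x⁻¹ * e⁻¹) := by
        conv_lhs => rw [← Fintype.sum_equiv (Equiv.mulRight x₀)
          (fun x => l (x * x₀ * e * (x * x₀)⁻¹ * e⁻¹)) _ fun x => rfl]
        rw [← Finset.sum_neg_distrib]
        refine Finset.sum_congr rfl fun x _ => ?_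
        rw [comm_hom_left hZ hcm hmul hval, hneg]; ring
      linarith
  have hexp : ∀ x e : X, l (x * x) * l (x * e * (x * e)) =
      l (x⁻¹ * e * x * e⁻¹) * l (e * e) := by
    intro x e
    have hc : x⁻¹ * e * x * e⁻¹ ∈ Z := by simpa using hcm x⁻¹ e
    have h1 : x * e * (x * e) = (x * x) * ((x⁻¹ * e * x * e⁻¹) * (e * e)) := by group
    rw [h1, hmul _ (hsq x) _ (Z.mul_mem hc (hsq e)), hmul _ hc _ (hsq e)]
    rcases hval _ (hsq x) with h | h <;> rw [h] <;> ring
  have hsum : gauss l ^ 2 =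
      ∑ e : X, if e ∈ rad hZ hcm hmul hval then (Fintype.card X : ℤ) * l (e * e) else 0 := by
    calc gauss l ^ 2 = ∑ x : X, ∑ y : X, l (x * x) * l (y * y) := by
          rw [pow_two, gauss, Finset.sum_mul_sum]
      _ = ∑ x : X, ∑ e : X, l (x * x) * l (x * e * (x * e)) := by
          refine Finset.sum_congr rfl fun x _ => ?_
          exact (Fintype.sum_equiv (Equiv.mulLeft x) _ _ fun e => rfl).symm
      _ = ∑ e : X, ∑ x : X, l (x⁻¹ * e * x * e⁻¹) * l (e * e) := by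
          rw [Finset.sum_comm]; simp only [hexp]
      _ = _ := by
          refine Finset.sum_congr rfl fun e _ => ?_
          rw [← Finset.sum_mul, hinner]; split_ifs <;> simp
  set R := rad hZ hcm hmul hval
  letI := Fintype.ofFinite R
  have hR : gauss l ^ 2 = (Fintype.card X : ℤ) * ∑ e : R, l ((e : X) * e) := by
    rw [hsum, Finset.mul_sum, ← Finset.sum_filter]
    exact Finset.sum_subtype _ (fun x => by simp) _
  have hRmul : ∀ a b : R, l (((a * b : R) : X) * (a * b : R)) = l ((a : X) * a) * l ((b : X) * b) := by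
    intro a b
    have h1 := hexp (a : X) (b : X)
    rw [show (a : X)⁻¹ * b * a * (b : X)⁻¹ = (a : X)⁻¹ * b * (a : X)⁻¹⁻¹ * (b : X)⁻¹ by group,
      (mem_rad hZ hcm hmul hval).mp b.2 (a : X)⁻¹, one_mul] at h1
    show l ((a : X) * b * ((a : X) * b)) = _
    rcases hval _ (hsq (a : X)) with h | h <;> rw [h] at h1 ⊢ <;> linarith
  by_cases hall : ∀ e : R, l ((e : X) * e) = 1
  · refine Or.inr ⟨fun e he => hall ⟨e, he⟩, ?_⟩
    rw [hR, Finset.sum_congr rfl fun e _ => hall e]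
    simp [Nat.card_eq_fintype_card]
  · obtain ⟨e₀, he₀⟩ := not_forall.mp hall
    have hneg : l ((e₀ : X) * e₀) = -1 := (hval _ (hsq _)).resolve_left he₀
    have key : ∑ e : R, l ((e : X) * e) = -∑ e : R, l ((e : X) * e) := by
      conv_lhs => rw [← Fintype.sum_equiv (Equiv.mulRight e₀)
        (fun e : R => l (((e * e₀ : R) : X) * (e * e₀ : R))) _ fun e => rfl]
      rw [← Finset.sum_neg_distrib]
      refine Finset.sum_congr rfl fun e _ => ?_
      rw [hRmul, hneg]; ring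
    refine Or.inl ?_
    have h0 : gauss l ^ 2 = 0 := by
      rw [hR, show (∑ e : R, l ((e : X) * e)) = 0 by linarith, mul_zero]
    exact pow_eq_zero_iff (by norm_num) |>.mp h0

omit hsq in
/-- At most four cosets when any two elements in distinct nontrivial cosets anticommute. -/
theorem card_le_four_mul [DecidableEq X] {R K : Subgroup X} (hKR : K ≤ R)
    (hpair : ∀ a ∈ R, ∀ b ∈ R, a ∉ K → b ∉ K → a⁻¹ * b ∉ K → l (a * b * a⁻¹ * b⁻¹) = -1) :
    Nat.card R ≤ 4 * Nat.card K := by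
  classical
  have hcomm : ∀ a b c : X, l (a * (b * c) * a⁻¹ * (b * c)⁻¹) =
      l (a * b * a⁻¹ * b⁻¹) * l (a * c * a⁻¹ * c⁻¹) := by
    intro a b c
    rw [← hmul _ (hcm a b) _ (hcm a c)]
    congr 1
    rw [show a * (b * c) * a⁻¹ * (b * c)⁻¹ = (a * b * a⁻¹ * b⁻¹) * (b * (a * c * a⁻¹ * c⁻¹) * b⁻¹) by group,
      Subgroup.mem_center_iff.mp (hZ (hcm a c)) b, mul_inv_cancel_right]
  suffices hcov : ∃ s : Finset X, s.card ≤ 4 ∧ ∀ e ∈ R, ∃ r ∈ s, r⁻¹ * e ∈ K by
    obtain ⟨s, hs, hcov⟩ := hcov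
    choose r hr hrK using fun e : R => hcov e.1 e.2
    calc Nat.card R ≤ Nat.card (s × K) :=
          Nat.card_le_card_of_injective (fun e : R => ((⟨r e, hr e⟩ : s), (⟨_, hrK e⟩ : K))) fun e f h => by
            have h1 : r e = r f := congrArg (fun q => (q.1 : X)) h
            have h2 : (r e)⁻¹ * (e : X) = (r f)⁻¹ * (f : X) := congrArg (fun q => (q.2 : X)) h
            rw [h1] at h2
            exact Subtype.ext (mul_left_cancel h2)
      _ ≤ 4 * Nat.card K := by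
          rw [Nat.card_prod, Nat.card_eq_finsetCard]; exact Nat.mul_le_mul_right _ hs
  by_cases h1 : ∀ a ∈ R, a ∈ K
  · exact ⟨{1}, by simp, fun e he => ⟨1, by simp, by simpa using h1 e he⟩⟩
  push Not at h1
  obtain ⟨a, haR, haK⟩ := h1
  by_cases h2 : ∀ b ∈ R, b ∈ K ∨ a⁻¹ * b ∈ K
  · refine ⟨{1, a}, le_trans (Finset.card_insert_le _ _) (by simp), fun e he => ?_⟩
    rcases h2 e he with h | h
    · exact ⟨1, by simp, by simpa using h⟩
    · exact ⟨a, by simp, h⟩
  push Not at h2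
  obtain ⟨b, hbR, hbK, habK⟩ := h2
  refine ⟨{1, a, b, b * a}, le_trans (Finset.card_insert_le _ _)
    (Nat.succ_le_succ (le_trans (Finset.card_insert_le _ _)
      (Nat.succ_le_succ (le_trans (Finset.card_insert_le _ _) (by simp))))), fun e he => ?_⟩
  by_contra hno
  push Not at hno
  have e1 : e ∉ K := by simpa using hno 1 (by simp)
  have e2 := hno a (by simp)
  have e3 := hno b (by simp)
  have e4 := hno (b * a) (by simp)
  have hb' : b⁻¹ * e ∈ R := R.mul_mem (R.inv_mem hbR) he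
  have ha1 := hpair a haR e he haK e1 e2
  have ha2 := hpair a haR b hbR haK hbK habK
  have ha3 := hpair a haR _ hb' haK e3 (by rwa [← mul_assoc, ← mul_inv_rev])
  have h4 := hcomm a b (b⁻¹ * e)
  rw [mul_inv_cancel_left, ha1, ha2, ha3] at h4
  norm_num at h4

end Cfsg.Agent.Invol.NoSCN
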