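import Cfsg.Agent.Lib.Invol.NoSCNAbelian

/-!
# A self-centralizing non-central invariant normal abelian subgroup: squares are central
-/

set_option autoImplicit false

namespace Cfsg.Agent.Invol.NoSCN

variable {X : Type*} [Group X] [Finite X] {A : Subgroup (MulAut X)} {B D : Subgroup X}
  {ω : MulAut X} {m : ℕ}

namespace Homo

variable (H : Homo A B D ω m)
include H

/-- The layer maps are semilinear. -/
theorem delta_anti {δ : X → X → X} (hmem : ∀ x, ∀ w ∈ D, δ x w ∈ D)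
    (hhom : ∀ x, ∀ u ∈ D, ∀ w ∈ D, δ x (u * w) = δ x u * δ x w)
    (hmul : ∀ x y, ∀ w ∈ D, δ (x * y) w = δ x w * δ y w)
    (heq : ∀ φ ∈ A, ∀ x, ∀ w ∈ D, δ (φ x) (φ w) = φ (δ x w)) (x : X) :
    ∀ w ∈ D, δ x (ω w) = ω (ω (δ x w)) := by
  have h1 : ∀ w ∈ D, δ 1 w = 1 := fun w hw => by
    have := hmul 1 1 w hw
    rwa [mul_one, left_eq_mul] at this
  have hinv : ∀ y, ∀ w ∈ D, δ y⁻¹ w = δ y w := fun y w hw => by
    have := hmul y y⁻¹ w hw
    rw [mul_inv_cancel, h1 w hw] at this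
    rw [← inv_eq_of_mul_eq_one_right this.symm, inv_eq_of_mul_eq_one_right (H.rot.sq _ (hmem y w hw))]
  have hx : x ∈ (⊤ : Subgroup X) := trivial
  rw [← H.hyp.gen] at hx
  induction hx using Subgroup.closure_induction with
  | one => intro w hw; rw [h1 _ (H.rot.mem w hw), h1 w hw, map_one, map_one]
  | mul a b _ _ iha ihb =>
    intro w hw
    rw [hmul a b _ (H.rot.mem w hw), hmul a b w hw, iha w hw, ihb w hw, map_mul, map_mul]
  | inv a _ iha => intro w hw; rw [hinv a _ (H.rot.mem w hw), hinv a w hw, iha w hw]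
  | mem g hg =>
    obtain ⟨φ, hφ, y, rfl⟩ := hg
    have hφD : ∀ w ∈ D, φ w ∈ D := fun w hw => by
      obtain ⟨hb, h2⟩ := (H.mem_D w).mp hw
      exact (H.mem_D _).mpr ⟨H.inv φ hφ w hb, by rw [← map_mul, h2, map_one]⟩
    rcases rot_pow_cases H.rot (H.hyp.odd_order hφ) H.D_card hφD with hid | ⟨hr, hcase⟩
    · have hg : ∀ w ∈ D, δ (y⁻¹ * φ y) w = 1 := fun w hw => by
        have h2 := heq φ hφ y w hw
        rw [hid w hw, hid _ (hmem y w hw)] at h2
        rw [hmul _ _ w hw, hinv y w hw, h2, H.rot.sq _ (hmem y w hw)]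
      intro w hw
      rw [hg _ (H.rot.mem w hw), hg w hw, map_one, map_one]
    · have hg : ∀ w ∈ D, δ (y⁻¹ * φ y) w = δ y w * φ (δ y (φ (φ w))) := fun w hw => by
        have h2 := heq φ hφ y (φ (φ w)) (hr.mem _ (hr.mem w hw))
        rw [hr.three hw] at h2
        rw [hmul _ _ w hw, hinv y w hw, h2]
      have hkey : ∀ w ∈ D, δ (y⁻¹ * φ y) (φ w) = φ (φ (δ (y⁻¹ * φ y) w)) := fun w hw => by
        rw [hg _ (hr.mem w hw), hg w hw]
        exact twist_anti hr (δ y) (fun v hv => hmem y v hv) (hhom y) hw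
      intro w hw
      have hgm := hmem (y⁻¹ * φ y) w hw
      rcases hcase with hc | hc
      · have h2 := hkey w hw
        rwa [hc w hw, hc _ hgm, hc _ (H.rot.mem _ hgm)] at h2
      · have hw' : ω (ω w) ∈ D := H.rot.mem _ (H.rot.mem w hw)
        have hw'' := hmem (y⁻¹ * φ y) _ hw'
        have h2 := hkey _ hw'
        rw [hc _ hw', H.rot.three (H.rot.mem w hw), hc _ hw'',
          hc _ (H.rot.mem _ (H.rot.mem _ hw'')), H.rot.three (H.rot.mem _ hw'')] at h2
        have h3 := hkey w hw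
        rw [hc w hw, hc _ hgm, hc _ (H.rot.mem _ (H.rot.mem _ hgm)),
          H.rot.three (H.rot.mem _ hgm)] at h3
        rw [h2, h3]

theorem d_self_comp (x : X) {b : X} (hb : b ∈ B) :
    d (x * x) b = d x (d x b) * (d x b * d x b) := by
  rw [H.d_comp x x hb, mul_assoc]

theorem not_centralizer_of {x : X} {b : X} (hb : b ∈ B) (h : d x b ≠ 1) : ¬ ∀ c ∈ B, x * c = c * x :=
  fun hc => h (by simp only [d]; rw [hc b hb, mul_inv_cancel_right, mul_inv_cancel])

theorem exists_d_ne {x : X} (h : ¬ ∀ c ∈ B, x * c = c * x) : ∃ b ∈ B, d x b ≠ 1 := by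
  by_contra hall
  push Not at hall
  refine h fun c hc => ?_
  have h1 := hall c hc
  simp only [d] at h1
  exact mul_inv_eq_iff_eq_mul.mp (mul_inv_eq_one.mp h1)

theorem eq_two_or_false (hself : ∀ x : X, (∀ b ∈ B, x * b = b * x) → x ∈ B) : m = 0 := by
  classical
  by_contra hm0
  obtain ⟨δ, hspec, hmem, hhom, hmul, heq⟩ := H.exists_delta
  have hanti := H.delta_anti hmem hhom hmul heq
  -- an element of deep level outside `B`
  have hlev : ∀ j, j < m → ∃ z, (¬ ∀ c ∈ B, z * c = c * z) ∧ ∀ b ∈ B, d z b ^ 2 ^ (m - j) = 1 := by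
    intro j
    induction j with
    | zero =>
      intro _
      by_cases hall : ∀ x, ∀ w ∈ D, δ x w = 1
      · have hex : ∃ x : X, ¬ ∀ c ∈ B, x * c = c * x := by
          by_contra hno
          push Not at hno
          exact H.noncentral fun b hb => Subgroup.mem_center_iff.mpr fun g => hno g b hb
        obtain ⟨x, hx⟩ := hex
        exact ⟨x, hx, fun b hb => by rw [Nat.sub_zero, ← hspec x b hb]; exact hall x _ (H.mem_D_of_pow hb)⟩
      · push Not at hall
        obtain ⟨x, w, hw, hne⟩ := hall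
        obtain ⟨hinj, hflip⟩ := anti_facts H.rot (hmem x) (hhom x) (hanti x)
        obtain ⟨-, u, hu, huu⟩ := hflip w hw hne
        obtain ⟨m', hm'⟩ : ∃ m', m = m' + 1 := ⟨m - 1, by omega⟩
        have hform : ∀ b ∈ B, d (x * x) b ^ 2 ^ m' =
            δ x (δ x (b ^ 2 ^ (m + 1))) * δ x (b ^ 2 ^ (m + 1)) := by
          intro b hb
          obtain ⟨c, hc, hdc⟩ := H.d_sq x hb
          rw [H.d_self_comp x hb, H.comm_pow (H.d_mem x (H.d_mem x hb))
            (mul_mem (H.d_mem x hb) (H.d_mem x hb)), ← pow_two (d x b), ← pow_mul, ← pow_succ',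
            ← hm', hspec x b hb]
          congr 1
          rw [hdc, H.d_pow x hc, ← pow_mul, ← pow_succ', ← hm', ← pow_mul, ← pow_succ', hspec x c hc]
        refine ⟨x * x, ?_, fun b hb => ?_⟩
        · intro hc
          obtain ⟨b, hb, rfl⟩ := H.exists_root hu
          have h1 := hform b hb
          have h2 : d (x * x) b = 1 := by
            simp only [d]; rw [hc b hb, mul_inv_cancel_right, mul_inv_cancel]
          rw [h2, one_pow] at h1
          by_cases hu1 : δ x (b ^ 2 ^ (m + 1)) = 1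
          · rcases hinj with h0 | h0
            · exact hne (h0 w hw)
            · exact huu (hu1.trans (h0 _ hu hu1).symm)
          · rw [(hflip _ hu hu1).1] at h1
            refine huu ?_
            have h3 := eq_inv_of_mul_eq_one_right h1.symm
            rw [h3, inv_eq_of_mul_eq_one_right (H.rot.sq _ hu)]
        · have h1 := hform b hb
          rw [Nat.sub_zero, hm', pow_succ, pow_mul, h1, pow_two]
          have hw' := hmem x _ (H.mem_D_of_pow hb)
          exact H.rot.sq _ (mul_mem (hmem x _ hw') hw')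
    | succ j ih =>
      intro hj
      obtain ⟨z, hz, hzp⟩ := ih (by omega)
      by_cases hall : ∀ b ∈ B, d z b ^ 2 ^ (m - (j + 1)) = 1
      · exact ⟨z, hz, hall⟩
      push Not at hall
      obtain ⟨b₀, hb₀, hb₀ne⟩ := hall
      obtain ⟨i, hi⟩ : ∃ i, m - (j + 1) = i + 1 := ⟨m - (j + 1) - 1, by omega⟩
      have hi2 : m - j = i + 2 := by omega
      have him : i + 2 ≤ m := by omega
      rw [hi] at hb₀ne ⊢
      rw [hi2] at hzp
      have hsplit : ∀ k : ℕ, i ≤ k → ∀ b ∈ B, d (z * z) b ^ 2 ^ k = d z b ^ 2 ^ (k + 1) := by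
        intro k hk b hb
        obtain ⟨c, hc, hdc⟩ := H.root (i + 2) (by omega) _ (H.d_mem z hb) (hzp b hb)
        rw [H.d_self_comp z hb, H.comm_pow (H.d_mem z (H.d_mem z hb))
          (mul_mem (H.d_mem z hb) (H.d_mem z hb)), ← pow_two (d z b), ← pow_mul, ← pow_succ']
        have h1 : d z (d z b) ^ 2 ^ k = 1 := by
          rw [hdc, H.d_pow z hc, ← pow_mul, ← pow_add]
          refine orderOf_dvd_iff_pow_eq_one.mp ?_
          exact (orderOf_dvd_of_pow_eq_one (hzp c hc)).trans (Nat.pow_dvd_pow 2 (by omega))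
        rw [h1, one_mul]
      refine ⟨z * z, fun hc => ?_, fun b hb => ?_⟩
      · have h1 := hsplit i le_rfl b₀ hb₀
        have h2 : d (z * z) b₀ = 1 := by
          simp only [d]; rw [hc b₀ hb₀, mul_inv_cancel_right, mul_inv_cancel]
        rw [h2, one_pow] at h1
        exact hb₀ne h1.symm
      · rw [hsplit (i + 1) (Nat.le_succ i) b hb]
        exact hzp b hb
  obtain ⟨z, hzne, hzp⟩ := hlev (m - 1) (by omega)
  have hzD : ∀ b ∈ B, d z b ∈ D := fun b hb => (H.mem_D _).mpr ⟨H.d_mem z hb, by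
    have := hzp b hb
    rwa [show m - (m - 1) = 1 by omega, pow_one, pow_two] at this⟩
  -- the map induced on the involutions
  let η : X → X → X := fun k w => if hw : w ∈ D then d k (H.exists_root hw).choose else 1
  have hηspec : ∀ k, (∀ b ∈ B, d k b ∈ D) → ∀ b ∈ B, η k (b ^ 2 ^ (m + 1)) = d k b := by
    intro k hk b hb
    have hw := H.mem_D_of_pow hb
    simp only [η, dif_pos hw]
    obtain ⟨hrB, hr⟩ := (H.exists_root hw).choose_spec
    generalize (H.exists_root hw).choose = r at hrB hr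
    obtain ⟨c, hc, hrc⟩ := H.root (m + 1) (by omega) _ (mul_mem hrB (inv_mem hb))
      (by rw [H.comm_pow hrB (inv_mem hb), hr, inv_pow, mul_inv_cancel])
    have hr' : r = c ^ 2 * b := by
      rw [show m + 2 - (m + 1) = 1 by omega, pow_one] at hrc
      rw [← hrc, inv_mul_cancel_right]
    rw [hr', H.d_mul k (pow_mem hc 2) hb, H.d_pow k hc, pow_two, H.rot.sq _ (hk c hc), one_mul]
  obtain ⟨k, hkD, hkinj⟩ : ∃ k, (∀ b ∈ B, d k b ∈ D) ∧
      ∀ b ∈ B, d k b = 1 → b ^ 2 ^ (m + 1) = 1 := by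
    by_cases hzinj : ∀ b ∈ B, d z b = 1 → b ^ 2 ^ (m + 1) = 1
    · exact ⟨z, hzD, hzinj⟩
    push Not at hzinj
    obtain ⟨b₁, hb₁, hd₁, hw₁⟩ := hzinj
    set k := z⁻¹ * ω z
    have hωz : ∀ b ∈ B, d (ω z) b ∈ D := fun b hb => by
      obtain ⟨b, rfl⟩ := ω.surjective b
      have hb' : b ∈ B := by
        have h3 : ∀ i : ℕ, ∀ y ∈ B, (ω ^ i) y ∈ B := fun i => by
          induction i with
          | zero => exact fun y hy => hy
          | succ i ih => intro y hy; rw [pow_succ', MulAut.mul_apply]; exact H.inv ω H.ω_mem _ (ih y hy)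
        obtain ⟨i, hi⟩ : ∃ i, orderOf ω = i + 1 := ⟨orderOf ω - 1, by have := orderOf_pos ω; omega⟩
        have h4 := h3 i _ hb
        rw [← MulAut.mul_apply, ← pow_succ, ← hi, pow_orderOf_eq_one] at h4
        exact h4
      rw [show d (ω z) (ω b) = ω (d z b) by simp [d]]
      exact H.rot.mem _ (hzD b hb')
    have hzinv : ∀ b ∈ B, d z⁻¹ b = d z b := by
      intro b hb
      have h1 := H.d_comp z⁻¹ z hb
      rw [inv_mul_cancel, show d (1 : X) b = 1 by simp [d],
        d_of_center _ (H.D_center (hzD b hb)), one_mul] at h1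
      rw [← inv_eq_of_mul_eq_one_right h1.symm, inv_eq_of_mul_eq_one_right (H.rot.sq _ (hzD b hb))]
    have hkd : ∀ b ∈ B, d k b = d (ω z) b * d z b := fun b hb => by
      rw [H.d_comp z⁻¹ (ω z) hb, d_of_center _ (H.D_center (hωz b hb)), one_mul, hzinv b hb]
    have hkD : ∀ b ∈ B, d k b ∈ D := fun b hb => by rw [hkd b hb]; exact mul_mem (hωz b hb) (hzD b hb)
    refine ⟨k, hkD, ?_⟩
    have hmemz : ∀ w ∈ D, η z w ∈ D := fun w hw => by
      obtain ⟨b, hb, rfl⟩ := H.exists_root hw; rw [hηspec z hzD b hb]; exact hzD b hb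
    have hhomz : ∀ u ∈ D, ∀ w ∈ D, η z (u * w) = η z u * η z w := fun u hu w hw => by
      obtain ⟨a, ha, rfl⟩ := H.exists_root hu
      obtain ⟨b, hb, rfl⟩ := H.exists_root hw
      rw [← H.comm_pow ha hb, hηspec z hzD _ (mul_mem ha hb), hηspec z hzD a ha, hηspec z hzD b hb,
        H.d_mul z ha hb]
    have hform : ∀ w ∈ D, η k w = η z w * ω (η z (ω (ω w))) := by
      intro w hw
      obtain ⟨b, hb, hbw⟩ := H.exists_root (H.rot.mem _ (H.rot.mem w hw))
      have hwb : w = (ω b) ^ 2 ^ (m + 1) := by rw [← map_pow, hbw, H.rot.three hw]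
      conv_lhs => rw [hwb, hηspec k hkD _ (H.inv ω H.ω_mem b hb), hkd _ (H.inv ω H.ω_mem b hb),
        show d (ω z) (ω b) = ω (d z b) by simp [d], ← hηspec z hzD b hb, hbw,
        ← hηspec z hzD _ (H.inv ω H.ω_mem b hb), ← hwb]
      exact H.rot.comm (H.rot.mem _ (hmemz _ (H.rot.mem _ (H.rot.mem w hw)))) (hmemz w hw)
    have hmemk : ∀ w ∈ D, η k w ∈ D := fun w hw => by
      rw [hform w hw]
      exact mul_mem (hmemz w hw) (H.rot.mem _ (hmemz _ (H.rot.mem _ (H.rot.mem w hw))))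
    have hhomk : ∀ u ∈ D, ∀ w ∈ D, η k (u * w) = η k u * η k w := fun u hu w hw => by
      obtain ⟨a, ha, rfl⟩ := H.exists_root hu
      obtain ⟨b, hb, rfl⟩ := H.exists_root hw
      rw [← H.comm_pow ha hb, hηspec k hkD _ (mul_mem ha hb), hηspec k hkD a ha, hηspec k hkD b hb,
        H.d_mul k ha hb]
    have hantik : ∀ w ∈ D, η k (ω w) = ω (ω (η k w)) := fun w hw => by
      rw [hform _ (H.rot.mem w hw), hform w hw]
      exact twist_anti H.rot (η z) hmemz hhomz hw
    rcases (anti_facts H.rot hmemk hhomk hantik).1 with h0 | h0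
    · exfalso
      have h1 : η z (b₁ ^ 2 ^ (m + 1)) = 1 := by rw [hηspec z hzD b₁ hb₁, hd₁]
      have hcom : ∀ w ∈ D, ω (η z (ω (ω w))) = η z w := fun w hw => by
        have h2 := h0 w hw
        rw [hform w hw] at h2
        rw [← inv_eq_of_mul_eq_one_right h2, inv_eq_of_mul_eq_one_right (H.rot.sq _ (hmemz w hw))]
      have hw₁D := H.mem_D_of_pow hb₁
      set w₁ := b₁ ^ 2 ^ (m + 1)
      have hs1 : ∀ w ∈ D, η z w = 1 → η z (ω w) = 1 := fun w hw he => by
        have h2 := hcom (ω w) (H.rot.mem w hw)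
        rw [H.rot.three hw, he, map_one] at h2
        exact h2.symm
      obtain ⟨b, hb, hne⟩ := H.exists_d_ne hzne
      apply hne
      rw [← hηspec z hzD b hb]
      rcases H.rot.all w₁ hw₁D hw₁ _ (H.mem_D_of_pow hb) with e | e | e | e <;> rw [e]
      · have := hhomz 1 (one_mem D) 1 (one_mem D)
        rwa [mul_one, left_eq_mul] at this
      · exact h1
      · exact hs1 _ hw₁D h1
      · exact hs1 _ (H.rot.mem _ hw₁D) (hs1 _ hw₁D h1)
    · intro b hb hd
      exact h0 _ (H.mem_D_of_pow hb) (by rw [hηspec k hkD b hb, hd])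
  -- an involution
  have hdk2 : ∀ c ∈ B, d k (c ^ 2) = 1 := fun c hc => by
    rw [H.d_pow k hc, pow_two, H.rot.sq _ (hkD c hc)]
  have hkk : k * k ∈ B := hself _ fun b hb => by
    have h1 : d (k * k) b = 1 := by
      rw [H.d_self_comp k hb, d_of_center _ (H.D_center (hkD b hb)), one_mul, H.rot.sq _ (hkD b hb)]
    simp only [d] at h1
    exact mul_inv_eq_iff_eq_mul.mp (mul_inv_eq_one.mp h1)
  have hβ : (k * k) ^ 2 ^ (m + 1) = 1 := hkinj _ hkk (by
    rw [show d k (k * k) = k * (k * k) * k⁻¹ * (k * k)⁻¹ from rfl]; group)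
  obtain ⟨c₀, hc₀, hkc⟩ := H.root (m + 1) (by omega) _ hkk hβ
  rw [show m + 2 - (m + 1) = 1 by omega, pow_one] at hkc
  have heD : d k c₀ ∈ D := hkD c₀ hc₀
  obtain ⟨q, hq, hqe⟩ := H.exists_root heD
  set c₁ := q ^ 2 ^ m with hc₁
  have hc₁B : c₁ ∈ B := pow_mem hq _
  have hdc₁ : d k c₁ = 1 := by
    obtain ⟨m', hm'⟩ : ∃ m', m = m' + 1 := ⟨m - 1, by omega⟩
    rw [hc₁, hm', pow_succ, pow_mul]; exact hdk2 _ (pow_mem hq _)
  set c := c₀ * c₁ with hcdef
  have hcB : c ∈ B := mul_mem hc₀ hc₁B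
  set e := d k c₀ with hedef
  have hdc : d k c = e := by rw [hcdef, H.d_mul k hc₀ hc₁B, hdc₁, mul_one]
  have hc2 : c * c = k * k * e := by
    rw [← pow_two, hcdef, H.comm_pow hc₀ hc₁B, ← hkc, hc₁, ← pow_mul, ← pow_succ, hqe]
  set t := k * c⁻¹ with htdef
  have htt : t * t = 1 := by
    have h1 : k * c⁻¹ * k⁻¹ = (e * c)⁻¹ := by rw [← hdc]; simp only [d]; group
    have heB : e ∈ B := H.d_mem k hc₀
    calc t * t = (k * c⁻¹ * k⁻¹) * (k * k) * c⁻¹ := by rw [htdef]; group
      _ = c⁻¹ * (e⁻¹ * (k * k)) * c⁻¹ := by rw [h1]; group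
      _ = c⁻¹ * (k * k * e) * c⁻¹ := by
        rw [inv_eq_of_mul_eq_one_right (H.rot.sq e heD), H.comm e heB _ hkk]
      _ = 1 := by rw [← hc2]; group
  have hdt : ∀ b ∈ B, d t b = d k b := fun b hb => by
    have h1 : d c⁻¹ b = 1 := by
      simp only [d]; rw [H.comm _ (inv_mem hcB) b hb, mul_inv_cancel_right, mul_inv_cancel]
    rw [htdef, H.d_comp k c⁻¹ hb, h1, d_one, one_mul, one_mul]
  have hcomm : ∀ x : X, x * t * x⁻¹ * t⁻¹ ∈ D := by
    intro x
    set β' := t⁻¹ * (x * t * x⁻¹) with hβ'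
    have hact : ∀ b ∈ B, (x * t * x⁻¹) * b * (x * t * x⁻¹)⁻¹ = t * b * t⁻¹ := by
      intro b hb
      have hb' : x⁻¹ * b * x ∈ B := by simpa using H.conj_mem x⁻¹ hb
      obtain ⟨q', hq', hq'e⟩ := H.d_sq x⁻¹ hb
      have h1 : d t (x⁻¹ * b * x) = d t b := by
        rw [show x⁻¹ * b * x = d x⁻¹ b * b by simp [d], H.d_mul t (H.d_mem _ hb) hb,
          hdt _ (H.d_mem _ hb), hq'e, hdk2 q' hq', one_mul]
      have h2 : d (x * t * x⁻¹) b = x * d t (x⁻¹ * b * x) * x⁻¹ := by simp only [d]; group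
      have h3 : d t b ∈ Subgroup.center X := H.D_center (by rw [hdt b hb]; exact hkD b hb)
      rw [h1, Subgroup.mem_center_iff.mp h3 x, mul_inv_cancel_right] at h2
      exact mul_right_cancel h2
    have hβB : β' ∈ B := hself _ fun b hb => by
      calc β' * b = t⁻¹ * ((x * t * x⁻¹) * b * (x * t * x⁻¹)⁻¹) * (x * t * x⁻¹) := by rw [hβ']; group
        _ = t⁻¹ * (t * b * t⁻¹) * (x * t * x⁻¹) := by rw [hact b hb]
        _ = b * β' := by rw [hβ']; group
    have hdtD : d t β' ∈ D := by rw [hdt _ hβB]; exact hkD _ hβB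
    have hsq1 : d t β' * (β' * β') = 1 := by
      have h1 : (t * β') * (t * β') = 1 := by
        rw [hβ', mul_inv_cancel_left,
          show x * t * x⁻¹ * (x * t * x⁻¹) = x * (t * t) * x⁻¹ by group, htt, mul_one, mul_inv_cancel]
      calc d t β' * (β' * β') = (d t β' * β') * (t * t) * β' := by rw [htt]; group
        _ = (t * β') * (t * β') := by simp only [d]; group
        _ = 1 := h1
    have h4 : β' ^ 2 ^ 2 = 1 := by
      have h5 : β' * β' = (d t β')⁻¹ := eq_inv_of_mul_eq_one_right hsq1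
      calc β' ^ 2 ^ 2 = (β' * β') * (β' * β') := by
            rw [show (2 : ℕ) ^ 2 = 2 * 2 by norm_num, pow_mul, pow_two, pow_two]
        _ = (d t β' * d t β')⁻¹ := by rw [h5]; group
        _ = 1 := by rw [H.rot.sq _ hdtD, inv_one]
    obtain ⟨q', hq', hβq⟩ := H.root 2 (by omega) β' hβB h4
    have hdt1 : d t β' = 1 := by
      obtain ⟨m', hm'⟩ : ∃ m', m = m' + 1 := ⟨m - 1, by omega⟩
      rw [hdt _ hβB, hβq, show m + 2 - 2 = m' + 1 by omega, pow_succ, pow_mul]
      exact hdk2 _ (pow_mem hq' _)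
    rw [hdt1, one_mul] at hsq1
    have hβD : β' ∈ D := (H.mem_D _).mpr ⟨hβB, hsq1⟩
    rw [show x * t * x⁻¹ * t⁻¹ = t * β' * t⁻¹ by rw [hβ']; group,
      Subgroup.mem_center_iff.mp (H.D_center hβD) t, mul_inv_cancel_right]
    exact hβD
  have htD := H.hyp.no_extension H.D_center H.rot.sq H.D_card htt hcomm
  obtain ⟨w, hw, hw1⟩ := (Subgroup.bot_or_exists_ne_one D).resolve_left fun e => by
    have := H.D_card; rw [e, Subgroup.card_bot] at this; omega
  obtain ⟨b, hb, rfl⟩ := H.exists_root hw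
  refine hw1 (hkinj b hb ?_)
  rw [← hdt b hb]
  simp only [d]
  rw [(Subgroup.mem_center_iff.mp (H.D_center htD) b).symm, mul_inv_cancel_right, mul_inv_cancel]

end Homo

end Cfsg.Agent.Invol.NoSCN
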