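import Cfsg.Agent.Lib.Invol.NoSCNSelf
import Cfsg.Agent.Lib.Invol.Critical

/-!
# Squares are central; the centre is the commutator subgroup
-/

set_option autoImplicit false

open scoped commutatorElement

namespace Cfsg.Agent.Invol.NoSCN

variable {X : Type*} [Group X] [Finite X] {A : Subgroup (MulAut X)}

omit [Finite X] in
theorem aut_mem {C : Subgroup X} [C.Characteristic] (φ : MulAut X) {c : X} (hc : c ∈ C) : φ c ∈ C := by
  have h := Subgroup.characteristic_iff_le_comap.mp (inferInstance : C.Characteristic) φ hc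
  exact h

namespace Hyp

variable (h : Hyp A)
include h

theorem sq_central (x : X) : x * x ∈ Subgroup.center X := by
  classical
  obtain ⟨C, hCchar, hCX, hC2, hCC⟩ := exists_critical h.pgroup
  haveI := hCchar
  set Z := C ⊓ Subgroup.centralizer (C : Set X) with hZ
  have hZc : ∀ a ∈ Z, ∀ b ∈ Z, a * b = b * a := fun a ha b hb =>
    Subgroup.mem_centralizer_iff.mp hb.2 a ha.1
  haveI : Z.Normal := inferInstanceAs (C ⊓ Subgroup.centralizer (C : Set X)).Normal
  have hZi : ∀ φ ∈ A, ∀ b ∈ Z, φ b ∈ Z := fun φ _ b hb => by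
    refine ⟨aut_mem φ hb.1, Subgroup.mem_centralizer_iff.mpr fun c hc => ?_⟩
    obtain ⟨c, rfl⟩ := φ.surjective c
    have hc' : c ∈ C := by simpa using aut_mem φ.symm hc
    rw [← map_mul, ← map_mul, Subgroup.mem_centralizer_iff.mp hb.2 c hc']
  have hCcomm : ∀ y : X, ∀ c ∈ C, y * c * y⁻¹ * c⁻¹ ∈ Z := fun y c hc => by
    have h1 := inv_mem (hCX (Subgroup.commutator_mem_commutator hc (Subgroup.mem_top y)))
    rwa [commutatorElement_inv, commutatorElement_def] at h1
  have hC2' : ∀ c ∈ C, c * c ∈ Z := fun c hc => by simpa [pow_two] using hC2 c hc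
  by_cases hcen : Z ≤ Subgroup.center X
  · refine hcen ⟨hCC (Subgroup.mem_centralizer_iff.mpr fun c hc => ?_),
      Subgroup.mem_centralizer_iff.mpr fun c hc => ?_⟩
    all_goals
      have hz := Subgroup.mem_center_iff.mp (hcen (hCcomm x c hc))
      have hcc := Subgroup.mem_center_iff.mp (hcen (hC2' c hc))
      set e := x * c * x⁻¹ * c⁻¹ with he
      have h1 : e * e = 1 := by
        have h2 : (e * c) * (e * c) = c * c := by
          rw [he, inv_mul_cancel_right,
            show x * c * x⁻¹ * (x * c * x⁻¹) = x * (c * c) * x⁻¹ by group, hcc x, mul_inv_cancel_right]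
        rw [show e * c * (e * c) = e * (c * e) * c by group, hz c,
          show e * (e * c) * c = e * e * (c * c) by group] at h2
        exact mul_eq_right.mp h2
      have h3 : x * x * c * (x * x)⁻¹ = c := by
        calc x * x * c * (x * x)⁻¹ = x * (x * c * x⁻¹) * x⁻¹ := by group
          _ = x * (e * c) * x⁻¹ := by rw [he, inv_mul_cancel_right]
          _ = x * e * x⁻¹ * (x * c * x⁻¹) := by group
          _ = e * (e * c) := by rw [hz x, mul_inv_cancel_right, he, inv_mul_cancel_right]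
          _ = c := by rw [← mul_assoc, h1, one_mul]
      exact (mul_inv_eq_iff_eq_mul.mp h3).symm
  obtain ⟨D, ω, m, H⟩ := h.exists_homo hZc hZi hcen
  -- the squaring map of `C`
  have hz2 : ∀ c ∈ C, ∀ e ∈ C, c * e * c⁻¹ * e⁻¹ ∈ D := fun c hc e he => by
    have hz := hCcomm c e he
    refine (H.mem_D _).mpr ⟨hz, ?_⟩
    have h1 := Subgroup.mem_centralizer_iff.mp (hC2' c hc).2 e he
    have h2 := Subgroup.mem_centralizer_iff.mp hz.2 c hc
    calc c * e * c⁻¹ * e⁻¹ * (c * e * c⁻¹ * e⁻¹) = c * e * c⁻¹ * e⁻¹ * c * e * c⁻¹ * e⁻¹ := by group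
      _ = (c * (c * e * c⁻¹ * e⁻¹)) * e * c⁻¹ * e⁻¹ := by rw [h2]
      _ = c * c * e * (c * c)⁻¹ * e⁻¹ := by group
      _ = 1 := by rw [← h1, mul_inv_cancel_right, mul_inv_cancel]
  let σ : X → X := fun c => (c * c) ^ 2 ^ (m + 1)
  have hσD : ∀ c ∈ C, σ c ∈ D := fun c hc => H.mem_D_of_pow (hC2' c hc)
  have hσmul : ∀ c ∈ C, ∀ e ∈ C, σ (c * e) = σ c * σ e := by
    intro c hc e he
    set z := e * c * e⁻¹ * c⁻¹ with hzdef
    have hzD : z ∈ D := hz2 e he c hc
    have hzc := Subgroup.mem_center_iff.mp (H.D_center hzD)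
    have h1 : c * e * (c * e) = z * (c * c * (e * e)) := by
      calc c * e * (c * e) = c * (e * c) * e := by group
        _ = c * (z * (c * e)) * e := by rw [hzdef]; group
        _ = (c * z) * (c * e) * e := by group
        _ = _ := by rw [hzc c]; group
    show (c * e * (c * e)) ^ 2 ^ (m + 1) = (c * c) ^ 2 ^ (m + 1) * (e * e) ^ 2 ^ (m + 1)
    have hz1 : z ^ 2 ^ (m + 1) = 1 := by
      rw [pow_succ' 2, pow_mul, pow_two, H.rot.sq _ hzD, one_pow]
    rw [h1, H.comm_pow ((H.mem_D _).mp hzD).1 (mul_mem (hC2' c hc) (hC2' e he)),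
      H.comm_pow (hC2' c hc) (hC2' e he), hz1, one_mul]
  have hσker : ∀ c ∈ C, σ c = 1 → c ∈ Z := by
    intro c hc hσ
    obtain ⟨e, he, hce⟩ := H.root (m + 1) (by omega) _ (hC2' c hc) hσ
    rw [show m + 2 - (m + 1) = 1 by omega, pow_one] at hce
    have hcom : c * e = e * c := Subgroup.mem_centralizer_iff.mp he.2 c hc
    set t := c * e⁻¹ with ht
    have htC : t ∈ C := mul_mem hc (inv_mem he.1)
    have htt : t * t = 1 := by
      have hc' : Commute c e⁻¹ := (show Commute c e from hcom).inv_right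
      calc t * t = t ^ 2 := (pow_two t).symm
        _ = c ^ 2 * (e⁻¹) ^ 2 := hc'.mul_pow 2
        _ = 1 := by rw [pow_two c, hce, inv_pow, mul_inv_cancel]
    have hcomm : ∀ y : X, y * t * y⁻¹ * t⁻¹ ∈ D := fun y => by
      have hb := hCcomm y t htC
      refine (H.mem_D _).mpr ⟨hb, ?_⟩
      set b := y * t * y⁻¹ * t⁻¹ with hbdef
      have h2 := Subgroup.mem_centralizer_iff.mp hb.2 t htC
      have h3 : b * t * (b * t) = 1 := by
        rw [hbdef, inv_mul_cancel_right,
          show y * t * y⁻¹ * (y * t * y⁻¹) = y * (t * t) * y⁻¹ by group, htt, mul_one, mul_inv_cancel]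
      rw [show b * t * (b * t) = b * (t * b) * t by group, h2,
        show b * (b * t) * t = b * b * (t * t) by group, htt, mul_one] at h3
      exact h3
    have := h.no_extension H.D_center H.rot.sq H.D_card htt hcomm
    rw [show c = t * e by rw [ht, inv_mul_cancel_right]]
    exact mul_mem ((H.mem_D t).mp this).1 he
  have habel : ∀ c ∈ C, ∀ e ∈ C, c * e = e * c := by
    intro c hc e he
    have hω : ∀ y ∈ C, ω y ∈ C := fun y hy => aut_mem ω hy
    have hωσ : ∀ y, σ (ω y) = ω (σ y) := fun y => by simp [σ]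
    -- `c` commutes with its conjugate
    have hkey : c * ω c = ω c * c := by
      have hz : c * ω c * c⁻¹ * (ω c)⁻¹ ∈ D := hz2 c hc _ (hω c hc)
      set z := c * ω c * c⁻¹ * (ω c)⁻¹ with hzdef
      have hq : (c * ω c)⁻¹ * ω (ω c) ∈ Z := by
        refine hσker _ (mul_mem (inv_mem (mul_mem hc (hω c hc))) (hω _ (hω c hc))) ?_
        rw [hσmul _ (inv_mem (mul_mem hc (hω c hc))) _ (hω _ (hω c hc))]
        have h1 := hσmul _ (inv_mem (mul_mem hc (hω c hc))) _ (mul_mem hc (hω c hc))
        rw [inv_mul_cancel, show σ (1 : X) = 1 by simp [σ], hσmul c hc _ (hω c hc), hωσ] at h1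
        rw [hωσ, hωσ, H.rot.two _ (hσD c hc)]
        exact h1.symm
      have hω2 : ω (ω c) = c * ω c * ((c * ω c)⁻¹ * ω (ω c)) := by group
      set q := (c * ω c)⁻¹ * ω (ω c)
      have hqc := Subgroup.mem_centralizer_iff.mp hq.2 _ (hω c hc)
      have hωz : ω z = z⁻¹ := by
        calc ω z = ω c * ω (ω c) * (ω c)⁻¹ * (ω (ω c))⁻¹ := by rw [hzdef]; simp
          _ = ω c * c * (ω c * q) * (ω c)⁻¹ * (c * ω c * q)⁻¹ := by rw [hω2]; group
          _ = ω c * c * (q * ω c) * (ω c)⁻¹ * (c * ω c * q)⁻¹ := by rw [hqc]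
          _ = z⁻¹ := by rw [hzdef]; group
      rw [inv_eq_of_mul_eq_one_right (H.rot.sq z hz)] at hωz
      have hz1 := H.rot.ne z hz hωz
      exact mul_inv_eq_iff_eq_mul.mp (mul_inv_eq_one.mp hz1)
    have hkey2 : c * ω (ω c) = ω (ω c) * c := by
      have hq : (c * ω c)⁻¹ * ω (ω c) ∈ Z := by
        refine hσker _ (mul_mem (inv_mem (mul_mem hc (hω c hc))) (hω _ (hω c hc))) ?_
        rw [hσmul _ (inv_mem (mul_mem hc (hω c hc))) _ (hω _ (hω c hc))]
        have h1 := hσmul _ (inv_mem (mul_mem hc (hω c hc))) _ (mul_mem hc (hω c hc))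
        rw [inv_mul_cancel, show σ (1 : X) = 1 by simp [σ], hσmul c hc _ (hω c hc), hωσ] at h1
        rw [hωσ, hωσ, H.rot.two _ (hσD c hc)]
        exact h1.symm
      rw [show ω (ω c) = c * ω c * ((c * ω c)⁻¹ * ω (ω c)) by group]
      exact ((Commute.refl c).mul_right hkey).mul_right (Subgroup.mem_centralizer_iff.mp hq.2 c hc)
    by_cases h1 : σ c = 1
    · exact (Subgroup.mem_centralizer_iff.mp (hσker c hc h1).2 e he).symm
    have hred : ∀ y ∈ C, c * y = y * c → σ e = σ y → c * e = e * c := by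
      intro y hy hcy hey
      have hq : e * y ∈ Z := hσker _ (mul_mem he hy) (by
        rw [hσmul e he y hy, hey, H.rot.sq _ (hσD y hy)])
      rw [show e = e * y * y⁻¹ by group]
      exact (show Commute c (e * y) from Subgroup.mem_centralizer_iff.mp hq.2 c hc).mul_right
        (show Commute c y from hcy).inv_right
    rcases H.rot.all _ (hσD c hc) h1 _ (hσD e he) with e' | e' | e' | e'
    · exact Subgroup.mem_centralizer_iff.mp (hσker e he e').2 c hc
    · exact hred c hc rfl e'
    · exact hred _ (hω c hc) hkey (e'.trans (hωσ c).symm)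
    · exact hred _ (hω _ (hω c hc)) hkey2 (e'.trans (by rw [hωσ, hωσ]))
  have hCZ : C ≤ Z := fun c hc => ⟨hc, Subgroup.mem_centralizer_iff.mpr fun e he => habel e he c hc⟩
  have hself : ∀ y : X, (∀ b ∈ Z, y * b = b * y) → y ∈ Z := fun y hy =>
    hCZ (hCC (Subgroup.mem_centralizer_iff.mpr fun c hc => (hy c (hCZ hc)).symm))
  have hm := H.eq_two_or_false hself
  obtain ⟨δ, hspec, hmem, hhom, hmul, heq⟩ := H.exists_delta
  have hanti := H.delta_anti hmem hhom hmul heq
  have hdD : ∀ b ∈ Z, Homo.d x b ∈ D := fun b hb => (H.mem_D _).mpr ⟨H.d_mem x hb, by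
    have := H.d_pow_top x hb; rwa [hm, zero_add, pow_one, pow_two] at this⟩
  have hxx : x * x ∈ Z := hself _ fun b hb => by
    have h1 : Homo.d (x * x) b = 1 := by
      rw [H.d_self_comp x hb, Homo.d_of_center _ (H.D_center (hdD b hb)), one_mul,
        H.rot.sq _ (hdD b hb)]
    simp only [Homo.d] at h1
    exact mul_inv_eq_iff_eq_mul.mp (mul_inv_eq_one.mp h1)
  refine H.D_center ((H.mem_D _).mpr ⟨hxx, ?_⟩)
  by_cases hxB : x ∈ Z
  · have := H.exp x hxB
    rw [hm] at this
    simpa [pow_succ, mul_assoc] using this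
  have h2 : δ x ((x * x) ^ 2 ^ (m + 1)) = 1 := by
    rw [hspec x _ hxx, show Homo.d x (x * x) = 1 by
      rw [show Homo.d x (x * x) = x * (x * x) * x⁻¹ * (x * x)⁻¹ from rfl]; group, one_pow]
  rcases (Homo.anti_facts H.rot (hmem x) (hhom x) (hanti x)).1 with h0 | h0
  · exfalso
    refine hxB (hself x fun b hb => ?_)
    have h1 : Homo.d x b = 1 := by
      have := hspec x b hb
      rw [h0 _ (H.mem_D_of_pow hb), hm, pow_zero, pow_one] at this
      exact this.symm
    simp only [Homo.d] at h1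
    exact mul_inv_eq_iff_eq_mul.mp (mul_inv_eq_one.mp h1)
  · have := h0 _ (H.mem_D_of_pow hxx) h2
    simpa [hm, pow_two] using this

theorem comm_mem (x y : X) :
    x * y * x⁻¹ * y⁻¹ ∈ Subgroup.center X ∧
      (x * y * x⁻¹ * y⁻¹) * (x * y * x⁻¹ * y⁻¹) = 1 := by
  have hz : ∀ a : X, (QuotientGroup.mk a : X ⧸ Subgroup.center X) * QuotientGroup.mk a = 1 := fun a => by
    rw [← QuotientGroup.mk_mul, QuotientGroup.eq_one_iff]; exact h.sq_central a
  have hc : x * y * x⁻¹ * y⁻¹ ∈ Subgroup.center X := by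
    rw [← QuotientGroup.eq_one_iff]
    simp only [QuotientGroup.mk_mul, QuotientGroup.mk_inv]
    rw [inv_eq_of_mul_eq_one_right (hz x), inv_eq_of_mul_eq_one_right (hz y)]
    have := hz (x * y)
    rw [QuotientGroup.mk_mul] at this
    rw [mul_assoc, this]
  refine ⟨hc, ?_⟩
  set e := x * y * x⁻¹ * y⁻¹ with he
  have h1 := Subgroup.mem_center_iff.mp (h.sq_central x) y
  calc e * e = e * (x * y * x⁻¹ * y⁻¹) := by rw [← he]
    _ = (e * x) * y * x⁻¹ * y⁻¹ := by group
    _ = (x * e) * y * x⁻¹ * y⁻¹ := by rw [Subgroup.mem_center_iff.mp hc x]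
    _ = (x * x) * y * (x * x)⁻¹ * y⁻¹ := by rw [he]; group
    _ = 1 := by rw [← h1]; group

theorem commutator_le_center : commutator X ≤ Subgroup.center X := by
  rw [commutator_def, Subgroup.commutator_le]
  intro a _ b _
  rw [commutatorElement_def]; exact (h.comm_mem a b).1

/-- With the centre of index at most 4 the commutator subgroup has order at most 2. -/
theorem commutator_small (hna : ¬ IsMulCommutative X) (hidx : (Subgroup.center X).index ≤ 4) :
    Nat.card (commutator X) ≤ 2 := by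
  classical
  set Z := Subgroup.center X
  obtain ⟨a, b, hab⟩ : ∃ a b : X, a * b ≠ b * a := by
    by_contra hall; push Not at hall; exact hna ⟨⟨hall⟩⟩
  set c := a * b * a⁻¹ * b⁻¹ with hc
  set K := Subgroup.zpowers c
  have hKz : ∀ k ∈ K, k ∈ Z := fun k hk => (Subgroup.zpowers_le.mpr (h.comm_mem a b).1) hk
  let N : X → Subgroup X := fun x =>
    { carrier := {y | x * y * x⁻¹ * y⁻¹ ∈ K}
      one_mem' := by simp
      mul_mem' := fun {y y'} hy hy' => by
        show x * (y * y') * x⁻¹ * (y * y')⁻¹ ∈ K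
        rw [show x * (y * y') * x⁻¹ * (y * y')⁻¹ =
          (x * y * x⁻¹ * y⁻¹) * (y * (x * y' * x⁻¹ * y'⁻¹) * y⁻¹) by group,
          Subgroup.mem_center_iff.mp (hKz _ hy') y, mul_inv_cancel_right]
        exact mul_mem hy hy'
      inv_mem' := fun {y} hy => by
        show x * y⁻¹ * x⁻¹ * y⁻¹⁻¹ ∈ K
        rw [show x * y⁻¹ * x⁻¹ * y⁻¹⁻¹ = y⁻¹ * (x * y * x⁻¹ * y⁻¹)⁻¹ * y by group,
          Subgroup.mem_center_iff.mp (inv_mem (hKz _ hy)) y⁻¹, inv_mul_cancel_right]
        exact inv_mem hy }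
  have hN : ∀ {x y : X}, y ∈ N x ↔ x * y * x⁻¹ * y⁻¹ ∈ K := Iff.rfl
  set M := Z ⊔ Subgroup.zpowers a with hM
  set T := M ⊔ Subgroup.zpowers b with hT
  have hbM : b ∉ M := fun hb => hab (by
    have hle : M ≤ Subgroup.centralizer ({a} : Set X) := sup_le
      (fun z hz => Subgroup.mem_centralizer_singleton_iff.mpr (Subgroup.mem_center_iff.mp hz a).symm)
      (Subgroup.zpowers_le.mpr (Subgroup.mem_centralizer_singleton_iff.mpr rfl))
    exact (Subgroup.mem_centralizer_singleton_iff.mp (hle hb)).symm)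
  have haZ : a ∉ Z := fun ha => hab (Subgroup.mem_center_iff.mp ha b).symm
  have htop : T = ⊤ := by
    have h1 : Z < M := lt_of_le_of_ne le_sup_left fun e =>
      haZ (e ▸ Subgroup.mem_sup_right (Subgroup.mem_zpowers a))
    have h2 : M < T := lt_of_le_of_ne le_sup_left fun e =>
      hbM (e ▸ Subgroup.mem_sup_right (Subgroup.mem_zpowers b))
    have step : ∀ {U U' : Subgroup X}, U < U' → 2 * U'.index ≤ U.index := by
      intro U U' hlt
      obtain ⟨k, hk⟩ := Subgroup.index_dvd_of_le hlt.le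
      rw [hk, mul_comm]
      refine Nat.mul_le_mul_left _ ?_
      rcases k with _ | _ | k
      · simp at hk; exact absurd hk Subgroup.index_ne_zero_of_finite
      · exfalso
        simp only [Nat.zero_add, mul_one] at hk
        exact hlt.ne (Subgroup.eq_of_le_of_card_ge hlt.le (by
          have e1 := U.card_mul_index
          have e2 := U'.card_mul_index
          rw [hk] at e1
          exact (Nat.eq_of_mul_eq_mul_right (Nat.pos_of_ne_zero Subgroup.index_ne_zero_of_finite)
            (e2.trans e1.symm)).le))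
      · omega
    have := step h1
    have := step h2
    have h0 : T.index ≠ 0 := Subgroup.index_ne_zero_of_finite
    exact Subgroup.index_eq_one.mp (by omega)
  have hcK : c ∈ K := Subgroup.mem_zpowers c
  have hall : ∀ x, (a ∈ N x ∧ b ∈ N x) → ∀ y, y ∈ N x := fun x hx y => by
    have hle : T ≤ N x := sup_le (sup_le (fun z hz => hN.mpr (by
      rw [Subgroup.mem_center_iff.mp hz x, mul_inv_cancel_right, mul_inv_cancel]; exact one_mem K))
      (Subgroup.zpowers_le.mpr hx.1)) (Subgroup.zpowers_le.mpr hx.2)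
    exact hle (htop.ge (Subgroup.mem_top y))
  have ha' := hall a ⟨hN.mpr (by simp), hN.mpr hcK⟩
  have hb' := hall b ⟨hN.mpr (by
    rw [show b * a * b⁻¹ * a⁻¹ = c⁻¹ by rw [hc]; group]; exact inv_mem hcK), hN.mpr (by simp)⟩
  have hsym : ∀ {x y : X}, y ∈ N x → x ∈ N y := fun {x y} hy => hN.mpr (by
    rw [show y * x * y⁻¹ * x⁻¹ = (x * y * x⁻¹ * y⁻¹)⁻¹ by group]; exact inv_mem (hN.mp hy))
  have hle : commutator X ≤ K := by
    rw [commutator_def, Subgroup.commutator_le]
    intro x _ y _
    exact hall x ⟨hsym (ha' x), hsym (hb' x)⟩ y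
  refine (Subgroup.card_le_of_le hle).trans ?_
  rw [Nat.card_zpowers]
  exact Nat.le_of_dvd two_pos (orderOf_dvd_of_pow_eq_one (by rw [pow_two]; exact (h.comm_mem a b).2))

theorem center_eq (hna : ¬ IsMulCommutative X) :
    Subgroup.center X = commutator X ∧ (∀ z ∈ Subgroup.center X, z * z = 1) ∧
      (Nat.card (Subgroup.center X) = 2 ∨ Nat.card (Subgroup.center X) = 4) ∧
      ((∀ φ ∈ A, ∀ z ∈ Subgroup.center X, φ z = z) ∨ ∃ ω ∈ A, Rot ω (Subgroup.center X)) := by
  classical
  have hc2 : ∀ z ∈ commutator X, z * z = 1 := by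
    intro z hz
    rw [commutator_def, Subgroup.commutator_def] at hz
    induction hz using Subgroup.closure_induction with
    | mem z hz =>
      obtain ⟨a, -, b, -, rfl⟩ := hz
      rw [commutatorElement_def]; exact (h.comm_mem a b).2
    | one => exact mul_one 1
    | mul a b ha hb iha ihb =>
      have haz : b * a = a * b := Subgroup.mem_center_iff.mp (h.commutator_le_center (by
        rw [commutator_def, Subgroup.commutator_def]; exact ha)) b
      rw [show a * b * (a * b) = a * (b * a) * b by group, haz,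
        show a * (a * b) * b = a * a * (b * b) by group, iha, ihb, mul_one]
    | inv a _ iha => rw [← mul_inv_rev, iha, inv_one]
  have hcard : ∀ D : Subgroup X, D = Subgroup.center X → commutator X ≤ D → Nat.card D ≤ 4 →
      Nat.card D = 2 ∨ Nat.card D = 4 := by
    intro D hD hle h4
    obtain ⟨k, hk⟩ := IsPGroup.iff_card.mp (h.pgroup.to_subgroup D)
    have hne : Nat.card D ≠ 1 := by
      intro h1
      rw [Subgroup.card_eq_one] at h1
      refine hna ⟨⟨fun a b => ?_⟩⟩
      rw [← commutatorElement_eq_one_iff_mul_comm, ← Subgroup.mem_bot, ← h1]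
      exact hle (by rw [commutator_def]
                    exact Subgroup.commutator_mem_commutator (Subgroup.mem_top a) (Subgroup.mem_top b))
    rw [hk] at h4 hne ⊢
    rcases k with _ | _ | _ | k
    · simp at hne
    · exact Or.inl rfl
    · exact Or.inr rfl
    · exfalso
      have : (2 : ℕ) ^ 3 ≤ 2 ^ (k + 3) := Nat.pow_le_pow_right two_pos (by omega)
      rw [show k + 1 + 1 + 1 = k + 3 by omega] at h4
      simp only [Nat.reducePow] at this
      omega
  obtain ⟨D, -, hDz, hD, hD4, hcase⟩ := h.omega_cases (B := Subgroup.center X)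
    (fun a ha b _ => (Subgroup.mem_center_iff.mp ha b).symm) (fun φ _ z hz => aut_mem φ hz)
  have hcD : commutator X ≤ D := fun z hz => (hD z).mpr ⟨h.commutator_le_center hz, hc2 z hz⟩
  rcases hcase with ⟨-, hfix⟩ | ⟨h4, ω, hω, hrot⟩
  · have hle : Subgroup.center X ≤ commutator X := fun z hz =>
      h.fpf le_rfl fun φ hφ => by rw [hfix φ hφ z hz, mul_inv_cancel]; exact one_mem _
    have heq := le_antisymm hle h.commutator_le_center
    have hsq : ∀ z ∈ Subgroup.center X, z * z = 1 := fun z hz => hc2 z (heq ▸ hz)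
    have hDeq : D = Subgroup.center X :=
      le_antisymm hDz fun z hz => (hD z).mpr ⟨hz, hsq z hz⟩
    exact ⟨heq, hsq, hDeq ▸ hcard D hDeq hcD hD4, Or.inl hfix⟩
  have hDc : D ≤ commutator X := by
    obtain ⟨a, b, hab⟩ : ∃ a b : X, a * b ≠ b * a := by
      by_contra hall; push Not at hall; exact hna ⟨⟨hall⟩⟩
    have hwc : ⁅a, b⁆ ∈ commutator X := by
      rw [commutator_def]; exact Subgroup.commutator_mem_commutator (Subgroup.mem_top a) (Subgroup.mem_top b)
    have hw1 : ⁅a, b⁆ ≠ 1 := fun e => hab (commutatorElement_eq_one_iff_mul_comm.mp e)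
    intro z hz
    rcases hrot.all _ (hcD hwc) hw1 z hz with e | e | e | e <;> rw [e]
    · exact one_mem _
    · exact hwc
    · exact aut_mem ω hwc
    · exact aut_mem ω (aut_mem ω hwc)
  have hsq : ∀ z ∈ Subgroup.center X, z * z = 1 := by
    by_contra hall
    push Not at hall
    obtain ⟨z₀, hz₀, hz₀ne⟩ := hall
    set Q : Subgroup X :=
      { carrier := {w | ∃ z ∈ Subgroup.center X, z * z = w}
        one_mem' := ⟨1, one_mem _, mul_one 1⟩
        mul_mem' := by
          rintro _ _ ⟨a, ha, rfl⟩ ⟨b, hb, rfl⟩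
          refine ⟨a * b, mul_mem ha hb, ?_⟩
          rw [show a * b * (a * b) = a * (b * a) * b by group, Subgroup.mem_center_iff.mp ha b]; group
        inv_mem' := by rintro _ ⟨a, ha, rfl⟩; exact ⟨a⁻¹, inv_mem ha, (mul_inv_rev a a).symm⟩ }
      with hQ
    have hQi : ∀ w ∈ Q, ω w ∈ Q := by
      rintro _ ⟨a, ha, rfl⟩; exact ⟨ω a, aut_mem ω ha, (map_mul ω a a).symm⟩
    have hQz : ∀ w ∈ Q, w ∈ Subgroup.center X := by rintro _ ⟨a, ha, rfl⟩; exact mul_mem ha ha
    obtain ⟨w, hwQ, hwD, hw1⟩ : ∃ w ∈ Q, w ∈ D ∧ w ≠ 1 := by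
      obtain ⟨k, hk⟩ := h.pgroup (z₀ * z₀)
      obtain ⟨j, hj, hj'⟩ : ∃ j, (z₀ * z₀) ^ 2 ^ j ≠ 1 ∧ (z₀ * z₀) ^ 2 ^ (j + 1) = 1 := by
        induction k with
        | zero => simp at hk; exact absurd hk hz₀ne
        | succ k ih =>
          by_cases hh : (z₀ * z₀) ^ 2 ^ k = 1
          · exact ih hh
          · exact ⟨k, hh, hk⟩
      refine ⟨(z₀ * z₀) ^ 2 ^ j, Q.pow_mem ⟨z₀, hz₀, rfl⟩ _,
        (hD _).mpr ⟨pow_mem (mul_mem hz₀ hz₀) _, ?_⟩, hj⟩
      rw [← pow_add, ← two_mul, ← pow_succ']; exact hj'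
    have hDQ : D ≤ Q := fun u hu => by
      rcases hrot.all w hwD hw1 u hu with e | e | e | e <;> rw [e]
      · exact one_mem _
      · exact hwQ
      · exact hQi _ hwQ
      · exact hQi _ (hQi _ hwQ)
    set Z := Subgroup.center X
    let sq : Z →* Z :=
      { toFun := fun z => z * z
        map_one' := mul_one 1
        map_mul' := fun a b => by
          apply Subtype.ext
          show (a : X) * b * ((a : X) * b) = (a : X) * a * ((b : X) * b)
          rw [show (a : X) * b * ((a : X) * b) = a * ((b : X) * a) * b by group,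
            Subgroup.mem_center_iff.mp a.2 b]
          group }
    haveI : Q.Normal := ⟨fun w hw g => by
      rw [Subgroup.mem_center_iff.mp (hQz w hw) g, mul_inv_cancel_right]; exact hw⟩
    let q : X →* X ⧸ Q :=
      { toFun := fun x => QuotientGroup.mk (x * x)
        map_one' := by simp
        map_mul' := fun a b => by
          rw [← QuotientGroup.mk_mul, QuotientGroup.eq]
          have hz := h.comm_mem b a
          set e := b * a * b⁻¹ * a⁻¹ with he
          have : a * b * (a * b) = (a * a * (b * b)) * e := by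
            calc a * b * (a * b) = a * (b * a) * b := by group
              _ = a * (e * (a * b)) * b := by rw [he]; group
              _ = a * e * a * (b * b) := by group
              _ = e * a * a * (b * b) := by rw [Subgroup.mem_center_iff.mp hz.1 a]
              _ = e * (a * a * (b * b)) := by group
              _ = _ := (Subgroup.mem_center_iff.mp hz.1 _).symm
          rw [this, mul_inv_rev, inv_mul_cancel_right]
          exact Q.inv_mem (hDQ ((hD _).mpr hz)) }
    have hker : q.ker ≤ Z := fun x hx => by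
      obtain ⟨z, hz, hzx⟩ := (QuotientGroup.eq_one_iff _).mp (show (QuotientGroup.mk (x * x) : X ⧸ Q) = 1 from hx)
      have hcm : x * z = z * x := Subgroup.mem_center_iff.mp hz x
      have ht : (x * z⁻¹) * (x * z⁻¹) = 1 := by
        have hc' : Commute x z⁻¹ := (show Commute x z from hcm).inv_right
        rw [← pow_two, hc'.mul_pow, pow_two, pow_two, ← mul_inv_rev, hzx, mul_inv_cancel]
      have := h.no_extension hDz hrot.sq h4 ht fun y => (hD _).mpr (h.comm_mem y _)
      rw [show x = x * z⁻¹ * z by group]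
      exact mul_mem (hDz this) hz
    have hrange : Nat.card q.range ≤ 4 := by
      let f : Z → X ⧸ Q := fun z => QuotientGroup.mk (z : X)
      have h1 : ∀ y ∈ q.range, y ∈ Set.range f := by
        rintro _ ⟨x, rfl⟩; exact ⟨⟨x * x, h.sq_central x⟩, rfl⟩
      let F : Z →* X ⧸ Q := (QuotientGroup.mk' Q).comp Z.subtype
      have h2 : q.range ≤ F.range := fun y hy => h1 y hy
      refine (Subgroup.card_le_of_le h2).trans ?_
      have hQ4 : F.ker = sq.range := by
        ext z
        rw [MonoidHom.mem_ker, MonoidHom.comp_apply, QuotientGroup.mk'_apply, QuotientGroup.eq_one_iff]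
        exact ⟨fun ⟨a, ha, e⟩ => ⟨⟨a, ha⟩, Subtype.ext e⟩, fun ⟨a, e⟩ => ⟨a, a.2, congrArg Subtype.val e⟩⟩
      have hsk : Nat.card sq.ker ≤ 4 := by
        rw [← h4]
        exact Nat.card_le_card_of_injective
          (fun z => (⟨z.1.1, (hD _).mpr ⟨z.1.2, congrArg Subtype.val z.2⟩⟩ : D))
          fun a b e => Subtype.ext (Subtype.ext (by simpa using congrArg (fun t : D => (t : X)) e))
      have e1 := Subgroup.card_eq_card_quotient_mul_card_subgroup F.ker
      rw [Nat.card_congr (QuotientGroup.quotientKerEquivRange F).toEquiv] at e1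
      have e2 := Subgroup.card_eq_card_quotient_mul_card_subgroup sq.ker
      rw [Nat.card_congr (QuotientGroup.quotientKerEquivRange sq).toEquiv, ← hQ4] at e2
      have hpos : 0 < Nat.card F.ker := Nat.card_pos
      refine Nat.le_of_mul_le_mul_right ?_ hpos
      rw [← e1, e2, mul_comm 4]
      exact Nat.mul_le_mul_left _ hsk
    have hidx : Z.index ≤ 4 := by
      refine le_trans (Nat.le_of_dvd ?_ (Subgroup.index_dvd_of_le hker)) ?_
      · exact Nat.pos_of_ne_zero Subgroup.index_ne_zero_of_finite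
      · rw [Subgroup.index_ker]; exact hrange
    have hcyc := h.commutator_small hna hidx
    exact (by omega : ¬ (4 ≤ Nat.card (commutator X) ∧ Nat.card (commutator X) ≤ 2))
      ⟨h4 ▸ Subgroup.card_le_of_le hDc, hcyc⟩
  have hDeq : D = Subgroup.center X := le_antisymm hDz fun z hz => (hD z).mpr ⟨hz, hsq z hz⟩
  subst hDeq
  exact ⟨le_antisymm hDc h.commutator_le_center, hsq, Or.inr h4, Or.inr ⟨ω, hω, hrot⟩⟩

end Hyp

end Cfsg.Agent.Invol.NoSCN
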