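import Mathlib

/-!
A coprime group acting on a `p`-group (`p` odd) together with a commuting or fixed-point-free
operator of order `p` with small fixed points acts trivially.
-/

set_option autoImplicit false
set_option linter.unusedSectionVars false
set_option linter.style.haveILetI false

namespace Cfsg.Agent.Invol.NormPairing

open Finset

universe u v

variable {p : ℕ} [hp : Fact p.Prime] {Q : Type v} [Group Q] [Fintype Q]

/-- An invariant automorphism restricted to a subgroup. -/
noncomputable def restr {C : Type u} [Group C] [Finite C] (K : Subgroup C) (f : MulAut C)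
    (h : ∀ c ∈ K, f c ∈ K) : MulAut K :=
  MulEquiv.ofBijective ((f.toMonoidHom.comp K.subtype).codRestrict K fun c => h c c.2)
    (Finite.injective_iff_bijective.mp fun _ _ e => Subtype.ext (f.injective (congrArg Subtype.val e)))

theorem restr_apply {C : Type u} [Group C] [Finite C] (K : Subgroup C) (f : MulAut C)
    (h : ∀ c ∈ K, f c ∈ K) (c : K) : ((restr K f h c : K) : C) = f c := rfl

theorem eq_one_of_pow {C : Type u} [Group C] {a : C} {n k : ℕ} (h1 : a ^ n = 1) (h2 : a ^ p ^ k = 1)
    (hn : n.Coprime p) : a = 1 := by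
  rw [← pow_one a, ← (hn.pow_right k).gcd_eq_one]
  exact (pow_gcd_eq_one).mpr ⟨h1, h2⟩

/-- A coprime operator fixing the quotient `ρ x d * d⁻¹` fixes `d`. -/
theorem fixed_of_disp {C : Type u} [Group C] (hC : IsPGroup p C) (hQ : (Fintype.card Q).Coprime p)
    (ρ : Q →* MulAut C) (x : Q) (d : C) (h : ρ x (ρ x d * d⁻¹) = ρ x d * d⁻¹) : ρ x d = d := by
  set t := ρ x d * d⁻¹ with ht
  have e : ∀ n : ℕ, ρ (x ^ n) d = t ^ n * d := by
    intro n
    induction n with
    | zero => simp
    | succ n ih =>
      rw [pow_succ', map_mul, MulAut.mul_apply, ih, map_mul, map_pow, h, pow_succ t, mul_assoc]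
      congr 1
      rw [ht, inv_mul_cancel_right]
  have h1 : t ^ Fintype.card Q = 1 := by
    have := e (Fintype.card Q)
    rw [pow_card_eq_one, map_one, MulAut.one_apply] at this
    exact right_eq_mul.mp this
  obtain ⟨k, hk⟩ := hC t
  exact mul_inv_eq_one.mp (eq_one_of_pow h1 hk hQ)

theorem exists_fixed {M : Type u} [Group M] [Finite M] [Nontrivial M] (hM : IsPGroup p M) (f : MulAut M)
    (hf : f ^ p = 1) : ∃ m : M, f m = m ∧ m ≠ 1 := by
  haveI := Fintype.ofFinite M
  obtain ⟨j, hj0, hj⟩ := (IsPGroup.nontrivial_iff_card hM).mp inferInstance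
  have hd : p ∣ Fintype.card M := by
    rw [← Nat.card_eq_fintype_card, hj]; exact dvd_pow_self p hj0.ne'
  have hs : (MulAut.toPerm M f) ^ p ^ 1 = 1 := by
    rw [pow_one, ← map_pow, hf, map_one]
  exact Equiv.Perm.exists_fixed_point_of_prime' hd hs (a := (1 : M)) (map_one f)

section Pairing

variable {M A : Type u} [CommGroup M] [CommGroup A]

theorem pairing_trivial (hp2 : p ≠ 2) (hA : ∀ a : A, a ^ p = 1) (hQ : (Fintype.card Q).Coprime p)
    (hMp : IsPGroup p M) [Finite M]
    (σ : MulAut M) (hσ : σ ^ p = 1) (φ : MulAut Q) (hφ : φ ^ p = 1) (hfpf : ∀ x, φ x = x → x = 1)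
    (ρ : Q →* MulAut M) (hcomm : ∀ x m, σ (ρ x m) = ρ (φ x) (σ m))
    (havg : ∀ m, ∏ x, ρ x m = 1) (hfix : Nat.card {m : M // σ m = m} ≤ p)
    (ω : M →* M →* A) (halt : ∀ m, ω m m = 1) (hωσ : ∀ a b, ω (σ a) (σ b) = ω a b)
    (hωρ : ∀ x a b, ω (ρ x a) (ρ x b) = ω a b) : ∀ a b, ω a b = 1 := by
  have hanti : ∀ a b, ω a b = (ω b a)⁻¹ := fun a b => by
    have := halt (a * b)
    rw [map_mul (ω (a * b)), map_mul ω a b, MonoidHom.mul_apply, MonoidHom.mul_apply, halt, halt, one_mul, mul_one, mul_comm] at this
    exact mul_eq_one_iff_eq_inv.mp this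
  have hpow : ∀ (i : ℕ) a b, ω ((σ ^ i) a) ((σ ^ i) b) = ω a b := by
    intro i
    induction i with
    | zero => simp
    | succ i ih => intro a b; rw [pow_succ, MulAut.mul_apply, MulAut.mul_apply, ih, hωσ]
  have hpowρ : ∀ (i : ℕ) x m, (σ ^ i) (ρ x m) = ρ ((φ ^ i) x) ((σ ^ i) m) := by
    intro i
    induction i with
    | zero => simp
    | succ i ih => intro x m; rw [pow_succ', pow_succ', MulAut.mul_apply, MulAut.mul_apply, MulAut.mul_apply, ih, hcomm]
  let N : M →* M :=
    { toFun := fun m => ∏ i ∈ range p, (σ ^ i) m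
      map_one' := by simp
      map_mul' := fun a b => by simp only [map_mul]; exact prod_mul_distrib }
  have hN : ∀ m, N m = ∏ i ∈ range p, (σ ^ i) m := fun m => rfl
  have hshift : ∀ m, N (σ m) = N m := fun m => by
    have h1 := prod_range_succ (fun i => (σ ^ i) m) p
    rw [prod_range_succ' (fun i => (σ ^ i) m) p] at h1
    simp only [pow_zero, hσ, MulAut.one_apply, pow_succ, MulAut.mul_apply] at h1
    exact mul_right_cancel h1
  have hσN : ∀ m, σ (N m) = N m := fun m => by
    calc σ (N m) = ∏ i ∈ range p, σ ((σ ^ i) m) := by rw [hN, map_prod]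
      _ = ∏ i ∈ range p, (σ ^ i) (σ m) := prod_congr rfl fun i _ => by
          rw [← MulAut.mul_apply, ← MulAut.mul_apply, ← pow_succ, ← pow_succ']
      _ = N m := hshift m
  have hNw : ∀ w, ω (N w) w = 1 := fun w => by
    set f : ℕ → A := fun i => ω ((σ ^ i) w) w with hf
    have h1 : ω (N w) w = ∏ i ∈ range p, f i := by
      rw [hN, map_prod, MonoidHom.finsetProd_apply]
    have h2 : ∏ i ∈ range p, (f i)⁻¹ = ∏ i ∈ range p, f i := by
      have hinv : ∀ i ∈ range p, (p - (p - i) % p) % p = i := by
        intro i hi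
        rw [mem_range] at hi
        rcases Nat.eq_zero_or_pos i with rfl | h0
        · simp
        · rw [Nat.mod_eq_of_lt (show p - i < p by omega), Nat.mod_eq_of_lt (show p - (p - i) < p by omega)]
          omega
      refine prod_nbij' (fun i => (p - i) % p) (fun i => (p - i) % p)
        (fun i _ => mem_range.mpr (Nat.mod_lt _ hp.out.pos)) (fun i _ => mem_range.mpr (Nat.mod_lt _ hp.out.pos))
        hinv hinv fun i hi => ?_
      rw [hf]
      have hm : σ ^ ((p - i) % p) = σ ^ (p - i) := by
        conv_rhs => rw [← Nat.mod_add_div (p - i) p, pow_add, pow_mul, hσ, one_pow, mul_one]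
      show (ω ((σ ^ i) w) w)⁻¹ = ω ((σ ^ ((p - i) % p)) w) w
      rw [← hanti, hm, ← hpow (p - i) w ((σ ^ i) w), ← MulAut.mul_apply, ← pow_add,
        Nat.sub_add_cancel (mem_range.mp hi).le, hσ, MulAut.one_apply]
    rw [prod_inv_distrib, ← h1] at h2
    have h3 : (ω (N w) w) ^ 2 = 1 := by rw [pow_two]; exact inv_eq_iff_mul_eq_one.mp h2
    rw [← pow_one (ω (N w) w), ← ((Nat.coprime_primes Nat.prime_two hp.out).mpr (Ne.symm hp2)).gcd_eq_one]
    exact (pow_gcd_eq_one).mpr ⟨h3, hA _⟩
  let T : M →* M :=
    { toFun := fun m => σ m / m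
      map_one' := by simp
      map_mul' := fun a b => by rw [map_mul]; exact mul_div_mul_comm _ _ _ _ }
  have hTindex : T.range.index ≤ p := by
    have e : T.range.index = Nat.card T.ker := by
      apply Nat.eq_of_mul_eq_mul_left (Nat.card_pos (α := T.range))
      rw [Subgroup.card_mul_index, ← Subgroup.card_mul_index T.ker, Subgroup.index_ker, mul_comm]
    rw [e]
    refine le_trans (le_of_eq (Nat.card_congr (Equiv.subtypeEquivRight fun m => ?_))) hfix
    show σ m / m = 1 ↔ _
    rw [div_eq_one]
  have hrad : ∀ w n, ω (N w) n = 1 := by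
    intro w
    have hle : T.range ≤ (ω (N w)).ker := by
      rintro _ ⟨m, rfl⟩
      show ω (N w) (σ m / m) = 1
      have h1 := hωσ (N w) m
      rw [hσN] at h1
      rw [map_div, h1, div_self']
    by_cases hw : w ∈ T.range
    · obtain ⟨m, rfl⟩ := hw
      intro n
      show ω (N (σ m / m)) n = 1
      rw [map_div N, hshift, div_self', map_one, MonoidHom.one_apply]
    · have hne : T.range.index ≠ 1 := fun e => hw (Subgroup.index_eq_one.mp e ▸ Subgroup.mem_top w)
      obtain ⟨j, hj⟩ := hMp.index T.range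
      have hi : T.range.index = p := by
        rcases j with _ | _ | j
        · exact absurd (by rw [hj, pow_zero]) hne
        · rw [hj, pow_one]
        · exfalso
          have : p ^ 1 < p ^ (j + 2) := Nat.pow_lt_pow_right hp.out.one_lt (by omega)
          rw [pow_one, ← hj] at this
          omega
      set S := T.range ⊔ Subgroup.zpowers w with hS
      have hS : S = ⊤ := by
        have h1 := Subgroup.relIndex_mul_index (H := T.range) (K := S) le_sup_left
        rw [hi] at h1
        rcases (Nat.dvd_prime hp.out).mp (Dvd.intro_left _ h1) with h | h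
        · exact Subgroup.index_eq_one.mp h
        · exfalso
          rw [h] at h1
          have : T.range.relIndex S = 1 := Nat.eq_of_mul_eq_mul_right hp.out.pos (by rw [h1, one_mul])
          exact hw (Subgroup.relIndex_eq_one.mp this (Subgroup.mem_sup_right (Subgroup.mem_zpowers w)))
      intro n
      exact (sup_le hle (Subgroup.zpowers_le.mpr (hNw w))) (show n ∈ S from hS ▸ Subgroup.mem_top n)
  intro a b
  -- averaging the conjugates of the norm
  have h1 : ∏ x : Q, ω (ρ x (N (ρ x⁻¹ a))) b = 1 := prod_eq_one fun x _ => by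
    have := hωρ x (N (ρ x⁻¹ a)) (ρ x⁻¹ b)
    rw [show ρ x (ρ x⁻¹ b) = b by rw [map_inv]; exact (ρ x).apply_symm_apply b] at this
    rw [this]; exact hrad _ _
  have h2 : ∀ i ∈ range p, i ≠ 0 → ∏ x : Q, ω (ρ x ((σ ^ i) (ρ x⁻¹ a))) b = 1 := fun i hi hi0 => by
    have hbij : Function.Bijective fun x : Q => x * (φ ^ i) x⁻¹ := by
      refine Finite.injective_iff_bijective.mp fun x y e => ?_
      have e' : (φ ^ i) (y⁻¹ * x) = y⁻¹ * x := by
        simp only [map_inv] at e
        rw [map_mul, map_inv]
        have := congrArg (fun z => y⁻¹ * z * (φ ^ i) x) e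
        simp only [mul_assoc, inv_mul_cancel, mul_one, inv_mul_cancel_left] at this
        exact this.symm
      have hcop : i.Coprime (orderOf φ) :=
        Nat.Coprime.coprime_dvd_right (orderOf_dvd_of_pow_eq_one hφ)
          ((hp.out.coprime_iff_not_dvd.mpr fun hd =>
            absurd (Nat.le_of_dvd (Nat.pos_of_ne_zero hi0) hd) (by rw [mem_range] at hi; omega)).symm)
      obtain ⟨m, hm⟩ := exists_pow_eq_self_of_coprime hcop
      have hst : φ ∈ MulAction.stabilizer (MulAut Q) (y⁻¹ * x) := hm ▸ pow_mem (show φ ^ i ∈ _ from e') m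
      exact (inv_mul_eq_one.mp (hfpf _ hst)).symm
    calc ∏ x : Q, ω (ρ x ((σ ^ i) (ρ x⁻¹ a))) b
        = ∏ x : Q, ω (ρ (x * (φ ^ i) x⁻¹) ((σ ^ i) a)) b := prod_congr rfl fun x _ => by
          rw [hpowρ, map_mul, MulAut.mul_apply]
      _ = ∏ z : Q, ω (ρ z ((σ ^ i) a)) b := hbij.prod_comp (fun z => ω (ρ z ((σ ^ i) a)) b)
      _ = 1 := by rw [← MonoidHom.finsetProd_apply, ← map_prod, havg, map_one, MonoidHom.one_apply]
  simp only [hN, map_prod, MonoidHom.finsetProd_apply] at h1
  rw [prod_comm, prod_eq_single 0 (fun i hi hi0 => h2 i hi hi0)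
    (fun h => absurd (mem_range.mpr hp.out.pos) h)] at h1
  have h0 : ∀ x : Q, ρ x ((σ ^ 0) (ρ x⁻¹ a)) = a := fun x => by
    rw [pow_zero, MulAut.one_apply, map_inv]; exact (ρ x).apply_symm_apply a
  simp only [h0, prod_const, card_univ] at h1
  exact eq_one_of_pow (k := 1) h1 (by rw [pow_one]; exact hA _) hQ

end Pairing

open scoped commutatorElement

theorem core (hp2 : p ≠ 2) (hQ : (Fintype.card Q).Coprime p) (φ : MulAut Q) (hφ : φ ^ p = 1) :
    ∀ (n : ℕ) (C : Type u) [Group C] [Finite C], Nat.card C ≤ n → IsPGroup p C →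
      ∀ (σ : MulAut C) (ρ : Q →* MulAut C), σ ^ p = 1 → (∀ x c, σ (ρ x c) = ρ (φ x) (σ c)) →
      (∀ c, σ c = c → c ^ p = 1 → ∀ x, ρ x c = c) →
      ((∀ x, φ x = x) ∨ ((∀ x, φ x = x → x = 1) ∧ Nat.card {c : C // σ c = c ∧ c ^ p = 1} ≤ p)) →
      ∀ x c, ρ x c = c := by
  intro n
  induction n with
  | zero =>
    intro C _ _ hC
    exact absurd hC (by have := Nat.card_pos (α := C); omega)
  | succ n ih =>
    intro C _ _ hn hC σ ρ hσ hcomm hfix hcase
    by_contra hne
    have step : ∀ K : Subgroup C, K ≠ ⊤ → (∀ c ∈ K, σ c ∈ K) → (∀ x, ∀ c ∈ K, ρ x c ∈ K) →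
        ∀ x, ∀ c ∈ K, ρ x c = c := by
      intro K hK hKσ hKρ x c hc
      have hlt : Nat.card K < Nat.card C := by
        refine lt_of_le_of_ne K.card_le_card_group fun e => hK (Subgroup.eq_top_of_card_eq K e)
      let ρK : Q →* MulAut K :=
        { toFun := fun x => restr K (ρ x) (hKρ x)
          map_one' := MulEquiv.ext fun c => Subtype.ext (by rw [restr_apply, map_one]; rfl)
          map_mul' := fun x y => MulEquiv.ext fun c => Subtype.ext (by
            rw [restr_apply, map_mul, MulAut.mul_apply, MulAut.mul_apply, restr_apply, restr_apply]) }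
      have hpowK : ∀ (i : ℕ) (c : K), ((((restr K σ hKσ) ^ i) c : K) : C) = (σ ^ i) c := by
        intro i
        induction i with
        | zero => simp
        | succ i ihi => intro c; rw [pow_succ', pow_succ', MulAut.mul_apply, MulAut.mul_apply, restr_apply, ihi]
      have hcase' : (∀ x, φ x = x) ∨ ((∀ x, φ x = x → x = 1) ∧
          Nat.card {c : K // restr K σ hKσ c = c ∧ c ^ p = 1} ≤ p) := by
        refine hcase.imp_right fun h => ⟨h.1, le_trans ?_ h.2⟩
        refine Nat.card_le_card_of_injective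
          (fun c => (⟨(c.1 : C), congrArg Subtype.val c.2.1, congrArg Subtype.val c.2.2⟩ :
            {c : C // σ c = c ∧ c ^ p = 1})) fun a b e => ?_
        exact Subtype.ext (Subtype.ext (Subtype.mk.inj e))
      exact congrArg Subtype.val (ih K (by omega) (hC.to_subgroup K) (restr K σ hKσ) ρK
        (MulEquiv.ext fun c => Subtype.ext (by rw [hpowK, hσ]; rfl))
        (fun x c => Subtype.ext (hcomm x c))
        (fun c h1 h2 x => Subtype.ext (hfix c (congrArg Subtype.val h1) (congrArg Subtype.val h2) x))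
        hcase' x ⟨c, hc⟩)
    -- generated by displacements
    have htop : Subgroup.closure {c : C | ∃ x d, c = ρ x d * d⁻¹} = ⊤ := by
      by_contra h
      apply hne
      intro x d
      refine fixed_of_disp hC hQ ρ x d (step _ h ?_ ?_ x _ (Subgroup.subset_closure ⟨x, d, rfl⟩))
      · intro c hc
        refine (show Subgroup.closure {c : C | ∃ x d, c = ρ x d * d⁻¹} ≤ (Subgroup.closure {c : C | ∃ x d, c = ρ x d * d⁻¹}).comap σ.toMonoidHom from ?_) hc
        rw [Subgroup.closure_le]
        rintro _ ⟨x, d, rfl⟩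
        exact Subgroup.subset_closure ⟨φ x, σ d, by rw [MulEquiv.toMonoidHom_eq_coe, MonoidHom.coe_coe, map_mul, map_inv, hcomm]⟩
      · intro y c hc
        refine (show Subgroup.closure {c : C | ∃ x d, c = ρ x d * d⁻¹} ≤ (Subgroup.closure {c : C | ∃ x d, c = ρ x d * d⁻¹}).comap (ρ y).toMonoidHom from ?_) hc
        rw [Subgroup.closure_le]
        rintro _ ⟨x, d, rfl⟩
        refine Subgroup.subset_closure ⟨y * x * y⁻¹, ρ y d, ?_⟩
        rw [MulEquiv.toMonoidHom_eq_coe, MonoidHom.coe_coe, map_mul, map_inv, ← MulAut.mul_apply, ← MulAut.mul_apply, ← map_mul, ← map_mul,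
          inv_mul_cancel_right]
    -- proper normal invariant subgroups are central
    have central : ∀ K : Subgroup C, K ≠ ⊤ → K.Normal → (∀ c ∈ K, σ c ∈ K) → (∀ x, ∀ c ∈ K, ρ x c ∈ K) →
        ∀ k ∈ K, k ∈ Subgroup.center C := by
      intro K hK hKn h1 h2 k hk
      refine Subgroup.mem_center_iff.mpr fun g => ?_
      have : g ∈ Subgroup.centralizer ({k} : Set C) := by
        refine (htop ▸ (Subgroup.closure_le _).mpr ?_ : (⊤ : Subgroup C) ≤ _) (Subgroup.mem_top g)
        rintro _ ⟨x, d, rfl⟩
        refine Subgroup.mem_centralizer_singleton_iff.mpr ?_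
        set k' := d⁻¹ * k * d with hk'
        have e1 : ρ x k' = k' := step K hK h1 h2 x k' (by
          have := hKn.conj_mem k hk d⁻¹
          rwa [inv_inv] at this)
        have e2 : ρ x k = k := step K hK h1 h2 x k hk
        have e3 : ρ x d * k' * (ρ x d)⁻¹ = k := by
          have := congrArg (ρ x) (show d * k' * d⁻¹ = k by rw [hk']; group)
          rwa [map_mul, map_mul, map_inv, e1, e2] at this
        calc ρ x d * d⁻¹ * k = ρ x d * k' * d⁻¹ := by rw [hk']; group
          _ = k * (ρ x d * d⁻¹) := by rw [← e3]; group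
      exact Subgroup.mem_centralizer_singleton_iff.mp this
    haveI hnt : Nontrivial C := by
      by_contra h
      rw [not_nontrivial_iff_subsingleton] at h
      exact hne fun x c => Subsingleton.elim _ _
    haveI : Group.IsNilpotent C := hC.isNilpotent
    have hD : commutator C ≠ ⊤ := (Group.IsSolvable.commutator_lt_top_of_nontrivial C).ne
    let of' : C →* Abelianization C := Abelianization.of
    have hofsurj : Function.Surjective of' := fun m => QuotientGroup.mk'_surjective _ m
    have hker : ∀ c, of' c = 1 ↔ c ∈ commutator C := fun c => QuotientGroup.eq_one_iff c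
    haveI hMnt : Nontrivial (Abelianization C) := by
      by_contra h
      rw [not_nontrivial_iff_subsingleton] at h
      exact hD (eq_top_iff.mpr fun c _ => (hker c).mp (Subsingleton.elim _ _))
    have hMp : IsPGroup p (Abelianization C) := hC.of_surjective _ hofsurj
    let σM : MulAut (Abelianization C) := σ.abelianizationCongr
    let ρM : Q →* MulAut (Abelianization C) :=
      { toFun := fun x => (ρ x).abelianizationCongr
        map_one' := MulEquiv.ext fun m => by
          obtain ⟨c, rfl⟩ := hofsurj m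
          show of' (ρ 1 c) = of' c
          rw [map_one]; rfl
        map_mul' := fun x y => MulEquiv.ext fun m => by
          obtain ⟨c, rfl⟩ := hofsurj m
          show of' (ρ (x * y) c) = of' (ρ x (ρ y c))
          rw [map_mul]; rfl }
    have hσof : ∀ c, σM (of' c) = of' (σ c) := fun c => rfl
    have hρof : ∀ x c, ρM x (of' c) = of' (ρ x c) := fun x c => rfl
    set L := (powMonoidHom p : Abelianization C →* Abelianization C).range.comap of' with hLdef
    have hLmem : ∀ c, c ∈ L ↔ ∃ m, m ^ p = of' c := fun c => Iff.rfl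
    have hLn : L.Normal := Subgroup.Normal.comap inferInstance _
    have hLtop : L ≠ ⊤ := by
      intro h
      have hsurj : Function.Surjective (powMonoidHom p : Abelianization C →* Abelianization C) := fun m => by
        obtain ⟨c, rfl⟩ := hofsurj m
        exact (hLmem c).mp (h ▸ Subgroup.mem_top c)
      obtain ⟨j, hj0, hj⟩ := (IsPGroup.nontrivial_iff_card hMp).mp inferInstance
      obtain ⟨m, hm⟩ := exists_prime_orderOf_dvd_card' (G := Abelianization C) p (hj ▸ dvd_pow_self p hj0.ne')
      have : m = 1 := (Finite.injective_iff_surjective.mpr hsurj) (by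
        show m ^ p = 1 ^ p
        rw [← hm, pow_orderOf_eq_one, one_pow])
      rw [this, orderOf_one] at hm
      exact hp.out.ne_one hm.symm
    have hLσ : ∀ c ∈ L, σ c ∈ L := fun c hc => by
      obtain ⟨m, hm⟩ := (hLmem c).mp hc
      exact (hLmem _).mpr ⟨σM m, by rw [← map_pow, hm, hσof]⟩
    have hLρ : ∀ x, ∀ c ∈ L, ρ x c ∈ L := fun x c hc => by
      obtain ⟨m, hm⟩ := (hLmem c).mp hc
      exact (hLmem _).mpr ⟨ρM x m, by rw [← map_pow, hm, hρof]⟩
    have hLfix := step L hLtop hLσ hLρ
    have hLz := central L hLtop hLn hLσ hLρ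
    have hDL : commutator C ≤ L := fun c hc => (hLmem c).mpr ⟨1, by rw [one_pow, (hker c).mpr hc]⟩
    have hpL : ∀ c : C, c ^ p ∈ L := fun c => (hLmem _).mpr ⟨of' c, by rw [map_pow]⟩
    have hκ : ∀ a b : C, ⁅a, b⁆ ∈ commutator C := fun a b =>
      Subgroup.commutator_mem_commutator (Subgroup.mem_top a) (Subgroup.mem_top b)
    have hκc : ∀ a b g : C, g * ⁅a, b⁆ = ⁅a, b⁆ * g := fun a b g =>
      Subgroup.mem_center_iff.mp (hLz _ (hDL (hκ a b))) g
    have hκr : ∀ a b c : C, ⁅a, b * c⁆ = ⁅a, b⁆ * ⁅a, c⁆ := fun a b c => by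
      calc ⁅a, b * c⁆ = ⁅a, b⁆ * (b * ⁅a, c⁆) * b⁻¹ := by simp only [commutatorElement_def]; group
        _ = ⁅a, b⁆ * ⁅a, c⁆ := by rw [hκc a c b]; group
    have hκl : ∀ a b c : C, ⁅a * b, c⁆ = ⁅a, c⁆ * ⁅b, c⁆ := fun a b c => by
      calc ⁅a * b, c⁆ = (a * ⁅b, c⁆) * a⁻¹ * ⁅a, c⁆ := by simp only [commutatorElement_def]; group
        _ = ⁅b, c⁆ * ⁅a, c⁆ := by rw [hκc b c a]; group
        _ = ⁅a, c⁆ * ⁅b, c⁆ := hκc a c _
    have hκp : ∀ a b : C, ⁅a, b⁆ ^ p = 1 := fun a b => by
      have e : ∀ k : ℕ, ⁅a ^ k, b⁆ = ⁅a, b⁆ ^ k := by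
        intro k
        induction k with
        | zero => simp
        | succ k ihk => rw [pow_succ, hκl, ihk, pow_succ]
      rw [← e, commutatorElement_eq_one_iff_mul_comm]
      exact (Subgroup.mem_center_iff.mp (hLz _ (hpL a)) b).symm
    have hmulpow : ∀ a b : C, (a * b) ^ p = a ^ p * b ^ p := fun a b => by
      have e : ∀ k : ℕ, (a * b) ^ k = a ^ k * b ^ k * ⁅b, a⁆ ^ (k.choose 2) := by
        intro k
        induction k with
        | zero => simp
        | succ k ihk =>
          have e1 : ∀ j : ℕ, b ^ j * a = a * b ^ j * ⁅b, a⁆ ^ j := by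
            intro j
            induction j with
            | zero => simp
            | succ j ihj =>
              calc b ^ (j + 1) * a = b * (b ^ j * a) := by rw [pow_succ', mul_assoc]
                _ = (b * a) * b ^ j * ⁅b, a⁆ ^ j := by rw [ihj]; group
                _ = (⁅b, a⁆ * (a * b)) * b ^ j * ⁅b, a⁆ ^ j := by rw [commutatorElement_def]; group
                _ = ((a * b) * ⁅b, a⁆) * b ^ j * ⁅b, a⁆ ^ j := by rw [hκc b a (a * b)]
                _ = (a * b) * (b ^ j * ⁅b, a⁆) * ⁅b, a⁆ ^ j := by rw [hκc b a (b ^ j)]; simp only [mul_assoc]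
                _ = a * (b * b ^ j) * (⁅b, a⁆ * ⁅b, a⁆ ^ j) := by simp only [mul_assoc]
                _ = a * b ^ (j + 1) * ⁅b, a⁆ ^ (j + 1) := by rw [pow_succ' b, pow_succ' ⁅b, a⁆]
          have hcm : Commute (⁅b, a⁆ ^ k.choose 2) (a * b) := ((show Commute ⁅b, a⁆ (a * b) from (hκc b a _).symm)).pow_left _
          have hcm2 : Commute (⁅b, a⁆ ^ k) b := ((show Commute ⁅b, a⁆ b from (hκc b a _).symm)).pow_left _
          calc (a * b) ^ (k + 1) = a ^ k * b ^ k * (⁅b, a⁆ ^ k.choose 2 * (a * b)) := by rw [pow_succ, ihk, mul_assoc]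
            _ = a ^ k * (b ^ k * a) * b * ⁅b, a⁆ ^ k.choose 2 := by rw [hcm.eq]; group
            _ = a ^ k * a * b ^ k * (⁅b, a⁆ ^ k * b) * ⁅b, a⁆ ^ k.choose 2 := by rw [e1]; group
            _ = a ^ (k + 1) * b ^ (k + 1) * (⁅b, a⁆ ^ k * ⁅b, a⁆ ^ k.choose 2) := by rw [hcm2.eq]; group
            _ = _ := by rw [← pow_add, Nat.choose_succ_succ k 1, Nat.choose_one_right]
      obtain ⟨j, hj⟩ : p ∣ p.choose 2 :=
        hp.out.dvd_choose_self two_ne_zero (lt_of_le_of_ne hp.out.two_le (Ne.symm hp2))
      rw [e, hj, pow_mul, hκp, one_pow, mul_one]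
    have hexp : ∀ c : C, c ^ p = 1 := by
      let P : C →* C := { toFun := fun c => c ^ p, map_one' := one_pow _, map_mul' := hmulpow }
      intro c
      refine (htop ▸ (Subgroup.closure_le P.ker).mpr ?_ : (⊤ : Subgroup C) ≤ P.ker) (Subgroup.mem_top c)
      rintro _ ⟨x, d, rfl⟩
      show (ρ x d * d⁻¹) ^ p = 1
      rw [hmulpow, ← map_pow, hLfix x _ (hpL d), inv_pow, mul_inv_cancel]
    have havg : ∀ m : Abelianization C, ∏ x, ρM x m = 1 := by
      let F : Abelianization C →* Abelianization C :=
        { toFun := fun m => ∏ x, ρM x m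
          map_one' := by simp
          map_mul' := fun a b => by simp only [map_mul]; exact prod_mul_distrib }
      have h1 : (⊤ : Subgroup C) ≤ (F.comp of').ker := htop ▸ (Subgroup.closure_le _).mpr (by
        rintro _ ⟨y, d, rfl⟩
        show F (of' (ρ y d * d⁻¹)) = 1
        rw [map_mul, map_inv, map_mul, map_inv, ← hρof, mul_inv_eq_one]
        show ∏ x, ρM x (ρM y (of' d)) = ∏ x, ρM x (of' d)
        exact Fintype.prod_equiv (Equiv.mulRight y) _ _ fun x => by
          show _ = ρM (x * y) (of' d)
          rw [map_mul]; rfl)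
      intro m
      obtain ⟨c, rfl⟩ := hofsurj m
      exact h1 (Subgroup.mem_top c)
    have hMfix : ∀ m, (∀ x, ρM x m = m) → m = 1 := fun m hm => by
      have h1 := havg m
      simp only [hm, prod_const, card_univ] at h1
      obtain ⟨k, hk⟩ := hMp m
      exact eq_one_of_pow h1 hk hQ
    have hσMp : σM ^ p = 1 := by
      have e : ∀ (i : ℕ) c, (σM ^ i) (of' c) = of' ((σ ^ i) c) := by
        intro i
        induction i with
        | zero => simp
        | succ i ihi => intro c; rw [pow_succ', pow_succ', MulAut.mul_apply, MulAut.mul_apply, ihi, hσof]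
      refine MulEquiv.ext fun m => ?_
      obtain ⟨c, rfl⟩ := hofsurj m
      rw [e, hσ]; rfl
    obtain ⟨m, hm, hm1⟩ := exists_fixed hMp σM hσMp
    obtain ⟨u, rfl⟩ := hofsurj m
    have hud : u⁻¹ * σ u ∈ commutator C := (hker _).mp (by
      rw [map_mul, map_inv, ← hσof, hm, inv_mul_cancel])
    rcases hcase with hφ1 | ⟨hfpf, hcount⟩
    · apply hm1
      refine hMfix _ fun x => ?_
      rw [hρof]
      refine congrArg of' (fixed_of_disp hC hQ ρ x u (hfix _ ?_ (hexp _) x))
      have e1 : σ (ρ x u) = ρ x u * (u⁻¹ * σ u) := by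
        calc σ (ρ x u) = ρ x (σ u) := by rw [hcomm, hφ1]
          _ = ρ x (u * (u⁻¹ * σ u)) := by rw [mul_inv_cancel_left]
          _ = _ := by rw [map_mul, hLfix x _ (hDL hud)]
      rw [map_mul, map_inv, e1]; group
    · -- the commutator pairing
      have hDfix : ∃ d ∈ commutator C, σ d = d ∧ d ≠ 1 := by
        by_cases hbot : commutator C = ⊥
        · exfalso
          rw [hbot, Subgroup.mem_bot, inv_mul_eq_one] at hud
          refine hm1 (hMfix _ fun x => ?_)
          rw [hρof, hfix u hud.symm (hexp u) x]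
        · haveI := (Subgroup.nontrivial_iff_ne_bot _).mpr hbot
          have hinv : ∀ c ∈ commutator C, σ c ∈ commutator C := fun c hc => (hker _).mp (by
            rw [← hσof, (hker c).mpr hc, map_one])
          have e : ∀ (i : ℕ) (c : commutator C), ((((restr _ σ hinv) ^ i) c : commutator C) : C) = (σ ^ i) c := by
            intro i
            induction i with
            | zero => simp
            | succ i ihi => intro c; rw [pow_succ', pow_succ', MulAut.mul_apply, MulAut.mul_apply, restr_apply, ihi]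
          obtain ⟨d, hd, hd1⟩ := exists_fixed (hC.to_subgroup (commutator C)) (restr _ σ hinv)
            (MulEquiv.ext fun c => Subtype.ext (by rw [e, hσ]; rfl))
          exact ⟨d, d.2, congrArg Subtype.val hd, fun h => hd1 (Subtype.ext h)⟩
      letI : CommGroup (Subgroup.center C) :=
        { (inferInstance : Group (Subgroup.center C)) with
          mul_comm := fun a b => Subtype.ext (Subgroup.mem_center_iff.mp b.2 a) }
      -- displacement on the derived group
      let t : commutator C →* Subgroup.center C :=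
        { toFun := fun d => ⟨σ d * (d : C)⁻¹, mul_mem (hLz _ (hLσ _ (hDL d.2))) (inv_mem (hLz _ (hDL d.2)))⟩
          map_one' := Subtype.ext (by simp)
          map_mul' := fun a b => Subtype.ext (by
            have hz := Subgroup.mem_center_iff.mp (inv_mem (hLz _ (hDL a.2)))
            show σ (a.1 * b.1) * (a.1 * b.1)⁻¹ = σ a.1 * a.1⁻¹ * (σ b.1 * b.1⁻¹)
            rw [map_mul, mul_inv_rev, mul_assoc (σ a.1) a.1⁻¹, ← hz (σ b.1 * b.1⁻¹)]; group) }
      let mkA : Subgroup.center C →* (Subgroup.center C ⧸ t.range) := QuotientGroup.mk' _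
      let κ : C → C → (Subgroup.center C ⧸ t.range) := fun a b => mkA ⟨⁅a, b⁆, hLz _ (hDL (hκ a b))⟩
      let κ₁ : C → (Abelianization C →* (Subgroup.center C ⧸ t.range)) := fun a =>
        Abelianization.lift (MonoidHom.mk' (κ a) fun b c => by
          show mkA _ = mkA _ * mkA _
          rw [← map_mul]; exact congrArg mkA (Subtype.ext (hκr a b c)))
      let ω : Abelianization C →* (Abelianization C →* (Subgroup.center C ⧸ t.range)) :=
        Abelianization.lift (MonoidHom.mk' κ₁ fun a b => Abelianization.hom_ext _ _ (MonoidHom.ext fun c => by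
          show mkA _ = mkA _ * mkA _
          rw [← map_mul]; exact congrArg mkA (Subtype.ext (hκl a b c))))
      have hω : ∀ a b, ω (of' a) (of' b) = κ a b := fun a b => rfl
      have hA : ∀ z : Subgroup.center C ⧸ t.range, z ^ p = 1 := fun z => by
        obtain ⟨y, rfl⟩ := QuotientGroup.mk'_surjective _ z
        rw [← map_pow, show y ^ p = 1 from Subtype.ext (hexp y), map_one]
      have hcard : Nat.card {m : Abelianization C // σM m = m} ≤ p := by
        -- preimage of the fixed points
        let F : Subgroup (Abelianization C) := MonoidHom.eqLocus σM.toMonoidHom (MonoidHom.id _)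
        set U := F.comap of' with hU
        let f : U → commutator C := fun u => ⟨(u : C)⁻¹ * σ u, (hker _).mp (by
          have h : σM (of' u) = of' u := u.2
          rw [map_mul, map_inv, ← hσof, h, inv_mul_cancel])⟩
        have hfib : ∀ u v : U, f u = f v → σ ((u : C) * (v : C)⁻¹) = (u : C) * (v : C)⁻¹ := fun a b e => by
          have e' : (a : C)⁻¹ * σ a = (b : C)⁻¹ * σ b := congrArg Subtype.val e
          rw [map_mul, map_inv]
          calc σ a * (σ b)⁻¹ = (a : C) * ((a : C)⁻¹ * σ a) * (σ b)⁻¹ := by group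
            _ = (a : C) * (b : C)⁻¹ := by rw [e']; group
        classical
        have hU1 : Nat.card U ≤ Nat.card (commutator C) * p := by
          refine le_trans ?_ (Nat.mul_le_mul_left _ hcount)
          rw [← Nat.card_prod]
          let g : commutator C → U := fun d => if h : ∃ v, f v = d then h.choose else 1
          refine Nat.card_le_card_of_injective (fun a => (f a, (⟨(a : C) * ((g (f a) : U) : C)⁻¹, ?_, hexp _⟩ : {c : C // σ c = c ∧ c ^ p = 1}))) ?_
          · refine hfib a _ ?_
            have h : ∃ v, f v = f a := ⟨a, rfl⟩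
            simp only [g, dif_pos h]
            exact h.choose_spec.symm
          · intro a b e
            simp only [Prod.mk.injEq, Subtype.mk.injEq] at e
            rw [e.1] at e
            exact Subtype.ext (mul_right_cancel e.2)
        have hU2 : Nat.card U = Nat.card (commutator C) * Nat.card F := by
          let g : U →* F := (of'.comp U.subtype).codRestrict F fun u => u.2
          have hs : Function.Surjective g := fun ⟨y, hy⟩ => by
            obtain ⟨c, rfl⟩ := hofsurj y
            exact ⟨⟨c, hy⟩, rfl⟩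
          rw [← Subgroup.card_mul_index g.ker, Subgroup.index_ker, MonoidHom.range_eq_top.mpr hs, Subgroup.card_top]
          congr 1
          refine Nat.card_congr
            { toFun := fun a => ⟨(a.1 : C), (hker _).mp (congrArg Subtype.val a.2)⟩
              invFun := fun d => ⟨⟨d, show σM (of' d) = of' d by rw [(hker _).mpr d.2, map_one]⟩, Subtype.ext ((hker _).mpr d.2)⟩
              left_inv := fun a => rfl
              right_inv := fun d => rfl }
        rw [hU2] at hU1
        exact Nat.le_of_mul_le_mul_left hU1 Nat.card_pos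
      have hω1 := pairing_trivial hp2 hA hQ hMp σM hσMp φ hφ hfpf ρM
        (fun x m => by
          obtain ⟨c, rfl⟩ := hofsurj m
          rw [hρof, hσof, hσof, hρof, hcomm]) havg hcard ω
        (fun m => by
          obtain ⟨c, rfl⟩ := hofsurj m
          rw [hω]
          show mkA _ = 1
          rw [← map_one mkA]; exact congrArg mkA (Subtype.ext (commutatorElement_self c)))
        (fun a b => by
          obtain ⟨a, rfl⟩ := hofsurj a
          obtain ⟨b, rfl⟩ := hofsurj b
          rw [hσof, hσof, hω, hω]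
          refine QuotientGroup.eq.mpr ⟨⟨⁅a, b⁆, hκ a b⟩⁻¹, ?_⟩
          rw [map_inv]
          refine Subtype.ext ?_
          show (σ ⁅a, b⁆ * ⁅a, b⁆⁻¹)⁻¹ = ⁅σ a, σ b⁆⁻¹ * ⁅a, b⁆
          rw [show ⁅σ a, σ b⁆ = σ ⁅a, b⁆ from (map_commutatorElement σ.toMonoidHom a b).symm]
          rw [mul_inv_rev, inv_inv]
          exact (Subgroup.mem_center_iff.mp (hLz _ (hDL (hκ a b))) _).symm)
        (fun x a b => by
          obtain ⟨a, rfl⟩ := hofsurj a
          obtain ⟨b, rfl⟩ := hofsurj b
          rw [hρof, hρof, hω, hω]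
          refine congrArg mkA (Subtype.ext ?_)
          show ⁅ρ x a, ρ x b⁆ = ⁅a, b⁆
          exact (map_commutatorElement (ρ x).toMonoidHom a b).symm.trans (hLfix x _ (hDL (hκ a b))))
      obtain ⟨d, hdD, hdσ, hd1⟩ := hDfix
      have hsub : commutator C ≤ t.range.map (Subgroup.center C).subtype := by
        refine (commutator_def C).le.trans (Subgroup.commutator_le.mpr ?_)
        intro a _ b _
        have := hω1 (of' a) (of' b)
        rw [hω] at this
        exact ⟨⟨⁅a, b⁆, hLz _ (hDL (hκ a b))⟩, (QuotientGroup.eq_one_iff _).mp this, rfl⟩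
      have hinj : Function.Injective t := by
        refine fun a b e => ?_
        let t' : commutator C → commutator C := fun d => ⟨σ d.1 * d.1⁻¹, mul_mem ((hker _).mp (by
          rw [← hσof, (hker _).mpr d.2, map_one])) (inv_mem d.2)⟩
        have ht's : Function.Surjective t' := fun y => by
          obtain ⟨z, ⟨w, hw⟩, hz⟩ := hsub y.2
          exact ⟨w, Subtype.ext (by rw [← hz, ← hw]; rfl)⟩
        exact (Finite.injective_iff_surjective.mpr ht's) (Subtype.ext (congrArg Subtype.val e : σ a.1 * a.1⁻¹ = σ b.1 * b.1⁻¹))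
      exact hd1 (congrArg Subtype.val (@hinj ⟨d, hdD⟩ 1 (Subtype.ext (by
        show σ d * d⁻¹ = σ 1 * 1⁻¹
        rw [hdσ, map_one, inv_one, mul_one, mul_inv_cancel]))))

end Cfsg.Agent.Invol.NormPairing
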