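import Mathlib

/-!
Two involutions with the same number of moved points admit a third one whose product with
each of them has odd order (unless there are only four points).
-/

set_option linter.all false

namespace Cfsg.Agent.Invol.OddGraph

open Finset

variable {α β : Type*} [DecidableEq α]

/-- `f` permutes `S` with odd order. -/
def OddOn (S : Finset α) (f : α → α) : Prop := ∃ N, Odd N ∧ ∀ u ∈ S, f^[N] u = u

def Inv (S : Finset α) (x : α → α) : Prop := ∀ u ∈ S, x u ∈ S ∧ x (x u) = u

def cnt (S : Finset α) (x : α → α) : ℕ := #{u ∈ S | x u ≠ u}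

def Sol (S : Finset α) (x y : α → α) : Prop :=
  ∃ z : α → α, (∀ u, z (z u) = u) ∧ (∀ u ∉ S, z u = u) ∧ cnt S z = cnt S x ∧
    OddOn S (x ∘ z) ∧ OddOn S (y ∘ z)

def Sq (S : Finset α) (x y : α → α) : Prop :=
  #S = 4 ∧ ∀ s ∈ S, x s ≠ s ∧ y s ≠ s ∧ x s ≠ y s

lemma Sol.symm {S : Finset α} {x y : α → α} (h : cnt S x = cnt S y) (hs : Sol S x y) :
    Sol S y x := by
  obtain ⟨z, h1, h2, h3, h4, h5⟩ := hs
  exact ⟨z, h1, h2, h3.trans h, h5, h4⟩

lemma oddOn_congr {S : Finset α} {f g : α → α} (hf : ∀ u ∈ S, f u ∈ S)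
    (hfg : ∀ u ∈ S, g u = f u) (h : OddOn S f) : OddOn S g := by
  obtain ⟨N, hN, h⟩ := h
  refine ⟨N, hN, fun u hu => ?_⟩
  have key : ∀ k, g^[k] u = f^[k] u ∧ f^[k] u ∈ S := by
    intro k
    induction k with
    | zero => exact ⟨rfl, hu⟩
    | succ k ih =>
      simp only [Function.iterate_succ_apply']
      rw [ih.1]
      exact ⟨hfg _ ih.2, hf _ ih.2⟩
  rw [(key N).1]; exact h u hu

lemma oddOn_union {S T : Finset α} {f : α → α} (h1 : OddOn S f) (h2 : OddOn T f) :
    OddOn (S ∪ T) f := by
  obtain ⟨N, hN, h1⟩ := h1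
  obtain ⟨M, hM, h2⟩ := h2
  refine ⟨N * M, hN.mul hM, fun u hu => ?_⟩
  rcases mem_union.1 hu with hu | hu
  · exact ((show Function.IsPeriodicPt f N u from h1 u hu).mul_const M)
  · exact ((show Function.IsPeriodicPt f M u from h2 u hu).const_mul N)

/-- Inserting two new points into a cycle keeps the order odd. -/
lemma insert_two {S : Finset α} {f g : α → α} (hf : ∀ u ∈ S, f u ∈ S) (h : OddOn S f)
    {a b c : α} (ha : a ∉ S) (hb : b ∉ S) (hc : c ∈ S)
    (g1 : g c = a) (g2 : g a = b) (g3 : g b = f c) (g4 : ∀ u ∈ S, u ≠ c → g u = f u) :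
    OddOn (insert a (insert b S)) g := by
  obtain ⟨N, hN, h⟩ := h
  have hper : Function.IsPeriodicPt f N c := h c hc
  set L := Function.minimalPeriod f c with hL
  have hLN : L ∣ N := hper.minimalPeriod_dvd
  have hLodd : Odd L := Odd.of_dvd_nat hN hLN
  have hLpos : 0 < L := hLodd.pos
  have hmem : ∀ k u, u ∈ S → f^[k] u ∈ S := by
    intro k
    induction k with
    | zero => exact fun u hu => hu
    | succ k ih => exact fun u hu => by rw [Function.iterate_succ_apply']; exact hf _ (ih u hu)
  have hfL : f^[L] c = c := Function.isPeriodicPt_minimalPeriod f c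
  have horb : ∀ i, 1 ≤ i → i ≤ L → g^[2 + i] c = f^[i] c := by
    intro i
    induction i with
    | zero => intro h; omega
    | succ i ih =>
      intro _ hi
      rcases Nat.eq_zero_or_pos i with rfl | hi0
      · simp [Function.iterate_succ_apply', g1, g2, g3]
      · rw [show 2 + (i + 1) = (2 + i) + 1 by omega, Function.iterate_succ_apply',
          ih hi0 (by omega), g4 _ (hmem i c hc), ← Function.iterate_succ_apply' f]
        intro hic
        have : L ∣ i := Function.IsPeriodicPt.minimalPeriod_dvd (show f^[i] c = c from hic)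
        exact absurd (Nat.le_of_dvd hi0 this) (by omega)
  have hcL : g^[L + 2] c = c := by rw [Nat.add_comm, horb L hLpos le_rfl, hfL]
  have horbc : ∀ i, g^[L + 2] (g^[i] c) = g^[i] c := fun i => by
    rw [← Function.iterate_add_apply, Nat.add_comm, Function.iterate_add_apply, hcL]
  refine ⟨(L + 2) * N, ((hLodd.add_even even_two).mul hN), fun u hu => ?_⟩
  suffices Function.IsPeriodicPt g (L + 2) u ∨ Function.IsPeriodicPt g N u by
    rcases this with h' | h'
    · exact h'.mul_const N
    · exact h'.const_mul (L + 2)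
  rcases mem_insert.1 hu with rfl | hu
  · left; have := horbc 1; simp only [Function.iterate_one, g1] at this; exact this
  rcases mem_insert.1 hu with rfl | hu
  · left
    have := horbc 2
    simp only [Function.iterate_succ_apply, Function.iterate_zero_apply, g1, g2] at this
    exact this
  by_cases hex : ∃ k, f^[k] u = c
  · left
    obtain ⟨k, hk⟩ := hex
    obtain ⟨i, hi⟩ : ∃ i, u = f^[i] c := by
      refine ⟨(N * (k + 1)) - k, ?_⟩
      have hN0 : 0 < N := hN.pos
      have hle : k ≤ N * (k + 1) := by nlinarith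
      rw [← hk, ← Function.iterate_add_apply, Nat.sub_add_cancel hle]
      exact ((show Function.IsPeriodicPt f N u from h u hu).mul_const (k + 1)).symm
    have hmod : f^[i % L] c = f^[i] c :=
      (show Function.IsPeriodicPt f L c from hfL).iterate_mod_apply i
    by_cases h0 : i % L = 0
    · rw [h0] at hmod
      rw [hi, ← hmod]
      exact hcL
    · have := horb (i % L) (by omega) (Nat.le_of_lt (Nat.mod_lt _ hLpos))
      rw [hi, ← hmod, ← this]
      exact horbc _
  · right
    push Not at hex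
    have key : ∀ k, g^[k] u = f^[k] u := by
      intro k
      induction k with
      | zero => rfl
      | succ k ih =>
        rw [Function.iterate_succ_apply', ih, g4 _ (hmem k u hu) (hex k),
          Function.iterate_succ_apply']
    show g^[N] u = u
    rw [key]; exact h u hu

lemma Sol.glue {S T : Finset α} (hd : Disjoint S T) {x y : α → α} (hxS : Inv S x)
    (hxT : Inv T x) (hyS : Inv S y) (hyT : Inv T y)
    (h1 : Sol S x y) (h2 : Sol T x y) : Sol (S ∪ T) x y := by
  obtain ⟨z, hz, hzo, hzc, hz1, hz2⟩ := h1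
  obtain ⟨w, hw, hwo, hwc, hw1, hw2⟩ := h2
  have hzm : ∀ u ∈ S, z u ∈ S := fun u hu => by
    by_contra hc
    have h' := hzo _ hc
    rw [hz] at h'
    exact hc (h' ▸ hu)
  have hwm : ∀ u ∈ T, w u ∈ T := fun u hu => by
    by_contra hc
    have h' := hwo _ hc
    rw [hw] at h'
    exact hc (h' ▸ hu)
  have hdS : ∀ u ∈ S, u ∉ T := fun u hu => disjoint_left.1 hd hu
  set r : α → α := fun u => if u ∈ S then z u else w u with hr
  have rS : ∀ u ∈ S, r u = z u := fun u hu => if_pos hu
  have rT : ∀ u ∈ T, r u = w u := fun u hu => if_neg (fun h => hdS u h hu)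
  refine ⟨r, fun u => ?_, fun u hu => ?_, ?_, ?_, ?_⟩
  · by_cases hu : u ∈ S
    · rw [rS u hu, rS _ (hzm u hu), hz]
    · by_cases hu' : u ∈ T
      · rw [rT u hu', rT _ (hwm u hu'), hw]
      · have : r u = u := by rw [hr]; simp only; rw [if_neg hu, hwo u hu']
        rw [this, this]
  · rw [mem_union, not_or] at hu
    rw [hr]; simp only; rw [if_neg hu.1, hwo u hu.2]
  · simp only [cnt] at *
    rw [filter_union, filter_union, card_union_of_disjoint (disjoint_filter_filter hd),
      card_union_of_disjoint (disjoint_filter_filter hd),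
      filter_congr (s := S) (q := fun u => z u ≠ u) (fun u hu => by rw [rS u hu]),
      filter_congr (s := T) (q := fun u => w u ≠ u) (fun u hu => by rw [rT u hu]), hzc, hwc]
  · exact oddOn_union
      (oddOn_congr (fun u hu => (hxS _ (hzm u hu)).1) (fun u hu => by simp [rS u hu]) hz1)
      (oddOn_congr (fun u hu => (hxT _ (hwm u hu)).1) (fun u hu => by simp [rT u hu]) hw1)
  · exact oddOn_union
      (oddOn_congr (fun u hu => (hyS _ (hzm u hu)).1) (fun u hu => by simp [rS u hu]) hz2)
      (oddOn_congr (fun u hu => (hyT _ (hwm u hu)).1) (fun u hu => by simp [rT u hu]) hw2)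

/-- Transport of an explicit solution on `Fin k`. -/
lemma sol_of_emb {k : ℕ} {e : Fin k → α} (he : Function.Injective e) {x y : α → α}
    (x0 y0 z0 : Fin k → Fin k) (hx : ∀ i, x (e i) = e (x0 i)) (hy : ∀ i, y (e i) = e (y0 i))
    (h : (∀ i, z0 (z0 i) = i) ∧ (#{i | z0 i ≠ i} = #{i | x0 i ≠ i}) ∧
      (∀ i, (x0 ∘ z0)^[105] i = i) ∧ (∀ i, (y0 ∘ z0)^[105] i = i)) :
    Sol (univ.image e) x y := by
  obtain ⟨h1, h2, h3, h4⟩ := h
  classical
  set z : α → α := fun u => if h : ∃ i, e i = u then e (z0 h.choose) else u with hz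
  have ze : ∀ i, z (e i) = e (z0 i) := fun i => by
    have h : ∃ j, e j = e i := ⟨i, rfl⟩
    rw [hz]; simp only [dif_pos h]
    rw [he h.choose_spec]
  have hm : ∀ u, u ∈ univ.image e ↔ ∃ i, e i = u := fun u => by simp
  refine ⟨z, fun u => ?_, fun u hu => ?_, ?_, ⟨105, by decide, fun u hu => ?_⟩,
    ⟨105, by decide, fun u hu => ?_⟩⟩
  · by_cases h : ∃ i, e i = u
    · obtain ⟨i, rfl⟩ := h; rw [ze, ze, h1]
    · have : z u = u := by rw [hz]; simp only [dif_neg h]
      rw [this, this]
  · rw [hm] at hu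
    rw [hz]; simp only [dif_neg hu]
  · simp only [cnt]
    rw [filter_image, filter_image, card_image_of_injective _ he, card_image_of_injective _ he]
    simpa [ze, hx, he.eq_iff] using h2
  · obtain ⟨i, rfl⟩ := (hm u).1 hu
    have := (Function.Semiconj.iterate_right (f := e) (ga := x0 ∘ z0) (gb := x ∘ z)
      (fun j => by simp [ze, hx]) 105) i
    rw [← this, h3]
  · obtain ⟨i, rfl⟩ := (hm u).1 hu
    have := (Function.Semiconj.iterate_right (f := e) (ga := y0 ∘ z0) (gb := y ∘ z)
      (fun j => by simp [ze, hy]) 105) i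
    rw [← this, h4]

/-- Removal of the pendant `a - x - b - y - c` with `y a = a`. -/
lemma pendant {S : Finset α} {x y : α → α} (hx : Inv S x) (hy : Inv S y)
    (hc : cnt S x = cnt S y) {a : α} (ha : a ∈ S) (hxa : x a ≠ a) (hya : y a = a)
    (hyb : y (x a) ≠ x a)
    (IH : ∀ T : Finset α, #T < #S → ∀ x' y' : α → α, Inv T x' → Inv T y' →
      cnt T x' = cnt T y' → Sol T x' y' ∨ Sq T x' y') :
    Sol S x y := by
  set b := x a with hb
  set c := y b with hcdef
  have hbS : b ∈ S := (hx a ha).1
  have hcS : c ∈ S := (hy b hbS).1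
  have hxb : x b = a := (hx a ha).2
  have hyc : y c = b := (hy b hbS).2
  have hca : c ≠ a := by intro h; rw [h] at hyc; rw [hya] at hyc; exact hxa hyc.symm
  set T := (S.erase a).erase b with hT
  have memT : ∀ u, u ∈ T ↔ u ∈ S ∧ u ≠ a ∧ u ≠ b := fun u => by simp [hT]; tauto
  have hST : S = insert a (insert b T) := by
    ext u; simp only [mem_insert, memT]
    constructor
    · intro h; tauto
    · rintro (rfl | rfl | h)
      exacts [ha, hbS, h.1]
  have hcT : c ∈ T := (memT c).2 ⟨hcS, hca, hyb⟩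
  set y' := Function.update y c c with hy'
  have hxT : Inv T x := fun u hu => by
    obtain ⟨h1, h2, h3⟩ := (memT u).1 hu
    refine ⟨(memT _).2 ⟨(hx u h1).1, fun h => ?_, fun h => ?_⟩, (hx u h1).2⟩
    · exact h3 (by rw [← (hx u h1).2, h])
    · exact h2 (by rw [← (hx u h1).2, h, hxb])
  have y'u : ∀ u, u ≠ c → y' u = y u := fun u hu => Function.update_of_ne hu _ _
  have y'c : y' c = c := Function.update_self _ _ _
  have hyT : Inv T y' := fun u hu => by
    obtain ⟨h1, h2, h3⟩ := (memT u).1 hu
    by_cases huc : u = c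
    · subst huc; rw [y'c]; exact ⟨hu, y'c⟩
    · rw [y'u u huc]
      have hne : y u ≠ c := fun h => h3 (by rw [← (hy u h1).2, h, hyc])
      refine ⟨(memT _).2 ⟨(hy u h1).1, fun h => ?_, fun h => ?_⟩, ?_⟩
      · exact h2 (by rw [← (hy u h1).2, h, hya])
      · exact huc (by rw [← (hy u h1).2, h])
      · rw [y'u _ hne, (hy u h1).2]
  have haT : a ∉ T := by simp [memT]
  have hbT : b ∉ T := by simp [memT]
  have habT : a ∉ insert b T := by simp [haT, Ne.symm hxa]
  have cx : cnt S x = cnt T x + 2 := by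
    have hbne : x b ≠ b := by rw [hxb]; exact Ne.symm hxa
    simp only [cnt]
    rw [hST, filter_insert, if_pos hxa, filter_insert, if_pos hbne,
      card_insert_of_notMem (by simp [haT, Ne.symm hxa]), card_insert_of_notMem (by simp [hbT])]
  have cy : cnt S y = cnt T y' + 2 := by
    simp only [cnt]
    rw [hST, filter_insert, if_neg (by simp [hya]), filter_insert, if_pos hyb,
      card_insert_of_notMem (by simp [hbT])]
    have : ({u ∈ T | y u ≠ u} : Finset α) = insert c {u ∈ T | y' u ≠ u} := by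
      ext u
      simp only [mem_filter, mem_insert]
      by_cases huc : u = c
      · subst huc
        simp [hcT, hyc, Ne.symm hyb]
      · simp [huc, y'u u huc]
    rw [this, card_insert_of_notMem (by simp [y'c])]
  have hlt : #T < #S := card_lt_card ((erase_subset _ _).trans_ssubset (erase_ssubset ha))
  rcases IH T hlt x y' hxT hyT (by omega) with ⟨z, hz, hzo, hzc, hz1, hz2⟩ | hsq
  swap
  · exact absurd y'c (hsq.2 c hcT).2.1
  have za : z a = a := hzo a haT
  have zb : z b = b := hzo b hbT
  have zT : ∀ u ∈ T, z u ∈ T := fun u hu => by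
    by_contra hh
    have h' := hzo _ hh
    rw [hz] at h'
    exact hh (h' ▸ hu)
  set r : α → α := fun u => if u = a then b else if u = b then a else z u with hr
  have ra : r a = b := by simp [hr]
  have rb : r b = a := by simp [hr, show b ≠ a from hxa]
  have ro : ∀ u, u ≠ a → u ≠ b → r u = z u := fun u h1 h2 => by simp [hr, h1, h2]
  have rT : ∀ u ∈ T, r u = z u := fun u hu => ro u ((memT u).1 hu).2.1 ((memT u).1 hu).2.2
  refine ⟨r, fun u => ?_, fun u hu => ?_, ?_, ?_, ?_⟩
  · by_cases h1 : u = a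
    · rw [h1, ra, rb]
    by_cases h2 : u = b
    · rw [h2, rb, ra]
    rw [ro u h1 h2, ro _ (fun h => h1 (by rw [← hz u, h, za]))
      (fun h => h2 (by rw [← hz u, h, zb])), hz]
  · have h1 : u ≠ a := fun h => hu (h ▸ ha)
    have h2 : u ≠ b := fun h => hu (h ▸ hbS)
    rw [ro u h1 h2, hzo u (fun h => hu ((memT u).1 h).1)]
  · have : cnt S r = cnt T z + 2 := by
      simp only [cnt]
      rw [hST, filter_insert, if_pos (by rw [ra]; exact hxa), filter_insert,
        if_pos (by rw [rb]; exact Ne.symm hxa), card_insert_of_notMem (by simp [haT, Ne.symm hxa]),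
        card_insert_of_notMem (by simp [hbT]), filter_congr (fun u hu => by rw [rT u hu])]
    omega
  · have hfix : OddOn ({a, b} : Finset α) (x ∘ r) := by
      refine ⟨1, odd_one, fun u hu => ?_⟩
      simp only [mem_insert, mem_singleton] at hu
      rcases hu with rfl | rfl
      · simp [ra, hxb]
      · simp [rb, ← hb]
    have := oddOn_union hfix (oddOn_congr (fun u hu => (hxT _ (zT u hu)).1)
      (fun u hu => by simp [rT u hu]) hz1)
    rwa [show ({a, b} : Finset α) ∪ T = S by rw [hST]; simp [insert_union]] at this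
  · have hzcT : z c ∈ T := zT c hcT
    rw [hST, insert_comm]
    refine insert_two (f := y' ∘ z) (c := z c) (fun u hu => (hyT _ (zT u hu)).1) hz2 hbT haT
      hzcT ?_ ?_ ?_ ?_
    · simp [rT _ hzcT, hz, hyc]
    · simp [rb, hya]
    · simp [ra, ← hcdef, hz, y'c]
    · intro u hu hne
      simp only [Function.comp, rT u hu]
      rw [y'u]
      exact fun h => hne (by rw [← h, hz])

set_option maxHeartbeats 1000000 in
/-- Removal of `p - y - a - x - b - y - c - x - d - y - q`. -/
lemma middle {S : Finset α} {x y : α → α} (hx : Inv S x) (hy : Inv S y)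
    (hc : cnt S x = cnt S y) {a : α} (ha : a ∈ S) (hxa : x a ≠ a) (hya : y a ≠ a)
    (hyb : y (x a) ≠ x a) (hxc : x (y (x a)) ≠ y (x a))
    (hyd : y (x (y (x a))) ≠ x (y (x a)))
    (hm1 : y (x a) ≠ a) (hm2 : y a ≠ x (y (x a)))
    (IH : ∀ T : Finset α, #T < #S → ∀ x' y' : α → α, Inv T x' → Inv T y' →
      cnt T x' = cnt T y' → Sol T x' y' ∨ Sq T x' y') :
    Sol S x y := by
  set b := x a with hb
  set c := y b with hcdef
  set d := x c with hd
  set p := y a with hp
  set q := y d with hq
  have hbS : b ∈ S := (hx a ha).1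
  have hcS : c ∈ S := (hy b hbS).1
  have hdS : d ∈ S := (hx c hcS).1
  have hpS : p ∈ S := (hy a ha).1
  have hqS : q ∈ S := (hy d hdS).1
  have hxb : x b = a := (hx a ha).2
  have hyc : y c = b := (hy b hbS).2
  have hxd : x d = c := (hx c hcS).2
  have hyp : y p = a := (hy a ha).2
  have hyq : y q = d := (hy d hdS).2
  have hda : d ≠ a := fun h => hyb (show c = b by rw [← hxd, h])
  have hdb : d ≠ b := fun h => hm1 (by rw [← hxd, h, hxb])
  have hpb : p ≠ b := fun h => hm1 (show c = a by rw [hcdef, ← h, hyp])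
  have hpc : p ≠ c := fun h => hxa (show b = a by rw [← hyc, ← h, hyp])
  have hqa : q ≠ a := fun h => hm2 (show p = d by rw [hp, ← h, hyq])
  have hqb : q ≠ b := fun h => hxc (show d = c by rw [← hyq, h])
  have hqc : q ≠ c := fun h => hdb (by rw [← hyq, h, hyc])
  have hqp : q ≠ p := fun h => hda (by rw [← hyq, h, hyp])
  set T := (((S.erase a).erase b).erase c).erase d with hT
  have memT : ∀ u, u ∈ T ↔ u ∈ S ∧ u ≠ a ∧ u ≠ b ∧ u ≠ c ∧ u ≠ d := fun u => by
    simp [hT]; tauto
  have hST : S = insert a (insert b (insert c (insert d T))) := by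
    ext u; simp only [mem_insert, memT]
    constructor
    · intro h; tauto
    · rintro (rfl | rfl | rfl | rfl | h)
      exacts [ha, hbS, hcS, hdS, h.1]
  have hpT : p ∈ T := (memT p).2 ⟨hpS, hya, hpb, hpc, hm2⟩
  have hqT : q ∈ T := (memT q).2 ⟨hqS, hqa, hqb, hqc, hyd⟩
  set y' := Function.update (Function.update y p q) q p with hy'
  have y'q : y' q = p := Function.update_self _ _ _
  have y'p : y' p = q := by rw [hy', Function.update_of_ne hqp.symm, Function.update_self]
  have y'u : ∀ u, u ≠ p → u ≠ q → y' u = y u := fun u h1 h2 => by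
    rw [hy', Function.update_of_ne h2, Function.update_of_ne h1]
  have haT : a ∉ T := by simp [memT]
  have hbT : b ∉ T := by simp [memT]
  have hcT : c ∉ T := by simp [memT]
  have hdT : d ∉ T := by simp [memT]
  have hxT : Inv T x := fun u hu => by
    obtain ⟨h1, h2, h3, h4, h5⟩ := (memT u).1 hu
    refine ⟨(memT _).2 ⟨(hx u h1).1, fun h => h3 (by rw [← (hx u h1).2, h]),
      fun h => h2 (by rw [← (hx u h1).2, h, hxb]),
      fun h => h5 (by rw [← (hx u h1).2, h]),
      fun h => h4 (by rw [← (hx u h1).2, h, hxd])⟩, (hx u h1).2⟩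
  have hyT : Inv T y' := fun u hu => by
    obtain ⟨h1, h2, h3, h4, h5⟩ := (memT u).1 hu
    by_cases hup : u = p
    · rw [hup, y'p, y'q]; exact ⟨hqT, rfl⟩
    by_cases huq : u = q
    · rw [huq, y'q, y'p]; exact ⟨hpT, rfl⟩
    rw [y'u u hup huq]
    have n1 : y u ≠ p := fun h => h2 (by rw [← (hy u h1).2, h, hyp])
    have n2 : y u ≠ q := fun h => h5 (by rw [← (hy u h1).2, h, hyq])
    refine ⟨(memT _).2 ⟨(hy u h1).1, fun h => hup (by rw [← (hy u h1).2, h]),
      fun h => h4 (by rw [← (hy u h1).2, h]),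
      fun h => h3 (by rw [← (hy u h1).2, h, hyc]),
      fun h => huq (by rw [← (hy u h1).2, h])⟩, ?_⟩
    rw [y'u _ n1 n2, (hy u h1).2]
  have card4 : ∀ (w : α → α), w a ≠ a → w b ≠ b → w c ≠ c → w d ≠ d →
      cnt S w = cnt T w + 4 := by
    intro w h1 h2 h3 h4
    simp only [cnt]
    rw [hST, filter_insert, if_pos h1, filter_insert, if_pos h2, filter_insert, if_pos h3,
      filter_insert, if_pos h4, card_insert_of_notMem, card_insert_of_notMem,
      card_insert_of_notMem, card_insert_of_notMem]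
    all_goals simp [haT, hbT, hcT, hdT, Ne.symm hxa, Ne.symm hm1, hda.symm, hyb.symm, hdb.symm,
      hxc.symm]
  have cx : cnt S x = cnt T x + 4 := card4 x hxa (by rw [hxb]; exact hxa.symm)
    (by rw [← hd]; exact hxc) (by rw [hxd]; exact hxc.symm)
  have cy : cnt S y = cnt T y' + 4 := by
    rw [card4 y hya (by rw [← hcdef]; exact hyb) (by rw [hyc]; exact hyb.symm)
      (by rw [← hq]; exact hyd)]
    simp only [cnt]
    congr 2
    refine filter_congr (fun u hu => ?_)
    by_cases hup : u = p
    · subst hup; simp [y'p, hyp, hya.symm, hqp]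
    by_cases huq : u = q
    · subst huq; simp [y'q, hyq, hyd.symm, hqp.symm]
    rw [y'u u hup huq]
  have hlt : #T < #S := card_lt_card
    (((erase_subset _ _).trans ((erase_subset _ _).trans (erase_subset _ _))).trans_ssubset
      (erase_ssubset ha))
  rcases IH T hlt x y' hxT hyT (by omega) with ⟨z, hz, hzo, hzc, hz1, hz2⟩ | hsq
  · have zT : ∀ u ∈ T, z u ∈ T := fun u hu => by
      by_contra hh
      have h' := hzo _ hh
      rw [hz] at h'
      exact hh (h' ▸ hu)
    set r : α → α := fun u => if u = a then b else if u = b then a else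
      if u = c then d else if u = d then c else z u with hr
    have ra : r a = b := by simp [hr]
    have rb : r b = a := by simp [hr, show b ≠ a from hxa]
    have rc : r c = d := by simp [hr, show c ≠ a from hm1, show c ≠ b from hyb]
    have rd : r d = c := by simp [hr, hda, hdb, show d ≠ c from hxc]
    have ro : ∀ u, u ≠ a → u ≠ b → u ≠ c → u ≠ d → r u = z u := fun u h1 h2 h3 h4 => by
      simp [hr, h1, h2, h3, h4]
    have rT : ∀ u ∈ T, r u = z u := fun u hu => by
      obtain ⟨-, h2, h3, h4, h5⟩ := (memT u).1 hu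
      exact ro u h2 h3 h4 h5
    refine ⟨r, fun u => ?_, fun u hu => ?_, ?_, ?_, ?_⟩
    · by_cases h1 : u = a
      · rw [h1, ra, rb]
      by_cases h2 : u = b
      · rw [h2, rb, ra]
      by_cases h3 : u = c
      · rw [h3, rc, rd]
      by_cases h4 : u = d
      · rw [h4, rd, rc]
      rw [ro u h1 h2 h3 h4, ro _ (fun h => h1 (by rw [← hz u, h, hzo a haT]))
        (fun h => h2 (by rw [← hz u, h, hzo b hbT]))
        (fun h => h3 (by rw [← hz u, h, hzo c hcT]))
        (fun h => h4 (by rw [← hz u, h, hzo d hdT])), hz]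
    · rw [ro u (fun h => hu (h ▸ ha)) (fun h => hu (h ▸ hbS)) (fun h => hu (h ▸ hcS))
        (fun h => hu (h ▸ hdS)), hzo u (fun h => hu ((memT u).1 h).1)]
    · have := card4 r (by rw [ra]; exact hxa) (by rw [rb]; exact hxa.symm)
        (by rw [rc]; exact hxc) (by rw [rd]; exact hxc.symm)
      have h' : cnt T r = cnt T z := by
        simp only [cnt]; rw [filter_congr (fun u hu => by rw [rT u hu])]
      omega
    · have hfix : OddOn ({a, b, c, d} : Finset α) (x ∘ r) := by
        refine ⟨1, odd_one, fun u hu => ?_⟩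
        simp only [mem_insert, mem_singleton] at hu
        rcases hu with rfl | rfl | rfl | rfl
        · simp [ra, hxb]
        · simp [rb, ← hb]
        · simp [rc, hxd]
        · simp [rd, ← hd]
      have := oddOn_union hfix (oddOn_congr (fun u hu => (hxT _ (zT u hu)).1)
        (fun u hu => by simp [rT u hu]) hz1)
      rwa [show ({a, b, c, d} : Finset α) ∪ T = S by rw [hST]; simp [insert_union]] at this
    · have hp' : z p ∈ T := zT p hpT
      have hq' : z q ∈ T := zT q hqT
      set g1 : α → α := fun u => if u = z p then a else if u = a then c else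
        if u = c then (y' ∘ z) (z p) else (y' ∘ z) u with hg1
      have hg1T : ∀ u ∈ T, u ≠ z p → g1 u = y' (z u) := fun u hu hne => by
        obtain ⟨-, h2, h3, h4, h5⟩ := (memT u).1 hu
        simp [hg1, hne, h2, h4]
      have hane : a ≠ z p := fun h => haT (h ▸ hp')
      have hcne : c ≠ z p := fun h => hcT (h ▸ hp')
      have hga : g1 a = c := by simp [hg1, hane]
      have hgc : g1 c = q := by simp [hg1, hcne, show c ≠ a from hm1, hz, y'p]
      have hgp : g1 (z p) = a := by simp [hg1]
      have h1 : OddOn (insert a (insert c T)) g1 := insert_two (f := y' ∘ z) (c := z p)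
        (fun u hu => (hyT _ (zT u hu)).1) hz2 haT hcT hp' hgp hga
        (by rw [hgc]; simp [hz, y'p]) (fun u hu hne => hg1T u hu hne)
      have hg1m : ∀ u ∈ insert a (insert c T), g1 u ∈ insert a (insert c T) := by
        intro u hu
        simp only [mem_insert] at hu ⊢
        rcases hu with rfl | rfl | hu
        · simp [hga]
        · rw [hgc]; exact Or.inr (Or.inr hqT)
        · by_cases hne : u = z p
          · rw [hne, hgp]; simp
          · rw [hg1T u hu hne]; exact Or.inr (Or.inr (hyT _ (zT u hu)).1)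
      have hqp' : z q ≠ z p := fun h => hqp (by rw [← hz q, h, hz])
      have h2 : OddOn (insert d (insert b (insert a (insert c T)))) (y ∘ r) := by
        refine insert_two (f := g1) (c := z q) hg1m h1 ?_ ?_ (by simp [hq']) ?_ ?_ ?_ ?_
        · simp [hdT, hda, show d ≠ c from hxc]
        · simp [hbT, show b ≠ a from hxa, Ne.symm (show c ≠ b from hyb)]
        · simp [rT _ hq', hz, hyq]
        · simp [rd, hyc]
        · simp [rb, ← hp, hg1T _ hq' hqp', hz, y'q]
        · intro u hu hne
          simp only [mem_insert] at hu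
          rcases hu with rfl | rfl | hu
          · simp [hga, ra, ← hcdef]
          · simp [hgc, rc, ← hq]
          · by_cases hne' : u = z p
            · subst hne'; simp [hgp, rT _ hp', hz, hyp]
            · rw [hg1T u hu hne']
              simp only [Function.comp, rT u hu]
              exact (y'u _ (fun h => hne' (by rw [← h, hz]))
                (fun h => hne (by rw [← h, hz]))).symm
      rwa [show insert d (insert b (insert a (insert c T))) = S by
        rw [hST]; ext u; simp only [mem_insert]; tauto] at h2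
  · -- an octagon
    obtain ⟨hcard, hall⟩ := hsq
    set s := x p with hs
    set t := x q with ht
    have hsT : s ∈ T := (hxT p hpT).1
    have htT : t ∈ T := (hxT q hqT).1
    have hsp : s ≠ p := (hall p hpT).1
    have htq : t ≠ q := (hall q hqT).1
    have hxs : x s = p := (hxT p hpT).2
    have hxt : x t = q := (hxT q hqT).2
    have hsq' : s ≠ q := fun h => (hall p hpT).2.2 (by rw [y'p, ← hs, h])
    have htp : t ≠ p := fun h => (hall q hqT).2.2 (by rw [y'q, ← ht, h])
    have hst : s ≠ t := fun h => hqp (by rw [← hxt, ← h, hxs])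
    have hTeq : T = {p, q, s, t} := by
      symm
      apply eq_of_subset_of_card_le
      · simp [insert_subset_iff, hpT, hqT, hsT, htT]
      · rw [hcard, card_insert_of_notMem, card_insert_of_notMem, card_pair hst]
        · simp [hsq'.symm, htq.symm]
        · simp [hqp.symm, hsp.symm, htp.symm]
    have hys : y s = t := by
      have hm := (hyT s hsT).1
      rw [hTeq] at hm
      simp only [mem_insert, mem_singleton] at hm
      rw [← y'u s hsp hsq']
      rcases hm with h | h | h | h
      · exact absurd (by rw [← (hyT s hsT).2, h, y'p]) hsq'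
      · exact absurd (by rw [← (hyT s hsT).2, h, y'q]) hsp
      · exact absurd h (hall s hsT).2.1
      · exact h
    have hyt : y t = s := by rw [← hys]; exact (hy s ((memT s).1 hsT).1).2
    have hTnot : ∀ u ∈ T, u ≠ a ∧ u ≠ b ∧ u ≠ c ∧ u ≠ d := fun u hu => ((memT u).1 hu).2
    obtain ⟨p1, p2, p3, p4⟩ := hTnot p hpT
    obtain ⟨q1, q2, q3, q4⟩ := hTnot q hqT
    obtain ⟨s1, s2, s3, s4⟩ := hTnot s hsT
    obtain ⟨t1, t2, t3, t4⟩ := hTnot t htT
    have he : Function.Injective ![a, b, c, d, q, t, s, p] := by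
      have nd : [a, b, c, d, q, t, s, p].Nodup := by
        simp [hxa.symm, Ne.symm hm1, hda.symm, hqa.symm, t1.symm, s1.symm, p1.symm,
          Ne.symm (show c ≠ b from hyb), hdb.symm, hqb.symm, t2.symm, s2.symm, p2.symm,
          Ne.symm (show d ≠ c from hxc), hqc.symm, t3.symm, s3.symm, p3.symm,
          Ne.symm q4, t4.symm, s4.symm, p4.symm, htq.symm, hsq'.symm, hqp, hst.symm, htp, hsp]
      rw [← List.nodup_ofFn]
      simpa [List.ofFn_succ] using nd
    have hsol := sol_of_emb (x := x) (y := y) he ![1, 0, 3, 2, 5, 4, 7, 6]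
      ![7, 2, 1, 4, 3, 6, 5, 0] ![1, 0, 6, 4, 3, 7, 2, 5]
      (by intro i; fin_cases i <;> simp [← hb, hxb, ← hd, hxd, ← ht, hxt, hxs, ← hs])
      (by intro i; fin_cases i <;> simp [← hp, ← hcdef, hyc, ← hq, hyq, hys, hyt, hyp])
      (by decide +kernel)
    rwa [show (univ : Finset (Fin 8)).image ![a, b, c, d, q, t, s, p] = S by
      rw [hST, hTeq]; ext u
      simp [Fin.exists_fin_succ, eq_comm]
      tauto] at hsol

lemma inv_sdiff {S P : Finset α} {x : α → α} (hx : Inv S x) (hP : Inv P x) :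
    Inv (S \ P) x := fun u hu => by
  rw [mem_sdiff] at hu ⊢
  exact ⟨⟨(hx u hu.1).1, fun h => hu.2 (by rw [← (hx u hu.1).2]; exact (hP _ h).1)⟩, (hx u hu.1).2⟩

lemma inv_union {S T : Finset α} {x : α → α} (h1 : Inv S x) (h2 : Inv T x) :
    Inv (S ∪ T) x := fun u hu => by
  rcases mem_union.1 hu with h | h
  · exact ⟨mem_union_left _ (h1 u h).1, (h1 u h).2⟩
  · exact ⟨mem_union_right _ (h2 u h).1, (h2 u h).2⟩

lemma inv_image {k : ℕ} {e : Fin k → α} {x : α → α} (x0 : Fin k → Fin k)
    (h0 : ∀ i, x0 (x0 i) = i) (hx : ∀ i, x (e i) = e (x0 i)) : Inv (univ.image e) x := fun u hu => by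
  obtain ⟨i, -, rfl⟩ := mem_image.1 hu
  exact ⟨by simp [hx], by rw [hx, hx, h0]⟩

lemma cnt_image {k : ℕ} {e : Fin k → α} (he : Function.Injective e) {x : α → α}
    (x0 : Fin k → Fin k) (hx : ∀ i, x (e i) = e (x0 i)) :
    cnt (univ.image e) x = #{i | x0 i ≠ i} := by
  simp only [cnt]
  rw [filter_image, card_image_of_injective _ he]
  simp [hx, he.eq_iff]

def app {m k : ℕ} (x0 : Fin m → Fin m) (x1 : Fin k → Fin k) : Fin (m + k) → Fin (m + k) :=
  Fin.append (fun i => Fin.castAdd k (x0 i)) (fun j => Fin.natAdd m (x1 j))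

lemma append_spec {m k : ℕ} {f : Fin m → α} {e : Fin k → α} {x : α → α} {x0 : Fin m → Fin m}
    {x1 : Fin k → Fin k} (h0 : ∀ i, x (f i) = f (x0 i)) (h1 : ∀ i, x (e i) = e (x1 i))
    (i : Fin (m + k)) : x (Fin.append f e i) = Fin.append f e (app x0 x1 i) := by
  induction i using Fin.addCases with
  | left i => simp [app, h0]
  | right i => simp [app, h1]

lemma image_append {m k : ℕ} (f : Fin m → α) (e : Fin k → α) :
    univ.image (Fin.append f e) = univ.image f ∪ univ.image e := by
  ext u
  simp only [mem_image, mem_univ, true_and, mem_union]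
  constructor
  · rintro ⟨i, rfl⟩
    induction i using Fin.addCases with
    | left i => exact Or.inl ⟨i, by simp⟩
    | right i => exact Or.inr ⟨i, by simp⟩
  · rintro (⟨i, rfl⟩ | ⟨i, rfl⟩)
    · exact ⟨Fin.castAdd k i, by simp⟩
    · exact ⟨Fin.natAdd m i, by simp⟩

lemma append_inj {m k : ℕ} {f : Fin m → α} {e : Fin k → α} (hf : Function.Injective f)
    (he : Function.Injective e) (hd : Disjoint (univ.image f) (univ.image e)) :
    Function.Injective (Fin.append f e) := by
  have hne : ∀ i j, f i ≠ e j := fun i j h =>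
    disjoint_left.1 hd (by simp : f i ∈ univ.image f) (by simp [h])
  intro i j hij
  induction i using Fin.addCases with
  | left i =>
    induction j using Fin.addCases with
    | left j => simp only [Fin.append_left] at hij; rw [hf hij]
    | right j => simp only [Fin.append_left, Fin.append_right] at hij; exact absurd hij (hne i j)
  | right i =>
    induction j using Fin.addCases with
    | left j =>
      simp only [Fin.append_left, Fin.append_right] at hij; exact absurd hij.symm (hne j i)
    | right j => simp only [Fin.append_right] at hij; rw [he hij]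

/-- The labelling of a square. -/
lemma square_emb {S : Finset α} {x y : α → α} (hx : Inv S x) (hy : Inv S y) {a : α} (ha : a ∈ S)
    (hxa : x a ≠ a) (hya : y a ≠ a) (hne : y (x a) ≠ a) (hsq : y a = x (y (x a))) :
    ∃ f : Fin 4 → α, Function.Injective f ∧ a ∈ univ.image f ∧ univ.image f ⊆ S ∧
      (∀ i, x (f i) = f (![1, 0, 3, 2] i)) ∧ (∀ i, y (f i) = f (![3, 2, 1, 0] i)) := by
  set b := x a with hb
  set c := y b with hc
  set d := x c with hd
  have hbS : b ∈ S := (hx a ha).1
  have hcS : c ∈ S := (hy b hbS).1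
  have hdS : d ∈ S := (hx c hcS).1
  have hxb : x b = a := (hx a ha).2
  have hyc : y c = b := (hy b hbS).2
  have hxd : x d = c := (hx c hcS).2
  have hyd : y d = a := by rw [← hsq]; exact (hy a ha).2
  have hda : d ≠ a := fun h => hya (by rw [hsq, h])
  have hdb : d ≠ b := fun h => hne (by rw [← hxd, h, hxb])
  have hcb : c ≠ b := fun h => hda (show d = a by rw [hd, h, hxb])
  have hcd : c ≠ d := fun h => hxa (show b = a by rw [← hyc, h, hyd])
  refine ⟨![a, b, c, d], ?_, ?_, ?_, ?_, ?_⟩
  · rw [← List.nodup_ofFn]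
    simp [List.ofFn_succ, hxa.symm, Ne.symm hne, hda.symm, hcb.symm, hdb.symm, hcd]
  · simp [Fin.exists_fin_succ]
  · intro u hu
    simp [Fin.exists_fin_succ] at hu
    rcases hu with rfl | rfl | rfl | rfl <;> assumption
  · intro i; fin_cases i <;> simp [← hb, hxb, ← hd, hxd]
  · intro i; fin_cases i <;> simp [hsq, ← hc, hyc, hyd]

lemma Sq.emb {Q : Finset α} {x y : α → α} (hx : Inv Q x) (hy : Inv Q y) (h : Sq Q x y) :
    ∃ f : Fin 4 → α, Function.Injective f ∧ univ.image f = Q ∧
      (∀ i, x (f i) = f (![1, 0, 3, 2] i)) ∧ (∀ i, y (f i) = f (![3, 2, 1, 0] i)) := by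
  obtain ⟨hc, h⟩ := h
  obtain ⟨a, ha⟩ := card_pos.1 (by omega : 0 < #Q)
  obtain ⟨h1, h2, h3⟩ := h a ha
  have hbQ := (hx a ha).1
  have hne : y (x a) ≠ a := fun e => h3 (by rw [← (hy _ hbQ).2, e])
  have hsq : y a = x (y (x a)) := by
    set b := x a with hb
    set c := y b with hcc
    have hcQ : c ∈ Q := (hy b hbQ).1
    have hdQ := (hx c hcQ).1
    have hxb : x b = a := (hx a ha).2
    have hcb : c ≠ b := (h b hbQ).2.1
    have hsub : ({a, b, c, x c} : Finset α) = Q := by
      apply eq_of_subset_of_card_le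
      · simp [insert_subset_iff, ha, hbQ, hcQ, hdQ]
      · have e1 : a ≠ x c := fun e => hcb (by rw [← (hx c hcQ).2, ← e])
        have e2 : b ≠ x c := fun e => hne (show c = a by rw [← (hx c hcQ).2, ← e, hxb])
        rw [hc, card_insert_of_notMem, card_insert_of_notMem, card_pair (h c hcQ).1.symm]
        · simp [hcb.symm, e2]
        · simp [h1.symm, Ne.symm hne, e1]
    have hp := (hy a ha).1
    rw [← hsub] at hp
    simp only [mem_insert, mem_singleton] at hp
    rcases hp with e | e | e | e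
    · exact absurd e h2
    · exact absurd e.symm h3
    · exact absurd (by rw [← (hy a ha).2, e, hcc, (hy b hbQ).2]) h1
    · exact e
  obtain ⟨f, hf, -, hsub, hfx, hfy⟩ := square_emb hx hy ha h1 h2 hne hsq
  refine ⟨f, hf, eq_of_subset_of_card_le hsub ?_, hfx, hfy⟩
  rw [card_image_of_injective _ hf, hc]; simp

/-- Split off a small invariant piece. -/
lemma piece {k : ℕ} {S : Finset α} {x y : α → α} (hx : Inv S x) (hy : Inv S y)
    (hc : cnt S x = cnt S y)
    (IH : ∀ T : Finset α, #T < #S → ∀ x' y' : α → α, Inv T x' → Inv T y' →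
      cnt T x' = cnt T y' → Sol T x' y' ∨ Sq T x' y')
    {e : Fin k → α} (he : Function.Injective e) (heS : univ.image e ⊆ S)
    (x1 y1 z1 z2 : _) (hx1 : ∀ i, x (e i) = e (x1 i)) (hy1 : ∀ i, y (e i) = e (y1 i))
    (hk : 0 < k ∧ (∀ i, x1 (x1 i) = i) ∧ (∀ i, y1 (y1 i) = i) ∧
      #{i | x1 i ≠ i} = #{i | y1 i ≠ i})
    (h1 : (∀ i : Fin k, z1 (z1 i) = i) ∧ (#{i | z1 i ≠ i} = #{i | x1 i ≠ i}) ∧
      (∀ i, (x1 ∘ z1)^[105] i = i) ∧ (∀ i, (y1 ∘ z1)^[105] i = i))
    (h2 : (∀ i : Fin (4 + k), z2 (z2 i) = i) ∧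
      (#{i | z2 i ≠ i} = #{i | app ![1, 0, 3, 2] x1 i ≠ i}) ∧
      (∀ i, (app ![1, 0, 3, 2] x1 ∘ z2)^[105] i = i) ∧
      (∀ i, (app ![3, 2, 1, 0] y1 ∘ z2)^[105] i = i)) :
    Sol S x y := by
  obtain ⟨hk0, hxi, hyi, hcnt⟩ := hk
  set P := univ.image e with hP
  have hPx : Inv P x := inv_image x1 hxi hx1
  have hPy : Inv P y := inv_image y1 hyi hy1
  have hQx := inv_sdiff hx hPx
  have hQy := inv_sdiff hy hPy
  have hadd : ∀ w : α → α, cnt S w = cnt (S \ P) w + cnt P w := fun w => by
    simp only [cnt]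
    rw [← card_union_of_disjoint (disjoint_filter_filter sdiff_disjoint), ← filter_union,
      sdiff_union_of_subset heS]
  have hlt : #(S \ P) < #S := by
    rw [card_sdiff_of_subset heS, hP, card_image_of_injective _ he]
    have := card_le_card heS
    rw [hP, card_image_of_injective _ he, card_univ, Fintype.card_fin] at this
    rw [card_univ, Fintype.card_fin]
    omega
  have hcQ : cnt (S \ P) x = cnt (S \ P) y := by
    have a1 := hadd x
    have a2 := hadd y
    rw [hP, cnt_image he x1 hx1, ← hP] at a1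
    rw [hP, cnt_image he y1 hy1, ← hP] at a2
    omega
  have hSP : S \ P ∪ P = S := sdiff_union_of_subset heS
  rw [← hSP]
  rcases IH _ hlt x y hQx hQy hcQ with hs | hs
  · exact Sol.glue sdiff_disjoint hQx hPx hQy hPy hs (sol_of_emb he x1 y1 z1 hx1 hy1 h1)
  · obtain ⟨f, hf, hfQ, hfx, hfy⟩ := hs.emb hQx hQy
    rw [← hfQ, hP, ← image_append]
    exact sol_of_emb (append_inj hf he (by rw [hfQ]; exact sdiff_disjoint)) _ _ z2
      (append_spec hfx hx1) (append_spec hfy hy1) h2

theorem sol_or_sq (S : Finset α) (x y : α → α) (hx : Inv S x) (hy : Inv S y)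
    (hc : cnt S x = cnt S y) : Sol S x y ∨ Sq S x y := by
  induction hn : #S using Nat.strong_induction_on generalizing S x y with
  | _ n ih =>
  subst hn
  have IH : ∀ T : Finset α, #T < #S → ∀ x' y' : α → α, Inv T x' → Inv T y' →
      cnt T x' = cnt T y' → Sol T x' y' ∨ Sq T x' y' :=
    fun T hT x' y' h1 h2 h3 => ih _ hT T x' y' h1 h2 h3 rfl
  rcases S.eq_empty_or_nonempty with rfl | hne
  · exact Or.inl ⟨id, fun _ => rfl, fun _ _ => rfl, by simp [cnt],
      ⟨1, odd_one, by simp⟩, ⟨1, odd_one, by simp⟩⟩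
  by_cases hP : ∃ a ∈ S, x a ≠ a ∧ y a = a ∧ y (x a) ≠ x a
  · obtain ⟨a, ha, h1, h2, h3⟩ := hP
    exact Or.inl (pendant hx hy hc ha h1 h2 h3 IH)
  by_cases hP' : ∃ a ∈ S, y a ≠ a ∧ x a = a ∧ x (y a) ≠ y a
  · obtain ⟨a, ha, h1, h2, h3⟩ := hP'
    exact Or.inl (Sol.symm hc.symm (pendant hy hx hc.symm ha h1 h2 h3 IH))
  push Not at hP hP'
  by_cases hiso : ∃ a ∈ S, x a = a ∧ y a = a
  · obtain ⟨a, ha, h1, h2⟩ := hiso
    exact Or.inl (piece hx hy hc IH (e := ![a]) (fun i j _ => Subsingleton.elim i j)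
      (by simp [ha]) ![0] ![0] ![0] ![4, 2, 1, 3, 0]
      (by intro i; fin_cases i; simp [h1]) (by intro i; fin_cases i; simp [h2])
      (by decide +kernel) (by decide +kernel) (by decide +kernel))
  push Not at hiso
  by_cases hdbl : ∃ a ∈ S, x a ≠ a ∧ y a = x a
  · obtain ⟨a, ha, h1, h2⟩ := hdbl
    have hb := (hx a ha).1
    have h3 : y (x a) = a := by rw [← h2, (hy a ha).2]
    exact Or.inl (piece hx hy hc IH (e := ![a, x a])
      (by rw [← List.nodup_ofFn]; simp [List.ofFn_succ, h1.symm])
      (by intro u hu; simp [Fin.exists_fin_succ] at hu; rcases hu with rfl | rfl <;> assumption)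
      ![1, 0] ![1, 0] ![1, 0] ![4, 3, 5, 1, 0, 2]
      (by intro i; fin_cases i <;> simp [(hx a ha).2]) (by intro i; fin_cases i <;> simp [h2, h3])
      (by decide +kernel) (by decide +kernel) (by decide +kernel))
  push Not at hdbl
  by_cases hone : ∃ a ∈ S, x a ≠ a ∧ y a = a
  · obtain ⟨a, ha, h1, h2⟩ := hone
    obtain ⟨q, hq, h4, h5⟩ : ∃ q ∈ S, y q ≠ q ∧ x q = q := by
      by_contra hno
      push Not at hno
      have hss : {u ∈ S | y u ≠ u} ⊆ {u ∈ S | x u ≠ u} := by
        intro u hu
        rw [mem_filter] at hu ⊢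
        exact ⟨hu.1, hno u hu.1 hu.2⟩
      have := eq_of_subset_of_card_le hss (by simp only [cnt] at hc; omega)
      have ha' : a ∈ {u ∈ S | x u ≠ u} := mem_filter.2 ⟨ha, h1⟩
      rw [← this, mem_filter] at ha'
      exact ha'.2 h2
    have h3 := hP a ha h1 h2
    have h6 := hP' q hq h4 h5
    have hb := (hx a ha).1
    have hr := (hy q hq).1
    have hxb := (hx a ha).2
    have hyr := (hy q hq).2
    have e1 : a ≠ q := fun h => h4 (h ▸ h2)
    have e2 : a ≠ y q := fun h => h1 (h.symm ▸ h6)
    have e3 : x a ≠ q := fun h => h4 (h ▸ h3)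
    have e4 : x a ≠ y q := fun h => h4 (by rw [← h, ← h3, h, hyr])
    exact Or.inl (piece hx hy hc IH (e := ![a, x a, q, y q])
      (by rw [← List.nodup_ofFn]; simp [List.ofFn_succ, h1.symm, h4.symm, e1, e2, e3, e4])
      (by intro u hu; simp [Fin.exists_fin_succ] at hu
          rcases hu with rfl | rfl | rfl | rfl <;> assumption)
      ![1, 0, 2, 3] ![0, 1, 3, 2] ![2, 1, 0, 3] ![7, 2, 1, 3, 6, 5, 4, 0]
      (by intro i; fin_cases i <;> simp [hxb, h5, h6])
      (by intro i; fin_cases i <;> simp [h2, h3, hyr])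
      (by decide +kernel) (by decide +kernel) (by decide +kernel))
  push Not at hone
  have hboth : ∀ u ∈ S, x u ≠ u ∧ y u ≠ u := fun u hu => by
    by_cases h : x u = u
    · exfalso
      -- equal counts force every point to be moved by `x`
      have hall : {u ∈ S | x u ≠ u} ⊆ {u ∈ S | y u ≠ u} := fun v hv => by
        rw [mem_filter] at hv ⊢; exact ⟨hv.1, hone v hv.1 hv.2⟩
      have := eq_of_subset_of_card_le hall (by simp only [cnt] at hc; omega)
      have hu' : u ∈ {u ∈ S | y u ≠ u} := mem_filter.2 ⟨hu, hiso u hu h⟩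
      rw [← this, mem_filter] at hu'
      exact hu'.2 h
    · exact ⟨h, hone u hu h⟩
  by_cases hM : ∃ a ∈ S, y (x a) ≠ a ∧ y a ≠ x (y (x a))
  · obtain ⟨a, ha, h1, h2⟩ := hM
    have hb := (hx a ha).1
    have hc' := (hy _ hb).1
    have hd := (hx _ hc').1
    exact Or.inl (middle hx hy hc ha (hboth a ha).1 (hboth a ha).2 (hboth _ hb).2
      (hboth _ hc').1 (hboth _ hd).2 h1 h2 IH)
  push Not at hM
  have hne' : ∀ a ∈ S, y (x a) ≠ a := fun a ha e =>
    hdbl a ha (hboth a ha).1 (by rw [← (hy _ (hx a ha).1).2, e])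
  have sq : ∀ a ∈ S, y a = x (y (x a)) := fun a ha => hM a ha (hne' a ha)
  obtain ⟨a, ha⟩ := hne
  obtain ⟨f, hf, haf, hfS, hfx, hfy⟩ :=
    square_emb hx hy ha (hboth a ha).1 (hboth a ha).2 (hne' a ha) (sq a ha)
  by_cases h4 : #S = 4
  · exact Or.inr ⟨h4, fun s hs => ⟨(hboth s hs).1, (hboth s hs).2,
      fun e => hdbl s hs (hboth s hs).1 e.symm⟩⟩
  obtain ⟨a', ha'⟩ : (S \ univ.image f).Nonempty := by
    rw [sdiff_nonempty]
    intro h
    apply h4
    rw [subset_antisymm h hfS, card_image_of_injective _ hf]; simp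
  rw [mem_sdiff] at ha'
  have hQx := inv_sdiff hx (inv_image _ (by decide) hfx)
  have hQy := inv_sdiff hy (inv_image _ (by decide) hfy)
  obtain ⟨g, hg, -, hgS, hgx, hgy⟩ := square_emb hQx hQy (mem_sdiff.2 ha') (hboth a' ha'.1).1
    (hboth a' ha'.1).2 (hne' a' ha'.1) (sq a' ha'.1)
  exact Or.inl (piece hx hy hc IH
    (append_inj hf hg (disjoint_of_subset_right hgS disjoint_sdiff))
    (by rw [image_append]; exact union_subset hfS (hgS.trans sdiff_subset))
    _ _ ![1, 0, 4, 7, 2, 6, 5, 3] ![8, 10, 4, 7, 2, 6, 5, 3, 0, 11, 1, 9]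
    (append_spec hfx hgx) (append_spec hfy hgy)
    (by decide +kernel) (by decide +kernel) (by decide +kernel))

section Perm

open Equiv

lemma two_mul_cycleType {n : ℕ} {z : Perm (Fin n)} (hz : z ^ 2 = 1) :
    z.cycleType = Multiset.replicate (z.support.card / 2) 2 := by
  have h2 : ∀ m ∈ z.cycleType, m = 2 := fun m hm => by
    have h1 : m ∣ 2 := (Equiv.Perm.dvd_of_mem_cycleType hm).trans (orderOf_dvd_of_pow_eq_one hz)
    have h2 := Equiv.Perm.two_le_of_mem_cycleType hm
    have := Nat.le_of_dvd two_pos h1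
    omega
  have h := Multiset.eq_replicate_card.2 h2
  have hs := Equiv.Perm.sum_cycleType z
  rw [h] at hs ⊢
  simp only [Multiset.sum_replicate, smul_eq_mul] at hs
  congr 1
  omega

lemma isConj_of_card {n : ℕ} {z t : Perm (Fin n)} (hz : z ^ 2 = 1) (ht : t ^ 2 = 1)
    (h : z.support.card = t.support.card) : IsConj t z := by
  rw [Equiv.Perm.isConj_iff_cycleType_eq, two_mul_cycleType hz, two_mul_cycleType ht, h]

lemma exists_odd_both {n : ℕ} (hn : 5 ≤ n) {t : Perm (Fin n)} (ht : t ^ 2 = 1)
    {x y : Perm (Fin n)} (hx : IsConj t x) (hy : IsConj t y) :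
    ∃ z, IsConj t z ∧ Odd (orderOf (x * z)) ∧ Odd (orderOf (y * z)) := by
  have hsq : ∀ {w : Perm (Fin n)}, IsConj t w → w ^ 2 = 1 := fun {w} hw => by
    obtain ⟨c, rfl⟩ := isConj_iff.1 hw
    rw [conj_pow, ht, mul_one, mul_inv_cancel]
  have hinv : ∀ {w : Perm (Fin n)}, IsConj t w → Inv univ (⇑w) := fun {w} hw u _ => by
    refine ⟨mem_univ _, ?_⟩
    have := congrArg (fun f : Perm (Fin n) => f u) (hsq hw)
    simpa [pow_two] using this
  have hcnt : ∀ w : Perm (Fin n), cnt univ (⇑w) = w.support.card := fun w => rfl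
  have hcard : x.support.card = y.support.card := by
    have := Equiv.Perm.isConj_iff_cycleType_eq.1 (hx.symm.trans hy)
    rw [← Equiv.Perm.sum_cycleType, ← Equiv.Perm.sum_cycleType, this]
  rcases sol_or_sq univ x y (hinv hx) (hinv hy) (by rw [hcnt, hcnt, hcard]) with
    ⟨z, hz, -, hzc, ⟨N, hN, h1⟩, ⟨M, hM, h2⟩⟩ | hsq'
  swap
  · exact absurd hsq'.1 (by simp; omega)
  let Z : Perm (Fin n) := Function.Involutive.toPerm z hz
  have hZ : Z ^ 2 = 1 := Equiv.ext fun u => by
    show z (z u) = u
    exact hz u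
  refine ⟨Z, isConj_of_card hZ ht ?_, Odd.of_dvd_nat hN (orderOf_dvd_of_pow_eq_one ?_),
    Odd.of_dvd_nat hM (orderOf_dvd_of_pow_eq_one ?_)⟩
  · have h3 : Z.support.card = x.support.card := hzc
    have := Equiv.Perm.isConj_iff_cycleType_eq.1 hx
    rw [h3, ← Equiv.Perm.sum_cycleType, ← Equiv.Perm.sum_cycleType, this]
  · ext u
    rw [← Equiv.Perm.iterate_eq_pow]
    exact congrArg Fin.val (h1 u (mem_univ u))
  · ext u
    rw [← Equiv.Perm.iterate_eq_pow]
    exact congrArg Fin.val (h2 u (mem_univ u))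

lemma exists_commuting {n : ℕ} (hn : 5 ≤ n) {t : Perm (Fin n)} (ht : orderOf t = 2) :
    ∃ s, IsConj t s ∧ s ≠ t ∧ ¬ Odd (orderOf (t * s)) := by
  have ht2 : t ^ 2 = 1 := ht ▸ pow_orderOf_eq_one t
  have hinv : ∀ u, t (t u) = u := fun u => by
    simpa [pow_two] using congrArg (fun f : Perm (Fin n) => f u) ht2
  obtain ⟨a, ha⟩ : ∃ a, t a ≠ a := by
    by_contra h
    push Not at h
    rw [show t = 1 from Equiv.ext h, orderOf_one] at ht
    omega
  set b := t a with hb
  obtain ⟨g, hg1, hg2⟩ : ∃ g : Perm (Fin n), g * t * g⁻¹ ≠ t ∧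
      t * (g * t * g⁻¹) = (g * t * g⁻¹) * t := by
    by_cases h : ∃ c, c ≠ a ∧ c ≠ b ∧ t c ≠ c
    · obtain ⟨c, h1, h2, h3⟩ := h
      have hda : t c ≠ a := fun e => h2 (by rw [hb, ← e, hinv])
      have hdb : t c ≠ b := fun e => h1 (t.injective e)
      refine ⟨swap b c, fun e => ?_, ?_⟩
      · have := congrArg (fun f : Perm (Fin n) => f a) e
        simp only [Equiv.Perm.mul_apply, Equiv.swap_inv] at this
        rw [swap_apply_of_ne_of_ne ha.symm h1.symm, ← hb, swap_apply_left] at this
        exact h2 this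
      · set s : Perm (Fin n) := swap b c * t * (swap b c)⁻¹ with hs
        have htb : t b = a := by rw [hb, hinv]
        have sa : s a = c := by
          simp [hs, swap_apply_of_ne_of_ne ha.symm h1.symm, ← hb]
        have sc : s c = a := by
          simp [hs, htb, swap_apply_of_ne_of_ne ha.symm h1.symm]
        have sb : s b = t c := by simp [hs, swap_apply_of_ne_of_ne hdb h3]
        have sd : s (t c) = b := by simp [hs, swap_apply_of_ne_of_ne hdb h3, hinv]
        have so : ∀ u, u ≠ a → u ≠ b → u ≠ c → u ≠ t c → s u = t u := fun u k1 k2 k3 k4 => by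
          have e1 : t u ≠ b := fun e => k1 (t.injective e)
          have e2 : t u ≠ c := fun e => k4 (by rw [← e, hinv])
          simp [hs, swap_apply_of_ne_of_ne k2 k3, swap_apply_of_ne_of_ne e1 e2]
        refine Equiv.ext fun u => ?_
        simp only [Equiv.Perm.mul_apply]
        by_cases k1 : u = a
        · rw [k1, sa, ← hb, sb]
        by_cases k2 : u = b
        · rw [k2, sb, htb, sa, hinv]
        by_cases k3 : u = c
        · rw [k3, sc, sd]
        by_cases k4 : u = t c
        · rw [k4, sd, htb, hinv, sc]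
        · rw [so u k1 k2 k3 k4, so (t u) (fun e => k2 (by rw [hb, ← e, hinv]))
            (fun e => k1 (t.injective e)) (fun e => k4 (by rw [← e, hinv]))
            (fun e => k3 (t.injective e))]
    · push Not at h
      obtain ⟨c, hc, d, hd, hcd⟩ : ∃ c, (c ≠ a ∧ c ≠ b) ∧ ∃ d, (d ≠ a ∧ d ≠ b) ∧ c ≠ d := by
        have hcard : 2 ≤ #(univ \ ({a, b} : Finset (Fin n))) := by
          rw [card_sdiff_of_subset (subset_univ _), card_pair ha.symm]; simp; omega
        obtain ⟨c, hc, d, hd, hcd⟩ := one_lt_card.1 hcard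
        simp only [mem_sdiff, mem_insert, mem_singleton, not_or] at hc hd
        exact ⟨c, hc.2, d, hd.2, hcd⟩
      have hc' := h c hc.1 hc.2
      have hd' := h d hd.1 hd.2
      have hts : t = swap a b := by
        refine Equiv.ext fun u => ?_
        by_cases hua : u = a
        · rw [hua, swap_apply_left]
        by_cases hub : u = b
        · rw [hub, swap_apply_right, hb, hinv]
        · rw [swap_apply_of_ne_of_ne hua hub, h u hua hub]
      refine ⟨swap a c * swap b d, ?_⟩
      have e : (swap a c * swap b d) * t * (swap a c * swap b d)⁻¹ = swap c d := by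
        rw [hts, ← Equiv.swap_apply_apply]
        congr 1
        · simp [swap_apply_of_ne_of_ne ha.symm hd.1.symm]
        · simp [swap_apply_of_ne_of_ne hd.1 hcd.symm]
      rw [e, hts]
      refine ⟨fun e' => ?_, ?_⟩
      · have := congrArg (fun f : Perm (Fin n) => f c) e'
        simp [swap_apply_of_ne_of_ne hc.1 hc.2] at this
        exact hcd this.symm
      · refine (Equiv.Perm.Disjoint.commute fun u => ?_)
        by_cases hua : u = a
        · subst hua; exact Or.inr (swap_apply_of_ne_of_ne hc.1.symm hd.1.symm)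
        by_cases hub : u = b
        · subst hub; exact Or.inr (swap_apply_of_ne_of_ne hc.2.symm hd.2.symm)
        exact Or.inl (swap_apply_of_ne_of_ne hua hub)
  set s := g * t * g⁻¹ with hs
  have hconj : IsConj t s := isConj_iff.2 ⟨g, rfl⟩
  have hs2 : s ^ 2 = 1 := by rw [hs, conj_pow, ht2, mul_one, mul_inv_cancel]
  refine ⟨s, hconj, hg1, fun hodd => ?_⟩
  have hdvd : orderOf (t * s) ∣ 2 := by
    apply orderOf_dvd_of_pow_eq_one
    rw [(show Commute t s from hg2).mul_pow, ht2, hs2, one_mul]
  have h1 : orderOf (t * s) = 1 := by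
    rcases (Nat.dvd_prime Nat.prime_two).1 hdvd with h | h
    · exact h
    · rw [h] at hodd; exact absurd hodd (by decide)
  rw [orderOf_eq_one_iff] at h1
  apply hg1
  calc s = t * (t * s) := by rw [← mul_assoc, ← pow_two, ht2, one_mul]
    _ = t := by rw [h1, mul_one]

theorem odd_graph {n : ℕ} (hn : 5 ≤ n) (t : Perm (Fin n)) (ht : orderOf t = 2) :
    (SimpleGraph.fromRel fun x y : {x : Perm (Fin n) // IsConj t x} =>
        Odd (orderOf (x.1 * y.1))).Connected ∧
      (SimpleGraph.fromRel fun x y : {x : Perm (Fin n) // IsConj t x} =>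
        Odd (orderOf (x.1 * y.1))).diam = 2 := by
  set G := SimpleGraph.fromRel fun x y : {x : Perm (Fin n) // IsConj t x} =>
        Odd (orderOf (x.1 * y.1)) with hG
  have ht2 : t ^ 2 = 1 := ht ▸ pow_orderOf_eq_one t
  have hle : ∀ u v, G.edist u v ≤ 2 := by
    intro u v
    by_cases huv : u = v
    · subst huv; simp
    obtain ⟨z, hz, h1, h2⟩ := exists_odd_both hn ht2 u.2 v.2
    by_cases hzu : u.1 = z
    · have hadj : G.Adj u v := by
        rw [hG, SimpleGraph.fromRel_adj]
        exact ⟨huv, Or.inr (by rw [hzu]; exact h2)⟩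
      rw [SimpleGraph.edist_eq_one_iff_adj.2 hadj]; norm_num
    by_cases hzv : v.1 = z
    · have hadj : G.Adj u v := by
        rw [hG, SimpleGraph.fromRel_adj]
        exact ⟨huv, Or.inl (by rw [hzv]; exact h1)⟩
      rw [SimpleGraph.edist_eq_one_iff_adj.2 hadj]; norm_num
    have a1 : G.Adj u ⟨z, hz⟩ := by
      rw [hG, SimpleGraph.fromRel_adj]
      exact ⟨fun e => hzu (congrArg Subtype.val e), Or.inl h1⟩
    have a2 : G.Adj ⟨z, hz⟩ v := by
      rw [hG, SimpleGraph.fromRel_adj]
      exact ⟨fun e => hzv (congrArg Subtype.val e).symm, Or.inr h2⟩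
    exact SimpleGraph.edist_le (a1.toWalk.append a2.toWalk)
  have hed : G.ediam ≤ 2 := SimpleGraph.ediam_le_of_edist_le hle
  have hne : G.ediam ≠ ⊤ := fun h => by rw [h] at hed; exact absurd hed (by simp)
  haveI : Nonempty {x : Perm (Fin n) // IsConj t x} := ⟨⟨t, IsConj.refl t⟩⟩
  have hconn : G.Connected := by
    refine ⟨fun u v => ?_⟩
    exact SimpleGraph.reachable_of_edist_ne_top
      (fun h => by have := hle u v; rw [h] at this; exact absurd this (by simp))
  refine ⟨hconn, le_antisymm ?_ ?_⟩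
  · have := ENat.toNat_le_toNat hed (by simp)
    simpa [SimpleGraph.diam] using this
  · obtain ⟨s, hs, hst, hodd⟩ := exists_commuting hn ht
    let u : {x : Perm (Fin n) // IsConj t x} := ⟨t, IsConj.refl t⟩
    let v : {x : Perm (Fin n) // IsConj t x} := ⟨s, hs⟩
    refine le_trans ?_ (SimpleGraph.dist_le_diam hne (u := u) (v := v))
    by_contra hlt
    push Not at hlt
    have huv : u ≠ v := fun e => hst (congrArg Subtype.val e).symm
    have h0 := hconn.pos_dist_of_ne huv
    have h1 : G.Adj u v := SimpleGraph.dist_eq_one_iff_adj.1 (by omega)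
    rw [hG, SimpleGraph.fromRel_adj] at h1
    rcases h1.2 with h | h
    · exact hodd h
    · apply hodd
      have : orderOf (s * t) = orderOf (t * s) :=
        (SemiconjBy.orderOf_eq t (show t * (s * t) = (t * s) * t by group))
      rwa [this] at h

end Perm

end Cfsg.Agent.Invol.OddGraph
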