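import Mathlib
import Cfsg.Agent.Lib.Invol.Order7920Nse

/-!
A group with the commuting graph of M₁₁ is a simple group of order 7920.
-/

set_option autoImplicit false
set_option linter.style.haveILetI false

namespace Cfsg.Agent.Invol.M11Ord

open Cfsg.Agent.Char

universe u v

/-- A commutation-preserving bijection transports simplicity and order. -/
theorem isSimple_of_commuting {H : Type u} [Group H] [Finite H] {M : Type v} [Group M] [Finite M]
    [IsSimpleGroup M] (hM : Nat.card M = 7920) (f : {h : H // h ≠ 1} ≃ {g : M // g ≠ 1})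
    (hf : ∀ x y : {h : H // h ≠ 1}, (x : H) * y = y * x ↔ (f x : M) * f y = f y * f x) :
    Nat.card H = 7920 ∧ IsSimpleGroup H := by
  classical
  let F : H ≃ M := (Equiv.optionSubtypeNe (1 : H)).symm.trans
    ((Equiv.optionCongr f).trans (Equiv.optionSubtypeNe (1 : M)))
  have hF1 : F 1 = 1 := by simp [F]
  have hFne : ∀ (x : H) (hx : x ≠ 1), F x = (f ⟨x, hx⟩ : M) := fun x hx => by
    simp [F, Equiv.optionSubtypeNe_symm_of_ne hx]
  have hcom : ∀ x y : H, x * y = y * x ↔ F x * F y = F y * F x := by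
    intro x y
    rcases eq_or_ne x 1 with rfl | hx
    · simp [hF1]
    rcases eq_or_ne y 1 with rfl | hy
    · simp [hF1]
    rw [hFne x hx, hFne y hy]
    exact hf ⟨x, hx⟩ ⟨y, hy⟩
  have hH : Nat.card H = 7920 := (Nat.card_congr F).trans hM
  refine ⟨hH, ?_⟩
  haveI : Fact (Nat.Prime 11) := ⟨by norm_num⟩
  obtain ⟨x, hx, -⟩ := exists_eleven hM
  obtain ⟨h, rfl⟩ := F.surjective x
  have hh1 : h ≠ 1 := fun e => SCP.ne_one hx (by rw [e, hF1])
  have hcard : Nat.card (Subgroup.centralizer ({h} : Set H)) = 11 := by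
    rw [← SCP.card_P hx, show SCP.P (F h) = Subgroup.centralizer ({F h} : Set M) from hx.cent.symm]
    exact Nat.card_congr (F.subtypeEquiv fun y => by
      simp only [Subgroup.mem_centralizer_singleton_iff]
      exact hcom y h)
  have hhC : h ∈ Subgroup.centralizer ({h} : Set H) := Subgroup.mem_centralizer_singleton_iff.2 rfl
  have hord : orderOf h = 11 := by
    have h1 := Subgroup.orderOf_dvd_natCard _ hhC
    rw [hcard] at h1
    rcases (Nat.dvd_prime (by norm_num : Nat.Prime 11)).1 h1 with e | e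
    · exact absurd (orderOf_eq_one_iff.1 e) hh1
    · exact e
  have hHyp : SCP.Hyp 11 h := ⟨hord, (Subgroup.eq_of_le_of_card_ge (Subgroup.zpowers_le.2 hhC)
    (by rw [hcard, Nat.card_zpowers, hord])).symm⟩
  refine Fus.Order7920.main hH {11} ⟨11, rfl, by norm_num, by rw [hH]; norm_num⟩
    ⟨5, by decide, by norm_num, by rw [hH]; norm_num⟩ ?_
  rintro a rfl q hq - hqp - - ⟨g, hg⟩
  have hgq : orderOf (g ^ q) = 11 := by
    rw [orderOf_pow' g hqp.ne_zero, hg, Nat.gcd_mul_left_left, Nat.mul_div_cancel _ hqp.pos]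
  have hy := SCP.hyp_of_ord hHyp hgq
  have h1 := Subgroup.orderOf_dvd_natCard _ (show g ∈ SCP.P (g ^ q) from
    (by rw [SCP.P, ← hy.cent]; exact Subgroup.mem_centralizer_singleton_iff.2 ((Commute.refl g).pow_right q).eq))
  rw [SCP.card_P hy, hg] at h1
  have := Nat.le_of_dvd (by norm_num) h1
  have := hqp.two_le
  omega

end Cfsg.Agent.Invol.M11Ord
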