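import Cfsg.Prelude.Def_LocalStructure
import Cfsg.Agent.Lib.Grp.Cores
import Cfsg.Agent.Lib.Transfer.Residual

/-!
# `p`-closed groups and quotients by normal `p`-subgroups
-/

set_option autoImplicit false

namespace Cfsg.Agent.Invol

variable {G : Type*} [Group G] [Finite G] {p : ℕ} [Fact p.Prime]

/-- A normal `p`-subgroup does not affect being `p`-closed. -/
theorem pq_isPClosed_iff {G' : Type*} [Group G'] {f : G →* G'} (hf : Function.Surjective f)
    (hker : IsPGroup p ↥f.ker) : Cfsg.IsPClosed p G ↔ Cfsg.IsPClosed p G' := by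
  haveI : Finite G' := Finite.of_surjective f hf
  constructor
  · intro h Q
    obtain ⟨P, rfl⟩ := Sylow.mapSurjective_surjective hf p Q
    exact (h P).map f hf
  · intro h P
    have hle : f.ker ≤ (P : Subgroup G) :=
      (Grp.le_pCore inferInstance hker).trans (Grp.pCore_le_sylow P)
    have h1 : ((P : Subgroup G).map f).Normal := h (P.mapSurjective hf)
    have h2 := h1.comap f
    rwa [Subgroup.comap_map_eq_self hle] at h2

/-- The `p`-core modulo a normal `p`-subgroup. -/
theorem pq_comap_pCore {G' : Type*} [Group G'] {f : G →* G'} (hf : Function.Surjective f)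
    (hker : IsPGroup p ↥f.ker) : (Cfsg.pCore p G').comap f = Cfsg.pCore p G := by
  haveI : Finite G' := Finite.of_surjective f hf
  refine le_antisymm (Grp.le_pCore (Grp.pCore_isNormal.comap f)
    (Grp.pCore_isPGroup.comap_of_ker_isPGroup f hker)) ?_
  rw [← Subgroup.map_le_iff_le_comap]
  exact Grp.le_pCore (Grp.pCore_isNormal.map f hf) (Grp.pCore_isPGroup.map f)

/-- The residual lies in a normal subgroup as soon as it does so modulo a `p`-subgroup. -/
theorem pq_residual_le {N D : Subgroup G} [N.Normal] (hD : IsPGroup p ↥D)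
    (h : Cfsg.pResidual p G ≤ N ⊔ D) : Cfsg.pResidual p G ≤ N := by
  refine (Subgroup.closure_le _).mpr fun g hg => ?_
  have h0 : g ∈ ((N ⊔ D : Subgroup G) : Set G) := h (Subgroup.subset_closure hg)
  rw [Subgroup.normal_mul N D] at h0
  obtain ⟨n, hn, d, hd, rfl⟩ := h0
  have h1 : QuotientGroup.mk' N (n * d) = QuotientGroup.mk' N d := by
    rw [map_mul, show QuotientGroup.mk' N n = 1 from (QuotientGroup.eq_one_iff n).mpr hn, one_mul]
  obtain ⟨k, hk⟩ := hD ⟨d, hd⟩
  have h2 : (QuotientGroup.mk' N (n * d)) ^ p ^ k = 1 := by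
    rw [h1, ← map_pow, show d ^ p ^ k = 1 from congrArg Subtype.val hk, map_one]
  have h5 : orderOf (QuotientGroup.mk' N (n * d)) = 1 :=
    Nat.eq_one_of_dvd_coprimes ((hg : Nat.Coprime _ p).pow_right k)
      (orderOf_map_dvd (QuotientGroup.mk' N) (n * d)) (orderOf_dvd_of_pow_eq_one h2)
  exact (QuotientGroup.eq_one_iff _).mp (orderOf_eq_one_iff.mp h5)

end Cfsg.Agent.Invol
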