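import Mathlib
import Cfsg.Agent.Lib.Recog.PSLTwoSpectrum

/-!
An `F₂`-module for `PSL(2, p)`, `p` an odd prime, in which elements of order `p` have trace zero
and every nontrivial element of order prime to `p` has nonzero trace: the functions on the group
whose sum over every coset of every subgroup of order `p` vanishes.
-/

set_option autoImplicit false

namespace Cfsg.Agent.Invol.PSLTwoModule

open Matrix Cfsg.Agent.PSL2Spec

variable (p : ℕ) [hp : Fact p.Prime]

/-- `PSL(2, p)`. -/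
abbrev G : Type := Matrix.ProjectiveSpecialLinearGroup (Fin 2) (ZMod p)

/-- Functions with vanishing sum on every coset of a subgroup of order `p`. -/
def V : Submodule (ZMod 2) (G p → ZMod 2) where
  carrier := {f | ∀ x u : G p, orderOf u = p → ∑ i ∈ Finset.range p, f (x * u ^ i) = 0}
  add_mem' {f g} hf hg x u hu := by
    simp [Finset.sum_add_distrib, hf x u hu, hg x u hu]
  zero_mem' x u _ := by simp
  smul_mem' c f hf x u hu := by
    simp [← Finset.mul_sum, hf x u hu]

lemma mem_V {f : G p → ZMod 2} :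
    f ∈ V p ↔ ∀ x u : G p, orderOf u = p → ∑ i ∈ Finset.range p, f (x * u ^ i) = 0 := Iff.rfl

lemma translate_mem {f : G p → ZMod 2} (hf : f ∈ V p) (g : G p) : (fun x => f (x * g)) ∈ V p := by
  intro x u hu
  have h : orderOf (g⁻¹ * u * g) = p := by
    have : g⁻¹ * u * g = MulAut.conj g⁻¹ u := by simp
    rw [this, MulEquiv.orderOf_eq, hu]
  have := hf (x * g) _ h
  rw [← this]
  refine Finset.sum_congr rfl fun i _ => ?_
  show f (x * u ^ i * g) = _
  congr 1
  have e : (g⁻¹ * u * g) ^ i = g⁻¹ * u ^ i * g := by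
    have : g⁻¹ * u * g = MulAut.conj g⁻¹ u := by simp
    rw [this, ← map_pow]; simp
  rw [e]; group

/-- Right translation. -/
def rho : Representation (ZMod 2) (G p) (V p) where
  toFun g :=
    { toFun := fun f => ⟨fun x => f.1 (x * g), translate_mem p f.2 g⟩
      map_add' := fun _ _ => rfl
      map_smul' := fun _ _ => rfl }
  map_one' := by
    refine LinearMap.ext fun f => Subtype.ext (funext fun x => ?_)
    simp
  map_mul' a b := by
    refine LinearMap.ext fun f => Subtype.ext (funext fun x => ?_)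
    simp [mul_assoc]

lemma rho_apply (g x : G p) (f : V p) : ((rho p g f : V p) : G p → ZMod 2) x = f.1 (x * g) := rfl

lemma trace_apply (g x : G p) (f : V p) (n : ℕ) :
    ((∑ j ∈ Finset.range n, rho p (g ^ j) f : V p) : G p → ZMod 2) x =
      ∑ j ∈ Finset.range n, f.1 (x * g ^ j) := by
  rw [Submodule.coe_sum, Finset.sum_apply]; rfl

lemma trace_order_p (u : G p) (hu : orderOf u = p) (f : V p) :
    ∑ j ∈ Finset.range (orderOf u), rho p (u ^ j) f = 0 := by
  refine Subtype.ext (funext fun x => ?_)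
  rw [trace_apply, hu, f.2 x u hu]
  rfl

lemma two_ne_zero' (hp2 : p ≠ 2) : (2 : ZMod p) ≠ 0 := by
  intro h
  have h2 := (ZMod.natCast_eq_zero_iff 2 p).1 (by exact_mod_cast h)
  exact hp2 ((Nat.prime_dvd_prime_iff_eq hp.out Nat.prime_two).1 h2)

lemma proj_surjective : Function.Surjective (proj (F := ZMod p)) := QuotientGroup.mk'_surjective _

lemma lift_eq {S₁ S₂ : Matrix.SpecialLinearGroup (Fin 2) (ZMod p)} (h : proj S₁ = proj S₂) :
    ∃ c : ZMod p, c ^ 2 = 1 ∧
      (S₁ : Matrix (Fin 2) (Fin 2) (ZMod p)) = c • (S₂ : Matrix (Fin 2) (Fin 2) (ZMod p)) := by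
  obtain ⟨c, hc, he⟩ := (proj_eq_one_iff (S₁ * S₂⁻¹)).1 (by rw [map_mul, map_inv, h, mul_inv_cancel])
  refine ⟨c, hc, ?_⟩
  have h1 : (S₁ : Matrix (Fin 2) (Fin 2) (ZMod p)) =
      ((S₁ * S₂⁻¹ * S₂ : Matrix.SpecialLinearGroup (Fin 2) (ZMod p)) : Matrix (Fin 2) (Fin 2) (ZMod p)) := by
    rw [inv_mul_cancel_right]
  rw [h1, Matrix.SpecialLinearGroup.coe_mul, he, smul_mul_assoc, one_mul]

/-- The function attached to a matrix `A`: the indicator of `tr (A x) = ± 2`. -/
noncomputable def ind (A : Matrix (Fin 2) (Fin 2) (ZMod p)) (x : G p) : ZMod 2 := by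
  classical
  exact if ∃ S : Matrix.SpecialLinearGroup (Fin 2) (ZMod p),
    proj S = x ∧ (A * (S : Matrix (Fin 2) (Fin 2) (ZMod p))).trace ^ 2 = 4 then 1 else 0

lemma ind_proj (A : Matrix (Fin 2) (Fin 2) (ZMod p))
    (S : Matrix.SpecialLinearGroup (Fin 2) (ZMod p)) :
    ind p A (proj S) = if (A * (S : Matrix (Fin 2) (Fin 2) (ZMod p))).trace ^ 2 = 4 then 1 else 0 := by
  classical
  have h : (∃ S' : Matrix.SpecialLinearGroup (Fin 2) (ZMod p),
      proj S' = proj S ∧ (A * (S' : Matrix (Fin 2) (Fin 2) (ZMod p))).trace ^ 2 = 4) ↔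
      (A * (S : Matrix (Fin 2) (Fin 2) (ZMod p))).trace ^ 2 = 4 := by
    refine ⟨fun ⟨S', hS', h4⟩ => ?_, fun h => ⟨S, rfl, h⟩⟩
    obtain ⟨c, hc, he⟩ := lift_eq p hS'
    rw [he, Matrix.mul_smul, Matrix.trace_smul, smul_eq_mul, mul_pow, hc, one_mul] at h4
    exact h4
  rw [ind]
  by_cases h4 : (A * (S : Matrix (Fin 2) (Fin 2) (ZMod p))).trace ^ 2 = 4
  · rw [if_pos (h.2 h4), if_pos h4]
  · rw [if_neg (fun hh => h4 (h.1 hh)), if_neg h4]

/-- An element with `tr = ± 2` has `p`-th power trivial, and its lift is `± (1 + N)`. -/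
lemma of_trace_sq (hp2 : p ≠ 2) (S : Matrix.SpecialLinearGroup (Fin 2) (ZMod p))
    (h : (S : Matrix (Fin 2) (Fin 2) (ZMod p)).trace ^ 2 = 4) :
    ∃ (c : ZMod p) (N : Matrix (Fin 2) (Fin 2) (ZMod p)), c ^ 2 = 1 ∧ N * N = 0 ∧
      (S : Matrix (Fin 2) (Fin 2) (ZMod p)) = c • (1 + N) ∧ proj S ^ p = 1 := by
  have h2 := two_ne_zero' p hp2
  set M := (S : Matrix (Fin 2) (Fin 2) (ZMod p)) with hM
  set c := M.trace / 2 with hcdef
  have ht : M.trace = 2 * c := by rw [hcdef]; field_simp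
  have hc : c ^ 2 = 1 := by
    apply mul_left_cancel₀ (pow_ne_zero 2 h2)
    rw [← mul_pow, ← ht, h]; norm_num
  have hM1 : M = c • (1 + (c • M - 1)) := by
    rw [add_sub_cancel, smul_smul, ← pow_two, hc, one_smul]
  have hnil : (c • M - 1) * (c • M - 1) = 0 := by
    have hsq := sl_sq S
    rw [← hM, ht] at hsq
    rw [sub_mul, mul_sub, mul_sub, smul_mul_assoc, mul_smul_comm, smul_smul, ← pow_two, hc, one_smul, hsq,
      one_mul, mul_one, one_mul, two_mul, add_smul]
    abel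
  refine ⟨c, c • M - 1, hc, hnil, hM1, ?_⟩
  rw [← map_pow, proj_eq_one_iff]
  refine ⟨c ^ p, by rw [← pow_mul, mul_comm, pow_mul, hc, one_pow], ?_⟩
  rw [Matrix.SpecialLinearGroup.coe_pow, ← hM]
  conv_lhs => rw [hM1]
  rw [_root_.smul_pow]
  haveI : CharP (Matrix (Fin 2) (Fin 2) (ZMod p)) p := inferInstance
  rw [add_pow_char_of_commute p (Commute.one_left _), one_pow]
  have h2p : 2 ≤ p := hp.out.two_le
  have hz : (c • M - 1) ^ p = 0 := pow_eq_zero_of_le h2p (by rw [pow_two, hnil])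
  rw [hz, add_zero]

lemma trace_sq_of_order_p (S : Matrix.SpecialLinearGroup (Fin 2) (ZMod p))
    (h : proj S ^ p = 1) : (S : Matrix (Fin 2) (Fin 2) (ZMod p)).trace ^ 2 = 4 := by
  rw [← map_pow, proj_eq_one_iff] at h
  obtain ⟨c, hc, he⟩ := h
  rw [Matrix.SpecialLinearGroup.coe_pow] at he
  have h1 := ZMod.trace_pow_card (S : Matrix (Fin 2) (Fin 2) (ZMod p))
  rw [he, Matrix.trace_smul, Matrix.trace_one, Fintype.card_fin, ZMod.pow_card] at h1
  rw [← h1]
  simp only [smul_eq_mul, mul_pow, hc]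
  norm_num

lemma sum_range_zmod {M : Type*} [AddCommMonoid M] (h : ZMod p → M) :
    ∑ i ∈ Finset.range p, h (i : ZMod p) = ∑ y : ZMod p, h y := by
  refine Finset.sum_nbij' (fun i => (i : ZMod p)) ZMod.val (fun i _ => Finset.mem_univ _)
    (fun y _ => Finset.mem_range.2 (ZMod.val_lt y))
    (fun i hi => ZMod.val_cast_of_lt (Finset.mem_range.1 hi)) (fun y _ => ZMod.natCast_zmod_val y)
    (fun i _ => rfl)

/-- A line on the quadric `det = δ` with constant trace `τ` forces `τ² - 4δ` to be a square. -/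
lemma isSquare_disc (M N : Matrix (Fin 2) (Fin 2) (ZMod p)) (hN : N * N = 0) (hN0 : N ≠ 0)
    (h : (M * N).trace = 0) : IsSquare (M.trace ^ 2 - 4 * M.det) := by
  have e00 := congrFun (congrFun hN 0) 0
  have e01 := congrFun (congrFun hN 0) 1
  have e10 := congrFun (congrFun hN 1) 0
  have e11 := congrFun (congrFun hN 1) 1
  simp [Matrix.mul_apply, Fin.sum_univ_two] at e00 e01 e10 e11
  have htr : N 1 1 = -N 0 0 := by
    by_contra hne
    have hs : N 0 0 + N 1 1 ≠ 0 := fun hh => hne (by linear_combination hh)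
    have hb : N 0 1 = 0 := (mul_eq_zero.1 (show N 0 1 * (N 0 0 + N 1 1) = 0 by linear_combination e01)).resolve_right hs
    have hc : N 1 0 = 0 := (mul_eq_zero.1 (show N 1 0 * (N 0 0 + N 1 1) = 0 by linear_combination e10)).resolve_right hs
    rw [hb, zero_mul, add_zero] at e00
    rw [hb, mul_zero, zero_add] at e11
    apply hs
    rw [mul_self_eq_zero.1 e00, mul_self_eq_zero.1 e11, add_zero]
  simp [Matrix.trace_fin_two, Matrix.mul_apply, Fin.sum_univ_two, htr] at h
  rw [Matrix.trace_fin_two, Matrix.det_fin_two]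
  by_cases hb : N 0 1 = 0
  · have ha : N 0 0 = 0 := mul_self_eq_zero.1 (by rw [hb, zero_mul, add_zero] at e00; exact e00)
    have hc : N 1 0 ≠ 0 := fun hc => hN0 (by
      ext i j; fin_cases i <;> fin_cases j <;> simp [ha, hb, hc, htr])
    rw [ha, hb] at h
    have hf : M 0 1 = 0 := (mul_eq_zero.1 (by linear_combination h : M 0 1 * N 1 0 = 0)).resolve_right hc
    exact ⟨M 0 0 - M 1 1, by rw [hf]; ring⟩
  · refine ⟨(M 0 0 - M 1 1) - 2 * M 0 1 * (N 0 0 / N 0 1), ?_⟩
    field_simp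
    linear_combination (4 * M 0 1 * N 0 1) * h - 4 * M 0 1 ^ 2 * e00

lemma ind_mem (hp2 : p ≠ 2) (B : Matrix (Fin 2) (Fin 2) (ZMod p)) (hB : B.trace = 0)
    (hns : ¬ IsSquare (-B.det)) : ind p (1 + B) ∈ V p := by
  classical
  intro x u hu
  obtain ⟨X, rfl⟩ := proj_surjective p x
  obtain ⟨U, rfl⟩ := proj_surjective p u
  obtain ⟨c, N, hc, hNN, hU, -⟩ :=
    of_trace_sq p hp2 U (trace_sq_of_order_p p U (by have := pow_orderOf_eq_one (proj U); rwa [hu] at this))
  have hN0 : N ≠ 0 := by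
    intro h0
    have : proj U = 1 := by
      rw [proj_eq_one_iff]; exact ⟨c, hc, by rw [hU, h0, add_zero]⟩
    rw [this, orderOf_one] at hu
    exact hp.out.one_lt.ne hu
  set M := (1 + B) * (X : Matrix (Fin 2) (Fin 2) (ZMod p)) with hM
  set τ := M.trace
  set σ := (M * N).trace
  have hpow : ∀ i : ℕ, (U : Matrix (Fin 2) (Fin 2) (ZMod p)) ^ i = c ^ i • (1 + (i : ZMod p) • N) := by
    intro i
    induction i with
    | zero => simp
    | succ i ih =>
      rw [pow_succ, ih, hU, smul_mul_smul_comm, ← pow_succ, Nat.cast_succ, add_smul, one_smul, add_mul,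
        mul_add, mul_add, one_mul, one_mul, mul_one, smul_mul_assoc, hNN, smul_zero, add_zero]
      congr 1
      abel
  have hterm : ∀ i : ℕ, ind p (1 + B) (proj X * proj U ^ i) =
      (fun y : ZMod p => if (τ + y * σ) ^ 2 = 4 then (1 : ZMod 2) else 0) (i : ZMod p) := by
    intro i
    rw [← map_pow, ← map_mul, ind_proj, Matrix.SpecialLinearGroup.coe_mul,
      Matrix.SpecialLinearGroup.coe_pow, hpow, ← Matrix.mul_assoc, ← hM, Matrix.mul_smul,
      Matrix.trace_smul, Matrix.mul_add, Matrix.mul_one, Matrix.mul_smul, Matrix.trace_add,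
      Matrix.trace_smul, smul_eq_mul, smul_eq_mul, mul_pow, ← pow_mul, mul_comm i 2, pow_mul, hc,
      one_pow, one_mul]
  rw [Finset.sum_congr rfl fun i _ => hterm i, sum_range_zmod p (fun y : ZMod p => if (τ + y * σ) ^ 2 = 4 then (1 : ZMod 2) else 0)]
  have h2 := two_ne_zero' p hp2
  by_cases hσ : σ = 0
  · have hτ : τ ^ 2 ≠ 4 := by
      intro h4
      apply hns
      obtain ⟨r, hr⟩ := isSquare_disc p M N hNN hN0 hσ
      have hdet : M.det = 1 + B.det := by
        rw [hM, Matrix.det_mul, X.2, mul_one, Matrix.det_fin_two, Matrix.det_fin_two]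
        rw [Matrix.trace_fin_two] at hB
        simp
        linear_combination hB
      rw [show M.trace = τ from rfl, h4, hdet] at hr
      refine ⟨r / 2, ?_⟩
      field_simp
      linear_combination hr
    simp [hσ, hτ]
  · rw [Fintype.sum_equiv ((Equiv.mulRight₀ σ hσ).trans (Equiv.addLeft τ)) _
      (fun y : ZMod p => if y ^ 2 = 4 then (1 : ZMod 2) else 0) (fun y => by simp)]
    rw [Finset.sum_boole]
    have he : (Finset.univ.filter fun y : ZMod p => y ^ 2 = 4) = {2, -2} := by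
      ext y
      simp only [Finset.mem_filter, Finset.mem_univ, true_and, Finset.mem_insert, Finset.mem_singleton]
      rw [show (4 : ZMod p) = 2 ^ 2 by norm_num, sq_eq_sq_iff_eq_or_eq_neg]
    rw [he, Finset.card_pair]
    · rfl
    · intro h
      exact mul_ne_zero h2 h2 (by linear_combination h)

/-- A traceless `B` orthogonal to `S` with `-det B` a nonsquare. -/
lemma exists_orth (hp2 : p ≠ 2) (M : Matrix (Fin 2) (Fin 2) (ZMod p))
    (hD : (M 0 0 - M 1 1) ^ 2 + 4 * M 0 1 * M 1 0 ≠ 0) :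
    ∃ B : Matrix (Fin 2) (Fin 2) (ZMod p), B.trace = 0 ∧ (B * M).trace = 0 ∧ ¬ IsSquare (-B.det) := by
  have h2 := two_ne_zero' p hp2
  obtain ⟨ν, hν⟩ := FiniteField.exists_nonsquare (F := ZMod p) (by rwa [ZMod.ringChar_zmod_n])
  suffices ∃ z y w : ZMod p, z * (M 0 0 - M 1 1) + y * M 1 0 + w * M 0 1 = 0 ∧ z * z + y * w = ν by
    obtain ⟨z, y, w, h1, h3⟩ := this
    refine ⟨!![z, y; w, -z], by simp [Matrix.trace_fin_two], ?_, ?_⟩
    · simp [Matrix.trace_fin_two, Matrix.mul_apply, Matrix.vecMul, dotProduct, Fin.sum_univ_two]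
      linear_combination h1
    · rw [Matrix.det_fin_two]
      simp
      rwa [add_comm, h3] 
  set r := M 0 0 - M 1 1 with hr
  set f := M 0 1
  set g := M 1 0
  by_cases hf : f = 0
  · have hr0 : r ≠ 0 := fun h => hD (by rw [h, hf]; ring)
    refine ⟨-(g / r), 1, ν - (g / r) ^ 2, ?_, by ring⟩
    rw [hf]; field_simp; ring
  · set c := (r ^ 2 + 4 * f * g) / (4 * f ^ 2) with hcdef
    have h4f : 4 * f ^ 2 ≠ 0 := mul_ne_zero (by
      intro h; exact mul_ne_zero h2 h2 (by linear_combination h)) (pow_ne_zero 2 hf)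
    have hc : c ≠ 0 := div_ne_zero hD h4f
    obtain ⟨X, Y, hXY⟩ : ∃ X Y : ZMod p, X ^ 2 - c * Y ^ 2 = ν := by
      obtain ⟨X, Y, h⟩ := FiniteField.exists_root_sum_quadratic
        (f := Polynomial.X ^ 2 - Polynomial.C ν) (g := Polynomial.C (-c) * Polynomial.X ^ 2)
        (Polynomial.degree_X_pow_sub_C two_pos ν)
        (by rw [Polynomial.degree_C_mul (neg_ne_zero.2 hc), Polynomial.degree_X_pow]; norm_num)
        (by rw [ZMod.card]; exact Nat.odd_iff.1 (hp.out.odd_of_ne_two hp2))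
      simp at h
      exact ⟨X, Y, by linear_combination h⟩
    refine ⟨X + r * Y / (2 * f), Y, -((X + r * Y / (2 * f)) * r + g * Y) / f, ?_, ?_⟩
    · field_simp; ring
    · have h4 : (4 : ZMod p) ≠ 0 := left_ne_zero_of_mul h4f
      rw [← hXY, hcdef]; field_simp; ring

/-- Every nontrivial element of order prime to `p` has nonzero trace on `V`. -/
theorem trace_ne_zero (hp2 : p ≠ 2) (g : G p) (hg : g ≠ 1) (hco : (orderOf g).Coprime p) :
    ∃ f : V p, ∑ j ∈ Finset.range (orderOf g), rho p (g ^ j) f ≠ 0 := by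
  classical
  obtain ⟨S, rfl⟩ := proj_surjective p g
  set M := (S : Matrix (Fin 2) (Fin 2) (ZMod p)) with hMdef
  have hkey : ∀ j : ℕ, ((S ^ j : Matrix.SpecialLinearGroup (Fin 2) (ZMod p)) :
      Matrix (Fin 2) (Fin 2) (ZMod p)).trace ^ 2 = 4 → proj S ^ j = 1 := by
    intro j hj
    obtain ⟨-, -, -, -, -, h⟩ := of_trace_sq p hp2 (S ^ j) hj
    rw [map_pow, ← pow_mul] at h
    have h1 : orderOf (proj S) ∣ j := hco.dvd_of_dvd_mul_right (orderOf_dvd_of_pow_eq_one h)
    exact orderOf_dvd_iff_pow_eq_one.1 h1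
  have hD : (M 0 0 - M 1 1) ^ 2 + 4 * M 0 1 * M 1 0 ≠ 0 := by
    intro h0
    apply hg
    have h1 := hkey 1
    rw [pow_one, pow_one] at h1
    refine h1 ?_
    have hd := S.2
    rw [Matrix.det_fin_two, ← hMdef] at hd
    rw [Matrix.trace_fin_two, ← hMdef]
    linear_combination h0 + 4 * hd
  obtain ⟨B, hB, hBM, hns⟩ := exists_orth p hp2 M hD
  refine ⟨⟨ind p (1 + B), ind_mem p hp2 B hB hns⟩, fun h => ?_⟩
  have h1 := congrFun (congrArg Subtype.val h) 1
  rw [trace_apply] at h1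
  simp only [one_mul, ← map_pow] at h1
  have hval : ∀ j ∈ Finset.range (orderOf (proj S)),
      ind p (1 + B) (proj (S ^ j)) = if j = 0 then 1 else 0 := by
    intro j hj
    rw [ind_proj, add_mul, one_mul, Matrix.trace_add]
    have hz : (B * ((S ^ j : Matrix.SpecialLinearGroup (Fin 2) (ZMod p)) :
        Matrix (Fin 2) (Fin 2) (ZMod p))).trace = 0 := by
      rw [Matrix.SpecialLinearGroup.coe_pow, pow_eq M.trace M (sl_sq S) j, mul_add, Matrix.mul_smul,
        Matrix.mul_smul, mul_one, Matrix.trace_add, Matrix.trace_smul, Matrix.trace_smul, hBM, hB,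
        smul_zero, smul_zero, add_zero]
    rw [hz, add_zero]
    by_cases hj0 : j = 0
    · simp [hj0, Matrix.trace_fin_two]; norm_num
    · rw [if_neg hj0, if_neg]
      intro h4
      have := Nat.le_of_dvd (Nat.pos_of_ne_zero hj0) (orderOf_dvd_of_pow_eq_one (hkey j h4))
      have := Finset.mem_range.1 hj
      omega
  rw [Finset.sum_congr rfl hval, Finset.sum_ite_eq', if_pos (Finset.mem_range.2 (orderOf_pos _))] at h1
  exact one_ne_zero h1

lemma nontrivial_V (hp2 : p ≠ 2) : Nontrivial (V p) := by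
  obtain ⟨g, hg⟩ := exists_order_nonsplit (F := ZMod p) p
  rw [ZMod.card] at hg
  have hdd : dd (ZMod p) = 2 := by
    rw [dd, ZMod.card]
    obtain ⟨k, hk⟩ := hp.out.odd_of_ne_two hp2
    rw [Nat.gcd_eq_left]
    exact ⟨k, by omega⟩
  rw [hdd] at hg
  have h3 := hp.out.two_le
  have hg1 : g ≠ 1 := fun h => by rw [h, orderOf_one] at hg; omega
  have hco : (orderOf g).Coprime p := by
    rw [Nat.coprime_comm, hp.out.coprime_iff_not_dvd, hg]
    intro hd
    have := Nat.le_of_dvd (by omega) hd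
    omega
  obtain ⟨f, hf⟩ := trace_ne_zero p hp2 g hg1 hco
  exact ⟨f, 0, fun h => hf (by simp [h])⟩

end Cfsg.Agent.Invol.PSLTwoModule
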