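import Mathlib

/-!
Element orders of split extensions `V ^ k ⋊ K` of a finite module `V`.
-/

set_option autoImplicit false

namespace Cfsg.Agent.Invol.SplitSpectrum

variable {R K V : Type} [CommRing R] [Group K] [AddCommGroup V] [Module R V]

/-- The automorphisms given by a representation. -/
noncomputable def act (ρ : Representation R K V) (k : ℕ) :
    K →* MulAut (Multiplicative (Fin k → V)) where
  toFun g :=
    { toFun := fun w => Multiplicative.ofAdd fun i => ρ g (Multiplicative.toAdd w i)
      invFun := fun w => Multiplicative.ofAdd fun i => ρ g⁻¹ (Multiplicative.toAdd w i)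
      left_inv := fun w => by
        apply Multiplicative.toAdd.injective
        funext i
        simp only [toAdd_ofAdd, ← Module.End.mul_apply, ← map_mul, inv_mul_cancel, map_one,
          Module.End.one_apply]
      right_inv := fun w => by
        apply Multiplicative.toAdd.injective
        funext i
        simp only [toAdd_ofAdd, ← Module.End.mul_apply, ← map_mul, mul_inv_cancel, map_one,
          Module.End.one_apply]
      map_mul' := fun a b => by
        apply Multiplicative.toAdd.injective
        funext i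
        simp }
  map_one' := by
    refine MulEquiv.ext fun w => Multiplicative.toAdd.injective (funext fun i => ?_)
    simp
  map_mul' a b := by
    refine MulEquiv.ext fun w => Multiplicative.toAdd.injective (funext fun i => ?_)
    simp

/-- `V ^ k ⋊ K`. -/
abbrev Ext (ρ : Representation R K V) (k : ℕ) : Type :=
  Multiplicative (Fin k → V) ⋊[act ρ k] K

variable (ρ : Representation R K V) {k : ℕ}

lemma pow_right (x : Ext ρ k) (n : ℕ) : (x ^ n).right = x.right ^ n := by
  induction n with
  | zero => simp
  | succ n ih => rw [pow_succ, SemidirectProduct.mul_right, ih, pow_succ]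

lemma pow_left (x : Ext ρ k) (n : ℕ) (i : Fin k) :
    Multiplicative.toAdd (x ^ n).left i =
      ∑ j ∈ Finset.range n, ρ (x.right ^ j) (Multiplicative.toAdd x.left i) := by
  induction n with
  | zero => simp
  | succ n ih =>
    rw [pow_succ, SemidirectProduct.mul_left, toAdd_mul, Pi.add_apply, ih, Finset.sum_range_succ,
      pow_right]
    simp [act]

lemma right_order_dvd (x : Ext ρ k) : orderOf x.right ∣ orderOf x :=
  orderOf_dvd_of_pow_eq_one (by rw [← pow_right, pow_orderOf_eq_one]; rfl)

/-- If the trace of `x.right` vanishes, `x` has the order of `x.right`. -/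
lemma order_eq_of_trace_zero (x : Ext ρ k)
    (h : ∀ v : V, ∑ j ∈ Finset.range (orderOf x.right), ρ (x.right ^ j) v = 0) :
    orderOf x = orderOf x.right := by
  refine Nat.dvd_antisymm (orderOf_dvd_of_pow_eq_one ?_) (right_order_dvd ρ x)
  apply SemidirectProduct.ext
  · apply Multiplicative.toAdd.injective
    funext i
    rw [pow_left, h]
    rfl
  · rw [pow_right, pow_orderOf_eq_one]; rfl

/-- The order of `x` divides `r` times that of `x.right`. -/
lemma order_dvd_mul {r : ℕ} (hr : ∀ v : V, r • v = 0) (x : Ext ρ k) :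
    orderOf x ∣ r * orderOf x.right := by
  apply orderOf_dvd_of_pow_eq_one
  have hs : (x ^ orderOf x.right).right = 1 := by rw [pow_right, pow_orderOf_eq_one]
  rw [mul_comm, pow_mul]
  generalize x ^ orderOf x.right = y at hs
  apply SemidirectProduct.ext
  · apply Multiplicative.toAdd.injective
    funext i
    rw [pow_left]
    simp [hs, hr]
  · rw [pow_right, hs, one_pow]; rfl

lemma orderOf_inr (g : K) : orderOf (SemidirectProduct.inr g : Ext ρ k) = orderOf g :=
  orderOf_injective _ SemidirectProduct.inr_injective g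

/-- An element of nonzero trace gives an element of `r` times the order. -/
lemma exists_order_mul {r : ℕ} (hr : r.Prime) (hrV : ∀ v : V, r • v = 0) (hk : 0 < k) (g : K)
    (v : V) (hv : ∑ j ∈ Finset.range (orderOf g), ρ (g ^ j) v ≠ 0) :
    ∃ x : Ext ρ k, orderOf x = r * orderOf g := by
  refine ⟨⟨Multiplicative.ofAdd fun _ => v, g⟩, ?_⟩
  set x : Ext ρ k := ⟨Multiplicative.ofAdd fun _ => v, g⟩
  have hg : x.right = g := rfl
  obtain ⟨e, he⟩ := right_order_dvd ρ x
  have hd := order_dvd_mul ρ hrV x
  rw [hg] at he hd
  rw [he, mul_comm r] at hd ⊢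
  rcases Nat.eq_zero_or_pos (orderOf g) with h0 | hpos
  · simp [h0]
  have her : e ∣ r := Nat.dvd_of_mul_dvd_mul_left hpos hd
  rcases (Nat.dvd_prime hr).1 her with h1 | h1
  · exfalso
    apply hv
    have := pow_orderOf_eq_one x
    rw [he, h1, mul_one] at this
    have h2 := pow_left ρ x (orderOf g) ⟨0, hk⟩
    rw [this] at h2
    simpa [x] using h2.symm
  · rw [h1]

lemma card_ge [Finite V] [Finite K] (hV : Nontrivial V) : 2 ^ k ≤ Nat.card (Ext ρ k) := by
  rw [SemidirectProduct.card]
  refine le_trans ?_ (Nat.le_mul_of_pos_right _ Nat.card_pos)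
  rw [Nat.card_congr Multiplicative.toAdd, Nat.card_fun, Nat.card_fin]
  exact Nat.pow_le_pow_left (Finite.one_lt_card) k

/-- Spectrum of `V ^ k ⋊ K` when every nontrivial element of `K` has zero trace. -/
theorem spectrum_fpf [Finite V] [Finite K] [Nontrivial V] {r : ℕ} (hr : r.Prime)
    (hrV : ∀ v : V, r • v = 0) (hk : 0 < k)
    (h : ∀ g : K, g ≠ 1 → ∀ v : V, ∑ j ∈ Finset.range (orderOf g), ρ (g ^ j) v = 0) :
    Set.range (orderOf : Ext ρ k → ℕ) = insert r (Set.range (orderOf : K → ℕ)) := by
  ext n
  constructor
  · rintro ⟨x, rfl⟩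
    by_cases hx : x.right = 1
    · have h1 := order_dvd_mul ρ hrV x
      rw [hx, orderOf_one, mul_one] at h1
      rcases (Nat.dvd_prime hr).1 h1 with h2 | h2
      · exact Or.inr ⟨1, by rw [h2, orderOf_one]⟩
      · exact Or.inl h2
    · exact Or.inr ⟨x.right, (order_eq_of_trace_zero ρ x (h _ hx)).symm⟩
  · rintro (rfl | ⟨g, rfl⟩)
    · obtain ⟨v, hv⟩ := exists_ne (0 : V)
      obtain ⟨x, hx⟩ := exists_order_mul ρ hr hrV hk 1 v (by simpa using hv)
      exact ⟨x, by simpa using hx⟩
    · exact ⟨_, orderOf_inr ρ g⟩

end Cfsg.Agent.Invol.SplitSpectrum
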