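import Mathlib
import Cfsg.Agent.Lib.Invol.SplitSpectrum
import Cfsg.Agent.Lib.Invol.PSLTwoModule
import Cfsg.Agent.Lib.Recog.PSLTwoSpectrum

/-!
Arbitrarily large groups with the spectrum of `PGL(2, q)` for `q` prime or `q = 9`.
-/

set_option autoImplicit false

namespace Cfsg.Agent.Invol.PGL2Iso

open Cfsg.Agent.Invol

/-- The spectrum of `PGL(2, q)`. -/
def spec (p q : ℕ) : Set ℕ := {n | n ∣ p ∨ n ∣ q - 1 ∨ n ∣ q + 1}

lemma package {H : Type} [Group H] [Finite H] {S : Set ℕ} {N : ℕ}
    (hN : N < Nat.card H) (hS : Set.range (orderOf : H → ℕ) = S) :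
    ∃ (H : Type) (_ : Group H) (_ : Fintype H), N < Fintype.card H ∧
      Set.range (orderOf : H → ℕ) = S :=
  ⟨H, inferInstance, Fintype.ofFinite H, by rwa [← @Nat.card_eq_fintype_card H (Fintype.ofFinite H)], hS⟩

theorem odd_prime (p : ℕ) [hp : Fact p.Prime] (hp2 : p ≠ 2) (N : ℕ) :
    ∃ (H : Type) (_ : Group H) (_ : Fintype H), N < Fintype.card H ∧
      Set.range (orderOf : H → ℕ) = spec p p := by
  classical
  let ρ := PSLTwoModule.rho p
  haveI : Finite (PSLTwoModule.G p) :=
    inferInstanceAs (Finite (Matrix.SpecialLinearGroup (Fin 2) (ZMod p) ⧸ _))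
  haveI := PSLTwoModule.nontrivial_V p hp2
  have hk : 0 < N + 1 := N.succ_pos
  have hV2 : ∀ v : PSLTwoModule.V p, 2 • v = 0 := fun v => by
    rw [← Nat.cast_smul_eq_nsmul (ZMod 2), show ((2 : ℕ) : ZMod 2) = 0 from rfl, zero_smul]
  haveI : Finite (SplitSpectrum.Ext ρ (N + 1)) := Finite.of_equiv _ SemidirectProduct.equivProd.symm
  obtain ⟨b, hb⟩ := hp.out.odd_of_ne_two hp2
  have hdd : PSL2Spec.dd (ZMod p) = 2 := by
    rw [PSL2Spec.dd, ZMod.card, Nat.gcd_eq_left]
    exact ⟨b, by omega⟩
  have hdiv : (p - 1) / 2 = b ∧ (p + 1) / 2 = b + 1 := by omega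
  have hspecG := PSL2Spec.range_orderOf (F := ZMod p) p
  rw [ZMod.card, hdd, hdiv.1, hdiv.2] at hspecG
  refine package (H := SplitSpectrum.Ext ρ (N + 1))
    (lt_of_lt_of_le (Nat.lt_two_pow_self.trans_le' (Nat.le_succ N)) (SplitSpectrum.card_ge ρ inferInstance)) ?_
  have hup : ∀ x : SplitSpectrum.Ext ρ (N + 1), orderOf x ∈ spec p p := by
    intro x
    have hd := SplitSpectrum.order_dvd_mul ρ hV2 x
    have hg : orderOf x.right ∈ Set.range (orderOf : PSLTwoModule.G p → ℕ) := ⟨x.right, rfl⟩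
    rw [hspecG] at hg
    rcases hg with h | h | h
    · rcases (Nat.dvd_prime hp.out).1 h with h1 | h1
      · rw [h1, mul_one] at hd
        exact Or.inr (Or.inl (hd.trans ⟨b, by omega⟩))
      · refine Or.inl (dvd_of_eq ?_)
        rw [SplitSpectrum.order_eq_of_trace_zero ρ x (PSLTwoModule.trace_order_p p _ h1), h1]
    · exact Or.inr (Or.inl (hd.trans ((Nat.mul_dvd_mul_left 2 h).trans ⟨1, by omega⟩)))
    · exact Or.inr (Or.inr (hd.trans ((Nat.mul_dvd_mul_left 2 h).trans ⟨1, by omega⟩)))
  ext n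
  refine ⟨fun ⟨x, hx⟩ => hx ▸ hup x, fun hn => ?_⟩
  have key : ∀ x : SplitSpectrum.Ext ρ (N + 1), n ∣ orderOf x →
      n ∈ Set.range (orderOf : SplitSpectrum.Ext ρ (N + 1) → ℕ) := fun x hx =>
    ⟨x ^ (orderOf x / n), orderOf_pow_orderOf_div (orderOf_pos x).ne' hx⟩
  have dbl : ∀ m, m ∈ Set.range (orderOf : PSLTwoModule.G p → ℕ) → m.Coprime p →
      ∃ x : SplitSpectrum.Ext ρ (N + 1), orderOf x = 2 * m := by
    rintro m ⟨g, rfl⟩ hco
    by_cases hg : g = 1
    · obtain ⟨v, hv⟩ := exists_ne (0 : PSLTwoModule.V p)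
      exact SplitSpectrum.exists_order_mul ρ Nat.prime_two hV2 hk g v (by simpa [hg] using hv)
    · obtain ⟨v, hv⟩ := PSLTwoModule.trace_ne_zero p hp2 g hg hco
      exact SplitSpectrum.exists_order_mul ρ Nat.prime_two hV2 hk g v hv
  have hcop : ∀ m, 0 < m → m < p → m.Coprime p := fun m h0 hm =>
    (hp.out.coprime_iff_not_dvd.2 fun hd => absurd (Nat.le_of_dvd h0 hd) (by omega)).symm
  have h2 := hp.out.two_le
  rcases hn with h | h | h
  · obtain ⟨g, hg⟩ : p ∈ Set.range (orderOf : PSLTwoModule.G p → ℕ) := by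
      rw [hspecG]; exact Or.inl dvd_rfl
    exact key (SemidirectProduct.inr g) (by rw [SplitSpectrum.orderOf_inr, hg]; exact h)
  · obtain ⟨x, hx⟩ := dbl b (by rw [hspecG]; exact Or.inr (Or.inl dvd_rfl)) (hcop _ (by omega) (by omega))
    exact key x (by rw [hx]; exact h.trans (dvd_of_eq (by omega)))
  · obtain ⟨x, hx⟩ := dbl (b + 1) (by rw [hspecG]; exact Or.inr (Or.inr dvd_rfl)) (hcop _ (by omega) (by omega))
    exact key x (by rw [hx]; exact h.trans (dvd_of_eq (by omega)))

/-- Multiplication by a matrix with `M ^ n = 1`, as a hom from the cyclic group of order `n`. -/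
theorem fpf_package {K : Type} [Group K] [Finite K] {d : ℕ} [NeZero d]
    (ρ : Representation (ZMod 3) K (Fin d → ZMod 3))
    (hfpf : ∀ g : K, g ≠ 1 → ∀ v, ρ g v = v → v = 0) (N : ℕ) :
    ∃ (H : Type) (_ : Group H) (_ : Fintype H), N < Fintype.card H ∧
      Set.range (orderOf : H → ℕ) = insert 3 (Set.range (orderOf : K → ℕ)) := by
  classical
  haveI : Finite (SplitSpectrum.Ext ρ (N + 1)) := Finite.of_equiv _ SemidirectProduct.equivProd.symm
  haveI : Nontrivial (Fin d → ZMod 3) := Function.nontrivial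
  have h3 : ∀ v : Fin d → ZMod 3, 3 • v = 0 := fun v => funext fun i => by
    rw [Pi.smul_apply, ← Nat.cast_smul_eq_nsmul (ZMod 3), show ((3 : ℕ) : ZMod 3) = 0 from rfl, zero_smul]
    rfl
  refine package (H := SplitSpectrum.Ext ρ (N + 1))
    (lt_of_lt_of_le (Nat.lt_two_pow_self.trans_le' (Nat.le_succ N)) (SplitSpectrum.card_ge ρ inferInstance))
    (SplitSpectrum.spectrum_fpf ρ Nat.prime_three h3 N.succ_pos fun g hg v => hfpf g hg _ ?_)
  obtain ⟨m, hm⟩ : ∃ m, orderOf g = m + 1 := ⟨orderOf g - 1, by have := orderOf_pos g; omega⟩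
  rw [hm, map_sum]
  conv_lhs => rw [Finset.sum_range_succ]
  conv_rhs => rw [Finset.sum_range_succ']
  congr 1
  · refine Finset.sum_congr rfl fun j _ => ?_
    rw [← Module.End.mul_apply, ← map_mul, ← pow_succ']
  · rw [← Module.End.mul_apply, ← map_mul, ← pow_succ', ← hm, pow_orderOf_eq_one, pow_zero]

/-- `q = 2`. -/
theorem two (N : ℕ) : ∃ (H : Type) (_ : Group H) (_ : Fintype H), N < Fintype.card H ∧
      Set.range (orderOf : H → ℕ) = spec 2 2 := by
  let φ : Multiplicative (ZMod 2) →* Module.End (ZMod 3) (Fin 1 → ZMod 3) :=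
    { toFun := fun a => if Multiplicative.toAdd a = 0 then 1 else -1
      map_one' := if_pos rfl
      map_mul' := by decide +revert +kernel }
  obtain ⟨H, hG, hF, hN, hS⟩ := fpf_package (K := Multiplicative (ZMod 2)) φ (by
    decide +revert +kernel) N
  refine ⟨H, hG, hF, hN, ?_⟩
  rw [hS]
  ext n
  simp only [Set.mem_insert_iff, Set.mem_range, spec, Set.mem_setOf_eq]
  constructor
  · rintro (rfl | ⟨g, rfl⟩)
    · right; right; exact dvd_rfl
    · left; simpa using orderOf_dvd_natCard g
  · intro h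
    have hn : n = 1 ∨ n = 2 ∨ n = 3 := by
      rcases h with h | h | h
      · rcases (Nat.dvd_prime Nat.prime_two).1 h with h | h <;> simp [h]
      · left; simpa using h
      · rcases (Nat.dvd_prime Nat.prime_three).1 h with h | h <;> simp [h]
    rcases hn with rfl | rfl | rfl
    · exact Or.inr ⟨1, orderOf_one⟩
    · exact Or.inr ⟨Multiplicative.ofAdd 1, orderOf_eq_prime (by decide) (by decide)⟩
    · exact Or.inl rfl

/-- Order 5 matrix over `F₃`. -/
def matA : Matrix (Fin 4) (Fin 4) (ZMod 3) := !![0, 0, 0, 2; 1, 0, 0, 2; 0, 1, 0, 2; 0, 0, 1, 2]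

/-- Order 8 matrix over `F₃`, fourth power `-1`, raising `matA` to its cube. -/
def matB : Matrix (Fin 4) (Fin 4) (ZMod 3) := !![0, 1, 1, 0; 0, 2, 1, 1; 1, 0, 1, 2; 2, 0, 2, 0]

lemma matA_five : matA ^ 5 = 1 := by decide +kernel
lemma matA_sum : 1 + matA + matA ^ 2 + matA ^ 3 + matA ^ 4 = 0 := by decide +kernel
lemma matB_eight : matB ^ 8 = 1 := by decide +kernel
lemma matB_four : matB ^ 4 = -1 := by decide +kernel
lemma matBA : matB * matA = matA ^ 3 * matB := by decide +kernel

/-- multiplication by `3 ^ b` on `ZMod 5` -/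
def aut5 : Multiplicative (ZMod 8) →* MulAut (Multiplicative (ZMod 5)) where
  toFun b :=
    { toFun := fun a => Multiplicative.ofAdd ((3 : ZMod 5) ^ (Multiplicative.toAdd b).val * Multiplicative.toAdd a)
      invFun := fun a => Multiplicative.ofAdd ((3 : ZMod 5) ^ (Multiplicative.toAdd b⁻¹).val * Multiplicative.toAdd a)
      left_inv := by decide +revert +kernel
      right_inv := by decide +revert +kernel
      map_mul' := by decide +revert +kernel }
  map_one' := MulEquiv.ext (by decide +kernel)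
  map_mul' := fun a b => MulEquiv.ext (by decide +revert +kernel)

/-- `C₅ ⋊ C₈`. -/
abbrev K40 : Type := Multiplicative (ZMod 5) ⋊[aut5] Multiplicative (ZMod 8)

instance : Finite K40 := Finite.of_equiv _ SemidirectProduct.equivProd.symm

/-- the matrix of an element -/
def mat (x : K40) : Matrix (Fin 4) (Fin 4) (ZMod 3) :=
  matA ^ (Multiplicative.toAdd x.left).val * matB ^ (Multiplicative.toAdd x.right).val

lemma mat_mul (x y : K40) : mat (x * y) = mat x * mat y := by
  obtain ⟨a, b⟩ := x
  obtain ⟨c, d⟩ := y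
  simp only [mat, SemidirectProduct.mk_eq_inl_mul_inr, SemidirectProduct.mul_left, SemidirectProduct.mul_right,
    SemidirectProduct.left_inl, SemidirectProduct.right_inl, SemidirectProduct.left_inr,
    SemidirectProduct.right_inr, map_one, MulAut.one_apply, mul_one, one_mul]
  have hswap : ∀ j i : ℕ, matB ^ j * matA ^ i = matA ^ (3 ^ j * i) * matB ^ j := by
    have h1 : ∀ i : ℕ, matB * matA ^ i = matA ^ (3 * i) * matB := by
      intro i
      induction i with
      | zero => simp
      | succ i ih =>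
        rw [pow_succ, ← mul_assoc, ih, mul_assoc, matBA, ← mul_assoc, ← pow_add, mul_add, mul_one]
    intro j
    induction j with
    | zero => intro i; simp
    | succ j ih =>
      intro i
      rw [pow_succ, mul_assoc, h1, ← mul_assoc, ih, mul_assoc, ← pow_succ, ← mul_assoc, ← pow_succ]
  rw [mul_assoc (matA ^ _), ← mul_assoc (matB ^ _) (matA ^ _), hswap, mul_assoc (matA ^ _) (matB ^ _),
    ← pow_add, ← mul_assoc, ← pow_add, pow_eq_pow_mod _ matA_five,
    pow_eq_pow_mod ((Multiplicative.toAdd b).val + _) matB_eight]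
  have h5 : ∀ (b : Multiplicative (ZMod 8)) (a c : Multiplicative (ZMod 5)),
      (Multiplicative.toAdd (a * aut5 b c)).val =
        ((Multiplicative.toAdd a).val + 3 ^ (Multiplicative.toAdd b).val * (Multiplicative.toAdd c).val) % 5 := by
    decide +kernel
  have h8 : ∀ b d : Multiplicative (ZMod 8), (Multiplicative.toAdd (b * d)).val =
      ((Multiplicative.toAdd b).val + (Multiplicative.toAdd d).val) % 8 := by decide +kernel
  rw [h5, h8, Nat.mod_mod, ← pow_eq_pow_mod _ matA_five]

/-- The representation of `C₅ ⋊ C₈` on `F₃⁴`. -/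
noncomputable def rho40 : Representation (ZMod 3) K40 (Fin 4 → ZMod 3) where
  toFun x := Matrix.toLinAlgEquiv' (mat x)
  map_one' := by simp [mat]
  map_mul' x y := by rw [mat_mul, map_mul]

lemma k40_pow (x : K40) : x ^ 8 = 1 ∨ x ^ 10 = 1 := by
  obtain ⟨a, b⟩ := x
  revert a b
  decide +kernel

lemma k40_small (x : K40) (hx : x ≠ 1) :
    x ^ 4 = SemidirectProduct.inr (Multiplicative.ofAdd 4) ∨
    x ^ 2 = SemidirectProduct.inr (Multiplicative.ofAdd 4) ∨
    x = SemidirectProduct.inr (Multiplicative.ofAdd 4) ∨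
    x ^ 5 = SemidirectProduct.inr (Multiplicative.ofAdd 4) ∨
    ∃ a : ZMod 5, a ≠ 0 ∧ x = SemidirectProduct.inl (Multiplicative.ofAdd a) := by
  obtain ⟨a, b⟩ := x
  revert a b
  decide +kernel

lemma rho40_fpf (x : K40) (hx : x ≠ 1) (v : Fin 4 → ZMod 3) (hv : rho40 x v = v) : v = 0 := by
  have hpow : ∀ n : ℕ, rho40 (x ^ n) v = v := by
    intro n
    induction n with
    | zero => simp
    | succ n ih => rw [pow_succ, map_mul, Module.End.mul_apply, hv, ih]
  have hneg : rho40 (SemidirectProduct.inr (Multiplicative.ofAdd 4)) v = v → v = 0 := by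
    intro h
    have e : mat (SemidirectProduct.inr (Multiplicative.ofAdd (4 : ZMod 8))) = -1 := by
      rw [← matB_four]; simp [mat]; rfl
    change Matrix.toLinAlgEquiv' _ v = v at h
    rw [e, map_neg, map_one] at h
    funext i
    show v i = 0
    have h2 : -v i = v i := congrFun h i
    revert h2
    generalize v i = t
    revert t
    decide
  rcases k40_small x hx with h | h | h | h | ⟨a, ha, h⟩
  · exact hneg (h ▸ hpow 4)
  · exact hneg (h ▸ hpow 2)
  · exact hneg (h ▸ hv)
  · exact hneg (h ▸ hpow 5)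
  · have hA : matA.mulVec v = v := by
      have e : ∀ a : ZMod 5, a ≠ 0 → ∃ n : ℕ,
          (SemidirectProduct.inl (Multiplicative.ofAdd a) : K40) ^ n =
            SemidirectProduct.inl (Multiplicative.ofAdd 1) := by
        intro a ha
        refine ⟨(a⁻¹).val, ?_⟩
        rw [← map_pow]
        congr 1
        revert ha a
        decide +kernel
      obtain ⟨n, hn⟩ := e a ha
      have := hpow n
      rw [h, hn] at this
      change Matrix.toLinAlgEquiv' _ v = v at this
      simpa [mat, show (1 : ZMod 5).val = 1 from rfl] using this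
    have h5 : (1 + matA + matA ^ 2 + matA ^ 3 + matA ^ 4).mulVec v = 0 := by
      rw [matA_sum, Matrix.zero_mulVec]
    simp only [Matrix.add_mulVec, Matrix.one_mulVec, pow_succ, pow_zero, one_mul, ← Matrix.mulVec_mulVec,
      hA] at h5
    funext i
    have := congrFun h5 i
    simp only [Pi.add_apply, Pi.zero_apply] at this ⊢
    revert this
    generalize v i = t
    revert t
    decide

/-- `q = 9`. -/
theorem nine (N : ℕ) : ∃ (H : Type) (_ : Group H) (_ : Fintype H), N < Fintype.card H ∧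
      Set.range (orderOf : H → ℕ) = spec 3 9 := by
  obtain ⟨H, hG, hF, hN, hS⟩ := fpf_package rho40 rho40_fpf N
  refine ⟨H, hG, hF, hN, ?_⟩
  rw [hS]
  ext n
  simp only [Set.mem_insert_iff, Set.mem_range, spec, Set.mem_setOf_eq]
  constructor
  · rintro (rfl | ⟨g, rfl⟩)
    · left; exact dvd_rfl
    · rcases k40_pow g with h | h
      · right; left; exact orderOf_dvd_of_pow_eq_one h
      · right; right; exact orderOf_dvd_of_pow_eq_one h
  · intro h
    have key : ∀ g : K40, n ∣ orderOf g → n = 3 ∨ ∃ y : K40, orderOf y = n := fun g hg =>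
      Or.inr ⟨g ^ (orderOf g / n), orderOf_pow_orderOf_div (orderOf_pos g).ne' hg⟩
    rcases h with h | h | h
    · rcases (Nat.dvd_prime Nat.prime_three).1 h with h | h
      · exact key 1 (by rw [h]; exact one_dvd _)
      · exact Or.inl h
    · apply key (SemidirectProduct.inr (Multiplicative.ofAdd 1))
      haveI : Fact (Nat.Prime 2) := ⟨Nat.prime_two⟩
      rwa [orderOf_eq_prime_pow (p := 2) (n := 2) (by decide +kernel) (by decide +kernel)]
    · apply key ⟨Multiplicative.ofAdd 1, Multiplicative.ofAdd 4⟩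
      have : orderOf (⟨Multiplicative.ofAdd 1, Multiplicative.ofAdd 4⟩ : K40) = 10 := by
        rw [orderOf_eq_iff (by norm_num)]
        refine ⟨by decide +kernel, ?_⟩
        intro m hm hm0
        interval_cases m <;> decide +kernel
      rwa [this]

end Cfsg.Agent.Invol.PGL2Iso
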