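import Mathlib
import Cfsg.Agent.Lib.Recog.PSLTwoSpectrum

/-!
The element orders of `PGL(2, q)`, `q` a power of the prime `p`: the divisors of `p`, `q - 1` and
`q + 1`.
-/

set_option autoImplicit false

namespace Cfsg.Agent.Invol.PGL2Spec

open Matrix

variable {F : Type*} [Field F] [Fintype F]

local notation "PGL" => (Matrix.GeneralLinearGroup (Fin 2) F ⧸
  Subgroup.center (Matrix.GeneralLinearGroup (Fin 2) F))

/-- coefficients of `x ^ n` for `x ^ 2 = t x - d` -/
def coef {R : Type*} [CommRing R] (t d : R) : ℕ → R × R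
  | 0 => (0, 1)
  | n + 1 => ((coef t d n).1 * t + (coef t d n).2, -((coef t d n).1 * d))

lemma pow_coef {R A : Type*} [CommRing R] [Ring A] [Algebra R A] (t d : R) (x : A)
    (hx : x * x = t • x - d • (1 : A)) (n : ℕ) :
    x ^ n = (coef t d n).1 • x + (coef t d n).2 • (1 : A) := by
  induction n with
  | zero => simp [coef]
  | succ n ih =>
    rw [pow_succ, ih, coef, add_mul, smul_mul_assoc, hx, smul_mul_assoc, one_mul, smul_sub, smul_smul,
      smul_smul, add_smul, neg_smul]
    abel

lemma mk_eq_one_iff (A : Matrix.GeneralLinearGroup (Fin 2) F) :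
    ((A : PGL) = 1) ↔ ∃ c : F, (A : Matrix (Fin 2) (Fin 2) F) = c • 1 := by
  rw [QuotientGroup.eq_one_iff, Matrix.GeneralLinearGroup.center_eq_range_scalar]
  constructor
  · rintro ⟨c, rfl⟩
    exact ⟨(c : F), by ext i j; simp [Matrix.one_apply, Matrix.diagonal_apply]⟩
  · rintro ⟨c, hc⟩
    have hc0 : c ≠ 0 := by
      intro h
      have hA := Matrix.GeneralLinearGroup.det_ne_zero A
      rw [hc, h, zero_smul] at hA
      exact hA Matrix.det_zero
    refine ⟨Units.mk0 c hc0, ?_⟩
    ext i j
    rw [hc]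
    simp [Matrix.one_apply, Matrix.diagonal_apply]

lemma cayley (M : Matrix (Fin 2) (Fin 2) F) :
    M * M = M.trace • M - M.det • (1 : Matrix (Fin 2) (Fin 2) F) := by
  ext i j
  rw [Matrix.trace_fin_two, Matrix.det_fin_two]
  fin_cases i <;> fin_cases j <;> simp [Matrix.mul_apply, Fin.sum_univ_two] <;> ring

lemma order_dvd (p : ℕ) [Fact p.Prime] [CharP F p] (g : PGL) :
    orderOf g ∣ p ∨ orderOf g ∣ Fintype.card F - 1 ∨ orderOf g ∣ Fintype.card F + 1 := by
  obtain ⟨A, rfl⟩ := QuotientGroup.mk_surjective g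
  set M := (A : Matrix (Fin 2) (Fin 2) F) with hM
  set t := M.trace
  set d := M.det
  set q := Fintype.card F with hq
  have key : ∀ n, (∃ c : F, M ^ n = c • 1) → orderOf (A : PGL) ∣ n := by
    intro n hn
    apply orderOf_dvd_of_pow_eq_one
    rw [← QuotientGroup.mk_pow, mk_eq_one_iff, Units.val_pow_eq_pow_val]
    exact hn
  by_cases hdisc : t ^ 2 - 4 * d = 0
  · left
    apply key
    by_cases h2 : (2 : F) = 0
    · have hp2 : p = 2 := by
        have := (CharP.cast_eq_zero_iff F p 2).1 (by exact_mod_cast h2)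
        exact (Nat.prime_dvd_prime_iff_eq Fact.out Nat.prime_two).1 this
      have ht : t = 0 := by
        have h4 : (4 : F) = 0 := by linear_combination (2 : F) * h2
        rw [h4, zero_mul, sub_zero] at hdisc
        exact pow_eq_zero_iff two_ne_zero |>.1 hdisc
      refine ⟨-d, ?_⟩
      rw [hp2, pow_two, cayley, neg_smul]
      show t • M - d • 1 = _
      rw [ht, zero_smul, zero_sub]
    · set c := t / 2
      have hc : t = 2 * c := by simp [c]; field_simp
      have hd : d = c ^ 2 := by
        have h4 : (4 : F) ≠ 0 := by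
          intro h; exact h2 (pow_eq_zero_iff two_ne_zero |>.1 (by linear_combination h : (2 : F) ^ 2 = 0))
        apply mul_left_cancel₀ h4
        linear_combination -hdisc + (t + 2 * c) * hc
      have hnil : (M - c • 1) * (M - c • 1) = 0 := by
        have hsq : M * M = (2 * c) • M - (c ^ 2) • (1 : Matrix (Fin 2) (Fin 2) F) := by
          rw [← hc, ← hd]; exact cayley M
        rw [sub_mul, mul_sub, mul_sub, hsq, smul_mul_assoc, mul_smul_comm, smul_mul_assoc, one_mul, mul_one,
          mul_smul_comm, mul_one, smul_smul, ← pow_two c, two_mul, add_smul]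
        abel
      refine ⟨c ^ p, ?_⟩
      haveI : CharP (Matrix (Fin 2) (Fin 2) F) p := inferInstance
      have hcomm : Commute (c • (1 : Matrix (Fin 2) (Fin 2) F)) (M - c • 1) :=
        (Commute.one_left _).smul_left c
      have h2p : 2 ≤ p := (Fact.out : p.Prime).two_le
      calc M ^ p = (c • 1 + (M - c • 1)) ^ p := by rw [add_sub_cancel]
        _ = (c • (1 : Matrix (Fin 2) (Fin 2) F)) ^ p + (M - c • 1) ^ p := add_pow_char_of_commute p hcomm
        _ = c ^ p • 1 := by
          rw [_root_.smul_pow, one_pow, show p = 2 + (p - 2) by omega, pow_add (M - c • 1), pow_two, hnil,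
            zero_mul, add_zero]
  right
  let K := AlgebraicClosure F
  let a := algebraMap F K
  obtain ⟨lam, hl⟩ : ∃ lam : K, lam * lam = a t * lam - a d := by
    obtain ⟨lam, h⟩ := IsAlgClosed.exists_root
      (Polynomial.X ^ 2 - Polynomial.C (a t) * Polynomial.X + Polynomial.C (a d)) (by
        have h : (Polynomial.X ^ 2 - Polynomial.C (a t) * Polynomial.X + Polynomial.C (a d)).degree = 2 := by
          compute_degree!
        rw [h]; decide)
    refine ⟨lam, ?_⟩
    simp at h
    linear_combination h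
  set mu := a t - lam with hmu
  have hne : lam ≠ mu := by
    intro h
    apply hdisc
    apply a.injective
    rw [map_sub, map_mul, map_pow, map_zero, map_ofNat]
    rw [hmu] at h
    linear_combination (2 * lam - a t) * h - 4 * hl
  have hl' : mu * mu = a t * mu - a d := by rw [hmu]; linear_combination hl
  have hscalar : ∀ n, lam ^ n = mu ^ n → ∃ c : F, M ^ n = c • 1 := by
    intro n hn
    have e1 := pow_coef t d lam (by simp only [Algebra.smul_def, mul_one]; exact hl) n
    have e2 := pow_coef t d mu (by simp only [Algebra.smul_def, mul_one]; exact hl') n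
    simp only [Algebra.smul_def, mul_one] at e1 e2
    rw [← hn, e1] at e2
    have hu : (coef t d n).1 = 0 := by
      have h : a (coef t d n).1 * (lam - mu) = 0 := by linear_combination e2
      rcases mul_eq_zero.mp h with h | h
      · exact (map_eq_zero _).mp h
      · exact absurd (sub_eq_zero.mp h) hne
    exact ⟨(coef t d n).2, by rw [pow_coef t d M (cayley M) n, hu, zero_smul, zero_add]⟩
  obtain ⟨k, hk⟩ : ∃ k : ℕ, q = p ^ k := by
    obtain ⟨⟨k, hk0⟩, hkp, hk⟩ := FiniteField.card F p
    exact ⟨k, hk⟩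
  haveI : CharP K p := inferInstance
  have hfr : ∀ x : F, a x ^ q = a x := fun x => by rw [← map_pow, hq, FiniteField.pow_card]
  have hfix : lam ^ q * lam ^ q = a t * lam ^ q - a d := by
    have h := congrArg (· ^ q) hl
    simp only [hk] at h
    rw [mul_pow, sub_pow_char_pow, mul_pow, ← hk, hfr, hfr] at h
    exact h
  have hcases : lam ^ q = lam ∨ lam ^ q = mu := by
    have h : (lam ^ q - lam) * (lam ^ q - mu) = 0 := by rw [hmu]; linear_combination hfix - hl
    rcases mul_eq_zero.mp h with h | h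
    · exact Or.inl (sub_eq_zero.mp h)
    · exact Or.inr (sub_eq_zero.mp h)
  have hmuq : mu ^ q = a t - lam ^ q := by rw [hmu, hk, sub_pow_char_pow, ← hk, hfr]
  have hprod : lam * mu = a d := by rw [hmu]; linear_combination -hl
  have hd0 : a d ≠ 0 := (map_ne_zero a).2 (Matrix.GeneralLinearGroup.det_ne_zero A)
  have hl0 : lam ≠ 0 := fun h => hd0 (by rw [← hprod, h, zero_mul])
  have hm0 : mu ≠ 0 := fun h => hd0 (by rw [← hprod, h, mul_zero])
  have hq1 : 1 ≤ q := Fintype.card_pos
  rcases hcases with h | h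
  · left
    refine key _ (hscalar _ ?_)
    rw [h] at hmuq
    have e : ∀ x : K, x ≠ 0 → x ^ q = x → x ^ (q - 1) = 1 := fun x hx hxq =>
      mul_right_cancel₀ hx (by rw [← pow_succ, Nat.sub_add_cancel hq1, hxq, one_mul])
    rw [e lam hl0 h, e mu hm0 hmuq]
  · right
    refine key _ (hscalar _ ?_)
    rw [h, hmu, sub_sub_cancel, ← hmu] at hmuq
    rw [pow_succ, pow_succ, h, hmuq, mul_comm]

lemma exists_order_char (p : ℕ) [Fact p.Prime] [CharP F p] : ∃ g : PGL, orderOf g = p := by
  let A : Matrix.GeneralLinearGroup (Fin 2) F :=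
    Matrix.GeneralLinearGroup.mkOfDetNeZero !![1, 1; 0, 1] (by simp [Matrix.det_fin_two])
  refine ⟨(A : PGL), orderOf_eq_prime ?_ fun h => ?_⟩
  · rw [← QuotientGroup.mk_pow, mk_eq_one_iff, Units.val_pow_eq_pow_val]
    refine ⟨1, ?_⟩
    have hn : ∀ n : ℕ, (!![1, 1; 0, 1] : Matrix (Fin 2) (Fin 2) F) ^ n = !![1, (n : F); 0, 1] := by
      intro n
      induction n with
      | zero => simp [Matrix.one_fin_two]
      | succ n ih => rw [pow_succ, ih, Matrix.mul_fin_two]; simp [add_comm]
    show (!![1, 1; 0, 1] : Matrix (Fin 2) (Fin 2) F) ^ p = _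
    rw [hn, CharP.cast_eq_zero, one_smul, Matrix.one_fin_two]
  · obtain ⟨c, hc⟩ := (mk_eq_one_iff A).mp h
    have := congrFun (congrFun hc 0) 1
    simp [A, Matrix.GeneralLinearGroup.mkOfDetNeZero] at this

lemma exists_order_split : ∃ g : PGL, Fintype.card F - 1 ∣ orderOf g := by
  classical
  obtain ⟨a, ha⟩ := IsCyclic.exists_generator (α := Fˣ)
  have hoa : orderOf a = Fintype.card F - 1 := by
    rw [orderOf_eq_card_of_forall_mem_zpowers ha, Nat.card_units, Nat.card_eq_fintype_card]
  let A : Matrix.GeneralLinearGroup (Fin 2) F :=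
    Matrix.GeneralLinearGroup.mkOfDetNeZero !![(a : F), 0; 0, 1] (by simp [Matrix.det_fin_two])
  refine ⟨(A : PGL), ?_⟩
  have h := pow_orderOf_eq_one (A : PGL)
  generalize orderOf (A : PGL) = n at h ⊢
  rw [← QuotientGroup.mk_pow, mk_eq_one_iff, Units.val_pow_eq_pow_val] at h
  obtain ⟨c, hc⟩ := h
  have hn : ∀ n : ℕ, (!![(a : F), 0; 0, 1] : Matrix (Fin 2) (Fin 2) F) ^ n = !![(a : F) ^ n, 0; 0, 1] := by
    intro n
    induction n with
    | zero => simp [Matrix.one_fin_two]
    | succ n ih => rw [pow_succ, ih, Matrix.mul_fin_two]; simp [pow_succ]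
  have hc' : (!![(a : F), 0; 0, 1] : Matrix (Fin 2) (Fin 2) F) ^ n = c • 1 := hc
  rw [hn] at hc'
  have h00 := congrFun (congrFun hc' 0) 0
  have h11 := congrFun (congrFun hc' 1) 1
  simp at h00 h11
  rw [← hoa]
  apply orderOf_dvd_of_pow_eq_one
  apply Units.ext
  rw [Units.val_pow_eq_pow_val, h00, ← h11, Units.val_one]

lemma exists_order_nonsplit (p : ℕ) [Fact p.Prime] [CharP F p] :
    ∃ g : PGL, Fintype.card F + 1 ∣ orderOf g := by
  classical
  set q := Fintype.card F with hq
  let K := FiniteField.Extension F p 2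
  haveI : Finite K := Module.finite_of_finite F
  have hK : Nat.card K = q ^ 2 := by
    rw [FiniteField.natCard_extension, Nat.card_eq_fintype_card]
  haveI : Fintype K := Fintype.ofFinite K
  obtain ⟨z, hz⟩ := IsCyclic.exists_generator (α := Kˣ)
  have hoz : orderOf z = q ^ 2 - 1 := by
    rw [orderOf_eq_card_of_forall_mem_zpowers hz, Nat.card_units, hK]
  let b := Module.finBasisOfFinrankEq F K (FiniteField.finrank_extension F p 2)
  let L : Kˣ →* Matrix.GeneralLinearGroup (Fin 2) F :=
    Units.map (Algebra.leftMulMatrix b).toRingHom.toMonoidHom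
  refine ⟨(L z : PGL), ?_⟩
  have h := pow_orderOf_eq_one (L z : PGL)
  generalize orderOf (L z : PGL) = n at h ⊢
  rw [← QuotientGroup.mk_pow, ← map_pow, mk_eq_one_iff] at h
  obtain ⟨c, hc⟩ := h
  have hzn : ((z ^ n : Kˣ) : K) = algebraMap F K c := by
    apply Algebra.leftMulMatrix_injective b
    rw [AlgHom.commutes, Algebra.algebraMap_eq_smul_one]
    exact hc
  have hq1 : 1 ≤ q := Fintype.card_pos
  have hc0 : c ≠ 0 := fun h0 => by
    rw [h0, map_zero] at hzn
    exact (Units.ne_zero _) hzn
  have hpow : z ^ (n * (q - 1)) = 1 := by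
    apply Units.ext
    rw [pow_mul, Units.val_pow_eq_pow_val, hzn, ← map_pow, hq,
      FiniteField.pow_card_sub_one_eq_one c hc0, map_one, Units.val_one]
  have hd := orderOf_dvd_of_pow_eq_one hpow
  rw [hoz] at hd
  rcases Nat.eq_or_lt_of_le hq1 with h1 | h1
  · exact absurd h1.symm (Fintype.one_lt_card).ne'
  · refine Nat.dvd_of_mul_dvd_mul_right (show 0 < q - 1 by omega) ?_
    have e : (q + 1) * (q - 1) = q ^ 2 - 1 := by
      rw [← Nat.sq_sub_sq, one_pow]
    rw [e]; exact hd

/-- **The spectrum of `PGL(2, q)`.** -/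
theorem range_orderOf (p : ℕ) [Fact p.Prime] [CharP F p] :
    Set.range (orderOf : PGL → ℕ) =
      {n | n ∣ p ∨ n ∣ Fintype.card F - 1 ∨ n ∣ Fintype.card F + 1} := by
  ext n
  constructor
  · rintro ⟨g, rfl⟩; exact order_dvd p g
  · intro h
    have key : ∀ g : PGL, n ∣ orderOf g → n ∈ Set.range (orderOf : PGL → ℕ) := fun g hg =>
      ⟨g ^ (orderOf g / n), orderOf_pow_orderOf_div (orderOf_pos g).ne' hg⟩
    rcases h with h | h | h
    · obtain ⟨g, hg⟩ := exists_order_char (F := F) p; exact key g (hg ▸ h)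
    · obtain ⟨g, hg⟩ := exists_order_split (F := F); exact key g (h.trans hg)
    · obtain ⟨g, hg⟩ := exists_order_nonsplit (F := F) p; exact key g (h.trans hg)

end Cfsg.Agent.Invol.PGL2Spec
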