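import Cfsg.Agent.Lib.Invol.PGVTheorem

/-!
The induction proving the P(G,V)-theorem.
-/

set_option autoImplicit false

namespace Cfsg.Agent.Invol.PGV

open scoped Pointwise commutatorElement
open Cfsg.Agent.Grp Cfsg.Agent.Transfer.Timmesfeld

universe u v

variable {G : Type u} {V : Type v} [Group G] [Finite G] [AddCommGroup V] [Finite V]

theorem card_eq_card_map_mul {H : Type*} [Group H] (f : G →* H) (A : Subgroup G) :
    Nat.card A = Nat.card (A.map f) * Nat.card ↥(f.ker ⊓ A) := by
  have h1 := Subgroup.card_eq_card_quotient_mul_card_subgroup (f.comp A.subtype).ker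
  have h2 : Nat.card (A ⧸ (f.comp A.subtype).ker) = Nat.card (A.map f) := by
    rw [Nat.card_congr (QuotientGroup.quotientKerEquivRange (f.comp A.subtype)).toEquiv,
      MonoidHom.range_eq_map, ← Subgroup.map_map, ← MonoidHom.range_eq_map, Subgroup.range_subtype]
  have h3 : (f.comp A.subtype).ker = f.ker.subgroupOf A := rfl
  rw [h1, h2, h3, ← Subgroup.inf_subgroupOf_right,
    Nat.card_congr (Subgroup.subgroupOfEquivOfLe (inf_le_right : f.ker ⊓ A ≤ A)).toEquiv]

theorem image_sub_pow {p : ℕ} [hp : Fact p.Prime] (T : G →* AddMonoid.End V)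
    (hexp : ∀ w : V, p • w = 0) {b : G} (hb : b ^ p = 1) : (T b - 1) ^ p = 0 := by
  have hz : ∀ X : AddMonoid.End V, (p : AddMonoid.End V) * X = 0 := fun X => AddMonoidHom.ext fun w => by
    show (p : AddMonoid.End V) (X w) = 0
    rw [AddMonoid.End.natCast_apply, hexp]
  obtain ⟨r, hr⟩ := (Commute.one_right (T b)).neg_right.exists_add_pow_prime_eq hp.out
  rw [← sub_eq_add_neg] at hr
  rw [hr]
  simp only [hz, zero_mul, mul_zero, add_zero]
  rw [← map_pow, hb, map_one]
  rcases hp.out.eq_two_or_odd' with rfl | hodd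
  · rw [neg_one_sq]
    have := hz 1
    rw [mul_one] at this
    rw [one_add_one_eq_two]; exact_mod_cast this
  · rw [hodd.neg_one_pow, add_neg_cancel]

set_option maxHeartbeats 1000000 in
/-- Step: an element of `A` centralizing a component which `A` moves is trivial. -/
theorem step_central {p : ℕ} [hp : Fact p.Prime] (T : G →* AddMonoid.End V)
    (hT : Function.Injective T) (hexp : ∀ w : V, p • w = 0) (A : Subgroup G)
    (hAc : ∀ x ∈ A, ∀ y ∈ A, x * y = y * x) (hpow : ∀ x ∈ A, x ^ p = 1)
    (hmax : ∀ B ≤ A, Nat.card B * Nat.card (fix T B) ≤ Nat.card A * Nat.card (fix T A))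
    (IH : ∀ (G' : Type u) (V' : Type v) [Group G'] [Finite G'] [AddCommGroup V'] [Finite V']
      (T' : G' →* AddMonoid.End V'), Function.Injective T' → (∀ w : V', p • w = 0) →
      ∀ A' : Subgroup G', (∀ x ∈ A', ∀ y ∈ A', x * y = y * x) → (∀ x ∈ A', x ^ p = 1) →
      (∀ B ≤ A', Nat.card B * Nat.card (fix T' B) ≤ Nat.card A' * Nat.card (fix T' A')) →
      Nat.card V' + Nat.card A' < Nat.card V + Nat.card A →
      ∀ K : Subgroup G', Cfsg.IsComponent K → A' ≤ Subgroup.normalizer (K : Set G'))
    {K : Subgroup G} (hK : Cfsg.IsComponent K) {a : G} (haA : a ∈ A)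
    (ha : a ∉ Subgroup.normalizer (K : Set G)) {b : G} (hbA : b ∈ A)
    (hb : ∀ x ∈ K, b * x = x * b) : b = 1 := by
  classical
  by_contra hb1
  let G1 : Subgroup G := Subgroup.centralizer ({b} : Set G)
  have hAG1 : A ≤ G1 := fun c hc => Subgroup.mem_centralizer_singleton_iff.2 (hAc c hc b hbA)
  have hKG1 : K ≤ G1 := fun x hx => Subgroup.mem_centralizer_singleton_iff.2 (hb x hx).symm
  have hG1 : ∀ g : G1, Commute (g : G) b := fun g => Subgroup.mem_centralizer_singleton_iff.1 g.2
  let U : AddSubgroup V :=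
    { carrier := {w | T b w = w}
      add_mem' := fun {u w} (hu : T b u = u) (hw : T b w = w) => by
        show T b (u + w) = u + w
        rw [map_add, hu, hw]
      zero_mem' := map_zero _
      neg_mem' := fun {u} (hu : T b u = u) => by
        show T b (-u) = -u
        rw [map_neg, hu] }
  have hUinv : ∀ (g : G1) (w : U), T (g : G) (w : V) ∈ U := fun g w => by
    show T b _ = _
    rw [T_comm T (hG1 g).symm, show T b (w : V) = w from w.2]
  obtain ⟨ρ, hρ⟩ : ∃ ρ : G1 →* AddMonoid.End U,
      ∀ (g : G1) (w : U), ((ρ g w : U) : V) = T (g : G) w :=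
    ⟨{ toFun := fun g =>
          { toFun := fun w => ⟨T (g : G) (w : V), hUinv g w⟩
            map_zero' := Subtype.ext (map_zero _)
            map_add' := fun u w => Subtype.ext (map_add _ _ _) }
       map_one' := AddMonoidHom.ext fun w => Subtype.ext (by
          show T ((1 : G1) : G) (w : V) = w
          rw [OneMemClass.coe_one, map_one]; rfl)
       map_mul' := fun g h => AddMonoidHom.ext fun w => Subtype.ext (by
          show T ((g * h : G1) : G) (w : V) = T (g : G) (T (h : G) w)
          rw [Subgroup.coe_mul, T_mul]) }, fun g w => rfl⟩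
  let Tb : G1 ⧸ ρ.ker →* AddMonoid.End U := QuotientGroup.lift ρ.ker ρ le_rfl
  have hTb : Function.Injective Tb := by
    intro q q' h
    obtain ⟨g, rfl⟩ := QuotientGroup.mk_surjective q
    obtain ⟨g', rfl⟩ := QuotientGroup.mk_surjective q'
    refine QuotientGroup.eq.2 (show ρ (g⁻¹ * g') = 1 from ?_)
    rw [map_mul, show ρ g' = ρ g from h.symm, ← map_mul, inv_mul_cancel, map_one]
  let π : G1 →* G1 ⧸ ρ.ker := QuotientGroup.mk' ρ.ker
  have hπT : ∀ g, Tb (π g) = ρ g := fun g => rfl
  have hπs : Function.Surjective π := QuotientGroup.mk'_surjective _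
  let A1 : Subgroup G1 := A.subgroupOf G1
  let Ab : Subgroup (G1 ⧸ ρ.ker) := A1.map π
  have hUc : Nat.card U < Nat.card V := by
    have hne : U ≠ ⊤ := fun h => hb1 (hT (AddMonoidHom.ext fun w => by
      rw [map_one]
      exact (h ▸ AddSubgroup.mem_top w : w ∈ U)))
    refine lt_of_le_of_ne (Nat.card_le_card_of_injective (Subtype.val : U → V) Subtype.val_injective)
      fun h => hne ?_
    exact AddSubgroup.eq_top_of_card_eq U h
  have hAbc : Nat.card Ab ≤ Nat.card A := by
    refine (Subgroup.card_map_dvd _ _ |> Nat.le_of_dvd Nat.card_pos).trans ?_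
    exact (Nat.card_congr (Subgroup.subgroupOfEquivOfLe hAG1).toEquiv).le
  have hbest : ∀ B ≤ Ab, Nat.card B * Nat.card (fix Tb B) ≤ Nat.card Ab * Nat.card (fix Tb Ab) := by
    intro B hB
    have key : ∀ C : Subgroup (G1 ⧸ ρ.ker), C ≤ Ab → ∃ D ≤ A,
        Nat.card D = Nat.card C * Nat.card ↥(π.ker ⊓ A1) ∧ Nat.card (fix T D) = Nat.card (fix Tb C) ∧
        (C = Ab → D = A) := by
      intro C hC
      let D1 : Subgroup G1 := C.comap π ⊓ A1
      have hmap : D1.map π = C := by
        refine le_antisymm ((Subgroup.map_mono inf_le_left).trans (Subgroup.map_comap_le _ _)) ?_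
        intro c hc
        obtain ⟨g, hg, rfl⟩ := hC hc
        exact ⟨g, ⟨hc, hg⟩, rfl⟩
      have hker : π.ker ⊓ D1 = π.ker ⊓ A1 := by
        refine le_antisymm (inf_le_inf le_rfl inf_le_right) ?_
        intro g hg
        refine ⟨hg.1, ?_, hg.2⟩
        show π g ∈ C
        rw [show π g = 1 from hg.1]
        exact C.one_mem
      refine ⟨D1.map G1.subtype, ?_, ?_, ?_, ?_⟩
      · rintro _ ⟨g, hg, rfl⟩
        exact hg.2
      · rw [Subgroup.card_map_of_injective G1.subtype_injective, card_eq_card_map_mul π D1, hmap, hker]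
      · have hbD : (⟨b, hAG1 hbA⟩ : G1) ∈ D1 := by
          refine ⟨?_, hbA⟩
          show π _ ∈ C
          have : π ⟨b, hAG1 hbA⟩ = 1 := hTb (by
            rw [hπT, map_one]
            exact AddMonoidHom.ext fun w => Subtype.ext ((hρ _ w).trans w.2))
          rw [this]; exact C.one_mem
        let f : fix T (D1.map G1.subtype) → fix Tb C := fun w =>
          ⟨⟨(w : V), w.2 b ⟨_, hbD, rfl⟩⟩, fun c hc => by
            rw [← hmap] at hc
            obtain ⟨g, hg, rfl⟩ := hc
            rw [hπT]
            exact Subtype.ext ((hρ g _).trans (w.2 (g : G) ⟨g, hg, rfl⟩))⟩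
        have hf : Function.Bijective f := by
          refine ⟨fun w w' h => ?_, fun w => ⟨⟨((w : U) : V), ?_⟩, rfl⟩⟩
          · exact Subtype.ext (congrArg (fun z : fix Tb C => ((z : U) : V)) h)
          · rintro _ ⟨g, hg, rfl⟩
            have := congrArg Subtype.val (w.2 (π g) hg.1)
            rw [hπT] at this
            exact (hρ g _).symm.trans this
        exact Nat.card_congr (Equiv.ofBijective f hf)
      · rintro rfl
        have : D1 = A1 := inf_eq_right.2 (Subgroup.map_le_iff_le_comap.1 le_rfl)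
        rw [this, Subgroup.map_subgroupOf_eq_of_le hAG1]
    obtain ⟨D, hDA, hD1, hD2, -⟩ := key B hB
    obtain ⟨D', -, hD1', hD2', hD3⟩ := key Ab le_rfl
    have := hmax D hDA
    rw [← hD3 rfl, hD1, hD2, hD1', hD2', mul_right_comm, mul_right_comm (Nat.card Ab)] at this
    exact Nat.le_of_mul_le_mul_right this Nat.card_pos
  have hexpU : ∀ w : U, p • w = 0 := fun w => Subtype.ext (hexp w)
  let K1 : Subgroup G1 := K.subgroupOf G1
  have hK1 : Cfsg.IsComponent K1 := IsComponent.subgroupOf hK hKG1
  have hKtriv : K1 ≤ ρ.ker := by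
    by_contra hKn
    let Kb : Subgroup (G1 ⧸ ρ.ker) := K1.map π
    have hne : Kb ≠ ⊥ := fun h => hKn fun x hx => by
      have : π x ∈ Kb := ⟨x, hx, rfl⟩
      rw [h, Subgroup.mem_bot] at this
      exact (QuotientGroup.eq_one_iff x).1 this
    have hKb : Cfsg.IsComponent Kb := by
      refine ⟨hK1.1.map hπs, ?_⟩
      have : Nontrivial Kb := (Subgroup.nontrivial_iff_ne_bot Kb).2 hne
      exact IsQuasisimple.of_surjective hK1.2 (π.subgroupMap_surjective K1)
    have hN := IH (G1 ⧸ ρ.ker) U Tb hTb hexpU Ab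
      (by rintro _ ⟨x, hx, rfl⟩ _ ⟨y, hy, rfl⟩
          rw [← map_mul, ← map_mul]; congr 1; exact Subtype.ext (hAc x hx y hy))
      (by rintro _ ⟨x, hx, rfl⟩
          rw [← map_pow]
          have : x ^ p = 1 := Subtype.ext (hpow x hx)
          rw [this, map_one])
      hbest (by omega) Kb hKb
    have haN := hN (show π ⟨a, hAG1 haA⟩ ∈ Ab from ⟨_, haA, rfl⟩)
    refine hne (eq_bot_of_perfect_of_comm (IsComponent.perfect hKb) fun x hx => ?_)
    refine Subgroup.mem_centralizer_iff.2 fun y hy => ?_
    obtain ⟨y1, hy1, rfl⟩ := hy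
    have hx' := (Subgroup.mem_normalizer_iff''.1 haN x).1 hx
    obtain ⟨x1, hx1, hx1e⟩ := hx'
    have hxe : x = π (⟨a, hAG1 haA⟩ * x1 * (⟨a, hAG1 haA⟩ : G1)⁻¹) := by
      rw [map_mul, map_mul, map_inv, hx1e]; group
    rw [hxe, ← map_mul, ← map_mul]
    congr 1
    apply Subtype.ext
    have hne' : MulAut.conj a • K ≠ K := fun h => ha (mem_normalizer_iff_smul.2 h)
    have hmem : a * (x1 : G) * a⁻¹ ∈ MulAut.conj a • K := by
      rw [mem_smul_conj]
      simpa [mul_assoc] using (show (x1 : G) ∈ K from hx1)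
    exact Subgroup.mem_centralizer_iff.1
      (IsComponent.commute (IsComponent.conj hK a) hK hne' hmem) y1 hy1
  have hfixU : ∀ x ∈ K, ∀ w ∈ U, T x w = w := fun x hx w hw => by
    have h1 : ρ ⟨x, hKG1 hx⟩ = 1 := hKtriv (show (⟨x, hKG1 hx⟩ : G1) ∈ K1 from hx)
    exact (hρ ⟨x, hKG1 hx⟩ ⟨w, hw⟩).symm.trans
      (congrArg (fun f : AddMonoid.End U => ((f ⟨w, hw⟩ : U) : V)) h1)
  have hall : ∀ j : ℕ, ∀ w : V, ((T b - 1) ^ j) w = 0 → ∀ x ∈ K, T x w = w := by
    intro j
    induction j with
    | zero => intro w hw x _; rw [show w = 0 from hw, map_zero]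
    | succ j ih =>
      intro w hw x hx
      rw [pow_succ] at hw
      have hd : ∀ x ∈ K, T x (T b w - w) = T b w - w := ih (T b w - w) hw
      refine fix_of_sub hK.2.1 (T.comp K.subtype) w (fun g g' => ?_) ⟨x, hx⟩
      refine hfixU g' g'.2 _ ?_
      show T b (T (g : G) w - w) = T (g : G) w - w
      have := hd g g.2
      rw [map_sub, T_comm T (hb g g.2).symm] at this
      rw [map_sub]
      linear_combination (norm := abel) this
  refine IsComponent.ne_bot hK ((Subgroup.eq_bot_iff_forall _).2 fun x hx => hT (AddMonoidHom.ext fun w => ?_))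
  rw [map_one]
  exact hall p w (by rw [image_sub_pow T hexp (hpow b hbA)]; rfl) x hx

set_option maxHeartbeats 1000000 in
/-- A best offender normalizes every component. -/
theorem offender_normalizes {p : ℕ} [hp : Fact p.Prime] : ∀ (n : ℕ) (G : Type u) (V : Type v)
    [Group G] [Finite G] [AddCommGroup V] [Finite V] (T : G →* AddMonoid.End V),
    Function.Injective T → (∀ w : V, p • w = 0) →
    ∀ A : Subgroup G, (∀ x ∈ A, ∀ y ∈ A, x * y = y * x) → (∀ x ∈ A, x ^ p = 1) →
    (∀ B ≤ A, Nat.card B * Nat.card (fix T B) ≤ Nat.card A * Nat.card (fix T A)) →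
    Nat.card V + Nat.card A ≤ n →
    ∀ K : Subgroup G, Cfsg.IsComponent K → A ≤ Subgroup.normalizer (K : Set G) := by
  intro n
  induction n using Nat.strong_induction_on with
  | _ n ih =>
    intro G V _ _ _ _ T hT hexp A hAc hpow hmax hn K hK
    classical
    by_contra hAK
    obtain ⟨a, haA, ha⟩ := SetLike.not_le_iff_exists.1 hAK
    have IH : ∀ (G' : Type u) (V' : Type v) [Group G'] [Finite G'] [AddCommGroup V'] [Finite V']
        (T' : G' →* AddMonoid.End V'), Function.Injective T' → (∀ w : V', p • w = 0) →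
        ∀ A' : Subgroup G', (∀ x ∈ A', ∀ y ∈ A', x * y = y * x) → (∀ x ∈ A', x ^ p = 1) →
        (∀ B ≤ A', Nat.card B * Nat.card (fix T' B) ≤ Nat.card A' * Nat.card (fix T' A')) →
        Nat.card V' + Nat.card A' < Nat.card V + Nat.card A →
        ∀ K : Subgroup G', Cfsg.IsComponent K → A' ≤ Subgroup.normalizer (K : Set G') :=
      fun G' V' _ _ _ _ T' h1 h2 A' h3 h4 h5 h6 =>
        ih (Nat.card V' + Nat.card A') (by omega) G' V' T' h1 h2 A' h3 h4 h5 le_rfl
    have hcen : ∀ b ∈ A, (∀ x ∈ K, b * x = x * b) → b = 1 := fun b hbA hb =>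
      step_central T hT hexp A hAc hpow hmax IH hK haA ha hbA hb
    -- replacement
    let TA : A →* AddMonoid.End V := T.comp A.subtype
    have hfixA : ∀ C : Subgroup A, fix TA C = fix T (C.map A.subtype) := fun C => by
      ext w
      exact ⟨fun h c ⟨d, hd, e⟩ => e ▸ h d hd, fun h c hc => h _ ⟨c, hc, rfl⟩⟩
    have htop : (⊤ : Subgroup A).map A.subtype = A := by
      rw [← MonoidHom.range_eq_map, Subgroup.range_subtype]
    have hmeas : ∀ C : Subgroup A, meas TA C
        = Nat.card (C.map A.subtype) * Nat.card (fix T (C.map A.subtype)) := fun C => by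
      rw [meas, hfixA, Subgroup.card_map_of_injective A.subtype_injective]
    have hcommA : ∀ c d : A, ∀ w, TA c (TA d w) = TA d (TA c w) := fun c d w =>
      T_comm T (hAc c c.2 d d.2) w
    have hmaxA : ∀ C : Subgroup A, meas TA C ≤ meas TA ⊤ := fun C => by
      rw [hmeas, hmeas, htop]; exact hmax _ (Subgroup.map_subtype_le C)
    letI := Fintype.ofFinite V
    obtain ⟨hS, hSfix⟩ := replacement TA hcommA hmaxA (Finset.univ : Finset V)
    rw [Finset.coe_univ] at hS hSfix
    set S0 := (stab TA (comm TA (Set.univ : Set V))).map A.subtype with hS0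
    have hS0A : S0 ≤ A := Subgroup.map_subtype_le _
    have hS0q : ∀ b ∈ S0, ∀ c ∈ A, ∀ w, T b (T c w - w) = T c w - w := by
      rintro _ ⟨b, hb, rfl⟩ c hc w
      have h1 : T (b : G) (w - T c w) = w - T c w :=
        hb _ (AddSubgroup.subset_closure ⟨w, trivial, ⟨c, hc⟩, rfl⟩)
      rw [← neg_sub w (T c w), map_neg, show T (A.subtype b) (w - T c w) = w - T c w from h1]
    have hS0ne : S0 ≠ ⊥ := by
      intro h
      have h1 : stab TA (comm TA (Set.univ : Set V)) = ⊥ :=
        (Subgroup.map_eq_bot_iff_of_injective _ A.subtype_injective).1 h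
      rw [h1] at hSfix
      have h2 : fix TA (⊥ : Subgroup A) = ⊤ := eq_top_iff.2 fun w _ c hc => by
        rw [Subgroup.mem_bot] at hc
        rw [hc, map_one]; rfl
      have h3 := trivial_of_sup_eq_top TA hcommA hexp
        (fun c => by rw [← map_pow, show c ^ p = 1 from Subtype.ext (hpow c c.2), map_one])
        (by rw [← hSfix, h2]) ⟨a, haA⟩
      have : a = 1 := hT (AddMonoidHom.ext fun w => by rw [map_one]; exact h3 w)
      exact ha (this ▸ Subgroup.one_mem _)
    have hS0eq : S0 = A ∨ S0 ≤ Subgroup.normalizer (K : Set G) := by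
      by_cases h : S0 = A
      · exact Or.inl h
      have hlt : Nat.card S0 < Nat.card A := by
        refine lt_of_le_of_ne (Subgroup.card_le_of_le hS0A) fun he => h ?_
        exact Subgroup.eq_of_le_of_card_ge hS0A he.ge
      refine Or.inr (IH G V T hT hexp S0 (fun x hx y hy => hAc x (hS0A hx) y (hS0A hy))
        (fun x hx => hpow x (hS0A hx)) (fun B hB => ?_) (by omega) K hK)
      rw [hS0, ← hmeas, hS, hmeas, htop]
      exact hmax B (hB.trans hS0A)
    -- `b₀`
    have hb0 : A ⊓ Subgroup.normalizer (K : Set G) ≠ ⊥ →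
        ∃ b0 ∈ A ⊓ Subgroup.normalizer (K : Set G), b0 ≠ 1 ∧
          ∀ c ∈ A, ∀ w, T b0 (T c w - w) = T c w - w := by
      intro hB
      rcases hS0eq with h | h
      · obtain ⟨b, hb, hb1⟩ := (Subgroup.bot_or_exists_ne_one _).resolve_left hB
        exact ⟨b, hb, hb1, hS0q b (h ▸ hb.1)⟩
      · obtain ⟨b, hb, hb1⟩ := (Subgroup.bot_or_exists_ne_one _).resolve_left hS0ne
        exact ⟨b, ⟨hS0A hb, h hb⟩, hb1, hS0q b hb⟩
    -- the diagonal fixes `[V, c]`
    have hdiag : ∀ c ∈ A, c ∉ Subgroup.normalizer (K : Set G) → ∃ ψ : ↥K →* G,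
        (∀ x, Commute c (ψ x)) ∧ (∀ x : K, (x : G)⁻¹ * ψ x ∈ Subgroup.centralizer (K : Set G)) ∧
        (∀ x : K, ψ x = ((x : G) * c) ^ p) ∧ ∀ x w, T (ψ x) (T c w - w) = T c w - w := by
      intro c hcA hc
      obtain ⟨ψ, hψo, hψa, hψc, hψe⟩ := exists_diagonal hK (hpow c hcA) hc
      refine ⟨ψ, hψa, hψc, hψe, ?_⟩
      let L : Subgroup G :=
        { carrier := {g | ∀ w, T g (T c w - w) = T c w - w}
          one_mem' := fun w => by rw [map_one]; rfl
          mul_mem' := fun {g h} hg hh w => by rw [T_mul, hh, hg]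
          inv_mem' := fun {g} hg w => by nth_rewrite 1 [← hg w]; exact T_inv T g _ }
      have hnorm : ∀ y, ∀ g ∈ L, ψ y * g * (ψ y)⁻¹ ∈ L := by
        intro y g hg w
        have h1 : T (ψ y)⁻¹ (T c w - w) = T c (T (ψ y)⁻¹ w) - T (ψ y)⁻¹ w := by
          rw [map_sub, T_comm T (hψa y).inv_right.symm]
        rw [T_mul, T_mul, h1, hg, ← h1, ← T_mul T (ψ y) (ψ y)⁻¹, mul_inv_cancel, map_one]
        rfl
      let M : Subgroup K := L.comap ψ
      have hMn : M.Normal := ⟨fun m hm y => by
        show ψ (y * m * y⁻¹) ∈ L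
        rw [map_mul, map_mul, map_inv]
        exact hnorm y _ hm⟩
      suffices hM : M = ⊤ from fun x w => (show x ∈ M from hM ▸ Subgroup.mem_top x) w
      have hbc : ∀ b ∈ A, ∀ z : K, ∀ hz : b * z * b⁻¹ ∈ K, b * ψ z * b⁻¹ = ψ ⟨_, hz⟩ := by
        intro b hb z hz
        have e : b * c * b⁻¹ = c := by rw [hAc b hb c hcA, mul_inv_cancel_right]
        rw [hψe, hψe, ← conj_pow]
        congr 1
        calc b * ((z : G) * c) * b⁻¹ = b * z * b⁻¹ * (b * c * b⁻¹) := by group
          _ = b * z * b⁻¹ * c := by rw [e]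
      by_cases hB : A ⊓ Subgroup.normalizer (K : Set G) = ⊥
      · have hS0A' : S0 = A := hS0eq.resolve_right fun h => hS0ne (le_bot_iff.1
          (hB ▸ le_inf hS0A h))
        by_cases hA' : A ≤ Subgroup.zpowers c
        · -- `A` has order `p`
          let d : V →+ V := (show AddMonoid.End V from T c - 1)
          have hd : ∀ w, d w = T c w - w := fun w => rfl
          have hker : fix T A ≤ d.ker ∧ d.ker ≤ fix T A := by
            refine ⟨fun w hw => by rw [AddMonoidHom.mem_ker, hd, hw c hcA, sub_self], fun w hw g hg => ?_⟩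
            obtain ⟨k, rfl⟩ := Subgroup.mem_zpowers_iff.1 (hA' hg)
            have : c ∈ ({ carrier := {g | T g w = w}
                          one_mem' := by show T 1 w = w; rw [map_one]; rfl
                          mul_mem' := fun {g h} (hg : T g w = w) (hh : T h w = w) => by
                            show T (g * h) w = w
                            rw [T_mul, hh, hg]
                          inv_mem' := fun {g} (hg : T g w = w) => by
                            show T g⁻¹ w = w
                            nth_rewrite 1 [← hg]; exact T_inv T g w } : Subgroup G) := by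
              show T c w = w
              rw [AddMonoidHom.mem_ker, hd, sub_eq_zero] at hw
              exact hw
            exact Subgroup.zpow_mem _ this k
          have hcard : Nat.card d.range ≤ p := by
            have h1 := hmax ⊥ bot_le
            have h2 : fix T (⊥ : Subgroup G) = ⊤ := eq_top_iff.2 fun w _ g hg => by
              rw [Subgroup.mem_bot] at hg
              rw [hg, map_one]; rfl
            rw [h2, Subgroup.card_bot, one_mul, AddSubgroup.card_top,
              le_antisymm hker.1 hker.2] at h1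
            have h3 : Nat.card A ≤ p := (Subgroup.card_le_of_le hA').trans (by
              rw [Nat.card_zpowers]; exact orderOf_le_of_pow_eq_one hp.out.pos (hpow c hcA))
            have h4 := AddSubgroup.card_eq_card_quotient_mul_card_addSubgroup d.ker
            rw [Nat.card_congr (QuotientAddGroup.quotientKerEquivRange d).toEquiv] at h4
            rw [h4] at h1
            exact (Nat.le_of_mul_le_mul_right h1 Nat.card_pos).trans h3
          have hψd : ∀ x, ∀ w ∈ d.range, T (ψ x) w ∈ d.range := by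
            rintro x _ ⟨w, rfl⟩
            refine ⟨T (ψ x) w, ?_⟩
            rw [hd, hd, map_sub, T_comm T (hψa x).symm]
          refine perfect_eq_top hK.2.1 M fun x y w => ?_
          set e := T c w - w with he
          by_cases he0 : e = 0
          · rw [he0, map_zero]
          have heD : e ∈ d.range := ⟨w, hd w⟩
          have hz : AddSubgroup.zmultiples e = d.range := by
            refine AddSubgroup.eq_of_le_of_card_ge (AddSubgroup.zmultiples_le.2 heD) ?_
            rw [Nat.card_zmultiples, addOrderOf_eq_prime (hexp e) he0]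
            exact hcard
          have hsc : ∀ z, ∃ k : ℤ, T (ψ z) e = k • e := fun z => by
            obtain ⟨k, hk⟩ := AddSubgroup.mem_zmultiples_iff.1 (hz ▸ hψd z e heD)
            exact ⟨k, hk.symm⟩
          have hcm : ∀ z z', T (ψ z) (T (ψ z') e) = T (ψ z') (T (ψ z) e) := fun z z' => by
            obtain ⟨k, hk⟩ := hsc z; obtain ⟨l, hl⟩ := hsc z'
            rw [hl, hk, map_zsmul, map_zsmul, hk, hl, smul_comm]
          show T (ψ ⁅x, y⁆) e = e
          rw [map_commutatorElement, commutatorElement_def, T_mul, T_mul, T_mul]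
          obtain ⟨m, hm⟩ : ∃ m : ℤ, T (ψ x)⁻¹ (T (ψ y)⁻¹ e) = m • e := by
            obtain ⟨k, hk⟩ := hsc y⁻¹
            obtain ⟨l, hl⟩ := hsc x⁻¹
            rw [map_inv] at hk hl
            exact ⟨k * l, by rw [hk, map_zsmul, hl, mul_smul]⟩
          rw [hm, map_zsmul, map_zsmul, hcm, ← map_zsmul, ← map_zsmul, ← hm,
            ← T_mul T (ψ x) (ψ x)⁻¹, mul_inv_cancel, map_one]
          show T (ψ y) (T (ψ y)⁻¹ e) = e
          rw [← T_mul, mul_inv_cancel, map_one]
          rfl
        · obtain ⟨b, hbA, hbc'⟩ := SetLike.not_le_iff_exists.1 hA'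
          refine perfect_eq_top hK.2.1 M fun y x => ?_
          have hout : ∀ k : ℤ, c ^ k * b ∉ Subgroup.normalizer (K : Set G) := fun k hk => by
            refine hbc' ⟨-k, ?_⟩
            have h1 : c ^ k * b = 1 := Subgroup.mem_bot.1 (hB ▸
              (⟨A.mul_mem (A.zpow_mem hcA k) hbA, hk⟩ : c ^ k * b ∈ A ⊓ Subgroup.normalizer (K : Set G)))
            show c ^ (-k) = b
            rw [zpow_neg]
            exact inv_eq_of_mul_eq_one_right h1
          have hcb : Commute c b := hAc c hcA b hbA
          have hdisj : (orbitProd c K).map (MulAut.conj b).toMonoidHom ≤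
              Subgroup.centralizer (orbitProd c K : Set G) := by
            rw [orbitProd, Subgroup.map_iSup]
            refine iSup_le fun i => ?_
            rw [Subgroup.le_centralizer_iff]
            refine iSup_le fun j => ?_
            rw [map_conj_eq_smul]
            refine IsComponent.commute (IsComponent.conj hK _) (IsComponent.conj (IsComponent.conj hK _) _)
              fun h => ?_
            rw [conj_smul_conj_smul] at h
            have h2 := congrArg (fun S => MulAut.conj (c ^ j)⁻¹ • S) h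
            simp only [conj_smul_conj_smul, inv_mul_cancel, map_one, one_smul] at h2
            refine hout ((i : ℤ) - j) ?_
            rw [mem_normalizer_iff_smul]
            refine Eq.trans ?_ h2.symm
            congr 2
            rw [zpow_sub, zpow_natCast, zpow_natCast, ((hcb.pow_left i).symm).eq, ← mul_assoc,
              ((Commute.refl c).pow_pow j i).inv_left.eq]
          have hδ : ψ x * b * (ψ x)⁻¹ * b⁻¹ ∈ L := by
            have hbL : b ∈ L := hS0q b (hS0A' ▸ hbA) c hcA
            exact L.mul_mem (hnorm x b hbL) (L.inv_mem hbL)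
          have h1 := L.mul_mem (hnorm y _ hδ) (L.inv_mem hδ)
          have hXc : Commute (ψ y)⁻¹ (b * (ψ x)⁻¹ * b⁻¹) :=
            (Commute.inv_left (Subgroup.mem_centralizer_iff.1
              (hdisj ⟨_, Subgroup.inv_mem _ (hψo x), rfl⟩) (ψ y) (hψo y)))
          show ψ ⁅y, x⁆ ∈ L
          rw [map_commutatorElement, commutatorElement_def]
          convert h1 using 1
          calc ψ y * ψ x * (ψ y)⁻¹ * (ψ x)⁻¹
              = ψ y * ψ x * ((ψ y)⁻¹ * (b * (ψ x)⁻¹ * b⁻¹)) * (b * (ψ x)⁻¹ * b⁻¹)⁻¹ * (ψ x)⁻¹ := by group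
            _ = ψ y * ψ x * ((b * (ψ x)⁻¹ * b⁻¹) * (ψ y)⁻¹) * (b * (ψ x)⁻¹ * b⁻¹)⁻¹ * (ψ x)⁻¹ := by
              rw [hXc.eq]
            _ = _ := by group
      · obtain ⟨b, ⟨hbA, hbN⟩, hb1, hbq⟩ := hb0 hB
        refine (IsQuasisimple.eq_top_or_le_center_of_subnormal hK.2 hMn.isSubnormal).resolve_right
          fun hMc => hb1 (hcen b hbA fun x hx => ?_)
        refine (Subgroup.mem_centralizer_iff.1
          (centralizes_of_mod_center (e := b) (IsComponent.perfect hK) fun y hy => ?_) x hx).symm
        have hbL : b ∈ L := hbq c hcA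
        have hby : b * y * b⁻¹ ∈ K := (Subgroup.mem_normalizer_iff.1 hbN y).1 hy
        have hmem : (⟨b * y * b⁻¹, hby⟩ : K) * (⟨y, hy⟩ : K)⁻¹ ∈ M := by
          show ψ _ ∈ L
          rw [map_mul, map_inv, ← hbc b hbA ⟨y, hy⟩ hby]
          have := L.mul_mem hbL (L.inv_mem (hnorm ⟨y, hy⟩ b hbL))
          convert this using 1
          group
        refine ⟨K.mul_mem hby (K.inv_mem hy), Subgroup.mem_centralizer_iff.2 fun z hz => ?_⟩
        exact congrArg Subtype.val (Subgroup.mem_center_iff.1 (hMc hmem) ⟨z, hz⟩)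
    obtain ⟨ψ, hψa, hψc, hψe, hid⟩ := hdiag a haA ha
    by_cases hp2 : p = 2
    · subst hp2
      have h2V : ∀ w : V, w + w = 0 := fun w => by rw [← two_nsmul]; exact hexp w
      have hA2 : ∀ x ∈ A, x * x = 1 := fun x hx => by rw [← pow_two]; exact hpow x hx
      have hconj : ∀ g : G, g ∉ Subgroup.normalizer (K : Set G) → MulAut.conj g • K ≠ K :=
        fun g hg h => hg (mem_normalizer_iff_smul.2 h)
      have hD : ∀ c ∈ A, c ∉ Subgroup.normalizer (K : Set G) →
          (∀ x ∈ K, ∀ w, T (x * (c * x * c)) (T c w - w) = T c w - w) ∧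
          ∀ x ∈ K, Commute (x * (c * x * c)) c := by
        intro c hcA hc
        obtain ⟨ψ', h1, h2, h3, h4⟩ := hdiag c hcA hc
        have e : ∀ x : K, ψ' x = x * (c * x * c) := fun x => by
          rw [h3, pow_two]; simp only [mul_assoc]
        exact ⟨fun x hx w => e ⟨x, hx⟩ ▸ h4 ⟨x, hx⟩ w, fun x hx => e ⟨x, hx⟩ ▸ (h1 ⟨x, hx⟩).symm⟩
      by_cases hcover : ∀ c ∈ A, c ∈ Subgroup.normalizer (K : Set G) ∨
          a * c ∈ Subgroup.normalizer (K : Set G)
      · refine two_endgame T hT h2V hK A hAc hA2 haA (hconj a ha) hcover (hD a haA ha).1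
          (hD a haA ha).2 ?_ (fun b hb hb1 => ?_) hb0
        · have h1 := hmax ⊥ bot_le
          have h2 : fix T (⊥ : Subgroup G) = ⊤ := eq_top_iff.2 fun w _ g hg => by
            rw [Subgroup.mem_bot] at hg
            rw [hg, map_one]; rfl
          rw [h2, Subgroup.card_bot, one_mul, AddSubgroup.card_top] at h1
          exact h1
        · by_contra hno
          push Not at hno
          exact hb1 (hcen b hb.1 hno)
      · push Not at hcover
        obtain ⟨c, hcA, hc, hac⟩ := hcover
        exact two_far T hT h2V hK (hA2 a haA) (hA2 c hcA) (hAc a haA c hcA) (hconj a ha) (hconj c hc)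
          (hconj (c * a) (by rwa [hAc c hcA a haA])) (hD a haA ha).1 (hD c hcA hc).1
          (hD a haA ha).2 (hD c hcA hc).2
    · exact odd_orbit_absurd T hp2 hT hexp hK (hpow a haA) ha hψa hψc hψe hid

end Cfsg.Agent.Invol.PGV
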