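import Mathlib

/-!
Finite simple rings of characteristic two with an anti-automorphism `ι` such that `r + ι r` is
always central, and a counting bound for groups acting on them.
-/

set_option autoImplicit false

namespace Cfsg.Agent.Invol.PGV

open scoped commutatorElement

/-- A perfect group has no nontrivial map with commuting values. -/
theorem perfect_hom_trivial {K M : Type*} [Group K] [Monoid M] (hK : Group.IsPerfect K) (f : K →* M)
    (hc : ∀ a b, f a * f b = f b * f a) (x : K) : f x = 1 := by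
  let S : Subgroup K :=
    { carrier := {x | f x = 1}
      one_mem' := map_one f
      mul_mem' := fun {a b} (ha : f a = 1) (hb : f b = 1) => by
        show f (a * b) = 1
        rw [map_mul, ha, hb, one_mul]
      inv_mem' := fun {a} (ha : f a = 1) => by
        show f a⁻¹ = 1
        rw [← one_mul (f a⁻¹)]
        nth_rewrite 1 [← ha]
        rw [← map_mul, mul_inv_cancel, map_one] }
  have h : commutator K ≤ S := by
    rw [_root_.commutator_def, Subgroup.commutator_le]
    intro a _ b _
    show f (a * b * a⁻¹ * b⁻¹) = 1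
    rw [map_mul, map_mul, map_mul, mul_assoc (f a) (f b) (f a⁻¹), hc b a⁻¹, ← mul_assoc, ← map_mul, mul_inv_cancel, map_one, one_mul, ← map_mul,
      mul_inv_cancel, map_one]
  rw [hK.commutator_eq_top] at h
  exact h (Subgroup.mem_top x)

/-- A subgroup of a perfect group containing all commutators is everything. -/
theorem perfect_eq_top {K : Type*} [Group K] (hK : Group.IsPerfect K) (S : Subgroup K)
    (h : ∀ a b : K, ⁅a, b⁆ ∈ S) : S = ⊤ := by
  refine top_unique ?_
  conv_lhs => rw [← hK.commutator_eq_top]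
  rw [_root_.commutator_def, Subgroup.commutator_le]
  exact fun a _ b _ => h a b

section Ring

variable {S : Type*} [Ring S]

/-- The standing hypotheses. -/
structure QRing (ι : S →+ S) : Prop where
  two : ∀ r : S, r + r = 0
  prime : ∀ r s : S, (∀ x, r * x * s = 0) → r = 0 ∨ s = 0
  unit : ∀ z ∈ Subring.center S, z ≠ 0 → ∃ w ∈ Subring.center S, z * w = 1
  anti : ∀ r s, ι (r * s) = ι s * ι r
  one : ι 1 = 1
  trace : ∀ r, r + ι r ∈ Subring.center S
  noncomm : ∃ a b : S, a * b ≠ b * a

variable {ι : S →+ S}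

theorem QRing.eq_of_add (h : QRing ι) {a b : S} (hab : a + b = 0) : a = b :=
  (eq_neg_of_add_eq_zero_left hab).trans (neg_eq_of_add_eq_zero_left (h.two b))

theorem QRing.add_add (h : QRing ι) (a b : S) : a + (a + b) = b := by
  rw [← add_assoc, h.two, zero_add]

theorem QRing.cancel (h : QRing ι) {z n : S} (hz : z ∈ Subring.center S) (hn : n ≠ 0)
    (he : z * n = 0) : z = 0 := by
  by_contra h0
  obtain ⟨w, -, hw⟩ := h.unit z hz h0
  refine hn ?_
  calc n = (z * w) * n := by rw [hw, one_mul]
    _ = (w * z) * n := by rw [Subring.mem_center_iff.1 hz w]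
    _ = 0 := by rw [mul_assoc, he, mul_zero]

theorem QRing.sq_zero_fixed (h : QRing ι) {r : S} (hr : r * r = 0) : ι r = r := by
  have hz := h.trace r
  have hc : r * ι r = ι r * r := by
    have := Subring.mem_center_iff.1 hz r
    rw [mul_add, add_mul, hr] at this
    simpa using this
  have hι : ι r * ι r = 0 := by rw [← h.anti, hr, map_zero]
  have h2 : (r + ι r) * (r + ι r) = 0 := by
    rw [mul_add, add_mul, add_mul, hr, hι, zero_add, add_zero, hc, h.two]
  by_cases h0 : r + ι r = 0
  · exact (h.eq_of_add h0).symm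
  · exact absurd (h.cancel hz h0 h2) h0

/-- A matrix frame. -/
structure Frame (ι : S →+ S) (e n y : S) : Prop where
  idem : e * e = e
  en : e * n = n
  ne : n * e = 0
  ye : y * e = y
  ey : e * y = 0
  ny : n * y = e
  yn : y * n = 1 + e
  nn : n * n = 0
  yy : y * y = 0
  n0 : n ≠ 0
  ιe : ι e = 1 + e
  ιn : ι n = n
  ιy : ι y = y
  fixC : ∀ z ∈ Subring.center S, ι z = z
  span : ∀ r, ∃ α ∈ Subring.center S, ∃ β ∈ Subring.center S, ∃ γ ∈ Subring.center S,
    ∃ δ ∈ Subring.center S, r = α * e + β * (1 + e) + γ * n + δ * y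

theorem QRing.exists_frame (h : QRing ι) {n : S} (hn : n ≠ 0) (hnn : n * n = 0) :
    ∃ e y, Frame ι e n y := by
  have hιn : ι n = n := h.sq_zero_fixed hnn
  have key : ∀ s, n * s * n = (n * s + ι (n * s)) * n := by
    intro s
    rw [add_mul, h.anti, hιn, mul_assoc (ι s), hnn, mul_zero, add_zero]
  obtain ⟨s0, hs0⟩ : ∃ s, n * s + ι (n * s) ≠ 0 := by
    by_contra hno
    push Not at hno
    have := h.prime n n fun x => by rw [key, hno, zero_mul]
    exact hn (this.elim id id)
  obtain ⟨w, hwc, hw⟩ := h.unit _ (h.trace _) hs0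
  set s := s0 * w with hs
  have hnsn : n * s * n = n := by
    calc n * s * n = n * s0 * (w * n) := by simp only [hs, mul_assoc]
      _ = n * s0 * n * w := by rw [← Subring.mem_center_iff.1 hwc n]; simp only [mul_assoc]
      _ = n * ((n * s0 + ι (n * s0)) * w) := by
          rw [key, ← Subring.mem_center_iff.1 (h.trace (n * s0)) n, mul_assoc]
      _ = n := by rw [hw, mul_one]
  clear_value s
  obtain ⟨e, he⟩ : ∃ e, e = n * s := ⟨_, rfl⟩
  have hee : e * e = e := by
    calc e * e = (n * s * n) * s := by simp only [he, mul_assoc]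
      _ = e := by rw [hnsn, ← he]
  have hen : e * n = n := by rw [he]; exact hnsn
  have hne : n * e = 0 := by rw [he, ← mul_assoc, hnn, zero_mul]
  have h1e : e * (1 + e) = 0 := by rw [mul_add, mul_one, hee, h.two]
  have he1 : (1 + e) * e = 0 := by rw [add_mul, one_mul, hee, h.two]
  have hιe : ι e = 1 + e := by
    have hz := h.trace e
    have hc : e * ι e = ι e * e := by
      have := Subring.mem_center_iff.1 hz e
      rw [mul_add, add_mul] at this
      exact add_left_cancel this
    have hιι : ι e * ι e = ι e := by rw [← h.anti, hee]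
    have hzz : (e + ι e) * (e + ι e) = e + ι e := by
      rw [mul_add, add_mul, add_mul, hee, hιι, hc]
      rw [show e + ι e * e + (ι e * e + ι e) = e + (ι e * e + ι e * e) + ι e by abel, h.two, add_zero]
    by_cases h0 : e + ι e = 0
    · exfalso
      have h3 := congrArg ι hen
      rw [h.anti, hιn, ← h.eq_of_add h0, hne] at h3
      exact hn h3.symm
    · have h1 : e + ι e = 1 := by
        obtain ⟨v, -, hv⟩ := h.unit _ hz h0
        calc e + ι e = (e + ι e) * ((e + ι e) * v) := by rw [hv, mul_one]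
          _ = 1 := by rw [← mul_assoc, hzz, hv]
      calc ι e = e + (e + ι e) := (h.add_add e (ι e)).symm
        _ = 1 + e := by rw [h1, add_comm]
  have hι1e : ι (1 + e) = e := by
    rw [map_add, h.one, hιe, ← add_assoc, h.two, zero_add]
  have hC1 : ∀ r, ∃ z ∈ Subring.center S, e * r * e = z * e := by
    intro r
    refine ⟨_, h.trace (e * r * e), ?_⟩
    rw [← Subring.mem_center_iff.1 (h.trace (e * r * e)) e, mul_add, h.anti, hιe, ← mul_assoc e (1 + e),
      h1e, zero_mul, add_zero, ← mul_assoc, ← mul_assoc, hee]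
  have hC2 : ∀ r, ∃ z ∈ Subring.center S, (1 + e) * r * (1 + e) = z * (1 + e) := by
    intro r
    refine ⟨_, h.trace ((1 + e) * r * (1 + e)), ?_⟩
    rw [← Subring.mem_center_iff.1 (h.trace ((1 + e) * r * (1 + e))) (1 + e),
      mul_add (1 + e) ((1 + e) * r * (1 + e)), h.anti, hι1e,
      ← mul_assoc (1 + e) e, he1, zero_mul, add_zero, ← mul_assoc, ← mul_assoc]
    congr 2
    rw [add_mul 1 e (1 + e), one_mul, h1e, add_zero]
  have hn1 : n * (1 + e) = n := by rw [mul_add, mul_one, hne, add_zero]
  obtain ⟨y, hy⟩ : ∃ y, y = (1 + e) * s * e := ⟨_, rfl⟩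
  have hny : n * y = e := by rw [hy, ← mul_assoc, ← mul_assoc, hn1, ← he, hee]
  have hye : y * e = y := by rw [hy, mul_assoc, hee]
  have hey : e * y = 0 := by rw [hy, ← mul_assoc, ← mul_assoc, h1e, zero_mul, zero_mul]
  have hyy : y * y = 0 := by
    calc y * y = (1 + e) * s * (e * y) := by rw [hy]; simp only [mul_assoc]
      _ = 0 := by rw [hey, mul_zero]
  have hyn : y * n = 1 + e := by
    obtain ⟨z, hz, hz'⟩ := hC2 (s * n)
    have h1 : y * n = z * (1 + e) := by
      rw [← hz', hy, mul_assoc _ e n, hen, ← mul_assoc (1 + e) s n, mul_assoc ((1 + e) * s) n, hn1]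
    have h2 : (z + 1) * n = 0 := by
      rw [add_mul, one_mul]
      nth_rewrite 2 [← hen]
      rw [← hny, mul_assoc, h1, ← mul_assoc n z, Subring.mem_center_iff.1 hz n, mul_assoc, hn1, h.two]
    rw [h1, h.eq_of_add (h.cancel (Subring.add_mem _ hz (Subring.one_mem _)) hn h2), one_mul]
  have hιy : ι y = y := h.sq_zero_fixed hyy
  have hfix : ∀ z ∈ Subring.center S, ι z = z := by
    intro z hz
    have hw := h.trace (z * e)
    rw [h.anti, hιe] at hw
    have h1 := Subring.mem_center_iff.1 hw n
    rw [mul_add, ← mul_assoc, Subring.mem_center_iff.1 hz n, mul_assoc z n e, hne, mul_zero,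
      zero_add, ← mul_assoc, hn1, add_mul, mul_assoc z e n, hen, mul_assoc, ] at h1
    -- `n * ι z = z * n + (1 + e) * (ι z * n)`
    have h2 : n * ι z = ι z * n := by
      have h3 := Subring.mem_center_iff.1 (h.trace z) n
      rw [mul_add, add_mul, Subring.mem_center_iff.1 hz n] at h3
      exact add_left_cancel h3
    rw [← h2, ← mul_assoc (1 + e) n, add_mul (1 : S) e n, one_mul, hen, h.two, zero_mul, add_zero] at h1
    rw [h2] at h1
    have h4 : (ι z + z) * n = 0 := by rw [add_mul, h1, h.two]
    refine h.eq_of_add (h.cancel ?_ hn h4)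
    rw [add_comm]; exact h.trace z
  refine ⟨e, y, hee, hen, hne, hye, hey, hny, hyn, hnn, hyy, hn, hιe, hιn, hιy, hfix, fun r => ?_⟩
  obtain ⟨α, hα, hα'⟩ := hC1 r
  obtain ⟨β, hβ, hβ'⟩ := hC2 r
  obtain ⟨γ, hγ, hγ'⟩ := hC2 (y * r)
  obtain ⟨δ, hδ, hδ'⟩ := hC1 (n * r)
  refine ⟨α, hα, β, hβ, γ, hγ, δ, hδ, ?_⟩
  have h12 : e * r * (1 + e) = γ * n := by
    calc e * r * (1 + e) = n * ((1 + e) * (y * r) * (1 + e)) := by
          simp only [← mul_assoc, hn1, hny]
      _ = γ * n := by rw [hγ', ← mul_assoc, Subring.mem_center_iff.1 hγ n, mul_assoc, hn1]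
  have h21 : (1 + e) * r * e = δ * y := by
    calc (1 + e) * r * e = y * (e * (n * r) * e) := by
          simp only [← mul_assoc, hye, hyn]
      _ = δ * y := by rw [hδ', ← mul_assoc, Subring.mem_center_iff.1 hδ y, mul_assoc, hye]
  rw [← hα', ← hβ', ← h12, ← h21]
  have h11 : e + (1 + e) = 1 := by rw [add_comm 1 e, ← add_assoc, h.two, zero_add]
  calc r = (e + (1 + e)) * r * (e + (1 + e)) := by rw [h11, one_mul, mul_one]
    _ = _ := by
      rw [mul_add ((e + (1 + e)) * r), add_mul e (1 + e) r, add_mul (e * r) ((1 + e) * r),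
        add_mul (e * r) ((1 + e) * r)]
      abel

/-- A finite such ring has a nonzero element of square zero. -/
theorem QRing.exists_sq_zero [Finite S] (h : QRing ι) : ∃ n : S, n ≠ 0 ∧ n * n = 0 := by
  obtain ⟨a, b, hab⟩ := h.noncomm
  by_contra hno
  push Not at hno
  have : NoZeroDivisors S := ⟨fun {x y} hxy => by
    refine h.prime x y fun s => ?_
    by_contra h0
    refine hno _ (fun h1 => h0 ?_) (?_ : (y * s * x) * (y * s * x) = 0)
    · have h2 : ∀ t, y * t * x = 0 := fun t => by
        by_contra h3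
        exact hno _ h3 (by
          calc (y * t * x) * (y * t * x) = y * t * (x * y) * (t * x) := by simp only [mul_assoc]
            _ = 0 := by rw [hxy, mul_zero, zero_mul])
      rcases h.prime y x h2 with hy | hx
      · rw [hy, mul_zero]
      · rw [hx, zero_mul, zero_mul]
    · calc (y * s * x) * (y * s * x) = y * s * (x * y) * (s * x) := by simp only [mul_assoc]
        _ = 0 := by rw [hxy, mul_zero, zero_mul]⟩
  have : Nontrivial S := ⟨⟨a * b, b * a, hab⟩⟩
  have : IsDomain S := NoZeroDivisors.to_isDomain S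
  exact hab ((Finite.isDomain_to_isField S).mul_comm a b)

/-- With a centre of order two there is no nontrivial perfect group of units. -/
theorem QRing.two_lt_card_center [Finite S] (h : QRing ι) {K : Type*} [Group K]
    (hK : Group.IsPerfect K) (φ : K →* S) (hφ : ∃ x, φ x ≠ 1) : 2 < Nat.card (Subring.center S) := by
  classical
  by_contra hlt
  push Not at hlt
  obtain ⟨n, hn, hnn⟩ := h.exists_sq_zero
  obtain ⟨e, y, F⟩ := h.exists_frame hn hnn
  have : Nontrivial S := ⟨⟨n, 0, hn⟩⟩
  have hC : ∀ z ∈ Subring.center S, z = 0 ∨ z = 1 := by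
    intro z hz
    by_contra hz'
    push Not at hz'
    have : Function.Injective (![(⟨0, zero_mem _⟩ : Subring.center S), ⟨1, one_mem _⟩, ⟨z, hz⟩]) := by
      intro i j hij
      have := congrArg Subtype.val hij
      fin_cases i <;> fin_cases j <;> simp_all
    have := Nat.card_le_card_of_injective _ this
    simp at this
    omega
  have he0 : e ≠ 0 := fun h0 => hn (by rw [← F.en, h0, zero_mul])
  have hy0 : y ≠ 0 := fun h0 => he0 (by rw [← F.ny, h0, mul_zero])
  let V := {v : S // v * e = v ∧ v ≠ 0}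
  have hV : ∀ v : V, (v : S) = e ∨ (v : S) = y ∨ (v : S) = e + y := by
    rintro ⟨v, hve, hv0⟩
    obtain ⟨α, hα, β, hβ, γ, hγ, δ, hδ, hv⟩ := F.span v
    have h1e : (1 + e) * e = 0 := by rw [add_mul, one_mul, F.idem, h.two]
    have : v = α * e + δ * y := by
      rw [← hve, hv, add_mul, add_mul, add_mul, mul_assoc α, F.idem, mul_assoc β, h1e, mul_zero,
        add_zero, mul_assoc γ, F.ne, mul_zero, add_zero, mul_assoc δ, F.ye]
    simp only
    rcases hC α hα with rfl | rfl <;> rcases hC δ hδ with rfl | rfl <;>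
      simp only [zero_mul, one_mul, zero_add, add_zero] at this <;>
      first
        | exact absurd this hv0
        | exact Or.inl this
        | exact Or.inr (Or.inl this)
        | exact Or.inr (Or.inr this)
  have hd1 : e ≠ y := fun h0 => he0 (by rw [← F.idem]; nth_rewrite 2 [h0]; exact F.ey)
  let f : Fin 3 → V := ![⟨e, F.idem, he0⟩, ⟨y, F.ye, hy0⟩,
    ⟨e + y, by rw [add_mul, F.idem, F.ye], fun h0 => hd1 (h.eq_of_add h0)⟩]
  have hf : Function.Bijective f := by
    refine ⟨fun i j hij => ?_, fun v => ?_⟩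
    · have := congrArg Subtype.val hij
      have e1 : e ≠ e + y := fun h0 => hy0 (add_left_cancel (a := e) (by rw [add_zero]; exact h0.symm))
      have e2 : y ≠ e + y := fun h0 => he0 (add_right_cancel (b := y) (by rw [zero_add]; exact h0.symm))
      fin_cases i <;> fin_cases j <;> simp only [f] at this <;>
        first | rfl | exact absurd this hd1 | exact absurd this.symm hd1 | exact absurd this e1 |
          exact absurd this.symm e1 | exact absurd this e2 | exact absurd this.symm e2
    · rcases hV v with hv | hv | hv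
      · exact ⟨0, Subtype.ext hv.symm⟩
      · exact ⟨1, Subtype.ext hv.symm⟩
      · exact ⟨2, Subtype.ext hv.symm⟩
  let σ : K →* Equiv.Perm V :=
    { toFun := fun x =>
        { toFun := fun v => ⟨φ x * v, by rw [mul_assoc, v.2.1], fun h0 => v.2.2 (by
            have := congrArg (φ x⁻¹ * ·) h0
            simpa [← mul_assoc, ← map_mul] using this)⟩
          invFun := fun v => ⟨φ x⁻¹ * v, by rw [mul_assoc, v.2.1], fun h0 => v.2.2 (by
            have := congrArg (φ x * ·) h0
            simpa [← mul_assoc, ← map_mul] using this)⟩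
          left_inv := fun v => Subtype.ext (by simp [← mul_assoc, ← map_mul])
          right_inv := fun v => Subtype.ext (by simp [← mul_assoc, ← map_mul]) }
      map_one' := Equiv.ext fun v => Subtype.ext (by simp)
      map_mul' := fun x z => Equiv.ext fun v => Subtype.ext (by simp [mul_assoc]) }
  let e3 := Equiv.ofBijective f hf
  let τ : K →* Equiv.Perm (Fin 3) := (e3.symm.permCongrHom.toMonoidHom).comp σ
  have hsign : ∀ x, Equiv.Perm.sign (τ x) = 1 :=
    perfect_hom_trivial hK (Equiv.Perm.sign.comp τ) fun a b => mul_comm _ _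
  have h3 : ∀ s t : Equiv.Perm (Fin 3), Equiv.Perm.sign s = 1 → Equiv.Perm.sign t = 1 →
      s * t = t * s := by decide
  have hτ : ∀ x, τ x = 1 := perfect_hom_trivial hK τ fun a b => h3 _ _ (hsign a) (hsign b)
  obtain ⟨x, hx⟩ := hφ
  refine hx ?_
  have hσ : σ x = 1 := (e3.symm.permCongrHom).injective (by rw [map_one]; exact hτ x)
  have e1 : φ x * e = e := congrArg Subtype.val (Equiv.congr_fun hσ (f 0))
  have e2 : φ x * y = y := congrArg Subtype.val (Equiv.congr_fun hσ (f 1))
  have h11 : e + (1 + e) = 1 := by rw [add_comm 1 e, ← add_assoc, h.two, zero_add]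
  calc φ x = φ x * (e + y * n) := by rw [F.yn, h11, mul_one]
    _ = e + y * n := by rw [mul_add, ← mul_assoc, e1, e2]
    _ = 1 := by rw [F.yn, h11]

/-- The counting bound. -/
theorem QRing.count [Finite S] (h : QRing ι) {B : Type*} [Group B] [Finite B]
    (hBc : ∀ a b : B, a * b = b * a) (β : B → S →+* S)
    (hβm : ∀ a b r, β (a * b) r = β a (β b r)) (hβ1 : ∀ r, β 1 r = r)
    (hcomm : ∀ b r, β b (ι r) = ι (β b r))
    (hinj : ∀ b, b ≠ 1 → ∃ r, β b r ≠ r)
    (hb0 : Nontrivial B → ∃ b0, b0 ≠ 1 ∧ (∀ r, β b0 (r + ι r) = r + ι r) ∧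
      ∀ b r, β b0 (β b r + r) = β b r + r)
    (hq : 2 < Nat.card (Subring.center S))
    (hbound : Nat.card S ≤ 2 * Nat.card B *
      Nat.card {r : S // ι r = r ∧ ∀ b, β b r = r}) : False := by
  classical
  obtain ⟨n₁, hn₁, hnn₁⟩ := h.exists_sq_zero
  obtain ⟨e₁, y₁, F₁⟩ := h.exists_frame hn₁ hnn₁
  set q := Nat.card (Subring.center S) with hqdef
  set Fx := {r : S // ι r = r ∧ ∀ b, β b r = r} with hFx
  have : Nonempty Fx := ⟨⟨0, map_zero _, fun b => map_zero _⟩⟩
  have hpos : 0 < Nat.card Fx := Nat.card_pos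
  have htre : ∀ z ∈ Subring.center S, ∀ s : S, ι s = s → z * e₁ + s + ι (z * e₁ + s) = z := by
    intro z hz s hs
    rw [map_add, h.anti, F₁.ιe, F₁.fixC z hz, hs, Subring.mem_center_iff.1 hz (1 + e₁), mul_add,
      mul_one]
    rw [show z * e₁ + s + (z + z * e₁ + s) = z + ((z * e₁ + z * e₁) + (s + s)) by abel, h.two,
      h.two, add_zero, add_zero]
  rcases subsingleton_or_nontrivial B with hB | hB
  · -- only `ι` acts
    have hinj' : Function.Injective
        (fun p : Subring.center S × Fx => (p.1 : S) * e₁ + (p.2 : S)) := by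
      intro p p' hpp
      simp only at hpp
      have h1 : (p.1 : S) = p'.1 := by
        rw [← htre _ p.1.2 _ p.2.2.1, ← htre _ p'.1.2 _ p'.2.2.1, hpp]
      rw [h1] at hpp
      exact Prod.ext (Subtype.ext h1) (Subtype.ext (add_left_cancel hpp))
    have h1 := (Nat.card_le_card_of_injective _ hinj').trans hbound
    rw [Nat.card_prod, Nat.card_unique (α := B), mul_one] at h1
    have := Nat.le_of_mul_le_mul_right h1 hpos
    omega
  obtain ⟨b0, hb01, hb0t, hb0d⟩ := hb0 hB
  have hb0F : ∀ z ∈ Subring.center S, β b0 z = z := by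
    intro z hz
    have := hb0t (z * e₁)
    rwa [show z * e₁ + ι (z * e₁) = z by simpa using htre z hz 0 (map_zero _)] at this
  set D : S → S := fun r => β b0 r + r with hD
  clear_value D
  obtain ⟨r0, hr0⟩ := hinj b0 hb01
  have hD0 : D r0 ≠ 0 := fun h0 => hr0 (h.eq_of_add (by simpa only [hD] using h0))
  have hBF : ∀ b, ∀ z ∈ Subring.center S, β b z = z := by
    intro b z hz
    have hDd : ∀ r, D (β b r + r) = 0 := fun r => by
      simp only [hD, hb0d b r, h.two]
    set r1 := β b⁻¹ r0
    have hbr1 : β b r1 = r0 := by rw [← hβm, mul_inv_cancel, hβ1]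
    have hzc : β b z ∈ Subring.center S := by
      rw [Subring.mem_center_iff]
      intro g
      have : g = β b (β b⁻¹ g) := by rw [← hβm, mul_inv_cancel, hβ1]
      rw [this, ← map_mul, ← map_mul, Subring.mem_center_iff.1 hz]
    have h1 : β b (z * r1) + z * r1 = (β b z + z) * r0 + z * (β b r1 + r1) := by
      rw [map_mul, add_mul, mul_add, hbr1]
      rw [show β b z * r0 + z * r0 + (z * r0 + z * r1)
        = β b z * r0 + z * r1 + (z * r0 + z * r0) by abel, h.two, add_zero]
    have hlin : ∀ c ∈ Subring.center S, ∀ r, D (c * r) = c * D r := fun c hc r => by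
      simp only [hD, map_mul, hb0F c hc, mul_add]
    have h2 : D ((β b z + z) * r0 + z * (β b r1 + r1)) = (β b z + z) * D r0 := by
      have : ∀ u v, D (u + v) = D u + D v := fun u v => by simp only [hD, map_add]; abel
      rw [this, hlin _ hz, hDd, mul_zero, add_zero, hlin _ (Subring.add_mem _ hzc hz)]
    rw [← h1, hDd] at h2
    exact h.eq_of_add (h.cancel (Subring.add_mem _ hzc hz) hD0 h2.symm)
  have hall : ∀ {e n y : S}, Frame ι e n y → ∀ b, β b n = n → β b y = y → ∀ r, β b r = r := by
    intro e n y F b hn hy r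
    have he : β b e = e := by rw [← F.ny, map_mul, hn, hy]
    obtain ⟨α, hα, β', hβ, γ, hγ, δ, hδ, rfl⟩ := F.span r
    simp only [map_add, map_mul, map_one, hBF b _ hα, hBF b _ hβ, hBF b _ hγ, hBF b _ hδ, hn, hy, he]
  -- an element fixed by `B`
  obtain ⟨hh, hhι, hhB, hhC⟩ : ∃ u : S, ι u = u ∧ (∀ b, β b u = u) ∧ u ∉ Subring.center S := by
    have hfixD : ∀ s, ι s = s → ι (D s) = D s ∧ ∀ b, β b (D s) = D s := by
      intro s hs
      refine ⟨by simp only [hD, map_add, ← hcomm, hs], fun b => ?_⟩
      have h1 : D (β b s) = D s := by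
        have := hb0d b s
        rw [map_add] at this
        refine h.eq_of_add ?_
        simp only [hD]
        rw [show β b0 (β b s) + β b s + (β b0 s + s)
          = (β b0 (β b s) + β b0 s) + (β b s + s) by abel, this, h.two]
      have h3 : β b (D s) = D (β b s) := by simp only [hD, map_add, ← hβm, hBc b b0]
      rw [h3, h1]
    by_contra hno
    push Not at hno
    have hsm : ∀ s, ι s = s → s * s = 0 → β b0 s = s := by
      intro s hs hss
      obtain ⟨h1, h2⟩ := hfixD s hs
      have hf : D s ∈ Subring.center S := hno _ h1 h2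
      have h3 : β b0 s = s + D s := by
        simp only [hD]
        rw [add_comm (β b0 s) s, h.add_add]
      have h4 : β b0 s * β b0 s = 0 := by rw [← map_mul, hss, map_zero]
      rw [h3, mul_add, add_mul, add_mul, hss, zero_add, Subring.mem_center_iff.1 hf s,
        ← add_assoc, h.two, zero_add] at h4
      by_cases h5 : D s = 0
      · rw [h3, h5, add_zero]
      · exact absurd (h.cancel hf h5 h4) h5
    obtain ⟨r, hr⟩ := hinj b0 hb01
    exact hr (hall F₁ b0 (hsm _ F₁.ιn F₁.nn) (hsm _ F₁.ιy F₁.yy) r)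
  obtain ⟨n, hn, hnn, hnB⟩ : ∃ n : S, n ≠ 0 ∧ n * n = 0 ∧ ∀ b, β b n = n := by
    obtain ⟨α, hα, β', hβ, γ, hγ, δ, hδ, hdec⟩ := F₁.span hh
    have hι' : ∀ c ∈ Subring.center S, ∀ x, ι (c * x) = c * ι x := fun c hc x => by
      rw [h.anti, F₁.fixC c hc, Subring.mem_center_iff.1 hc]
    have hι1e : ι (1 + e₁) = e₁ := by rw [map_add, h.one, F₁.ιe, ← add_assoc, h.two, zero_add]
    have hab : α = β' := by
      have h1 := hhι
      rw [hdec, map_add, map_add, map_add, hι' _ hα, hι' _ hβ, hι' _ hγ, hι' _ hδ, F₁.ιe, hι1e,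
        F₁.ιn, F₁.ιy] at h1
      have h2 := congrArg (fun r => e₁ * r * e₁) (add_right_cancel (add_right_cancel h1))
      have h1e : e₁ * (1 + e₁) = 0 := by rw [mul_add, mul_one, F₁.idem, h.two]
      simp only [mul_add, add_mul, ← mul_assoc, Subring.mem_center_iff.1 hα e₁,
        Subring.mem_center_iff.1 hβ e₁] at h2
      simp only [mul_assoc, F₁.idem, mul_one, mul_zero, h.two, zero_add, add_zero] at h2
      have h3 : (α + β') * e₁ = 0 := by rw [add_mul, h2, h.two]
      have he0 : e₁ ≠ 0 := fun h0 => hn₁ (by rw [← F₁.en, h0, zero_mul])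
      exact h.eq_of_add (h.cancel (Subring.add_mem _ hα hβ) he0 h3)
    have hu : hh + α = γ * n₁ + δ * y₁ := by
      rw [hdec, ← hab, mul_add, mul_one]
      rw [show α * e₁ + (α + α * e₁) + γ * n₁ + δ * y₁ + α
        = (α * e₁ + α * e₁) + (α + α) + (γ * n₁ + δ * y₁) by abel, h.two, h.two, zero_add, zero_add]
    have hsq : (hh + α) * (hh + α) = γ * δ := by
      rw [hu]
      have e11 : γ * n₁ * (δ * y₁) = γ * δ * e₁ := by
        rw [mul_assoc, ← mul_assoc n₁, Subring.mem_center_iff.1 hδ n₁, mul_assoc δ, F₁.ny, mul_assoc]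
      have e22 : δ * y₁ * (γ * n₁) = γ * δ * (1 + e₁) := by
        rw [mul_assoc, ← mul_assoc y₁, Subring.mem_center_iff.1 hγ y₁, mul_assoc γ, F₁.yn,
          ← mul_assoc, Subring.mem_center_iff.1 hγ δ]
      have e0 : γ * n₁ * (γ * n₁) = 0 := by
        rw [mul_assoc, ← mul_assoc n₁, Subring.mem_center_iff.1 hγ n₁, mul_assoc γ, F₁.nn,
          mul_zero, mul_zero]
      have e3 : δ * y₁ * (δ * y₁) = 0 := by
        rw [mul_assoc, ← mul_assoc y₁, Subring.mem_center_iff.1 hδ y₁, mul_assoc δ, F₁.yy,
          mul_zero, mul_zero]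
      rw [mul_add, add_mul, add_mul, e0, e3, e11, e22, zero_add, add_zero, ← mul_add]
      rw [show (1 + e₁) + e₁ = 1 + (e₁ + e₁) by abel, h.two, add_zero, mul_one]
    let sq : Subring.center S → Subring.center S := fun z => z * z
    have hsqi : Function.Injective sq := by
      intro z w hzw
      have h0 : ((z : S) + w) * ((z : S) + w) = 0 := by
        have := congrArg Subtype.val hzw
        simp only [sq, Subring.coe_mul] at this
        rw [mul_add, add_mul, add_mul, Subring.mem_center_iff.1 z.2 (w : S), this]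
        rw [show (w : S) * w + (z : S) * w + ((z : S) * w + w * w)
          = ((w : S) * w + w * w) + ((z : S) * w + z * w) by abel, h.two, h.two, add_zero]
      refine Subtype.ext (h.eq_of_add ?_)
      by_contra h1
      exact h1 (h.cancel (Subring.add_mem _ z.2 w.2) h1 h0)
    obtain ⟨c, hc⟩ := (Finite.injective_iff_surjective.1 hsqi) ⟨γ * δ, Subring.mul_mem _ hγ hδ⟩
    have hc' : (c : S) * c = γ * δ := congrArg Subtype.val hc
    refine ⟨hh + α + c, fun h0 => hhC ?_, ?_, fun b => ?_⟩
    · have : hh = α + c := h.eq_of_add (by rw [← add_assoc]; exact h0)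
      rw [this]; exact Subring.add_mem _ hα c.2
    · rw [mul_add (hh + α + c), add_mul (hh + α), add_mul (hh + α), hsq, hc',
        ← Subring.mem_center_iff.1 c.2 (hh + α)]
      rw [show γ * δ + (hh + α) * (c : S) + ((hh + α) * c + γ * δ)
        = (γ * δ + γ * δ) + ((hh + α) * c + (hh + α) * c) by abel, h.two, h.two, add_zero]
    · rw [map_add, map_add, hhB, hBF b _ hα, hBF b _ c.2]
  obtain ⟨e, y, F⟩ := h.exists_frame hn hnn
  have h1e : e * (1 + e) = 0 := by rw [mul_add, mul_one, F.idem, h.two]
  have htr : ∀ α ∈ Subring.center S, ι (α * e) + α * e = α := by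
    intro α hα
    rw [h.anti, F.fixC α hα, F.ιe, Subring.mem_center_iff.1 hα (1 + e), mul_add, mul_one,
      add_assoc, h.two, add_zero]
  have hbe : ∀ b, ∃ μ : Subring.center S, β b e = e + (μ : S) * n := by
    intro b
    obtain ⟨α, hα, β', hβ, γ, hγ, δ, hδ, hdec⟩ := F.span (β b e)
    have h1 : β b e = e * β b e := by
      conv_lhs => rw [← F.ny, map_mul, hnB, ← F.en, mul_assoc]
      rw [← F.ny, map_mul, hnB]
    have h2 : β b e = α * e + γ * n := by
      rw [h1, hdec]
      simp only [mul_add, ← mul_assoc, Subring.mem_center_iff.1 hα e, Subring.mem_center_iff.1 hβ e,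
        Subring.mem_center_iff.1 hγ e, Subring.mem_center_iff.1 hδ e, mul_one]
      simp only [mul_assoc, F.idem, F.en, F.ey, mul_zero, h.two, add_zero]
    have h3 : α = 1 := by
      have h4 : ι (β b e) + β b e = 1 := by
        rw [← hcomm, F.ιe, map_add, map_one, add_assoc, h.two, add_zero]
      rw [h2, map_add, h.anti γ n, F.ιn, F.fixC γ hγ, Subring.mem_center_iff.1 hγ n] at h4
      rw [show ι (α * e) + γ * n + (α * e + γ * n) = (ι (α * e) + α * e) + (γ * n + γ * n) by abel,
        h.two, add_zero, htr α hα] at h4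
      exact h4
    exact ⟨⟨γ, hγ⟩, by rw [h2, h3, one_mul]⟩
  choose μ hμ using hbe
  have hμi : Function.Injective μ := by
    intro b c hbc
    have hc : ∀ r, β b r = β c r → β (c⁻¹ * b) r = r := fun r hr => by
      rw [hβm, hr, ← hβm, inv_mul_cancel, hβ1]
    have hge : β (c⁻¹ * b) e = e := hc e (by rw [hμ, hμ, hbc])
    have hgy : β (c⁻¹ * b) y = y := by
      set g := c⁻¹ * b
      obtain ⟨α, hα, β', hβ, γ, hγ, δ, hδ, hdec⟩ := F.span (β g y)
      have hyy' : (1 + e) * y = y := by rw [add_mul, one_mul, F.ey, add_zero]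
      have he1 : (1 + e) * e = 0 := by rw [add_mul, one_mul, F.idem, h.two]
      have h1 : β g y = (1 + e) * β g y * e := by
        conv_lhs => rw [← F.ye, ← hyy', map_mul, map_mul, map_add, map_one, hge]
      have h2 : β g y = δ * y := by
        rw [h1, hdec]
        simp only [mul_add (1 + e), add_mul _ _ e, ← mul_assoc, Subring.mem_center_iff.1 hα (1 + e),
          Subring.mem_center_iff.1 hβ (1 + e), Subring.mem_center_iff.1 hγ (1 + e),
          Subring.mem_center_iff.1 hδ (1 + e)]
        simp only [mul_assoc, F.idem, he1, F.ne, F.ye, hyy', zero_mul, mul_zero, zero_add, add_zero]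
      have h3 : δ * e = e := by
        have := congrArg (β g) F.ny
        rw [map_mul, hnB, hge, h2, ← mul_assoc, Subring.mem_center_iff.1 hδ n, mul_assoc, F.ny] at this
        exact this
      have he0 : e ≠ 0 := fun h0 => hn (by rw [← F.en, h0, zero_mul])
      have h4 : (δ + 1) * e = 0 := by rw [add_mul, one_mul, h3, h.two]
      rw [h2, h.eq_of_add (h.cancel (Subring.add_mem _ hδ (Subring.one_mem _)) he0 h4), one_mul]
    by_contra hne
    obtain ⟨r, hr⟩ := hinj (c⁻¹ * b) (fun h0 => hne (inv_mul_eq_one.1 h0).symm)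
    exact hr (hall F _ (hnB _) hgy r)
  have hBq : Nat.card B ≤ q := Nat.card_le_card_of_injective μ hμi
  obtain ⟨v, hvι, hvB⟩ : ∃ v : S, ι v = v ∧ ∃ b, β b v ≠ v := by
    by_contra hno
    push Not at hno
    obtain ⟨r, hr⟩ := hinj b0 hb01
    exact hr (hall F₁ b0 (hno _ F₁.ιn b0) (hno _ F₁.ιy b0) r)
  have hinj' : Function.Injective (fun p : (Subring.center S × Subring.center S) × Fx =>
      (p.1.1 : S) * e₁ + ((p.1.2 : S) * v + (p.2 : S))) := by
    intro p p' hpp
    simp only at hpp
    have hfix : ∀ p : (Subring.center S × Subring.center S) × Fx,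
        ι ((p.1.2 : S) * v + (p.2 : S)) = (p.1.2 : S) * v + (p.2 : S) := fun p => by
      rw [map_add, h.anti, hvι, F₁.fixC _ p.1.2.2, p.2.2.1, Subring.mem_center_iff.1 p.1.2.2 v]
    have h1 : (p.1.1 : S) = p'.1.1 := by
      rw [← htre _ p.1.1.2 _ (hfix p), ← htre _ p'.1.1.2 _ (hfix p'), hpp]
    rw [h1] at hpp
    have h2 := add_left_cancel hpp
    have h3 : (p.1.2 : S) = p'.1.2 := by
      obtain ⟨b, hb⟩ := hvB
      have h4 := congrArg (fun r => β b r + r) h2
      simp only [map_add, map_mul, hBF b _ p.1.2.2, hBF b _ p'.1.2.2, p.2.2.2, p'.2.2.2] at h4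
      have h5 : ((p.1.2 : S) + p'.1.2) * (β b v + v) = 0 := by
        have : ∀ (c : S) (w : S), c * β b v + w + (c * v + w) = c * (β b v + v) := fun c w => by
          rw [mul_add, show c * β b v + w + (c * v + w) = c * β b v + c * v + (w + w) by abel,
            h.two, add_zero]
        rw [this, this] at h4
        rw [add_mul, h4, h.two]
      refine h.eq_of_add (h.cancel (Subring.add_mem _ p.1.2.2 p'.1.2.2) (fun h0 => hb (h.eq_of_add h0)) h5)
    rw [h3] at h2
    exact Prod.ext (Prod.ext (Subtype.ext h1) (Subtype.ext h3)) (Subtype.ext (add_left_cancel h2))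
  have h1 := (Nat.card_le_card_of_injective _ hinj').trans hbound
  rw [Nat.card_prod, Nat.card_prod] at h1
  have h2 : q * q ≤ 2 * Nat.card B := Nat.le_of_mul_le_mul_right h1 hpos
  nlinarith

end Ring

end Cfsg.Agent.Invol.PGV
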