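import Cfsg.Agent.Lib.Invol.PGVQuadratic

/-!
Passing from a finite ring with an anti-automorphism to a simple quotient.
-/

set_option autoImplicit false

namespace Cfsg.Agent.Invol.PGV

universe u

/-- A perfect finite group in which every element has a `p`-power in a normal subgroup `N`
is equal to `N`. -/
theorem perfect_top_of_pow {K : Type*} [Group K] [Finite K] {p : ℕ} [Fact p.Prime]
    (hK : Group.IsPerfect K) (N : Subgroup K) [N.Normal] (h : ∀ x : K, ∃ k : ℕ, x ^ p ^ k ∈ N) :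
    N = ⊤ := by
  have hq : IsPGroup p (K ⧸ N) := fun g => by
    obtain ⟨x, rfl⟩ := QuotientGroup.mk'_surjective N g
    obtain ⟨k, hk⟩ := h x
    exact ⟨k, by rw [← map_pow]; exact (QuotientGroup.eq_one_iff _).2 hk⟩
  have := hq.isNilpotent
  by_contra hN
  have : Nontrivial (K ⧸ N) := QuotientGroup.nontrivial_iff.2 hN
  have hlt := Group.IsSolvable.commutator_lt_top_of_nontrivial (K ⧸ N)
  refine hlt.ne (top_unique fun g _ => ?_)
  obtain ⟨x, rfl⟩ := QuotientGroup.mk'_surjective N g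
  have hx : x ∈ commutator K := hK.commutator_eq_top ▸ Subgroup.mem_top x
  rw [_root_.commutator_def] at hx ⊢
  have := Subgroup.mem_map_of_mem (QuotientGroup.mk' N) hx
  rw [Subgroup.map_commutator] at this
  exact Subgroup.commutator_mono le_top le_top this

/-- The fixed elements of `ι` and of a family `β`. -/
def fixed {Q B : Type*} [Ring Q] (ι : Q →+ Q) (β : B → Q →+* Q) : AddSubgroup Q where
  carrier := {r | ι r = r ∧ ∀ b, β b r = r}
  add_mem' hx hy := ⟨by rw [map_add, hx.1, hy.1], fun b => by rw [map_add, hx.2, hy.2]⟩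
  zero_mem' := ⟨map_zero _, fun _ => map_zero _⟩
  neg_mem' hx := ⟨by rw [map_neg, hx.1], fun b => by rw [map_neg, hx.2]⟩

theorem ring_endgame {Q : Type u} [Ring Q] [Finite Q] (h2 : ∀ r : Q, r + r = 0) (ι : Q →+ Q)
    (hanti : ∀ r s, ι (r * s) = ι s * ι r) (hone : ι 1 = 1) (hιι : ∀ r, ι (ι r) = r)
    (hcen : ∀ r, r + ι r ∈ Subring.center Q)
    {K : Type*} [Group K] [Finite K] (hK : Group.IsPerfect K) (φ : K →* Q)
    (hιφ : ∀ x, ι (φ x) = φ x⁻¹) (hφ : ∃ x, φ x ≠ 1)
    {B : Type*} [Group B] [Finite B] (hBc : ∀ a b : B, a * b = b * a) (β : B → Q →+* Q)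
    (hβm : ∀ a b r, β (a * b) r = β a (β b r)) (hβ1 : ∀ r, β 1 r = r)
    (hcomm : ∀ b r, β b (ι r) = ι (β b r))
    (hfaith : ∀ (S : Type u) [Ring S] (π : Q →+* S), (∃ x, π (φ x) ≠ 1) → ∀ b, b ≠ 1 →
      ∃ x, π (β b (φ x)) ≠ π (φ x))
    (hb0 : Nontrivial B → ∃ b0, b0 ≠ 1 ∧ (∀ r, β b0 (r + ι r) = r + ι r) ∧
      ∀ b r, β b0 (β b r + r) = β b r + r)
    (hbound : (fixed ι β).index ≤ 2 * Nat.card B) : False := by
  classical
  -- a non-nilpotent trace
  obtain ⟨x, hnil⟩ : ∃ x, ∀ k : ℕ, (φ x + φ x⁻¹) ^ k ≠ 0 := by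
    by_contra hno
    push Not at hno
    obtain ⟨x0, hx0⟩ := hφ
    refine hx0 ?_
    have htop : φ.ker = ⊤ := by
      refine perfect_top_of_pow (p := 2) hK _ fun x => ?_
      obtain ⟨k, hk⟩ := hno x
      refine ⟨2 * k, ?_⟩
      have hsq : ∀ j : ℕ, (φ x + 1) ^ 2 ^ j = φ x ^ 2 ^ j + 1 := by
        intro j
        induction j with
        | zero => simp
        | succ j ih =>
          rw [pow_succ, pow_mul, ih, pow_two, pow_mul, pow_two, mul_add, add_mul, one_mul, mul_one]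
          rw [show φ x ^ 2 ^ j * φ x ^ 2 ^ j + φ x ^ 2 ^ j + (φ x ^ 2 ^ j + 1)
            = φ x ^ 2 ^ j * φ x ^ 2 ^ j + 1 + (φ x ^ 2 ^ j + φ x ^ 2 ^ j) by abel, h2, add_zero]
      have hxz : (φ x + 1) ^ (2 * k) = φ x ^ k * (φ x + φ x⁻¹) ^ k := by
        have hz : φ x + φ x⁻¹ ∈ Subring.center Q := hιφ x ▸ hcen (φ x)
        rw [← Commute.mul_pow (Subring.mem_center_iff.1 hz (φ x)), pow_mul]
        congr 1
        rw [pow_two, mul_add, add_mul, add_mul, mul_add, ← map_mul φ x x⁻¹, mul_inv_cancel, map_one]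
        simp only [one_mul, mul_one]
        rw [show φ x * φ x + φ x + (φ x + 1) = φ x * φ x + 1 + (φ x + φ x) by abel, h2, add_zero]
      rw [hk, mul_zero] at hxz
      have h0 : (φ x + 1) ^ 2 ^ (2 * k) = 0 := pow_eq_zero_of_le Nat.lt_two_pow_self.le hxz
      rw [hsq] at h0
      show φ (x ^ 2 ^ (2 * k)) = 1
      rw [map_pow]
      exact (eq_neg_of_add_eq_zero_left h0).trans (neg_eq_of_add_eq_zero_left (h2 1))
    exact (htop ▸ Subgroup.mem_top x0 : x0 ∈ φ.ker)
  set z := φ x + φ x⁻¹ with hzdef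
  have hz : z ∈ Subring.center Q := by
    have := hcen (φ x)
    rwa [hιφ] at this
  obtain ⟨k, hk0, hkk⟩ : ∃ k, 0 < k ∧ z ^ k * z ^ k = z ^ k := by
    obtain ⟨i, j, hij, he⟩ : ∃ i j : ℕ, i < j ∧ z ^ i = z ^ j := by
      obtain ⟨i, j, hne, he⟩ := Finite.exists_ne_map_eq_of_infinite (fun n : ℕ => z ^ n)
      rcases lt_or_gt_of_ne hne with h | h
      · exact ⟨i, j, h, he⟩
      · exact ⟨j, i, h, he.symm⟩
    obtain ⟨d, hd0, rfl⟩ : ∃ d, 0 < d ∧ j = i + d := ⟨j - i, by omega, by omega⟩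
    have hper : ∀ n, i ≤ n → ∀ m, z ^ (n + m * d) = z ^ n := by
      intro n hn m
      induction m with
      | zero => simp
      | succ m ih =>
        rw [Nat.succ_mul, ← add_assoc, show n + m * d + d = (i + d) + (n + m * d - i) by omega,
          pow_add, ← he, ← pow_add, show i + (n + m * d - i) = n + m * d by omega, ih]
    refine ⟨(i + 1) * d, by positivity, ?_⟩
    rw [← pow_add]
    exact hper _ (by nlinarith) _
  set f := z ^ k with hf
  have hfc : f ∈ Subring.center Q := Subring.pow_mem _ hz k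
  have hf0 : f ≠ 0 := hnil k
  let IsTS : AddSubgroup Q → Prop := fun J => ∀ r y, y ∈ J → r * y ∈ J ∧ y * r ∈ J
  let J0 : AddSubgroup Q := (AddMonoidHom.mulRight (1 + f)).range
  have hJ0 : IsTS J0 ∧ (1 : Q) ∉ J0 := by
    refine ⟨fun r y hy => ?_, fun h => ?_⟩
    · obtain ⟨s, rfl⟩ := hy
      refine ⟨⟨r * s, mul_assoc r s _⟩, ⟨s * r, ?_⟩⟩
      show s * r * (1 + f) = s * (1 + f) * r
      rw [mul_assoc, mul_assoc,
        Subring.mem_center_iff.1 (Subring.add_mem _ (Subring.one_mem _) hfc) r]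
    · obtain ⟨s, hs⟩ := h
      have hs' : s * (1 + f) = 1 := hs
      refine hf0 ?_
      have := congrArg (· * f) hs'
      simp only [mul_assoc, add_mul, one_mul, hkk, h2, mul_zero] at this
      exact this.symm
  obtain ⟨m, hJm, hmP, hmax'⟩ := Finite.exists_le_maximal
    (p := fun J : AddSubgroup Q => IsTS J ∧ (1 : Q) ∉ J) hJ0
  have hmax : ∀ J, IsTS J → m ≤ J → (1 : Q) ∉ J → J ≤ m := fun J hJ hle h1 => hmax' ⟨hJ, h1⟩ hle
  obtain ⟨hmTS, hm1⟩ := hmP
  have hsup : ∀ J₁ J₂, IsTS J₁ → IsTS J₂ → IsTS (J₁ ⊔ J₂) := by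
    intro J₁ J₂ hJ₁ hJ₂ r y hy
    obtain ⟨y1, hy1, y2, hy2, rfl⟩ := AddSubgroup.mem_sup.1 hy
    rw [mul_add, add_mul]
    exact ⟨AddSubgroup.add_mem_sup (hJ₁ r y1 hy1).1 (hJ₂ r y2 hy2).1,
      AddSubgroup.add_mem_sup (hJ₁ r y1 hy1).2 (hJ₂ r y2 hy2).2⟩
  let I : Ideal Q :=
    { m.toAddSubmonoid with smul_mem' := fun r y hy => (hmTS r y hy).1 }
  have : I.IsTwoSided := ⟨fun b hy => (hmTS b _ hy).2⟩
  set π := Ideal.Quotient.mk I with hπ
  have hker : ∀ y, π y = 0 ↔ y ∈ m := fun y => Ideal.Quotient.eq_zero_iff_mem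
  have hπe : ∀ y y', π y = π y' ↔ y + y' ∈ m := fun y y' => by
    have hs : ∀ a : Q, -a = a := fun a => neg_eq_of_add_eq_zero_left (h2 a)
    rw [← hker, map_add, ← sub_eq_zero, sub_eq_add_neg, ← map_neg, hs]
  have hπs : Function.Surjective π := Ideal.Quotient.mk_surjective
  have hx1 : π (φ x) ≠ 1 := by
    intro h1
    have h1' : π (φ x⁻¹) = 1 := by
      rw [← one_mul (π (φ x⁻¹))]
      nth_rewrite 1 [← h1]
      rw [← map_mul, ← map_mul φ, mul_inv_cancel, map_one, map_one]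
    refine hm1 ?_
    have hzm : π z = 0 := by
      rw [hzdef, map_add, h1, h1', ← map_one π, ← map_add, h2, map_zero]
    have hfm : π f = 0 := by rw [hf, map_pow, hzm, zero_pow (by omega)]
    have h11 : π (1 + f) = 0 := (hker _).2 (hJm ⟨1, one_mul _⟩)
    rw [← hker, ← h11, map_add, hfm, add_zero]
  have hncomm : ¬ ∀ r s, π (r * s) = π (s * r) := by
    intro h
    refine hx1 (perfect_hom_trivial hK (π.toMonoidHom.comp φ) (fun a b => ?_) x)
    show π (φ a) * π (φ b) = π (φ b) * π (φ a)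
    rw [← map_mul π (φ a), ← map_mul π (φ b)]
    exact h _ _
  -- `ι` preserves `m`
  have hιm : ∀ y ∈ m, ι y ∈ m := by
    intro y hy
    by_contra hy'
    have hTS : IsTS (m.map ι) := by
      rintro r _ ⟨w, hw, rfl⟩
      exact ⟨⟨w * ι r, (hmTS (ι r) w hw).2, by rw [hanti, hιι]⟩,
        ⟨ι r * w, (hmTS (ι r) w hw).1, by rw [hanti, hιι]⟩⟩
    have h1 : (1 : Q) ∈ m ⊔ m.map ι := by
      by_contra h1
      exact hy' (hmax _ (hsup _ _ hmTS hTS) le_sup_left h1
        (AddSubgroup.mem_sup_right ⟨y, hy, rfl⟩))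
    obtain ⟨m0, hm0, _, ⟨j, hj, rfl⟩, he⟩ := AddSubgroup.mem_sup.1 h1
    refine hncomm fun r s => ?_
    have hr : π r = π (r * ι j + ι (r * ι j)) := by
      rw [hanti, hιι, map_add, map_mul, map_mul, (hker j).2 hj, zero_mul, add_zero]
      have : π (ι j) = 1 := by rw [← map_one π, hπe, ← he, add_comm m0, ← add_assoc, h2, zero_add]; exact hm0
      rw [this, mul_one]
    rw [map_mul, map_mul, hr, ← map_mul, ← map_mul, Subring.mem_center_iff.1 (hcen (r * ι j)) s]
  -- `β` preserves `m`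
  have hβs : ∀ b, Function.Surjective (β b) := fun b r =>
    ⟨β b⁻¹ r, by rw [← hβm, mul_inv_cancel, hβ1]⟩
  have hone' : ∀ b, ∀ y ∈ m, β b y ∉ m → ∃ e ∈ m, π (β b e) = 1 := by
    intro b y hy hy'
    have hTS : IsTS (m.map (β b).toAddMonoidHom) := by
      rintro r _ ⟨w, hw, rfl⟩
      obtain ⟨r', rfl⟩ := hβs b r
      exact ⟨⟨r' * w, (hmTS r' w hw).1, map_mul (β b) r' w⟩,
        ⟨w * r', (hmTS r' w hw).2, map_mul (β b) w r'⟩⟩
    have h1 : (1 : Q) ∈ m ⊔ m.map (β b).toAddMonoidHom := by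
      by_contra h1
      exact hy' (hmax _ (hsup _ _ hmTS hTS) le_sup_left h1
        (AddSubgroup.mem_sup_right ⟨y, hy, rfl⟩))
    obtain ⟨m0, hm0, _, ⟨e, he, rfl⟩, hs⟩ := AddSubgroup.mem_sup.1 h1
    refine ⟨e, he, ?_⟩
    have : π (m0 + β b e) = π 1 := congrArg π hs
    rwa [map_add, (hker _).2 hm0, zero_add, map_one] at this
  have hb0m : Nontrivial B → ∃ b0, b0 ≠ 1 ∧ (∀ r, β b0 (r + ι r) = r + ι r) ∧
      (∀ b r, β b0 (β b r + r) = β b r + r) ∧ ∀ b, ∀ y ∈ m, β b y ∈ m := by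
    intro hB
    obtain ⟨b0, hb1, ht, hd⟩ := hb0 hB
    have hb0s : ∀ y ∈ m, β b0 y ∈ m := by
      intro y hy
      by_contra hy'
      obtain ⟨e, he, he1⟩ := hone' b0 y hy hy'
      refine hncomm fun r s => ?_
      have htm : ∀ w, π w = π (ι w) := by
        intro w
        obtain ⟨r, rfl⟩ := hβs b0 w
        have hmem : π (r * e + ι (r * e)) = 0 := by
          rw [hker]
          exact add_mem (hmTS r e he).1 (hιm _ (hmTS r e he).1)
        rw [← ht, map_add (β b0), hcomm, map_mul (β b0), map_add, map_mul, he1, mul_one, hanti] at hmem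
        rw [map_mul] at hmem
        have : π (ι (β b0 e)) = 1 := by
          rw [← map_one π, hπe]
          have h3 : β b0 e + 1 ∈ m := (hπe _ _).1 (he1.trans (map_one π).symm)
          have h4 := hιm _ h3
          rwa [map_add, hone] at h4
        rw [this, one_mul, ← map_add] at hmem
        exact (hπe _ _).2 ((hker _).1 hmem)
      rw [htm (r * s), hanti, map_mul, ← htm, ← htm, ← map_mul]
    refine ⟨b0, hb1, ht, hd, fun b y hy => ?_⟩
    by_contra hy'
    obtain ⟨e, he, he1⟩ := hone' b y hy hy'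
    have hD : ∀ w, π (β b0 w) = π w := by
      intro w
      obtain ⟨r, rfl⟩ := hβs b w
      have hmem := hd b (r * e)
      rw [map_add (β b0)] at hmem
      have h5 := congrArg π hmem
      rw [map_add, map_add, (hker _).2 (hmTS r e he).1, (hker _).2 (hb0s _ (hmTS r e he).1), add_zero,
        add_zero, map_mul (β b), map_mul (β b0), map_mul, map_mul, he1, mul_one] at h5
      have : π (β b0 (β b e)) = 1 := by
        rw [← map_one π, hπe]
        have h3 : β b e + 1 ∈ m := (hπe _ _).1 (he1.trans (map_one π).symm)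
        have h4 := hb0s _ h3
        rwa [map_add, map_one] at h4
      rwa [this, mul_one] at h5
    obtain ⟨x', hx'⟩ := hfaith (Q ⧸ I) π ⟨x, hx1⟩ b0 hb1
    exact hx' (hD _)
  have hβstab : ∀ b, ∀ y ∈ m, β b y ∈ m := by
    intro b y hy
    rcases subsingleton_or_nontrivial B with hB | hB
    · rw [Subsingleton.elim b 1, hβ1]; exact hy
    · obtain ⟨-, -, -, -, h⟩ := hb0m hB
      exact h b y hy
  let ιS : Q ⧸ I →+ Q ⧸ I := QuotientAddGroup.lift I.toAddSubgroup (π.toAddMonoidHom.comp ι)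
    (fun y hy => (hker _).2 (hιm y hy))
  have hιS : ∀ y, ιS (π y) = π (ι y) := fun y => rfl
  let βS : B → (Q ⧸ I) →+* (Q ⧸ I) := fun b =>
    Ideal.Quotient.lift I (π.comp (β b)) (fun y hy => (hker _).2 (hβstab b y hy))
  have hβS : ∀ b y, βS b (π y) = π (β b y) := fun b y => rfl
  have hS2 : ∀ r : Q ⧸ I, r + r = 0 := fun r => by
    obtain ⟨y, rfl⟩ := hπs r
    rw [← map_add, h2, map_zero]
  have hcenπ : ∀ c ∈ Subring.center Q, π c ∈ Subring.center (Q ⧸ I) := fun c hc => by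
    rw [Subring.mem_center_iff]
    intro g
    obtain ⟨g', rfl⟩ := hπs g
    rw [← map_mul, ← map_mul, Subring.mem_center_iff.1 hc g']
  have : Finite (Q ⧸ I) := Finite.of_surjective π hπs
  have hQ : QRing ιS :=
    { two := hS2
      prime := fun r s hrs => by
        obtain ⟨r', rfl⟩ := hπs r
        obtain ⟨s', rfl⟩ := hπs s
        let J : AddSubgroup Q :=
          { carrier := {w | ∀ t, π r' * π t * π w = 0}
            add_mem' := fun hu hv t => by rw [map_add, mul_add, hu t, hv t, add_zero]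
            zero_mem' := fun t => by rw [map_zero, mul_zero]
            neg_mem' := fun hu t => by rw [map_neg, mul_neg, hu t, neg_zero] }
        have hJ : IsTS J := fun c w hw =>
          ⟨fun t => by rw [map_mul, ← mul_assoc, mul_assoc (π r'), ← map_mul, hw],
           fun t => by rw [map_mul, ← mul_assoc, hw, zero_mul]⟩
        by_cases h1 : (1 : Q) ∈ J
        · exact Or.inl (by have := h1 1; rwa [map_one, mul_one, mul_one] at this)
        · exact Or.inr ((hker _).2 (hmax J hJ (fun w hw t => by rw [(hker _).2 hw, mul_zero]) h1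
            (fun t => hrs _)))
      unit := fun c hc hc0 => by
        let J : AddSubgroup Q :=
          { carrier := {w | ∃ u, π w = u * c}
            add_mem' := fun ⟨u, hu⟩ ⟨v, hv⟩ => ⟨u + v, by rw [map_add, hu, hv, add_mul]⟩
            zero_mem' := ⟨0, by rw [map_zero, zero_mul]⟩
            neg_mem' := fun ⟨u, hu⟩ => ⟨-u, by rw [map_neg, hu, neg_mul]⟩ }
        have hJ : IsTS J := fun t w ⟨u, hu⟩ =>
          ⟨⟨π t * u, by rw [map_mul, hu, mul_assoc]⟩,
           ⟨u * π t, by rw [map_mul, hu, mul_assoc, mul_assoc, Subring.mem_center_iff.1 hc]⟩⟩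
        obtain ⟨c', hc'⟩ := hπs c
        have h1 : (1 : Q) ∈ J := by
          by_contra h1
          refine hc0 ?_
          rw [← hc', hker]
          exact hmax J hJ (fun w hw => ⟨0, by rw [(hker _).2 hw, zero_mul]⟩) h1
            ⟨1, by rw [hc', one_mul]⟩
        obtain ⟨u, hu⟩ := h1
        rw [map_one] at hu
        refine ⟨u, ?_, by rw [← Subring.mem_center_iff.1 hc u]; exact hu.symm⟩
        rw [Subring.mem_center_iff]
        intro g
        calc g * u = (u * c) * (g * u) := by rw [← hu, one_mul]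
          _ = u * (g * (u * c)) := by
            rw [mul_assoc u c, ← Subring.mem_center_iff.1 hc (g * u), mul_assoc g u c]
          _ = u * g := by rw [← hu, mul_one]
      anti := fun r s => by
        obtain ⟨r', rfl⟩ := hπs r
        obtain ⟨s', rfl⟩ := hπs s
        rw [← map_mul, hιS, hιS, hιS, hanti, map_mul]
      one := by rw [← map_one π, hιS, hone]
      trace := fun r => by
        obtain ⟨r', rfl⟩ := hπs r
        rw [hιS, ← map_add]
        exact hcenπ _ (hcen r')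
      noncomm := by
        by_contra hno
        push Not at hno
        exact hncomm fun r s => by rw [map_mul, map_mul, hno] }
  refine hQ.count hBc βS (fun a b r => ?_) (fun r => ?_) (fun b r => ?_) (fun b hb => ?_)
    (fun hB => ?_) (hQ.two_lt_card_center hK (π.toMonoidHom.comp φ) ⟨x, hx1⟩) ?_
  · obtain ⟨y, rfl⟩ := hπs r
    rw [hβS, hβS, hβS, hβm]
  · obtain ⟨y, rfl⟩ := hπs r
    rw [hβS, hβ1]
  · obtain ⟨y, rfl⟩ := hπs r
    rw [hιS, hβS, hβS, hιS, hcomm]
  · obtain ⟨x', hx'⟩ := hfaith (Q ⧸ I) π ⟨x, hx1⟩ b hb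
    exact ⟨π (φ x'), hx'⟩
  · obtain ⟨b0, hb1, ht, hd, -⟩ := hb0m hB
    refine ⟨b0, hb1, fun r => ?_, fun b r => ?_⟩
    · obtain ⟨y, rfl⟩ := hπs r
      rw [hιS, ← map_add, hβS, ht]
    · obtain ⟨y, rfl⟩ := hπs r
      rw [hβS, ← map_add, hβS, hd]
  · have h1 : ((fixed ιS βS).comap π.toAddMonoidHom).index = (fixed ιS βS).index :=
      AddSubgroup.index_comap_of_surjective _ hπs
    have h3 : fixed ι β ≤ (fixed ιS βS).comap π.toAddMonoidHom := fun r hr =>
      ⟨by show ιS (π r) = π r; rw [hιS, hr.1],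
       fun b => by show βS b (π r) = π r; rw [hβS, hr.2]⟩
    have h4 : (fixed ιS βS).index ≤ 2 * Nat.card B := by
      rw [← h1]
      exact (Nat.le_of_dvd (Nat.pos_of_ne_zero AddSubgroup.index_ne_zero_of_finite)
        (AddSubgroup.index_dvd_of_le h3)).trans hbound
    rw [← AddSubgroup.card_mul_index (fixed ιS βS), mul_comm]
    exact Nat.mul_le_mul_right _ h4

end Cfsg.Agent.Invol.PGV
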