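import Cfsg.Prelude
import Cfsg.Agent.Lib.Invol.ComponentOrbit
import Cfsg.Agent.Lib.Invol.PGVRingEndgame
import Cfsg.Agent.Lib.Transfer.Timmesfeld

/-!
The P(G,V)-theorem: a best offender normalizes every component.
-/

set_option autoImplicit false

namespace Cfsg.Agent.Invol.PGV

open scoped Pointwise commutatorElement
open Cfsg.Agent.Grp Cfsg.Agent.Transfer.Timmesfeld

universe u v

section Basic

variable {G V : Type*} [Group G] [AddCommGroup V] (T : G →* AddMonoid.End V)

theorem T_comm {g h : G} (hc : Commute g h) (w : V) : T g (T h w) = T h (T g w) := by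
  rw [← T_mul, ← T_mul, hc.eq]

/-- A perfect group fixes `v` as soon as it fixes all `x v - v`. -/
theorem fix_of_sub {K : Type*} [Group K] (hK : Group.IsPerfect K) (f : K →* AddMonoid.End V) (w : V)
    (h : ∀ x y, f y (f x w - w) = f x w - w) (x : K) : f x w = w := by
  let φ : K →* Multiplicative V := MonoidHom.mk' (fun x => Multiplicative.ofAdd (f x w - w))
    (fun x y => by
      show Multiplicative.ofAdd (f (x * y) w - w) = Multiplicative.ofAdd ((f x w - w) + (f y w - w))
      congr 1
      have h1 : f (x * y) w = f x (f y w) := T_mul f x y w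
      have h2 := h y x
      rw [map_sub, ← h1, sub_eq_iff_eq_add] at h2
      rw [h2]; abel)
  have := perfect_hom_trivial hK φ (fun a b => mul_comm _ _) x
  exact sub_eq_zero.1 this

/-- An element fixing `[V,a]` and commuting with `a` and `y` fixes `(a y a⁻¹ - y) w`. -/
theorem fix_diff {g a y : G} (hga : Commute g a) (hgy : Commute g y)
    (hid : ∀ w, T g (T a w - w) = T a w - w) (w : V) :
    T g (T (a * y * a⁻¹) w - T y w) = T (a * y * a⁻¹) w - T y w := by
  have e1 := hid (T y (T a⁻¹ w))
  rw [← T_mul T a y, ← T_mul T (a * y) a⁻¹] at e1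
  have e2 : T g (T y (T a⁻¹ w) - T y w) = T y (T a⁻¹ w) - T y w := by
    rw [← map_sub, T_comm T hgy]
    congr 1
    have := hid (T a⁻¹ w)
    rw [← T_mul T a a⁻¹, mul_inv_cancel, map_one] at this
    have h' : T g (w - T a⁻¹ w) = w - T a⁻¹ w := this
    rw [← neg_sub w, map_neg, h']
  have := congrArg₂ (· + ·) e1 e2
  rwa [← map_add, sub_add_sub_cancel] at this

/-- If `g = x * r` fixes every value of `D`, and both `x`, `z` commute with `D`, and `r` with `z`,
then `x` and `z` commute on the values of `D`. -/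
theorem comm_on_values {x z r : G} (D : V → V) (hzr : Commute z r)
    (hxD : ∀ w, T x (D w) = D (T x w)) (hzD : ∀ w, T z (D w) = D (T z w))
    (hfix : ∀ w, T (x * r) (D w) = D w) (w : V) : T x (T z (D w)) = T z (T x (D w)) := by
  have hr : ∀ w, T r (D w) = T x⁻¹ (D w) := fun w => by
    have := congrArg (T x⁻¹) (hfix w)
    rwa [T_mul, T_inv] at this
  have h1 : ∀ w, T x⁻¹ (T z (D w)) = T z (T x⁻¹ (D w)) := fun w => by
    rw [← hr w, T_comm T hzr, hzD, hr]
  have h2 := congrArg (T x) (h1 (T x w))
  rw [← hxD w, T_inv T x, ← T_mul T x x⁻¹, mul_inv_cancel, map_one] at h2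
  exact h2.symm

end Basic

section Odd

variable {G V : Type*} [Group G] [Finite G] [AddCommGroup V] [Finite V] (T : G →* AddMonoid.End V)

/-- For odd `p` the diagonal of an orbit of components cannot fix `[V,a]`. -/
theorem odd_orbit_absurd {p : ℕ} [hp : Fact p.Prime] (hp2 : p ≠ 2) (hT : Function.Injective T)
    (hexp : ∀ w : V, p • w = 0) {K : Subgroup G} (hK : Cfsg.IsComponent K) {a : G} (hap : a ^ p = 1)
    (ha : a ∉ Subgroup.normalizer (K : Set G)) {ψ : ↥K →* G} (hψa : ∀ x, Commute a (ψ x))
    (hψc : ∀ x : K, (x : G)⁻¹ * ψ x ∈ Subgroup.centralizer (K : Set G))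
    (hψe : ∀ x : K, ψ x = ((x : G) * a) ^ p)
    (hid : ∀ (x : K) w, T (ψ x) (T a w - w) = T a w - w) : False := by
  classical
  have hperf : Group.IsPerfect ↥K := hK.2.1
  let c : ℕ → ↥K →* G := fun i => (MulAut.conj (a ^ i)).toMonoidHom.comp K.subtype
  have hcdef : ∀ i (x : K), c i x = a ^ i * x * (a ^ i)⁻¹ := fun i x => rfl
  have hcp : ∀ i, c (i % p) = c i := fun i => by
    ext x; rw [hcdef, hcdef, ← pow_mod_orderOf a i, ← pow_mod_orderOf a (i % p)]
    have : orderOf a ∣ p := orderOf_dvd_of_pow_eq_one hap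
    rw [Nat.mod_mod_of_dvd _ this]
  have hcs : ∀ i (x : K), c (i + 1) x = a * c i x * a⁻¹ := fun i x => by
    rw [hcdef, hcdef, pow_succ']; group
  have hcc : ∀ i j, i % p ≠ j % p → ∀ x y, Commute (c i x) (c j y) := by
    intro i j hij x y
    rw [← hcp i, ← hcp j]
    have hmem : ∀ n (z : K), c n z ∈ MulAut.conj (a ^ n) • K := fun n z => by
      rw [mem_smul_conj, hcdef]; simp [mul_assoc]
    have hne : MulAut.conj (a ^ (i % p)) • K ≠ MulAut.conj (a ^ (j % p)) • K := by
      intro he
      rcases lt_or_gt_of_ne hij with h | h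
      · exact conj_pow_smul_ne hap ha h (Nat.mod_lt _ hp.out.pos) he
      · exact conj_pow_smul_ne hap ha h (Nat.mod_lt _ hp.out.pos) he.symm
    exact (Subgroup.mem_centralizer_iff.1
      (IsComponent.commute (IsComponent.conj hK _) (IsComponent.conj hK _) hne (hmem _ x)) _
      (hmem _ y)).symm
  have hψci : ∀ i x, Commute (ψ x) (c i x) := fun i x => by
    have h1 : Commute (x : G) ((x : G)⁻¹ * ψ x) := Subgroup.mem_centralizer_iff.1 (hψc x) x x.2
    have h2 : Commute (x : G) (ψ x) := by
      have := (Commute.refl (x : G)).mul_right h1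
      rwa [mul_inv_cancel_left] at this
    have h3 : Commute (ψ x) (a ^ i) := ((hψa x).pow_left i).symm
    rw [hcdef]
    exact (h3.mul_right h2.symm).mul_right h3.inv_right
  -- differences
  let D : ℕ → K → V → V := fun i x w => T (c (i + 1) x) w - T (c i x) w
  have hD : ∀ i x w, T (ψ x) (D i x w) = D i x w := fun i x w => by
    simp only [D, hcs]
    exact fix_diff T (hψa x).symm (hψci i x) (hid x) w
  let C : ℕ → K → K → V → V := fun k x y w => T (c k x) (T (c k y) w) - T (c k y) (T (c k x) w)
  have hCc : ∀ k x y, ∀ g, Commute g (c k x) → Commute g (c k y) →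
      ∀ w, T g (C k x y w) = C k x y (T g w) := by
    intro k x y g h1 h2 w
    show T g (_ - _) = _ - _
    rw [map_sub, T_comm T h1, T_comm T h2, T_comm T h2, T_comm T h1]
  have hE : ∀ i k, k % p ≠ i % p → k % p ≠ (i + 1) % p → ∀ x y w,
      C k x y (T (c (i + 1) x) w) = C k x y (T (c i x) w) := by
    intro i k h1 h2 x y w
    have hcd : ∀ z, ∀ w, T (c k z) (D i x w) = D i x (T (c k z) w) := fun z w => by
      show T (c k z) (_ - _) = _ - _
      rw [map_sub, T_comm T (hcc k (i + 1) h2 z x), T_comm T (hcc k i h1 z x)]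
    have hr : Commute (c k y) ((c k x)⁻¹ * ψ x) := by
      have h3' : Commute (y : G) ((x : G)⁻¹ * ψ x) := Subgroup.mem_centralizer_iff.1 (hψc x) y y.2
      have h3 := h3'.map (MulAut.conj (a ^ k)).toMonoidHom
      have h4 : (MulAut.conj (a ^ k)).toMonoidHom ((x : G)⁻¹ * ψ x) = (c k x)⁻¹ * ψ x := by
        show a ^ k * ((x : G)⁻¹ * ψ x) * (a ^ k)⁻¹ = _
        have : ψ x = a ^ k * ψ x * (a ^ k)⁻¹ := by
          rw [((hψa x).pow_left k).eq, mul_inv_cancel_right]
        conv_rhs => rw [this]
        rw [hcdef]; group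
      rwa [h4] at h3
    have := comm_on_values T (D i x) hr (hcd x) (hcd y)
      (fun w => by rw [mul_inv_cancel_left]; exact hD i x w) w
    rw [← sub_eq_zero] at this
    have h5 : C k x y (D i x w) = 0 := this
    show T (c k x) (T (c k y) _) - T (c k y) (T (c k x) _) =
      T (c k x) (T (c k y) _) - T (c k y) (T (c k x) _)
    simp only [C, D, map_sub] at h5
    rw [← sub_eq_zero, ← h5]; abel
  have hCC : ∀ i k, k % p ≠ i % p → ∀ x y z w, C k x y (C i x z w) = 0 := by
    intro i k hki x y z w
    -- a partner `j` of `i`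
    obtain ⟨j, hji, hjk, hpair⟩ : ∃ j, j % p ≠ i % p ∧ k % p ≠ j % p ∧ ∀ w,
        C k x y (T (c i x) w) = C k x y (T (c j x) w) := by
      have hp3 : 3 ≤ p := by
        have := hp.out.two_le; omega
      have hsucc : ∀ m, (m + 1) % p ≠ m % p := fun m h => by
        have h' : (m + 1) ≡ (m + 0) [MOD p] := h
        have h'' := Nat.ModEq.add_left_cancel' m h'
        rw [Nat.ModEq, Nat.zero_mod, Nat.one_mod_eq_one.2 (by omega)] at h''
        omega
      by_cases h : k % p = (i + 1) % p
      · refine ⟨i + (p - 1), ?_, ?_, fun w => ?_⟩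
        · intro h'
          refine hsucc (i + (p - 1)) ?_
          rw [show i + (p - 1) + 1 = i + p by omega, Nat.add_mod_right, h']
        · rw [h]
          intro h'
          have h1 : (i + 1) ≡ (i + (p - 1)) [MOD p] := h'
          have h2 := Nat.ModEq.add_left_cancel' i h1
          rw [Nat.ModEq, Nat.mod_eq_of_lt (by omega), Nat.mod_eq_of_lt (by omega)] at h2
          omega
        · have e : c (i + (p - 1) + 1) = c i := by
            rw [← hcp (i + (p - 1) + 1), ← hcp i, show i + (p - 1) + 1 = i + p by omega,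
              Nat.add_mod_right]
          have := hE (i + (p - 1)) k (by
              intro h'; rw [h] at h'
              have h1 : (i + 1) ≡ (i + (p - 1)) [MOD p] := h'
              have h2 := Nat.ModEq.add_left_cancel' i h1
              rw [Nat.ModEq, Nat.mod_eq_of_lt (by omega), Nat.mod_eq_of_lt (by omega)] at h2
              omega) (by rwa [show i + (p - 1) + 1 = i + p by omega, Nat.add_mod_right]) x y w
          rw [e] at this
          exact this
      · exact ⟨i + 1, hsucc i, h, fun w => (hE i k hki h x y w).symm⟩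
    have hz : ∀ u, T (c i z) (C k x y u) = C k x y (T (c i z) u) :=
      hCc k x y _ (hcc i k (Ne.symm hki) z x) (hcc i k (Ne.symm hki) z y)
    have h6 : C k x y (T (c i x) (T (c i z) w)) = C k x y (T (c i z) (T (c i x) w)) := by
      rw [hpair, T_comm T (hcc j i hji x z), ← hz, ← hpair, hz]
    show C k x y (T (c i x) (T (c i z) w) - T (c i z) (T (c i x) w)) = 0
    have hadd : ∀ u v', C k x y (u - v') = C k x y u - C k x y v' := fun u v' => by
      simp only [C, map_sub]; abel
    rw [hadd, h6, sub_self]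
  -- fixed points
  let F : AddSubgroup V :=
    { carrier := {w | ∀ i x, T (c i x) w = w}
      add_mem' := fun hu hv i x => by rw [map_add, hu i x, hv i x]
      zero_mem' := fun i x => map_zero _
      neg_mem' := fun hu i x => by rw [map_neg, hu i x] }
  have hFtop : F ≠ ⊤ := by
    intro h
    refine IsComponent.ne_bot hK ((Subgroup.eq_bot_iff_forall _).2 fun x hx => hT ?_)
    refine AddMonoidHom.ext fun w => ?_
    have h1 : w ∈ F := h ▸ AddSubgroup.mem_top w
    have := h1 0 ⟨x, hx⟩
    rw [hcdef] at this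
    simp only [pow_zero, inv_one, mul_one, one_mul] at this
    rw [map_one]
    exact this
  obtain ⟨P, -, ⟨hFP, hPinv⟩, hPmin'⟩ := Finite.exists_le_minimal
    (p := fun P : AddSubgroup V => F < P ∧ ∀ i x, ∀ w ∈ P, T (c i x) w ∈ P)
    (a := (⊤ : AddSubgroup V)) ⟨hFtop.lt_top, fun i x w _ => AddSubgroup.mem_top _⟩
  have hFinv : ∀ i x, ∀ w ∈ F, T (c i x) w ∈ F := fun i x w hw => by rw [hw i x]; exact hw
  have hPmin : ∀ N : AddSubgroup V, F ≤ N → N ≤ P → (∀ i x, ∀ w ∈ N, T (c i x) w ∈ N) →
      N = F ∨ N = P := by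
    intro N h1 h2 h3
    rcases eq_or_lt_of_le h1 with h | h
    · exact Or.inl h.symm
    · exact Or.inr (le_antisymm h2 (hPmin' ⟨h, h3⟩ h2))
  have hCP : ∀ k x y, ∀ w ∈ P, C k x y w ∈ P := fun k x y w hw =>
    P.sub_mem (hPinv _ _ _ (hPinv _ _ _ hw)) (hPinv _ _ _ (hPinv _ _ _ hw))
  -- the elements centralized modulo `F` on `P`
  let S : ℕ → Subgroup K := fun k =>
    { carrier := {x | ∀ y, ∀ w ∈ P, C k x y w ∈ F}
      one_mem' := fun y w hw => by
        show T (c k 1) _ - T (c k y) (T (c k 1) w) ∈ F
        simp only [map_one]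
        show T (c k y) w - T (c k y) w ∈ F
        rw [sub_self]; exact F.zero_mem
      mul_mem' := fun {x x'} hx hx' y w hw => by
        have e : C k (x * x') y w = T (c k x) (C k x' y w) + C k x y (T (c k x') w) := by
          simp only [C, map_mul (c k), T_mul, map_sub]; abel
        show C k (x * x') y w ∈ F
        rw [e]
        exact F.add_mem (hFinv _ _ _ (hx' y w hw)) (hx y _ (hPinv _ _ _ hw))
      inv_mem' := fun {x} hx y w hw => by
        have h1 : ∀ u, T (c k x⁻¹) (T (c k x) u) = u := fun u => by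
          rw [← T_mul, ← map_mul, inv_mul_cancel, map_one, map_one]; rfl
        have h2 : ∀ u, T (c k x) (T (c k x⁻¹) u) = u := fun u => by
          rw [← T_mul, ← map_mul, mul_inv_cancel, map_one, map_one]; rfl
        have e : C k x⁻¹ y w = - T (c k x⁻¹) (C k x y (T (c k x⁻¹) w)) := by
          simp only [C, map_sub, h1, h2]; abel
        show C k x⁻¹ y w ∈ F
        rw [e]
        exact F.neg_mem (hFinv _ _ _ (hx y _ (hPinv _ _ _ hw))) }
  have hSmem : ∀ k x, (x ∈ S k ↔ ∀ y, ∀ w ∈ P, C k x y w ∈ F) := fun k x => Iff.rfl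
  have hdich : ∀ i k, k % p ≠ i % p → ∀ x, x ∈ S k ∨ x ∈ S i := by
    intro i k hki x
    let N : AddSubgroup V :=
      { carrier := {w | w ∈ P ∧ ∀ y, C k x y w ∈ F}
        add_mem' := fun {u v'} hu hv => ⟨P.add_mem hu.1 hv.1, fun y => by
          have e : C k x y (u + v') = C k x y u + C k x y v' := by simp only [C, map_add]; abel
          rw [e]; exact F.add_mem (hu.2 y) (hv.2 y)⟩
        zero_mem' := ⟨P.zero_mem, fun y => by simp only [C, map_zero, sub_zero]; exact F.zero_mem⟩
        neg_mem' := fun {u} hu => ⟨P.neg_mem hu.1, fun y => by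
          have e : C k x y (-u) = - C k x y u := by simp only [C, map_neg]; abel
          rw [e]; exact F.neg_mem (hu.2 y)⟩ }
    have hFN : F ≤ N := fun w hw => ⟨hFP.le hw, fun y => by
      simp only [C, hw k x, hw k y, sub_self]; exact F.zero_mem⟩
    have hNinv : ∀ j z, ∀ w ∈ N, T (c j z) w ∈ N := by
      intro j z w hw
      refine ⟨hPinv _ _ _ hw.1, fun y => ?_⟩
      by_cases hjk : j % p = k % p
      · rw [← hcp j, hjk, hcp]
        have e : C k x y (T (c k z) w) = C k x (y * z) w - T (c k y) (C k x z w) := by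
          simp only [C, map_mul (c k), T_mul, map_sub]; abel
        rw [e]
        exact F.sub_mem (hw.2 _) (hFinv _ _ _ (hw.2 z))
      · rw [← hCc k x y _ (hcc j k hjk z x) (hcc j k hjk z y)]
        exact hFinv _ _ _ (hw.2 y)
    rcases hPmin N hFN (fun w hw => hw.1) hNinv with h | h
    · refine Or.inr ((hSmem i x).2 fun z w hw => h.le ⟨hCP i x z w hw, fun y => ?_⟩)
      rw [hCC i k hki]; exact F.zero_mem
    · exact Or.inl ((hSmem k x).2 fun y w hw => (h.ge hw).2 y)
  have htriv : ∀ k, S k = ⊤ → ∀ x, ∀ w ∈ P, T (c k x) w - w ∈ F := by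
    intro k hk
    let M : Subgroup K :=
      { carrier := {x | ∀ w ∈ P, T (c k x) w - w ∈ F}
        one_mem' := fun w _ => by rw [map_one, map_one]; show w - w ∈ F; rw [sub_self]; exact F.zero_mem
        mul_mem' := fun {x y} hx hy w hw => by
          have e : T (c k (x * y)) w - w
              = (T (c k x) (T (c k y) w) - T (c k y) w) + (T (c k y) w - w) := by
            rw [map_mul, T_mul]; abel
          show T (c k (x * y)) w - w ∈ F
          rw [e]; exact F.add_mem (hx _ (hPinv _ _ _ hw)) (hy w hw)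
        inv_mem' := fun {x} hx w hw => by
          have h2 : T (c k x) (T (c k x⁻¹) w) = w := by
            rw [← T_mul, ← map_mul, mul_inv_cancel, map_one, map_one]; rfl
          have := hx _ (hPinv k x⁻¹ w hw)
          rw [h2] at this
          have h3 := F.neg_mem this
          rwa [neg_sub] at h3 }
    have hM : M = ⊤ := perfect_eq_top hperf M fun x y w hw => by
      set u := T (c k x⁻¹) (T (c k y⁻¹) w) with hu
      have hu' : u ∈ P := hPinv _ _ _ (hPinv _ _ _ hw)
      have h1 : x ∈ S k := hk ▸ Subgroup.mem_top x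
      have e1 : T (c k ⁅x, y⁆) w = T (c k x) (T (c k y) u) := by
        rw [commutatorElement_def, map_mul (c k), map_mul (c k), map_mul (c k), T_mul, T_mul, T_mul, hu]
      have e2 : T (c k y) (T (c k x) u) = w := by
        rw [hu, ← T_mul T (c k x), ← map_mul, mul_inv_cancel, map_one, map_one]
        show T (c k y) (T (c k y⁻¹) w) = w
        rw [← T_mul, ← map_mul, mul_inv_cancel, map_one, map_one]; rfl
      have h2 := (hSmem k x).1 h1 y u hu'
      simp only [C, e2, ← e1] at h2
      exact h2
    intro x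
    exact (show x ∈ M from hM ▸ Subgroup.mem_top x)
  have hone : ∀ i k, k % p ≠ i % p → S k = ⊤ ∨ S i = ⊤ := by
    intro i k hki
    by_contra hno
    push Not at hno
    obtain ⟨⟨x, hx⟩, ⟨y, hy⟩⟩ : (∃ x, x ∉ S k) ∧ ∃ y, y ∉ S i := by
      simp only [ne_eq, Subgroup.eq_top_iff', not_forall] at hno; exact hno
    have hx' := (hdich i k hki x).resolve_left hx
    have hy' := (hdich i k hki y).resolve_right hy
    rcases hdich i k hki (x * y) with h | h
    · exact hx ((Subgroup.mul_mem_cancel_right _ hy').1 h)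
    · exact hy ((Subgroup.mul_mem_cancel_left _ hx').1 h)
  -- conclusion
  obtain ⟨w0, hw0P, hw0F⟩ := SetLike.exists_of_lt hFP
  have hall : ∀ i, ∀ x, ∀ w ∈ P, T (c i x) w - w ∈ F := by
    by_contra hno
    push Not at hno
    obtain ⟨i, x0, w1, hw1, hbad⟩ := hno
    have hothers : ∀ k, k % p ≠ i % p → ∀ x, ∀ w ∈ P, T (c k x) w - w ∈ F := fun k hk =>
      htriv k ((hone i k hk).resolve_right fun h => hbad (htriv i h x0 w1 hw1))
    let i₀ := i % p
    have hi₀ : i₀ < p := Nat.mod_lt _ hp.out.pos
    -- `ψ x` acts as `c i₀ x`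
    have hψP : ∀ (x : K), ∀ w ∈ P, T (ψ x) w - T (c i₀ x) w ∈ F ∧ T (ψ x) w ∈ P := by
      intro x
      have key : ∀ n, n ≤ p → ∀ w ∈ P,
          T (((x : G) * a) ^ n * (a ^ n)⁻¹) w ∈ P ∧
          T (((x : G) * a) ^ n * (a ^ n)⁻¹) w - (if n ≤ i₀ then w else T (c i₀ x) w) ∈ F ∧
          ∀ f ∈ F, T (((x : G) * a) ^ n * (a ^ n)⁻¹) f = f := by
        intro n
        induction n with
        | zero =>
          intro _ w hw
          simp only [pow_zero, inv_one, mul_one, map_one]
          refine ⟨hw, ?_, fun f _ => rfl⟩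
          rw [if_pos (Nat.zero_le _)]
          show w - w ∈ F
          rw [sub_self]; exact F.zero_mem
        | succ n ih =>
          intro hn w hw
          have e : ((x : G) * a) ^ (n + 1) * (a ^ (n + 1))⁻¹
              = ((x : G) * a) ^ n * (a ^ n)⁻¹ * c n x := by
            rw [hcdef, pow_succ, pow_succ, mul_inv_rev]; group
          obtain ⟨h1, h2, h3⟩ := ih (by omega) (T (c n x) w) (hPinv _ _ _ hw)
          rw [e]
          refine ⟨by rw [T_mul]; exact h1, ?_, fun f hf => by rw [T_mul, hf n x, h3 f hf]⟩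
          rw [T_mul]
          by_cases hni : n < i₀
          · rw [if_pos (by omega : n + 1 ≤ i₀)]
            rw [if_pos hni.le] at h2
            have := hothers n (by rw [Nat.mod_eq_of_lt (by omega : n < p)]; exact hni.ne) x w hw
            have e2 := F.add_mem h2 this
            rwa [sub_add_sub_cancel] at e2
          · rw [if_neg (by omega : ¬ n + 1 ≤ i₀)]
            by_cases hn' : n = i₀
            · rw [if_pos (by omega : n ≤ i₀)] at h2
              rw [← hn'] at *; exact h2
            · rw [if_neg (by omega : ¬ n ≤ i₀)] at h2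
              have h4 := hFinv i₀ x _ (hothers n (by
                rw [Nat.mod_eq_of_lt (by omega : n < p)]; exact hn') x w hw)
              rw [map_sub] at h4
              have e2 := F.add_mem h2 h4
              rwa [sub_add_sub_cancel] at e2
      intro w hw
      have := key p le_rfl w hw
      rw [hap, inv_one, mul_one, ← hψe, if_neg (by omega : ¬ p ≤ i₀)] at this
      exact ⟨this.2.1, this.1⟩
    -- `c i₀ x` is unipotent of degree two
    have hsq : ∀ (x : K), ∀ w ∈ P, T (c i₀ x) (T (c i₀ x) w - w) - (T (c i₀ x) w - w) ∈ F := by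
      intro x w hw
      have hnext : T (c (i₀ + 1) x) w - w ∈ F := hothers (i₀ + 1) (by
        show (i % p + 1) % p ≠ i % p
        rw [Nat.mod_add_mod]
        intro h
        have h' : (i + 1) ≡ (i + 0) [MOD p] := h
        have h'' := Nat.ModEq.add_left_cancel' i h'
        rw [Nat.ModEq, Nat.zero_mod, Nat.one_mod_eq_one.2 hp.out.ne_one] at h''
        omega) x w hw
      set d := D i₀ x w with hd
      have hdP : d ∈ P := P.sub_mem (hPinv _ _ _ hw) (hPinv _ _ _ hw)
      have h1 := (hψP x d hdP).1
      rw [hD] at h1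
      -- `d ≡ w - x w`
      have h2 : d + (T (c i₀ x) w - w) ∈ F := by
        rw [hd]
        show T (c (i₀ + 1) x) w - T (c i₀ x) w + (T (c i₀ x) w - w) ∈ F
        rwa [sub_add_sub_cancel]
      have h3 := hFinv i₀ x _ h2
      rw [map_add] at h3
      have h4 := F.add_mem (F.sub_mem h3 h2) h1
      have e : T (c i₀ x) d + T (c i₀ x) (T (c i₀ x) w - w) - (d + (T (c i₀ x) w - w))
          + (d - T (c i₀ x) d) = T (c i₀ x) (T (c i₀ x) w - w) - (T (c i₀ x) w - w) := by abel
      rwa [e] at h4
    let N : Subgroup K :=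
      { carrier := {x | ∀ w ∈ P, T (c i₀ x) w - w ∈ F}
        one_mem' := fun w _ => by rw [map_one, map_one]; show w - w ∈ F; rw [sub_self]; exact F.zero_mem
        mul_mem' := fun {x y} hx hy w hw => by
          have e : T (c i₀ (x * y)) w - w
              = (T (c i₀ x) (T (c i₀ y) w) - T (c i₀ y) w) + (T (c i₀ y) w - w) := by
            rw [map_mul, T_mul]; abel
          show T (c i₀ (x * y)) w - w ∈ F
          rw [e]; exact F.add_mem (hx _ (hPinv _ _ _ hw)) (hy w hw)
        inv_mem' := fun {x} hx w hw => by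
          have h2 : T (c i₀ x) (T (c i₀ x⁻¹) w) = w := by
            rw [← T_mul, ← map_mul, mul_inv_cancel, map_one, map_one]; rfl
          have := hx _ (hPinv i₀ x⁻¹ w hw)
          rw [h2] at this
          have h3 := F.neg_mem this
          rwa [neg_sub] at h3 }
    have : N.Normal := ⟨fun x hx g w hw => by
      have h1 := hFinv i₀ g _ (hx _ (hPinv i₀ g⁻¹ w hw))
      rw [map_sub, ← T_mul, ← T_mul, ← map_mul, ← map_mul, ← T_mul, ← map_mul, mul_inv_cancel,
        map_one, map_one] at h1
      exact h1⟩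
    have hN : N = ⊤ := perfect_top_of_pow (p := p) hperf N fun x => ⟨1, fun w hw => by
      have hn : ∀ n : ℕ, T (c i₀ (x ^ n)) w - (w + n • (T (c i₀ x) w - w)) ∈ F := by
        intro n
        induction n with
        | zero =>
          simp only [pow_zero, map_one, zero_smul, add_zero]
          show w - w ∈ F
          rw [sub_self]; exact F.zero_mem
        | succ n ih =>
          have h1 := hFinv i₀ x _ ih
          rw [map_sub, map_add, map_nsmul, ← T_mul, ← map_mul, ← pow_succ'] at h1
          have h2 := F.add_mem h1 (F.nsmul_mem (hsq x w hw) n)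
          rw [succ_nsmul]
          have e : T (c i₀ (x ^ (n + 1))) w
                - (T (c i₀ x) w + n • T (c i₀ x) (T (c i₀ x) w - w))
              + n • (T (c i₀ x) (T (c i₀ x) w - w) - (T (c i₀ x) w - w))
              = T (c i₀ (x ^ (n + 1))) w - (w + (n • (T (c i₀ x) w - w) + (T (c i₀ x) w - w))) := by
            rw [nsmul_sub]; abel
          rwa [e] at h2
      have := hn p
      rw [hexp, add_zero] at this
      rw [pow_one]
      exact this⟩
    refine hbad ?_
    rw [← hcp]
    exact (show x0 ∈ N from hN ▸ Subgroup.mem_top x0) w1 hw1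
  refine hw0F fun i x => ?_
  refine fix_of_sub hperf (T.comp (c i)) w0 (fun x y => ?_) x
  exact hall i x w0 hw0P i y

end Odd

section Two

variable {G V : Type*} [Group G] [Finite G] [AddCommGroup V] [Finite V] (T : G →* AddMonoid.End V)

omit [Finite V] in
/-- Two components in different orbits of `a` have trivial product of augmentations. -/
theorem two_step {K L : Subgroup G} (hK : Cfsg.IsComponent K) (hL : Cfsg.IsComponent L) {a : G}
    (ha2 : a * a = 1) (hLK : L ≠ K) (hLa : MulAut.conj a • L ≠ K)
    (hid : ∀ x ∈ K, ∀ w, T (x * (a * x * a)) (T a w - w) = T a w - w)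
    (hca : ∀ x ∈ K, Commute (x * (a * x * a)) a) (hKK : MulAut.conj a • K ≠ K)
    (hLL : MulAut.conj a • L ≠ L) :
    ∀ x ∈ K, ∀ y ∈ L, ∀ w, T x (T y w - w) = T y w - w := by
  have hainv : a⁻¹ = a := inv_eq_of_mul_eq_one_right ha2
  have hcomm : ∀ x ∈ K, ∀ y ∈ L, Commute x y := fun x hx y hy =>
    (Subgroup.mem_centralizer_iff.1 (IsComponent.commute hL hK hLK hy) x hx)
  have hcomm' : ∀ x ∈ K, ∀ y ∈ L, Commute x (a * y * a) := fun x hx y hy =>
    Subgroup.mem_centralizer_iff.1 (IsComponent.commute (IsComponent.conj hL a) hK hLa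
      (show a * y * a ∈ MulAut.conj a • L by
        rw [mem_smul_conj, hainv]; simp only [← mul_assoc, ha2, one_mul]; rwa [mul_assoc, ha2, mul_one]))
      x hx
  have hKa : MulAut.conj a • K ≠ L := fun h => hLa (by
    rw [← h, conj_smul_conj_smul, ha2, map_one, one_smul])
  have hcomm2 : ∀ x ∈ K, ∀ y ∈ L, Commute (a * x * a) y := fun x hx y hy =>
    Subgroup.mem_centralizer_iff.1 (IsComponent.commute hL (IsComponent.conj hK a) (Ne.symm hKa) hy)
      (a * x * a) (by
        show a * x * a ∈ MulAut.conj a • K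
        rw [mem_smul_conj, hainv]; simp only [← mul_assoc, ha2, one_mul]; rwa [mul_assoc, ha2, mul_one])
  have hcomm3 : ∀ x ∈ K, ∀ y ∈ L, Commute (a * x * a) (a * y * a) := fun x hx y hy => by
    have := (hcomm x hx y hy).map (MulAut.conj a).toMonoidHom
    simpa only [MulEquiv.coe_toMonoidHom, MulAut.conj_apply, hainv] using this
  have hmem : ∀ (M : Subgroup G), ∀ x ∈ M, a * x * a ∈ MulAut.conj a • M := fun M x hx => by
    rw [mem_smul_conj, hainv]; simp only [← mul_assoc, ha2, one_mul]; rwa [mul_assoc, ha2, mul_one]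
  let D : G → V → V := fun y w => T (a * y * a) w - T y w
  have hDfix : ∀ x ∈ K, ∀ y ∈ L, ∀ w, T (x * (a * x * a)) (D y w) = D y w := by
    intro x hx y hy w
    have := fix_diff T (hca x hx) ((hcomm x hx y hy).mul_left (hcomm2 x hx y hy)) (hid x hx) w
    rwa [hainv] at this
  have h1 : ∀ x ∈ K, ∀ y ∈ L, ∀ w, T x (D y w) = D y w := by
    intro x hx y hy
    have hcd : ∀ z ∈ K, ∀ w, T z (D y w) = D y (T z w) := fun z hz w => by
      show T z (_ - _) = _ - _
      rw [map_sub, T_comm T (hcomm' z hz y hy), T_comm T (hcomm z hz y hy)]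
    let S : Subgroup K :=
      { carrier := {x | ∀ w, T x (D y w) = D y w}
        one_mem' := fun w => by simp only [OneMemClass.coe_one, map_one]; rfl
        mul_mem' := fun {x z} hx hz w => by rw [Subgroup.coe_mul, T_mul, hz, hx]
        inv_mem' := fun {x} hx w => by
          rw [InvMemClass.coe_inv]; nth_rewrite 1 [← hx w]; exact T_inv T (x : G) _ }
    have hS : S = ⊤ := perfect_eq_top hK.2.1 S fun u z w => by
      have hr : Commute (z : G) (a * u * a) := Subgroup.mem_centralizer_iff.1
        (IsComponent.commute (IsComponent.conj hK a) hK hKK (hmem K u u.2)) z z.2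
      rw [show ((⁅u, z⁆ : K) : G) = (u : G) * z * (u : G)⁻¹ * (z : G)⁻¹ from rfl, T_mul, T_mul, T_mul,
        hcd _ (K.inv_mem z.2), hcd _ (K.inv_mem u.2),
        comm_on_values T (D y) hr (hcd u u.2) (hcd z z.2) (hDfix u u.2 y hy) _]
      rw [← hcd _ (K.inv_mem u.2), ← T_mul T (u : G), mul_inv_cancel, map_one]
      show T z (D y (T (z : G)⁻¹ w)) = D y w
      rw [hcd z z.2, ← T_mul, mul_inv_cancel, map_one]
      rfl
    exact (show (⟨x, hx⟩ : K) ∈ S from hS ▸ Subgroup.mem_top _)
  let F : AddSubgroup V :=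
    { carrier := {w | ∀ x ∈ K, T x w = w}
      add_mem' := fun hu hv x hx => by rw [map_add, hu x hx, hv x hx]
      zero_mem' := fun x hx => map_zero _
      neg_mem' := fun hu x hx => by rw [map_neg, hu x hx] }
  have hFinv : ∀ y ∈ L, ∀ f ∈ F, T y f ∈ F := fun y hy f hf x hx => by
    rw [T_comm T (hcomm x hx y hy), hf x hx]
  have hmod : ∀ y ∈ L, ∀ z ∈ L, ∀ w, T y (T z w) - T z (T y w) ∈ F := by
    intro y hy z hz w
    have h2 : T (a * y * a) (T z w) - T y (T z w) ∈ F := fun x hx => h1 x hx y hy _
    have h3 : T (a * y * a) w - T y w ∈ F := fun x hx => h1 x hx y hy _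
    have h4 := hFinv z hz _ h3
    have hc : Commute (a * y * a) z := (Subgroup.mem_centralizer_iff.1
      (IsComponent.commute (IsComponent.conj hL a) hL hLL (hmem L y hy)) z hz).symm
    rw [map_sub, ← T_comm T hc] at h4
    have := F.sub_mem h4 h2
    rwa [sub_sub_sub_cancel_left] at this
  let M : Subgroup L :=
    { carrier := {y | ∀ w, T y w - w ∈ F}
      one_mem' := fun w => by
        simp only [OneMemClass.coe_one, map_one]; show w - w ∈ F; rw [sub_self]; exact F.zero_mem
      mul_mem' := fun {x y} hx hy w => by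
        have e : T ((x * y : L) : G) w - w = (T x (T y w) - T y w) + (T y w - w) := by
          rw [Subgroup.coe_mul, T_mul]; abel
        show T ((x * y : L) : G) w - w ∈ F
        rw [e]; exact F.add_mem (hx _) (hy w)
      inv_mem' := fun {x} hx w => by
        have := hx (T (x : G)⁻¹ w)
        rw [← T_mul T (x : G), mul_inv_cancel, map_one] at this
        have h3 := F.neg_mem this
        rw [neg_sub] at h3
        rw [InvMemClass.coe_inv]
        exact h3 }
  have hM : M = ⊤ := perfect_eq_top hL.2.1 M fun u z w => by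
    have := hmod u u.2 z z.2 (T (u : G)⁻¹ (T (z : G)⁻¹ w))
    rw [← T_mul T (u : G) (u : G)⁻¹, mul_inv_cancel, map_one] at this
    have e : T (z : G) (T (z : G)⁻¹ w) = w := by rw [← T_mul, mul_inv_cancel, map_one]; rfl
    change _ - T (z : G) (T (z : G)⁻¹ w) ∈ F at this
    rw [e] at this
    show T ((⁅u, z⁆ : L) : G) w - w ∈ F
    rw [show ((⁅u, z⁆ : L) : G) = (u : G) * z * (u : G)⁻¹ * (z : G)⁻¹ from rfl, T_mul, T_mul, T_mul]
    exact this
  intro x hx y hy w
  exact (show (⟨y, hy⟩ : L) ∈ M from hM ▸ Subgroup.mem_top _) w x hx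

omit [Finite V] in
/-- For `p = 2`: if a second element `c` moves `a K a` and `K` apart then `K` is trivial. -/
theorem two_far (hT : Function.Injective T) (h2V : ∀ w : V, w + w = 0) {K : Subgroup G}
    (hK : Cfsg.IsComponent K) {a c : G} (ha2 : a * a = 1) (hc2 : c * c = 1) (hac : Commute a c)
    (haK : MulAut.conj a • K ≠ K) (hcK : MulAut.conj c • K ≠ K)
    (hacK : MulAut.conj (c * a) • K ≠ K)
    (hida : ∀ x ∈ K, ∀ w, T (x * (a * x * a)) (T a w - w) = T a w - w)
    (hidc : ∀ x ∈ K, ∀ w, T (x * (c * x * c)) (T c w - w) = T c w - w)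
    (hcaa : ∀ x ∈ K, Commute (x * (a * x * a)) a)
    (hcac : ∀ x ∈ K, Commute (x * (c * x * c)) c) : False := by
  have hainv : a⁻¹ = a := inv_eq_of_mul_eq_one_right ha2
  have hmemL : ∀ x ∈ K, a * x * a ∈ MulAut.conj a • K := fun x hx => by
    rw [mem_smul_conj, hainv]; simp only [← mul_assoc, ha2, one_mul]; rwa [mul_assoc, ha2, mul_one]
  have hcLL : MulAut.conj c • MulAut.conj a • K ≠ MulAut.conj a • K := by
    intro h
    rw [conj_smul_conj_smul, ← hac.eq, ← conj_smul_conj_smul] at h
    exact hcK (MulAction.injective _ h)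
  have hz : ∀ x ∈ K, ∀ w, T x (T (a * x * a) w - w) = T (a * x * a) w - w := fun x hx w =>
    two_step T hK (IsComponent.conj hK a) hc2 haK (by rwa [conj_smul_conj_smul]) hidc hcac hcK hcLL
      x hx _ (hmemL x hx) w
  have hneg : ∀ w : V, -w = w := fun w => neg_eq_of_add_eq_zero_left (h2V w)
  refine IsComponent.ne_bot hK ?_
  have hN : (⊥ : Subgroup K) = ⊤ := perfect_top_of_pow (p := 2) hK.2.1 ⊥ fun x => ⟨2, by
    rw [Subgroup.mem_bot]
    apply Subtype.ext
    apply hT
    refine AddMonoidHom.ext fun w => ?_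
    set y := a * (x : G) * a with hy
    have hxy : Commute (x : G) y := Subgroup.mem_centralizer_iff.1
      (IsComponent.commute (IsComponent.conj hK a) hK haK (hmemL x x.2)) x x.2
    have hxx : Commute (x * y) (x : G) := ((Commute.refl (x : G)).mul_left hxy.symm)
    -- `(x y)` fixes `y w - x w`
    have hd := fix_diff T (hcaa x x.2) hxx (hida x x.2) w
    rw [hainv, ← hy, T_mul] at hd
    set d := T y w - T (x : G) w with hd'
    have e1 : T (x : G) (T y w) = T y w - w + T (x : G) w := by
      have := hz x x.2 w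
      rw [map_sub, sub_eq_iff_eq_add] at this
      exact this
    have e2 : T (x : G) (T y d) = T y d - d + T (x : G) d := by
      have := hz x x.2 d
      rw [map_sub, sub_eq_iff_eq_add] at this
      exact this
    rw [e2] at hd
    have e3 : T y (T (x : G) w) = T (x : G) (T y w) := T_comm T hxy.symm w
    -- `(x - 1)² w = (y - 1)² w`
    have e4 : T (x : G) (T (x : G) w) + w = T y (T y w) + w := by
      simp only [sub_eq_add_neg, hneg] at hd
      rw [add_right_comm, add_eq_right] at hd
      have h5 : T y d = T (x : G) d := (eq_neg_of_add_eq_zero_left hd).trans (hneg _)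
      rw [hd', map_sub, map_sub, e3] at h5
      simp only [sub_eq_add_neg, hneg] at h5
      rw [add_right_cancel (h5.trans (add_comm _ _))]
    -- `(x - 1)³ w = 0`
    have e5 : T (x : G) (T y (T y w) + w) = T y (T y w) + w := by
      have h1 := hz x x.2 (T y w - w)
      rw [map_sub (T y)] at h1
      simp only [sub_eq_add_neg, hneg] at h1
      rw [show T y (T y w) + T y w + (T y w + w) = T y (T y w) + w + (T y w + T y w) by abel, h2V,
        add_zero] at h1
      exact h1
    rw [← e4, map_add] at e5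
    show T ((x ^ (2 ^ 2) : K) : G) w = T ((1 : K) : G) w
    rw [Subgroup.coe_pow, map_pow, OneMemClass.coe_one, map_one]
    show (T (x : G) ^ 4) w = w
    have e8 : T (x : G) (T (x : G) (T (x : G) (T (x : G) w))) + T (x : G) (T (x : G) w)
        = T (x : G) (T (x : G) w) + w := by
      have := congrArg (T (x : G)) e5
      rw [map_add, map_add, e5] at this
      exact this
    rw [add_comm (T (x : G) (T (x : G) w)) w] at e8
    exact add_right_cancel e8⟩
  refine (Subgroup.eq_bot_iff_forall _).2 fun x hx => ?_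
  have : (⟨x, hx⟩ : K) ∈ (⊥ : Subgroup K) := hN ▸ Subgroup.mem_top _
  exact congrArg Subtype.val (Subgroup.mem_bot.1 this)

set_option maxHeartbeats 1000000 in
/-- The endgame for `p = 2`. -/
theorem two_endgame (hT : Function.Injective T) (h2V : ∀ w : V, w + w = 0) {K : Subgroup G}
    (hK : Cfsg.IsComponent K) (A : Subgroup G) (hAc : ∀ x ∈ A, ∀ y ∈ A, x * y = y * x)
    (hA2 : ∀ x ∈ A, x * x = 1) {a : G} (haA : a ∈ A) (haK : MulAut.conj a • K ≠ K)
    (hcover : ∀ c ∈ A, c ∈ Subgroup.normalizer (K : Set G) ∨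
      a * c ∈ Subgroup.normalizer (K : Set G))
    (hid : ∀ x ∈ K, ∀ w, T (x * (a * x * a)) (T a w - w) = T a w - w)
    (hca : ∀ x ∈ K, Commute (x * (a * x * a)) a)
    (hcard : Nat.card V ≤ Nat.card A * Nat.card (fix T A))
    (hfaith : ∀ b ∈ A ⊓ Subgroup.normalizer (K : Set G), b ≠ 1 → ∃ x ∈ K, b * x ≠ x * b)
    (hb0 : A ⊓ Subgroup.normalizer (K : Set G) ≠ ⊥ → ∃ b0 ∈ A ⊓ Subgroup.normalizer (K : Set G),
      b0 ≠ 1 ∧ ∀ c ∈ A, ∀ w, T b0 (T c w - w) = T c w - w) : False := by
  classical
  have hainv : a⁻¹ = a := inv_eq_of_mul_eq_one_right (hA2 a haA)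
  have hneg : ∀ w : V, -w = w := fun w => neg_eq_of_add_eq_zero_left (h2V w)
  have hperf : Group.IsPerfect ↥K := hK.2.1
  have hxy : ∀ x ∈ K, ∀ y ∈ K, Commute (a * x * a) y := fun x hx y hy =>
    (Subgroup.mem_centralizer_iff.1 (IsComponent.commute (IsComponent.conj hK a) hK haK
      (show a * x * a ∈ MulAut.conj a • K by
        rw [mem_smul_conj, hainv]; simp only [← mul_assoc, hA2 a haA, one_mul]
        rwa [mul_assoc, hA2 a haA, mul_one])) y hy).symm
  have haa : ∀ w, T a (T a w) = w := fun w => by rw [← T_mul, hA2 a haA, map_one]; rfl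
  -- the trace identity
  have htrace : ∀ x ∈ K, ∀ w, T x w + T x⁻¹ w = T (a * x * a) w + T (a * x⁻¹ * a) w := by
    intro x hx w
    have hd := fix_diff T (hca x hx)
      ((Commute.refl x).mul_left (hxy x hx x hx)) (hid x hx) w
    rw [hainv] at hd
    have h1 := congrArg (T (x * (a * x * a))⁻¹) hd
    rw [T_inv, map_sub, ← T_mul, ← T_mul] at h1
    have e1 : (x * (a * x * a))⁻¹ * (a * x * a) = x⁻¹ := by
      rw [mul_inv_rev, mul_assoc, ← ((hxy x hx x⁻¹ (K.inv_mem hx))).eq, inv_mul_cancel_left]
    have e2 : (x * (a * x * a))⁻¹ * x = a * x⁻¹ * a := by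
      rw [mul_inv_rev, inv_mul_cancel_right, mul_inv_rev, mul_inv_rev, hainv, mul_assoc]
    rw [e1, e2] at h1
    simp only [sub_eq_add_neg, hneg] at h1
    calc T x w + T x⁻¹ w = T x w + (T x⁻¹ w + T (a * x⁻¹ * a) w) + T (a * x⁻¹ * a) w := by
          rw [add_assoc (T x w), add_assoc (T x⁻¹ w), h2V, add_zero]
      _ = (T x w + T x w) + T (a * x * a) w + T (a * x⁻¹ * a) w := by rw [← h1]; abel
      _ = _ := by rw [h2V, zero_add]
  let P : AddSubgroup V :=
    { carrier := {w | ∃ v', w = T a v' - v'}
      add_mem' := fun ⟨u, hu⟩ ⟨v', hv⟩ => ⟨u + v', by rw [map_add, hu, hv]; abel⟩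
      zero_mem' := ⟨0, by rw [map_zero, sub_zero]⟩
      neg_mem' := fun ⟨u, hu⟩ => ⟨-u, by rw [map_neg, hu]; abel⟩ }
  have haP : ∀ w ∈ P, T a w = w := by
    rintro _ ⟨v', rfl⟩
    rw [map_sub, haa, sub_eq_add_neg, hneg, sub_eq_add_neg, hneg, add_comm]
  let N : AddSubgroup V :=
    { carrier := {w | w ∈ P ∧ ∀ x ∈ K, T x w = w}
      add_mem' := fun hu hv => ⟨P.add_mem hu.1 hv.1, fun x hx => by rw [map_add, hu.2 x hx, hv.2 x hx]⟩
      zero_mem' := ⟨P.zero_mem, fun x _ => map_zero _⟩
      neg_mem' := fun hu => ⟨P.neg_mem hu.1, fun x hx => by rw [map_neg, hu.2 x hx]⟩ }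
  have hNP : ∃ w ∈ P, w ∉ N := by
    by_contra hno
    push Not at hno
    have h1 : ∀ x ∈ K, ∀ w, T x (T a w - w) = T a w - w := fun x hx w => (hno _ ⟨w, rfl⟩).2 x hx
    let Z : Subgroup K := Subgroup.center K
    have hZ : Z = ⊤ := perfect_top_of_pow (p := 2) hperf Z fun x => ⟨1, by
      have hxa : ∀ w, T (x : G) (T a w) = T (x : G) w + T a w - w := fun w => by
        have := h1 x x.2 w
        rw [map_sub, sub_eq_iff_eq_add] at this
        rw [this]; abel
      have hA' : ∀ w, T (x : G) (T (a * x * a) w) - T (x : G) (T (x : G) w)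
          = T (a * x * a) w - T (x : G) w := by
        intro w
        have h := h1 x x.2 (T (x : G) (T a w))
        rw [show T a (T (x : G) (T a w)) = T (a * x * a) w by rw [T_mul, T_mul]] at h
        simp only [map_sub, map_add, hxa] at h
        linear_combination (norm := abel) h
      have hA'' : ∀ w, T (a * x * a) (T (x : G) w) - T (a * x * a) (T (a * x * a) w)
          = T (x : G) w - T (a * x * a) w := by
        intro w
        have := congrArg (T a) (hA' (T a w))
        simp only [map_sub, T_mul, haa] at this ⊢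
        exact this
      rw [pow_one, pow_two, Subgroup.mem_center_iff]
      intro z
      have hxx : (x : G) * x = (a * x * a) * (a * x * a) := by
        apply hT
        refine AddMonoidHom.ext fun w => ?_
        show T ((x : G) * x) w = T (a * x * a * (a * x * a)) w
        rw [T_mul T (x : G), T_mul T (a * x * a) (a * x * a)]
        have h2 := congrArg₂ (· + ·) (hA' w) (hA'' w)
        simp only [T_comm T (hxy x x.2 x x.2), sub_eq_add_neg, hneg] at h2
        rw [add_add_add_comm, h2V, zero_add, add_comm (T (a * x * a) w), h2V] at h2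
        exact (eq_neg_of_add_eq_zero_left h2).trans (hneg _)
      apply Subtype.ext
      show (z : G) * ((x : G) * x) = (x : G) * x * z
      rw [hxx]
      exact ((hxy x x.2 z z.2).mul_left (hxy x x.2 z z.2)).eq.symm⟩
    refine IsComponent.ne_bot hK (eq_bot_of_perfect_of_comm (IsComponent.perfect hK) fun x hx => ?_)
    refine Subgroup.mem_centralizer_iff.2 fun y hy => ?_
    exact congrArg Subtype.val (Subgroup.mem_center_iff.1
      (hZ ▸ Subgroup.mem_top (⟨x, hx⟩ : K) : (⟨x, hx⟩ : K) ∈ Z) ⟨y, hy⟩)
  set B := A ⊓ Subgroup.normalizer (K : Set G) with hB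
  have hbK : ∀ b ∈ B, ∀ x ∈ K, b * x * b⁻¹ ∈ K := fun b hb x hx =>
    (Subgroup.mem_normalizer_iff.1 hb.2 x).1 hx
  have hbP : ∀ b ∈ B, ∀ w ∈ P, T b w ∈ P := by
    rintro b hb _ ⟨v', rfl⟩
    exact ⟨T b v', by rw [map_sub, T_comm T (hAc b hb.1 a haA : Commute b a)]⟩
  have hbN : ∀ b ∈ B, ∀ w ∈ N, T b w ∈ N := fun b hb w hw => ⟨hbP b hb w hw.1, fun x hx => by
    have e : x * b = b * (b⁻¹ * x * b) := by group
    rw [← T_mul, e, T_mul, hw.2 _ ((Subgroup.mem_normalizer_iff''.1 hb.2 x).1 hx)]⟩
  obtain ⟨u, huP, huN, huB⟩ : ∃ u ∈ P, u ∉ N ∧ ∀ b ∈ B, T b u - u ∈ N := by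
    have key : ∀ S : Finset G, (∀ b ∈ S, b ∈ B) → ∃ u ∈ P, u ∉ N ∧ ∀ b ∈ S, T b u - u ∈ N := by
      intro S
      induction S using Finset.induction_on with
      | empty =>
        intro _
        obtain ⟨w, hw, hw'⟩ := hNP
        exact ⟨w, hw, hw', fun b hb => absurd hb (Finset.notMem_empty b)⟩
      | insert b S _ ih =>
        intro hS
        obtain ⟨u, huP, huN, hu⟩ := ih fun c hc => hS c (Finset.mem_insert_of_mem hc)
        have hb := hS b (Finset.mem_insert_self b S)
        by_cases h : T b u - u ∈ N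
        · exact ⟨u, huP, huN, fun c hc => (Finset.mem_insert.1 hc).elim (fun e => e ▸ h) (hu c)⟩
        · refine ⟨_, P.sub_mem (hbP b hb u huP) huP, h, fun c hc => ?_⟩
          rcases Finset.mem_insert.1 hc with rfl | hc'
          · rw [map_sub, ← T_mul, hA2 _ hb.1, map_one]
            show u - T c u - (T c u - u) ∈ N
            rw [show u - T c u - (T c u - u) = (u + u) - (T c u + T c u) by abel, h2V, h2V, sub_self]
            exact N.zero_mem
          · have hcB := hS c (Finset.mem_insert_of_mem hc')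
            rw [map_sub, T_comm T (hAc c hcB.1 b hb.1 : Commute c b)]
            have := N.sub_mem (hbN b hb _ (hu c hc')) (hu c hc')
            rw [map_sub] at this
            rwa [show T b (T c u) - T c u - (T b u - u) = T b (T c u) - T b u - (T c u - u) by abel]
    letI := Fintype.ofFinite ↥B
    obtain ⟨u, h1, h2, h3⟩ := key (Finset.univ.image Subtype.val : Finset G)
      (fun b hb => by obtain ⟨c, -, rfl⟩ := Finset.mem_image.1 hb; exact c.2)
    exact ⟨u, h1, h2, fun b hb => h3 b (Finset.mem_image.2 ⟨⟨b, hb⟩, Finset.mem_univ _, rfl⟩)⟩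
  have hu' : ∀ x ∈ K, T a (T x u) = T x⁻¹ u := by
    intro x hx
    have h1 : T (x * (a * x * a)) u = u := by
      obtain ⟨v', rfl⟩ := huP
      exact hid x hx v'
    rw [T_mul, T_mul, T_mul, haP u huP] at h1
    have h2 := congrArg (T x⁻¹) h1
    rwa [T_inv] at h2
  -- the ring
  have : Finite (AddMonoid.End V) := Finite.of_injective (fun f => (f : V → V)) DFunLike.coe_injective
  let R : Subring (AddMonoid.End V) := Subring.closure (Set.range fun x : K => T (x : G))
  let gen : K →* R := (T.comp K.subtype).codRestrict R fun x => Subring.subset_closure ⟨x, rfl⟩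
  have hRind : ∀ (motive : R → Prop) (zero : motive 0)
      (add : ∀ r s, motive r → motive s → motive (r + s))
      (neg : ∀ r, motive r → motive (-r)) (of : ∀ x, motive (gen x)) (r : R), motive r := by
    intro motive h0 hadd hneg' hg
    have key : ∀ r : R, r ∈ AddSubgroup.closure (Set.range gen) := by
      rintro ⟨r, hr⟩
      refine Subring.closure_induction
        (p := fun r hr => (⟨r, hr⟩ : R) ∈ AddSubgroup.closure (Set.range gen)) ?_ (AddSubgroup.zero_mem _)
        ?_ (fun x y hx hy h h' => AddSubgroup.add_mem _ h h') (fun x hx h => AddSubgroup.neg_mem _ h) ?_ hr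
      · rintro _ ⟨x, rfl⟩
        exact AddSubgroup.subset_closure ⟨x, rfl⟩
      · exact AddSubgroup.subset_closure ⟨1, map_one gen⟩
      · intro x y hx hy h h'
        refine AddSubgroup.closure_induction
          (p := fun (r : R) _ => r * ⟨y, hy⟩ ∈ AddSubgroup.closure (Set.range gen)) ?_ ?_ ?_ ?_ h
        · rintro _ ⟨g, rfl⟩
          refine AddSubgroup.closure_induction
            (p := fun (s : R) _ => gen g * s ∈ AddSubgroup.closure (Set.range gen)) ?_ ?_ ?_ ?_ h'
          · rintro _ ⟨g', rfl⟩
            exact AddSubgroup.subset_closure ⟨g * g', map_mul gen g g'⟩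
          · rw [mul_zero]; exact AddSubgroup.zero_mem _
          · intro r s _ _ hr hs; rw [mul_add]; exact AddSubgroup.add_mem _ hr hs
          · intro r _ hr; rw [mul_neg]; exact AddSubgroup.neg_mem _ hr
        · rw [zero_mul]; exact AddSubgroup.zero_mem _
        · intro r s _ _ hr hs; rw [add_mul]; exact AddSubgroup.add_mem _ hr hs
        · intro r _ hr; rw [neg_mul]; exact AddSubgroup.neg_mem _ hr
    intro r
    exact AddSubgroup.closure_induction (p := fun r _ => motive r)
      (by rintro _ ⟨x, rfl⟩; exact hg x) h0 (fun r s _ _ => hadd r s) (fun r _ => hneg' r) (key r)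
  let ev : R →+ V :=
    { toFun := fun r => (r : AddMonoid.End V) u
      map_zero' := rfl
      map_add' := fun r s => rfl }
  have hev : ∀ r s : R, ev (r * s) = (r : AddMonoid.End V) (ev s) := fun r s => rfl
  have hevg : ∀ x : K, ev (gen x) = T (x : G) u := fun x => rfl
  have hRN : ∀ r : R, ∀ w ∈ N, (r : AddMonoid.End V) w ∈ N := by
    intro r w hw
    induction r using hRind with
    | zero => exact N.zero_mem
    | add r s hr hs => exact N.add_mem hr hs
    | neg r hr => exact N.neg_mem hr
    | of x => show T (x : G) w ∈ N; rw [hw.2 x x.2]; exact hw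
  let I : Ideal R :=
    { carrier := {r | ev r ∈ N}
      add_mem' := fun {r s} hr hs => by
        show ev (r + s) ∈ N
        rw [map_add]; exact N.add_mem hr hs
      zero_mem' := by show ev 0 ∈ N; rw [map_zero]; exact N.zero_mem
      smul_mem' := fun r s hs => hRN r _ hs }
  have hImem : ∀ r, r ∈ I ↔ ev r ∈ N := fun r => Iff.rfl
  have hswap : ∀ (x : K) (r : R),
      (r : AddMonoid.End V) (T (x : G) u) = T (a * (x : G)⁻¹ * a) (ev r) := by
    intro x r
    induction r using hRind with
    | zero => show (0 : V) = _; rw [map_zero, map_zero]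
    | add r s hr hs =>
      show (r : AddMonoid.End V) _ + (s : AddMonoid.End V) _ = _
      rw [hr, hs, map_add ev, map_add]
    | neg r hr =>
      show - (r : AddMonoid.End V) _ = _
      rw [hr, map_neg ev, map_neg]
    | of g =>
      show T (g : G) (T (x : G) u) = T (a * (x : G)⁻¹ * a) (T (g : G) u)
      rw [T_comm T (hxy _ (K.inv_mem x.2) g g.2)]
      congr 1
      rw [T_mul, T_mul, haP u huP]
      have := hu' (x : G)⁻¹ (K.inv_mem x.2)
      rw [inv_inv] at this
      exact this.symm
  have : I.IsTwoSided := ⟨fun {r} s hr => by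
    induction s using hRind with
    | zero => rw [mul_zero]; exact I.zero_mem
    | add s t hs ht => rw [mul_add]; exact I.add_mem hs ht
    | neg s hs => rw [mul_neg]; exact I.neg_mem hs
    | of x =>
      have hn : ev r ∈ N := hr
      rw [hImem, hev, hevg, hswap, T_mul, T_mul, haP _ hn.1, hn.2 _ (K.inv_mem x.2), haP _ hn.1]
      exact hn⟩
  have hπe : ∀ r s : R, Ideal.Quotient.mk I r = Ideal.Quotient.mk I s ↔ ev r - ev s ∈ N := by
    intro r s
    rw [Ideal.Quotient.eq, hImem, map_sub]
  have hπs : Function.Surjective (Ideal.Quotient.mk I) := Ideal.Quotient.mk_surjective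
  let φ : K →* R ⧸ I := (Ideal.Quotient.mk I).toMonoidHom.comp gen
  have hφg : ∀ x, φ x = Ideal.Quotient.mk I (gen x) := fun x => rfl
  have hQind : ∀ (motive : R ⧸ I → Prop) (zero : motive 0)
      (add : ∀ r s, motive r → motive s → motive (r + s))
      (neg : ∀ r, motive r → motive (-r)) (of : ∀ x, motive (φ x)) (r : R ⧸ I), motive r := by
    intro motive h0 hadd hneg' hg q
    obtain ⟨r, rfl⟩ := hπs q
    induction r using hRind with
    | zero => rw [map_zero]; exact h0
    | add r s hr hs => rw [map_add]; exact hadd _ _ hr hs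
    | neg r hr => rw [map_neg]; exact hneg' _ hr
    | of x => exact hg x
  -- `a` induces `ι`
  have hiex : ∀ r : R, ∃ s : R, T a (ev r) = ev s := by
    intro r
    induction r using hRind with
    | zero => exact ⟨0, by rw [map_zero, map_zero]⟩
    | add r s hr hs =>
      obtain ⟨r', hr⟩ := hr; obtain ⟨s', hs⟩ := hs
      exact ⟨r' + s', by rw [map_add, map_add, map_add, hr, hs]⟩
    | neg r hr =>
      obtain ⟨r', hr⟩ := hr
      exact ⟨-r', by rw [map_neg, map_neg, map_neg, hr]⟩
    | of x => exact ⟨gen x⁻¹, hu' x x.2⟩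
  choose j hj using hiex
  let ι : R ⧸ I →+ R ⧸ I := QuotientAddGroup.lift I.toAddSubgroup
    (AddMonoidHom.mk' (fun r => Ideal.Quotient.mk I (j r)) fun r s => by
      rw [← map_add, hπe, map_add ev, ← hj, ← hj, ← hj, ← map_add, map_add ev, sub_self]
      exact N.zero_mem)
    (fun r hr => by
      show Ideal.Quotient.mk I (j r) = 0
      rw [Ideal.Quotient.eq_zero_iff_mem, hImem, ← hj, haP _ (show ev r ∈ N from hr).1]
      exact hr)
  have hιspec : ∀ r s : R, T a (ev r) - ev s ∈ N → ι (Ideal.Quotient.mk I r) = Ideal.Quotient.mk I s := by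
    intro r s h
    show Ideal.Quotient.mk I (j r) = _
    rwa [hπe, ← hj]
  have hιφ : ∀ x, ι (φ x) = φ x⁻¹ := fun x => hιspec _ _ (by
    rw [hevg, hevg, hu' x x.2]
    simp only [InvMemClass.coe_inv, sub_self]
    exact N.zero_mem)
  have hι1 : ι 1 = 1 := by rw [← map_one φ, hιφ, inv_one]
  have hanti : ∀ q q', ι (q * q') = ι q' * ι q := by
    intro q q'
    induction q using hQind with
    | zero => rw [zero_mul, map_zero, mul_zero]
    | add r s hr hs => rw [add_mul, map_add, hr, hs, map_add, mul_add]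
    | neg r hr => rw [neg_mul, map_neg, hr, map_neg, mul_neg]
    | of x =>
      induction q' using hQind with
      | zero => rw [mul_zero, map_zero, zero_mul]
      | add r s hr hs => rw [mul_add, map_add, hr, hs, map_add, add_mul]
      | neg r hr => rw [mul_neg, map_neg, hr, map_neg, neg_mul]
      | of y => rw [← map_mul, hιφ, hιφ, hιφ, mul_inv_rev, map_mul]
  have hιι : ∀ q, ι (ι q) = q := by
    intro q
    induction q using hQind with
    | zero => rw [map_zero, map_zero]
    | add r s hr hs => rw [map_add, map_add, hr, hs]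
    | neg r hr => rw [map_neg, map_neg, hr]
    | of x => rw [hιφ, hιφ, inv_inv]
  have hcen : ∀ q, q + ι q ∈ Subring.center (R ⧸ I) := by
    intro q
    induction q using hQind with
    | zero => rw [map_zero, add_zero]; exact zero_mem _
    | add r s hr hs => rw [map_add, add_add_add_comm]; exact add_mem hr hs
    | neg r hr => rw [map_neg, ← neg_add]; exact neg_mem hr
    | of x =>
      rw [hιφ, Subring.mem_center_iff]
      intro g
      induction g using hQind with
      | zero => rw [zero_mul, mul_zero]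
      | add r s hr hs => rw [add_mul r s, hr, hs, mul_add _ r s]
      | neg r hr => rw [neg_mul, mul_neg, hr]
      | of y =>
        rw [hφg, hφg, hφg, ← map_add, ← map_mul, ← map_mul]
        congr 1
        apply Subtype.ext
        refine AddMonoidHom.ext fun w => ?_
        show T (y : G) (T (x : G) w + T ((x⁻¹ : K) : G) w)
          = T (x : G) (T (y : G) w) + T ((x⁻¹ : K) : G) (T (y : G) w)
        simp only [InvMemClass.coe_inv]
        rw [htrace x x.2, htrace x x.2, map_add, T_comm T (hxy x x.2 y y.2).symm,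
          T_comm T (hxy _ (K.inv_mem x.2) y y.2).symm]
  have hQ2 : ∀ q : R ⧸ I, q + q = 0 := by
    intro q
    obtain ⟨r, rfl⟩ := hπs q
    rw [← map_add, ← map_zero (Ideal.Quotient.mk I), hπe, map_add ev, h2V, map_zero, sub_self]
    exact N.zero_mem
  have hφ : ∃ x, φ x ≠ 1 := by
    by_contra hno
    push Not at hno
    refine huN ⟨huP, fun x hx => ?_⟩
    refine fix_of_sub hperf (T.comp K.subtype) u (fun g g' => ?_) ⟨x, hx⟩
    have h1 := hno g
    rw [← map_one φ, hφg, hφg, hπe, hevg, hevg] at h1
    simp only [OneMemClass.coe_one, map_one] at h1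
    exact h1.2 g' g'.2
  -- the action of `B`
  have hβex : ∀ (b : ↥B) (r : R), T (b : G) * (r : AddMonoid.End V) * T (b : G)⁻¹ ∈ R := by
    intro b r
    induction r using hRind with
    | zero => rw [ZeroMemClass.coe_zero, mul_zero, zero_mul]; exact zero_mem _
    | add r s hr hs => rw [Subring.coe_add, mul_add, add_mul]; exact add_mem hr hs
    | neg r hr => rw [Subring.coe_neg, mul_neg, neg_mul]; exact neg_mem hr
    | of x =>
      show T (b : G) * T (x : G) * T (b : G)⁻¹ ∈ R
      rw [← map_mul, ← map_mul]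
      exact Subring.subset_closure ⟨⟨_, hbK b b.2 x x.2⟩, rfl⟩
  have hTb : ∀ b : G, T b⁻¹ * T b = 1 := fun b => by rw [← map_mul, inv_mul_cancel, map_one]
  let βR : ↥B → R →+* R := fun b =>
    { toFun := fun r => ⟨_, hβex b r⟩
      map_one' := Subtype.ext (by
        show T (b : G) * (1 : AddMonoid.End V) * T (b : G)⁻¹ = 1
        rw [mul_one, ← map_mul, mul_inv_cancel, map_one])
      map_mul' := fun r s => Subtype.ext (by
        show T (b : G) * ((r : AddMonoid.End V) * s) * T (b : G)⁻¹
          = T (b : G) * r * T (b : G)⁻¹ * (T (b : G) * s * T (b : G)⁻¹)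
        calc T (b : G) * ((r : AddMonoid.End V) * s) * T (b : G)⁻¹
            = T (b : G) * r * (T (b : G)⁻¹ * T (b : G)) * s * T (b : G)⁻¹ := by
              rw [hTb, mul_one, ← mul_assoc]
          _ = _ := by simp only [mul_assoc])
      map_zero' := Subtype.ext (by
        show T (b : G) * (0 : AddMonoid.End V) * T (b : G)⁻¹ = 0
        rw [mul_zero, zero_mul])
      map_add' := fun r s => Subtype.ext (by
        show T (b : G) * ((r : AddMonoid.End V) + s) * T (b : G)⁻¹ = _
        rw [mul_add, add_mul]; rfl) }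
  have hβev : ∀ b r, ev (βR b r) - T (b : G) (ev r) ∈ N := by
    intro b r
    show T (b : G) ((r : AddMonoid.End V) (T (b : G)⁻¹ u)) - T (b : G) ((r : AddMonoid.End V) u) ∈ N
    rw [← map_sub, ← map_sub (r : AddMonoid.End V)]
    exact hbN b b.2 _ (hRN r _ (huB _ (B.inv_mem b.2)))
  let β : ↥B → (R ⧸ I) →+* (R ⧸ I) := fun b =>
    Ideal.Quotient.lift I ((Ideal.Quotient.mk I).comp (βR b)) fun r hr => by
      rw [RingHom.comp_apply, Ideal.Quotient.eq_zero_iff_mem, hImem]
      have := N.add_mem (hβev b r) (hbN b b.2 _ hr)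
      rwa [sub_add_cancel] at this
  have hβφ : ∀ b x, β b (φ x) = φ ⟨(b : G) * x * (b : G)⁻¹, hbK b b.2 x x.2⟩ := by
    intro b x
    show Ideal.Quotient.mk I (βR b (gen x)) = Ideal.Quotient.mk I (gen _)
    congr 1
    apply Subtype.ext
    show T (b : G) * T (x : G) * T (b : G)⁻¹ = T _
    rw [← map_mul, ← map_mul]
    rfl
  have hβev' : ∀ b r, β b (Ideal.Quotient.mk I r) = Ideal.Quotient.mk I (βR b r) := fun b r => rfl
  -- conclusion
  have hAB : Nat.card A ≤ 2 * Nat.card B := by
    let f : A → Bool × B := fun c =>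
      if h : (c : G) ∈ Subgroup.normalizer (K : Set G) then (false, ⟨c, c.2, h⟩)
      else (true, ⟨a * c, A.mul_mem haA c.2, (hcover c c.2).resolve_left h⟩)
    have hf : Function.Injective f := by
      intro c d hcd
      simp only [f] at hcd
      split at hcd <;> split at hcd <;> rw [Prod.mk.injEq] at hcd
      · exact Subtype.ext (congrArg (fun z : ↥B => (z : G)) hcd.2 : (c : G) = d)
      · exact absurd hcd.1 Bool.false_ne_true
      · exact absurd hcd.1 Bool.false_ne_true.symm
      · exact Subtype.ext (mul_left_cancel (congrArg (fun z : ↥B => (z : G)) hcd.2 : a * (c : G) = a * d))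
    have := Nat.card_le_card_of_injective f hf
    rw [Nat.card_prod] at this
    simpa using this
  have : Finite (R ⧸ I) := Finite.of_surjective _ hπs
  refine ring_endgame hQ2 ι hanti hι1 hιι hcen hperf φ hιφ hφ
    (fun b c => Subtype.ext (hAc b b.2.1 c c.2.1)) β (fun b c q => ?_) (fun q => ?_) (fun b q => ?_)
    (fun S _ π hπ b hb => ?_) (fun hnt => ?_) ?_
  · induction q using hQind with
    | zero => simp
    | add r s hr hs => simp only [map_add, hr, hs]
    | neg r hr => simp only [map_neg, hr]
    | of x =>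
      rw [hβφ, hβφ, hβφ]
      congr 1
      apply Subtype.ext
      simp only [Subgroup.coe_mul]
      group
  · induction q using hQind with
    | zero => simp
    | add r s hr hs => simp only [map_add, hr, hs]
    | neg r hr => simp only [map_neg, hr]
    | of x => rw [hβφ]; congr 1; apply Subtype.ext; simp
  · induction q using hQind with
    | zero => simp
    | add r s hr hs => simp only [map_add, hr, hs]
    | neg r hr => simp only [map_neg, hr]
    | of x =>
      rw [hιφ, hβφ, hβφ, hιφ]
      congr 1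
      apply Subtype.ext
      simp only [InvMemClass.coe_inv, mul_inv_rev, inv_inv, mul_assoc]
  · by_contra hno
    push Not at hno
    let ker : Subgroup K := ((π.toMonoidHom.comp φ)).ker
    have hkn : ker.Normal := MonoidHom.normal_ker _
    have hk : ker ≠ ⊤ := fun h => by
      obtain ⟨x, hx⟩ := hπ
      exact hx (show x ∈ ker from h ▸ Subgroup.mem_top x)
    have hkc : ker ≤ Subgroup.center K :=
      (IsQuasisimple.eq_top_or_le_center_of_subnormal hK.2 hkn.isSubnormal).resolve_left hk
    obtain ⟨x, hx, hne⟩ := hfaith b b.2 (fun h => hb (Subtype.ext h))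
    refine hne ?_
    have hcen : (b : G) ∈ Subgroup.centralizer (K : Set G) := by
      refine centralizes_of_mod_center (IsComponent.perfect hK) fun y hy => ?_
      have hmem : (⟨(b : G) * y * (b : G)⁻¹, hbK b b.2 y hy⟩ : K) * (⟨y, hy⟩ : K)⁻¹ ∈ ker := by
        show π (φ (_ * _)) = 1
        rw [map_mul, ← hβφ b ⟨y, hy⟩, map_mul, hno, ← map_mul, ← map_mul, mul_inv_cancel, map_one,
          map_one]
      have h1 := hkc hmem
      refine ⟨K.mul_mem (hbK b b.2 y hy) (K.inv_mem hy), Subgroup.mem_centralizer_iff.2 fun z hz => ?_⟩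
      exact congrArg Subtype.val (Subgroup.mem_center_iff.1 h1 ⟨z, hz⟩)
    exact (Subgroup.mem_centralizer_iff.1 hcen x hx).symm
  · obtain ⟨b0, hb0B, hb01, hb0c⟩ := hb0 ((Subgroup.nontrivial_iff_ne_bot B).1 hnt)
    have hbfix : ∀ (r : R), T b0 (ev r) = ev r →
        β ⟨b0, hb0B⟩ (Ideal.Quotient.mk I r) = Ideal.Quotient.mk I r := by
      intro r hr
      rw [hβev', hπe]
      have := hβev ⟨b0, hb0B⟩ r
      simp only [hr] at this
      exact this
    refine ⟨⟨b0, hb0B⟩, fun h => hb01 (congrArg Subtype.val h), fun q => ?_, fun b q => ?_⟩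
    · obtain ⟨r, rfl⟩ := hπs q
      rw [show ι (Ideal.Quotient.mk I r) = Ideal.Quotient.mk I (j r) from rfl, ← map_add]
      refine hbfix _ ?_
      rw [map_add ev, ← hj, add_comm, show T a (ev r) + ev r = T a (ev r) - ev r by
        rw [sub_eq_add_neg, hneg]]
      exact hb0c a haA _
    · obtain ⟨r, rfl⟩ := hπs q
      rw [hβev' b, ← map_add, hβev', hπe]
      set s := βR b r + r with hs
      have h1 : ev s - (T (b : G) (ev r) - ev r) ∈ N := by
        rw [hs, map_add ev, sub_eq_add_neg (T (b : G) (ev r)), hneg, add_sub_add_right_eq_sub]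
        exact hβev b r
      have h2 := hβev ⟨b0, hb0B⟩ s
      have h3 := hbN b0 hb0B _ h1
      rw [map_sub, hb0c _ b.2.1] at h3
      have h4 := N.sub_mem (N.add_mem h2 h3) h1
      simp only at h4
      rwa [show ev (βR ⟨b0, hb0B⟩ s) - T b0 (ev s) + (T b0 (ev s) - (T (b : G) (ev r) - ev r))
        - (ev s - (T (b : G) (ev r) - ev r)) = ev (βR ⟨b0, hb0B⟩ s) - ev s by abel] at h4
  · have hfixA : (fix T A).index ≤ Nat.card A := by
      have := AddSubgroup.card_mul_index (fix T A)
      rw [← this, mul_comm (Nat.card A)] at hcard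
      exact Nat.le_of_mul_le_mul_left hcard Nat.card_pos
    have h1 : ((fix T A).comap ev).index ≤ (fix T A).index := by
      rw [AddSubgroup.index_comap]
      exact (AddSubgroup.relIndex_le_of_le_right le_top
        (by rw [AddSubgroup.relIndex_top_right]; exact AddSubgroup.index_ne_zero_of_finite)).trans
        (AddSubgroup.relIndex_top_right _).le
    have h2 : (fix T A).comap ev ≤ (fixed ι β).comap (Ideal.Quotient.mk I).toAddMonoidHom := by
      intro r hr
      have hr' : ∀ c ∈ A, T c (ev r) = ev r := hr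
      refine ⟨hιspec r r (by rw [hr' a haA, sub_self]; exact N.zero_mem), fun b => ?_⟩
      show Ideal.Quotient.mk I (βR b r) = Ideal.Quotient.mk I r
      rw [hπe]
      have := hβev b r
      rwa [hr' b b.2.1] at this
    have h3 : (fixed ι β).index ≤ ((fix T A).comap ev).index := by
      rw [← AddSubgroup.index_comap_of_surjective (fixed ι β)
        (f := (Ideal.Quotient.mk I).toAddMonoidHom) hπs]
      exact Nat.le_of_dvd (Nat.pos_of_ne_zero AddSubgroup.index_ne_zero_of_finite)
        (AddSubgroup.index_dvd_of_le h2)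
    exact (h3.trans h1).trans (hfixA.trans hAB)

end Two

end Cfsg.Agent.Invol.PGV
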