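import Cfsg.Agent.Lib.Grp.Components
import Cfsg.Agent.Lib.Grp.Subnormal
import Cfsg.Agent.Lib.Invol.PResidual
import Cfsg.Agent.S2905

/-!
# Components of `p`-minimal groups with trivial `p`-core
-/

namespace Cfsg.Agent.Invol.PMinComp

open scoped Pointwise

variable {P : Type*} [Group P] [Finite P] {p : ℕ} [Fact p.Prime]

/-- The hypotheses. -/
structure Setup (p : ℕ) (S : Sylow p P) (M : Subgroup P) : Prop where
  pm : Cfsg.IsPMinimal p P
  co : IsCoatom M
  SM : (S : Subgroup P) ≤ M
  core : Cfsg.pCore p P = ⊥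

variable {S : Sylow p P} {M : Subgroup P}

theorem Setup.le_M (h : Setup p S M) {X : Subgroup P} (hX : (S : Subgroup P) ≤ X) (hne : X ≠ ⊤) :
    X ≤ M := by
  obtain ⟨M', hM', hXM'⟩ := (eq_top_or_exists_le_coatom X).resolve_left hne
  exact (h.pm S).2.unique ⟨hM', hX.trans hXM'⟩ ⟨h.co, h.SM⟩ ▸ hXM'

theorem Setup.normal_cases (h : Setup p S M) {N : Subgroup P} (hN : N.Normal) :
    Cfsg.pResidual p P ≤ N ∨ N ≤ M.normalCore :=
  haveI := Subgroup.normalCore_normal M
  (Cfsg.Agent.S2905.result h.pm S M h.co h.SM).2.2.1 N hN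

theorem Setup.subnormal_inf (h : Setup p S M) {N : Subgroup P} (hN : N.IsSubnormal) (hle : N ≤ M) :
    N ⊓ (S : Subgroup P) = ⊥ :=
  haveI := Subgroup.normalCore_normal M
  le_bot_iff.mp (h.core ▸ (Cfsg.Agent.S2905.result h.pm S M h.co h.SM).1 N hN hle)

theorem Setup.coprime_of_le (h : Setup p S M) {N : Subgroup P} (hN : N.IsSubnormal) (hle : N ≤ M) :
    (Nat.card ↥(S : Subgroup P)).Coprime (Nat.card ↥N) := by
  obtain ⟨n, hn⟩ := IsPGroup.iff_card.mp S.isPGroup'
  rw [hn]
  refine Nat.Coprime.pow_left _ ((Nat.Prime.coprime_iff_not_dvd Fact.out).mpr fun hd => ?_)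
  have h1 := Grp.not_dvd_relIndex_sylow S hN
  rw [← Subgroup.inf_relIndex_right, inf_comm, h.subnormal_inf hN hle, Subgroup.relIndex_bot_left] at h1
  exact h1 hd

/-- A normal `p'`-subgroup is nilpotent. -/
theorem Setup.pprime_nilpotent (h : Setup p S M) {F : Subgroup P} [F.Normal]
    (hcop : (Nat.card ↥(S : Subgroup P)).Coprime (Nat.card ↥F)) : Group.IsNilpotent ↥F := by
  have hsolv : Group.IsSolvable ↥(S : Subgroup P) := @IsNilpotent.to_isSolvable _ _ S.isPGroup'.isNilpotent
  have hnorm : (S : Subgroup P) ≤ Subgroup.normalizer (F : Set P) := by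
    rw [Subgroup.normalizer_eq_top F]; exact le_top
  by_cases hFM : F ≤ M
  · refine Grp.isNilpotent_iff_sylow_normal.mpr fun q _ Q => ?_
    obtain ⟨X, hX, hXS⟩ := Grp.exists_invariant_sylow (S : Subgroup P) F hnorm hcop (Or.inl hsolv) q
    let X' : Sylow q ↥F := (hX.2.1.comap_subtype (K := F)).toSylow hX.2.2
    have hmap : (X' : Subgroup ↥F).map F.subtype = X := by
      show (X.subgroupOf F).map F.subtype = X
      exact Subgroup.map_subgroupOf_eq_of_le hX.1
    have hXn : X.Normal := by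
      refine Subgroup.normalizer_eq_top_iff.mp (by_contra fun hne => h.co.1 ?_)
      have hfr := Sylow.normalizer_sup_eq_top X'
      rw [hmap] at hfr
      exact top_unique (hfr ▸ sup_le (h.le_M hXS hne) hFM)
    have hX'n : (X' : Subgroup ↥F).Normal := Subgroup.Normal.subgroupOf hXn F
    obtain ⟨g, hg⟩ := MulAction.exists_smul_eq ↥F X' Q
    have : (Q : Subgroup ↥F) = MulAut.conj g • (X' : Subgroup ↥F) := by rw [← hg]; rfl
    rw [this, Grp.normalizer_le_smul (Subgroup.normalizer_eq_top (H := (X' : Subgroup ↥F))).ge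
      (Subgroup.mem_top g)]
    exact hX'n
  · by_contra hnn
    refine hFM ((Grp.le_of_forall_sylow (inf_le_left : F ⊓ M ≤ F) fun q _ => ?_).trans inf_le_right)
    obtain ⟨X, hX, hXS⟩ := Grp.exists_invariant_sylow (S : Subgroup P) F hnorm hcop (Or.inl hsolv) q
    refine ⟨X, hX, le_inf hX.1 ?_⟩
    by_contra hXM
    have htop : (S : Subgroup P) ⊔ X = ⊤ := by
      by_contra hne
      exact hXM (le_sup_right.trans (h.le_M le_sup_left hne))
    have h1 := Grp.card_sup_mul_card_inf_normal (H := (S : Subgroup P)) (N := F)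
    rw [top_unique (htop.ge.trans (sup_le_sup_left hX.1 _)), Grp.inf_eq_bot_of_coprime hcop,
      Subgroup.card_bot, mul_one] at h1
    have h2 := Grp.card_sup_dvd_mul hXS
    rw [htop, h1] at h2
    have h3 : X = F := Subgroup.eq_of_le_of_card_ge hX.1
      (Nat.le_of_dvd Nat.card_pos (Nat.dvd_of_mul_dvd_mul_left Nat.card_pos h2))
    exact hnn (h3 ▸ hX.2.1.isNilpotent)

theorem Setup.prime_dvd (h : Setup p S M) {K : Subgroup P} (hK : Cfsg.IsComponent K) :
    p ∣ Nat.card ↥K := by
  by_contra hd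
  have hcop : (Nat.card ↥K).Coprime p := ((Nat.Prime.coprime_iff_not_dvd Fact.out).mpr hd).symm
  haveI := Grp.pPrimeCore_isNormal (p := p) (G := P)
  obtain ⟨n, hn⟩ := IsPGroup.iff_card.mp S.isPGroup'
  haveI := h.pprime_nilpotent (F := Cfsg.pPrimeCore p P)
    (by rw [hn]; exact Nat.Coprime.pow_left _ (Grp.pPrimeCore_coprime (p := p) (G := P)).symm)
  exact Grp.IsComponent.ne_bot hK (Grp.eq_bot_of_perfect_of_solvable (Grp.IsComponent.perfect hK)
    (Grp.isSolvable_of_le (Grp.le_pPrimeCore_of_isSubnormal hK.1 hcop) inferInstance))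

theorem Setup.not_le (h : Setup p S M) {K : Subgroup P} (hK : Cfsg.IsComponent K) : ¬ K ≤ M := fun hle =>
  (Nat.Prime.coprime_iff_not_dvd Fact.out).mp
    ((Nat.Coprime.coprime_dvd_left (by
      obtain ⟨n, hn⟩ := IsPGroup.iff_card.mp S.isPGroup'
      rcases n with _ | n
      · exfalso
        have hS : (S : Subgroup P) = ⊥ := Subgroup.card_eq_one.mp (by rw [hn, pow_zero])
        exact (h.pm S).1 (by rw [hS]; infer_instance)
      · exact hn ▸ dvd_pow_self p n.succ_ne_zero) (h.coprime_of_le hK.1 hle)))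
    (h.prime_dvd hK)

theorem Setup.residual_eq_layer (h : Setup p S M) {K : Subgroup P} (hK : Cfsg.IsComponent K) :
    Cfsg.pResidual p P = Cfsg.layer P := by
  refine le_antisymm ?_ (fun x hx => ?_)
  · refine (h.normal_cases (inferInstance : (Cfsg.layer P).Normal)).resolve_right fun hle => h.not_le hK ?_
    exact (Grp.IsComponent.le_layer hK).trans (hle.trans (Subgroup.normalCore_le M))
  · haveI : Group.IsNilpotent (P ⧸ Cfsg.pResidual p P) := Invol.isPGroup_quotient_pResidual.isNilpotent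
    have h2 : (Cfsg.layer P).map (QuotientGroup.mk' (Cfsg.pResidual p P)) = ⊥ :=
      Grp.eq_bot_of_perfect_of_solvable (by rw [← Subgroup.map_commutator, Grp.layer_perfect]) inferInstance
    rw [Subgroup.map_eq_bot_iff, QuotientGroup.ker_mk'] at h2
    exact h2 hx

theorem Setup.fitting_le (h : Setup p S M) : Cfsg.fittingSubgroup P ≤ Cfsg.pResidual p P := by
  haveI := Grp.fittingSubgroup_isNilpotent (G := P)
  haveI := Grp.fittingSubgroup_isNormal (G := P)
  obtain ⟨T⟩ : Nonempty (Sylow p ↥(Cfsg.fittingSubgroup P)) := inferInstance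
  have hTc := Sylow.characteristic_of_normal T
    (T.normal_of_normalizerCondition Group.normalizerCondition_of_isNilpotent)
  have h1 := Grp.le_pCore (p := p) (ConjAct.normal_of_characteristic_of_normal (H := Cfsg.fittingSubgroup P))
      (T.isPGroup'.map (Cfsg.fittingSubgroup P).subtype)
  rw [h.core, le_bot_iff, Subgroup.map_eq_bot_iff_of_injective _ (Subgroup.subtype_injective _)] at h1
  refine fun x hx => Invol.mem_pResidual (Nat.Coprime.coprime_dvd_left (Subgroup.orderOf_dvd_natCard _ hx) ?_)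
  exact ((Nat.Prime.coprime_iff_not_dvd Fact.out).mpr fun hd => T.ne_bot_of_dvd_card hd h1).symm

/-- All components are conjugate under `S`. -/
theorem Setup.layer_eq (h : Setup p S M) {K : Subgroup P} (hK : Cfsg.IsComponent K) :
    Cfsg.layer P = ⨆ s : ↥(S : Subgroup P), K.map (MulAut.conj (s : P)).toMonoidHom := by
  set J := ⨆ s : ↥(S : Subgroup P), K.map (MulAut.conj (s : P)).toMonoidHom with hJ
  have hcomp : ∀ s : ↥(S : Subgroup P), Cfsg.IsComponent (K.map (MulAut.conj (s : P)).toMonoidHom) :=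
    fun s => Grp.IsComponent.map_iso _ hK
  have hJE : J ≤ Cfsg.layer P := iSup_le fun s => Grp.IsComponent.le_layer (hcomp s)
  refine le_antisymm ?_ hJE
  have hKJ : K ≤ J := fun x hx =>
    le_iSup (fun s : ↥(S : Subgroup P) => K.map (MulAut.conj (s : P)).toMonoidHom) 1 ⟨x, hx, by simp⟩
  have hEJ : Cfsg.layer P ≤ Subgroup.normalizer (J : Set P) := sSup_le fun L hL => by
    by_cases hLJ : L ≤ J
    · exact hLJ.trans Subgroup.le_normalizer
    refine (Subgroup.le_centralizer_iff.mp (iSup_le fun s => ?_)).trans (Subgroup.centralizer_le_normalizer _)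
    have hne : K.map (MulAut.conj (s : P)).toMonoidHom ≠ L := fun e => hLJ (e ▸
      le_iSup (fun s : ↥(S : Subgroup P) => K.map (MulAut.conj (s : P)).toMonoidHom) s)
    exact Grp.IsComponent.commute (hcomp s) hL hne
  have hSJ : (S : Subgroup P) ≤ Subgroup.normalizer (J : Set P) := by
    have key : ∀ t ∈ (S : Subgroup P), MulAut.conj t • J ≤ J := fun t ht => by
      rw [Subgroup.pointwise_smul_subset_iff]
      refine iSup_le fun s => ?_
      rw [← Subgroup.pointwise_smul_subset_iff, Grp.map_conj_eq_smul, Grp.conj_smul_conj_smul,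
        ← Grp.map_conj_eq_smul]
      exact le_iSup (fun s : ↥(S : Subgroup P) => K.map (MulAut.conj (s : P)).toMonoidHom) ⟨t * s, mul_mem ht s.2⟩
    intro t ht
    rw [Grp.mem_normalizer_iff_smul]
    refine le_antisymm (key t ht) ?_
    have := (Subgroup.pointwise_smul_le_pointwise_smul_iff (a := MulAut.conj t)).mpr
      (key t⁻¹ (inv_mem ht))
    rwa [Grp.conj_smul_conj_smul, mul_inv_cancel, map_one, one_smul] at this
  have hJn : J.Normal := by
    refine Subgroup.normalizer_eq_top_iff.mp (top_unique ?_)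
    rw [← Invol.pResidual_sup_sylow S, h.residual_eq_layer hK]
    exact sup_le hEJ hSJ
  rw [← h.residual_eq_layer hK]
  exact (h.normal_cases hJn).resolve_right fun hle => h.not_le hK (hKJ.trans (hle.trans (Subgroup.normalCore_le M)))

/-- A component with the stabiliser in `S` is again `p`-minimal. -/
theorem Setup.component_pMinimal (h : Setup p S M) {K : Subgroup P} (hK : Cfsg.IsComponent K) :
    Cfsg.IsPMinimal p ↥(K ⊔ ((S : Subgroup P) ⊓ Subgroup.normalizer (K : Set P))) := by
  classical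
  set S₀ := (S : Subgroup P) ⊓ Subgroup.normalizer (K : Set P) with hS₀
  set P₀ := K ⊔ S₀ with hP₀
  have hS₀K : S₀ ≤ Subgroup.normalizer (K : Set P) := inf_le_right
  have hKS : K ⊓ (S : Subgroup P) ≤ S₀ := le_inf inf_le_right (inf_le_left.trans Subgroup.le_normalizer)
  have hS₀P : S₀ ≤ P₀ := le_sup_right
  have hS₀p : IsPGroup p ↥S₀ := S.isPGroup'.to_le inf_le_left
  have hidx : ¬ p ∣ S₀.relIndex P₀ := by
    intro hd
    have e1 := Grp.card_sup_mul_card_inf hS₀K
    rw [sup_comm, ← hP₀, ← Grp.card_mul_relIndex hS₀P, mul_assoc] at e1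
    have e2 := Nat.eq_of_mul_eq_mul_left Nat.card_pos e1
    have h3 : p * Nat.card ↥(K ⊓ (S : Subgroup P)) ∣ Nat.card ↥K :=
      e2 ▸ Nat.mul_dvd_mul hd (Subgroup.card_dvd_of_le (le_inf hKS inf_le_left))
    rw [← Grp.card_mul_relIndex (inf_le_left : K ⊓ (S : Subgroup P) ≤ K), mul_comm p] at h3
    have h4 := Nat.dvd_of_mul_dvd_mul_left Nat.card_pos h3
    rw [inf_comm, Subgroup.inf_relIndex_right] at h4
    exact Grp.not_dvd_relIndex_sylow S hK.1 h4
  let T₀ : Sylow p ↥P₀ := (hS₀p.comap_subtype (K := P₀)).toSylow hidx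
  set M₀ := M.subgroupOf P₀ with hM₀
  have hM₀top : M₀ ≠ ⊤ := fun e => h.not_le hK (le_sup_left.trans (Subgroup.subgroupOf_eq_top.mp e))
  have hKS1 : K ⊓ (S : Subgroup P) ≠ ⊥ := by
    intro e
    have h1 := Grp.not_dvd_relIndex_sylow S hK.1
    rw [← Subgroup.inf_relIndex_right, inf_comm, e, Subgroup.relIndex_bot_left] at h1
    exact h1 (h.prime_dvd hK)
  -- the other components
  set C := sSup {L : Subgroup P | Cfsg.IsComponent L ∧ L ≠ K} with hC
  have hCK : C ≤ Subgroup.centralizer (K : Set P) := sSup_le fun L hL => Grp.IsComponent.commute hL.1 hK hL.2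
  have key : ∀ X : Subgroup P, S₀ ≤ X → X ≤ P₀ → X ≠ P₀ → X ≤ M := by
    intro X hSX hXP hne
    set Y := X ⊓ K with hY
    set D := ⨆ s : ↥(S : Subgroup P), Y.map (MulAut.conj (s : P)).toMonoidHom with hD
    have hYD : Y ≤ D := fun x hx =>
      le_iSup (fun s : ↥(S : Subgroup P) => Y.map (MulAut.conj (s : P)).toMonoidHom) 1 ⟨x, hx, by simp⟩
    have hDE : D ≤ Cfsg.layer P := iSup_le fun s =>
      (Subgroup.map_mono inf_le_right).trans (Grp.IsComponent.le_layer (Grp.IsComponent.map_iso _ hK))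
    have hDYC : D ≤ Y ⊔ C := iSup_le fun s => by
      by_cases hs : K.map (MulAut.conj (s : P)).toMonoidHom = K
      · refine le_trans (le_of_eq ?_) le_sup_left
        have hs0 : (s : P) ∈ S₀ := ⟨s.2, Grp.mem_normalizer_iff_smul.mpr (by rw [← Grp.map_conj_eq_smul]; exact hs)⟩
        rw [Grp.map_conj_eq_smul, hY, Subgroup.smul_inf, Grp.normalizer_le_smul Subgroup.le_normalizer (hSX hs0),
          ← Grp.map_conj_eq_smul, hs]
      · exact ((Subgroup.map_mono inf_le_right).trans (le_sSup
          (show K.map (MulAut.conj (s : P)).toMonoidHom ∈ {L : Subgroup P | Cfsg.IsComponent L ∧ L ≠ K} from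
            ⟨Grp.IsComponent.map_iso _ hK, hs⟩))).trans le_sup_right
    have hSD : (S : Subgroup P) ≤ Subgroup.normalizer (D : Set P) := by
      have key : ∀ t ∈ (S : Subgroup P), MulAut.conj t • D ≤ D := fun t ht => by
        rw [Subgroup.pointwise_smul_subset_iff]
        refine iSup_le fun s => ?_
        rw [← Subgroup.pointwise_smul_subset_iff, Grp.map_conj_eq_smul, Grp.conj_smul_conj_smul,
          ← Grp.map_conj_eq_smul]
        exact le_iSup (fun s : ↥(S : Subgroup P) => Y.map (MulAut.conj (s : P)).toMonoidHom) ⟨t * s, mul_mem ht s.2⟩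
      intro t ht
      rw [Grp.mem_normalizer_iff_smul]
      refine le_antisymm (key t ht) ?_
      have := (Subgroup.pointwise_smul_le_pointwise_smul_iff (a := MulAut.conj t)).mpr
        (key t⁻¹ (inv_mem ht))
      rwa [Grp.conj_smul_conj_smul, mul_inv_cancel, map_one, one_smul] at this
    have hXdec : X ≤ Y ⊔ S₀ := fun x hx => by
      have hx' : x ∈ ((S₀ ⊔ K : Subgroup P) : Set P) := by rw [sup_comm]; exact hXP hx
      rw [Subgroup.coe_mul_of_left_le_normalizer_right _ _ hS₀K] at hx'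
      obtain ⟨s, hs, k, hk, rfl⟩ := hx'
      refine Subgroup.mul_mem _ (Subgroup.mem_sup_right hs) (Subgroup.mem_sup_left ⟨?_, hk⟩)
      simpa using X.mul_mem (X.inv_mem (hSX hs)) hx
    rcases eq_or_ne ((S : Subgroup P) ⊔ D) ⊤ with htop | htop
    · exfalso
      refine hne (le_antisymm hXP (sup_le ?_ hSX))
      -- `K ≤ (X ⊓ K) Z(K)`
      have hKW : K ≤ Y ⊔ (K ⊓ Subgroup.centralizer (K : Set P)) := by
        intro k hk
        have hk' : k ∈ (((S : Subgroup P) ⊔ D : Subgroup P) : Set P) := by rw [htop]; trivial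
        rw [Subgroup.coe_mul_of_left_le_normalizer_right _ _ hSD] at hk'
        obtain ⟨t, ht, d, hd, rfl⟩ := hk'
        have hYC : Y ≤ Subgroup.normalizer (C : Set P) :=
          inf_le_right.trans ((Subgroup.le_centralizer_iff.mp hCK).trans (Subgroup.centralizer_le_normalizer _))
        obtain ⟨a, ha, c, hc, rfl⟩ : d ∈ (Y : Set P) * (C : Set P) :=
          (Subgroup.coe_mul_of_left_le_normalizer_right _ _ hYC).subset (hDYC hd)
        have hca : c * a = a * c := (Subgroup.mem_centralizer_iff.mp (hCK hc) a ha.2).symm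
        -- `t c` lies in `K` and `t` is a `p`-element
        set u := t * c with hu
        have hue : t * (a * c) = u * a := by rw [hu, ← hca]; group
        have huK : u ∈ K := by
          have h1 : u * a ∈ K := hue ▸ hk
          simpa [mul_assoc] using K.mul_mem h1 (K.inv_mem ha.2)
        show t * (a * c) ∈ _
        rw [hue]
        refine Subgroup.mul_mem _ ?_ (Subgroup.mem_sup_left ha)
        have hcu : Commute c u := ((Subgroup.mem_centralizer_iff.mp (hCK hc)) u huK).symm
        have hct : Commute c t := by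
          have : t = u * c⁻¹ := by rw [hu]; group
          rw [this]
          exact hcu.mul_right (Commute.refl c).inv_right
        obtain ⟨n, hn⟩ := S.isPGroup' ⟨t, ht⟩
        have htn : t ^ p ^ n = 1 := congrArg Subtype.val hn
        have hupow : u ^ p ^ n ∈ Subgroup.centralizer (K : Set P) := by
          rw [hu, hct.symm.mul_pow, htn, one_mul]
          exact Subgroup.pow_mem _ (hCK hc) _
        obtain ⟨k', m, hm, hkm⟩ := Nat.exists_eq_pow_mul_and_not_dvd (orderOf_pos u).ne' p
          (Fact.out : p.Prime).ne_one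
        have hco : (p ^ k').Coprime m :=
          Nat.Coprime.pow_left _ ((Fact.out : p.Prime).coprime_iff_not_dvd.mpr hm)
        obtain ⟨e, f, he, hf, hep, hfm, hef⟩ := Grp.exists_pow_decomp (g := u) hco
          (by rw [← hkm, pow_orderOf_eq_one])
        rw [hef]
        have hfK : f ∈ K := Subgroup.zpowers_le.mpr huK hf
        have heK : e ∈ K := Subgroup.zpowers_le.mpr huK he
        refine Subgroup.mul_mem _ (Subgroup.mem_sup_left ⟨?_, heK⟩) (Subgroup.mem_sup_right ⟨hfK, ?_⟩)
        · -- `e` normalises the Sylow subgroup `K ⊓ S`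
          have huN : u ∈ Subgroup.normalizer ((K ⊓ (S : Subgroup P) : Subgroup P) : Set P) := by
            rw [hu]
            refine mul_mem ?_ (Subgroup.centralizer_le_normalizer _
              (Subgroup.centralizer_le (SetLike.coe_subset_coe.mpr inf_le_left) (hCK hc)))
            rw [Grp.mem_normalizer_iff_smul, Subgroup.smul_inf,
              Grp.normalizer_le_smul Subgroup.le_normalizer ht]
            congr 1
            have hK' := Subgroup.centralizer_le_normalizer _ (hCK hc)
            have h1 : u * c⁻¹ ∈ Subgroup.normalizer (K : Set P) :=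
              mul_mem (Subgroup.le_normalizer huK) (inv_mem hK')
            rw [show u * c⁻¹ = t by rw [hu]; group] at h1
            exact Grp.mem_normalizer_iff_smul.mp h1
          have heN := Subgroup.zpowers_le.mpr huN he
          set Q := K ⊓ (S : Subgroup P)
          have hQn : Subgroup.zpowers e ≤ Subgroup.normalizer (Q : Set P) := Subgroup.zpowers_le.mpr heN
          have hQp : IsPGroup p ↥Q := S.isPGroup'.to_le inf_le_right
          obtain ⟨i, -, hi⟩ := (Nat.dvd_prime_pow (Fact.out : p.Prime)).mp (orderOf_dvd_of_pow_eq_one hep)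
          have hJp : IsPGroup p ↥(Subgroup.zpowers e ⊔ Q) := by
            obtain ⟨j, hj⟩ := IsPGroup.iff_card.mp hQp
            have hd := Grp.card_sup_dvd_mul hQn
            rw [Nat.card_zpowers, hi, hj, ← pow_add] at hd
            obtain ⟨l, -, hl⟩ := (Nat.dvd_prime_pow (Fact.out : p.Prime)).mp hd
            exact IsPGroup.of_card hl
          have hJK : Subgroup.zpowers e ⊔ Q ≤ K := sup_le (Subgroup.zpowers_le.mpr heK) inf_le_left
          obtain ⟨b, hb⟩ := IsPGroup.iff_card.mp hJp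
          have h2 : Q.relIndex (Subgroup.zpowers e ⊔ Q) ∣ Q.relIndex K :=
            Dvd.intro _ (Subgroup.relIndex_mul_relIndex Q _ K le_sup_right hJK)
          obtain ⟨l, -, hl⟩ := (Nat.dvd_prime_pow (Fact.out : p.Prime)).mp
            (hb ▸ Dvd.intro_left _ (Grp.card_mul_relIndex (le_sup_right : Q ≤ Subgroup.zpowers e ⊔ Q)))
          rcases l with _ | l
          · exact hSX (hKS ((Subgroup.relIndex_eq_one.mp (by rw [hl, pow_zero]))
              (Subgroup.mem_sup_left (Subgroup.mem_zpowers e))))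
          · refine absurd ((dvd_pow_self p l.succ_ne_zero).trans (hl ▸ h2)) ?_
            show ¬ p ∣ (K ⊓ (S : Subgroup P)).relIndex K
            rw [inf_comm, Subgroup.inf_relIndex_right]
            exact Grp.not_dvd_relIndex_sylow S hK.1
        · -- `f` has order prime to `p`
          have hfn : f ^ p ^ n ∈ Subgroup.centralizer (K : Set P) := by
            obtain ⟨i, rfl⟩ := hf
            rw [← zpow_natCast, ← zpow_mul, mul_comm, zpow_mul, zpow_natCast]
            exact Subgroup.zpow_mem _ hupow i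
          have hcop : (p ^ n).Coprime (orderOf f) := Nat.Coprime.coprime_dvd_right
            (orderOf_dvd_of_pow_eq_one hfm) (Nat.Coprime.pow_left _ ((Fact.out : p.Prime).coprime_iff_not_dvd.mpr hm))
          obtain ⟨r, hr⟩ := exists_pow_eq_self_of_coprime hcop
          rw [← hr]
          exact Subgroup.pow_mem _ hfn r
      rw [← Grp.IsComponent.perfect hK, Subgroup.commutator_le]
      intro a ha b hb
      have hZn : Y ≤ Subgroup.normalizer ((K ⊓ Subgroup.centralizer (K : Set P) : Subgroup P) : Set P) := by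
        refine inf_le_right.trans ((Subgroup.le_centralizer_iff.mp inf_le_right).trans
          (Subgroup.centralizer_le_normalizer _))
      obtain ⟨a₁, ha₁, z, hz, rfl⟩ := (Subgroup.coe_mul_of_left_le_normalizer_right _ _ hZn).subset (hKW ha)
      obtain ⟨b₁, hb₁, w, hw, rfl⟩ := (Subgroup.coe_mul_of_left_le_normalizer_right _ _ hZn).subset (hKW hb)
      have e1 : z * b₁ = b₁ * z := (Subgroup.mem_centralizer_iff.mp hz.2 _ hb₁.2).symm
      have e2 : w * a₁⁻¹ = a₁⁻¹ * w := (Subgroup.mem_centralizer_iff.mp hw.2 _ (K.inv_mem ha₁.2)).symm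
      have e3 : z * w = w * z := (Subgroup.mem_centralizer_iff.mp hz.2 _ hw.1).symm
      have : a₁ * z * (b₁ * w) * (a₁ * z)⁻¹ * (b₁ * w)⁻¹ = a₁ * b₁ * a₁⁻¹ * b₁⁻¹ := by
        calc a₁ * z * (b₁ * w) * (a₁ * z)⁻¹ * (b₁ * w)⁻¹
            = a₁ * (z * b₁) * w * z⁻¹ * a₁⁻¹ * w⁻¹ * b₁⁻¹ := by group
          _ = a₁ * b₁ * (z * w) * z⁻¹ * a₁⁻¹ * w⁻¹ * b₁⁻¹ := by rw [e1]; group
          _ = a₁ * b₁ * (w * a₁⁻¹) * w⁻¹ * b₁⁻¹ := by rw [e3]; group
          _ = a₁ * b₁ * a₁⁻¹ * b₁⁻¹ := by rw [e2]; group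
      rw [commutatorElement_def, this]
      exact X.mul_mem (X.mul_mem (X.mul_mem ha₁.1 hb₁.1) (X.inv_mem ha₁.1)) (X.inv_mem hb₁.1)
    · have h1 := h.le_M le_sup_left htop
      exact hXdec.trans (sup_le ((hYD.trans le_sup_right).trans h1) (inf_le_left.trans h.SM))
  have key' : ∀ N : Subgroup ↥P₀, (T₀ : Subgroup ↥P₀) ≤ N → N ≠ ⊤ → N ≤ M₀ := by
    intro N hN hne
    refine Subgroup.map_le_iff_le_comap.mp (key (N.map P₀.subtype) ?_ (Subgroup.map_subtype_le _) fun e => hne ?_)
    · intro x hx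
      exact ⟨⟨x, hS₀P hx⟩, hN hx, rfl⟩
    · refine Subgroup.map_injective (Subgroup.subtype_injective P₀) ?_
      rw [e, ← MonoidHom.range_eq_map, Subgroup.range_subtype]
  have hTM : (T₀ : Subgroup ↥P₀) ≤ M₀ := fun x hx => h.SM hx.1
  have hco₀ : IsCoatom M₀ := ⟨hM₀top, fun N hN => by_contra fun hne =>
    hN.not_ge (key' N (hTM.trans hN.le) hne)⟩
  have hTn : ¬ (T₀ : Subgroup ↥P₀).Normal := by
    intro hn
    haveI := hn
    have hKn : K ≤ Subgroup.normalizer (S₀ : Set P) :=
      le_sup_left.trans ((Subgroup.normal_subgroupOf_iff_le_normalizer hS₀P).mp hn)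
    have hQn : ((K ⊓ (S : Subgroup P)).subgroupOf K).Normal := by
      refine (Subgroup.normal_subgroupOf_iff_le_normalizer inf_le_left).mpr fun k hk => ?_
      have h1 : K ⊓ S₀ = K ⊓ (S : Subgroup P) :=
        le_antisymm (inf_le_inf_left _ inf_le_left) (le_inf inf_le_left hKS)
      rw [← h1, Grp.mem_normalizer_iff_smul, Subgroup.smul_inf, Grp.conj_smul_eq_self_of_mem hk,
        Grp.normalizer_le_smul hKn hk]
    exact hKS1 (le_bot_iff.mp (h.core ▸ Grp.le_pCore_of_isSubnormal
      (Subgroup.IsSubnormal.step _ K inf_le_left hK.1 hQn) (S.isPGroup'.to_le inf_le_right)))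
  intro T
  obtain ⟨g, hg⟩ := MulAction.exists_smul_eq ↥P₀ T₀ T
  have hgT : (T : Subgroup ↥P₀) = MulAut.conj g • (T₀ : Subgroup ↥P₀) := by rw [← hg]; rfl
  refine ⟨fun hn => hTn ?_, ⟨MulAut.conj g • M₀, ⟨?_, ?_⟩, fun M' hM' => ?_⟩⟩
  · have : (T₀ : Subgroup ↥P₀) = MulAut.conj g⁻¹ • (T : Subgroup ↥P₀) := by
      rw [hgT, Grp.conj_smul_conj_smul, inv_mul_cancel, map_one, one_smul]
    rw [this, Grp.normalizer_le_smul (Subgroup.normalizer_eq_top (H := (T : Subgroup ↥P₀))).ge
      (Subgroup.mem_top g⁻¹)]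
    exact hn
  · rw [← Grp.map_conj_eq_smul]
    exact (OrderIso.isCoatom_iff (MulEquiv.mapSubgroup (MulAut.conj g)) M₀).mpr hco₀
  · rw [hgT]
    exact Subgroup.pointwise_smul_le_pointwise_smul_iff.mpr hTM
  · have h2 : IsCoatom (MulAut.conj g⁻¹ • M') := by
      rw [← Grp.map_conj_eq_smul]
      exact (OrderIso.isCoatom_iff (MulEquiv.mapSubgroup (MulAut.conj g⁻¹)) M').mpr hM'.1
    have h3 : (T₀ : Subgroup ↥P₀) ≤ MulAut.conj g⁻¹ • M' := by
      have := Subgroup.pointwise_smul_le_pointwise_smul_iff (a := MulAut.conj g⁻¹) |>.mpr hM'.2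
      rwa [hgT, Grp.conj_smul_conj_smul, inv_mul_cancel, map_one, one_smul] at this
    have h4 := key' _ h3 h2.1
    have h5 : MulAut.conj g⁻¹ • M' = M₀ := (lt_or_eq_of_le h4).resolve_left fun hlt => hM₀top (h2.2 _ hlt)
    rw [← h5, Grp.conj_smul_conj_smul, mul_inv_cancel, map_one, one_smul]

end Cfsg.Agent.Invol.PMinComp
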