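import Cfsg.Agent.Lib.Invol.WeakClosureProduct
import Cfsg.Agent.Lib.Block.PPartDerived
import Cfsg.Agent.Lib.Grp.MinimalPClosed

/-!
A conjugacy orbit of `p`-minimal or strongly `p`-irreducible subgroups, each normal in their join modulo `O_p`.
-/

set_option autoImplicit false

namespace Cfsg.Agent.Invol.PMinOrbit

open Subgroup
open scoped commutatorElement
open Cfsg.Agent.Invol.WCProduct

universe u

variable {H : Type u} [Group H] [Finite H] {p : ℕ} [hp : Fact p.Prime]

theorem inf_map_normalized {A B : Subgroup H} {g : H} (hA : g ∈ normalizer (A : Set H))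
    (hB : g ∈ normalizer (B : Set H)) : (A ⊓ B).map (MulAut.conj g).toMonoidHom = A ⊓ B := by
  rw [map_inf_eq (f := (MulAut.conj g).toMonoidHom) A B (MulAut.conj g).injective,
    wc_map_conj_eq_iff.mpr hA, wc_map_conj_eq_iff.mpr hB]

/-- The basic facts about a member of the orbit. -/
structure Data (p : ℕ) (H : Type u) [Group H] (𝒦 : Set (Subgroup H)) (T : Sylow p H) : Prop where
  hne : 𝒦.Nonempty
  hinv : ∀ h : H, ∀ E ∈ 𝒦, E.map (MulAut.conj h).toMonoidHom ∈ 𝒦
  htr : ∀ E ∈ 𝒦, ∀ K ∈ 𝒦, ∃ h : H, K = E.map (MulAut.conj h).toMonoidHom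
  hres : Cfsg.pResidual p H ≤ sSup 𝒦
  hnorm : ∀ E ∈ 𝒦, sSup 𝒦 ⊔ Cfsg.pCore p H ≤ normalizer ((E ⊔ Cfsg.pCore p H : Subgroup H) : Set H)

variable {𝒦 : Set (Subgroup H)} {T : Sylow p H}

omit hp in
theorem Data.R_normal (d : Data p H 𝒦 T) : (sSup 𝒦).Normal := by
  rw [← normalizer_eq_top_iff, eq_top_iff]
  intro h _
  refine Subgroup.mem_normalizer_fintype fun y hy => ?_
  have hm : (sSup 𝒦).map (MulAut.conj h).toMonoidHom ≤ sSup 𝒦 := by
    rw [Subgroup.map_le_iff_le_comap]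
    exact sSup_le fun E hE => Subgroup.map_le_iff_le_comap.mp (le_sSup (d.hinv h E hE))
  exact hm ⟨y, hy, rfl⟩

theorem Data.R'_normal (d : Data p H 𝒦 T) : (sSup 𝒦 ⊔ Cfsg.pCore p H).Normal := by
  have := d.R_normal
  have := Grp.pCore_isNormal (p := p) (G := H)
  exact Subgroup.sup_normal _ _

theorem core_le_sylow (T : Sylow p H) : Cfsg.pCore p H ≤ (T : Subgroup H) := by
  have hn := Grp.pCore_isNormal (p := p) (G := H)
  obtain ⟨P, hP⟩ := (Grp.pCore_isPGroup (p := p) (G := H)).exists_le_sylow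
  obtain ⟨g, hg⟩ := MulAction.exists_smul_eq H P T
  intro x hx
  have hx' : g⁻¹ * x * g ∈ (P : Subgroup H) := hP (by simpa using hn.conj_mem x hx g⁻¹)
  rw [← hg, Sylow.coe_subgroup_smul]
  exact ⟨g⁻¹ * x * g, hx', by simp [mul_assoc]⟩

theorem Data.sup_sylow (d : Data p H 𝒦 T) :
    (sSup 𝒦 ⊔ Cfsg.pCore p H) ⊔ (T : Subgroup H) = ⊤ := by
  rw [eq_top_iff, ← Transfer.sylow_sup_pResidual T]
  exact sup_le le_sup_right (d.hres.trans (le_sup_left.trans le_sup_left))

/-- The intersection with a member is a Sylow subgroup of that member. -/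
theorem Data.sylow_member (d : Data p H 𝒦 T) {E : Subgroup H} (hE : E ∈ 𝒦) :
    ∃ S : Sylow p ↥E, (S : Subgroup ↥E) = (T : Subgroup H).subgroupOf E := by
  obtain ⟨R', hR'⟩ : ∃ R', R' = sSup 𝒦 ⊔ Cfsg.pCore p H := ⟨_, rfl⟩
  haveI : R'.Normal := hR' ▸ d.R'_normal
  have hn := Grp.pCore_isNormal (p := p) (G := H)
  have hE' : E ⊔ Cfsg.pCore p H ≤ R' := hR' ▸ sup_le_sup_right (le_sSup hE) _
  have h1 : ¬ p ∣ (T : Subgroup H).relIndex (E ⊔ Cfsg.pCore p H) := by
    let TR : Sylow p ↥R' := (T.isPGroup'.comap_subtype (K := R')).toSylow (Grp.sylow_inf_normal_relIndex T R')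
    haveI : ((E ⊔ Cfsg.pCore p H).subgroupOf R').Normal :=
      (normal_subgroupOf_iff_le_normalizer hE').mpr (hR' ▸ d.hnorm E hE)
    have h := Grp.sylow_inf_normal_relIndex TR ((E ⊔ Cfsg.pCore p H).subgroupOf R')
    have e : (TR : Subgroup ↥R') = (T : Subgroup H).subgroupOf R' := rfl
    rwa [e, relIndex_subgroupOf hE'] at h
  have h2 : Nat.card (↥E ⧸ (T : Subgroup H).subgroupOf E) =
      Nat.card (↥(E ⊔ Cfsg.pCore p H) ⧸ (T : Subgroup H).subgroupOf (E ⊔ Cfsg.pCore p H)) := by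
    refine Nat.card_eq_of_bijective _ ⟨(quotientSubgroupOfEmbeddingOfLE (T : Subgroup H)
      (le_sup_left : E ≤ E ⊔ Cfsg.pCore p H)).injective, fun x => ?_⟩
    induction x using QuotientGroup.induction_on with
    | _ x =>
      obtain ⟨e, he, q, hq, hx⟩ := mem_sup_of_normal_right.mp x.2
      refine ⟨QuotientGroup.mk ⟨e, he⟩, ?_⟩
      rw [quotientSubgroupOfEmbeddingOfLE_apply_mk, QuotientGroup.eq, mem_subgroupOf]
      show e⁻¹ * (x : H) ∈ (T : Subgroup H)
      rw [← hx, inv_mul_cancel_left]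
      exact core_le_sylow T hq
  refine ⟨(T.isPGroup'.comap_subtype (K := E)).toSylow ?_, rfl⟩
  intro h
  exact h1 (by rw [relIndex, index, ← h2]; exact h)

theorem Data.not_normalClosure (d : Data p H 𝒦 T) {E N : Subgroup H} (hE : E ∈ 𝒦) [hN : N.Normal]
    (hTN : (T : Subgroup H) ≤ N) (hmin : ∀ S : Sylow p ↥E, Cfsg.IsMinimalOver (S : Subgroup ↥E)) :
    E ≤ N := by
  obtain ⟨S, hS⟩ := d.sylow_member hE
  rw [← subgroupOf_eq_top, eq_top_iff, ← (hmin S).1]
  refine normalClosure_le_normal fun x hx => ?_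
  rw [SetLike.mem_coe, hS] at hx
  exact hTN hx

theorem Data.exists_max (d : Data p H 𝒦 T) {E : Subgroup H} (hE : E ∈ 𝒦)
    (hmin : ∀ S : Sylow p ↥E, Cfsg.IsMinimalOver (S : Subgroup ↥E)) :
    ∃ M : Subgroup H, M ≤ E ⊔ Cfsg.pCore p H ∧ Cfsg.pCore p H ≤ M ∧
      (T : Subgroup H) ⊓ E ≤ M ∧ M ≠ E ⊔ Cfsg.pCore p H ∧
      ∀ U : Subgroup H, U ≤ E ⊔ Cfsg.pCore p H → Cfsg.pCore p H ≤ U → (T : Subgroup H) ⊓ E ≤ U →
        U ≠ E ⊔ Cfsg.pCore p H → U ≤ M := by
  have hn := Grp.pCore_isNormal (p := p) (G := H)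
  obtain ⟨S, hS⟩ := d.sylow_member hE
  obtain ⟨M0, ⟨hM0, hM0S⟩, huniq⟩ := (hmin S).2
  rw [hS] at hM0S
  have hTE : (T : Subgroup H) ⊓ E ≤ M0.map E.subtype := fun x hx =>
    ⟨⟨x, (mem_inf.mp hx).2⟩, hM0S (mem_inf.mp hx).1, rfl⟩
  refine ⟨M0.map E.subtype ⊔ Cfsg.pCore p H, sup_le_sup_right (map_subtype_le _) _, le_sup_right,
    hTE.trans le_sup_left, ?_, ?_⟩
  · intro e
    refine hM0.1 (eq_top_iff.mpr fun x _ => ?_)
    have hx : (x : H) ∈ M0.map E.subtype ⊔ Cfsg.pCore p H := e.ge (mem_sup_left x.2)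
    obtain ⟨m, ⟨m', hm', rfl⟩, q, hq, hx'⟩ := mem_sup_of_normal_right.mp hx
    have hqE : q ∈ E := by
      have : q = (m' : H)⁻¹ * (x : H) := by rw [← hx']; simp
      rw [this]; exact mul_mem (inv_mem m'.2) x.2
    have hq' : (⟨q, hqE⟩ : ↥E) ∈ M0 := hM0S (core_le_sylow T hq)
    have e2 : x = m' * ⟨q, hqE⟩ := Subtype.ext hx'.symm
    rw [e2]; exact mul_mem hm' hq'
  · intro U hU hQU hTU hne
    have hdec : U ≤ (U.subgroupOf E).map E.subtype ⊔ Cfsg.pCore p H := by
      intro u hu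
      obtain ⟨e, he, q, hq, rfl⟩ := mem_sup_of_normal_right.mp (hU hu)
      refine mul_mem (mem_sup_left ⟨⟨e, he⟩, ?_, rfl⟩) (mem_sup_right hq)
      exact (U.mul_mem_cancel_right (hQU hq)).mp hu
    have hproper : U.subgroupOf E ≠ ⊤ := fun e => hne (le_antisymm hU
      (sup_le (subgroupOf_eq_top.mp e) hQU))
    obtain ⟨C, hC, hUC⟩ := (eq_top_or_exists_le_coatom (U.subgroupOf E)).resolve_left hproper
    have hSC : (S : Subgroup ↥E) ≤ C := by
      rw [hS]
      exact fun x hx => hUC (hTU ⟨hx, x.2⟩)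
    refine hdec.trans (sup_le_sup_right (map_mono ?_) _)
    exact hUC.trans (huniq C ⟨hC, hSC⟩).le

theorem minimalOver (d : Data p H 𝒦 T)
    (hmin : ∀ E ∈ 𝒦, ∀ S : Sylow p ↥E, Cfsg.IsMinimalOver (S : Subgroup ↥E)) :
    Cfsg.IsMinimalOver (T : Subgroup H) := by
  classical
  have hQn := Grp.pCore_isNormal (p := p) (G := H)
  obtain ⟨Q, hQ⟩ : ∃ Q, Q = Cfsg.pCore p H := ⟨_, rfl⟩
  have hQT : Q ≤ (T : Subgroup H) := hQ ▸ core_le_sylow T
  have hQmap : ∀ g : H, Q.map (MulAut.conj g).toMonoidHom = Q := fun g =>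
    wc_map_conj_eq_iff.mpr (by rw [hQ, normalizer_eq_top]; exact mem_top g)
  obtain ⟨R', hR'⟩ : ∃ R', R' = sSup 𝒦 ⊔ Q := ⟨_, rfl⟩
  have hR'n : R'.Normal := hR' ▸ hQ ▸ d.R'_normal
  have hsup : R' ⊔ (T : Subgroup H) = ⊤ := hR' ▸ hQ ▸ d.sup_sylow
  have hER : ∀ E ∈ 𝒦, E ⊔ Q ≤ R' := fun E hE => hR' ▸ sup_le_sup_right (le_sSup hE) _
  have hRn : ∀ E ∈ 𝒦, R' ≤ normalizer ((E ⊔ Q : Subgroup H) : Set H) := fun E hE => by
    subst hR'; subst hQ; exact d.hnorm E hE
  choose! Mf h1 h2 h3 h4 h5 using fun E (hE : E ∈ 𝒦) => d.exists_max hE (hmin E hE)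
  rw [← hQ] at h1 h2 h4 h5
  have hmap : ∀ (g : H) (E : Subgroup H), (E ⊔ Q).map (MulAut.conj g).toMonoidHom =
      E.map (MulAut.conj g).toMonoidHom ⊔ Q := fun g E => by rw [Subgroup.map_sup, hQmap]
  -- invariance under the Sylow subgroup
  have heq : ∀ t ∈ (T : Subgroup H), ∀ E ∈ 𝒦,
      (Mf E).map (MulAut.conj t).toMonoidHom ≤ Mf (E.map (MulAut.conj t).toMonoidHom) := by
    intro t ht E hE
    refine h5 _ (d.hinv t E hE) _ (hmap t E ▸ map_mono (h1 E hE))
      ((hQmap t).ge.trans (map_mono (h2 E hE))) ?_ ?_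
    · refine le_trans ?_ (map_mono (h3 E hE))
      rw [map_inf_eq (f := (MulAut.conj t).toMonoidHom) _ _ (MulAut.conj t).injective,
        wc_map_conj_eq_iff.mpr (le_normalizer ht)]
    · intro e
      rw [← hmap] at e
      exact h4 E hE (map_injective (f := (MulAut.conj t).toMonoidHom) (MulAut.conj t).injective e)
  have heqR : ∀ t ∈ (T : Subgroup H), t ∈ R' → ∀ E ∈ 𝒦, t ∈ normalizer (Mf E : Set H) := by
    intro t ht htR E hE
    have hm : (Mf E).map (MulAut.conj t).toMonoidHom ≤ Mf E := by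
      have he' : (E ⊔ Q).map (MulAut.conj t).toMonoidHom = E ⊔ Q :=
        wc_map_conj_eq_iff.mpr (hRn E hE htR)
      refine h5 E hE _ (he' ▸ map_mono (h1 E hE)) ((hQmap t).ge.trans (map_mono (h2 E hE))) ?_ ?_
      · have hTE : (T : Subgroup H) ⊓ (E ⊔ Q) ≤ Mf E := by
          intro x hx
          obtain ⟨hxT, hxE⟩ := mem_inf.mp hx
          have : Q.Normal := hQ ▸ hQn
          obtain ⟨e, he, q, hq, rfl⟩ := mem_sup_of_normal_right.mp hxE
          exact mul_mem (h3 E hE ⟨((T : Subgroup H).mul_mem_cancel_right (hQT hq)).mp hxT, he⟩)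
            (h2 E hE hq)
        refine le_trans ?_ (map_mono hTE)
        rw [inf_map_normalized (le_normalizer ht) (hRn E hE htR)]
        exact inf_le_inf_left _ le_sup_left
      · intro e
        exact h4 E hE (map_injective (f := (MulAut.conj t).toMonoidHom) (MulAut.conj t).injective
          (e.trans he'.symm))
    exact Subgroup.mem_normalizer_fintype fun y hy => hm ⟨y, hy, rfl⟩
  obtain ⟨X, hX⟩ : ∃ X, X = R' ⊓ ⨅ E : 𝒦, normalizer (Mf (E : Subgroup H) : Set H) := ⟨_, rfl⟩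
  have hTX : (T : Subgroup H) ≤ normalizer (X : Set H) := by
    intro t ht
    refine Subgroup.mem_normalizer_fintype fun x hx => ?_
    rw [SetLike.mem_coe, hX, mem_inf, mem_iInf] at hx ⊢
    refine ⟨hR'n.conj_mem x hx.1 t, fun E => ?_⟩
    have hE1 : (E : Subgroup H).map (MulAut.conj t⁻¹).toMonoidHom ∈ 𝒦 := d.hinv _ _ E.2
    have e1 : ((E : Subgroup H).map (MulAut.conj t⁻¹).toMonoidHom).map (MulAut.conj t).toMonoidHom = E := by
      rw [conj_map_trans, mul_inv_cancel, conj_map_one]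
    have e2 : (Mf ((E : Subgroup H).map (MulAut.conj t⁻¹).toMonoidHom)).map (MulAut.conj t).toMonoidHom = Mf E := by
      refine le_antisymm ((heq t ht _ hE1).trans (by rw [e1])) ?_
      have h := map_mono (f := (MulAut.conj t).toMonoidHom) (heq t⁻¹ (inv_mem ht) E E.2)
      rwa [conj_map_trans, mul_inv_cancel, conj_map_one] at h
    refine mem_normalizer_of_conj ?_
    rw [← e2, conj_map_trans, show t * x * t⁻¹ * t = t * x by group, ← conj_map_trans,
      wc_map_conj_eq_iff.mpr (hx.2 ⟨_, hE1⟩)]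
  have hXR : X ≤ R' := hX ▸ inf_le_left
  have hTR : (T : Subgroup H) ⊓ R' ≤ X := by
    intro t ht
    rw [hX, mem_inf, mem_iInf]
    exact ⟨(mem_inf.mp ht).2, fun E => heqR t (mem_inf.mp ht).1 (mem_inf.mp ht).2 E E.2⟩
  -- every proper subgroup over `T` lies in `X T`
  have hall : ∀ U : Subgroup H, U ≠ ⊤ → (T : Subgroup H) ≤ U → U ≤ X ⊔ (T : Subgroup H) := by
    intro U hU hTU u hu
    have hu' := hsup.ge (mem_top u)
    rw [← SetLike.mem_coe, normal_mul] at hu'
    obtain ⟨r, hr, t, ht, rfl⟩ := hu'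
    have hrU : r ∈ U := (U.mul_mem_cancel_right (hTU ht)).mp hu
    refine mul_mem (mem_sup_left ?_) (mem_sup_right ht)
    rw [hX, mem_inf, mem_iInf]
    refine ⟨hr, fun E => ?_⟩
    have hne : U ⊓ ((E : Subgroup H) ⊔ Q) ≠ (E : Subgroup H) ⊔ Q := by
      intro e
      have hEU : (E : Subgroup H) ⊔ Q ≤ U := e.ge.trans inf_le_left
      apply hU
      rw [eq_top_iff, ← hsup]
      refine sup_le (hR' ▸ sup_le (sSup_le fun K hK => ?_) (hQT.trans hTU)) hTU
      obtain ⟨g, hg⟩ := d.htr E E.2 K hK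
      have hg' := hsup.ge (mem_top g)
      rw [← SetLike.mem_coe, normal_mul] at hg'
      obtain ⟨a, ha, b, hb, rfl⟩ := hg'
      have h6 : ((E : Subgroup H).map (MulAut.conj b).toMonoidHom ⊔ Q).map (MulAut.conj a).toMonoidHom =
          (E : Subgroup H).map (MulAut.conj b).toMonoidHom ⊔ Q :=
        wc_map_conj_eq_iff.mpr (hRn _ (d.hinv b E E.2) ha)
      have h7 : K ⊔ Q = (E : Subgroup H).map (MulAut.conj b).toMonoidHom ⊔ Q := by
        rw [hg, ← conj_map_trans, ← hmap a, h6]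
      refine (le_sup_left.trans h7.le).trans ?_
      rw [← hmap b]
      exact (map_mono hEU).trans (wc_map_conj_eq_iff.mpr (le_normalizer (hTU hb))).le
    have hin : U ⊓ ((E : Subgroup H) ⊔ Q) ≤ Mf E := h5 E E.2 _ inf_le_right
      (le_inf (hQT.trans hTU) le_sup_right) (le_inf (inf_le_left.trans hTU) (inf_le_right.trans le_sup_left)) hne
    refine Subgroup.mem_normalizer_fintype fun y hy => ?_
    have hm : (Mf E).map (MulAut.conj r).toMonoidHom ≤ Mf E := by
      have he' : ((E : Subgroup H) ⊔ Q).map (MulAut.conj r).toMonoidHom = (E : Subgroup H) ⊔ Q :=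
        wc_map_conj_eq_iff.mpr (hRn E E.2 hr)
      refine h5 E E.2 _ (he' ▸ map_mono (h1 E E.2)) ((hQmap r).ge.trans (map_mono (h2 E E.2))) ?_ ?_
      · refine le_trans ?_ (map_mono hin)
        rw [inf_map_normalized (le_normalizer hrU) (hRn E E.2 hr)]
        exact le_inf (inf_le_left.trans hTU) (inf_le_right.trans le_sup_left)
      · intro e
        exact h4 E E.2 (map_injective (f := (MulAut.conj r).toMonoidHom) (MulAut.conj r).injective
          (e.trans he'.symm))
    exact hm ⟨y, hy, rfl⟩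
  have hXT : X ⊔ (T : Subgroup H) ≠ ⊤ := by
    intro e
    have hRX : R' ≤ X := by
      intro r hr
      have hr' := e.ge (mem_top r)
      rw [← SetLike.mem_coe, coe_mul_of_right_le_normalizer_left X _ hTX] at hr'
      obtain ⟨x, hx, t, ht, rfl⟩ := hr'
      exact mul_mem hx (hTR ⟨ht, (R'.mul_mem_cancel_left (hXR hx)).mp hr⟩)
    obtain ⟨E, hE⟩ := d.hne
    have hn : E ≤ normalizer (Mf E : Set H) :=
      (le_sup_left.trans (hER E hE)).trans (hRX.trans (hX ▸ inf_le_right.trans (iInf_le _ (⟨E, hE⟩ : 𝒦))))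
    obtain ⟨S, hS⟩ := d.sylow_member hE
    haveI : ((Mf E ⊓ E).subgroupOf E).Normal := by
      rw [normal_subgroupOf_iff_le_normalizer inf_le_right]
      exact fun x hx => mem_normalizer_of_conj (inf_map_normalized (hn hx) (le_normalizer hx))
    have h8 : normalClosure ((S : Subgroup ↥E) : Set ↥E) ≤ (Mf E ⊓ E).subgroupOf E :=
      normalClosure_le_normal fun x hx => by
        rw [SetLike.mem_coe, hS] at hx
        exact ⟨h3 E hE ⟨hx, x.2⟩, x.2⟩
    rw [(hmin E hE S).1, top_le_iff, subgroupOf_eq_top] at h8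
    exact h4 E hE (le_antisymm (h1 E hE) (sup_le (h8.trans inf_le_left) (h2 E hE)))
  refine ⟨?_, ?_⟩
  · have hNn : (normalClosure ((T : Subgroup H) : Set H)).Normal := normalClosure_normal
    have hTN : (T : Subgroup H) ≤ normalClosure ((T : Subgroup H) : Set H) :=
      Subgroup.subset_normalClosure
    rw [eq_top_iff, ← hsup]
    exact sup_le (hR' ▸ sup_le (sSup_le fun E hE => d.not_normalClosure hE hTN (hmin E hE))
      (hQT.trans hTN)) hTN
  · obtain ⟨C, hC, hXC⟩ := (eq_top_or_exists_le_coatom (X ⊔ (T : Subgroup H))).resolve_left hXT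
    refine ⟨C, ⟨hC, le_sup_right.trans hXC⟩, fun U hU => ?_⟩
    exact ((hU.1.le_iff.mp ((hall U hU.1.1 hU.2).trans hXC)).resolve_left hC.1).symm

/-- Commutation with a fixed element, when it takes central values. -/
theorem commute_of_central {E : Subgroup H} (hres : res p E ≤ ⁅E, E⁆) (hO : Cfsg.pCoreOf p E = ⊥)
    {x : H} (hx : ∀ e ∈ E, ⁅e, x⁆ ∈ E ∧ ∀ e' ∈ E, Commute e' ⁅e, x⁆) : ∀ e ∈ E, ⁅e, x⁆ = 1 := by
  have hmul : ∀ a ∈ E, ∀ b ∈ E, ⁅a * b, x⁆ = ⁅a, x⁆ * ⁅b, x⁆ := by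
    intro a ha b hb
    rw [show ⁅a * b, x⁆ = a * ⁅b, x⁆ * a⁻¹ * ⁅a, x⁆ by simp only [commutatorElement_def]; group,
      ((hx b hb).2 a ha).eq, mul_inv_cancel_right, ((hx b hb).2 _ (hx a ha).1).eq]
  let f : ↥E →* ↥E := MonoidHom.mk' (fun e => ⟨⁅(e : H), x⁆, (hx e e.2).1⟩)
    fun a b => Subtype.ext (hmul a a.2 b b.2)
  have hker : commutator ↥E ≤ f.ker := by
    rw [commutator_def]
    refine commutator_le.mpr fun a _ b _ => ?_
    rw [MonoidHom.mem_ker, map_commutatorElement, commutatorElement_eq_one_iff_mul_comm]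
    exact Subtype.ext ((hx b b.2).2 _ (f a).2).eq
  intro e he
  obtain ⟨k, hk⟩ := exists_pow_mem_res (p := p) he
  have h1 := hres hk
  rw [← E.map_subtype_commutator] at h1
  obtain ⟨y, hy, hye⟩ := h1
  have h2 : f ⟨e, he⟩ ^ p ^ k = 1 := by
    rw [← map_pow, ← MonoidHom.mem_ker]
    exact hker ((show y = (⟨e, he⟩ : ↥E) ^ p ^ k from Subtype.ext (by rw [SubmonoidClass.coe_pow]; exact hye)) ▸ hy)
  obtain ⟨c, hc⟩ : ∃ c, c = ⁅e, x⁆ := ⟨_, rfl⟩
  have hcE : c ∈ E := hc ▸ (hx e he).1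
  have hcp : c ^ p ^ k = 1 := by
    have := congrArg Subtype.val h2
    simpa [f, hc] using this
  have hz : zpowers c ≤ Cfsg.pCoreOf p E := by
    refine lg_le_pCoreOf (zpowers_le.mpr hcE) ?_ ?_
    · refine le_trans ?_ (centralizer_le_normalizer _)
      rw [le_centralizer_iff, zpowers_le, mem_centralizer_iff]
      exact fun y hy => hc ▸ ((hx e he).2 y hy).eq
    · rintro ⟨_, i, rfl⟩
      refine ⟨k, Subtype.ext ?_⟩
      simp only [SubmonoidClass.coe_pow, OneMemClass.coe_one]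
      rw [← zpow_natCast, ← zpow_mul, mul_comm, zpow_mul, zpow_natCast, hcp, one_zpow]
  rw [hO, le_bot_iff, zpowers_eq_bot] at hz
  exact hc ▸ hz

theorem irreducible (d : Data p H 𝒦 T)
    (hirr : ∀ E ∈ 𝒦, Cfsg.IsStronglyPIrreducible p ↥E) :
    Cfsg.IsPIrreducible p H ∧ ∀ E ∈ 𝒦, ∀ K ∈ 𝒦,
      res p (E ⊔ Cfsg.pCore p H) = res p (K ⊔ Cfsg.pCore p H) ∨ ⁅E, K⁆ ≤ Cfsg.pCore p H := by
  have hQn := Grp.pCore_isNormal (p := p) (G := H)
  have hQp := Grp.pCore_isPGroup (p := p) (G := H)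
  obtain ⟨Q, hQ⟩ : ∃ Q, Q = Cfsg.pCore p H := ⟨_, rfl⟩
  rw [← hQ] at hQn hQp ⊢
  let π := QuotientGroup.mk' Q
  have hπ : Function.Surjective π := QuotientGroup.mk'_surjective Q
  have hOq : Cfsg.pCore p (H ⧸ Q) = ⊥ := by subst hQ; exact Block.PPartDerived.pCore_quotient_eq_bot
  have hker : ∀ {S : Subgroup H}, S.map π = ⊥ ↔ S ≤ Q := fun {S} => by
    rw [Subgroup.map_eq_bot_iff, QuotientGroup.ker_mk']
  have hQmap : Q.map π = ⊥ := hker.mpr le_rfl
  obtain ⟨R', hR'⟩ : ∃ R', R' = sSup 𝒦 ⊔ Q := ⟨_, rfl⟩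
  have hR'n : R'.Normal := hR' ▸ hQ ▸ d.R'_normal
  have hsup : R' ⊔ (T : Subgroup H) = ⊤ := hR' ▸ hQ ▸ d.sup_sylow
  have hRn : ∀ E ∈ 𝒦, R' ≤ normalizer ((E ⊔ Q : Subgroup H) : Set H) := fun E hE => by
    subst hR'; subst hQ; exact d.hnorm E hE
  obtain ⟨Rb, hRb⟩ : ∃ Rb, Rb = R'.map π := ⟨_, rfl⟩
  have hRbn : Rb.Normal := hRb ▸ hR'n.map _ hπ
  have hEb : ∀ E ∈ 𝒦, E.map π ≤ Rb ∧ Rb ≤ normalizer (E.map π : Set (H ⧸ Q)) := by
    intro E hE
    refine ⟨hRb ▸ map_mono (hR' ▸ (le_sSup hE).trans le_sup_left), ?_⟩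
    have h := (map_mono (f := π) (hRn E hE)).trans (le_normalizer_map _)
    rwa [Subgroup.map_sup, hQmap, sup_bot_eq, ← hRb] at h
  have hEO : ∀ E ∈ 𝒦, Cfsg.pCoreOf p (E.map π) = ⊥ := by
    intro E hE
    have h1 : Cfsg.pCoreOf p (E.map π) ≤ Cfsg.pCoreOf p Rb :=
      lg_le_pCoreOf ((lg_pCoreOf_le _).trans (hEb E hE).1)
        ((hEb E hE).2.trans (lg_normalizer_le_normalizer_pCoreOf _)) (lg_isPGroup_pCoreOf _)
    have h2 : Cfsg.pCoreOf p Rb ≤ Cfsg.pCore p (H ⧸ Q) := by
      refine Grp.le_pCore ?_ (lg_isPGroup_pCoreOf _)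
      rw [← normalizer_eq_top_iff, eq_top_iff]
      refine le_trans ?_ (lg_normalizer_le_normalizer_pCoreOf _)
      rw [normalizer_eq_top_iff.mpr hRbn]
    exact le_bot_iff.mp (h1.trans (hOq ▸ h2))
  have hresmap : ∀ E : Subgroup H, res p (E.map π) ≤ (res p E).map π := by
    intro E
    refine res_le_of_pow ?_
    rintro _ ⟨x, hx, rfl⟩
    obtain ⟨k, hk⟩ := exists_pow_mem_res (p := p) hx
    exact ⟨k, x ^ p ^ k, hk, map_pow π x _⟩
  have hdich : ∀ E ∈ 𝒦, ∀ N : Subgroup (H ⧸ Q), N ≤ E.map π → E.map π ≤ normalizer (N : Set (H ⧸ Q)) →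
      ⁅N, E.map π⁆ = ⊥ ∨ res p (E.map π) ≤ N := by
    intro E hE N hN hEN
    haveI hN0 : ((N.comap π).subgroupOf E).Normal := ⟨fun a ha g => by
      rw [mem_subgroupOf, mem_comap] at ha ⊢
      simp only [coe_mul, map_mul, InvMemClass.coe_inv, map_inv]
      exact (mem_normalizer_iff.mp (hEN ⟨g, g.2, rfl⟩) _).mp ha⟩
    have hmapN : ((N.comap π).subgroupOf E).map (π.comp E.subtype) = N := by
      refine le_antisymm ?_ fun y hy => ?_
      · rintro _ ⟨x, hx, rfl⟩; exact hx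
      · obtain ⟨e, he, rfl⟩ := hN hy
        exact ⟨⟨e, he⟩, hy, rfl⟩
    by_cases h : ⁅(N.comap π).subgroupOf E, (⊤ : Subgroup ↥E)⁆ ≤ Cfsg.pCore p ↥E
    · left
      have h1 := map_mono (f := π.comp E.subtype) h
      rw [Subgroup.map_commutator, hmapN, ← MonoidHom.range_eq_map, MonoidHom.range_comp, range_subtype] at h1
      rw [← le_bot_iff, ← hEO E hE]
      refine h1.trans (lg_le_pCoreOf ?_ ?_ ((Grp.pCore_isPGroup (p := p) (G := ↥E)).map _))
      · rintro _ ⟨x, -, rfl⟩; exact ⟨x, x.2, rfl⟩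
      · rintro _ ⟨g, hg, rfl⟩
        refine Subgroup.mem_normalizer_fintype ?_
        rintro _ ⟨x, hx, rfl⟩
        exact ⟨⟨g, hg⟩ * x * ⟨g, hg⟩⁻¹, (Grp.pCore_isNormal (p := p) (G := ↥E)).conj_mem x hx _, by simp⟩
    · right
      refine (hresmap E).trans ?_
      rw [Subgroup.map_le_iff_le_comap]
      rintro _ ⟨x, hx, rfl⟩
      exact (hirr E hE).2 _ hN0 h hx
  have hpclosed : ∀ E ∈ 𝒦, ((T : Subgroup H).subgroupOf E).Normal → False := by
    intro E hE hn
    obtain ⟨S, hS⟩ := d.sylow_member hE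
    refine (hirr E hE).1 fun P => ?_
    haveI : (S : Subgroup ↥E).Normal := hS ▸ hn
    obtain ⟨g, hg⟩ := MulAction.exists_smul_eq ↥E S P
    rw [← hg, Sylow.smul_eq_of_normal]
    infer_instance
  have hder : ∀ E ∈ 𝒦, res p (E.map π) ≤ ⁅E.map π, E.map π⁆ := by
    intro E hE
    refine (hdich E hE ⁅E.map π, E.map π⁆ (commutator_le_self _)
      (Grp.left_le_normalizer_commutator _ _)).resolve_left fun h => ?_
    refine hpclosed E hE ?_
    have hcent : ∀ a ∈ E.map π, ∀ b ∈ E.map π, ∀ c ∈ E.map π, Commute ⁅a, b⁆ c := fun a ha b hb c hc =>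
      commutatorElement_eq_one_iff_mul_comm.mp (mem_bot.mp (h ▸ commutator_mem_commutator
        (commutator_mem_commutator ha hb) hc))
    have htriv : ∀ x ∈ E.map π, ∀ k, x ^ p ^ k = 1 → x = 1 := by
      intro x hx k hk
      have hmemc : ∀ a ∈ E.map π, ∀ b ∈ E.map π, ⁅a, b⁆ ∈ E.map π := fun a ha b hb => by
        rw [commutatorElement_def]
        exact mul_mem (mul_mem (mul_mem ha hb) (inv_mem ha)) (inv_mem hb)
      have hzero : ∀ c ∈ E.map π, (∀ z ∈ E.map π, Commute c z) → ∀ j, c ^ p ^ j = 1 → c = 1 := by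
        intro c hc hcc j hj
        have hle : zpowers c ≤ Cfsg.pCoreOf p (E.map π) := by
          refine lg_le_pCoreOf (zpowers_le.mpr hc) ?_ ?_
          · refine le_trans ?_ (centralizer_le_normalizer _)
            rw [le_centralizer_iff, zpowers_le, mem_centralizer_iff]
            exact fun y hy => (hcc y hy).eq.symm
          · rintro ⟨_, i, rfl⟩
            refine ⟨j, Subtype.ext ?_⟩
            simp only [SubmonoidClass.coe_pow, OneMemClass.coe_one]
            rw [← zpow_natCast, ← zpow_mul, mul_comm, zpow_mul, zpow_natCast, hj, one_zpow]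
        rw [hEO E hE, le_bot_iff, zpowers_eq_bot] at hle
        exact hle
      refine hzero x hx (fun y hy => ?_) k hk
      rw [commute_iff_eq, ← commutatorElement_eq_one_iff_mul_comm]
      refine hzero _ (hmemc x hx y hy) (hcent x hx y hy) k ?_
      have hm : ∀ m : ℕ, ⁅x ^ m, y⁆ = ⁅x, y⁆ ^ m := by
        intro m
        induction m with
        | zero => simp
        | succ m ih =>
          rw [pow_succ', show ⁅x * x ^ m, y⁆ = x * ⁅x ^ m, y⁆ * x⁻¹ * ⁅x, y⁆ by
            simp only [commutatorElement_def]; group, ih,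
            (((hcent x hx y hy) x hx).pow_left m).symm.eq, mul_inv_cancel_right, ← pow_succ]
      rw [← hm, hk, commutatorElement_one_left]
    refine ⟨fun x hx g => ?_⟩
    rw [mem_subgroupOf] at hx ⊢
    obtain ⟨k, hk⟩ := T.isPGroup' ⟨x, hx⟩
    have hk' : (x : H) ^ p ^ k = 1 := by simpa using congrArg Subtype.val hk
    have hxQ : (x : H) ∈ Q := by
      rw [← QuotientGroup.eq_one_iff]
      refine htriv (π x) ⟨x, x.2, rfl⟩ k ?_
      rw [← map_pow, hk', map_one]
    have := hQn.conj_mem _ hxQ (g : H)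
    exact (hQ ▸ core_le_sylow T : Q ≤ (T : Subgroup H)) (by simpa using this)
  have hcomm : ∀ E ∈ 𝒦, ∀ x : H ⧸ Q, (∀ e ∈ E.map π, ⁅e, x⁆ ∈ E.map π ∧ ∀ e' ∈ E.map π, Commute e' ⁅e, x⁆) →
      ∀ e ∈ E.map π, ⁅e, x⁆ = 1 := fun E hE x => commute_of_central (hder E hE) (hEO E hE)
  refine ⟨⟨fun hcl => ?_, fun N hN hncl => ?_⟩, fun E hE K hK => ?_⟩
  · obtain ⟨E, hE⟩ := d.hne
    exact hpclosed E hE ((hcl T).comap E.subtype)
  · obtain ⟨M, hM⟩ : ∃ M, M = (N ⊔ Q).map π ⊓ Rb := ⟨_, rfl⟩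
    have hMn : M.Normal := by
      have h := (Subgroup.sup_normal N Q).map π hπ
      rw [hM]; infer_instance
    by_cases hex : ∃ E ∈ 𝒦, res p (E.map π) ≤ M
    · obtain ⟨E₀, hE₀, h0⟩ := hex
      have hall : ∀ E ∈ 𝒦, res p (E.map π) ≤ M := by
        intro E hE
        obtain ⟨g, rfl⟩ := d.htr E₀ hE₀ E hE
        have e : (E₀.map (MulAut.conj g).toMonoidHom).map π = (E₀.map π).map (MulAut.conj (π g)).toMonoidHom := by
          rw [Subgroup.map_map, Subgroup.map_map]
          congr 1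
        rw [e, ← res_map_conj]
        exact (map_mono h0).trans (wc_map_conj_eq_iff.mpr (by rw [normalizer_eq_top_iff.mpr hMn]; exact mem_top _)).le
      obtain ⟨S, hS⟩ : ∃ S, S = N ⊔ Q := ⟨_, rfl⟩
      haveI hSn : S.Normal := hS ▸ Subgroup.sup_normal N Q
      have hQS : Q ≤ S := hS ▸ le_sup_right
      let σ := QuotientGroup.mk' S
      have hσ : Function.Surjective σ := QuotientGroup.mk'_surjective S
      have hσR : IsPGroup p ↥(R'.map σ) := by
        have hEσ : ∀ E ∈ 𝒦, E.map σ ≤ Cfsg.pCoreOf p (R'.map σ) := by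
          intro E hE
          refine lg_le_pCoreOf (map_mono (hR' ▸ (le_sSup hE).trans le_sup_left)) ?_ ?_
          · have h := (map_mono (f := σ) (hRn E hE)).trans (le_normalizer_map _)
            rwa [Subgroup.map_sup, (Subgroup.map_eq_bot_iff Q).mpr ((QuotientGroup.ker_mk' S).symm ▸ hQS),
              sup_bot_eq] at h
          · rintro ⟨_, x, hx, rfl⟩
            obtain ⟨k, hk⟩ := exists_pow_mem_res (p := p) (mem_map_of_mem π hx)
            refine ⟨k, Subtype.ext ?_⟩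
            rw [SubmonoidClass.coe_pow, OneMemClass.coe_one, ← map_pow]
            refine (QuotientGroup.eq_one_iff _).mpr ?_
            have h := (mem_inf.mp (hM ▸ hall E hE hk)).1
            rw [← map_pow, ← hS] at h
            obtain ⟨s, hs, hse⟩ := h
            have hq : s⁻¹ * x ^ p ^ k ∈ Q := QuotientGroup.eq.mp hse
            have := mul_mem hs (hQS hq)
            rwa [mul_inv_cancel_left] at this
        refine (lg_isPGroup_pCoreOf (p := p) (R'.map σ)).to_le ?_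
        conv_lhs => rw [hR', Subgroup.map_sup,
          (Subgroup.map_eq_bot_iff Q).mpr ((QuotientGroup.ker_mk' S).symm ▸ hQS), sup_bot_eq]
        rw [Subgroup.map_le_iff_le_comap]
        exact sSup_le fun E hE => Subgroup.map_le_iff_le_comap.mp (hEσ E hE)
      have htop : IsPGroup p ↥(⊤ : Subgroup (H ⧸ S)) := by
        haveI : (R'.map σ).Normal := hR'n.map _ hσ
        rw [← Subgroup.map_top_of_surjective σ hσ, ← hsup, Subgroup.map_sup]
        exact hσR.to_sup_of_normal_left (T.isPGroup'.map σ)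
      have hle : Cfsg.pResidual p H ≤ S :=
        Transfer.pResidual_le_of_isPGroup_quotient (htop.of_equiv Subgroup.topEquiv)
      have hN1 : res p S ≤ N := res_le_of_le_sup hQp (by
        rw [normalizer_eq_top_iff.mpr hN]; exact le_top) hS.le
      refine fun x hx => hN1 ?_
      rw [Cfsg.pResidual] at hx hle
      revert x
      rw [← SetLike.le_def, closure_le]
      intro x hx
      rw [SetLike.mem_coe, res_eq_closure]
      exact subset_closure ⟨hle (subset_closure hx), hx⟩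
    · exfalso
      push Not at hex
      have hMcent : ∀ E ∈ 𝒦, ∀ n ∈ M, ∀ e ∈ E.map π, ⁅e, n⁆ = 1 := by
        intro E hE n hn
        have hD := (hdich E hE (M ⊓ E.map π) inf_le_right (fun g hg => mem_normalizer_of_conj
          (inf_map_normalized (by rw [normalizer_eq_top_iff.mpr hMn]; exact mem_top g) (le_normalizer hg)))).resolve_right
          fun h => hex E hE (h.trans inf_le_left)
        refine hcomm E hE n fun e he => ?_
        have hmem : ⁅e, n⁆ ∈ M ⊓ E.map π := by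
          refine mem_inf.mpr ⟨?_, ?_⟩
          · rw [commutatorElement_def]
            exact mul_mem (hMn.conj_mem n hn e) (inv_mem hn)
          · rw [commutatorElement_def, mul_assoc, mul_assoc]
            refine mul_mem he ?_
            rw [← mul_assoc]
            exact (mem_normalizer_iff.mp ((hEb E hE).2 ((mem_inf.mp (hM ▸ hn)).2)) _).mp (inv_mem he)
        exact ⟨(mem_inf.mp hmem).2, fun e' he' => (commutatorElement_eq_one_iff_mul_comm.mp
          (mem_bot.mp (hD ▸ commutator_mem_commutator hmem he'))).symm⟩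
      have hMc : ∀ n ∈ M, ∀ r ∈ Rb, Commute r n := by
        intro n hn r hr
        have hle : Rb ≤ centralizer (zpowers n : Set (H ⧸ Q)) := by
          rw [hRb, hR', Subgroup.map_sup, hQmap, sup_bot_eq, Subgroup.map_le_iff_le_comap]
          refine sSup_le fun E hE => ?_
          rw [← Subgroup.map_le_iff_le_comap, le_centralizer_iff, zpowers_le, mem_centralizer_iff]
          exact fun e he => commutatorElement_eq_one_iff_mul_comm.mp (hMcent E hE n hn e he)
        exact (mem_centralizer_iff.mp (hle hr) n (mem_zpowers n)).symm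
      have hMzero : ∀ c ∈ M, ∀ j, c ^ p ^ j = 1 → c = 1 := by
        intro c hc j hj
        have hcR : c ∈ Rb := (mem_inf.mp (hM ▸ hc)).2
        have hle : zpowers c ≤ Cfsg.pCoreOf p Rb := by
          refine lg_le_pCoreOf (zpowers_le.mpr hcR) ?_ ?_
          · refine le_trans ?_ (centralizer_le_normalizer _)
            rw [le_centralizer_iff, zpowers_le, mem_centralizer_iff]
            exact fun y hy => (hMc c hc y hy).eq
          · rintro ⟨_, i, rfl⟩
            refine ⟨j, Subtype.ext ?_⟩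
            simp only [SubmonoidClass.coe_pow, OneMemClass.coe_one]
            rw [← zpow_natCast, ← zpow_mul, mul_comm, zpow_mul, zpow_natCast, hj, one_zpow]
        have h2 : Cfsg.pCoreOf p Rb ≤ Cfsg.pCore p (H ⧸ Q) := by
          refine Grp.le_pCore ?_ (lg_isPGroup_pCoreOf _)
          rw [← normalizer_eq_top_iff, eq_top_iff]
          refine le_trans ?_ (lg_normalizer_le_normalizer_pCoreOf _)
          rw [normalizer_eq_top_iff.mpr hRbn]
        have := hle.trans h2
        rw [hOq, le_bot_iff, zpowers_eq_bot] at this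
        exact this
      apply hncl
      haveI := hN
      let SN : Sylow p ↥N :=
        (T.isPGroup'.comap_subtype (K := N)).toSylow (Grp.sylow_inf_normal_relIndex T N)
      have hSN : (SN : Subgroup ↥N) = (T : Subgroup H).subgroupOf N := rfl
      suffices hnorm : (SN : Subgroup ↥N).Normal by
        intro P
        obtain ⟨g, hg⟩ := MulAction.exists_smul_eq ↥N SN P
        rw [← hg, Sylow.smul_eq_of_normal]
        exact hnorm
      rw [← normalizer_eq_top_iff, eq_top_iff]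
      have htop := Transfer.sylow_sup_pResidual SN
      rw [← htop]
      refine sup_le le_normalizer ?_
      rw [Cfsg.pResidual, closure_le]
      intro m hm
      have hmR : (m : H) ∈ R' := by
        have h1 : (m : H) ∈ Cfsg.pResidual p H := subset_closure (by simpa using hm)
        exact hR' ▸ mem_sup_left (d.hres h1)
      refine Subgroup.mem_normalizer_fintype fun t ht => ?_
      rw [SetLike.mem_coe, hSN, mem_subgroupOf] at ht ⊢
      have hmM : π m ∈ M := hM ▸ mem_inf.mpr ⟨mem_map_of_mem π (mem_sup_left m.2), hRb ▸ mem_map_of_mem π hmR⟩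
      have htMN : π t ∈ (N ⊔ Q).map π := mem_map_of_mem π (mem_sup_left t.2)
      -- commutation with `t` on the radical quotient
      have hval : ∀ r ∈ Rb, ⁅r, π t⁆ ∈ M := by
        intro r hr
        rw [hM]
        refine mem_inf.mpr ⟨?_, ?_⟩
        · rw [commutatorElement_def]
          exact mul_mem (((Subgroup.sup_normal N Q).map π hπ).conj_mem _ htMN r) (inv_mem htMN)
        · rw [commutatorElement_def, mul_assoc, mul_assoc]
          refine mul_mem hr ?_
          rw [← mul_assoc]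
          exact hRbn.conj_mem _ (inv_mem hr) _
      let f : ↥Rb →* ↥M := MonoidHom.mk' (fun r => ⟨⁅(r : H ⧸ Q), π t⁆, hval r r.2⟩) fun a b => by
        apply Subtype.ext
        show ⁅(a : H ⧸ Q) * b, π t⁆ = ⁅(a : H ⧸ Q), π t⁆ * ⁅(b : H ⧸ Q), π t⁆
        rw [show ⁅(a : H ⧸ Q) * b, π t⁆ = a * ⁅(b : H ⧸ Q), π t⁆ * (a : H ⧸ Q)⁻¹ * ⁅(a : H ⧸ Q), π t⁆ by
          simp only [commutatorElement_def]; group,
          (hMc _ (hval b b.2) a a.2).eq, mul_inv_cancel_right,
          (hMc _ (hval b b.2) _ (mem_inf.mp (hM ▸ hval a a.2)).2).eq]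
      have hf : ∀ a : ↥Rb, ∃ k, f a ^ p ^ k = 1 := by
        intro a
        let W : Subgroup ↥Rb :=
          { carrier := {a | ∃ k, f a ^ p ^ k = 1}
            one_mem' := ⟨0, by simp⟩
            mul_mem' := fun {a b} ⟨k, hk⟩ ⟨l, hl⟩ => ⟨k + l, by
              have hc : Commute (f a) (f b) :=
                Subtype.ext (hMc _ (f b).2 _ (mem_inf.mp (hM.le (f a).2)).2).eq
              rw [map_mul, hc.mul_pow, pow_add, pow_mul, hk, one_pow, one_mul, mul_comm, pow_mul, hl, one_pow]⟩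
            inv_mem' := fun {a} ⟨k, hk⟩ => ⟨k, by rw [map_inv, inv_pow, hk, inv_one]⟩ }
        suffices h : Rb ≤ W.map Rb.subtype by
          obtain ⟨y, hy, e⟩ := h a.2
          exact (Subtype.ext e : y = a) ▸ hy
        conv_lhs => rw [hRb, hR', Subgroup.map_sup, hQmap, sup_bot_eq]
        rw [Subgroup.map_le_iff_le_comap]
        refine sSup_le fun E hE x hx => ?_
        obtain ⟨k, hk⟩ := exists_pow_mem_res (p := p) (mem_map_of_mem π hx)
        refine ⟨⟨π x, (hEb E hE).1 ⟨x, hx, rfl⟩⟩, ⟨k, ?_⟩, rfl⟩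
        have hder' := hder E hE hk
        have hker' : ⁅E.map π, E.map π⁆ ≤ f.ker.map Rb.subtype := by
          refine commutator_le.mpr fun u hu v hv => ?_
          refine ⟨⁅(⟨u, (hEb E hE).1 hu⟩ : ↥Rb), ⟨v, (hEb E hE).1 hv⟩⁆, ?_, by simp [commutatorElement_def]⟩
          rw [SetLike.mem_coe, MonoidHom.mem_ker, map_commutatorElement, commutatorElement_eq_one_iff_mul_comm]
          exact Subtype.ext (hMc _ (f _).2 _ (mem_inf.mp (hM.le (f _).2)).2).eq
        obtain ⟨y, hy, e⟩ := hker' hder'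
        rw [← map_pow]
        rw [show (⟨π x, (hEb E hE).1 ⟨x, hx, rfl⟩⟩ : ↥Rb) ^ p ^ k = y from Subtype.ext (by
          rw [SubmonoidClass.coe_pow]; exact e.symm)]
        exact hy
      obtain ⟨k, hk⟩ := hf ⟨π m, hRb ▸ mem_map_of_mem π hmR⟩
      have hone : ⁅π (m : H), π (t : H)⁆ = 1 :=
        hMzero _ (hval _ (hRb ▸ mem_map_of_mem π hmR)) k (by simpa [f] using congrArg Subtype.val hk)
      rw [← map_commutatorElement] at hone
      have hQc : ⁅(m : H), (t : H)⁆ ∈ Q := (QuotientGroup.eq_one_iff _).mp hone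
      have := mul_mem ((hQ ▸ core_le_sylow T : Q ≤ (T : Subgroup H)) hQc) ht
      simpa [commutatorElement_def] using this
  · rcases hdich E hE (E.map π ⊓ K.map π) inf_le_left (fun g hg => mem_normalizer_of_conj
      (inf_map_normalized (le_normalizer hg) ((hEb K hK).2 ((hEb E hE).1 hg)))) with h | h
    · right
      rw [← hker, Subgroup.map_commutator, ← le_bot_iff, commutator_le]
      intro e he k hk
      rw [mem_bot]
      refine hcomm E hE k (fun e he => ?_) e he
      have hmem : ⁅e, k⁆ ∈ E.map π ⊓ K.map π := by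
        refine mem_inf.mpr ⟨?_, ?_⟩
        · rw [commutatorElement_def, mul_assoc, mul_assoc]
          refine mul_mem he ?_
          rw [← mul_assoc]
          exact (mem_normalizer_iff.mp ((hEb E hE).2 ((hEb K hK).1 hk)) _).mp (inv_mem he)
        · rw [commutatorElement_def]
          exact mul_mem ((mem_normalizer_iff.mp ((hEb K hK).2 ((hEb E hE).1 he)) _).mp hk) (inv_mem hk)
      exact ⟨(mem_inf.mp hmem).1, fun e' he' => (commutatorElement_eq_one_iff_mul_comm.mp
        (mem_bot.mp (h ▸ commutator_mem_commutator hmem he'))).symm⟩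
    · left
      have hle : res p (E ⊔ Q) ≤ K ⊔ Q := by
        refine res_le_of_pow fun x hx => ?_
        have hx' : π x ∈ E.map π := by
          have := mem_map_of_mem π hx
          rwa [Subgroup.map_sup, hQmap, sup_bot_eq] at this
        obtain ⟨k, hk⟩ := exists_pow_mem_res (p := p) hx'
        obtain ⟨y, hy, e⟩ := (h.trans inf_le_right) hk
        rw [← map_pow] at e
        refine ⟨k, ?_⟩
        rw [← mul_inv_cancel_left y (x ^ p ^ k)]
        exact mul_mem (mem_sup_left hy) (mem_sup_right (QuotientGroup.eq.mp e))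
      have hle' : res p (E ⊔ Q) ≤ res p (K ⊔ Q) := (res_idem (E ⊔ Q)).ge.trans (res_mono hle)
      refine eq_of_le_of_card_ge hle' ?_
      obtain ⟨g, hg⟩ := d.htr E hE K hK
      have e : K ⊔ Q = (E ⊔ Q).map (MulAut.conj g).toMonoidHom := by
        rw [hg, Subgroup.map_sup, wc_map_conj_eq_iff.mpr (show g ∈ normalizer (Q : Set H) by
          rw [normalizer_eq_top_iff.mpr hQn]; exact mem_top g)]
      rw [e, ← res_map_conj, Subgroup.card_map_of_injective (MulAut.conj g).injective]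

end Cfsg.Agent.Invol.PMinOrbit
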