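import Cfsg.Agent.Lib.Invol.StableControl

/-!
`p`-stability with an acting `p`-subgroup gives stability modulo `O_{p'}`.
-/

set_option autoImplicit false
set_option linter.style.haveILetI false
set_option linter.unusedSectionVars false

open scoped commutatorElement

universe u

namespace Cfsg.Agent.Invol

open Subgroup

variable {G : Type u} [Group G] [Finite G] {p : ℕ} [hp : Fact p.Prime]

/-- A stable group is stable on the normal `p`-subgroups of its quotient by `O_{p'}`. -/
theorem isPStableOn_quotient_of_isPStable (hst : IsPStable p G) [(pPrimeCore p G).Normal]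
    (V : Subgroup (G ⧸ pPrimeCore p G)) [V.Normal] (hV : IsPGroup p V) : IsPStableOn p V := by
  intro a0 hq
  have hO : (Nat.card (pPrimeCore p G)).Coprime p := Grp.pPrimeCore_coprime
  set f := QuotientGroup.mk' (pPrimeCore p G) with hf
  have hfs : Function.Surjective f := QuotientGroup.mk'_surjective (pPrimeCore p G)
  obtain ⟨S⟩ : Nonempty (Sylow p G) := inferInstance
  have hVS : V ≤ (S : Subgroup G).map f := hV.le_sylow_of_normal (S.mapSurjective hfs)
  set R := (S : Subgroup G) ⊓ V.comap f with hR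
  have hRV : R.map f = V := by
    refine le_antisymm (Subgroup.map_le_iff_le_comap.2 inf_le_right) fun v hv => ?_
    obtain ⟨s, hs, rfl⟩ := hVS hv
    exact ⟨s, ⟨hs, hv⟩, rfl⟩
  have hRp : IsPGroup p R := S.isPGroup'.to_le inf_le_left
  have hinj : ∀ x ∈ R, f x = 1 → x = 1 := fun x hx hfx =>
    eq_one_of_coprime_of_mem hRp hx
      (hO.coprime_dvd_left ((pPrimeCore p G).orderOf_dvd_natCard ((QuotientGroup.eq_one_iff x).mp hfx)))
  have hsur : (Subgroup.normalizer (R : Set G)).map f = ⊤ := by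
    refine top_le_iff.1 (le_trans ?_ (normalizer_map_le_of_coprime f hfs
      (by rwa [hf, QuotientGroup.ker_mk']) hRp))
    rw [hRV, Subgroup.normalizer_eq_top]
  obtain ⟨g, hg, hga⟩ : a0 ∈ (Subgroup.normalizer (R : Set G)).map f := hsur ▸ Subgroup.mem_top a0
  rw [← hga] at hq
  have hle : ∀ {K : Subgroup G}, K ≤ R → ⁅K, Subgroup.zpowers g⁆ ≤ R := fun hK =>
    Subgroup.commutator_le.2 fun x hx y hy => by
      rw [commutatorElement_def, mul_assoc x y, mul_assoc x]
      refine R.mul_mem (hK hx) ?_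
      exact (Subgroup.mem_normalizer_iff.1 (Subgroup.zpowers_le.2 hg hy) _).1 (R.inv_mem (hK hx))
  have hq' : ⁅⁅R, Subgroup.zpowers g⁆, Subgroup.zpowers g⁆ = ⊥ := by
    refine le_bot_iff.1 fun x hx => Subgroup.mem_bot.2 (hinj x (hle (hle le_rfl) hx) ?_)
    have h1 := Subgroup.mem_map_of_mem f hx
    rwa [Subgroup.map_commutator, Subgroup.map_commutator, hRV, MonoidHom.map_zpowers, hq,
      Subgroup.mem_bot] at h1
  set N := Subgroup.normalizer (R : Set G) with hN
  set CR := (Subgroup.centralizer (R : Set G)).subgroupOf N with hCR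
  -- split off the part of order prime to `p`
  obtain ⟨k, m, hm, hkm⟩ := Nat.exists_eq_pow_mul_and_not_dvd (orderOf_pos g).ne' p hp.out.ne_one
  have hmp : m.Coprime p := (hp.out.coprime_iff_not_dvd.2 hm).symm
  set y := g ^ p ^ k with hy
  have hyo : (orderOf y).Coprime p := by
    refine hmp.coprime_dvd_left (orderOf_dvd_of_pow_eq_one ?_)
    rw [hy, ← pow_mul, ← hkm, pow_orderOf_eq_one]
  have hyR : y ∈ Subgroup.centralizer (R : Set G) := by
    refine Subgroup.mem_centralizer_iff.2 fun r hr => ?_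
    have hyz : y ∈ Subgroup.zpowers g := Subgroup.npow_mem_zpowers g _
    have hc : y * r * y⁻¹ * r⁻¹ ∈ ⁅R, Subgroup.zpowers g⁆ := by
      have := Subgroup.commutator_mem_commutator hr hyz
      rw [commutatorElement_def] at this
      simpa [mul_assoc] using inv_mem this
    obtain ⟨j, hj⟩ := hRp ⟨_, hle le_rfl hc⟩
    have hcy : Commute y (y * r * y⁻¹ * r⁻¹) := by
      have := Subgroup.commutator_mem_commutator hc hyz
      rw [hq', Subgroup.mem_bot, commutatorElement_eq_one_iff_mul_comm] at this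
      exact this.symm
    exact (commute_of_comm_commute_pow hyo hcy (congrArg Subtype.val hj)).eq.symm
  set A := Subgroup.zpowers (g ^ m) with hA
  have hAg : A ≤ Subgroup.zpowers g := Subgroup.zpowers_le.2 (Subgroup.npow_mem_zpowers g m)
  have hAp : IsPGroup p A := by
    obtain ⟨n, -, hn⟩ := (Nat.dvd_prime_pow hp.out).1 (show orderOf (g ^ m) ∣ p ^ k from
      orderOf_dvd_of_pow_eq_one (by rw [← pow_mul, mul_comm, ← hkm, pow_orderOf_eq_one]))
    exact IsPGroup.of_card (n := n) (by rw [hA, Nat.card_zpowers, hn])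
  have hRY : R ≤ pPrimePCore p G := fun x hx => Grp.le_pCore inferInstance hV hx.2
  have hOR : ((pPrimeCore p G) ⊔ R).Normal := by
    have e : (pPrimeCore p G) ⊔ R = V.comap f := by
      rw [← hRV, Subgroup.comap_map_eq, hf, QuotientGroup.ker_mk', sup_comm]
    rw [e]; infer_instance
  have hq'' : ⁅⁅R, A⁆, A⁆ = ⊥ := le_bot_iff.1 (hq' ▸
    Subgroup.commutator_mono (Subgroup.commutator_mono le_rfl hAg) hAg)
  have h2 := hst.2.2 A R hAp hRp
    (fun b hb x hx => (Subgroup.mem_normalizer_iff.1 (Subgroup.zpowers_le.2 hg (hAg hb)) x).1 hx)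
    hRY hOR hq''
  have h3 : QuotientGroup.mk' CR ⟨g, hg⟩ ∈ pCore p (N ⧸ CR) := by
    set gb := QuotientGroup.mk' CR ⟨g, hg⟩ with hgb
    have hgk : gb ^ p ^ k = 1 := by
      rw [hgb, ← map_pow]
      exact (QuotientGroup.eq_one_iff _).2 hyR
    obtain ⟨j, hj⟩ := exists_pow_eq_self_of_coprime (n := m) (x := gb)
      ((hmp.symm.pow_left k).coprime_dvd_left (orderOf_dvd_of_pow_eq_one hgk)).symm
    rw [← hj]
    refine pow_mem (h2 ⟨⟨g ^ m, N.pow_mem hg m⟩, Subgroup.mem_zpowers _, ?_⟩) j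
    rw [hgb, ← map_pow]
    rfl
  set C := Subgroup.centralizer (V : Set (G ⧸ (pPrimeCore p G))) with hC
  let φ : N →* (G ⧸ (pPrimeCore p G)) ⧸ C := (QuotientGroup.mk' C).comp (f.comp N.subtype)
  let ψ : N →* N ⧸ CR := QuotientGroup.mk' CR
  set W := (pCore p (N ⧸ CR)).comap ψ with hW
  haveI : (pCore p (N ⧸ CR)).Normal := Grp.pCore_isNormal
  haveI : W.Normal := Subgroup.Normal.comap inferInstance ψ
  have hφs : Function.Surjective φ := by
    intro z
    obtain ⟨z, rfl⟩ := QuotientGroup.mk'_surjective C z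
    obtain ⟨x, hx, rfl⟩ : z ∈ N.map f := hsur ▸ Subgroup.mem_top z
    exact ⟨⟨x, hx⟩, rfl⟩
  have hker : ψ.ker ≤ φ.ker := by
    intro x hx
    have hx' : (x : G) ∈ Subgroup.centralizer (R : Set G) := (QuotientGroup.eq_one_iff x).1 hx
    refine (QuotientGroup.eq_one_iff _).2 (Subgroup.mem_centralizer_iff.2 ?_)
    rw [← hRV]
    rintro _ ⟨r, hr, rfl⟩
    show f r * f (x : G) = f (x : G) * f r
    rw [← map_mul, ← map_mul]
    exact congrArg f (Subgroup.mem_centralizer_iff.1 hx' _ hr)
  have hp' : IsPGroup p (W.map φ) := by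
    rintro ⟨_, w, hw, rfl⟩
    obtain ⟨i, hi⟩ := (Grp.pCore_isPGroup (p := p) (G := N ⧸ CR)) ⟨ψ w, hw⟩
    refine ⟨i, Subtype.ext ?_⟩
    rw [SubmonoidClass.coe_pow, OneMemClass.coe_one, ← map_pow, ← MonoidHom.mem_ker]
    exact hker (by rw [MonoidHom.mem_ker, map_pow]; exact congrArg Subtype.val hi)
  exact Grp.le_pCore (Subgroup.Normal.map inferInstance φ hφs) hp' ⟨⟨g, hg⟩, h3, congrArg (QuotientGroup.mk' C) hga⟩

end Cfsg.Agent.Invol
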