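import Mathlib
import Cfsg.Agent.Lib.Transfer.PiClasses
import Cfsg.Agent.Lib.Transfer.WielandtDPi
import Cfsg.Agent.Lib.Transfer.NormalComplement

/-!
# Many classes of `π`-elements force a nilpotent Hall `π`-subgroup

If `p` is a lower bound for the primes in `s`, `m` the `s`-part of `|G|` and `G` has more than
`m / p` classes of `s`-elements, then `G` has a nilpotent subgroup of order `m`.
-/

set_option autoImplicit false
set_option linter.style.haveILetI false

universe u

namespace Cfsg.Agent.Invol.PiClassBound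

open Subgroup Cfsg
open Cfsg.Agent.Transfer

/-- The `s`-part of `|G|`. -/
noncomputable def mPart (s : Finset ℕ) (G : Type u) [Group G] : ℕ :=
  ∏ r ∈ s, r ^ (Nat.card G).factorization r

/-- The number of classes of `s`-elements. -/
noncomputable def kc (s : Finset ℕ) (G : Type u) [Group G] : ℕ :=
  Nat.card {C : ConjClasses G // PiClasses.IsPiClass (↑s : Set ℕ) C}

section Parts

variable {G : Type u} [Group G] {s : Finset ℕ}

theorem mPart_pos (hs : ∀ r ∈ s, r.Prime) : 0 < mPart s G :=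
  Finset.prod_pos fun r hr => pow_pos (hs r hr).pos _

theorem prime_dvd_mPart (hs : ∀ r ∈ s, r.Prime) {r : ℕ} (hr : r.Prime) (h : r ∣ mPart s G) :
    r ∈ s := by
  obtain ⟨t, ht, hrt⟩ := (Prime.dvd_finsetProd_iff hr.prime _).1 h
  rwa [(Nat.prime_dvd_prime_iff_eq hr (hs t ht)).1 (hr.dvd_of_dvd_pow hrt)]

theorem pow_dvd_mPart {r : ℕ} (hr : r ∈ s) : r ^ (Nat.card G).factorization r ∣ mPart s G :=
  Finset.dvd_prod_of_mem (fun r => r ^ (Nat.card G).factorization r) hr

theorem mPart_dvd_of (hs : ∀ r ∈ s, r.Prime) {n : ℕ}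
    (h : ∀ r ∈ s, r ^ (Nat.card G).factorization r ∣ n) : mPart s G ∣ n := by
  induction s using Finset.induction_on with
  | empty => simp [mPart]
  | @insert a t ha ih =>
    rw [mPart, Finset.prod_insert ha]
    exact Nat.Coprime.mul_dvd_of_dvd_of_dvd (Nat.Coprime.prod_right fun b hb =>
      Nat.coprime_pow_primes _ _ (hs a (Finset.mem_insert_self a t))
        (hs b (Finset.mem_insert_of_mem hb)) fun e => ha (e ▸ hb))
      (h a (Finset.mem_insert_self a t)) (ih (fun r hr => hs r (Finset.mem_insert_of_mem hr))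
        fun r hr => h r (Finset.mem_insert_of_mem hr))

theorem mPart_dvd (hs : ∀ r ∈ s, r.Prime) : mPart s G ∣ Nat.card G :=
  mPart_dvd_of hs fun r _ => Nat.ordProj_dvd _ r

theorem dvd_mPart [Finite G] (hs : ∀ r ∈ s, r.Prime) {n : ℕ} (hn : n ∣ Nat.card G)
    (h : ∀ r : ℕ, r.Prime → r ∣ n → r ∈ s) : n ∣ mPart s G := by
  refine (Nat.dvd_iff_prime_pow_dvd_dvd _ _).2 fun r k hr hk => ?_
  rcases Nat.eq_zero_or_pos k with rfl | hk0
  · simp
  exact ((Nat.pow_dvd_pow _ ((hr.pow_dvd_iff_le_factorization Nat.card_pos.ne').1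
    (hk.trans hn)))).trans (pow_dvd_mPart (h r hr ((dvd_pow_self r hk0.ne').trans hk)))

theorem mPart_subgroup_dvd [Finite G] (hs : ∀ r ∈ s, r.Prime) (C : Subgroup G) :
    mPart s ↥C ∣ mPart s G :=
  dvd_mPart hs ((mPart_dvd hs).trans C.card_subgroup_dvd_card) fun _ hr h => prime_dvd_mPart hs hr h

theorem mPart_insert {q : ℕ} (hq : q ∉ s) :
    mPart (insert q s) G = q ^ (Nat.card G).factorization q * mPart s G :=
  Finset.prod_insert hq

/-- No prime of `s` divides the index of a subgroup of order `mPart s G`. -/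
theorem not_dvd_index [Finite G] (hs : ∀ r ∈ s, r.Prime) {H : Subgroup G}
    (hH : Nat.card H = mPart s G) {r : ℕ} (hr : r ∈ s) : ¬ r ∣ H.index := by
  intro hd
  have h1 : r ^ ((Nat.card G).factorization r + 1) ∣ Nat.card G := by
    rw [pow_succ]
    exact (mul_dvd_mul (pow_dvd_mPart hr) hd).trans (dvd_of_eq (by rw [← hH, H.card_mul_index]))
  have h2 := ((hs r hr).pow_dvd_iff_le_factorization Nat.card_pos.ne').1 h1
  omega

theorem piElt_of_mem [Finite G] (hs : ∀ r ∈ s, r.Prime) {H : Subgroup G}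
    (hH : Nat.card H = mPart s G) {x : G} (hx : x ∈ H) : PiClasses.IsPiElt (↑s : Set ℕ) x :=
  fun r hr hd => Finset.mem_coe.2 (prime_dvd_mPart (G := G) hs hr
    (hH ▸ hd.trans (H.orderOf_dvd_natCard hx)))

theorem piElt_conj {π : Set ℕ} {x : G} (hx : PiClasses.IsPiElt π x) (g : G) :
    PiClasses.IsPiElt π (g * x * g⁻¹) := fun r hr hd =>
  hx r hr (by rwa [← MulAut.conj_apply, MulEquiv.orderOf_eq] at hd)

theorem piElt_coe {π : Set ℕ} {C : Subgroup G} {x : C} :
    PiClasses.IsPiElt π (x : G) ↔ PiClasses.IsPiElt π x := by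
  unfold PiClasses.IsPiElt; rw [Subgroup.orderOf_coe]

theorem isPGroup_of_piElt [Finite G] {q : ℕ} [hq : Fact q.Prime] {x : G}
    (hx : PiClasses.IsPiElt (↑({q} : Finset ℕ) : Set ℕ) x) : IsPGroup q (zpowers x) := by
  refine IsPGroup.of_card (n := (orderOf x).primeFactorsList.length) ?_
  rw [Nat.card_zpowers]
  exact Nat.eq_prime_pow_of_unique_prime_dvd (orderOf_pos x).ne' fun hr hd => by
    simpa using hx _ hr hd

theorem piElt_of_isPGroup {q : ℕ} [hq : Fact q.Prime] {P : Subgroup G} (hP : IsPGroup q P) {x : G}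
    (hx : x ∈ P) : PiClasses.IsPiElt (↑({q} : Finset ℕ) : Set ℕ) x := by
  intro r hr hd
  obtain ⟨k, hk⟩ := IsPGroup.iff_orderOf.1 hP ⟨x, hx⟩
  rw [Subgroup.orderOf_mk] at hk
  simp [(Nat.prime_dvd_prime_iff_eq hr hq.out).1 (hr.dvd_of_dvd_pow (hk ▸ hd))]

/-- Every `q`-element of a subgroup `C` is `C`-conjugate into a given Sylow subgroup of `C`. -/
theorem conj_into_sylow [Finite G] {q : ℕ} [hq : Fact q.Prime] {C : Subgroup G} (D : Sylow q C)
    {x : G} (hxC : x ∈ C) (hx : PiClasses.IsPiElt (↑({q} : Finset ℕ) : Set ℕ) x) :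
    ∃ c ∈ C, c * x * c⁻¹ ∈ (D : Subgroup C).map C.subtype := by
  refine (WielandtDPi.exists_conj_le (C := C) (H := (D : Subgroup C).map C.subtype)
    (A := zpowers x) (map_subtype_le _) (zpowers_le.2 hxC) (isPGroup_of_piElt hx) ?_).imp
    fun c hc => ⟨hc.1, hc.2 x (mem_zpowers x)⟩
  rw [Subgroup.relIndex, ← Subgroup.comap_subtype,
    Subgroup.comap_map_eq_self_of_injective C.subtype_injective]
  exact D.not_dvd_index

/-- Wielandt: `s`-elements are conjugate into a nilpotent subgroup of order `mPart s G`. -/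
theorem conj_into_hall [Finite G] (hs : ∀ r ∈ s, r.Prime) {C H : Subgroup G}
    (hH : Nat.card H = mPart s G) (hHn : Group.IsNilpotent H) (hHC : H ≤ C) {x : G} (hxC : x ∈ C)
    (hx : PiClasses.IsPiElt (↑s : Set ℕ) x) : ∃ c ∈ C, c * x * c⁻¹ ∈ H := by
  haveI : Group.IsNilpotent (zpowers x) :=
    @CommGroup.isNilpotent _ { (inferInstance : Group (zpowers x)) with
      mul_comm := fun a b => IsMulCommutative.is_comm.comm a b }
  obtain ⟨c, hc, h⟩ := WielandtDPi.nilpotent_conj (Nat.card (zpowers x)) C H (zpowers x) le_rfl hHC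
    (zpowers_le.2 hxC) hHn inferInstance fun r hr hd hcon =>
      not_dvd_index hs hH (hx r hr (Nat.card_zpowers x ▸ hd))
        (hcon.trans (relIndex_dvd_index_of_le hHC))
  exact ⟨c, hc, h x (mem_zpowers x)⟩

/-- Wielandt: nilpotent subgroups of order `mPart s G` are conjugate. -/
theorem hall_conj [Finite G] (hs : ∀ r ∈ s, r.Prime) {C H H' : Subgroup G}
    (hH : Nat.card H = mPart s G) (hHn : Group.IsNilpotent H) (hHC : H ≤ C)
    (hH' : Nat.card H' = mPart s G) (hHn' : Group.IsNilpotent H') (hH'C : H' ≤ C) :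
    ∃ c ∈ C, H'.map (MulAut.conj c).toMonoidHom = H := by
  obtain ⟨c, hc, h⟩ := WielandtDPi.nilpotent_conj (Nat.card H') C H H' le_rfl hHC hH'C hHn hHn'
    fun r hr hd hcon => not_dvd_index hs hH (prime_dvd_mPart hs hr (hH' ▸ hd))
      (hcon.trans (relIndex_dvd_index_of_le hHC))
  refine ⟨c, hc, eq_of_le_of_card_ge ?_ ?_⟩
  · rintro _ ⟨x, hx, rfl⟩
    exact h x hx
  · rw [card_map_of_injective (MulAut.conj c).injective, hH, hH']

theorem mem_normalizer_of_map_conj {H : Subgroup G} [Finite G] {n : G}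
    (h : H.map (MulAut.conj n).toMonoidHom = H) : n ∈ normalizer (H : Set G) :=
  mem_normalizer_fintype fun x hx => h ▸ ⟨x, hx, rfl⟩

theorem conj_mem_of_mem_normalizer {H : Subgroup G} {n x : G} (hn : n ∈ normalizer (H : Set G))
    (hx : x ∈ H) : n * x * n⁻¹ ∈ H :=
  (mem_normalizer_iff.1 hn x).1 hx

theorem conj_mem_centralizer {H : Subgroup G} {n x : G} (hn : n ∈ normalizer (H : Set G))
    (hx : x ∈ centralizer (H : Set G)) : n * x * n⁻¹ ∈ centralizer (H : Set G) := by
  refine mem_centralizer_iff.2 fun h hh => ?_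
  have h1 := mem_centralizer_iff.1 hx (n⁻¹ * h * n) (by
    simpa using conj_mem_of_mem_normalizer (inv_mem hn) hh)
  calc h * (n * x * n⁻¹) = n * (n⁻¹ * h * n * x) * n⁻¹ := by group
    _ = n * (x * (n⁻¹ * h * n)) * n⁻¹ := by rw [h1]
    _ = n * x * n⁻¹ * h := by group

/-- A proper subgroup has index at least `p` when all primes of the order are at least `p`. -/
theorem mul_card_le_of_lt [Finite G] {p : ℕ} {E H : Subgroup G}
    (hp : ∀ r : ℕ, r.Prime → r ∣ Nat.card H → p ≤ r) (hE : E < H) :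
    Nat.card E * p ≤ Nat.card H := by
  obtain ⟨d, hd⟩ := Subgroup.card_dvd_of_le hE.le
  rw [hd]
  refine Nat.mul_le_mul_left _ ?_
  have hd1 : d ≠ 1 := fun e => hE.ne (eq_of_le_of_card_ge hE.le (by rw [hd, e, mul_one]))
  have hd0 : d ≠ 0 := fun e => Nat.card_pos.ne' (hd.trans (by rw [e, mul_zero]))
  obtain ⟨r, hr, hrd⟩ := Nat.exists_prime_and_dvd hd1
  exact (hp r hr (hd ▸ hrd.mul_left _)).trans (Nat.le_of_dvd (Nat.pos_of_ne_zero hd0) hrd)

end Parts

section Counting

/-- Counting images by fibres. -/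
theorem fibre_count {X Y : Type*} [Finite X] (f : X → Y) (hf : Function.Surjective f) (E : Set X)
    (r : ℕ) (hr : 1 ≤ r) (hfib : ∀ x : X, x ∉ E → r ≤ Nat.card {x' : X // f x' = f x}) :
    r * Nat.card Y ≤ Nat.card X + (r - 1) * Nat.card E := by
  classical
  haveI := Finite.of_surjective f hf
  haveI := Fintype.ofFinite Y
  have h1 : ∀ y : Y, r ≤ Nat.card {x : X // f x = y} + (r - 1) * Nat.card {x : E // f x = y} := by
    intro y
    obtain ⟨x, rfl⟩ := hf y
    by_cases hx : ∃ e : E, f e = f x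
    · obtain ⟨e, he⟩ := hx
      haveI : Nonempty {x' : X // f x' = f x} := ⟨⟨x, rfl⟩⟩
      haveI : Nonempty {e' : E // f e' = f x} := ⟨⟨e, he⟩⟩
      have a := Nat.card_pos (α := {x' : X // f x' = f x})
      have b := Nat.card_pos (α := {e' : E // f e' = f x})
      have c : r - 1 ≤ (r - 1) * Nat.card {e' : E // f e' = f x} := Nat.le_mul_of_pos_right _ b
      omega
    · exact (hfib x fun h => hx ⟨⟨x, h⟩, rfl⟩).trans (Nat.le_add_right _ _)
  have h2 := Finset.sum_le_sum fun y (_ : y ∈ (Finset.univ : Finset Y)) => h1 y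
  rw [Finset.sum_add_distrib, ← Finset.mul_sum, Finset.sum_const, Finset.card_univ, smul_eq_mul,
    ← Nat.card_eq_fintype_card, ← Nat.card_sigma, ← Nat.card_sigma,
    Nat.card_congr (Equiv.sigmaFiberEquiv f),
    Nat.card_congr (Equiv.sigmaFiberEquiv fun e : E => f e)] at h2
  rw [mul_comm]
  exact h2

variable {G : Type u} [Group G] [Finite G]

/-- Classes of `s`-elements counted inside a subgroup meeting all of them. -/
theorem kc_le_cover {s : Finset ℕ} (H : Subgroup G)
    (hHs : ∀ x ∈ H, PiClasses.IsPiElt (↑s : Set ℕ) x)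
    (hcov : ∀ x : G, PiClasses.IsPiElt (↑s : Set ℕ) x → ∃ g : G, g * x * g⁻¹ ∈ H)
    (E : Subgroup G) (hEH : E ≤ H) (r : ℕ) (hr : 1 ≤ r)
    (hfib : ∀ x ∈ H, x ∉ E → r ≤ Nat.card {y : H // IsConj x (y : G)}) :
    r * kc s G ≤ Nat.card H + (r - 1) * Nat.card E := by
  let f : H → {C : ConjClasses G // PiClasses.IsPiClass (↑s : Set ℕ) C} := fun x =>
    ⟨ConjClasses.mk (x : G), (PiClasses.isPiClass_iff _ _ rfl).2 (hHs x x.2)⟩
  have hf : Function.Surjective f := by
    rintro ⟨C, hC⟩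
    obtain ⟨x, rfl⟩ := ConjClasses.mk_surjective C
    obtain ⟨g, hg⟩ := hcov x ((PiClasses.isPiClass_iff _ _ rfl).1 hC)
    exact ⟨⟨_, hg⟩, Subtype.ext (ConjClasses.mk_eq_mk_iff_isConj.2
      (isConj_comm.1 (isConj_iff.2 ⟨g, rfl⟩)))⟩
  refine le_trans (fibre_count f hf {x : H | (x : G) ∈ E} r hr fun x hx => ?_) (le_of_eq ?_)
  · refine (hfib x x.2 hx).trans (le_of_eq (Nat.card_congr (Equiv.subtypeEquivRight fun y => ?_)))
    rw [Subtype.ext_iff]
    exact (ConjClasses.mk_eq_mk_iff_isConj.trans isConj_comm).symm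
  · congr 2
    exact Nat.card_congr ⟨fun x => ⟨x.1.1, x.2⟩, fun e => ⟨⟨e.1, hEH e.2⟩, e.2⟩,
      fun _ => rfl, fun _ => rfl⟩

/-- Two conjugates in `H` of an element moved by `n ∈ N(H)`. -/
theorem two_le_fibre {H : Subgroup G} {n x : G} (hn : n ∈ normalizer (H : Set G)) (hx : x ∈ H)
    (hxn : x ∉ H ⊓ centralizer ({n} : Set G)) : 2 ≤ Nat.card {y : H // IsConj x (y : G)} := by
  haveI : Finite {y : H // IsConj x (y : G)} := inferInstance
  refine Finite.one_lt_card_iff_nontrivial.2 ⟨⟨⟨x, hx⟩, IsConj.refl x⟩,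
    ⟨⟨n * x * n⁻¹, conj_mem_of_mem_normalizer hn hx⟩, isConj_iff.2 ⟨n, rfl⟩⟩, fun e => hxn ⟨hx, ?_⟩⟩
  have h : x = n * x * n⁻¹ := congrArg (fun t => ((t : {y : H // IsConj x (y : G)}).1 : G)) e
  exact mem_centralizer_singleton_iff.2 (eq_mul_inv_iff_mul_eq.1 h)

/-- The orbit of `x` under a subgroup normalizing `H`. -/
theorem orbit_le_fibre {H A : Subgroup G} {r : ℕ} (hA : A ≤ normalizer (H : Set G))
    (hr : ∀ l : ℕ, l.Prime → l ∣ Nat.card A → r ≤ l) {x : G} (hx : x ∈ H)
    (hxA : x ∉ H ⊓ centralizer (A : Set G)) : r ≤ Nat.card {y : H // IsConj x (y : G)} := by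
  set T := (centralizer ({x} : Set G)).subgroupOf A with hT
  have hne : T.index ≠ 1 := fun h => hxA ⟨hx, mem_centralizer_iff.2 fun a ha => by
    have h1 : (⟨a, ha⟩ : A) ∈ T := (index_eq_one.1 h) ▸ mem_top _
    exact mem_centralizer_singleton_iff.1 (mem_subgroupOf.1 h1)⟩
  obtain ⟨l, hl, hld⟩ := Nat.exists_prime_and_dvd hne
  refine ((hr l hl (hld.trans T.index_dvd_card)).trans
    (Nat.le_of_dvd (Nat.pos_of_ne_zero index_ne_zero_of_finite) hld)).trans ?_
  rw [index_eq_card]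
  refine Nat.card_le_card_of_injective (fun a : A ⧸ T =>
    (⟨⟨(a.out : G) * x * (a.out : G)⁻¹, conj_mem_of_mem_normalizer (hA a.out.2) hx⟩,
      isConj_iff.2 ⟨(a.out : G), rfl⟩⟩ : {y : H // IsConj x (y : G)})) fun a b e => ?_
  have h : (a.out : G) * x * (a.out : G)⁻¹ = (b.out : G) * x * (b.out : G)⁻¹ :=
    congrArg (fun t => ((t : {y : H // IsConj x (y : G)}).1 : G)) e
  suffices hm : (a.out)⁻¹ * b.out ∈ T by
    have := QuotientGroup.eq.2 hm
    rwa [QuotientGroup.out_eq', QuotientGroup.out_eq'] at this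
  show (a.out)⁻¹ * b.out ∈ (centralizer ({x} : Set G)).subgroupOf A
  rw [mem_subgroupOf, mem_centralizer_singleton_iff]
  push_cast
  calc (a.out : G)⁻¹ * (b.out : G) * x
      = (a.out : G)⁻¹ * ((b.out : G) * x * (b.out : G)⁻¹) * (b.out : G) := by group
    _ = (a.out : G)⁻¹ * ((a.out : G) * x * (a.out : G)⁻¹) * (b.out : G) := by rw [h]
    _ = x * ((a.out : G)⁻¹ * (b.out : G)) := by group

/-- Classes of `σ ∪ τ`-elements through the centralizers of the `σ`-elements. -/
theorem kc_le_sum {σ τ : Finset ℕ}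
    [Fintype {C : ConjClasses G // PiClasses.IsPiClass (↑σ : Set ℕ) C}] :
    kc (σ ∪ τ) G ≤ ∑ D : {C : ConjClasses G // PiClasses.IsPiClass (↑σ : Set ℕ) C},
      kc τ ↥(centralizer ({D.1.out} : Set G)) := by
  classical
  set Src := Σ D : {C : ConjClasses G // PiClasses.IsPiClass (↑σ : Set ℕ) C},
    {C : ConjClasses ↥(centralizer ({D.1.out} : Set G)) //
      PiClasses.IsPiClass (↑τ : Set ℕ) C} with hSrc
  have key : ∀ C : {C : ConjClasses G // PiClasses.IsPiClass (↑(σ ∪ τ) : Set ℕ) C},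
      ∃ s : Src, ConjClasses.mk (s.1.1.out * (s.2.1.out : G)) = C.1 := by
    rintro ⟨C, hC⟩
    obtain ⟨x, rfl⟩ := ConjClasses.mk_surjective C
    have hx := (PiClasses.isPiClass_iff _ _ rfl).1 hC
    obtain ⟨v, u, hv, hu, hvu, hvσ, hu'⟩ := PiClasses.exists_decomp (↑σ : Set ℕ) x
    set D : {C : ConjClasses G // PiClasses.IsPiClass (↑σ : Set ℕ) C} :=
      ⟨ConjClasses.mk v, (PiClasses.isPiClass_iff _ _ rfl).2 hvσ⟩ with hD
    obtain ⟨g, hg⟩ := isConj_iff.1 (ConjClasses.mk_eq_mk_iff_isConj.1 (Quotient.out_eq D.1).symm)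
    have huτ : PiClasses.IsPiElt (↑τ : Set ℕ) u := fun r hr hd => by
      have h1 := hx r hr (hd.trans (orderOf_dvd_of_mem_zpowers hu))
      rw [Finset.coe_union] at h1
      exact h1.resolve_left (hu' r hr hd)
    have hmem : g * u * g⁻¹ ∈ centralizer ({D.1.out} : Set G) := by
      have hc : Commute v u := by
        obtain ⟨i, rfl⟩ := hv
        obtain ⟨j, rfl⟩ := hu
        exact (Commute.refl x).zpow_zpow i j
      rw [mem_centralizer_singleton_iff, ← hg]
      calc g * u * g⁻¹ * (g * v * g⁻¹) = g * (u * v) * g⁻¹ := by group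
        _ = g * (v * u) * g⁻¹ := by rw [hc.eq]
        _ = g * v * g⁻¹ * (g * u * g⁻¹) := by group
    set E : {C : ConjClasses ↥(centralizer ({D.1.out} : Set G)) //
        PiClasses.IsPiClass (↑τ : Set ℕ) C} :=
      ⟨ConjClasses.mk ⟨_, hmem⟩, (PiClasses.isPiClass_iff _ _ rfl).2
        (piElt_coe.1 (piElt_conj huτ g))⟩ with hE
    refine ⟨⟨D, E⟩, ?_⟩
    obtain ⟨c, hc⟩ := isConj_iff.1
      (ConjClasses.mk_eq_mk_iff_isConj.1 (Quotient.out_eq E.1).symm)
    have hc' : (c : G) * (g * u * g⁻¹) * (c : G)⁻¹ = (E.1.out : G) := congrArg Subtype.val hc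
    refine ConjClasses.mk_eq_mk_iff_isConj.2 (isConj_comm.1 (isConj_iff.2 ⟨c * g, ?_⟩))
    have hcd : (c : G) * D.1.out * (c : G)⁻¹ = D.1.out := by
      rw [mem_centralizer_singleton_iff.1 c.2, mul_inv_cancel_right]
    have aux : ∀ c d g v u e : G, c * d * c⁻¹ = d → g * v * g⁻¹ = d → c * (g * u * g⁻¹) * c⁻¹ = e →
        c * g * (v * u) * (c * g)⁻¹ = d * e := by
      intro c d g v u e h1 h2 h3
      rw [← h1, ← h2, ← h3]
      group
    rw [← hvu]
    exact aux _ _ _ _ _ _ hcd hg hc'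
  choose f hf using key
  refine (Nat.card_le_card_of_injective f fun a b e => Subtype.ext ?_).trans (le_of_eq Nat.card_sigma)
  rw [← hf a, e, hf b]

/-- The number of classes of `s`-elements is at most the `s`-part of the order. -/
theorem kc_le_mPart : ∀ (s : Finset ℕ), (∀ r ∈ s, r.Prime) → ∀ (G : Type u) [Group G] [Finite G],
    kc s G ≤ mPart s G := by
  classical
  intro s
  induction s using Finset.induction_on with
  | empty =>
    intro _ G _ _
    have h := kc_le_cover (s := ∅) (⊥ : Subgroup G) (fun x hx r hr hd => by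
        rw [mem_bot.1 hx, orderOf_one] at hd; exact absurd hd hr.not_dvd_one)
      (fun x hx => ⟨1, by
        have : orderOf x = 1 := by
          by_contra h
          obtain ⟨r, hr, hd⟩ := Nat.exists_prime_and_dvd h
          simpa using hx r hr hd
        simpa [orderOf_eq_one_iff] using this⟩) ⊥ le_rfl 1 le_rfl
      fun x hx hx' => absurd hx hx'
    simpa [mPart] using h
  | @insert q t hqt ih =>
    intro hs G _ _
    haveI := Fintype.ofFinite {C : ConjClasses G // PiClasses.IsPiClass (↑({q} : Finset ℕ) : Set ℕ) C}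
    haveI : Fact q.Prime := ⟨hs q (Finset.mem_insert_self q t)⟩
    have ht : ∀ r ∈ t, r.Prime := fun r hr => hs r (Finset.mem_insert_of_mem hr)
    obtain ⟨Q⟩ : Nonempty (Sylow q G) := inferInstance
    have hq : kc {q} G ≤ q ^ (Nat.card G).factorization q := by
      have h := kc_le_cover (s := {q}) (Q : Subgroup G) (fun x hx => piElt_of_isPGroup Q.isPGroup' hx)
        (fun x hx => by
          obtain ⟨R, hR⟩ := (isPGroup_of_piElt hx).exists_le_sylow
          obtain ⟨g, hg⟩ := MulAction.exists_smul_eq G R Q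
          exact ⟨g, hg ▸ (⟨x, hR (mem_zpowers x), rfl⟩ : g * x * g⁻¹ ∈
            (R : Subgroup G).map (MulAut.conj g).toMonoidHom)⟩)
        ⊥ bot_le 1 le_rfl
        fun x hx _ => Nat.one_le_iff_ne_zero.2 (by
          haveI : Nonempty {y : (Q : Subgroup G) // IsConj x (y : G)} := ⟨⟨⟨x, hx⟩, IsConj.refl x⟩⟩
          exact Nat.card_pos.ne')
      rw [← Q.card_eq_multiplicity]
      simpa using h
    rw [show insert q t = {q} ∪ t from rfl]
    refine kc_le_sum.trans ((Finset.sum_le_card_nsmul _ _ (mPart t G) fun D _ =>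
      (ih ht _).trans (Nat.le_of_dvd (mPart_pos ht) (mPart_subgroup_dvd ht _))).trans ?_)
    rw [Finset.card_univ, smul_eq_mul, ← Nat.card_eq_fintype_card, ← show insert q t = {q} ∪ t from rfl,
      mPart_insert hqt]
    exact Nat.mul_le_mul_right _ hq

end Counting

end Cfsg.Agent.Invol.PiClassBound
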