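import Cfsg.Agent.Lib.Invol.PiClassBound

/-!
# Nilpotent Hall subgroups from many classes of `π`-elements
-/

set_option autoImplicit false
set_option linter.style.haveILetI false
set_option maxHeartbeats 600000

universe u

namespace Cfsg.Agent.Invol.PiClassBound

open Subgroup Cfsg
open Cfsg.Agent.Transfer

variable {G : Type u} [Group G] [Finite G]

/-- `G` has a nilpotent subgroup of order `mPart t G` inside `C`. -/
def Full (t : Finset ℕ) (C : Subgroup G) : Prop :=
  ∃ H : Subgroup G, H ≤ C ∧ Group.IsNilpotent H ∧ Nat.card H = mPart t G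

theorem nilpotent_map_conj {H : Subgroup G} (h : Group.IsNilpotent H) (g : G) :
    Group.IsNilpotent (H.map (MulAut.conj g).toMonoidHom) := by
  haveI := h
  exact Group.nilpotent_of_mulEquiv (H.equivMapOfInjective _ (MulAut.conj g).injective)

theorem card_map_conj (H : Subgroup G) (g : G) :
    Nat.card (H.map (MulAut.conj g).toMonoidHom) = Nat.card H :=
  card_map_of_injective (MulAut.conj g).injective

theorem mul_mPart_le {t : Finset ℕ} {p : ℕ} (ht : ∀ r ∈ t, r.Prime) (hpt : ∀ r ∈ t, p ≤ r)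
    (C : Subgroup G) {k : ℕ} (hk : k ≤ mPart t ↥C) (hne : mPart t ↥C ≠ mPart t G) :
    p * k ≤ mPart t G := by
  obtain ⟨d, hd⟩ := mPart_subgroup_dvd ht C
  have hd1 : d ≠ 1 := fun e => hne (by rw [hd, e, mul_one])
  have hd0 : d ≠ 0 := fun e => (mPart_pos (G := G) ht).ne' (by rw [hd, e, mul_zero])
  obtain ⟨r, hr, hrd⟩ := Nat.exists_prime_and_dvd hd1
  have hpd : p ≤ d := (hpt r (prime_dvd_mPart ht hr (hd ▸ hrd.mul_left _))).trans
    (Nat.le_of_dvd (Nat.pos_of_ne_zero hd0) hrd)
  calc p * k ≤ d * mPart t ↥C := Nat.mul_le_mul hpd hk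
    _ = mPart t G := by rw [hd, mul_comm]

/-- A nilpotent Hall subgroup of `C` moved inside `C` bounds the classes of `C`. -/
theorem bound_of_moving {t : Finset ℕ} {p : ℕ} (ht : ∀ r ∈ t, r.Prime) (hpt : ∀ r ∈ t, p ≤ r)
    {C H : Subgroup G} (hHC : H ≤ C) (hHn : Group.IsNilpotent H) (hH : Nat.card H = mPart t G)
    {n : G} (hnC : n ∈ C) (hn : n ∈ normalizer (H : Set G))
    (hn' : n ∉ centralizer (H : Set G)) :
    2 * p * kc t ↥C ≤ mPart t G * (p + 1) := by
  set Hc := H.subgroupOf C with hHc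
  have hcard : Nat.card Hc = mPart t ↥C := by
    rw [hHc, Nat.card_congr (subgroupOfEquivOfLe hHC).toEquiv, hH]
    refine Nat.dvd_antisymm ?_ (mPart_subgroup_dvd ht C)
    exact dvd_mPart ht (hH ▸ card_dvd_of_le hHC) fun r hr hd => prime_dvd_mPart ht hr hd
  have hcn : Group.IsNilpotent Hc := by
    haveI := hHn
    exact Group.nilpotent_of_mulEquiv (subgroupOfEquivOfLe hHC).symm
  have hmem : (⟨n, hnC⟩ : C) ∈ normalizer (Hc : Set C) := by
    refine mem_normalizer_fintype fun x hx => ?_
    show n * (x : G) * n⁻¹ ∈ H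
    exact conj_mem_of_mem_normalizer hn hx
  set E := Hc ⊓ centralizer ({(⟨n, hnC⟩ : C)} : Set C) with hE
  have hElt : E < Hc := lt_of_le_of_ne inf_le_left fun e => hn' (mem_centralizer_iff.2 fun h hh => by
    have h1 : (⟨h, hHC hh⟩ : C) ∈ E := e ▸ (show (⟨h, hHC hh⟩ : C) ∈ Hc from hh)
    exact congrArg Subtype.val (mem_centralizer_singleton_iff.1 h1.2))
  have h1 := mul_card_le_of_lt (p := p) (fun r hr hd => hpt r (prime_dvd_mPart ht hr (hcard ▸ hd))) hElt
  have h2 := kc_le_cover (s := t) Hc (fun x hx => piElt_of_mem ht hcard hx)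
    (fun x hx => by
      obtain ⟨c, -, hc⟩ := conj_into_hall ht hcard hcn le_top (mem_top x) hx
      exact ⟨c, hc⟩)
    E inf_le_left 2 (by norm_num) fun x hx hxE => two_le_fibre hmem hx hxE
  have h3 : mPart t ↥C ≤ mPart t G :=
    Nat.le_of_dvd (mPart_pos ht) (mPart_subgroup_dvd ht C)
  calc 2 * p * kc t ↥C = p * (2 * kc t ↥C) := by ring
    _ ≤ p * (Nat.card Hc + (2 - 1) * Nat.card E) := Nat.mul_le_mul_left _ h2
    _ = p * Nat.card Hc + Nat.card E * p := by ring
    _ ≤ p * Nat.card Hc + Nat.card Hc := Nat.add_le_add_left h1 _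
    _ ≤ mPart t G * (p + 1) := by rw [hcard]; nlinarith

/-- The fixed subgroup of a `q`-group acting on a group of order prime to `q` has index at least
`q`, unless it is everything. -/
theorem q_mul_card_le {q : ℕ} (hq : q.Prime) {H A : Subgroup G}
    (hA : IsPGroup q A) (hAH : A ≤ normalizer (H : Set G)) (hco : ¬ q ∣ Nat.card H)
    (hne : H ⊓ centralizer (A : Set G) ≠ H) :
    q * Nat.card ↥(H ⊓ centralizer (A : Set G)) ≤ Nat.card H := by
  set E := H ⊓ centralizer (A : Set G) with hE
  by_contra! hlt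
  apply hne
  refine le_antisymm inf_le_left fun x hx => ⟨hx, mem_centralizer_iff.2 fun y hy => ?_⟩
  have hidx : (E.subgroupOf H).index < q := by
    have h1 := (E.subgroupOf H).card_mul_index
    rw [Nat.card_congr (subgroupOfEquivOfLe (inf_le_left : E ≤ H)).toEquiv] at h1
    by_contra hle
    have h2 := Nat.mul_le_mul_left (Nat.card E) (not_lt.1 hle)
    rw [h1] at h2
    rw [mul_comm] at h2
    exact absurd h2 (not_le.2 hlt)
  haveI : Fact q.Prime := ⟨hq⟩
  let f : Fin q → H ⧸ E.subgroupOf H := fun i =>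
    (⟨y ^ (i : ℕ) * x * (y ^ (i : ℕ))⁻¹, conj_mem_of_mem_normalizer (pow_mem (hAH hy) _) hx⟩ : H)
  obtain ⟨i, j, hij, he⟩ : ∃ i j : Fin q, i ≠ j ∧ f i = f j := by
    by_contra! h
    have h1 := Nat.card_le_card_of_injective f fun i j e => by_contra fun n => h i j n e
    rw [Nat.card_fin, ← index_eq_card] at h1
    omega
  wlog hlij : i < j generalizing i j
  · exact this j i hij.symm he.symm (lt_of_le_of_ne (not_lt.1 hlij) hij.symm)
  obtain ⟨d, hd⟩ : ∃ d, (j : ℕ) = i + d := ⟨j - i, by omega⟩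
  set z := y ^ d with hz
  have hzA : z ∈ A := pow_mem hy d
  have hek : ∀ k : ℕ, ∀ e ∈ E, y ^ k * e * (y ^ k)⁻¹ = e := fun k e he => by
    rw [mem_centralizer_iff.1 he.2 _ (pow_mem hy k), mul_inv_cancel_right]
  have h1 : (y ^ (i : ℕ) * x * (y ^ (i : ℕ))⁻¹)⁻¹ * (y ^ (j : ℕ) * x * (y ^ (j : ℕ))⁻¹) ∈ E :=
    mem_subgroupOf.1 (QuotientGroup.eq.1 he)
  have h2 : x⁻¹ * (z * x * z⁻¹) ∈ E := by
    have h3 : (y ^ (i : ℕ) * x * (y ^ (i : ℕ))⁻¹)⁻¹ * (y ^ (j : ℕ) * x * (y ^ (j : ℕ))⁻¹) =
        y ^ (i : ℕ) * (x⁻¹ * (z * x * z⁻¹)) * (y ^ (i : ℕ))⁻¹ := by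
      rw [hd, pow_add, hz]; group
    rw [h3] at h1
    have h4 := hek (i : ℕ) _ h1
    have h5 := (mul_right_inj _).1 ((mul_left_inj _).1 h4)
    rwa [h5] at h1
  set e := x⁻¹ * (z * x * z⁻¹) with he'
  have hze : z * e = e * z := mem_centralizer_iff.1 h2.2 z hzA
  have hpow : ∀ k : ℕ, z ^ k * x * (z ^ k)⁻¹ = x * e ^ k := by
    intro k
    induction k with
    | zero => simp
    | succ k ih =>
      have hc : z * e ^ k = e ^ k * z := (Commute.pow_right hze k)
      calc z ^ (k + 1) * x * (z ^ (k + 1))⁻¹ = z * (z ^ k * x * (z ^ k)⁻¹) * z⁻¹ := by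
            rw [pow_succ']; group
        _ = z * x * (e ^ k * z⁻¹) := by rw [ih]; group
        _ = z * x * (z⁻¹ * e ^ k) := by
            rw [(Commute.inv_left (hc : Commute z (e ^ k))).eq]
        _ = x * e * e ^ k := by rw [he']; group
        _ = x * e ^ (k + 1) := by rw [pow_succ', mul_assoc]
  obtain ⟨b, hb⟩ := IsPGroup.iff_orderOf.1 hA ⟨z, hzA⟩
  rw [Subgroup.orderOf_mk] at hb
  have h5 : e ^ orderOf z = 1 := by
    simpa [pow_orderOf_eq_one] using (hpow (orderOf z)).symm
  have h6 : e = 1 := by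
    refine orderOf_eq_one_iff.1 (Nat.eq_one_of_dvd_coprimes ?_ (orderOf_dvd_of_pow_eq_one h5)
      (H.orderOf_dvd_natCard h2.1))
    rw [hb]
    exact Nat.Coprime.pow_left _ (hq.coprime_iff_not_dvd.2 hco)
  have hzx : z * x = x * z := by
    have : z * x * z⁻¹ = x := by
      rw [he'] at h6
      exact (inv_mul_eq_one.1 h6).symm
    exact mul_inv_eq_iff_eq_mul.1 this
  obtain ⟨c, hc⟩ := IsPGroup.iff_orderOf.1 hA ⟨y, hy⟩
  rw [Subgroup.orderOf_mk] at hc
  have hdq : Nat.Coprime d (orderOf y) := by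
    rw [hc]
    refine Nat.Coprime.pow_right _ (Nat.Coprime.symm (hq.coprime_iff_not_dvd.2 ?_))
    intro hh
    have := Nat.le_of_dvd (by omega) hh
    omega
  obtain ⟨l, hl⟩ := exists_pow_eq_self_of_coprime hdq
  rw [← hl]
  exact (Commute.pow_left (hzx : Commute z x) l).eq

theorem exists_sylow_le {q : ℕ} [Fact q.Prime] {N : Subgroup G}
    (h : q ^ (Nat.card G).factorization q ∣ Nat.card N) : ∃ Q : Sylow q G, (Q : Subgroup G) ≤ N := by
  obtain ⟨K, hK⟩ := Sylow.exists_subgroup_card_pow_prime q (G := N) h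
  exact ⟨Sylow.ofCard (K.map N.subtype) (by rw [card_subtype, hK]), map_subtype_le K⟩

/-- Two commuting subgroups of coprime orders generate a nilpotent product. -/
theorem exists_product {A B : Subgroup G} (hA : Group.IsNilpotent A) (hB : Group.IsNilpotent B)
    (hAB : A ≤ centralizer (B : Set G)) (hco : Nat.Coprime (Nat.card A) (Nat.card B)) :
    ∃ H : Subgroup G, Group.IsNilpotent H ∧ Nat.card H = Nat.card A * Nat.card B := by
  haveI := hA
  haveI := hB
  have comm : ∀ (a : A) (b : B), Commute (A.subtype a) (B.subtype b) := fun a b =>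
    (mem_centralizer_iff.1 (hAB a.2) b b.2).symm
  set f := MonoidHom.noncommCoprod A.subtype B.subtype comm with hf
  refine ⟨f.range, Group.nilpotent_of_surjective f.rangeRestrict f.rangeRestrict_surjective, ?_⟩
  have hinj : Function.Injective f := (MonoidHom.noncommCoprod_injective _ _ comm).2
    ⟨A.subtype_injective, B.subtype_injective, by
      rw [range_subtype, range_subtype, disjoint_iff]
      exact inf_eq_bot_of_coprime hco⟩
  rw [← Nat.card_congr (MonoidHom.ofInjective hinj).toEquiv, Nat.card_prod]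

theorem not_full_bound {t : Finset ℕ} {p : ℕ} (ht : ∀ r ∈ t, r.Prime) (hpt : ∀ r ∈ t, p ≤ r)
    (ih : ∀ (C : Type u) [Group C] [Finite C], mPart t C < p * kc t C →
      ∃ H : Subgroup C, Group.IsNilpotent H ∧ Nat.card H = mPart t C)
    {C : Subgroup G} (hC : ¬ Full t C) : p * kc t ↥C ≤ mPart t G := by
  by_cases h : mPart t ↥C = mPart t G
  · rw [← h]
    by_contra hlt
    obtain ⟨H, hHn, hHc⟩ := ih C (not_le.1 hlt)
    haveI := hHn
    exact hC ⟨H.map C.subtype, map_subtype_le H,
      Group.nilpotent_of_mulEquiv (H.equivMapOfInjective _ C.subtype_injective),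
      by rw [card_subtype, hHc, h]⟩
  · exact mul_mPart_le ht hpt C (kc_le_mPart t ht C) h

section Step

variable {p q : ℕ} [hq : Fact q.Prime] {t : Finset ℕ}

theorem coprime_pow_mPart (ht : ∀ r ∈ t, r.Prime) (hqt : q ∉ t) (i : ℕ) :
    Nat.Coprime (q ^ i) (mPart t G) :=
  Nat.Coprime.pow_left _ (hq.out.coprime_iff_not_dvd.2 fun h => hqt (prime_dvd_mPart ht hq.out h))

theorem kc_single_le (G : Type u) [Group G] [Finite G] (q : ℕ) (hq : q.Prime) :
    kc {q} G ≤ q ^ (Nat.card G).factorization q := by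
  simpa [mPart] using kc_le_mPart {q} (fun r hr => by rw [Finset.mem_singleton.1 hr]; exact hq) G

variable (ht : ∀ r ∈ t, r.Prime) (hpt : ∀ r ∈ t, p ≤ r) (htq : ∀ r ∈ t, r < q) (hp : 2 ≤ p)
  (hpq : p < q)
  (ih : ∀ (C : Type u) [Group C] [Finite C], mPart t C < p * kc t C →
    ∃ H : Subgroup C, Group.IsNilpotent H ∧ Nat.card H = mPart t C)
  {H0 : Subgroup G} (hH0n : Group.IsNilpotent H0) (hH0 : Nat.card H0 = mPart t G)
  (hno : ∀ H1 : Subgroup G, Group.IsNilpotent H1 → Nat.card H1 = mPart t G →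
    ∀ Q : Sylow q G, ¬ (Q : Subgroup G) ≤ centralizer (H1 : Set G))

include ht hpt htq hp hpq ih hH0n hH0 hno in
/-- The case of a Sylow `q`-subgroup controlled by Burnside transfer. -/
theorem caseA (Q : Sylow q G)
    (hQ : normalizer ((Q : Subgroup G) : Set G) ≤ centralizer ((Q : Subgroup G) : Set G)) :
    p * kc (insert q t) G ≤ q ^ (Nat.card G).factorization q * mPart t G := by
  classical
  set a := (Nat.card G).factorization q with ha
  set mt := mPart t G with hmt
  have hqmt : ¬ q ∣ mt := fun h => lt_irrefl q (htq q (prime_dvd_mPart ht hq.out h))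
  set φ := MonoidHom.transferSylow Q hQ with hφ
  have hcomp := MonoidHom.ker_transferSylow_isComplement' Q hQ
  set K := φ.ker with hK
  haveI : K.Normal := MonoidHom.normal_ker _
  have hKidx : K.index = q ^ a := by
    have h1 : K.index = Nat.card (Q : Subgroup G) := hcomp.symm.index_eq_card
    rw [h1, Q.card_eq_multiplicity]
  have hKle : ∀ H : Subgroup G, Nat.card H = mt → H ≤ K := by
    intro H hH x hx
    rw [hK, MonoidHom.mem_ker]
    refine orderOf_eq_one_iff.1 (Nat.eq_one_of_dvd_coprimes (coprime_pow_mPart ht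
      (fun h => lt_irrefl q (htq q h)) a) ?_ ((orderOf_map_dvd φ x).trans (hH ▸ H.orderOf_dvd_natCard hx)))
    rw [← hcomp.symm.index_eq_card.symm.trans hKidx]
    exact orderOf_dvd_natCard _
  set N := normalizer (H0 : Set G) with hN
  have hsurj : ∀ g : G, ∃ n ∈ N, n * g⁻¹ ∈ K := by
    intro g
    obtain ⟨c, hc, h⟩ := hall_conj ht hH0 hH0n (hKle H0 hH0)
      (by rw [card_map_conj, hH0]) (nilpotent_map_conj hH0n g)
      (hKle _ (by rw [card_map_conj, hH0]))
    refine ⟨c * g, mem_normalizer_of_map_conj ?_, (by simpa using hc)⟩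
    rw [show (MulAut.conj (c * g)).toMonoidHom = (MulAut.conj c).toMonoidHom.comp
      (MulAut.conj g).toMonoidHom by ext; simp [mul_assoc], ← map_map, h]
  have hNdvd : q ^ a ∣ Nat.card N := by
    rw [← hKidx, index_eq_card]
    refine card_dvd_of_surjective ((QuotientGroup.mk' K).comp N.subtype) fun z => ?_
    obtain ⟨g, rfl⟩ := QuotientGroup.mk'_surjective K z
    obtain ⟨n, hn, h⟩ := hsurj g
    refine ⟨⟨n, hn⟩, ?_⟩
    refine (QuotientGroup.eq.2 (?_ : g⁻¹ * n ∈ K)).symm
    have := Normal.conj_mem inferInstance _ h g⁻¹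
    simpa [mul_assoc] using this
  obtain ⟨Q1, hQ1N⟩ := exists_sylow_le hNdvd
  set E := H0 ⊓ centralizer ((Q1 : Subgroup G) : Set G) with hE
  have hne : E ≠ H0 := fun e => hno H0 hH0n hH0 Q1 fun y hy => mem_centralizer_iff.2 fun h hh =>
    ((mem_centralizer_iff.1 (inf_le_right (a := H0) (e ▸ hh : h ∈ E))) y hy).symm
  have hEq : q * Nat.card E ≤ mt :=
    hH0 ▸ q_mul_card_le hq.out Q1.isPGroup' hQ1N (hH0 ▸ hqmt) hne
  have hEp : p * p * Nat.card E ≤ mt := by
    obtain ⟨d, hd⟩ := Subgroup.card_dvd_of_le (inf_le_left : E ≤ H0)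
    rw [hH0] at hd
    have hEpos : 0 < Nat.card E := Nat.card_pos
    have hqd : q ≤ d := by
      rw [hd, mul_comm] at hEq
      exact Nat.le_of_mul_le_mul_left hEq hEpos
    have hdm : d ∣ mt := ⟨Nat.card E, by rw [hd, mul_comm]⟩
    obtain ⟨r, hr, hrd⟩ := Nat.exists_prime_and_dvd (n := d) (by omega)
    obtain ⟨d', rfl⟩ := hrd
    have hrt := prime_dvd_mPart ht hr ((dvd_mul_right r d').trans hdm)
    have hd'1 : d' ≠ 1 := fun e => by
      have := htq r hrt
      subst e
      omega
    obtain ⟨r', hr', hr'd⟩ := Nat.exists_prime_and_dvd hd'1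
    have h1 : p ≤ d' := (hpt r' (prime_dvd_mPart ht hr'
      ((hr'd.trans (dvd_mul_left d' r)).trans hdm))).trans (Nat.le_of_dvd (by
        rcases Nat.eq_zero_or_pos d' with h | h
        · subst h; omega
        · exact h) hr'd)
    calc p * p * Nat.card E ≤ r * d' * Nat.card E :=
          Nat.mul_le_mul_right _ (Nat.mul_le_mul (hpt r hrt) h1)
      _ = mt := by rw [hd, mul_comm]
  -- classes of `t`-elements
  have hkt : q * kc t G ≤ mt + (q - 1) * Nat.card E := by
    have := kc_le_cover (s := t) H0 (fun x hx => piElt_of_mem ht hH0 hx)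
      (fun x hx => by
        obtain ⟨c, -, hc⟩ := conj_into_hall ht hH0 hH0n le_top (mem_top x) hx
        exact ⟨c, hc⟩)
      E inf_le_left q hq.out.one_le fun x hx hxE =>
        orbit_le_fibre hQ1N (fun l hl hd => by
          rw [Q1.card_eq_multiplicity] at hd
          exact ((Nat.prime_dvd_prime_iff_eq hl hq.out).1 (hl.dvd_of_dvd_pow hd)).ge) hx hxE
    rwa [hH0] at this
  have hpkt : p * kc t G ≤ mt := by
    obtain ⟨j, hj⟩ : ∃ j, q = j + 1 := ⟨q - 1, by omega⟩
    have h1 : p * p * (q * kc t G) ≤ p * p * mt + j * mt := by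
      calc p * p * (q * kc t G) ≤ p * p * (mt + (q - 1) * Nat.card E) := Nat.mul_le_mul_left _ hkt
        _ = p * p * mt + j * (p * p * Nat.card E) := by
          rw [show q - 1 = j by omega]; ring
        _ ≤ _ := Nat.add_le_add_left (Nat.mul_le_mul_left _ hEp) _
    have h2 : p * p + j ≤ q * p := by nlinarith
    refine Nat.le_of_mul_le_mul_left ?_ (Nat.mul_pos hq.out.pos (show 0 < p by omega))
    calc q * p * (p * kc t G) = p * p * (q * kc t G) := by ring
      _ ≤ (p * p + j) * mt := by rw [add_mul]; exact h1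
      _ ≤ q * p * mt := Nat.mul_le_mul_right _ h2
  -- classes of `t`-elements centralised by a full Sylow subgroup
  haveI : Fintype {C : ConjClasses G // PiClasses.IsPiClass (↑t : Set ℕ) C} := Fintype.ofFinite _
  set Fs := Finset.univ.filter fun D : {C : ConjClasses G // PiClasses.IsPiClass (↑t : Set ℕ) C} =>
    q ^ a ∣ Nat.card ↥(centralizer ({D.1.out} : Set G)) with hFs
  set CQ := centralizer ((Q : Subgroup G) : Set G) with hCQ
  have hF : Fs.card ≤ kc t ↥CQ := by
    have key : ∀ D ∈ Fs, ∃ B : {C : ConjClasses ↥CQ // PiClasses.IsPiClass (↑t : Set ℕ) C},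
        ConjClasses.mk (B.1.out : G) = D.1 := by
      intro D hD
      obtain ⟨Q', hQ'⟩ := exists_sylow_le (Finset.mem_filter.1 hD).2
      obtain ⟨g, hg⟩ := MulAction.exists_smul_eq G Q' Q
      have hmem : g * D.1.out * g⁻¹ ∈ CQ := by
        refine mem_centralizer_iff.2 fun y hy => ?_
        rw [← hg] at hy
        obtain ⟨z, hz, rfl⟩ : y ∈ (Q' : Subgroup G).map (MulAut.conj g).toMonoidHom := hy
        have h1 := mem_centralizer_singleton_iff.1 (hQ' hz)
        simp only [MulEquiv.coe_toMonoidHom, MulAut.conj_apply]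
        calc g * z * g⁻¹ * (g * D.1.out * g⁻¹) = g * (z * D.1.out) * g⁻¹ := by group
          _ = g * (D.1.out * z) * g⁻¹ := by rw [h1]
          _ = g * D.1.out * g⁻¹ * (g * z * g⁻¹) := by group
      have hpi := piElt_conj ((PiClasses.isPiClass_iff _ _ (Quotient.out_eq D.1)).1 D.2) g
      refine ⟨⟨ConjClasses.mk ⟨_, hmem⟩, (PiClasses.isPiClass_iff _ _ rfl).2 (piElt_coe.1 hpi)⟩, ?_⟩
      obtain ⟨c, hc⟩ := isConj_iff.1 (ConjClasses.mk_eq_mk_iff_isConj.1
        (Quotient.out_eq (ConjClasses.mk (⟨_, hmem⟩ : CQ))).symm)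
      refine (ConjClasses.mk_eq_mk_iff_isConj.2 ?_).trans (Quotient.out_eq D.1)
      refine isConj_comm.1 ((isConj_iff.2 ⟨g, rfl⟩ : IsConj D.1.out (g * D.1.out * g⁻¹)).trans
        (isConj_iff.2 ⟨(c : G), congrArg Subtype.val hc⟩))
    choose f hf using key
    rw [← Fintype.card_coe, ← Nat.card_eq_fintype_card]
    refine Nat.card_le_card_of_injective (fun D : Fs => f D.1 D.2) fun D D' e => Subtype.ext (Subtype.ext ?_)
    rw [← hf D.1 D.2, ← hf D'.1 D'.2]
    exact congrArg (fun B => ConjClasses.mk ((B : {C : ConjClasses ↥CQ //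
      PiClasses.IsPiClass (↑t : Set ℕ) C}).1.out : G)) e
  have hCQ : p * kc t ↥CQ ≤ mt := not_full_bound ht hpt ih fun ⟨H1, hle, hn, hc⟩ =>
    hno H1 hn hc Q fun y hy => mem_centralizer_iff.2 fun h hh =>
      (mem_centralizer_iff.1 (hle hh) y hy).symm
  -- the sum
  have hw : ∀ D : {C : ConjClasses G // PiClasses.IsPiClass (↑t : Set ℕ) C},
      q * kc {q} ↥(centralizer ({D.1.out} : Set G)) ≤ q ^ a + if D ∈ Fs then (q - 1) * q ^ a else 0 := by
    intro D
    set C := centralizer ({D.1.out} : Set G)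
    have h1 := kc_single_le C q hq.out
    have hdvd : q ^ (Nat.card C).factorization q ∣ q ^ a :=
      Nat.pow_dvd_pow _ ((hq.out.pow_dvd_iff_le_factorization Nat.card_pos.ne').1
        ((Nat.ordProj_dvd _ _).trans C.card_subgroup_dvd_card))
    split_ifs with hD
    · obtain ⟨j, hj⟩ : ∃ j, q = j + 1 := ⟨q - 1, by omega⟩
      have h2 := h1.trans (Nat.le_of_dvd (pow_pos hq.out.pos _) hdvd)
      rw [show q - 1 = j by omega]
      nlinarith
    · rw [add_zero]
      have hlt : (Nat.card C).factorization q < a := by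
        by_contra hle
        exact hD (Finset.mem_filter.2 ⟨Finset.mem_univ _,
          (Nat.pow_dvd_pow _ (not_lt.1 hle)).trans (Nat.ordProj_dvd _ _)⟩)
      calc q * kc {q} C ≤ q * q ^ (Nat.card C).factorization q := Nat.mul_le_mul_left _ h1
        _ = q ^ ((Nat.card C).factorization q + 1) := (pow_succ' _ _).symm
        _ ≤ q ^ a := Nat.pow_le_pow_right hq.out.pos hlt
  have hsum : q * kc (insert q t) G ≤ q ^ a * (kc t G + (q - 1) * Fs.card) := by
    have h0 : kc (insert q t) G ≤ ∑ D : {C : ConjClasses G // PiClasses.IsPiClass (↑t : Set ℕ) C},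
        kc {q} ↥(centralizer ({D.1.out} : Set G)) := by
      rw [show insert q t = t ∪ {q} by rw [Finset.union_comm]; rfl]
      exact kc_le_sum
    refine (Nat.mul_le_mul_left q h0).trans ?_
    rw [Finset.mul_sum]
    refine (Finset.sum_le_sum fun D _ => hw D).trans (le_of_eq ?_)
    rw [Finset.sum_add_distrib, Finset.sum_const, Finset.card_univ, ← Nat.card_eq_fintype_card,
      ← Finset.sum_filter, Finset.sum_const, smul_eq_mul, smul_eq_mul, Finset.filter_univ_mem,
      show Nat.card {C : ConjClasses G // PiClasses.IsPiClass (↑t : Set ℕ) C} = kc t G from rfl]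
    ring
  refine Nat.le_of_mul_le_mul_left ?_ hq.out.pos
  obtain ⟨j, hj⟩ : ∃ j, q = j + 1 := ⟨q - 1, by omega⟩
  rw [show q - 1 = j by omega] at hsum
  calc q * (p * kc (insert q t) G) = p * (q * kc (insert q t) G) := by ring
    _ ≤ p * (q ^ a * (kc t G + j * Fs.card)) := Nat.mul_le_mul_left _ hsum
    _ = q ^ a * (p * kc t G + j * (p * Fs.card)) := by ring
    _ ≤ q ^ a * (mt + j * mt) := Nat.mul_le_mul_left _ (Nat.add_le_add hpkt
        (Nat.mul_le_mul_left _ ((Nat.mul_le_mul_left _ hF).trans hCQ)))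
    _ = q * (q ^ a * mt) := by rw [hj]; ring

/-- Full classes of `q`-elements: the centralizer holds a nilpotent Hall `t`-subgroup. -/
noncomputable def fullClasses (t : Finset ℕ) (q : ℕ) (G : Type u) [Group G]
    [Fintype {C : ConjClasses G // PiClasses.IsPiClass (↑({q} : Finset ℕ) : Set ℕ) C}] :
    Finset {C : ConjClasses G // PiClasses.IsPiClass (↑({q} : Finset ℕ) : Set ℕ) C} :=
  @Finset.filter _ (fun D => Full t (centralizer ({D.1.out} : Set G))) (Classical.decPred _)
    Finset.univ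

variable [Fintype {C : ConjClasses G // PiClasses.IsPiClass (↑({q} : Finset ℕ) : Set ℕ) C}]

include hq in
theorem kc_insert_le :
    kc (insert q t) G ≤ ∑ D : {C : ConjClasses G // PiClasses.IsPiClass (↑({q} : Finset ℕ) : Set ℕ) C},
      kc t ↥(centralizer ({D.1.out} : Set G)) := by
  rw [show insert q t = {q} ∪ t from rfl]
  exact kc_le_sum

include ht hH0n hH0 in
/-- Every full class of `q`-elements meets a Sylow `q`-subgroup of `C(H₀)`. -/
theorem full_class_meets (D : Sylow q ↥(centralizer (H0 : Set G)))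
    {B : {C : ConjClasses G // PiClasses.IsPiClass (↑({q} : Finset ℕ) : Set ℕ) C}}
    (hB : B ∈ fullClasses t q G) :
    ∃ d : ((D : Subgroup ↥(centralizer (H0 : Set G))).map
      (centralizer (H0 : Set G)).subtype : Subgroup G), ConjClasses.mk (d : G) = B.1 := by
  classical
  obtain ⟨H', hle, hn', hc'⟩ : Full t (centralizer ({B.1.out} : Set G)) := by
    unfold fullClasses at hB
    exact (Finset.mem_filter.1 hB).2
  obtain ⟨c, -, hc⟩ := hall_conj ht hH0 hH0n le_top hc' hn' le_top
  set x := c * B.1.out * c⁻¹ with hx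
  have hxC : x ∈ centralizer (H0 : Set G) := by
    refine mem_centralizer_iff.2 fun y hy => ?_
    rw [← hc] at hy
    obtain ⟨z, hz, rfl⟩ := hy
    have h1 := mem_centralizer_singleton_iff.1 (hle hz)
    simp only [MulEquiv.coe_toMonoidHom, MulAut.conj_apply, hx]
    calc c * z * c⁻¹ * (c * B.1.out * c⁻¹) = c * (z * B.1.out) * c⁻¹ := by group
      _ = c * (B.1.out * z) * c⁻¹ := by rw [h1]
      _ = c * B.1.out * c⁻¹ * (c * z * c⁻¹) := by group
  have hxq : PiClasses.IsPiElt (↑({q} : Finset ℕ) : Set ℕ) x :=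
    piElt_conj ((PiClasses.isPiClass_iff _ _ (Quotient.out_eq B.1)).1 B.2) c
  obtain ⟨e, -, he⟩ := conj_into_sylow D hxC hxq
  refine ⟨⟨_, he⟩, ?_⟩
  refine (ConjClasses.mk_eq_mk_iff_isConj.2 ?_).trans (Quotient.out_eq B.1)
  exact isConj_comm.1 (isConj_iff.2 ⟨e * c, by
    show e * c * B.1.out * (e * c)⁻¹ = e * (c * B.1.out * c⁻¹) * e⁻¹
    group⟩)

omit [Fintype {C : ConjClasses G // PiClasses.IsPiClass (↑({q} : Finset ℕ) : Set ℕ) C}] in
include hH0n hH0 hno in
theorem sylow_centralizer_small (D : Sylow q ↥(centralizer (H0 : Set G))) :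
    q * Nat.card ((D : Subgroup ↥(centralizer (H0 : Set G))).map
      (centralizer (H0 : Set G)).subtype : Subgroup G) ≤ q ^ (Nat.card G).factorization q := by
  set Dm := ((D : Subgroup ↥(centralizer (H0 : Set G))).map
      (centralizer (H0 : Set G)).subtype : Subgroup G) with hDm
  have hDq : IsPGroup q Dm := D.isPGroup'.map _
  obtain ⟨R, hR⟩ := hDq.exists_le_sylow
  have hlt : Dm < (R : Subgroup G) := lt_of_le_of_ne hR fun e =>
    hno H0 hH0n hH0 R (e ▸ map_subtype_le _)
  have := mul_card_le_of_lt (p := q) (fun r hr hd => by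
    rw [R.card_eq_multiplicity] at hd
    exact ((Nat.prime_dvd_prime_iff_eq hr hq.out).1 (hr.dvd_of_dvd_pow hd)).ge) hlt
  rw [R.card_eq_multiplicity] at this
  linarith [mul_comm (Nat.card Dm) q]

include ht hpt htq hp hpq ih hH0n hH0 hno in
/-- Burnside transfer for every prime of `t`. -/
theorem caseB1 (hN : normalizer (H0 : Set G) ≤ centralizer (H0 : Set G)) :
    p * kc (insert q t) G ≤ q ^ (Nat.card G).factorization q * mPart t G := by
  classical
  set a := (Nat.card G).factorization q with ha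
  set mt := mPart t G with hmt
  have hab : H0 ≤ centralizer (H0 : Set G) := le_normalizer.trans hN
  -- Sylow subgroups inside `H0`
  have hR : ∀ r : t, ∃ P : Subgroup G, P ≤ H0 ∧
      Nat.card P = (r : ℕ) ^ (Nat.card G).factorization r := by
    intro r
    haveI : Fact (r : ℕ).Prime := ⟨ht r r.2⟩
    obtain ⟨K, hK⟩ := Sylow.exists_subgroup_card_pow_prime (r : ℕ) (G := H0)
      (n := (Nat.card G).factorization r) (hH0 ▸ pow_dvd_mPart r.2)
    exact ⟨K.map H0.subtype, map_subtype_le K, by rw [card_subtype, hK]⟩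
  choose P hP0 hPc using hR
  let S : ∀ r : t, Sylow (r : ℕ) G := fun r =>
    haveI : Fact (r : ℕ).Prime := ⟨ht r r.2⟩
    Sylow.ofCard (P r) (hPc r)
  have hS : ∀ r : t, (S r : Subgroup G) = P r := fun r => rfl
  have hNC : ∀ r : t, normalizer ((S r : Subgroup G) : Set G) ≤
      centralizer ((S r : Subgroup G) : Set G) := by
    intro r n hn
    have h1 : H0 ≤ centralizer ((S r : Subgroup G) : Set G) := fun y hy =>
      mem_centralizer_iff.2 fun s hs => mem_centralizer_iff.1 (hab hy) s (hP0 r hs)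
    have h2 : H0.map (MulAut.conj n).toMonoidHom ≤ centralizer ((S r : Subgroup G) : Set G) := by
      rintro _ ⟨y, hy, rfl⟩
      exact conj_mem_centralizer hn (h1 hy)
    obtain ⟨c, hc, he⟩ := hall_conj ht hH0 hH0n h1 (by rw [card_map_conj, hH0])
      (nilpotent_map_conj hH0n n) h2
    have h3 : c * n ∈ centralizer ((S r : Subgroup G) : Set G) := by
      refine centralizer_le (fun s hs => hP0 r hs) (hN (mem_normalizer_of_map_conj ?_))
      rw [show (MulAut.conj (c * n)).toMonoidHom = (MulAut.conj c).toMonoidHom.comp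
        (MulAut.conj n).toMonoidHom by ext; simp [mul_assoc], ← map_map, he]
    exact ((centralizer ((S r : Subgroup G) : Set G)).mul_mem_cancel_left hc).1 h3
  let φ : ∀ r : t, G →* (S r : Subgroup G) := fun r =>
    haveI : Fact (r : ℕ).Prime := ⟨ht r r.2⟩
    MonoidHom.transferSylow (S r) (hNC r)
  let f : G →* ((r : t) → (S r : Subgroup G)) := MonoidHom.pi φ
  set K := f.ker with hK
  haveI : K.Normal := f.normal_ker
  have hKco : Nat.Coprime (Nat.card K) mt := by
    refine Nat.coprime_of_dvd fun r hr hrK hrm => ?_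
    have hrt := prime_dvd_mPart ht hr hrm
    haveI : Fact r.Prime := ⟨hr⟩
    have hle : K ≤ (φ ⟨r, hrt⟩).ker := fun x hx => by
      rw [hK, MonoidHom.mem_ker] at hx
      exact congrFun hx ⟨r, hrt⟩
    exact MonoidHom.not_dvd_card_ker_transferSylow (S ⟨r, hrt⟩) (hNC ⟨r, hrt⟩)
      (hrK.trans (card_dvd_of_le hle))
  have hKidx : K.index = mt := by
    refine Nat.dvd_antisymm ?_ ?_
    · rw [hK, index_ker]
      refine (card_subgroup_dvd_card _).trans (dvd_of_eq ?_)
      rw [Nat.card_pi]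
      calc ∏ r : t, Nat.card (S r : Subgroup G)
          = ∏ r : t, (r : ℕ) ^ (Nat.card G).factorization r := Finset.prod_congr rfl fun r _ => hPc r
        _ = mt := Finset.prod_coe_sort t (fun r => r ^ (Nat.card G).factorization r)
    · exact hKco.symm.dvd_of_dvd_mul_left (K.card_mul_index.symm ▸ mPart_dvd ht)
  have hcomm : ∀ x y : G, f (x * y) = f (y * x) := fun x y => by
    funext r
    simp only [map_mul, Pi.mul_apply]
    exact Subtype.ext (mem_centralizer_iff.1 (hab (hP0 r (f y r).2)) _ (hP0 r (f x r).2))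
  obtain ⟨Q⟩ : Nonempty (Sylow q G) := inferInstance
  set N := normalizer ((Q : Subgroup G) : Set G) with hNdef
  have hQle : ∀ R : Subgroup G, IsPGroup q R → R ≤ K := by
    intro R hR' x hx
    rw [hK, MonoidHom.mem_ker]
    obtain ⟨i, hi⟩ := IsPGroup.iff_orderOf.1 hR' ⟨x, hx⟩
    rw [Subgroup.orderOf_mk] at hi
    refine orderOf_eq_one_iff.1 (Nat.eq_one_of_dvd_coprimes (coprime_pow_mPart (G := G) ht
      (fun h => lt_irrefl q (htq q h)) i) (hi ▸ orderOf_map_dvd f x) ?_)
    rw [← hmt, ← hKidx, hK, index_ker]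
    exact f.range.orderOf_dvd_natCard (MonoidHom.mem_range.2 ⟨x, rfl⟩)
  have hsurj : Function.Surjective ((QuotientGroup.mk' K).comp N.subtype) := by
    intro z
    obtain ⟨g, rfl⟩ := QuotientGroup.mk'_surjective K z
    have hRq : IsPGroup q ((Q : Subgroup G).map (MulAut.conj g).toMonoidHom : Subgroup G) :=
      Q.isPGroup'.map _
    obtain ⟨c, hc, he⟩ := WielandtDPi.exists_conj_le (C := K) (H := (Q : Subgroup G))
      (hQle _ Q.isPGroup') (hQle _ hRq) hRq fun h =>
        Q.not_dvd_index (h.trans (relIndex_dvd_index_of_le (hQle _ Q.isPGroup')))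
    have hcg : c * g ∈ N := mem_normalizer_fintype fun x hx => by
      have := he (g * x * g⁻¹) ⟨x, hx, rfl⟩
      rw [show c * g * x * (c * g)⁻¹ = c * (g * x * g⁻¹) * c⁻¹ by group]
      exact this
    refine ⟨⟨c * g, hcg⟩, (QuotientGroup.eq.2 (?_ : g⁻¹ * (c * g) ∈ K)).symm⟩
    have := Normal.conj_mem inferInstance _ hc g⁻¹
    simpa [mul_assoc] using this
  have hN'idx : (K.subgroupOf N).index = mt := by
    have h1 : ((QuotientGroup.mk' K).comp N.subtype).ker = K.subgroupOf N := by
      rw [← MonoidHom.comap_ker, QuotientGroup.ker_mk']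
      rfl
    rw [← h1, index_ker, MonoidHom.range_eq_top_of_surjective _ hsurj, card_top, ← index_eq_card,
      hKidx]
  have hco : Nat.Coprime (Nat.card (K.subgroupOf N)) (K.subgroupOf N).index := by
    rw [hN'idx]
    exact hKco.coprime_dvd_left (card_comap_dvd_of_injective K N.subtype N.subtype_injective)
  obtain ⟨H', hH'⟩ := exists_right_complement'_of_coprime hco
  set H1 := H'.map N.subtype with hH1
  have hH1c : Nat.card H1 = mt := by
    rw [hH1, card_subtype, ← hH'.symm.index_eq_card, hN'idx]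
  have hH1ab : H1 ≤ centralizer (H1 : Set G) := by
    intro x hx
    refine mem_centralizer_iff.2 fun y hy => ?_
    have h1 : (x * y)⁻¹ * (y * x) ∈ K ⊓ H1 := mem_inf.2 ⟨by
      rw [hK, MonoidHom.mem_ker, map_mul, map_inv, hcomm x y, inv_mul_cancel],
      mul_mem (inv_mem (mul_mem hx hy)) (mul_mem hy hx)⟩
    rw [inf_eq_bot_of_coprime (hH1c.symm ▸ hKco), mem_bot] at h1
    exact (inv_mul_eq_one.1 h1).symm
  have hH1n : Group.IsNilpotent H1 :=
    @CommGroup.isNilpotent _ { (inferInstance : Group H1) with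
      mul_comm := fun x y => Subtype.ext (mem_centralizer_iff.1 (hH1ab y.2) x x.2) }
  -- classes of `q`-elements
  set E := (Q : Subgroup G) ⊓ centralizer (H1 : Set G) with hE
  have hElt : E < (Q : Subgroup G) :=
    lt_of_le_of_ne inf_le_left fun e => hno H1 hH1n hH1c Q (e ▸ inf_le_right)
  have hQc : Nat.card (Q : Subgroup G) = q ^ a := Q.card_eq_multiplicity
  have hEq := mul_card_le_of_lt (p := q) (fun r hr hd => by
    rw [hQc] at hd
    exact ((Nat.prime_dvd_prime_iff_eq hr hq.out).1 (hr.dvd_of_dvd_pow hd)).ge) hElt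
  rw [hQc] at hEq
  have hkq : p * kc {q} G ≤ q ^ a + (p - 1) * Nat.card E := by
    have := kc_le_cover (s := {q}) (Q : Subgroup G) (fun x hx => piElt_of_isPGroup Q.isPGroup' hx)
      (fun x hx => by
        obtain ⟨R, hR'⟩ := (isPGroup_of_piElt hx).exists_le_sylow
        obtain ⟨g, hg⟩ := MulAction.exists_smul_eq G R Q
        exact ⟨g, hg ▸ (⟨x, hR' (mem_zpowers x), rfl⟩ : g * x * g⁻¹ ∈
          (R : Subgroup G).map (MulAut.conj g).toMonoidHom)⟩)
      E inf_le_left p (by omega) fun x hx hxE =>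
        orbit_le_fibre (map_subtype_le H') (fun l hl hd =>
          hpt l (prime_dvd_mPart ht hl (hH1c ▸ hd))) hx hxE
    rwa [hQc] at this
  obtain ⟨D⟩ : Nonempty (Sylow q ↥(centralizer (H0 : Set G))) := inferInstance
  set Dm := ((D : Subgroup ↥(centralizer (H0 : Set G))).map
      (centralizer (H0 : Set G)).subtype : Subgroup G) with hDm
  haveI := Fintype.ofFinite Dm
  have hF : (fullClasses t q G).card ≤ Nat.card Dm := by
    choose g hg using fun B : fullClasses t q G => full_class_meets ht hH0n hH0 D B.2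
    rw [← Fintype.card_coe, ← Nat.card_eq_fintype_card]
    exact Nat.card_le_card_of_injective g fun B B' e =>
      Subtype.ext (Subtype.ext (by rw [← hg B, e, hg B']))
  have hDsmall : q * Nat.card Dm ≤ q ^ a := sylow_centralizer_small hH0n hH0 hno D
  have hw : ∀ B : {C : ConjClasses G // PiClasses.IsPiClass (↑({q} : Finset ℕ) : Set ℕ) C},
      p * kc t ↥(centralizer ({B.1.out} : Set G)) ≤
        mt + if B ∈ fullClasses t q G then (p - 1) * mt else 0 := by
    intro B
    split_ifs with hB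
    · obtain ⟨j, hj⟩ : ∃ j, p = j + 1 := ⟨p - 1, by omega⟩
      have := (kc_le_mPart t ht ↥(centralizer ({B.1.out} : Set G))).trans
        (Nat.le_of_dvd (mPart_pos ht) (mPart_subgroup_dvd (G := G) ht _))
      rw [show p - 1 = j by omega]
      nlinarith
    · rw [add_zero]
      refine not_full_bound ht hpt ih fun h => hB ?_
      unfold fullClasses
      exact Finset.mem_filter.2 ⟨Finset.mem_univ _, h⟩
  have hsum : p * kc (insert q t) G ≤ mt * (kc {q} G + (p - 1) * (fullClasses t q G).card) := by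
    refine (Nat.mul_le_mul_left p kc_insert_le).trans ?_
    rw [Finset.mul_sum]
    refine (Finset.sum_le_sum fun B _ => hw B).trans (le_of_eq ?_)
    rw [Finset.sum_add_distrib, Finset.sum_const, Finset.card_univ, ← Nat.card_eq_fintype_card,
      ← Finset.sum_filter, Finset.sum_const, smul_eq_mul, smul_eq_mul, Finset.filter_univ_mem,
      show Nat.card {C : ConjClasses G // PiClasses.IsPiClass (↑({q} : Finset ℕ) : Set ℕ) C} =
        kc {q} G from rfl]
    ring
  obtain ⟨j, hj⟩ : ∃ j, p = j + 1 := ⟨p - 1, by omega⟩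
  rw [show p - 1 = j by omega] at hkq hsum
  have hbound : q + j + p * j ≤ q * p := by nlinarith
  refine Nat.le_of_mul_le_mul_left ?_ (Nat.mul_pos hq.out.pos (show 0 < p by omega))
  have h1 : q * (p * kc {q} G) ≤ q ^ a * (q + j) := by nlinarith
  calc q * p * (p * kc (insert q t) G)
      ≤ q * p * (mt * (kc {q} G + j * (fullClasses t q G).card)) := Nat.mul_le_mul_left _ hsum
    _ = mt * (q * (p * kc {q} G) + p * j * (q * (fullClasses t q G).card)) := by ring
    _ ≤ mt * (q ^ a * (q + j) + p * j * q ^ a) := Nat.mul_le_mul_left _ (Nat.add_le_add h1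
        (Nat.mul_le_mul_left _ ((Nat.mul_le_mul_left _ hF).trans hDsmall)))
    _ = mt * q ^ a * (q + j + p * j) := by ring
    _ ≤ mt * q ^ a * (q * p) := Nat.mul_le_mul_left _ hbound
    _ = q * p * (q ^ a * mt) := by ring

include ht hpt htq hp hpq ih hH0n hH0 hno in
/-- `q`-elements fused by `N(H₀)`. -/
theorem caseB2 {n : G} (hn : n ∈ normalizer (H0 : Set G))
    (hn' : n ∉ centralizer (H0 : Set G)) (Q : Sylow q G) {m : G}
    (hm : m ∈ normalizer ((Q : Subgroup G) : Set G))
    (hm' : m ∉ centralizer ((Q : Subgroup G) : Set G)) :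
    p * kc (insert q t) G ≤ q ^ (Nat.card G).factorization q * mPart t G := by
  classical
  set a := (Nat.card G).factorization q with ha
  set mt := mPart t G with hmt
  set E := (Q : Subgroup G) ⊓ centralizer ({m} : Set G) with hE
  have hElt : E < (Q : Subgroup G) :=
    lt_of_le_of_ne inf_le_left fun e => hm' (mem_centralizer_iff.2 fun y hy =>
      mem_centralizer_singleton_iff.1 ((e ▸ hy : y ∈ E)).2)
  have hQc : Nat.card (Q : Subgroup G) = q ^ a := Q.card_eq_multiplicity
  have hEq := mul_card_le_of_lt (p := q) (fun r hr hd => by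
    rw [hQc] at hd
    exact ((Nat.prime_dvd_prime_iff_eq hr hq.out).1 (hr.dvd_of_dvd_pow hd)).ge) hElt
  rw [hQc] at hEq
  have hkq : 2 * kc {q} G ≤ q ^ a + (2 - 1) * Nat.card E := by
    have := kc_le_cover (s := {q}) (Q : Subgroup G) (fun x hx => piElt_of_isPGroup Q.isPGroup' hx)
      (fun x hx => by
        obtain ⟨R, hR'⟩ := (isPGroup_of_piElt hx).exists_le_sylow
        obtain ⟨g, hg⟩ := MulAction.exists_smul_eq G R Q
        exact ⟨g, hg ▸ (⟨x, hR' (mem_zpowers x), rfl⟩ : g * x * g⁻¹ ∈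
          (R : Subgroup G).map (MulAut.conj g).toMonoidHom)⟩)
      E inf_le_left 2 (by omega) fun x hx hxE => two_le_fibre hm hx hxE
    rwa [hQc] at this
  obtain ⟨D⟩ : Nonempty (Sylow q ↥(centralizer (H0 : Set G))) := inferInstance
  set Dm := ((D : Subgroup ↥(centralizer (H0 : Set G))).map
      (centralizer (H0 : Set G)).subtype : Subgroup G) with hDm
  haveI := Fintype.ofFinite Dm
  have hDsmall : q * Nat.card Dm ≤ q ^ a := sylow_centralizer_small hH0n hH0 hno D
  set w := fun B : {C : ConjClasses G // PiClasses.IsPiClass (↑({q} : Finset ℕ) : Set ℕ) C} =>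
    kc t ↥(centralizer ({B.1.out} : Set G)) with hwdef
  set good := (fullClasses t q G).filter fun B => ¬ 2 * p * w B ≤ mt * (p + 1) with hgood
  let fib := fun B : {C : ConjClasses G // PiClasses.IsPiClass (↑({q} : Finset ℕ) : Set ℕ) C} =>
    (Finset.univ : Finset Dm).filter fun d : Dm => ConjClasses.mk (d : G) = B.1
  -- good classes meet `Dm` twice
  have hgood2 : ∀ B ∈ good, 2 ≤ (fib B).card := by
    intro B hB
    obtain ⟨hBf, hBn⟩ := Finset.mem_filter.1 hB
    obtain ⟨d, hd⟩ := full_class_meets ht hH0n hH0 D hBf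
    obtain ⟨g, hg⟩ := isConj_iff.1
      (ConjClasses.mk_eq_mk_iff_isConj.1 (hd.trans (Quotient.out_eq B.1).symm))
    have hdC : (d : G) ∈ centralizer (H0 : Set G) := map_subtype_le _ d.2
    have hmove : ∀ n' : G, n' ∈ normalizer (H0 : Set G) → n' * d = d * n' →
        n' ∈ centralizer (H0 : Set G) := by
      intro n' hn'N hcomm
      by_contra hnc
      refine hBn ?_
      refine bound_of_moving ht hpt (C := centralizer ({B.1.out} : Set G))
        (H := H0.map (MulAut.conj g).toMonoidHom) ?_ (nilpotent_map_conj hH0n g)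
        (by rw [card_map_conj, hH0]) (n := g * n' * g⁻¹) ?_ ?_ ?_
      · rintro _ ⟨y, hy, rfl⟩
        rw [mem_centralizer_singleton_iff, ← hg]
        simp only [MulEquiv.coe_toMonoidHom, MulAut.conj_apply]
        calc g * y * g⁻¹ * (g * d * g⁻¹) = g * (y * d) * g⁻¹ := by group
          _ = g * (d * y) * g⁻¹ := by rw [mem_centralizer_iff.1 hdC y hy]
          _ = g * d * g⁻¹ * (g * y * g⁻¹) := by group
      · rw [mem_centralizer_singleton_iff, ← hg]
        calc g * n' * g⁻¹ * (g * d * g⁻¹) = g * (n' * d) * g⁻¹ := by group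
          _ = g * (d * n') * g⁻¹ := by rw [hcomm]
          _ = g * d * g⁻¹ * (g * n' * g⁻¹) := by group
      · refine mem_normalizer_fintype ?_
        rintro _ ⟨y, hy, rfl⟩
        refine ⟨n' * y * n'⁻¹, conj_mem_of_mem_normalizer hn'N hy, ?_⟩
        simp [mul_assoc]
      · intro hc
        refine hnc (mem_centralizer_iff.2 fun y hy => ?_)
        have h1 := mem_centralizer_iff.1 hc (g * y * g⁻¹) ⟨y, hy, rfl⟩
        calc y * n' = g⁻¹ * (g * y * g⁻¹ * (g * n' * g⁻¹)) * g := by group
          _ = g⁻¹ * (g * n' * g⁻¹ * (g * y * g⁻¹)) * g := by rw [h1]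
          _ = n' * y := by group
    have hd1 : n * d * n⁻¹ ∈ centralizer (H0 : Set G) := conj_mem_centralizer hn hdC
    have hdq : PiClasses.IsPiElt (↑({q} : Finset ℕ) : Set ℕ) (n * d * n⁻¹) :=
      piElt_conj (piElt_of_isPGroup (D.isPGroup'.map _) d.2) n
    obtain ⟨c, hc, hcd⟩ := conj_into_sylow D hd1 hdq
    refine Finset.one_lt_card.2 ⟨d, Finset.mem_filter.2 ⟨Finset.mem_univ _, hd⟩, ⟨_, hcd⟩,
      Finset.mem_filter.2 ⟨Finset.mem_univ _, ?_⟩, fun e => ?_⟩
    · refine Eq.trans ?_ hd
      exact ConjClasses.mk_eq_mk_iff_isConj.2 (isConj_comm.1 (isConj_iff.2 ⟨c * n, by group⟩))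
    · have h1 : (d : G) = c * (n * d * n⁻¹) * c⁻¹ := congrArg Subtype.val e
      have hcn : c * n ∈ normalizer (H0 : Set G) := mul_mem (centralizer_le_normalizer _ hc) hn
      have h2 : c * n * d = d * (c * n) := by
        calc c * n * d = c * (n * d * n⁻¹) * c⁻¹ * (c * n) := by group
          _ = d * (c * n) := by rw [← h1]
      exact hn' (((centralizer (H0 : Set G)).mul_mem_cancel_left hc).1 (hmove _ hcn h2))
  have hfull1 : ∀ B ∈ fullClasses t q G, 1 ≤ (fib B).card := fun B hB => by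
    obtain ⟨d, hd⟩ := full_class_meets ht hH0n hH0 D hB
    exact Finset.card_pos.2 ⟨d, Finset.mem_filter.2 ⟨Finset.mem_univ _, hd⟩⟩
  have hcount : (fullClasses t q G).card + good.card ≤ Nat.card Dm := by
    have h1 : ∑ B ∈ fullClasses t q G, (fib B).card ≤ Nat.card Dm := by
      rw [← Finset.card_biUnion, Nat.card_eq_fintype_card]
      · exact Finset.card_le_univ _
      · intro B _ B' _ hne
        exact Finset.disjoint_left.2 fun d hd hd' => hne (Subtype.ext
          ((Finset.mem_filter.1 hd).2.symm.trans (Finset.mem_filter.1 hd').2))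
    refine le_trans ?_ h1
    rw [hgood, Finset.card_filter, Finset.card_eq_sum_ones, ← Finset.sum_add_distrib]
    refine Finset.sum_le_sum fun B hB => ?_
    split_ifs with h
    · simpa using hfull1 B hB
    · exact hgood2 B (Finset.mem_filter.2 ⟨hB, h⟩)
  have hw : ∀ B : {C : ConjClasses G // PiClasses.IsPiClass (↑({q} : Finset ℕ) : Set ℕ) C},
      2 * p * w B ≤ mt * 2 + ((if B ∈ fullClasses t q G then (p - 1) * mt else 0) +
        if B ∈ good then (p - 1) * mt else 0) := by
    intro B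
    obtain ⟨j, hj⟩ : ∃ j, p = j + 1 := ⟨p - 1, by omega⟩
    rw [show p - 1 = j by omega]
    by_cases hB : B ∈ fullClasses t q G
    · by_cases hg : B ∈ good
      · have : w B ≤ mt := (kc_le_mPart t ht ↥(centralizer ({B.1.out} : Set G))).trans
          (Nat.le_of_dvd (mPart_pos ht) (mPart_subgroup_dvd (G := G) ht _))
        rw [if_pos hB, if_pos hg]
        nlinarith
      · have : 2 * p * w B ≤ mt * (p + 1) := by
          by_contra h
          exact hg (Finset.mem_filter.2 ⟨hB, h⟩)
        rw [if_pos hB, if_neg hg]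
        nlinarith
    · have hg : B ∉ good := fun h => hB (Finset.mem_filter.1 h).1
      have : p * w B ≤ mt := not_full_bound ht hpt ih fun h => hB (by
        unfold fullClasses
        exact Finset.mem_filter.2 ⟨Finset.mem_univ _, h⟩)
      rw [if_neg hB, if_neg hg]
      nlinarith
  have hsum : 2 * p * kc (insert q t) G ≤
      mt * (2 * kc {q} G + (p - 1) * ((fullClasses t q G).card + good.card)) := by
    refine (Nat.mul_le_mul_left (2 * p) kc_insert_le).trans ?_
    rw [Finset.mul_sum]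
    refine (Finset.sum_le_sum fun B _ => hw B).trans (le_of_eq ?_)
    rw [Finset.sum_add_distrib, Finset.sum_add_distrib, Finset.sum_const, Finset.card_univ,
      ← Nat.card_eq_fintype_card, ← Finset.sum_filter, ← Finset.sum_filter, Finset.sum_const,
      Finset.sum_const, smul_eq_mul, smul_eq_mul, smul_eq_mul, Finset.filter_univ_mem,
      Finset.filter_univ_mem,
      show Nat.card {C : ConjClasses G // PiClasses.IsPiClass (↑({q} : Finset ℕ) : Set ℕ) C} =
        kc {q} G from rfl]
    ring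
  obtain ⟨j, hj⟩ : ∃ j, p = j + 1 := ⟨p - 1, by omega⟩
  rw [show p - 1 = j by omega] at hsum
  have h1 : q * (2 * kc {q} G) ≤ q ^ a * (q + 1) := by nlinarith
  refine Nat.le_of_mul_le_mul_left ?_ (Nat.mul_pos (show 0 < 2 by omega) hq.out.pos)
  calc 2 * q * (p * kc (insert q t) G) = q * (2 * p * kc (insert q t) G) := by ring
    _ ≤ q * (mt * (2 * kc {q} G + j * ((fullClasses t q G).card + good.card))) :=
      Nat.mul_le_mul_left _ hsum
    _ = mt * (q * (2 * kc {q} G) + j * (q * ((fullClasses t q G).card + good.card))) := by ring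
    _ ≤ mt * (q ^ a * (q + 1) + j * q ^ a) := Nat.mul_le_mul_left _ (Nat.add_le_add h1
        (Nat.mul_le_mul_left _ ((Nat.mul_le_mul_left _ hcount).trans hDsmall)))
    _ ≤ 2 * q * (q ^ a * mt) := by
      have : q + 1 + j ≤ 2 * q := by omega
      calc mt * (q ^ a * (q + 1) + j * q ^ a) = mt * q ^ a * (q + 1 + j) := by ring
        _ ≤ mt * q ^ a * (2 * q) := Nat.mul_le_mul_left _ this
        _ = 2 * q * (q ^ a * mt) := by ring

end Step

/-- Many classes of `s`-elements force a nilpotent Hall `s`-subgroup. -/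
theorem exists_nilpotent_hall (s : Finset ℕ) : ∀ p : ℕ, 2 ≤ p → (∀ r ∈ s, r.Prime) →
    (∀ r ∈ s, p ≤ r) → ∀ (G : Type u) [Group G] [Finite G], mPart s G < p * kc s G →
      ∃ H : Subgroup G, Group.IsNilpotent H ∧ Nat.card H = mPart s G := by
  classical
  induction s using Finset.induction_on_max with
  | empty =>
    intro p _ _ _ G _ _ _
    exact ⟨⊥, inferInstance, by simp [mPart]⟩
  | insert q t hmax IH =>
    intro p hp hs hps G _ _ hlt
    have hqt : q ∉ t := fun h => lt_irrefl q (hmax q h)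
    have ht : ∀ r ∈ t, r.Prime := fun r hr => hs r (Finset.mem_insert_of_mem hr)
    have hpt : ∀ r ∈ t, p ≤ r := fun r hr => hps r (Finset.mem_insert_of_mem hr)
    have ih : ∀ (C : Type u) [Group C] [Finite C], mPart t C < p * kc t C →
        ∃ H : Subgroup C, Group.IsNilpotent H ∧ Nat.card H = mPart t C := IH p hp ht hpt
    haveI hq : Fact q.Prime := ⟨hs q (Finset.mem_insert_self q t)⟩
    rw [mPart_insert hqt] at hlt ⊢
    by_contra hcon
    letI := Fintype.ofFinite {C : ConjClasses G // PiClasses.IsPiClass (↑({q} : Finset ℕ) : Set ℕ) C}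
    obtain ⟨H0, hH0n, hH0⟩ : ∃ H0 : Subgroup G, Group.IsNilpotent H0 ∧ Nat.card H0 = mPart t G := by
      by_contra hnone
      refine absurd hlt (not_lt.2 ?_)
      refine (Nat.mul_le_mul_left p kc_insert_le).trans ?_
      rw [Finset.mul_sum]
      refine (Finset.sum_le_card_nsmul _ _ (mPart t G) fun B _ => not_full_bound ht hpt ih
        fun ⟨H, _, hn, hc⟩ => hnone ⟨H, hn, hc⟩).trans ?_
      rw [Finset.card_univ, smul_eq_mul, ← Nat.card_eq_fintype_card]
      exact Nat.mul_le_mul_right _ (kc_single_le G q hq.out)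
    have hno : ∀ H1 : Subgroup G, Group.IsNilpotent H1 → Nat.card H1 = mPart t G →
        ∀ Q : Sylow q G, ¬ (Q : Subgroup G) ≤ centralizer (H1 : Set G) := by
      intro H1 h1n h1c Q hle
      refine hcon ?_
      obtain ⟨H, hn, hc⟩ := exists_product Q.isPGroup'.isNilpotent h1n hle
        (by rw [Q.card_eq_multiplicity, h1c]; exact coprime_pow_mPart ht hqt _)
      exact ⟨H, hn, by rw [hc, Q.card_eq_multiplicity, h1c]⟩
    obtain ⟨r, hr⟩ : t.Nonempty := by
      rw [Finset.nonempty_iff_ne_empty]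
      intro he
      obtain ⟨Q⟩ : Nonempty (Sylow q G) := inferInstance
      have hbot : H0 = ⊥ := card_eq_one.1 (by rw [hH0, he]; simp [mPart])
      refine hno H0 hH0n hH0 Q fun x _ => mem_centralizer_iff.2 fun h hh => ?_
      have hh' : h ∈ H0 := hh
      rw [hbot, mem_bot] at hh'
      simp [hh']
    have hpq : p < q := (hpt r hr).trans_lt (hmax r hr)
    refine absurd hlt (not_lt.2 ?_)
    obtain ⟨Q⟩ : Nonempty (Sylow q G) := inferInstance
    by_cases hQ : normalizer ((Q : Subgroup G) : Set G) ≤ centralizer ((Q : Subgroup G) : Set G)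
    · exact caseA ht hpt hmax hp hpq ih hH0n hH0 hno Q hQ
    obtain ⟨m, hm, hm'⟩ := SetLike.not_le_iff_exists.1 hQ
    by_cases hN : normalizer (H0 : Set G) ≤ centralizer (H0 : Set G)
    · exact caseB1 ht hpt hmax hp hpq ih hH0n hH0 hno hN
    obtain ⟨n, hn, hn'⟩ := SetLike.not_le_iff_exists.1 hN
    exact caseB2 ht hpt hmax hp hpq ih hH0n hH0 hno hn hn' Q hm hm'

end Cfsg.Agent.Invol.PiClassBound
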