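import Cfsg.Agent.Lib.Invol.PiClassHall
import Cfsg.Agent.Lib.Grp.AutOrbits

/-!
# Counting classes of `π`-elements with `π` an arbitrary set of primes
-/

set_option autoImplicit false
set_option linter.style.haveILetI false

universe u

namespace Cfsg.Agent.Invol.PiClassBound

open Subgroup Cfsg
open Cfsg.Agent.Transfer

variable {G : Type u} [Group G] [Finite G]

/-- The nilpotent Hall subgroup, with the number of classes bounded by its class number. -/
theorem hall_of_many_classes {π : Set ℕ} {p : ℕ} (hp2 : 2 ≤ p) (hmin : ∀ q ∈ π, p ≤ q)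
    {m : ℕ} (hm : m ∣ Nat.card G) (hmπ : ∀ q : ℕ, q.Prime → q ∣ m → q ∈ π)
    (hm' : ∀ q ∈ π, ¬ q ∣ Nat.card G / m)
    {k : ℕ} (hk : k = Nat.card {C : ConjClasses G // PiClasses.IsPiClass π C})
    (hmany : m < p * k) :
    ∃ H : Subgroup G, Nat.card H = m ∧ Group.IsNilpotent H ∧
      (∀ r : ℕ, r.Prime → r ∣ m → p ≤ r) ∧ k ≤ Nat.card (ConjClasses H) := by
  classical
  set s := (Nat.card G).primeFactors.filter (· ∈ π) with hs
  have hsp : ∀ r ∈ s, r.Prime := fun r hr =>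
    Nat.prime_of_mem_primeFactors (Finset.mem_filter.1 hr).1
  have hmem : ∀ r : ℕ, r.Prime → r ∣ Nat.card G → r ∈ π → r ∈ s := fun r hr hd hπ =>
    Finset.mem_filter.2 ⟨Nat.mem_primeFactors.2 ⟨hr, hd, Nat.card_pos.ne'⟩, hπ⟩
  have hms : mPart s G = m := by
    refine Nat.dvd_antisymm ?_ (dvd_mPart hsp hm fun r hr hd => hmem r hr (hd.trans hm) (hmπ r hr hd))
    have hco : Nat.Coprime (mPart s G) (Nat.card G / m) := Nat.coprime_of_dvd fun r hr h1 h2 =>
      hm' r (Finset.mem_filter.1 (prime_dvd_mPart hsp hr h1)).2 h2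
    refine hco.dvd_of_dvd_mul_right ?_
    rw [Nat.mul_div_cancel' hm]
    exact mPart_dvd hsp
  have hequiv : ∀ C : ConjClasses G,
      PiClasses.IsPiClass π C ↔ PiClasses.IsPiClass (↑s : Set ℕ) C := fun C => by
    refine ⟨fun h q hq hex => ?_, fun h q hq hex => (Finset.mem_filter.1 (h q hq hex)).2⟩
    obtain ⟨g, hg, hd⟩ := hex
    exact Finset.mem_coe.2 (hmem q hq (hd.trans (orderOf_dvd_natCard g)) (h q hq ⟨g, hg, hd⟩))
  have hks : k = kc s G := hk.trans (Nat.card_congr (Equiv.subtypeEquivRight hequiv))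
  obtain ⟨H, hHn, hHc⟩ := exists_nilpotent_hall s p hp2 hsp
    (fun r hr => hmin r (Finset.mem_filter.1 hr).2) G (by rw [hms, ← hks]; exact hmany)
  refine ⟨H, hHc.trans hms, hHn, fun r hr hd => hmin r (hmπ r hr hd), ?_⟩
  rw [hks]
  have key : ∀ C : {C : ConjClasses G // PiClasses.IsPiClass (↑s : Set ℕ) C},
      ∃ D : ConjClasses H, ConjClasses.mk (D.out : G) = C.1 := by
    rintro ⟨C, hC⟩
    obtain ⟨x, rfl⟩ := ConjClasses.mk_surjective C
    obtain ⟨g, -, hg⟩ := conj_into_hall hsp hHc hHn le_top (mem_top x)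
      ((PiClasses.isPiClass_iff _ _ rfl).1 hC)
    refine ⟨ConjClasses.mk ⟨_, hg⟩, ?_⟩
    obtain ⟨c, hc⟩ := isConj_iff.1
      (ConjClasses.mk_eq_mk_iff_isConj.1 (Quotient.out_eq (ConjClasses.mk (⟨_, hg⟩ : H))).symm)
    exact ConjClasses.mk_eq_mk_iff_isConj.2 (isConj_comm.1
      ((isConj_iff.2 ⟨g, rfl⟩ : IsConj x (g * x * g⁻¹)).trans
        (isConj_iff.2 ⟨(c : G), congrArg Subtype.val hc⟩)))
  choose f hf using key
  exact Nat.card_le_card_of_injective f fun a b e => Subtype.ext (by rw [← hf a, e, hf b])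

theorem min_divisor {n p : ℕ} (h : ∀ r : ℕ, r.Prime → r ∣ n → p ≤ r) (hn : 0 < n)
    {d : ℕ} (hd : d ∣ n) (hd1 : d ≠ 1) : p ≤ d := by
  obtain ⟨r, hr, hrd⟩ := Nat.exists_prime_and_dvd hd1
  exact (h r hr (hrd.trans hd)).trans (Nat.le_of_dvd (Nat.pos_of_dvd_of_pos hd hn) hrd)

/-- Many classes in a group force a small derived subgroup. -/
theorem card_commutator_le {H : Type u} [Group H] [Finite H] {p : ℕ} (hp2 : 2 ≤ p)
    (hr : ∀ r : ℕ, r.Prime → r ∣ Nat.card H → p ≤ r)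
    (hmany : Nat.card H < p * Nat.card (ConjClasses H)) :
    Nat.card (commutator H) ≤ p := by
  have h1 := Grp.AutOrb.sq_mul_card_conjClasses_le (G := H) (p := p)
    fun d hd hd1 => min_divisor hr Nat.card_pos hd hd1
  have h2 := (commutator H).card_mul_index
  set i := (commutator H).index
  set c := Nat.card (commutator H)
  set K := Nat.card (ConjClasses H)
  have hi : 0 < i := Nat.pos_of_ne_zero index_ne_zero_of_finite
  rw [← h2] at h1 hmany
  by_contra hc
  obtain ⟨j, hj⟩ : ∃ j, p = j + 1 := ⟨p - 1, by omega⟩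
  obtain ⟨e, he⟩ : ∃ e, c = p + 1 + e := ⟨c - (p + 1), by omega⟩
  have h3 : p * (c * i) + p ≤ p * (p * K) := by nlinarith
  rw [he, hj] at h3
  rw [he, hj] at h1
  nlinarith [Nat.zero_le (j * e * i)]

/-- Very many classes in a group force it to be commutative. -/
theorem commutative_of_many {H : Type u} [Group H] [Finite H] {p : ℕ} (hp2 : 2 ≤ p)
    (hr : ∀ r : ℕ, r.Prime → r ∣ Nat.card H → p ≤ r)
    (hmany : Nat.card H * (p ^ 2 + p - 1) < p ^ 3 * Nat.card (ConjClasses H)) :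
    IsMulCommutative H := by
  by_contra hnab
  have hmin : ∀ d : ℕ, d ∣ Nat.card H → d ≠ 1 → p ≤ d :=
    fun d hd hd1 => min_divisor hr Nat.card_pos hd hd1
  have h1 := Grp.AutOrb.mul_card_classes_le (G := H) hmin (by omega) Set.univ Set.univ
    fun c _ => Set.subset_univ _
  rw [Nat.card_univ, Nat.card_univ] at h1
  have h2 := (center H).card_mul_index
  set Z := Nat.card (center H)
  set d := (center H).index with hd
  have hd0 : d ≠ 0 := index_ne_zero_of_finite
  have hd1 : d ≠ 1 := fun e => hnab ⟨⟨fun a b => (mem_center_iff.1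
    ((index_eq_one.1 e).symm ▸ mem_top b) a)⟩⟩
  have hnp : ¬ d.Prime := fun hprime => hnab (by
    haveI : Fact d.Prime := ⟨hprime⟩
    haveI : IsCyclic (H ⧸ center H) := isCyclic_of_prime_card (p := d) (by rw [hd, index_eq_card])
    exact isMulCommutative_of_isCyclic_quotient_center_self H)
  obtain ⟨r, hrp, hrd⟩ := Nat.exists_prime_and_dvd hd1
  obtain ⟨d', hd'⟩ := hrd
  have hd'1 : d' ≠ 1 := fun e => hnp (by rw [hd', e, mul_one]; exact hrp)
  have hdH : d ∣ Nat.card H := index_dvd_card _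
  have hpd : p * p ≤ d := by
    rw [hd']
    exact Nat.mul_le_mul (hr r hrp ((hd' ▸ dvd_mul_right r d').trans hdH))
      (hmin d' ((hd' ▸ dvd_mul_left d' r).trans hdH) hd'1)
  have h3 : Z * (p * p) ≤ Nat.card H := by rw [← h2]; exact Nat.mul_le_mul_left _ hpd
  obtain ⟨j, hj⟩ : ∃ j, p = j + 1 := ⟨p - 1, by omega⟩
  rw [show p - 1 = j by omega] at h1
  have h4 : p ^ 2 + p - 1 = p ^ 2 + j := by omega
  rw [h4] at hmany
  have h5 := Nat.mul_le_mul_left (p ^ 2) h1
  have h6 := Nat.mul_le_mul_left j h3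
  nlinarith

end Cfsg.Agent.Invol.PiClassBound
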