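import Mathlib
import Cfsg.Agent.Lib.Grp.Subnormal
import Cfsg.Agent.Lib.Grp.SubnormalJoin

/-!
# A Sylow subgroup of a group generated by subnormal subgroups

If a finite group is generated by subnormal subgroups then a Sylow subgroup is generated by its
intersections with them.
-/

namespace Cfsg.Agent.Invol.SnSyl

universe u

variable {G : Type u} [Group G] [Finite G] {p : ℕ} [hp : Fact p.Prime]

theorem coprime_orderOf_conj (t x : G) (h : Nat.Coprime (orderOf x) p) :
    Nat.Coprime (orderOf (t * x * t⁻¹)) p := by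
  rwa [show orderOf (t * x * t⁻¹) = orderOf x from (MulAut.conj t).orderOf_eq x]

/-- The `p'`-elements of `A` together with a Sylow `p`-subgroup of `A` generate `A`. -/
theorem le_sylow_sup (S : Sylow p G) {A : Subgroup G} (hA : A.IsSubnormal) :
    A ≤ (A ⊓ (S : Subgroup G)) ⊔ Subgroup.closure {x : G | x ∈ A ∧ Nat.Coprime (orderOf x) p} := by
  set L := Subgroup.closure {x : G | x ∈ A ∧ Nat.Coprime (orderOf x) p} with hL
  set X := (A ⊓ (S : Subgroup G)) ⊔ L
  have hXA : X ≤ A := sup_le inf_le_left ((Subgroup.closure_le _).mpr fun x hx => hx.1)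
  refine Subgroup.relIndex_eq_one.mp (Nat.eq_one_iff_not_exists_prime_dvd.mpr fun q hq hdvd => ?_)
  rcases eq_or_ne q p with rfl | hqp
  · refine Grp.not_dvd_relIndex_sylow S hA ?_
    have hd : X.relIndex A ∣ (A ⊓ (S : Subgroup G)).relIndex A :=
      Subgroup.relIndex_dvd_of_le_left A le_sup_left
    rw [Subgroup.inf_relIndex_left] at hd
    exact hdvd.trans hd
  · haveI := Fact.mk hq
    obtain ⟨Q⟩ := (inferInstance : Nonempty (Sylow q A))
    have hQ : (Q : Subgroup A) ≤ X.subgroupOf A := by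
      intro x hx
      rw [Subgroup.mem_subgroupOf]
      refine le_sup_right (a := A ⊓ (S : Subgroup G)) (Subgroup.subset_closure ⟨x.2, ?_⟩)
      obtain ⟨k, hk⟩ := (IsPGroup.iff_orderOf.mp Q.isPGroup') ⟨x, hx⟩
      rw [Subgroup.orderOf_mk] at hk
      rw [Subgroup.orderOf_coe, hk]
      exact Nat.Coprime.pow_left k ((Nat.coprime_primes hq hp.out).mpr hqp)
    exact Q.not_dvd_index (hdvd.trans (Subgroup.index_dvd_of_le hQ))

/-- The image of the intersection with a Sylow subgroup, for a subnormal subgroup. -/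
theorem map_inf_sylow {G' : Type u} [Group G'] [Finite G'] (f : G →* G') (hf : Function.Surjective f)
    (S : Sylow p G) {A : Subgroup G} (hA : A.IsSubnormal) :
    A.map f ⊓ (S.mapSurjective hf : Subgroup G') ≤ (A ⊓ (S : Subgroup G)).map f := by
  rw [Sylow.coe_mapSurjective]
  set K := (A ⊓ (S : Subgroup G)).map f
  set M := A.map f ⊓ (S : Subgroup G).map f
  have hKM : K ≤ M := le_inf (Subgroup.map_mono inf_le_left) (Subgroup.map_mono inf_le_right)
  have hM : IsPGroup p M := (S.isPGroup'.map f).to_le inf_le_right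
  obtain ⟨k, hk⟩ : ∃ k, K.relIndex M = p ^ k := hM.index _
  refine Subgroup.relIndex_eq_one.mp ?_
  rcases Nat.eq_zero_or_pos k with rfl | h
  · simpa using hk
  exfalso
  refine Grp.not_dvd_relIndex_sylow S hA ?_
  have h1 : p ∣ K.relIndex (A.map f) := (hk ▸ dvd_pow_self p h.ne').trans
    (Dvd.intro _ (Subgroup.relIndex_mul_relIndex K M (A.map f) hKM inf_le_left))
  have e1 : ((S : Subgroup G).subgroupOf A).map (f.comp A.subtype) = K := by
    rw [← Subgroup.map_map, Subgroup.subgroupOf_map_subtype, inf_comm]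
  have e2 : (⊤ : Subgroup A).map (f.comp A.subtype) = A.map f := by
    rw [← Subgroup.map_map, ← MonoidHom.range_eq_map, Subgroup.range_subtype]
  rw [← e1, ← e2, Subgroup.relIndex_map_map, top_sup_eq, Subgroup.relIndex_top_right] at h1
  exact h1.trans (Subgroup.index_dvd_of_le le_sup_left)

/-- The statement proved by induction. -/
def Claim (p : ℕ) [Fact p.Prime] (n : ℕ) : Prop :=
  ∀ (G : Type u) [Group G] [Finite G], Nat.card G = n → ∀ (S : Sylow p G) (𝒜 : Set (Subgroup G)),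
    (∀ A ∈ 𝒜, A.IsSubnormal) → sSup 𝒜 = ⊤ → ∀ T : Subgroup G, T ≤ S →
      (∀ A ∈ 𝒜, A ⊓ (S : Subgroup G) ≤ T) → (S : Subgroup G) ≤ T

theorem descend (ih : ∀ m < Nat.card G, Claim.{u} p m) (S : Sylow p G) {N : Subgroup G}
    (hN : N.Normal) (hne : N ≠ ⊤) (ℬ : Set (Subgroup G)) (hsn : ∀ B ∈ ℬ, B.IsSubnormal)
    (hsup : N ≤ sSup ℬ) (hle : ∀ B ∈ ℬ, B ≤ N) {T : Subgroup G} (hT : T ≤ (S : Subgroup G))
    (hB : ∀ B ∈ ℬ, B ⊓ (S : Subgroup G) ≤ T) : N ⊓ (S : Subgroup G) ≤ T := by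
  have hcard : Nat.card N < Nat.card G :=
    (Nat.le_of_dvd Nat.card_pos (Subgroup.card_subgroup_dvd_card N)).lt_of_ne
      fun e => hne (Subgroup.eq_top_of_card_eq N e)
  have hp' : IsPGroup p ((S : Subgroup G).subgroupOf N) := S.isPGroup'.comap_subtype
  have hidx : ¬ p ∣ ((S : Subgroup G).subgroupOf N).index :=
    Grp.not_dvd_relIndex_sylow S hN.isSubnormal
  have h := ih _ hcard N rfl (hp'.toSylow hidx) ((fun B => B.subgroupOf N) '' ℬ)
    (by rintro _ ⟨B, hB', rfl⟩; exact (hsn B hB').subgroupOf)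
    (by
      apply Subgroup.map_injective N.subtype_injective
      refine le_antisymm (Subgroup.map_mono le_top) ?_
      rw [← MonoidHom.range_eq_map, Subgroup.range_subtype]
      refine hsup.trans (sSup_le fun B hB' => ?_)
      rw [← Subgroup.map_subgroupOf_eq_of_le (hle B hB')]
      exact Subgroup.map_mono (le_sSup ⟨B, hB', rfl⟩))
    ((T ⊓ N).subgroupOf N) (fun x hx => hT hx.1)
    (by rintro _ ⟨B, hB', rfl⟩ x hx; exact ⟨hB B hB' hx, x.2⟩)
  intro x hx
  exact (h (show (⟨x, hx.1⟩ : N) ∈ (S : Subgroup G).subgroupOf N from hx.2)).1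

/-- A homomorphism to a `p`-group kills the `p'`-elements. -/
theorem eq_one_of_coprime {M : Type*} [Group M] (hM : IsPGroup p M) (f : G →* M) {x : G}
    (hx : Nat.Coprime (orderOf x) p) : f x = 1 := by
  obtain ⟨k, hk⟩ := (IsPGroup.iff_orderOf.mp hM) (f x)
  have h := orderOf_map_dvd f x
  rw [hk] at h
  rw [← orderOf_eq_one_iff, hk]
  exact Nat.eq_one_of_dvd_coprimes (Nat.Coprime.pow_right k hx) h dvd_rfl

theorem claim : ∀ n, Claim.{u} p n := by
  intro n
  induction n using Nat.strong_induction_on with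
  | _ n ih =>
  intro G _ _ hn S 𝒜 hsn hsup T hTS hT
  classical
  subst hn
  by_cases hG : Subsingleton G
  · intro x _; rw [Subsingleton.elim x 1]; exact T.one_mem
  set gen : Set G := {y : G | ∃ A ∈ 𝒜, ∃ t ∈ T, ∃ x ∈ A, Nat.Coprime (orderOf x) p ∧ t * x * t⁻¹ = y}
    with hgen
  set W := Subgroup.closure gen with hW
  have hTW : T ≤ Subgroup.normalizer (W : Set G) := by
    have key : ∀ t ∈ T, ∀ y ∈ W, t * y * t⁻¹ ∈ W := by
      intro t ht y hy
      have hle : W ≤ W.comap (MulAut.conj t).toMonoidHom := by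
        refine (Subgroup.closure_le _).mpr ?_
        rintro z ⟨A, hA, s, hs, x, hx, hc, rfl⟩
        refine Subgroup.subset_closure ⟨A, hA, t * s, T.mul_mem ht hs, x, hx, hc, ?_⟩
        simp [mul_assoc]
      exact hle hy
    intro t ht
    refine Subgroup.mem_normalizer_iff.mpr fun y => ⟨key t ht y, fun h => ?_⟩
    simpa [mul_assoc] using key t⁻¹ (T.inv_mem ht) _ h
  have hATW : ∀ A ∈ 𝒜, A ≤ T ⊔ W := fun A hA => (le_sylow_sup S (hsn A hA)).trans
    (sup_le ((hT A hA).trans le_sup_left) ((Subgroup.closure_le _).mpr fun x hx =>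
      le_sup_right (a := T) (Subgroup.subset_closure
        ⟨A, hA, 1, T.one_mem, x, hx.1, hx.2, by simp⟩)))
  have htop : T ⊔ W = ⊤ := top_le_iff.mp (hsup ▸ sSup_le hATW)
  have hWn : W.Normal := Subgroup.normalizer_eq_top_iff.mp
    (top_le_iff.mp (htop ▸ sup_le hTW Subgroup.le_normalizer))
  by_cases hWtop : W = ⊤
  swap
  · -- proper `p'`-generated normal subgroup: use induction
    have hWS : W ⊓ (S : Subgroup G) ≤ T := by
      refine descend (fun m hm => ih m hm) S hWn hWtop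
        {B | ∃ A ∈ 𝒜, ∃ t ∈ T, A.map (MulAut.conj t).toMonoidHom ⊓ W = B} ?_ ?_ ?_ hTS ?_
      · rintro _ ⟨A, hA, t, -, rfl⟩
        exact ((hsn A hA).map (MulAut.conj t).surjective).inf hWn.isSubnormal
      · refine (Subgroup.closure_le _).mpr ?_
        rintro _ ⟨A, hA, t, ht, x, hx, hc, rfl⟩
        have hm : A.map (MulAut.conj t).toMonoidHom ⊓ W ∈
            {B : Subgroup G | ∃ A ∈ 𝒜, ∃ t ∈ T, A.map (MulAut.conj t).toMonoidHom ⊓ W = B} :=
          ⟨A, hA, t, ht, rfl⟩
        refine le_sSup hm ?_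
        exact ⟨⟨x, hx, rfl⟩, Subgroup.subset_closure ⟨A, hA, t, ht, x, hx, hc, rfl⟩⟩
      · rintro _ ⟨A, -, t, -, rfl⟩; exact inf_le_right
      · rintro _ ⟨A, hA, t, ht, rfl⟩ _ ⟨⟨⟨x, hx, rfl⟩, -⟩, hS⟩
        show t * x * t⁻¹ ∈ T
        have hxS : x ∈ (S : Subgroup G) := by
          have hS' : t * x * t⁻¹ ∈ (S : Subgroup G) := hS
          have := (S : Subgroup G).mul_mem ((S : Subgroup G).mul_mem
            ((S : Subgroup G).inv_mem (hTS ht)) hS') (hTS ht)
          simpa [mul_assoc] using this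
        exact T.mul_mem (T.mul_mem ht (hT A hA ⟨hx, hxS⟩)) (T.inv_mem ht)
    intro s hs
    obtain ⟨t, ht, w, hw, rfl⟩ := Subgroup.mem_sup_of_normal_right.mp
      (show s ∈ T ⊔ W from htop ▸ Subgroup.mem_top s)
    refine T.mul_mem ht (hWS ⟨hw, ?_⟩)
    have := (S : Subgroup G).mul_mem ((S : Subgroup G).inv_mem (hTS ht)) hs
    rwa [← mul_assoc, inv_mul_cancel, one_mul] at this
  -- `G` is generated by `p'`-elements
  have hnohom : ∀ (M : Type u) [Group M], IsPGroup p M → ∀ f : G →* M, ∀ g, f g = 1 := by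
    intro M _ hM f g
    have : W ≤ f.ker := (Subgroup.closure_le _).mpr fun y hy => by
      obtain ⟨A, -, t, -, x, -, hc, rfl⟩ := hy
      exact eq_one_of_coprime hM f (coprime_orderOf_conj t x hc)
    exact this (hWtop ▸ Subgroup.mem_top g)
  haveI : Nontrivial G := not_subsingleton_iff_nontrivial.mp hG
  obtain ⟨R, hRn, hR1, -, hRmin⟩ := Grp.exists_minimal_normal_le (N := (⊤ : Subgroup G))
    (fun h => hG ((Subgroup.subsingleton_iff).mp (subsingleton_of_bot_eq_top h.symm)))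
  haveI := hRn
  -- modulo `R`
  have hSTR : (S : Subgroup G) ≤ T ⊔ R := by
    have hlt : Nat.card (G ⧸ R) < Nat.card G := by
      rw [R.card_eq_card_quotient_mul_card_subgroup]
      exact lt_mul_of_one_lt_right Nat.card_pos
        ((Subgroup.one_lt_card_iff_ne_bot R).mpr hR1)
    set f := QuotientGroup.mk' R
    have hf := QuotientGroup.mk'_surjective R
    have h := ih _ hlt (G ⧸ R) rfl (S.mapSurjective hf) ((fun A => A.map f) '' 𝒜)
      (by rintro _ ⟨A, hA, rfl⟩; exact (hsn A hA).map hf)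
      (by
        have := congrArg (Subgroup.map f) hsup
        rw [sSup_eq_iSup, Subgroup.map_top_of_surjective f hf] at this
        simp only [Subgroup.map_iSup] at this
        rw [sSup_image]; exact this)
      (T.map f) (by rw [Sylow.coe_mapSurjective]; exact Subgroup.map_mono hTS)
      (by
        rintro _ ⟨A, hA, rfl⟩
        exact (map_inf_sylow f hf S (hsn A hA)).trans (Subgroup.map_mono (hT A hA)))
    rw [Sylow.coe_mapSurjective, Subgroup.map_le_map_iff, QuotientGroup.ker_mk'] at h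
    exact h
  suffices hRS : R ⊓ (S : Subgroup G) ≤ T by
    intro s hs
    obtain ⟨t, ht, r, hr, rfl⟩ := Subgroup.mem_sup_of_normal_right.mp (hSTR hs)
    refine T.mul_mem ht (hRS ⟨hr, ?_⟩)
    have := (S : Subgroup G).mul_mem ((S : Subgroup G).inv_mem (hTS ht)) hs
    rwa [← mul_assoc, inv_mul_cancel, one_mul] at this
  have hRN : ∀ A ∈ 𝒜, R ≤ Subgroup.normalizer (A : Set G) := fun A hA =>
    Grp.SnJoin.minimal_le_normalizer _ G rfl R hRn hRmin A (hsn A hA)
  have hcomm : ∀ A ∈ 𝒜, ∀ x ∈ R, ∀ b ∈ A, b * x * b⁻¹ * x⁻¹ ∈ A ⊓ R := by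
    intro A hA x hx b hb
    refine ⟨?_, R.mul_mem (hRn.conj_mem x hx b) (R.inv_mem hx)⟩
    rw [show b * x * b⁻¹ * x⁻¹ = b * (x * b⁻¹ * x⁻¹) by group]
    exact A.mul_mem hb ((Subgroup.mem_normalizer_iff.mp (hRN A hA hx) _).mp (A.inv_mem hb))
  set R₀ := sSup ((fun A => A ⊓ R) '' 𝒜) with hR₀
  have hR₀le : R₀ ≤ R := sSup_le (by rintro _ ⟨A, -, rfl⟩; exact inf_le_right)
  have hR₀n : R₀.Normal := by
    refine Subgroup.normalizer_eq_top_iff.mp (top_le_iff.mp (hsup ▸ sSup_le fun A hA => ?_))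
    have key : ∀ b ∈ A, ∀ x ∈ R₀, b * x * b⁻¹ ∈ R₀ := by
      intro b hb x hx
      have := R₀.mul_mem ((le_sSup (Set.mem_image_of_mem (fun A => A ⊓ R) hA) : A ⊓ R ≤ R₀)
        (hcomm A hA x (hR₀le hx) b hb)) hx
      simpa [mul_assoc] using this
    intro b hb
    refine Subgroup.mem_normalizer_iff.mpr fun y => ⟨key b hb y, fun h => ?_⟩
    simpa [mul_assoc] using key b⁻¹ (A.inv_mem hb) _ h
  rcases hRmin R₀ hR₀n hR₀le with h0 | h0
  swap
  · -- generated by the intersections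
    by_cases hRtop : R = ⊤
    · subst hRtop
      obtain ⟨A, hA, hA1⟩ : ∃ A ∈ 𝒜, A ≠ ⊥ := by
        by_contra hh
        push Not at hh
        rw [show sSup 𝒜 = (⊥ : Subgroup G) from le_bot_iff.mp (sSup_le fun A hA => (hh A hA).le)] at hsup
        exact hR1 hsup.symm
      rcases hsn A hA |>.lt_normal with rfl | ⟨K, hK, hAK, hlt⟩
      · exact hT ⊤ hA
      · rcases hRmin K hK le_top with rfl | rfl
        · exact absurd (le_bot_iff.mp hAK) hA1
        · exact absurd rfl hlt.ne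
    refine descend (fun m hm => ih m hm) S hRn hRtop ((fun A => A ⊓ R) '' 𝒜) ?_ h0.ge ?_ hTS ?_
    · rintro _ ⟨A, hA, rfl⟩; exact (hsn A hA).inf hRn.isSubnormal
    · rintro _ ⟨A, -, rfl⟩; exact inf_le_right
    · rintro _ ⟨A, hA, rfl⟩; exact (inf_le_inf_right _ inf_le_left).trans (hT A hA)
  -- `R` is central
  have hcent : ∀ x ∈ R, ∀ g : G, g * x = x * g := by
    intro x hx g
    have : (⊤ : Subgroup G) ≤ Subgroup.centralizer {x} := hsup ▸ sSup_le fun A hA b hb => by
      rw [Subgroup.mem_centralizer_singleton_iff]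
      have hb' := le_sSup (Set.mem_image_of_mem (fun A => A ⊓ R) hA) (hcomm A hA x hx b hb)
      rw [← hR₀, h0, Subgroup.mem_bot, mul_inv_eq_one, mul_inv_eq_iff_eq_mul] at hb'
      exact hb'
    exact Subgroup.mem_centralizer_singleton_iff.mp (this (Subgroup.mem_top g))
  rintro z ⟨hzR, hzS⟩
  by_contra hzT
  have hTn : (T.subgroupOf (S : Subgroup G)).Normal := by
    refine ⟨fun x hx s => ?_⟩
    obtain ⟨t, ht, r, hr, hs⟩ := Subgroup.mem_sup_of_normal_right.mp (hSTR s.2)
    rw [Subgroup.mem_subgroupOf] at hx ⊢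
    simp only [Subgroup.coe_mul, Subgroup.coe_inv]
    rw [← hs, show t * r * (x : G) * (t * r)⁻¹ = t * (r * x) * r⁻¹ * t⁻¹ by group,
      ← hcent r hr (x : G), show t * ((x : G) * r) * r⁻¹ * t⁻¹ = t * x * t⁻¹ by group]
    exact T.mul_mem (T.mul_mem ht hx) (T.inv_mem ht)
  have hab : ∀ a b : ↥(S : Subgroup G) ⧸ T.subgroupOf (S : Subgroup G), a * b = b * a := by
    intro a b
    obtain ⟨s, rfl⟩ := QuotientGroup.mk_surjective a
    obtain ⟨s', rfl⟩ := QuotientGroup.mk_surjective b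
    obtain ⟨t, ht, r, hr, hs⟩ := Subgroup.mem_sup_of_normal_right.mp (hSTR s.2)
    obtain ⟨t', ht', r', hr', hs'⟩ := Subgroup.mem_sup_of_normal_right.mp (hSTR s'.2)
    rw [← QuotientGroup.mk_mul, ← QuotientGroup.mk_mul, QuotientGroup.eq, Subgroup.mem_subgroupOf]
    simp only [Subgroup.coe_mul, Subgroup.coe_inv]
    rw [← hs, ← hs']
    have e1 : t * r * (t' * r') = t * t' * (r * r') := by
      rw [mul_assoc, ← mul_assoc r, ← hcent r hr t']; group
    have e2 : t' * r' * (t * r) = t' * t * (r * r') := by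
      rw [mul_assoc, ← mul_assoc r', ← hcent r' hr' t, ← hcent r hr r']; group
    rw [e1, e2, show (t * t' * (r * r'))⁻¹ * (t' * t * (r * r')) =
      (r * r')⁻¹ * ((t * t')⁻¹ * (t' * t) * (r * r')) by group,
      hcent _ (R.mul_mem hr hr') ((t * t')⁻¹ * (t' * t))]
    simp only [inv_mul_cancel_left]
    exact T.mul_mem (T.inv_mem (T.mul_mem ht ht')) (T.mul_mem ht' ht)
  letI : CommGroup (↥(S : Subgroup G) ⧸ T.subgroupOf (S : Subgroup G)) :=
    { (inferInstance : Group (↥(S : Subgroup G) ⧸ T.subgroupOf (S : Subgroup G))) with mul_comm := hab }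
  set φ : ↥(S : Subgroup G) →* ↥(S : Subgroup G) ⧸ T.subgroupOf (S : Subgroup G) :=
    QuotientGroup.mk' (T.subgroupOf (S : Subgroup G))
  have hq : IsPGroup p (↥(S : Subgroup G) ⧸ T.subgroupOf (S : Subgroup G)) :=
    S.isPGroup'.to_quotient _
  have hv := hnohom _ hq (MonoidHom.transfer φ) z
  rw [MonoidHom.transfer_eq_pow φ z fun k g₀ _ => by
    rw [mul_assoc, ← hcent (z ^ k) (R.pow_mem hzR k) g₀, inv_mul_cancel_left]] at hv
  rw [QuotientGroup.mk'_apply, QuotientGroup.eq_one_iff, Subgroup.mem_subgroupOf] at hv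
  apply hzT
  obtain ⟨k, hk⟩ := (IsPGroup.iff_orderOf.mp S.isPGroup') ⟨z, hzS⟩
  rw [Subgroup.orderOf_mk] at hk
  have hco : Nat.Coprime (S : Subgroup G).index (orderOf z) := by
    rw [hk]; exact Nat.Coprime.pow_right k ((hp.out.coprime_iff_not_dvd).mpr S.not_dvd_index).symm
  have h1 := Subgroup.zpowers_le.mpr (show z ^ (S : Subgroup G).index ∈ T from hv)
  exact h1 (by
    rw [Subgroup.mem_zpowers_iff]
    refine ⟨Nat.gcdA (S : Subgroup G).index (orderOf z), ?_⟩
    have hb := Nat.gcd_eq_gcd_ab (S : Subgroup G).index (orderOf z)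
    rw [Nat.Coprime.gcd_eq_one hco, Nat.cast_one] at hb
    calc (z ^ (S : Subgroup G).index) ^ Nat.gcdA (S : Subgroup G).index (orderOf z)
        = z ^ ((1 : ℤ) - (orderOf z : ℤ) * Nat.gcdB (S : Subgroup G).index (orderOf z)) := by
          rw [← zpow_natCast z, ← zpow_mul]; congr 1; linarith
      _ = z := by
          rw [zpow_sub, zpow_one, zpow_mul, zpow_natCast, pow_orderOf_eq_one, one_zpow, inv_one, mul_one])

/-- A Sylow subgroup of the join of two subnormal subgroups. -/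
theorem sup_inf_sylow (S : Sylow p G) {A B : Subgroup G} (hA : A.IsSubnormal) (hB : B.IsSubnormal) :
    (A ⊔ B) ⊓ (S : Subgroup G) = (A ⊓ (S : Subgroup G)) ⊔ (B ⊓ (S : Subgroup G)) := by
  refine le_antisymm ?_ (sup_le (inf_le_inf_right _ le_sup_left) (inf_le_inf_right _ le_sup_right))
  set J := A ⊔ B
  set T := (A ⊓ (S : Subgroup G)) ⊔ (B ⊓ (S : Subgroup G))
  obtain ⟨P, hP⟩ := (S.isPGroup'.comap_subtype (H := (S : Subgroup G)) (K := J)).exists_le_sylow
  have hsame : ∀ C : Subgroup G, C.IsSubnormal → C ≤ J →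
      C.subgroupOf J ⊓ (P : Subgroup J) ≤ (C ⊓ (S : Subgroup G)).subgroupOf J := by
    intro C hC hCJ
    have hp' : IsPGroup p ↥((C.subgroupOf J ⊓ (P : Subgroup J)).map J.subtype) :=
      (P.isPGroup'.to_le inf_le_right).map _
    have hle : C ⊓ (S : Subgroup G) ≤ (C.subgroupOf J ⊓ (P : Subgroup J)).map J.subtype :=
      fun x hx => ⟨⟨x, hCJ hx.1⟩, ⟨hx.1, hP hx.2⟩, rfl⟩
    have hCle : (C.subgroupOf J ⊓ (P : Subgroup J)).map J.subtype ≤ C := by
      rintro _ ⟨x, hx, rfl⟩; exact hx.1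
    obtain ⟨k, hk⟩ : ∃ k, (C ⊓ (S : Subgroup G)).relIndex
        ((C.subgroupOf J ⊓ (P : Subgroup J)).map J.subtype) = p ^ k := hp'.index _
    intro x hx
    suffices hh : (C.subgroupOf J ⊓ (P : Subgroup J)).map J.subtype ≤ C ⊓ (S : Subgroup G) from
      hh ⟨x, hx, rfl⟩
    refine Subgroup.relIndex_eq_one.mp ?_
    rcases Nat.eq_zero_or_pos k with rfl | h
    · simpa using hk
    exfalso
    refine Grp.not_dvd_relIndex_sylow S hC ?_
    rw [← Subgroup.inf_relIndex_left C (S : Subgroup G)]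
    exact (hk ▸ dvd_pow_self p h.ne').trans
      (Dvd.intro _ (Subgroup.relIndex_mul_relIndex _ _ C hle hCle))
  have h := claim _ J rfl P {A.subgroupOf J, B.subgroupOf J}
    (by rintro C (rfl | rfl); exacts [hA.subgroupOf, hB.subgroupOf])
    (by rw [sSup_pair, ← Subgroup.subgroupOf_sup le_sup_left le_sup_right, Subgroup.subgroupOf_self])
    ((T.subgroupOf J) ⊓ (P : Subgroup J)) inf_le_right
    (by
      rintro C (rfl | rfl)
      · exact le_inf (((hsame A hA le_sup_left)).trans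
          (Subgroup.comap_mono le_sup_left)) inf_le_right
      · exact le_inf (((hsame B hB le_sup_right)).trans
          (Subgroup.comap_mono le_sup_right)) inf_le_right)
  rintro x ⟨hxJ, hxS⟩
  exact (h (hP (show (⟨x, hxJ⟩ : J) ∈ (S : Subgroup G).subgroupOf J from hxS))).1

end Cfsg.Agent.Invol.SnSyl
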