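import Cfsg.Agent.Lib.Invol.PReduced
import Cfsg.Agent.Lib.Invol.SubnormalSylowJoin
import Cfsg.Agent.Lib.Invol.ThompsonComplement
import Cfsg.Agent.Lib.Grp.SubnormalJoin
import Cfsg.Prelude

/-!
# Point stabilizers of subnormal subgroups in groups of local characteristic `p`
-/

set_option autoImplicit false
set_option linter.style.haveILetI false

namespace Cfsg.Agent.Invol.PointStab

universe u

variable {H : Type u} [Group H] [Finite H] {p : ℕ} [hp : Fact p.Prime]

/-- The `p`-elements of `X`. -/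
def pElts (p : ℕ) {G : Type*} [Group G] (X : Subgroup G) : Subgroup G :=
  Subgroup.closure {x : G | x ∈ X ∧ ∃ k : ℕ, orderOf x = p ^ k}

omit [Finite H] hp in
theorem pElts_mono {X Y : Subgroup H} (h : X ≤ Y) : pElts p X ≤ pElts p Y :=
  Subgroup.closure_mono fun _ hx => ⟨h hx.1, hx.2⟩

omit [Finite H] hp in
theorem pElts_le (X : Subgroup H) : pElts p X ≤ X := (Subgroup.closure_le _).mpr fun _ hx => hx.1

omit hp in
theorem pElts_isSubnormal {X : Subgroup H} (hX : X.IsSubnormal) : (pElts p X).IsSubnormal := by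
  refine Subgroup.IsSubnormal.trans (pElts_le X) (Subgroup.Normal.isSubnormal ?_) hX
  refine Subgroup.normal_subgroupOf_of_le_normalizer fun g hg => ?_
  refine mem_normalizer_of_forall_mem fun y hy => ?_
  have hmap : (pElts p X).map (MulAut.conj g).toMonoidHom ≤ pElts p X := by
    rw [pElts, MonoidHom.map_closure]
    refine Subgroup.closure_mono ?_
    rintro _ ⟨x, ⟨hx, k, hk⟩, rfl⟩
    exact ⟨X.mul_mem (X.mul_mem hg hx) (X.inv_mem hg), k, by
      rw [← hk]; exact (MulAut.conj g).orderOf_eq x⟩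
  exact hmap ⟨y, hy, rfl⟩

omit hp in
theorem centZ_of_mem (T : Subgroup H) {t : H} (ht : t ∈ T) : CentZ p T t :=
  fun _ _ hc _ => (hc t ht).symm

/-- Kieler's lemma inside a local subgroup. -/
theorem local_equiv (T : Sylow p H) {N : Subgroup H}
    (hN : Subgroup.centralizer (Cfsg.pCore p ↥N : Set ↥N) ≤ Cfsg.pCore p ↥N)
    {A K : Subgroup H} (hA : A.IsSubnormal) (hK : K.IsSubnormal) (hAK : A ≤ K)
    (hTN : (T : Subgroup H) ⊓ K ≤ N) {g : H} (hgA : g ∈ A) (hgN : g ∈ N) :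
    CentZ p ((T : Subgroup H) ⊓ A) g ↔ CentZ p ((T : Subgroup H) ⊓ K) g := by
  have hpT : IsPGroup p ↥(((T : Subgroup H) ⊓ K).subgroupOf N) :=
    (T.isPGroup'.to_le inf_le_left).comap_subtype
  obtain ⟨P, hP⟩ := hpT.exists_le_sylow
  have hPK : ∀ C : Subgroup H, C.IsSubnormal → C ≤ K →
      (P : Subgroup N) ⊓ C.subgroupOf N = ((T : Subgroup H) ⊓ C).subgroupOf N := by
    intro C hC hCK
    set Q := ((P : Subgroup N) ⊓ C.subgroupOf N).map N.subtype with hQ
    have hle : (T : Subgroup H) ⊓ C ≤ Q := fun x hx =>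
      ⟨⟨x, hTN ⟨hx.1, hCK hx.2⟩⟩, ⟨hP ⟨hx.1, hCK hx.2⟩, hx.2⟩, rfl⟩
    have hQC : Q ≤ C := by rintro _ ⟨x, hx, rfl⟩; exact hx.2
    obtain ⟨k, hk⟩ : ∃ k, ((T : Subgroup H) ⊓ C).relIndex Q = p ^ k :=
      ((P.isPGroup'.to_le inf_le_left).map N.subtype).index _
    have hQ' : Q ≤ (T : Subgroup H) ⊓ C := by
      rcases Nat.eq_zero_or_pos k with rfl | h
      · exact Subgroup.relIndex_eq_one.mp (by simpa using hk)
      refine (Grp.not_dvd_relIndex_sylow T hC ?_).elim
      rw [← Subgroup.inf_relIndex_right]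
      exact (hk ▸ dvd_pow_self p h.ne').trans (Dvd.intro _ (Subgroup.relIndex_mul_relIndex _ _ C hle hQC))
    ext x
    refine ⟨fun hx => hQ' ⟨x, hx, rfl⟩, fun hx => ⟨hP ⟨hx.1, hCK hx.2⟩, hx.2⟩⟩
  have h1 := centZ_of_isSubnormal hN P (H := A.subgroupOf N) hA.subgroupOf ⟨g, hgN⟩ hgA
  have h2 := centZ_of_isSubnormal hN P (H := K.subgroupOf N) hK.subgroupOf ⟨g, hgN⟩ (hAK hgA)
  rw [hPK A hA hAK, centZ_subgroupOf ((inf_le_inf_left _ hAK).trans hTN)] at h1
  rw [hPK K hK le_rfl, centZ_subgroupOf hTN] at h2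
  exact h1.symm.trans h2

/-- `Ω₁Z(S)` for nontrivial `p`-groups. -/
theorem omega_center_ne_bot {S : Subgroup H} (hS : IsPGroup p S) (hne : S ≠ ⊥) :
    Cfsg.omegaOne p (S ⊓ Subgroup.centralizer (S : Set H)) ≠ ⊥ := by
  haveI : Nontrivial S := (Subgroup.nontrivial_iff_ne_bot S).mpr hne
  haveI := hS.center_nontrivial
  obtain ⟨k, hk0, hk⟩ := (hS.to_subgroup (Subgroup.center S)).nontrivial_iff_card.mp inferInstance
  obtain ⟨z, hz⟩ := exists_prime_orderOf_dvd_card' p (G := Subgroup.center S)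
    (hk ▸ dvd_pow_self p hk0.ne')
  intro h
  have hz' : ((z : S) : H) ∈ Cfsg.omegaOne p (S ⊓ Subgroup.centralizer (S : Set H)) := by
    refine Subgroup.subset_closure ⟨⟨(z : S).2, Subgroup.mem_centralizer_iff.mpr fun s hs =>
      congrArg Subtype.val (Subgroup.mem_center_iff.mp z.2 ⟨s, hs⟩)⟩, ?_⟩
    have := congrArg (fun w : Subgroup.center S => ((w : S) : H)) (hz ▸ pow_orderOf_eq_one z : z ^ p = 1)
    simpa using this
  rw [h, Subgroup.mem_bot] at hz'
  have hz1 : z = 1 := Subtype.ext (Subtype.ext (by simpa using hz'))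
  rw [hz1, orderOf_one] at hz
  exact hp.out.ne_one hz.symm

theorem centZ_iff_sylow (hH : Cfsg.IsOfLocalCharacteristic p H) (T : Sylow p H) {C : Subgroup H}
    (hC : C.IsSubnormal) (hne : (T : Subgroup H) ⊓ C ≠ ⊥) :
    ∀ g ∈ C, (CentZ p ((T : Subgroup H) ⊓ C) g ↔ CentZ p (T : Subgroup H) g) := by
  induction hC with
  | top => intro g _; rw [inf_top_eq]
  | step A K hle hK hn ih =>
    intro g hg
    have hA : A.IsSubnormal := Subgroup.IsSubnormal.step A K hle hK hn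
    have hneK : (T : Subgroup H) ⊓ K ≠ ⊥ := fun h => hne (le_bot_iff.mp (h ▸ inf_le_inf_left _ hle))
    rw [← ih hneK g (hle hg)]
    have local_char : ∀ S : Subgroup H, S ≤ (T : Subgroup H) → S ≠ ⊥ →
        CharP' p ↥(Subgroup.normalizer (Cfsg.omegaOne p (S ⊓ Subgroup.centralizer (S : Set H)) : Set H)) :=
      fun S hS hS1 => hH.2 _ ((T.isPGroup'.to_le hS).to_le ((Subgroup.closure_le _).mpr fun x hx => hx.1.1))
        (omega_center_ne_bot (T.isPGroup'.to_le hS) hS1)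
    have hcent : ∀ S : Subgroup H, ∀ x, CentZ p S x →
        x ∈ Subgroup.normalizer (Cfsg.omegaOne p (S ⊓ Subgroup.centralizer (S : Set H)) : Set H) :=
      fun S x hx => Subgroup.centralizer_le_normalizer _ (mem_centralizer_omegaOne_iff.mpr hx)
    constructor
    · intro h
      have hTN : (T : Subgroup H) ⊓ K ≤ Subgroup.normalizer (Cfsg.omegaOne p
          (((T : Subgroup H) ⊓ A) ⊓ Subgroup.centralizer (((T : Subgroup H) ⊓ A : Subgroup H) : Set H)) : Set H) := by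
        intro t ht
        have hconj : ∀ s : H, s ∈ (T : Subgroup H) ⊓ K → ∀ x ∈ (T : Subgroup H) ⊓ A,
            s * x * s⁻¹ ∈ (T : Subgroup H) ⊓ A := fun s hs x hx =>
          ⟨(T : Subgroup H).mul_mem ((T : Subgroup H).mul_mem hs.1 hx.1) ((T : Subgroup H).inv_mem hs.1),
            (Subgroup.mem_normalizer_iff.mp ((Subgroup.normal_subgroupOf_iff_le_normalizer hle).mp hn hs.2) x).mp hx.2⟩
        refine mem_normalizer_of_forall_mem fun y hy => ?_
        induction hy using Subgroup.closure_induction with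
        | mem x hx =>
          refine Subgroup.subset_closure ⟨⟨hconj t ht x hx.1.1, Subgroup.mem_centralizer_iff.mpr fun a ha => ?_⟩, ?_⟩
          · have h1 := Subgroup.mem_centralizer_iff.mp hx.1.2 (t⁻¹ * a * t) (by
              have h2 := hconj t⁻¹ (inv_mem ht) a ha
              rwa [inv_inv] at h2)
            calc a * (t * x * t⁻¹) = t * (t⁻¹ * a * t * x) * t⁻¹ := by group
              _ = t * (x * (t⁻¹ * a * t)) * t⁻¹ := by rw [h1]
              _ = t * x * t⁻¹ * a := by group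
          · rw [conj_pow, hx.2]; simp
        | one => simp
        | mul x y _ _ hx hy => simpa [mul_assoc] using mul_mem hx hy
        | inv x _ hx => simpa [mul_assoc] using inv_mem hx
      exact (local_equiv T (local_char _ inf_le_left hne) hA hK hle hTN hg (hcent _ g h)).mp h
    · intro h
      exact (local_equiv T (local_char _ inf_le_left hneK) hA hK hle
        (fun t ht => hcent _ t (centZ_of_mem _ ht)) hg (hcent _ g h)).mpr h

/-- The point stabilizer consists of the `p`-elements centralizing `Ω₁Z(T)`. -/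
theorem pointStabilizer_eq (hH : Cfsg.IsOfLocalCharacteristic p H) (T : Sylow p H) {C : Subgroup H}
    (hC : C.IsSubnormal) :
    Cfsg.pointStabilizer p C ((T : Subgroup H) ⊓ C) = pElts p (C ⊓ centZSubgroup p (T : Subgroup H)) := by
  by_cases hne : (T : Subgroup H) ⊓ C = ⊥
  · have hnone : ∀ x ∈ C, ∀ k : ℕ, orderOf x = p ^ k → x = 1 := by
      intro x hx k hk
      have hnd := Grp.not_dvd_relIndex_sylow T hC
      rw [← Subgroup.inf_relIndex_right, hne, Subgroup.relIndex_bot_left] at hnd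
      rcases Nat.eq_zero_or_pos k with rfl | h
      · exact orderOf_eq_one_iff.mp (by simpa using hk)
      · exact absurd ((dvd_pow_self p h.ne').trans (hk ▸ Subgroup.orderOf_dvd_natCard C hx)) hnd
    refine le_antisymm ((Subgroup.closure_le _).mpr fun x hx => ?_) ((Subgroup.closure_le _).mpr fun x hx => ?_)
    · obtain ⟨k, hk⟩ := hx.2; rw [hnone x hx.1.1 k hk]; exact one_mem _
    · obtain ⟨k, hk⟩ := hx.2; rw [hnone x hx.1.1 k hk]; exact one_mem _
  · refine congrArg Subgroup.closure (Set.ext fun x => and_congr_left fun _ => ?_)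
    simp only [Subgroup.mem_inf, mem_centralizer_omegaOne_iff, mem_centZSubgroup]
    exact and_congr_right fun hx => centZ_iff_sylow hH T hC hne x hx

theorem pElts_sup (T : Sylow p H) {L₁ L₂ : Subgroup H} (h₁ : L₁.IsSubnormal) (h₂ : L₂.IsSubnormal)
    {Z : Subgroup H} (hTZ : (T : Subgroup H) ≤ Z) :
    pElts p ((L₁ ⊔ L₂) ⊓ Z) = pElts p (L₁ ⊓ Z) ⊔ pElts p (L₂ ⊓ Z) := by
  refine le_antisymm ?_ (sup_le (pElts_mono (inf_le_inf_right _ le_sup_left))
    (pElts_mono (inf_le_inf_right _ le_sup_right)))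
  set A := (L₁ ⊔ L₂) ⊓ Z with hA
  set J := pElts p (L₁ ⊓ Z) ⊔ pElts p (L₂ ⊓ Z) with hJ
  have hL : (L₁ ⊔ L₂).IsSubnormal := Cfsg.Agent.Grp.SnJoin.isSubnormal_sup _ H rfl _ _ h₁ h₂
  have hJA : J ≤ A := sup_le ((pElts_le _).trans (inf_le_inf_right _ le_sup_left))
    ((pElts_le _).trans (inf_le_inf_right _ le_sup_right))
  have hsub : ∀ L : Subgroup H, L.IsSubnormal → L ≤ L₁ ⊔ L₂ →
      ((pElts p (L ⊓ Z)).subgroupOf A).IsSubnormal := by
    intro L hL hLle
    have h1 : ((pElts p (L ⊓ Z)).subgroupOf (L ⊓ Z)).IsSubnormal := by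
      refine Subgroup.Normal.isSubnormal (Subgroup.normal_subgroupOf_of_le_normalizer fun g hg => ?_)
      refine mem_normalizer_of_forall_mem fun y hy => ?_
      have hmap : (pElts p (L ⊓ Z)).map (MulAut.conj g).toMonoidHom ≤ pElts p (L ⊓ Z) := by
        rw [pElts, MonoidHom.map_closure]
        refine Subgroup.closure_mono ?_
        rintro _ ⟨x, ⟨hx, k, hk⟩, rfl⟩
        exact ⟨(L ⊓ Z).mul_mem ((L ⊓ Z).mul_mem hg hx) ((L ⊓ Z).inv_mem hg), k, by
          rw [← hk]; exact (MulAut.conj g).orderOf_eq x⟩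
      exact hmap ⟨y, hy, rfl⟩
    have hLA : L ⊓ Z ≤ A := inf_le_inf_right _ hLle
    have e : (L ⊓ Z).subgroupOf A = L.subgroupOf A := by
      ext x; exact ⟨fun h => h.1, fun h => ⟨h, x.2.2⟩⟩
    refine Subgroup.IsSubnormal.trans (K := (L ⊓ Z).subgroupOf A)
      (fun x hx => (pElts_le _ hx : (x : H) ∈ L ⊓ Z)) ?_ (e ▸ hL.subgroupOf)
    let f : ↥((L ⊓ Z).subgroupOf A) →* ↥(L ⊓ Z) :=
      { toFun := fun x => ⟨((x : A) : H), x.2⟩
        map_one' := rfl
        map_mul' := fun _ _ => rfl }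
    exact h1.comap f
  have hJs : (J.subgroupOf A).IsSubnormal := by
    rw [hJ, Subgroup.subgroupOf_sup ((pElts_le _).trans (inf_le_inf_right _ le_sup_left))
      ((pElts_le _).trans (inf_le_inf_right _ le_sup_right))]
    exact Cfsg.Agent.Grp.SnJoin.isSubnormal_sup _ ↥A rfl _ _ (hsub L₁ h₁ le_sup_left) (hsub L₂ h₂ le_sup_right)
  -- `J` contains a Sylow subgroup of `A`
  have hTJ : (T : Subgroup H) ⊓ A ≤ J := by
    intro x hx
    have hx' : x ∈ (L₁ ⊔ L₂) ⊓ (T : Subgroup H) := ⟨hx.2.1, hx.1⟩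
    rw [SnSyl.sup_inf_sylow T h₁ h₂] at hx'
    refine (sup_le ?_ ?_ : (L₁ ⊓ (T : Subgroup H)) ⊔ (L₂ ⊓ (T : Subgroup H)) ≤ J) hx'
    · intro y hy
      obtain ⟨k, hk⟩ := IsPGroup.iff_orderOf.mp T.isPGroup' ⟨y, hy.2⟩
      exact Subgroup.mem_sup_left (Subgroup.subset_closure ⟨⟨hy.1, hTZ hy.2⟩, k, by rw [← hk, Subgroup.orderOf_mk]⟩)
    · intro y hy
      obtain ⟨k, hk⟩ := IsPGroup.iff_orderOf.mp T.isPGroup' ⟨y, hy.2⟩
      exact Subgroup.mem_sup_right (Subgroup.subset_closure ⟨⟨hy.1, hTZ hy.2⟩, k, by rw [← hk, Subgroup.orderOf_mk]⟩)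
  have hidx : ¬ p ∣ (J.subgroupOf A).index := by
    have h := Grp.not_dvd_relIndex_sylow (T.subtype hTZ) (H := (L₁ ⊔ L₂).subgroupOf Z) hL.subgroupOf
    rw [Sylow.coe_subtype, ← Subgroup.inf_relIndex_right, ← Subgroup.inf_subgroupOf_right (L₁ ⊔ L₂) Z,
      ← hA] at h
    have e : (T : Subgroup H).subgroupOf Z ⊓ A.subgroupOf Z = ((T : Subgroup H) ⊓ A).subgroupOf Z := rfl
    rw [e, Subgroup.relIndex_subgroupOf (inf_le_right : A ≤ Z)] at h
    exact fun hd => h (hd.trans (Dvd.intro_left _ (Subgroup.relIndex_mul_relIndex _ J A hTJ hJA)))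
  refine (Subgroup.closure_le _).mpr fun x hx => ?_
  obtain ⟨hxA, k, hk⟩ := hx
  have hxp : IsPGroup p ↥(Subgroup.zpowers (⟨x, hxA⟩ : A)) :=
    IsPGroup.of_card (n := k) (by rw [Nat.card_zpowers, Subgroup.orderOf_mk, hk])
  obtain ⟨S, hS⟩ := hxp.exists_le_sylow
  have h1 := Grp.not_dvd_relIndex_sylow S hJs
  have h2 : ¬ p ∣ ((S : Subgroup A) ⊓ J.subgroupOf A).index := by
    rw [← Subgroup.relIndex_mul_index (inf_le_right : (S : Subgroup A) ⊓ J.subgroupOf A ≤ _),
      Subgroup.inf_relIndex_right]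
    exact hp.out.not_dvd_mul h1 hidx
  obtain ⟨m, hm⟩ : ∃ m, ((S : Subgroup A) ⊓ J.subgroupOf A).relIndex (S : Subgroup A) = p ^ m :=
    S.isPGroup'.index _
  rcases Nat.eq_zero_or_pos m with rfl | h
  · have hmem := (Subgroup.relIndex_eq_one.mp (hm.trans (pow_zero p))) (hS (Subgroup.mem_zpowers _))
    exact hmem.2
  · exact absurd ((hm ▸ dvd_pow_self p h.ne').trans (Subgroup.relIndex_dvd_index_of_le inf_le_left)) h2

end Cfsg.Agent.Invol.PointStab
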