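import Cfsg.Agent.Lib.Invol.ComponentOrbit
import Cfsg.Prelude.Def_ClassificationStages

/-!
`p`-components of subgroups: descending to centralizers of `p`-subgroups, and pumping up from
`C_H(a)` to `H` under the Schreier property.
-/

set_option autoImplicit false

namespace Cfsg.Agent.Invol

open scoped Pointwise commutatorElement
open Subgroup Cfsg.Agent.Grp

variable {p : ℕ}

section Group

variable {G : Type*} [Group G] [Finite G] [Fact p.Prime]

local notation "Oc" => Cfsg.pPrimeCore p G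
local notation "qmap" => QuotientGroup.mk' (Cfsg.pPrimeCore p G)

omit [Finite G] [Fact p.Prime] in
theorem isPGroup_zpowers_coe {P : Subgroup G} (x : P) :
    IsPGroup p (Subgroup.zpowers x) ↔ IsPGroup p (Subgroup.zpowers (x : G)) := by
  have e : (Subgroup.zpowers x).map P.subtype = Subgroup.zpowers (x : G) := by
    rw [MonoidHom.map_zpowers]; rfl
  constructor
  · intro h; rw [← e]; exact h.map _
  · intro h
    refine IsPGroup.of_equiv h ?_
    exact ((MulEquiv.subgroupCongr e).symm.trans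
      (Subgroup.equivMapOfInjective _ _ P.subtype_injective).symm)

omit [Finite G] [Fact p.Prime] in
theorem pRes_mono {P P' : Subgroup G} (h : P ≤ P') : pRes p P ≤ pRes p P' :=
  Subgroup.closure_mono fun _ hx => ⟨h hx.1, hx.2⟩

/-- The image of a group of `p`-order in a quasisimple component is nontrivial. -/
theorem component_dvd_card {Kb : Subgroup (G ⧸ Cfsg.pPrimeCore p G)} (hK : Cfsg.IsComponent Kb) :
    p ∣ Nat.card Kb := by
  have := component_dvd_index pPrimeCore_quotient_bot hK ⊥ bot_le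
  rwa [Subgroup.index_bot] at this

omit [Fact p.Prime] in
/-- The centre of a component of a core-free quotient is a `p`-group: `p'`-subnormal subgroups are trivial. -/
theorem eq_bot_of_coprime_of_subnormal {Kb N : Subgroup (G ⧸ Cfsg.pPrimeCore p G)}
    (hN : N.IsSubnormal) (hc : (Nat.card N).Coprime p) (_h : N ≤ Kb) : N = ⊥ :=
  le_bot_iff.mp ((le_pPrimeCore_of_isSubnormal hN hc).trans pPrimeCore_quotient_bot.le)

omit [Fact p.Prime] in
/-- A subgroup with image a component is, modulo its core, isomorphic to the component. -/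
theorem quotient_core_equiv {W : Subgroup G} (hW : Cfsg.IsComponent (W.map qmap)) :
    Nonempty (↥W ⧸ Cfsg.pPrimeCore p ↥W ≃* ↥(W.map qmap)) := by
  let φ : W →* W.map qmap :=
    MonoidHom.codRestrict ((qmap).comp W.subtype) _ fun k => ⟨k, k.2, rfl⟩
  have hφ : Function.Surjective φ := fun ⟨z, k, hk, e⟩ => ⟨⟨k, hk⟩, Subtype.ext e⟩
  have hker : φ.ker = Cfsg.pPrimeCore p W := by
    refine le_antisymm (le_pPrimeCore inferInstance ?_) ?_
    · refine Nat.Coprime.coprime_dvd_left ?_ (pPrimeCore_coprime (p := p) (G := G))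
      rw [← Subgroup.card_map_of_injective W.subtype_injective]
      refine Subgroup.card_dvd_of_le ?_
      rintro _ ⟨k, hk, rfl⟩
      exact (QuotientGroup.eq_one_iff (k : G)).mp (congrArg Subtype.val hk)
    · have hn : ((Cfsg.pPrimeCore p W).map φ).Normal := pPrimeCore_isNormal.map φ hφ
      have hb : ((Cfsg.pPrimeCore p W).map φ).map (W.map qmap).subtype = ⊥ := by
        refine eq_bot_of_coprime_of_subnormal (hn.isSubnormal.trans' hW.1) ?_ (Subgroup.map_subtype_le _)
        exact Nat.Coprime.coprime_dvd_left ((Subgroup.card_map_dvd _ _).trans (Subgroup.card_map_dvd _ _))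
          pPrimeCore_coprime
      rw [Subgroup.map_eq_bot_iff_of_injective _ (Subgroup.subtype_injective _),
        Subgroup.map_eq_bot_iff] at hb
      exact hb
  exact ⟨(QuotientGroup.quotientMulEquivOfEq hker.symm).trans
    (QuotientGroup.quotientKerEquivOfSurjective φ hφ)⟩

/-- A `p`-component lies in a subnormal subgroup or centralizes it modulo `O_{p'}`. -/
theorem pComponent_le_or_commute_subnormal {K : Subgroup G} (hK : Cfsg.IsPComponent p K)
    {D : Subgroup G} (hD : D.IsSubnormal) :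
    K ≤ D ∨ D.map qmap ≤ Subgroup.centralizer (K.map qmap : Set (G ⧸ Cfsg.pPrimeCore p G)) := by
  rcases component_le_or_commute hK.2.1 (hD.map (QuotientGroup.mk'_surjective _)) with h | h
  · left
    have h1 : K ≤ pRes p (D ⊔ Oc) := by
      rw [IsPComponent.eq_pRes hK]
      refine pRes_mono ?_
      refine le_trans (Subgroup.comap_mono h) (le_of_eq ?_)
      rw [Subgroup.comap_map_eq, QuotientGroup.ker_mk']
    refine h1.trans (pRes_le_of_relIndex le_sup_left hD.subgroupOf fun hd => ?_)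
    have e1 := card_sup_mul_card_inf_normal (H := D) (N := Cfsg.pPrimeCore p G)
    rw [← card_mul_relIndex (le_sup_left : D ≤ D ⊔ Oc), mul_assoc] at e1
    have e2 := Nat.eq_of_mul_eq_mul_left Nat.card_pos e1
    exact pPrimeCore_not_dvd (p := p) (G := G) (e2 ▸ hd.mul_right _)
  · exact Or.inr (Subgroup.le_centralizer_iff.mp (Subgroup.commutator_eq_bot_iff_le_centralizer.mp h))

/-- A component of the centralizer of a `p`-subgroup of `G ⧸ O_{p'}(G)` lifts to a `p`-component
of the centralizer in `G`. -/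
theorem pComponent_centralizer_lift {A : Subgroup G} (hA : IsPGroup p A)
    {Kb : Subgroup (G ⧸ Cfsg.pPrimeCore p G)}
    (hKC : Kb ≤ Subgroup.centralizer (A.map qmap : Set (G ⧸ Cfsg.pPrimeCore p G)))
    (hKc : Cfsg.IsComponent
      (Kb.subgroupOf (Subgroup.centralizer (A.map qmap : Set (G ⧸ Cfsg.pPrimeCore p G)))))
    (hdvd : p ∣ Nat.card Kb) (hcore : Cfsg.pPrimeCore p ↥Kb = ⊥) :
    Cfsg.IsPComponent p ((pRes p (Kb.comap qmap ⊓ Subgroup.centralizer (A : Set G))).subgroupOf
        (Subgroup.centralizer (A : Set G))) ∧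
      (pRes p (Kb.comap qmap ⊓ Subgroup.centralizer (A : Set G))).map qmap = Kb := by
  set C := Subgroup.centralizer (A : Set G) with hC
  let f : ↥C →* G ⧸ Cfsg.pPrimeCore p G := (qmap).comp C.subtype
  have hrange : f.range = Subgroup.centralizer (A.map qmap : Set (G ⧸ Cfsg.pPrimeCore p G)) := by
    rw [← map_centralizer_pGroup hA, MonoidHom.range_comp, Subgroup.range_subtype]
  have hKR : Kb ≤ f.range := hrange ▸ hKC
  set P := Kb.comap f with hP
  have hPs : P.IsSubnormal := by
    let g : ↥C →* ↥(Subgroup.centralizer (A.map qmap : Set (G ⧸ Cfsg.pPrimeCore p G))) :=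
      f.codRestrict _ fun z => hrange ▸ ⟨z, rfl⟩
    exact hKc.1.comap g
  set qC := QuotientGroup.mk' (Cfsg.pPrimeCore p C)
  have hker : f.ker ≤ Cfsg.pPrimeCore p C := by
    refine le_pPrimeCore inferInstance ?_
    refine Nat.Coprime.coprime_dvd_left ?_ (pPrimeCore_coprime (p := p) (G := G))
    rw [← Subgroup.card_map_of_injective C.subtype_injective]
    refine Subgroup.card_dvd_of_le ?_
    rintro _ ⟨k, hk, rfl⟩
    exact (QuotientGroup.eq_one_iff (k : G)).mp hk
  -- the image of the core of `C` commutes with `Kb`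
  set N := (Cfsg.pPrimeCore p C).map f with hN
  have hNp : (Nat.card N).Coprime p :=
    Nat.Coprime.coprime_dvd_left (Subgroup.card_map_dvd _ _) pPrimeCore_coprime
  have hKc' : Cfsg.IsComponent (Kb.subgroupOf f.range) := by rw [hrange]; exact hKc
  have hNK : N ≤ Subgroup.centralizer (Kb : Set (G ⧸ Cfsg.pPrimeCore p G)) := by
    have hNn : (N.subgroupOf f.range).Normal := by
      have : N.subgroupOf f.range = (Cfsg.pPrimeCore p C).map f.rangeRestrict := by
        have e : N = ((Cfsg.pPrimeCore p C).map f.rangeRestrict).map f.range.subtype := by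
          rw [Subgroup.map_map, MonoidHom.subtype_comp_rangeRestrict]
        rw [e, ← Subgroup.comap_subtype,
          Subgroup.comap_map_eq_self_of_injective f.range.subtype_injective]
      rw [this]
      exact pPrimeCore_isNormal.map _ f.rangeRestrict_surjective
    rcases component_le_or_commute hKc' hNn.isSubnormal with h | h
    · exfalso
      have h1 : Kb ≤ N := fun z hz => h (show (⟨z, hKR hz⟩ : f.range) ∈ Kb.subgroupOf f.range from hz)
      exact (Fact.out : p.Prime).ne_one (Nat.eq_one_of_dvd_coprimes hNp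
        (hdvd.trans (Subgroup.card_dvd_of_le h1)) dvd_rfl)
    · have h2 := congrArg (Subgroup.map f.range.subtype) h
      rw [Subgroup.map_commutator, Subgroup.subgroupOf_map_subtype, Subgroup.subgroupOf_map_subtype,
        inf_eq_left.mpr hKR, inf_eq_left.mpr (f.range_eq_map ▸ Subgroup.map_mono le_top),
        Subgroup.map_bot] at h2
      exact Subgroup.le_centralizer_iff.mp (Subgroup.commutator_eq_bot_iff_le_centralizer.mp h2)
  have hKN : Kb ⊓ N = ⊥ := by
    have hn : ((Kb ⊓ N).subgroupOf Kb).Normal := Subgroup.normal_subgroupOf_of_le_normalizer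
      ((Subgroup.le_centralizer_iff.mp (inf_le_right.trans hNK)).trans
        (Subgroup.centralizer_le_normalizer _))
    have h1 := le_pPrimeCore (p := p) hn (by
      rw [Nat.card_congr (Subgroup.subgroupOfEquivOfLe (inf_le_left : Kb ⊓ N ≤ Kb)).toEquiv]
      exact Nat.Coprime.coprime_dvd_left (Subgroup.card_dvd_of_le inf_le_right) hNp)
    rw [hcore, le_bot_iff] at h1
    rw [← inf_eq_left.mpr (inf_le_left : Kb ⊓ N ≤ Kb), ← Subgroup.subgroupOf_map_subtype, h1,
      Subgroup.map_bot]
  -- the component of `C` modulo its core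
  have hPf : P.map f = Kb := Subgroup.map_comap_eq_self hKR
  have hPO : P ⊓ Cfsg.pPrimeCore p C ≤ f.ker := fun z hz => Subgroup.mem_bot.mp
    (hKN ▸ (⟨hz.1, Subgroup.mem_map_of_mem f hz.2⟩ : f z ∈ Kb ⊓ N))
  have hcomp : Cfsg.IsComponent (P.map qC) := by
    refine ⟨hPs.map (QuotientGroup.mk'_surjective _), ?_⟩
    let φ : P →* Kb := (f.comp P.subtype).codRestrict Kb fun z => z.2
    have hφ : Function.Surjective φ := by
      rintro ⟨z, hz⟩
      obtain ⟨w, rfl⟩ := hKR hz
      exact ⟨⟨w, hz⟩, rfl⟩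
    let ψ : P →* P.map qC := (qC.comp P.subtype).codRestrict _ fun z => ⟨z, z.2, rfl⟩
    have hψ : Function.Surjective ψ := fun ⟨z, w, hw, e⟩ => ⟨⟨w, hw⟩, Subtype.ext e⟩
    have hk : ψ.ker = φ.ker := by
      ext z
      constructor
      · intro hz
        exact Subtype.ext (hPO ⟨z.2, (QuotientGroup.eq_one_iff (z : C)).mp (congrArg Subtype.val hz)⟩)
      · intro hz
        exact Subtype.ext ((QuotientGroup.eq_one_iff (z : C)).mpr (hker (congrArg Subtype.val hz :)))
    exact (isQuasisimple_congr ((QuotientGroup.quotientKerEquivOfSurjective φ hφ).symm.trans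
      ((QuotientGroup.quotientMulEquivOfEq hk.symm).trans
        (QuotientGroup.quotientKerEquivOfSurjective ψ hψ)))).mp ((isQuasisimple_subgroupOf_iff hKC).mp hKc.2)
  obtain ⟨hW0, hW0c⟩ := lift_pRes_isPComponent hcomp
  set W := pRes p (Kb.comap qmap ⊓ C)
  set W0 := pRes p ((P.map qC).comap qC)
  -- `p`-elements of the lift lie in `K`
  have hpel : ∀ z : C, z ∈ (P.map qC).comap qC → IsPGroup p (Subgroup.zpowers z) → f z ∈ Kb := by
    intro z hz hzp
    have h1 : f z ∈ Kb ⊔ N := by
      rw [← hPf, hN, ← Subgroup.map_sup]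
      refine Subgroup.mem_map_of_mem f ?_
      rwa [Subgroup.comap_map_eq, QuotientGroup.ker_mk'] at hz
    have hn : (Kb.subgroupOf (Kb ⊔ N)).Normal :=
      Subgroup.normal_subgroupOf_of_le_normalizer
        (sup_le Subgroup.le_normalizer (hNK.trans (Subgroup.centralizer_le_normalizer _)))
    refine pElement_mem_of_sup (p := p) (W := Kb.subgroupOf (Kb ⊔ N)) (O := N.subgroupOf (Kb ⊔ N))
      (x := ⟨f z, h1⟩) ?_ ?_ ?_
    · rwa [Nat.card_congr (Subgroup.subgroupOfEquivOfLe (le_sup_right : N ≤ Kb ⊔ N)).toEquiv]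
    · rw [← Subgroup.subgroupOf_sup le_sup_left le_sup_right, Subgroup.subgroupOf_self]
      trivial
    · rw [isPGroup_zpowers_coe]
      have := hzp.map f
      rwa [MonoidHom.map_zpowers] at this
  have hW0W : W0.map C.subtype ≤ W := by
    rw [Subgroup.map_le_iff_le_comap]
    refine (Subgroup.closure_le _).mpr ?_
    rintro z ⟨hz, hzp⟩
    refine mem_pRes ⟨?_, z.2⟩ ((isPGroup_zpowers_coe z).mp hzp)
    exact hpel z hz hzp
  have hWW0 : W.subgroupOf C ≤ W0 := by
    have : W ≤ W0.map C.subtype := by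
      refine (Subgroup.closure_le _).mpr ?_
      rintro z ⟨⟨hzK, hzC⟩, hzp⟩
      refine ⟨⟨z, hzC⟩, mem_pRes ?_ ((isPGroup_zpowers_coe ⟨z, hzC⟩).mpr hzp), rfl⟩
      exact ⟨⟨z, hzC⟩, hzK, rfl⟩
    intro z hz
    obtain ⟨w, hw, e⟩ := this hz
    rwa [Subtype.ext e] at hw
  have heq : W.subgroupOf C = W0 :=
    le_antisymm hWW0 fun z hz => hW0W (Subgroup.mem_map_of_mem C.subtype hz)
  refine ⟨heq ▸ hW0c, le_antisymm ?_ ?_⟩
  · rw [Subgroup.map_le_iff_le_comap]
    exact (pRes_le _).trans inf_le_left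
  intro k hk
  obtain ⟨z, rfl⟩ := hKR hk
  have hz1 : qC z ∈ W0.map qC := hW0 ▸ Subgroup.mem_map_of_mem qC (show z ∈ P from hk)
  obtain ⟨w, hw, hwz⟩ := hz1
  have hwW : (w : G) ∈ W := hW0W (Subgroup.mem_map_of_mem C.subtype hw)
  have hw2 : f (w⁻¹ * z) ∈ Kb ⊓ N :=
    ⟨by
      rw [map_mul, map_inv]
      refine Kb.mul_mem (Kb.inv_mem ?_) hk
      exact ((pRes_le (p := p) (Kb.comap qmap ⊓ C)) hwW).1,
    Subgroup.mem_map_of_mem f (QuotientGroup.eq.mp hwz)⟩
  rw [hKN, Subgroup.mem_bot, map_mul, map_inv, inv_mul_eq_one] at hw2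
  rw [← hw2]
  exact Subgroup.mem_map_of_mem qmap hwW

/-- A `p`-component descends to the centralizer of a `p`-subgroup acting trivially on it
modulo `O_{p'}`. -/
theorem pComponent_centralizer {K : Subgroup G} (hK : Cfsg.IsPComponent p K) {A : Subgroup G}
    (hA : IsPGroup p A)
    (hAK : A.map qmap ≤ Subgroup.centralizer (K.map qmap : Set (G ⧸ Cfsg.pPrimeCore p G))) :
    Cfsg.IsPComponent p ((pRes p (K ⊓ Subgroup.centralizer (A : Set G))).subgroupOf
        (Subgroup.centralizer (A : Set G))) ∧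
      (pRes p (K ⊓ Subgroup.centralizer (A : Set G))).map qmap = K.map qmap := by
  have hKC := Subgroup.le_centralizer_iff.mp hAK
  have e : pRes p (K ⊓ Subgroup.centralizer (A : Set G)) =
      pRes p ((K.map qmap).comap qmap ⊓ Subgroup.centralizer (A : Set G)) := by
    refine le_antisymm (pRes_mono (inf_le_inf_right _ (Subgroup.le_comap_map _ _))) ?_
    refine (Subgroup.closure_le _).mpr ?_
    rintro z ⟨⟨hz, hzC⟩, hzp⟩
    refine mem_pRes ⟨?_, hzC⟩ hzp
    rw [IsPComponent.eq_pRes hK]
    exact mem_pRes hz hzp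
  rw [e]
  refine pComponent_centralizer_lift hA hKC (IsComponent.subgroupOf hK.2.1 hKC)
    (component_dvd_card hK.2.1) ?_
  refine (Subgroup.map_eq_bot_iff_of_injective _ (K.map qmap).subtype_injective).mp
    (eq_bot_of_coprime_of_subnormal (pPrimeCore_isNormal.isSubnormal.trans' hK.2.1.1) ?_
      (Subgroup.map_subtype_le _))
  rw [Subgroup.card_map_of_injective (K.map qmap).subtype_injective]
  exact pPrimeCore_coprime

/-- Pumping up: a `p`-component of `C(a)` is, in `G ⧸ O_{p'}(G)`, inside one component or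
diagonal in an orbit of length `p`. -/
theorem pump_up
    (hS : ∀ K : Subgroup (G ⧸ Cfsg.pPrimeCore p G), Cfsg.IsComponent K →
      Group.IsSolvable (Cfsg.Out (↥K ⧸ Subgroup.center ↥K)))
    {a : G} (ha : a ^ p = 1) {I : Subgroup G} (hIC : I ≤ Subgroup.centralizer {a})
    (hI : Cfsg.IsPComponent p (I.subgroupOf (Subgroup.centralizer {a}))) :
    ∃ J : Subgroup (G ⧸ Cfsg.pPrimeCore p G), Cfsg.IsComponent J ∧
      ¬ I.map qmap ≤ Subgroup.centralizer (J : Set (G ⧸ Cfsg.pPrimeCore p G)) ∧
      (∀ J' : Subgroup (G ⧸ Cfsg.pPrimeCore p G), Cfsg.IsComponent J' →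
        ¬ I.map qmap ≤ Subgroup.centralizer (J' : Set (G ⧸ Cfsg.pPrimeCore p G)) →
        ∃ i : ℕ, J' = MulAut.conj (qmap a ^ i) • J) ∧
      (qmap a ∈ Subgroup.normalizer (J : Set (G ⧸ Cfsg.pPrimeCore p G)) → I.map qmap ≤ J) ∧
      (qmap a ∉ Subgroup.normalizer (J : Set (G ⧸ Cfsg.pPrimeCore p G)) →
        I.map qmap = ⁅orbitProd (qmap a) J ⊓ Subgroup.centralizer {qmap a},
            orbitProd (qmap a) J ⊓ Subgroup.centralizer {qmap a}⁆ ∧
        Nat.card (I.map qmap) ≤ Nat.card J ∧ Cfsg.IsQuasisimple (I.map qmap) ∧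
        (∃ ψ : ↥J →* G ⧸ Cfsg.pPrimeCore p G, ψ.range = I.map qmap ∧
          (∀ j : J, (j : G ⧸ Cfsg.pPrimeCore p G)⁻¹ * ψ j ∈
            Subgroup.centralizer (J : Set (G ⧸ Cfsg.pPrimeCore p G))) ∧
          ∀ j : J, ψ j = ((j : G ⧸ Cfsg.pPrimeCore p G) * qmap a) ^ p) ∧
        ∀ e ∈ Subgroup.normalizer (J : Set (G ⧸ Cfsg.pPrimeCore p G)),
          e ∈ Subgroup.centralizer (I.map qmap : Set (G ⧸ Cfsg.pPrimeCore p G)) →
          e ∈ Subgroup.centralizer (J : Set (G ⧸ Cfsg.pPrimeCore p G))) := by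
  set R := Subgroup.zpowers a with hRdef
  have hR : IsPGroup p R := by
    obtain ⟨i, -, hi⟩ := (Nat.dvd_prime_pow (Fact.out : p.Prime)).mp
      (orderOf_dvd_of_pow_eq_one (n := p ^ 1) (by rwa [pow_one]))
    exact IsPGroup.of_card (n := i) (by rw [Nat.card_zpowers, hi])
  have hCR : Subgroup.centralizer (R : Set G) = Subgroup.centralizer {a} := by
    rw [hRdef, Subgroup.zpowers_eq_closure, Subgroup.centralizer_closure]
  set C := Subgroup.centralizer ({a} : Set G) with hC
  have hCmap : C.map qmap = Subgroup.centralizer {qmap a} := by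
    rw [← hCR, map_centralizer_pGroup hR, MonoidHom.map_zpowers, Subgroup.zpowers_eq_closure,
      Subgroup.centralizer_closure]
  have hperf : ⁅I, I⁆ = I := by
    have := congrArg (Subgroup.map C.subtype) (IsPComponent.perfect hI)
    rwa [Subgroup.map_commutator, Subgroup.subgroupOf_map_subtype, inf_eq_left.mpr hIC] at this
  set Ib := I.map qmap with hIb
  have hIbC : Ib ≤ Subgroup.centralizer {qmap a} := hCmap ▸ Subgroup.map_mono hIC
  have hcore : (Oc).subgroupOf C ≤ Cfsg.pPrimeCore p C := by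
    refine le_pPrimeCore inferInstance ?_
    refine Nat.Coprime.coprime_dvd_left ?_ (pPrimeCore_coprime (p := p) (G := G))
    rw [← Subgroup.card_map_of_injective C.subtype_injective, Subgroup.subgroupOf_map_subtype]
    exact Subgroup.card_dvd_of_le inf_le_left
  have hne : Ib ≠ ⊥ := by
    intro h
    rw [hIb, Subgroup.map_eq_bot_iff, QuotientGroup.ker_mk'] at h
    refine IsComponent.ne_bot hI.2.1 ?_
    rw [Subgroup.map_eq_bot_iff, QuotientGroup.ker_mk']
    exact fun z hz => hcore (h hz)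
  have hIs : (Ib.subgroupOf (Subgroup.centralizer {qmap a})).IsSubnormal := by
    let g : ↥C →* ↥(Subgroup.centralizer ({qmap a} : Set (G ⧸ Cfsg.pPrimeCore p G))) :=
      ((qmap).comp C.subtype).codRestrict _ fun z => hCmap ▸ Subgroup.mem_map_of_mem qmap z.2
    have hg : Function.Surjective g := by
      rintro ⟨z, hz⟩
      rw [← hCmap] at hz
      obtain ⟨w, hw, rfl⟩ := hz
      exact ⟨⟨w, hw⟩, rfl⟩
    have e : Ib.subgroupOf (Subgroup.centralizer {qmap a}) = (I.subgroupOf C).map g := by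
      ext ⟨z, hz⟩
      constructor
      · rintro ⟨w, hw, e⟩
        exact ⟨⟨w, hIC hw⟩, hw, Subtype.ext e⟩
      · rintro ⟨w, hw, e⟩
        exact ⟨w, hw, congrArg Subtype.val e⟩
    rw [e]
    exact hI.1.map hg
  have hlay : Ib ≤ Cfsg.layer (G ⧸ Cfsg.pPrimeCore p G) := by
    rw [← pLayer_map]
    refine Subgroup.map_mono ?_
    refine le_trans ?_ (pLayer_balance_of_schreier hS hR)
    rw [hCR]
    intro z hz
    exact ⟨⟨z, hIC hz⟩, (le_sSup hI : I.subgroupOf C ≤ Cfsg.pLayer p C) hz, rfl⟩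
  have hap : (qmap a) ^ p = 1 := by rw [← map_pow, ha, map_one]
  refine component_orbit hap hIbC (by rw [hIb, ← Subgroup.map_commutator, hperf]) hne hIs hlay ?_
  intro D₁ D₂ hD₁ hD₂ hs₁ hs₂ hle
  have hsub : ∀ D : Subgroup (G ⧸ Cfsg.pPrimeCore p G),
      (D.subgroupOf (Subgroup.centralizer {qmap a})).IsSubnormal →
      ((D.comap qmap).subgroupOf C).IsSubnormal := by
    intro D hD
    let g : ↥C →* ↥(Subgroup.centralizer ({qmap a} : Set (G ⧸ Cfsg.pPrimeCore p G))) :=
      ((qmap).comp C.subtype).codRestrict _ fun z => hCmap ▸ Subgroup.mem_map_of_mem qmap z.2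
    exact hD.comap g
  by_contra hno
  push Not at hno
  have hcm : ∀ D : Subgroup (G ⧸ Cfsg.pPrimeCore p G),
      (D.subgroupOf (Subgroup.centralizer {qmap a})).IsSubnormal → ¬ Ib ≤ D →
      ((D.comap qmap).subgroupOf C).map (QuotientGroup.mk' (Cfsg.pPrimeCore p C)) ≤
        Subgroup.centralizer (((I.subgroupOf C).map (QuotientGroup.mk' (Cfsg.pPrimeCore p C))) :
          Set (↥C ⧸ Cfsg.pPrimeCore p C)) := by
    intro D hD hn
    refine (pComponent_le_or_commute_subnormal hI (hsub D hD)).resolve_left fun h => hn ?_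
    rintro _ ⟨z, hz, rfl⟩
    exact h (show (⟨z, hIC hz⟩ : C) ∈ I.subgroupOf C from hz)
  refine IsComponent.ne_bot hI.2.1 (eq_bot_of_perfect_of_comm (IsComponent.perfect hI.2.1) ?_)
  refine le_trans ?_ (sup_le (hcm D₁ hs₁ hno.1) (hcm D₂ hs₂ hno.2))
  rw [← Subgroup.map_sup]
  refine Subgroup.map_mono ?_
  -- the product is the preimage
  intro z hz
  have hzq : qmap (z : G) ∈ D₁ ⊔ D₂ := hle (Subgroup.mem_map_of_mem qmap hz)
  have h1 : (D₁ ⊔ D₂) = (((D₁.comap qmap).subgroupOf C) ⊔ ((D₂.comap qmap).subgroupOf C)).map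
      ((qmap).comp C.subtype) := by
    rw [Subgroup.map_sup, ← Subgroup.map_map, ← Subgroup.map_map, Subgroup.subgroupOf_map_subtype,
      Subgroup.subgroupOf_map_subtype]
    have key : ∀ D : Subgroup (G ⧸ Cfsg.pPrimeCore p G), D ≤ Subgroup.centralizer {qmap a} →
        (D.comap qmap ⊓ C).map qmap = D := by
      intro D hD
      refine le_antisymm ((Subgroup.map_mono inf_le_left).trans (Subgroup.map_comap_le _ _)) ?_
      intro d hd
      obtain ⟨c, hc, rfl⟩ : d ∈ C.map qmap := hCmap ▸ hD hd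
      exact ⟨c, ⟨hd, hc⟩, rfl⟩
    rw [key D₁ hD₁, key D₂ hD₂]
  rw [h1] at hzq
  obtain ⟨w, hw, hwz⟩ := hzq
  have hker : w⁻¹ * z ∈ (D₁.comap qmap).subgroupOf C := by
    show qmap ((w⁻¹ * z : C) : G) ∈ D₁
    have : qmap ((w⁻¹ * z : C) : G) = 1 := by
      simp only [Subgroup.coe_mul, Subgroup.coe_inv, map_mul, map_inv]
      rw [show qmap (w : G) = qmap (z : G) from hwz, inv_mul_cancel]
    rw [this]
    exact D₁.one_mem
  have := Subgroup.mul_mem _ hw (Subgroup.mem_sup_left hker)
  rwa [mul_inv_cancel_left] at this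

/-- An element of `C(a)` centralizing `I` modulo the core of `C(a)` centralizes the image of `I`
when that image is quasisimple. -/
theorem centralizes_image {a : G} {I : Subgroup G} (hIC : I ≤ Subgroup.centralizer {a})
    (hI : Cfsg.IsPComponent p (I.subgroupOf (Subgroup.centralizer {a})))
    (hq : Cfsg.IsQuasisimple (I.map qmap)) : ∀ (e : Subgroup.centralizer ({a} : Set G)),
    QuotientGroup.mk' (Cfsg.pPrimeCore p _) e ∈ Subgroup.centralizer
      (((I.subgroupOf (Subgroup.centralizer {a})).map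
        (QuotientGroup.mk' (Cfsg.pPrimeCore p (Subgroup.centralizer ({a} : Set G))))) : Set _) →
    qmap (e : G) ∈ Subgroup.centralizer (I.map qmap : Set (G ⧸ Cfsg.pPrimeCore p G)) := by
  set C := Subgroup.centralizer ({a} : Set G) with hC
  set I' := I.subgroupOf C with hI'
  set qC := QuotientGroup.mk' (Cfsg.pPrimeCore p C)
  intro e he
  have heN : e ∈ Subgroup.normalizer (I' : Set C) :=
    mem_normalizer_of_image hI (Subgroup.centralizer_le_normalizer _ he)
  have hperf : ⁅I.map qmap, I.map qmap⁆ = I.map qmap := by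
    rw [← Subgroup.map_commutator]
    have := congrArg (Subgroup.map C.subtype) (IsPComponent.perfect hI)
    rw [Subgroup.map_commutator, hI', Subgroup.subgroupOf_map_subtype, inf_eq_left.mpr hIC] at this
    rw [this]
  refine centralizes_of_mod_center hperf ?_
  rintro _ ⟨i, hi, rfl⟩
  have hiI : (⟨i, hIC hi⟩ : C) ∈ I' := hi
  have hcI : ⁅e, ⟨i, hIC hi⟩⁆ ∈ I' := by
    rw [commutatorElement_def]
    exact I'.mul_mem ((Subgroup.mem_normalizer_iff.mp heN _).mp hiI) (I'.inv_mem hiI)
  have hcO : ⁅e, ⟨i, hIC hi⟩⁆ ∈ Cfsg.pPrimeCore p C := by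
    refine (QuotientGroup.eq_one_iff _).mp (show qC _ = 1 from ?_)
    rw [map_commutatorElement, commutatorElement_eq_one_iff_mul_comm]
    exact (Subgroup.mem_centralizer_iff.mp he _ (Subgroup.mem_map_of_mem qC hiI)).symm
  let φ : I' →* I.map qmap :=
    ((qmap).comp (C.subtype.comp I'.subtype)).codRestrict _ fun z => Subgroup.mem_map_of_mem qmap z.2
  have hφ : Function.Surjective φ := by
    rintro ⟨_, z, hz, rfl⟩
    exact ⟨⟨⟨z, hIC hz⟩, hz⟩, rfl⟩
  set N := ((Cfsg.pPrimeCore p C).subgroupOf I').map φ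
  have hNn : N.Normal := Subgroup.Normal.map inferInstance φ hφ
  have hNc : N ≤ Subgroup.center (I.map qmap) := by
    refine (IsQuasisimple.eq_top_or_le_center hq N).resolve_left fun htop => ?_
    have hd : (Nat.card (I.map qmap)).Coprime p := by
      refine Nat.Coprime.coprime_dvd_left ?_ (pPrimeCore_coprime (p := p) (G := C))
      rw [← Subgroup.card_top, ← htop]
      refine (Subgroup.card_map_dvd _ _).trans ?_
      rw [← Subgroup.card_map_of_injective I'.subtype_injective, Subgroup.subgroupOf_map_subtype]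
      exact Subgroup.card_dvd_of_le inf_le_left
    have : I ≤ Cfsg.pPrimeCore p G := by
      have h1 : I' ≤ (Oc).subgroupOf C := by
        rw [IsPComponent.eq_pRes hI, pRes, Subgroup.closure_le]
        rintro z ⟨hz, hzp⟩
        have hzI : z ∈ I' := by rw [IsPComponent.eq_pRes hI]; exact mem_pRes hz hzp
        show (z : G) ∈ Oc
        refine (QuotientGroup.eq_one_iff (z : G)).mp (orderOf_eq_one_iff.mp ?_)
        obtain ⟨k, hk⟩ := IsPGroup.iff_card.mp hzp
        refine Nat.eq_one_of_dvd_coprimes (hd.pow_right k) ?_ ?_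
        · exact Subgroup.orderOf_dvd_natCard _ (Subgroup.mem_map_of_mem qmap hzI)
        · rw [← hk, Nat.card_zpowers]
          exact orderOf_map_dvd ((qmap).comp C.subtype) z
      intro z hz
      exact h1 (show (⟨z, hIC hz⟩ : C) ∈ I' from hz)
    exact (Subgroup.nontrivial_iff_ne_bot _).mp (IsQuasisimple.nontrivial hq)
      ((Subgroup.map_eq_bot_iff _).mpr (by rwa [QuotientGroup.ker_mk']))
  have := hNc ⟨⟨_, hcI⟩, hcO, rfl⟩
  rw [← map_commutatorElement]
  refine ⟨Subgroup.mem_map_of_mem qmap hcI, Subgroup.mem_centralizer_iff.mpr fun y hy => ?_⟩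
  exact congrArg Subtype.val (Subgroup.mem_center_iff.mp this ⟨y, hy⟩)

end Group

end Cfsg.Agent.Invol
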