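import Mathlib
import Cfsg.Prelude
import Cfsg.Agent.Lib.Grp.Cores
import Cfsg.Agent.Lib.Invol.CentrallyLarge
import Cfsg.Agent.Lib.Invol.SL2Natural
import Cfsg.Agent.Lib.Invol.PushUniqueMax

/-!
# The `p`-core of a pushing-up situation is centrally large

A counting bound for the centre of a Sylow subgroup, and the dichotomy for derived subgroups of
minimal centrally large subgroups.
-/

set_option autoImplicit false
set_option linter.style.haveILetI false
set_option linter.unusedSectionVars false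

namespace Cfsg.Agent.Invol.PushCL

open Subgroup Matrix
open Cfsg.Agent.Grp.SL2 (up low up_zero up_mul)
open Cfsg.Agent.Invol.Nat2 (upG mem_upG dg dg_up)

universe u v

section Line

variable {F : Type v} [Field F]

local notation "SS" => Matrix.SpecialLinearGroup (Fin 2) F

/-- A proper subgroup containing the upper unitriangular group meets the lower one trivially. -/
theorem low_mem {M : Subgroup SS} (hU : upG ≤ M) (hM : M ≠ ⊤) {t : F} (ht : low t ∈ M) : t = 0 := by
  by_contra h0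
  apply hM
  have hu : ∀ s, up s ∈ M := fun s => hU (mem_upG.mpr ⟨s, rfl⟩)
  have hl : ∀ s : F, low s ∈ M := by
    intro s
    have e : (low s : SS) =
        (up (-t⁻¹) * low t * up (-t⁻¹)) * up (-(s / (t * t))) * (up (-t⁻¹) * low t * up (-t⁻¹))⁻¹ := by
      rw [eq_mul_inv_iff_mul_eq]
      refine Subtype.ext ?_
      simp only [Matrix.SpecialLinearGroup.coe_mul]
      ext i j
      fin_cases i <;> fin_cases j <;>
        simp [up, low, Matrix.mul_apply, Fin.sum_univ_two] <;> field_simp <;> ring_nf <;> simp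
    rw [e]
    exact mul_mem (mul_mem (mul_mem (mul_mem (hu _) ht) (hu _)) (hu _))
      (inv_mem (mul_mem (mul_mem (hu _) ht) (hu _)))
  refine SL2Nat.generated M hu ?_
  have e : (SL2Nat.wel : SS) = up (-1) * low 1 * up (-1) := by
    refine Subtype.ext ?_
    simp only [Matrix.SpecialLinearGroup.coe_mul]
    ext i j
    fin_cases i <;> fin_cases j <;>
      simp [up, low, SL2Nat.wel, Matrix.mul_apply, Fin.sum_univ_two]
  rw [e]; exact mul_mem (mul_mem (hu _) (hl _)) (hu _)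

/-- The points of the projective line give distinct cosets. -/
theorem exists_points {M : Subgroup SS} (hU : upG ≤ M) (hM : M ≠ ⊤) :
    ∃ f : Option F → SS, ∀ i j, i ≠ j → (f i)⁻¹ * f j ∉ M := by
  have hw : (SL2Nat.wel : SS) ∉ M := fun h => hM (SL2Nat.generated M (fun s => hU (mem_upG.mpr ⟨s, rfl⟩)) h)
  have hu : ∀ s, up s ∈ M := fun s => hU (mem_upG.mpr ⟨s, rfl⟩)
  refine ⟨fun o => o.elim 1 fun t => up t * SL2Nat.wel, ?_⟩
  rintro (_ | t) (_ | s) hne h
  · exact hne rfl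
  · simp only [Option.elim, inv_one, one_mul] at h
    exact hw ((M.mul_mem_cancel_left (hu s)).mp h)
  · simp only [Option.elim, mul_one] at h
    exact hw ((M.mul_mem_cancel_left (hu t)).mp (M.inv_mem_iff.mp h))
  · simp only [Option.elim] at h
    have e : (low (t - s) : SS) = (up t * SL2Nat.wel)⁻¹ * (up s * SL2Nat.wel) := by
      rw [eq_inv_mul_iff_mul_eq]
      refine Subtype.ext ?_
      simp only [Matrix.SpecialLinearGroup.coe_mul]
      ext i j
      fin_cases i <;> fin_cases j <;>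
        simp [up, low, SL2Nat.wel, Matrix.mul_apply, Fin.sum_univ_two]
    rw [← e] at h
    exact hne (congrArg some (sub_eq_zero.mp (low_mem hU hM h)))

theorem not_normal_upG : ¬ (upG : Subgroup SS).Normal := by
  intro hn
  have h := hn.conj_mem (up 1) (mem_upG.mpr ⟨1, rfl⟩) (SL2Nat.wel : SS)
  obtain ⟨u, hu⟩ := mem_upG.mp h
  have hu' : up u * (SL2Nat.wel : SS) = SL2Nat.wel * up 1 := by rw [hu]; group
  have h2 := congrArg (fun x : SS => x.1 1 1) hu'
  simp only [Matrix.SpecialLinearGroup.coe_mul] at h2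
  simp [up, SL2Nat.wel, Matrix.mul_apply, Fin.sum_univ_two] at h2

theorem card_upG : Nat.card (upG : Subgroup SS) = Nat.card F := by
  refine (Nat.card_congr (Equiv.ofBijective (fun t : F => (⟨up t, mem_upG.mpr ⟨t, rfl⟩⟩ : upG (F := F))) ⟨?_, ?_⟩)).symm
  · intro a b h
    have h2 := congrArg (fun x : upG (F := F) => ((x : SS) : Matrix (Fin 2) (Fin 2) F) 0 1) h
    simpa [up] using h2
  · rintro ⟨x, hx⟩
    obtain ⟨t, rfl⟩ := mem_upG.mp hx
    exact ⟨t, rfl⟩

end Line

section Iso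

variable {P : Type u} [Group P] [Finite P]

/-- Being minimal centrally large only depends on the isomorphism types of the subgroups below. -/
theorem isCentrallyLarge_congr {R R' : Subgroup P} (e : ↥R ≃* ↥R') (hR : Cfsg.IsCentrallyLarge R) :
    Cfsg.IsCentrallyLarge R' := by
  unfold Cfsg.IsCentrallyLarge at hR ⊢
  rw [← Nat.card_congr e.toEquiv, ← Nat.card_congr (Subgroup.centerCongr e).toEquiv, hR]

theorem minimal_map (φ : P ≃* P) {R : Subgroup P} (hR : Cfsg.IsMinimalCentrallyLarge R) :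
    Cfsg.IsMinimalCentrallyLarge (R.map φ.toMonoidHom) := by
  refine ⟨isCentrallyLarge_congr (φ.subgroupMap R) hR.1, fun R' hle hR' => ?_⟩
  have hle2 : R'.map φ.symm.toMonoidHom ≤ R := by
    rintro _ ⟨x, hx, rfl⟩
    obtain ⟨r, hr, rfl⟩ := hle hx
    simpa using hr
  have e := hR.2 _ hle2 (isCentrallyLarge_congr (φ.symm.subgroupMap R') hR')
  rw [← e, Subgroup.map_map, show φ.toMonoidHom.comp φ.symm.toMonoidHom = MonoidHom.id P from
    MonoidHom.ext φ.apply_symm_apply, Subgroup.map_id]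

theorem derived_characteristic {Q : Subgroup P} (hQ : Cfsg.IsMinimalCentrallyLarge Q) :
    (⁅Q, Q⁆).Characteristic := by
  refine characteristic_iff_map_eq.mpr fun φ => ?_
  rw [Subgroup.map_commutator]
  exact le_antisymm (CL.minimal_commutator_le (minimal_map φ hQ) hQ) (CL.minimal_commutator_le hQ (minimal_map φ hQ))

end Iso

section Main

variable {G : Type u} [Group G] [Finite G] {p : ℕ} [hp : Fact p.Prime]

/-- Points of the line as cosets of the maximal subgroup above a Sylow subgroup. -/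
theorem exists_cosets (S : Sylow p G) {M : Subgroup G} (hM : IsCoatom M) (hSM : (S : Subgroup G) ≤ M)
    (huniq : ∀ M' : Subgroup G, IsCoatom M' ∧ (S : Subgroup G) ≤ M' → M' = M)
    {F : Type} [Field F] [Fintype F] [CharP F p] (K : Subgroup G) [K.Normal]
    (e : G ⧸ K ≃* Matrix.ProjectiveSpecialLinearGroup (Fin 2) F) :
    K ≤ M ∧ normalizer (M : Set G) = M ∧ (∃ f : Option F → G, ∀ i j, i ≠ j → (f i)⁻¹ * f j ∉ M) ∧
      Nat.card ((S : Subgroup G).map (QuotientGroup.mk' K)) ≤ Fintype.card F := by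
  classical
  obtain ⟨π, hπdef⟩ : ∃ π, π = QuotientGroup.mk' K := ⟨_, rfl⟩
  have hπ : Function.Surjective π := hπdef ▸ QuotientGroup.mk'_surjective K
  rw [← hπdef]
  let φ : Matrix.SpecialLinearGroup (Fin 2) F →* G ⧸ K := e.symm.toMonoidHom.comp (QuotientGroup.mk' _)
  have hφ : Function.Surjective φ := e.symm.surjective.comp (QuotientGroup.mk'_surjective _)
  obtain ⟨P₀, -⟩ : ∃ P₀ : Sylow p (Matrix.SpecialLinearGroup (Fin 2) F), True := ⟨default, trivial⟩
  obtain ⟨γ, hγ⟩ := MulAction.exists_smul_eq (G ⧸ K) (Sylow.mapSurjective hφ P₀) (Sylow.mapSurjective hπ S)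
  obtain ⟨g₁, rfl⟩ := hφ γ
  have hSimg : (S : Subgroup G).map π =
      ((g₁ • P₀ : Sylow p _) : Subgroup (Matrix.SpecialLinearGroup (Fin 2) F)).map φ := by
    have h := congrArg (fun X : Sylow p (G ⧸ K) => (X : Subgroup (G ⧸ K))) hγ
    simp only [Sylow.coe_subgroup_smul, Sylow.coe_mapSurjective] at h
    rw [← h, Sylow.coe_subgroup_smul]
    ext x
    simp only [Subgroup.mem_map, Subgroup.mem_pointwise_smul_iff_inv_smul_mem]
    constructor
    · rintro ⟨a, ha, hax⟩
      refine ⟨g₁ * a * g₁⁻¹, by simpa [mul_assoc, MulAut.smul_def] using ha, ?_⟩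
      simp only [MulAut.smul_def, MulAut.inv_apply, MulAut.conj_symm_apply] at hax
      rw [map_mul, map_mul, map_inv, hax]; group
    · rintro ⟨b, hb, rfl⟩
      simp only [MulAut.smul_def, MulAut.inv_apply, MulAut.conj_symm_apply] at hb ⊢
      exact ⟨_, hb, by simp⟩
  obtain ⟨g₂, hg₂⟩ := Nat2.exists_conj_upG (F := F) p (g₁ • P₀)
  have hcard : Nat.card ((S : Subgroup G).map π) ≤ Fintype.card F := by
    rw [hSimg, hg₂]
    calc _ ≤ Nat.card ↥((upG : Subgroup (Matrix.SpecialLinearGroup (Fin 2) F)).map (MulAut.conj g₂).toMonoidHom) :=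
          Nat.le_of_dvd Nat.card_pos (Subgroup.card_map_dvd _ _)
      _ = Nat.card ↥(upG : Subgroup (Matrix.SpecialLinearGroup (Fin 2) F)) :=
          Subgroup.card_map_of_injective (MulAut.conj g₂).injective
      _ = Fintype.card F := by rw [card_upG, Nat.card_eq_fintype_card]
  have hKM : K ≤ M := by
    rcases (eq_top_or_exists_le_coatom (K ⊔ (S : Subgroup G))) with htop | ⟨M', hM', hle⟩
    · exfalso
      have hfull : (S : Subgroup G).map π = ⊤ := by
        have h2 := congrArg (Subgroup.map π) htop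
        rw [Subgroup.map_sup, ← MonoidHom.range_eq_map, MonoidHom.range_eq_top.mpr hπ] at h2
        rw [hπdef] at h2 ⊢
        rwa [(Subgroup.map_eq_bot_iff _).mpr (QuotientGroup.ker_mk' K).ge, bot_sup_eq] at h2
      rw [hSimg, hg₂] at hfull
      apply not_normal_upG (F := F)
      have hn : ((upG : Subgroup (Matrix.SpecialLinearGroup (Fin 2) F)).map (MulAut.conj g₂).toMonoidHom).Normal := by
        refine ⟨fun x hx y => ?_⟩
        obtain ⟨z, hz, hzy⟩ := hfull.ge (mem_top (φ y))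
        have hk : z⁻¹ * y ∈ φ.ker := by rw [MonoidHom.mem_ker, map_mul, map_inv, hzy, inv_mul_cancel]
        have hc : z⁻¹ * y ∈ center (Matrix.SpecialLinearGroup (Fin 2) F) := by
          rw [MonoidHom.mem_ker] at hk
          exact (QuotientGroup.eq_one_iff _).mp (e.symm.injective (hk.trans (map_one _).symm))
        have h3 := Subgroup.mem_center_iff.mp hc x
        have e2 : y * x * y⁻¹ = z * x * z⁻¹ := by
          calc y * x * y⁻¹ = z * (z⁻¹ * y * x) * (z⁻¹ * y)⁻¹ * z⁻¹ := by group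
            _ = z * (x * (z⁻¹ * y)) * (z⁻¹ * y)⁻¹ * z⁻¹ := by rw [h3]
            _ = z * x * z⁻¹ := by group
        rw [e2]
        exact mul_mem (mul_mem hz hx) (inv_mem hz)
      refine ⟨fun x hx y => ?_⟩
      obtain ⟨w, hw, e3⟩ := hn.conj_mem (g₂ * x * g₂⁻¹) ⟨x, hx, rfl⟩ (g₂ * y * g₂⁻¹)
      have : w = y * x * y⁻¹ := (MulAut.conj g₂).injective (by
        refine e3.trans ?_
        simp [mul_assoc])
      exact this ▸ hw
    · exact huniq M' ⟨hM', le_sup_right.trans hle⟩ ▸ (le_sup_left.trans hle)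
  have hMback : ∀ x : G, π x ∈ M.map π → x ∈ M := by
    rintro x ⟨y, hy, hyx⟩
    rw [hπdef] at hyx
    have hk : y⁻¹ * x ∈ K := QuotientGroup.eq.mp hyx
    simpa using mul_mem hy (hKM hk)
  obtain ⟨M₁, hM₁⟩ : ∃ M₁, M₁ = (M.map π).comap (φ.comp (MulAut.conj g₂).toMonoidHom) := ⟨_, rfl⟩
  have hUM₁ : upG ≤ M₁ := fun x hx => by
    rw [hM₁, Subgroup.mem_comap]
    refine Subgroup.map_mono hSM ?_
    rw [hSimg, hg₂]
    exact ⟨_, ⟨x, hx, rfl⟩, rfl⟩
  have hM₁top : M₁ ≠ ⊤ := by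
    intro htop
    refine hM.1 (eq_top_iff.mpr fun x _ => hMback x ?_)
    obtain ⟨y, hy⟩ := hφ (π x)
    have h := (hM₁ ▸ htop).ge (mem_top (g₂⁻¹ * y * g₂))
    simpa [mul_assoc, hy] using h
  have hnn : normalizer (M : Set G) = M := by
    refine (hM.le_iff.mp le_normalizer).resolve_left fun htop => ?_
    haveI : M.Normal := normalizer_eq_top_iff.mp htop
    haveI hn1 : M₁.Normal := by
      rw [hM₁]; haveI := (inferInstance : M.Normal).map π hπ; infer_instance
    have h := hn1.conj_mem (up (-1)) (hUM₁ (mem_upG.mpr ⟨-1, rfl⟩)) (SL2Nat.wel : Matrix.SpecialLinearGroup (Fin 2) F)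
    rw [← SL2Nat.low_eq] at h
    exact one_ne_zero (low_mem hUM₁ hM₁top h)
  obtain ⟨f, hf⟩ := exists_points hUM₁ hM₁top
  obtain ⟨lift, hlift⟩ : ∃ lift : G ⧸ K → G, ∀ y, π (lift y) = y := ⟨_, Function.surjInv_eq hπ⟩
  refine ⟨hKM, hnn, ⟨fun i => lift (φ (g₂ * f i * g₂⁻¹)), fun i j hij h => hf i j hij ?_⟩, hcard⟩
  rw [hM₁, Subgroup.mem_comap]
  refine ⟨_, h, ?_⟩
  simp [map_mul, map_inv, hlift, mul_assoc]

/-- If the centre of `S` is not central, `W` is large compared with it. -/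
theorem center_bound (S : Sylow p G) (hE₂ : ∃! M : Subgroup G, IsCoatom M ∧ (S : Subgroup G) ≤ M)
    {F : Type} [Field F] [Fintype F] [CharP F p] {n : ℕ} (hF : Fintype.card F = p ^ n) (K : Subgroup G) [K.Normal]
    (e : G ⧸ K ≃* Matrix.ProjectiveSpecialLinearGroup (Fin 2) F) {W C : Subgroup G} [W.Normal]
    (hW : IsPGroup p W) (hCW : C ≤ W) (hCS : C ≤ centralizer ((S : Subgroup G) : Set G))
    (hne : ¬ C ≤ center G) :
    Nat.card ((S : Subgroup G).map (QuotientGroup.mk' K)) * Nat.card C ≤ Nat.card W := by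
  classical
  obtain ⟨M, ⟨hM, hSM⟩, huniq⟩ := hE₂
  obtain ⟨hKM, hnn, ⟨f, hf⟩, hcard⟩ := exists_cosets S hM hSM huniq K e
  refine le_trans (Nat.mul_le_mul_right _ hcard) ?_
  let A := {x : ↥C // (x : G) ∉ center G}
  have hinj : Function.Injective (fun q : Option F × A =>
      (⟨f q.1 * ((q.2 : ↥C) : G) * (f q.1)⁻¹, (inferInstance : W.Normal).conj_mem _ (hCW (q.2 : ↥C).2) _⟩ : ↥W)) := by
    rintro ⟨i, x⟩ ⟨j, y⟩ h
    have h' : f i * ((x : ↥C) : G) * (f i)⁻¹ = f j * ((y : ↥C) : G) * (f j)⁻¹ := congrArg Subtype.val h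
    rcases eq_or_ne i j with rfl | hij
    · have h'' : ((x : ↥C) : G) = ((y : ↥C) : G) := by simpa using h'
      exact Prod.ext rfl (Subtype.ext (Subtype.ext h''))
    exfalso
    obtain ⟨w, hw⟩ : ∃ w, w = (f i)⁻¹ * f j := ⟨_, rfl⟩
    have hwM : w ∉ M := hw ▸ hf i j hij
    have hx : ((x : ↥C) : G) = w * ((y : ↥C) : G) * w⁻¹ := by
      calc ((x : ↥C) : G) = (f i)⁻¹ * (f i * ((x : ↥C) : G) * (f i)⁻¹) * f i := by group
        _ = w * ((y : ↥C) : G) * w⁻¹ := by rw [h', hw]; group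
    apply x.2
    obtain ⟨N, hN⟩ : ∃ N, N = centralizer ({((x : ↥C) : G)} : Set G) := ⟨_, rfl⟩
    have h1 : (S : Subgroup G) ≤ N := fun s hs => by
      rw [hN, mem_centralizer_singleton_iff]
      exact mem_centralizer_iff.mp (hCS (x : ↥C).2) s hs
    have h2 : (S : Subgroup G).map (MulAut.conj w).toMonoidHom ≤ N := by
      rintro _ ⟨s, hs, rfl⟩
      rw [hN, mem_centralizer_singleton_iff, hx]
      have h3 := mem_centralizer_iff.mp (hCS (y : ↥C).2) s hs
      show w * s * w⁻¹ * (w * ((y : ↥C) : G) * w⁻¹) = w * ((y : ↥C) : G) * w⁻¹ * (w * s * w⁻¹)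
      calc w * s * w⁻¹ * (w * ((y : ↥C) : G) * w⁻¹) = w * (s * ((y : ↥C) : G)) * w⁻¹ := by group
        _ = w * (((y : ↥C) : G) * s) * w⁻¹ := by rw [h3]
        _ = _ := by group
    have htop : N = ⊤ := by
      by_contra hne'
      obtain ⟨M', hM', hle⟩ := (eq_top_or_exists_le_coatom N).resolve_left hne'
      obtain rfl := huniq M' ⟨hM', h1.trans hle⟩
      have hback : IsCoatom (M'.map (MulAut.conj w⁻¹).toMonoidHom) ∧
          (S : Subgroup G) ≤ M'.map (MulAut.conj w⁻¹).toMonoidHom := by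
        refine ⟨((MulAut.conj w⁻¹).mapSubgroup.isCoatom_iff M').mpr hM', fun s hs => ?_⟩
        exact ⟨_, hle (h2 ⟨s, hs, rfl⟩), by simp [mul_assoc]⟩
      have e3 := huniq _ hback
      refine hwM (inv_mem_iff.mp ?_)
      rw [← hnn]
      exact mem_normalizer_fintype fun a ha => e3.le ⟨a, ha, by simp⟩
    rw [Subgroup.mem_center_iff]
    intro g
    exact mem_centralizer_singleton_iff.mp (hN ▸ htop.ge (mem_top g))
  have hle := Nat.card_le_card_of_injective _ hinj
  rw [Nat.card_prod, Nat.card_eq_fintype_card, Fintype.card_option, hF] at hle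
  -- the non-central part is at least half
  obtain ⟨Z, hZ⟩ : ∃ Z, Z = (center G).subgroupOf C := ⟨_, rfl⟩
  have hA : Nat.card A + Nat.card Z = Nat.card C := by
    rw [← Nat.card_congr (Equiv.sumCompl (fun x : ↥C => (x : G) ∈ center G)), Nat.card_sum, add_comm]
    subst hZ
    rfl
  have hC : IsPGroup p C := hW.to_le hCW
  obtain ⟨c, hc⟩ := IsPGroup.iff_card.mp hC
  obtain ⟨z, hz⟩ := IsPGroup.iff_card.mp (hC.to_subgroup Z)
  obtain ⟨w, hw⟩ := IsPGroup.iff_card.mp hW
  have hzc : z < c := by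
    refine (Nat.pow_lt_pow_iff_right hp.out.one_lt).mp ?_
    rw [← hz, ← hc]
    refine lt_of_le_of_ne (card_le_card_group Z) fun he => hne ?_
    have := Subgroup.eq_top_of_card_eq Z he
    rw [hZ] at this
    exact subgroupOf_eq_top.mp this
  rw [hc, hz] at hA
  rw [hF, hc, hw, ← pow_add]
  refine Nat.pow_le_pow_right hp.out.pos ?_
  by_contra hlt
  push Not at hlt
  have h1 : p ^ (z + 1) ≤ p ^ c := Nat.pow_le_pow_right hp.out.pos hzc
  have h2 : p ^ (w + 1) ≤ p ^ (n + c) := Nat.pow_le_pow_right hp.out.pos hlt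
  have h3 := hp.out.two_le
  rw [hw] at hle
  rw [pow_succ] at h1 h2
  rw [pow_add] at h2
  have h4 : 0 < p ^ c := pow_pos hp.out.pos c
  have h5 : 0 < p ^ n := pow_pos hp.out.pos n
  have hAp : p ^ c ≤ Nat.card A * p := by nlinarith
  have h6 := Nat.mul_le_mul_left (p ^ n + 1) hAp
  have h7 := Nat.mul_le_mul_right p hle
  nlinarith

/-- Conjugates of minimal centrally large subgroups lying in a normal subgroup. -/
theorem exists_conj_minimal {S : Subgroup G} {T : Subgroup G} [T.Normal] (hTS : T ≤ S) {R : Subgroup ↥S}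
    (hR : Cfsg.IsMinimalCentrallyLarge R) (hRT : R.map S.subtype ≤ T) (g : G) :
    ∃ R' : Subgroup ↥S, Cfsg.IsMinimalCentrallyLarge R' ∧
      R'.map S.subtype = (R.map S.subtype).map (MulAut.conj g).toMonoidHom := by
  have hmove : ∀ (X : Subgroup ↥S) (h : G), X.map S.subtype ≤ T →
      (X.map S.subtype).map (MulAut.conj h).toMonoidHom ≤ S := fun X h hX => by
    rintro _ ⟨x, hx, rfl⟩
    exact hTS ((inferInstance : T.Normal).conj_mem x (hX hx) h)
  have hiso : ∀ (X : Subgroup ↥S) (h : G), X.map S.subtype ≤ T → Cfsg.IsCentrallyLarge X →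
      Cfsg.IsCentrallyLarge (((X.map S.subtype).map (MulAut.conj h).toMonoidHom).subgroupOf S) := fun X h hX hc =>
    isCentrallyLarge_congr ((X.equivMapOfInjective S.subtype S.subtype_injective).trans
      (((MulAut.conj h).subgroupMap _).trans (subgroupOfEquivOfLe (hmove X h hX)).symm)) hc
  refine ⟨_, ⟨hiso R g hRT hR.1, fun R' hle hR' => ?_⟩, map_subgroupOf_eq_of_le (hmove R g hRT)⟩
  have hle1 : R'.map S.subtype ≤ (R.map S.subtype).map (MulAut.conj g).toMonoidHom := by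
    rintro _ ⟨x, hx, rfl⟩; exact hle hx
  have hR'T : R'.map S.subtype ≤ T := hle1.trans (by
    rintro _ ⟨x, hx, rfl⟩; exact (inferInstance : T.Normal).conj_mem x (hRT hx) g)
  obtain ⟨R'', hR''def⟩ : ∃ R'', R'' = ((R'.map S.subtype).map (MulAut.conj g⁻¹).toMonoidHom).subgroupOf S := ⟨_, rfl⟩
  have hR''R : R'' ≤ R := by
    intro x hx
    rw [hR''def, mem_subgroupOf] at hx
    obtain ⟨a, ha, e⟩ := hx
    obtain ⟨b, hb, rfl⟩ := hle1 ha
    obtain ⟨r, hr, rfl⟩ := hb
    have : x = r := Subtype.ext (by rw [← e]; simp [mul_assoc])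
    rwa [this]
  have h2 := hR.2 R'' hR''R (hR''def ▸ hiso R' g⁻¹ hR'T hR')
  refine le_antisymm hle fun x hx => ?_
  rw [mem_subgroupOf, ← h2, hR''def, map_subgroupOf_eq_of_le (hmove R' g⁻¹ hR'T)] at hx
  obtain ⟨_, ⟨a, ha, rfl⟩, e⟩ := hx
  obtain ⟨r, hr, rfl⟩ := ha
  have : x = r := Subtype.ext (by rw [← e]; simp [mul_assoc])
  rwa [this]

/-- Common facts for a pushing-up situation in which `S` centralises `Z(J(S))`. -/
theorem core_centrallyLarge (S : Sylow p G) (hE₁ : centralizer (Cfsg.pCore p G : Set G) ≤ Cfsg.pCore p G)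
    (hE₂ : ∃! M : Subgroup G, IsCoatom M ∧ (S : Subgroup G) ≤ M)
    {F : Type} [Field F] [Fintype F] {n : ℕ} (hF : Fintype.card F = p ^ n) (K : Subgroup G) [K.Normal]
    (e : G ⧸ K ≃* Matrix.ProjectiveSpecialLinearGroup (Fin 2) F)
    (hJ : (S : Subgroup G) ≤ centralizer (Cfsg.centerThompsonAOf (S : Subgroup G) : Set G))
    (hne : ¬ (S : Subgroup G) ⊓ centralizer ((S : Subgroup G) : Set G) ≤ center G) :
    Cfsg.IsCentrallyLarge ((Cfsg.pCore p G).subgroupOf (S : Subgroup G)) ∧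
      Nat.card ↥(Cfsg.pCore p G ⊓ centralizer (Cfsg.pCore p G : Set G) : Subgroup G) ≤
        Nat.card ↥((S : Subgroup G).map (QuotientGroup.mk' K)) *
          Nat.card ↥((S : Subgroup G) ⊓ centralizer ((S : Subgroup G) : Set G) : Subgroup G) := by
  haveI := Nat2.charP_of_card (F := F) hF
  obtain ⟨T, hT⟩ : ∃ T, T = Cfsg.pCore p G := ⟨_, rfl⟩
  rw [← hT] at hE₁ ⊢
  haveI hTn : T.Normal := hT ▸ Grp.pCore_isNormal
  have hTS : T ≤ (S : Subgroup G) := hT ▸ Grp.pCore_le_sylow S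
  -- `S` itself is centrally large
  have hStop : Cfsg.IsCentrallyLarge (⊤ : Subgroup ↥(S : Subgroup G)) := by
    obtain ⟨Q, hQ⟩ := CL.exists_centrallyLarge ↥(S : Subgroup G)
    have hM := CL.sup_thompson hQ
    have h := CL.centralizer_center_thompson_le hM le_sup_right
    suffices hall : (Q ⊔ Cfsg.thompsonSubgroupA ↥(S : Subgroup G)) = ⊤ by rwa [hall] at hM
    refine eq_top_iff.mpr fun x _ => h (mem_centralizer_iff.mpr fun y hy => Subtype.ext ?_)
    refine mem_centralizer_iff.mp (hJ x.2) (y : G) ⟨⟨y, hy.1, rfl⟩, mem_centralizer_iff.mpr ?_⟩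
    rintro _ ⟨j, hj, rfl⟩
    exact congrArg Subtype.val (mem_centralizer_iff.mp hy.2 j hj)
  obtain ⟨ZS, hZS⟩ : ∃ ZS, ZS = (S : Subgroup G) ⊓ centralizer ((S : Subgroup G) : Set G) := ⟨_, rfl⟩
  rw [← hZS] at hne
  obtain ⟨W, hW⟩ : ∃ W, W = T ⊓ centralizer (T : Set G) := ⟨_, rfl⟩
  have hCn := PushUnique.centralizer_normal' T
  haveI hWn : W.Normal := hW ▸ ⟨fun x hx g => ⟨hTn.conj_mem x hx.1 g, hCn.conj_mem x hx.2 g⟩⟩
  have hZW : ZS ≤ W := fun z hz => hW ▸
    ⟨hE₁ (centralizer_le hTS (hZS ▸ hz : z ∈ (S : Subgroup G) ⊓ centralizer ((S : Subgroup G) : Set G)).2),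
      centralizer_le hTS (hZS ▸ hz : z ∈ (S : Subgroup G) ⊓ centralizer ((S : Subgroup G) : Set G)).2⟩
  have hWp : IsPGroup p W := S.isPGroup'.to_le ((hW ▸ inf_le_left : W ≤ T).trans hTS)
  have hb := center_bound S hE₂ hF K e hWp hZW (hZS ▸ inf_le_right) hne
  -- the index of the core
  obtain ⟨π, hπ⟩ : ∃ π, π = QuotientGroup.mk' K := ⟨_, rfl⟩
  rw [← hπ] at hb
  obtain ⟨M, ⟨hM, hSM⟩, huniq⟩ := id hE₂
  have hKT : (S : Subgroup G) ⊓ K ≤ T := by
    rcases PushUnique.sup_eq_top_or_normal S hE₂ K with htop | hn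
    · exact absurd (top_le_iff.mp (htop.ge.trans (sup_le (exists_cosets S hM hSM huniq K e).1 hSM))) hM.1
    · exact hT ▸ Grp.le_pCore hn (S.isPGroup'.to_le inf_le_left)
  have hidx : Nat.card (S : Subgroup G) ≤ Nat.card ((S : Subgroup G).map π) * Nat.card T := by
    have h1 := ((π.domRestrict (S : Subgroup G)).ker).index_mul_card
    rw [index_ker, MonoidHom.domRestrict_range] at h1
    rw [← h1]
    refine Nat.mul_le_mul_left _ ?_
    rw [← card_map_of_injective (S : Subgroup G).subtype_injective]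
    refine card_le_of_le ?_
    rintro _ ⟨x, hx, rfl⟩
    refine hKT ⟨x.2, ?_⟩
    rw [hπ] at hx
    exact (QuotientGroup.eq_one_iff _).mp hx
  obtain ⟨T₀, hT₀⟩ : ∃ T₀, T₀ = T.subgroupOf (S : Subgroup G) := ⟨_, rfl⟩
  rw [← hT₀, ← hW, ← hZS, ← hπ]
  have hTc : Nat.card T₀ = Nat.card T := hT₀ ▸ Nat.card_congr (subgroupOfEquivOfLe hTS).toEquiv
  have hZc : Nat.card (centralizer ((⊤ : Subgroup ↥(S : Subgroup G)) : Set ↥(S : Subgroup G))) ≤ Nat.card ZS := by
    rw [← card_map_of_injective (S : Subgroup G).subtype_injective]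
    refine card_le_of_le ?_
    rintro _ ⟨x, hx, rfl⟩
    rw [hZS]
    exact ⟨x.2, mem_centralizer_iff.mpr fun s hs =>
      congrArg Subtype.val (mem_centralizer_iff.mp hx ⟨s, hs⟩ (mem_top _))⟩
  have hWc : Nat.card W ≤ Nat.card (centralizer (T₀ : Set ↥(S : Subgroup G))) := by
    rw [← card_map_of_injective (S : Subgroup G).subtype_injective]
    refine card_le_of_le fun w hw => ?_
    rw [hW] at hw
    refine ⟨⟨w, hTS hw.1⟩, mem_centralizer_iff.mpr fun t ht => Subtype.ext ?_, rfl⟩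
    rw [hT₀] at ht
    exact mem_centralizer_iff.mp hw.2 (t : G) ht
  obtain ⟨hmax, -⟩ := (Invol.centrallyLarge_iff _).mp hStop
  have hC0 : centralizer (T₀ : Set ↥(S : Subgroup G)) ≤ T₀ := fun x hx => by
    rw [hT₀, mem_subgroupOf]
    refine hE₁ (mem_centralizer_iff.mpr fun t ht => ?_)
    exact congrArg Subtype.val (mem_centralizer_iff.mp hx ⟨t, hTS ht⟩ (hT₀ ▸ mem_subgroupOf.mpr ht))
  have hup : Nat.card ↥(S : Subgroup G) * Nat.card ZS ≤
      Nat.card T * (Nat.card ((S : Subgroup G).map π) * Nat.card ZS) := by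
    calc Nat.card ↥(S : Subgroup G) * Nat.card ZS
        ≤ (Nat.card ((S : Subgroup G).map π) * Nat.card T) * Nat.card ZS := Nat.mul_le_mul_right _ hidx
      _ = Nat.card T * (Nat.card ((S : Subgroup G).map π) * Nat.card ZS) := by ring
  refine ⟨(Invol.centrallyLarge_iff _).mpr ⟨hmax.of_ge ?_, hC0⟩, ?_⟩
  · unfold Invol.cdMeasure
    rw [card_top, hTc]
    exact ((Nat.mul_le_mul_left _ hZc).trans hup).trans (Nat.mul_le_mul_left _ (hb.trans hWc))
  · have h := hmax T₀
    unfold Invol.cdMeasure at h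
    rw [card_top, hTc] at h
    exact Nat.le_of_mul_le_mul_left
      ((Nat.mul_le_mul_left _ hWc).trans ((h.trans (Nat.mul_le_mul_left _ hZc)).trans hup)) Nat.card_pos

/-- The core contains a minimal centrally large subgroup. -/
theorem exists_min_in_core (S : Sylow p G) (hE₁ : centralizer (Cfsg.pCore p G : Set G) ≤ Cfsg.pCore p G)
    (hE₂ : ∃! M : Subgroup G, IsCoatom M ∧ (S : Subgroup G) ≤ M)
    {F : Type} [Field F] [Fintype F] {n : ℕ} (hF : Fintype.card F = p ^ n) (K : Subgroup G) [K.Normal]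
    (e : G ⧸ K ≃* Matrix.ProjectiveSpecialLinearGroup (Fin 2) F)
    (hJ : (S : Subgroup G) ≤ centralizer (Cfsg.centerThompsonAOf (S : Subgroup G) : Set G))
    (hne : ¬ (S : Subgroup G) ⊓ centralizer ((S : Subgroup G) : Set G) ≤ center G) :
    ∃ R₀ : Subgroup ↥(S : Subgroup G), Cfsg.IsMinimalCentrallyLarge R₀ ∧
      R₀.map (S : Subgroup G).subtype ≤ Cfsg.pCore p G := by
  obtain ⟨R₀, hR₀, hmin⟩ := CL.exists_minimal_le (core_centrallyLarge S hE₁ hE₂ hF K e hJ hne).1
  refine ⟨R₀, hmin, ?_⟩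
  rintro _ ⟨x, hx, rfl⟩
  exact mem_subgroupOf.mp (hR₀ hx)

/-- `Z(S) ∩ [Q, Q]` or the subgroup generated by the minimal centrally large subgroups is normal. -/
theorem derived_or_join_normal (S : Sylow p G) (hE₁ : centralizer (Cfsg.pCore p G : Set G) ≤ Cfsg.pCore p G)
    (hE₂ : ∃! M : Subgroup G, IsCoatom M ∧ (S : Subgroup G) ≤ M)
    {F : Type} [Field F] [Fintype F] {n : ℕ} (hF : Fintype.card F = p ^ n) (K : Subgroup G) [K.Normal]
    (e : G ⧸ K ≃* Matrix.ProjectiveSpecialLinearGroup (Fin 2) F)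
    (hJ : (S : Subgroup G) ≤ centralizer (Cfsg.centerThompsonAOf (S : Subgroup G) : Set G))
    {Q : Subgroup ↥(S : Subgroup G)} (hQ : Cfsg.IsMinimalCentrallyLarge Q) :
    (((S : Subgroup G) ⊓ centralizer ((S : Subgroup G) : Set G)) ⊓ (⁅Q, Q⁆).map (S : Subgroup G).subtype).Normal ∨
      ((Cfsg.minimalCentrallyLargeJoin ↥(S : Subgroup G)).map (S : Subgroup G).subtype).Normal := by
  set ι := (S : Subgroup G).subtype with hι
  obtain ⟨ZS, hZS⟩ : ∃ ZS, ZS = (S : Subgroup G) ⊓ centralizer ((S : Subgroup G) : Set G) := ⟨_, rfl⟩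
  rw [← hZS]
  by_cases hne : ZS ≤ center G
  · exact Or.inl (PushUnique.normal_of_le_center (inf_le_left.trans hne))
  obtain ⟨R₀, hR₀, hR₀T⟩ := exists_min_in_core S hE₁ hE₂ hF K e hJ (hZS ▸ hne)
  obtain ⟨T, hT⟩ : ∃ T, T = Cfsg.pCore p G := ⟨_, rfl⟩
  rw [← hT] at hE₁ hR₀T
  haveI hTn : T.Normal := hT ▸ Grp.pCore_isNormal
  have hTS : T ≤ (S : Subgroup G) := hT ▸ Grp.pCore_le_sylow S
  have hDeq : ∀ R : Subgroup ↥(S : Subgroup G), Cfsg.IsMinimalCentrallyLarge R → ⁅R, R⁆ = ⁅Q, Q⁆ := fun R hR =>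
    le_antisymm (CL.minimal_commutator_le hR hQ) (CL.minimal_commutator_le hQ hR)
  obtain ⟨D, hD⟩ : ∃ D, D = (⁅Q, Q⁆).map ι := ⟨_, rfl⟩
  rw [← hD]
  have hDn : D.Normal := by
    refine ⟨fun x hx g => ?_⟩
    obtain ⟨R', hR', he⟩ := exists_conj_minimal hTS hR₀ hR₀T g
    have h1 : D = D.map (MulAut.conj g).toMonoidHom := by
      calc D = (⁅R', R'⁆).map ι := by rw [hD, hDeq R' hR']
        _ = ⁅(R₀.map ι).map (MulAut.conj g).toMonoidHom, (R₀.map ι).map (MulAut.conj g).toMonoidHom⁆ := by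
          rw [Subgroup.map_commutator, he]
        _ = D.map (MulAut.conj g).toMonoidHom := by
          rw [hD, ← hDeq R₀ hR₀, Subgroup.map_commutator R₀ R₀ ι, Subgroup.map_commutator]
    exact h1.ge ⟨x, hx, rfl⟩
  have hZT : ∀ z ∈ ZS, z ∈ T ∧ z ∈ centralizer (T : Set G) := fun z hz => by
    rw [hZS] at hz
    exact ⟨hE₁ (centralizer_le hTS hz.2), centralizer_le hTS hz.2⟩
  obtain ⟨V, hV⟩ : ∃ V, V = D ⊓ centralizer (T : Set G) := ⟨_, rfl⟩
  have hCT := PushUnique.centralizer_normal' T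
  haveI hVn : V.Normal := hV ▸ ⟨fun x hx g => ⟨hDn.conj_mem x hx.1 g, hCT.conj_mem x hx.2 g⟩⟩
  haveI hCV := PushUnique.centralizer_normal' V
  rcases PushUnique.sup_eq_top_or_normal S hE₂ (centralizer (V : Set G)) with htop | hn
  · left
    refine PushUnique.normal_of_le_center fun z hz => ?_
    have hzV : z ∈ V := hV ▸ ⟨hz.2, (hZT z hz.1).2⟩
    have hzS : z ∈ centralizer ((S : Subgroup G) : Set G) :=
      (hZS ▸ hz.1 : z ∈ (S : Subgroup G) ⊓ centralizer ((S : Subgroup G) : Set G)).2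
    exact PushUnique.mem_center_of htop (fun m hm => (mem_centralizer_iff.mp hm z hzV).symm)
      (fun s hs => mem_centralizer_iff.mp hzS s hs)
  have hall : ∀ R : Subgroup ↥(S : Subgroup G), Cfsg.IsMinimalCentrallyLarge R → R.map ι ≤ T := by
    intro R hR
    rintro _ ⟨x, hx, rfl⟩
    rw [hT]
    refine Grp.le_pCore hn (S.isPGroup'.to_le inf_le_left) ⟨x.2, mem_centralizer_iff.mpr ?_⟩
    intro v hv
    rw [SetLike.mem_coe, hV] at hv
    obtain ⟨hvD, hvT⟩ := hv
    rw [hD] at hvD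
    obtain ⟨v', hv', rfl⟩ := hvD
    have hvR : v' ∈ R := commutator_le.mpr (fun a ha b hb => by
      rw [commutatorElement_def]
      exact mul_mem (mul_mem (mul_mem ha hb) (inv_mem ha)) (inv_mem hb)) ((hDeq R hR).ge hv')
    have hx' : x ∈ centralizer ({v'} : Set ↥(S : Subgroup G)) := by
      refine (sup_le ?_ ?_ : (R ⊓ R₀) ⊔ centralizer (R : Set ↥(S : Subgroup G)) ≤ centralizer ({v'} : Set ↥(S : Subgroup G)))
        ((CL.minimal_eq hR hR₀).ge hx)
      · intro a ha
        rw [mem_centralizer_singleton_iff]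
        exact Subtype.ext (mem_centralizer_iff.mp hvT _ (hR₀T ⟨a, ha.2, rfl⟩))
      · exact centralizer_le (Set.singleton_subset_iff.mpr hvR)
    exact (congrArg Subtype.val (mem_centralizer_singleton_iff.mp hx')).symm
  right
  refine ⟨fun x hx g => ?_⟩
  have hle : (Cfsg.minimalCentrallyLargeJoin ↥(S : Subgroup G)).map ι ≤
      ((Cfsg.minimalCentrallyLargeJoin ↥(S : Subgroup G)).map ι).comap (MulAut.conj g).toMonoidHom := by
    rw [Subgroup.map_le_iff_le_comap]
    refine sSup_le fun R hR => ?_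
    intro r hr
    obtain ⟨R', hR', he⟩ := exists_conj_minimal hTS hR (hall R hR) g
    have h : g * (r : G) * g⁻¹ ∈ R'.map ι := he.ge ⟨_, ⟨r, hr, rfl⟩, rfl⟩
    exact Subgroup.map_mono (le_sSup hR') h
  exact hle hx

end Main

/-- The three clauses on minimal centrally large subgroups. -/
theorem main {G : Type u} [Group G] [Finite G] {p : ℕ} [Fact p.Prime] (S : Subgroup G)
    (hE : Cfsg.IsPushingUpSituation p S) (hJ : S ≤ centralizer (Cfsg.centerThompsonAOf S : Set G))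
    (Q : Subgroup ↥S) (hQ : Cfsg.IsMinimalCentrallyLarge Q) :
    (⁅Q, Q⁆).Characteristic ∧
      (((S ⊓ centralizer (S : Set G)) ⊓ (⁅Q, Q⁆).map S.subtype).Normal ∨
        ((Cfsg.minimalCentrallyLargeJoin ↥S).map S.subtype).Normal) ∧
      (⁅Q, Q⁆ = ⊥ → ∀ R : Subgroup ↥S, Cfsg.IsMinimalCentrallyLarge R ↔ R ∈ Cfsg.maxAbelianSubgroups ↥S) := by
  obtain ⟨-, ⟨P, rfl⟩, hE₁, hE₂, K, hK, F, hF, hFi, n, hn, ⟨e⟩⟩ := hE
  exact ⟨derived_characteristic hQ, derived_or_join_normal P hE₁ hE₂ hn K e hJ hQ, fun h =>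
    CL.minimal_abelian_iff hQ (CL.isMulCommutative_of_le_centralizer (commutator_eq_bot_iff_le_centralizer.mp h))⟩

end Cfsg.Agent.Invol.PushCL
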