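import Cfsg.Prelude
import Cfsg.Agent.Lib.Invol.NaturalSL2

/-!
# The affine group of the natural module of `SL(2, F)`
-/

set_option autoImplicit false

namespace Cfsg.Agent.Invol.QdOv

open Matrix Cfsg.Agent.Grp.SL2

variable {F : Type*} [Field F]

local notation "S3" => Matrix.SpecialLinearGroup (Fin 3) F
local notation "SS" => Matrix.SpecialLinearGroup (Fin 2) F
set_option quotPrecheck false in
local notation "Q" => { x // x ∈ Cfsg.qdOver F }

/-- An entry. -/
abbrev ent (M : Q) (i j : Fin 3) : F := ((M : S3) : Matrix (Fin 3) (Fin 3) F) i j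

theorem mem_qdOver {M : S3} : M ∈ Cfsg.qdOver F ↔ (M : Matrix (Fin 3) (Fin 3) F) 2 0 = 0 ∧
    (M : Matrix (Fin 3) (Fin 3) F) 2 1 = 0 ∧ (M : Matrix (Fin 3) (Fin 3) F) 2 2 = 1 := by
  refine ⟨fun h => ?_, fun h => Subgroup.subset_closure h⟩
  induction h using Subgroup.closure_induction with
  | mem x hx => exact hx
  | one => simp
  | mul a b _ _ ha hb =>
    rw [Matrix.SpecialLinearGroup.coe_mul]
    simp [Matrix.mul_apply, Fin.sum_univ_three, ha.1, ha.2.1, ha.2.2, hb.1, hb.2.1, hb.2.2]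
  | inv a _ ha =>
    have h : ∀ j, (a⁻¹ : S3).1 2 j = (1 : Matrix (Fin 3) (Fin 3) F) 2 j := fun j => by
      have h1 := congrArg (fun m : S3 => (m : Matrix (Fin 3) (Fin 3) F) 2 j) (mul_inv_cancel a)
      simp only [Matrix.SpecialLinearGroup.coe_mul, Matrix.SpecialLinearGroup.coe_one] at h1
      simpa [Matrix.mul_apply, Fin.sum_univ_three, ha.1, ha.2.1, ha.2.2] using h1
    exact ⟨by rw [h]; simp, by rw [h]; simp, by rw [h]; simp⟩

theorem ent_row (M : Q) : ent M 2 0 = 0 ∧ ent M 2 1 = 0 ∧ ent M 2 2 = 1 := mem_qdOver.mp M.2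

theorem ent_mul (M N : Q) (i j : Fin 3) :
    ent (M * N) i j = ent M i 0 * ent N 0 j + ent M i 1 * ent N 1 j + ent M i 2 * ent N 2 j := by
  simp [ent, Matrix.mul_apply, Fin.sum_univ_three]

theorem ext' {M N : Q} (h00 : ent M 0 0 = ent N 0 0) (h01 : ent M 0 1 = ent N 0 1) (h02 : ent M 0 2 = ent N 0 2)
    (h10 : ent M 1 0 = ent N 1 0) (h11 : ent M 1 1 = ent N 1 1) (h12 : ent M 1 2 = ent N 1 2) : M = N := by
  refine Subtype.ext (Subtype.ext (Matrix.ext fun i j => ?_))
  fin_cases i <;> fin_cases j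
  · exact h00
  · exact h01
  · exact h02
  · exact h10
  · exact h11
  · exact h12
  · exact (ent_row M).1.trans (ent_row N).1.symm
  · exact (ent_row M).2.1.trans (ent_row N).2.1.symm
  · exact (ent_row M).2.2.trans (ent_row N).2.2.symm

/-- The element with linear part `A` and translation part `b`. -/
def mk (A : SS) (b : Fin 2 → F) : Q :=
  ⟨⟨!![A.1 0 0, A.1 0 1, b 0; A.1 1 0, A.1 1 1, b 1; 0, 0, 1], by
    have := det_eq A
    rw [Matrix.det_fin_three]; simpa using this⟩, mem_qdOver.mpr (by simp)⟩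

/-- The linear part. -/
def lin : Q →* SS where
  toFun M := ⟨!![ent M 0 0, ent M 0 1; ent M 1 0, ent M 1 1], by
    have h := (M : S3).2
    rw [Matrix.det_fin_three] at h
    have h1 := (ent_row M).1; have h2 := (ent_row M).2.1; have h3 := (ent_row M).2.2
    simp only [ent] at h1 h2 h3 ⊢
    rw [h1, h2, h3] at h
    rw [Matrix.det_fin_two_of]
    linear_combination h⟩
  map_one' := Subtype.ext (by ext i j; fin_cases i <;> fin_cases j <;> simp [ent])
  map_mul' M N := Subtype.ext (by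
    show _ = (!![ent M 0 0, ent M 0 1; ent M 1 0, ent M 1 1] : Matrix (Fin 2) (Fin 2) F) *
      !![ent N 0 0, ent N 0 1; ent N 1 0, ent N 1 1]
    ext i j
    fin_cases i <;> fin_cases j <;>
      simp [ent_mul, Matrix.mul_apply, Fin.sum_univ_two, (ent_row N).1, (ent_row N).2.1])

theorem lin_apply (M : Q) : ((lin M : SS) : Matrix (Fin 2) (Fin 2) F) = !![ent M 0 0, ent M 0 1; ent M 1 0, ent M 1 1] := rfl

theorem lin_mk (A : SS) (b : Fin 2 → F) : lin (mk A b) = A :=
  Subtype.ext (by rw [lin_apply]; ext i j; fin_cases i <;> fin_cases j <;> rfl)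

theorem mem_ker {M : Q} : M ∈ (lin : Q →* SS).ker ↔
    ent M 0 0 = 1 ∧ ent M 0 1 = 0 ∧ ent M 1 0 = 0 ∧ ent M 1 1 = 1 := by
  rw [MonoidHom.mem_ker]
  constructor
  · intro h
    have h' : ∀ i j, ((lin M : SS) : Matrix (Fin 2) (Fin 2) F) i j = (1 : Matrix (Fin 2) (Fin 2) F) i j :=
      fun i j => by rw [h]; rfl
    exact ⟨by simpa [lin_apply] using h' 0 0, by simpa [lin_apply] using h' 0 1,
      by simpa [lin_apply] using h' 1 0, by simpa [lin_apply] using h' 1 1⟩
  · rintro ⟨a, b, c, d⟩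
    exact Subtype.ext (by rw [lin_apply, a, b, c, d]; ext i j; fin_cases i <;> fin_cases j <;> simp)

/-- The translation part. -/
def tra (M : Q) : Fin 2 → F := ![ent M 0 2, ent M 1 2]

theorem tra_mul (M N : Q) : tra (M * N) = tra M + ((lin M : SS) : Matrix (Fin 2) (Fin 2) F).mulVec (tra N) := by
  ext i
  fin_cases i <;>
    simp [tra, ent_mul, lin_apply, Matrix.mulVec, dotProduct, Fin.sum_univ_two, (ent_row N).2.2] <;> ring

theorem eq_of_lin_tra {M N : Q} (h1 : lin M = lin N) (h2 : tra M = tra N) : M = N := by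
  have e : ∀ i j, ((lin M : SS) : Matrix (Fin 2) (Fin 2) F) i j = ((lin N : SS) : Matrix (Fin 2) (Fin 2) F) i j :=
    fun i j => by rw [h1]
  have e0 := congrFun h2 0
  have e1 := congrFun h2 1
  exact ext' (by simpa [lin_apply] using e 0 0) (by simpa [lin_apply] using e 0 1) (by simpa [tra] using e0)
    (by simpa [lin_apply] using e 1 0) (by simpa [lin_apply] using e 1 1) (by simpa [tra] using e1)

theorem tra_mk (A : SS) (b : Fin 2 → F) : tra (mk A b) = b := by
  ext i; fin_cases i <;> rfl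

theorem pCore_sl_eq_bot [Finite F] (p : ℕ) [Fact p.Prime] [CharP F p] {N : Subgroup SS} (hN : N.Normal)
    (hp : IsPGroup p N) : N = ⊥ := by
  obtain ⟨P, hP⟩ := hp.exists_le_sylow
  obtain ⟨g, hg⟩ := Nat2.exists_conj_upG p P
  have hup : ∀ x ∈ N, ∃ t, up t = x := by
    intro x hx
    have h1 : g * x * g⁻¹ ∈ N := hN.conj_mem x hx g
    obtain ⟨y, hy, he⟩ := hg ▸ hP h1
    have : y = x := by simpa using he
    exact this ▸ hy
  let w : SS := ⟨!![0, -1; 1, 0], by simp [Matrix.det_fin_two]⟩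
  rw [eq_bot_iff]
  intro x hx
  obtain ⟨t, rfl⟩ := hup x hx
  obtain ⟨s, hs⟩ := hup _ (hN.conj_mem _ hx w⁻¹)
  rw [inv_inv] at hs
  have h2 : w * up s = up t * w := by rw [hs]; simp [mul_assoc]
  have h3 := congrArg (fun m : SS => (m : Matrix (Fin 2) (Fin 2) F) 0 0) h2
  simp only [Matrix.SpecialLinearGroup.coe_mul] at h3
  simp [w, up, Matrix.mul_apply, Fin.sum_univ_two] at h3
  rw [← h3, up_zero]
  exact Subgroup.one_mem _

theorem pCore_eq [Finite F] (p : ℕ) [Fact p.Prime] [CharP F p] :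
    Cfsg.pCore p Q = (lin : Q →* SS).ker := by
  refine le_antisymm (sSup_le ?_) (le_sSup ⟨inferInstance, fun M => ⟨1, ?_⟩⟩)
  · rintro N ⟨hN, hp⟩
    have h1 : N.map (lin : Q →* SS) = ⊥ :=
      pCore_sl_eq_bot p (hN.map _ fun A => ⟨mk A 0, lin_mk A 0⟩) (hp.map _)
    exact (Subgroup.map_eq_bot_iff _).mp h1
  · rw [pow_one]
    refine Subtype.ext ?_
    rw [SubgroupClass.coe_pow]
    refine eq_of_lin_tra ?_ ?_
    · rw [map_pow, MonoidHom.mem_ker.mp M.2, one_pow, OneMemClass.coe_one, map_one]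
    · have h : ∀ m : ℕ, tra ((M : Q) ^ m) = (m : F) • tra (M : Q) := by
        intro m
        induction m with
        | zero => ext i; fin_cases i <;> simp [tra, ent]
        | succ m ih =>
          rw [pow_succ, tra_mul, ih, map_pow, MonoidHom.mem_ker.mp M.2, one_pow, Matrix.SpecialLinearGroup.coe_one,
            Matrix.one_mulVec, Nat.cast_succ, add_smul, one_smul]
      rw [h, CharP.cast_eq_zero, zero_smul]
      ext i; fin_cases i <;> simp [tra, ent]

end Cfsg.Agent.Invol.QdOv
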