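import Cfsg.Agent.Lib.Invol.QdFusion
import Cfsg.Agent.Lib.Fus.PearlCube

/-!
# The Sylow subgroup of `Qd(p)`
-/

set_option autoImplicit false

namespace Cfsg.Agent.Invol.QdSyl

open Cfsg.Agent.Invol.QdFusion

variable {p : ℕ} [hp : Fact p.Prime]

local notation "Q3" => Cfsg.qd p

/-- The normalizer of the standard Sylow subgroup is the Borel subgroup. -/
theorem normalizer_qdT : Subgroup.normalizer (qdT p : Set Q3) = qdB p := by
  refine le_antisymm (normalizer_le_qdB le_rfl ?_ fun α u _ => (α u).2) fun b hb => ?_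
  · intro h
    have h1 : Fus.qdTrans p (Multiplicative.ofAdd ![1, 0]) ∈ qdT p := trans_mem_qdT _
    rw [h, Subgroup.mem_bot, ← map_one (Fus.qdTrans p)] at h1
    have h2 := congrArg (fun u : Multiplicative (Fin 2 → ZMod p) => u.toAdd 0) (Fus.qdTrans_injective h1)
    simp at h2
  · refine Subgroup.mem_normalizer_fintype fun t ht => ?_
    obtain ⟨k, hk⟩ := isPGroup_qdT (p := p) ⟨t, ht⟩
    refine mem_qdT_of_qdB ((qdB p).mul_mem ((qdB p).mul_mem hb (qdT_le_qdB ht)) ((qdB p).inv_mem hb)) (k := k) ?_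
    have hk' : t ^ p ^ k = 1 := by simpa using congrArg Subtype.val hk
    rw [conj_pow, hk', mul_one, mul_inv_cancel]

theorem qdB_ne_top : qdB p ≠ ⊤ := fun h => by
  have h1 : Fus.qdLift p weylS ∈ qdB p := h ▸ Subgroup.mem_top _
  have h2 : (Fus.qdBlock p (Fus.qdLift p weylS)).1 1 0 = 0 := h1
  rw [Fus.qdBlock_lift] at h2
  simp [weylS] at h2

/-- Coordinates on the Sylow subgroup. -/
noncomputable def coord : qdT p ≃ ZMod p × ZMod p × ZMod p :=
  Equiv.ofBijective (fun x => (x.1.1.1 0 1, x.1.1.1 0 2, x.1.1.1 1 2))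
    ⟨fun x y h => qdT_ext (congrArg Prod.fst h) (congrArg (fun q => q.2.1) h) (congrArg (fun q => q.2.2) h),
      fun q => ⟨⟨⟨⟨!![1, q.1, q.2.1; 0, 1, q.2.2; 0, 0, 1], by simp [Matrix.det_fin_three]⟩,
        Subgroup.subset_closure ⟨rfl, rfl, rfl⟩⟩, ⟨rfl, rfl, rfl⟩⟩, rfl⟩⟩

theorem card_qdT : Nat.card (qdT p) = p ^ 3 := by
  rw [Nat.card_congr coord, Nat.card_prod, Nat.card_prod, Nat.card_zmod]; ring

theorem not_comm : ¬ IsMulCommutative (qdT p) := fun h => by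
  have h1 := h.is_comm.comm ⟨_, lift_up_mem_qdT (1 : ZMod p)⟩
    ⟨_, trans_mem_qdT (Multiplicative.ofAdd ![(0 : ZMod p), 1])⟩
  have h2 := congrArg (fun x : qdT p => x.1.1.1 0 2) h1
  simp only [(qdT_mul _ _).2.1] at h2
  simp [Fus.qdLift, Fus.qdTrans, upS] at h2

theorem pow_eq (x : qdT p) (n : ℕ) : (x ^ n).1.1.1 0 1 = n * x.1.1.1 0 1 ∧
    (x ^ n).1.1.1 0 2 = n * x.1.1.1 0 2 + (n.choose 2 : ℕ) * (x.1.1.1 0 1 * x.1.1.1 1 2) ∧
    (x ^ n).1.1.1 1 2 = n * x.1.1.1 1 2 := by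
  induction n with
  | zero => simp [Matrix.one_apply]
  | succ n ih =>
    obtain ⟨a, b, c⟩ := qdT_mul (x ^ n) x
    obtain ⟨i1, i2, i3⟩ := ih
    rw [pow_succ, a, b, c, i1, i2, i3, Nat.choose_succ_succ', Nat.choose_one_right]
    push_cast
    exact ⟨by ring, by ring, by ring⟩

theorem exponent_qdT (hp2 : p ≠ 2) : Monoid.exponent (qdT p) = p := by
  haveI : Finite (qdT p) := inferInstance
  have hpow : ∀ x : qdT p, x ^ p = 1 := fun x => by
    obtain ⟨a, b, c⟩ := pow_eq x p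
    have hch : ((p.choose 2 : ℕ) : ZMod p) = 0 := (ZMod.natCast_eq_zero_iff _ _).mpr
      (hp.out.dvd_choose_self two_ne_zero (lt_of_le_of_ne hp.out.two_le (Ne.symm hp2)))
    refine qdT_ext ?_ ?_ ?_
    · rw [a, ZMod.natCast_self, zero_mul]; simp [Matrix.one_apply]
    · rw [b, ZMod.natCast_self, hch, zero_mul, zero_mul, add_zero]; simp [Matrix.one_apply]
    · rw [c, ZMod.natCast_self, zero_mul]; simp [Matrix.one_apply]
  haveI : Nontrivial (qdT p) := Finite.one_lt_card_iff_nontrivial.mp (by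
    rw [card_qdT]; exact Nat.one_lt_pow three_ne_zero hp.out.one_lt)
  exact (Monoid.exponent_eq_prime_iff hp.out).mpr fun x hx => orderOf_eq_prime (hpow x) hx

theorem extraspecial_qdT : Cfsg.IsExtraspecial p (qdT p) := Fus.extraspecial_of_cube card_qdT not_comm

end Cfsg.Agent.Invol.QdSyl
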