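import Mathlib

/-!
# Limits of square-zero subspaces

In a finite ring, conjugating a square-zero space `a` by `1 + tβ`, `β² = 0`, gives polynomials in
`t`; their leading coefficients form a square-zero space which is at least as large, has at least
as large a kernel and is deeper in any filtration raised by `β`.
-/

set_option autoImplicit false

open Polynomial

namespace Cfsg.Agent.Invol.QuadLimit

variable {R : Type*} [Ring R]

/-- The leading coefficients of a group of polynomials closed under multiplication by `X`. -/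
noncomputable def lead (M : AddSubgroup R[X]) (hM : ∀ f ∈ M, X * f ∈ M) : AddSubgroup R where
  carrier := {c | ∃ f ∈ M, ∃ d, f.natDegree ≤ d ∧ f.coeff d = c}
  zero_mem' := ⟨0, zero_mem M, 0, by simp, by simp⟩
  neg_mem' := by
    rintro c ⟨f, hf, d, hd, rfl⟩
    exact ⟨-f, neg_mem hf, d, by simpa using hd, by simp⟩
  add_mem' := by
    rintro c₁ c₂ ⟨f, hf, d, hd, rfl⟩ ⟨g, hg, e, he, rfl⟩
    have hs : ∀ k, ∀ h ∈ M, X ^ k * h ∈ M := by
      intro k
      induction k with
      | zero => intro h hh; simpa using hh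
      | succ k ih => intro h hh; rw [pow_succ', mul_assoc]; exact hM _ (ih h hh)
    refine ⟨X ^ e * f + X ^ d * g, add_mem (hs e f hf) (hs d g hg), d + e, ?_, ?_⟩
    · refine (natDegree_add_le _ _).trans (max_le ?_ ?_) <;>
        refine natDegree_mul_le.trans ?_ <;>
        exact (Nat.add_le_add_right (natDegree_X_pow_le _) _).trans (by omega)
    · rw [coeff_add, coeff_X_pow_mul, show d + e = e + d from add_comm d e, coeff_X_pow_mul]

theorem mem_lead {M : AddSubgroup R[X]} {hM : ∀ f ∈ M, X * f ∈ M} {c : R} :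
    c ∈ lead M hM ↔ ∃ f ∈ M, ∃ d, f.natDegree ≤ d ∧ f.coeff d = c := Iff.rfl

/-- The polynomials with coefficients in `S`. -/
noncomputable def coeffs (S : AddSubgroup R) : AddSubgroup R[X] where
  carrier := {f | ∀ n, f.coeff n ∈ S}
  zero_mem' := fun n => by simp
  add_mem' := fun hf hg n => by simpa using add_mem (hf n) (hg n)
  neg_mem' := fun hf n => by simpa using neg_mem (hf n)

theorem mem_coeffs {S : AddSubgroup R} {f : R[X]} : f ∈ coeffs S ↔ ∀ n, f.coeff n ∈ S := Iff.rfl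

theorem X_mul_mem_coeffs {S : AddSubgroup R} {f : R[X]} (hf : f ∈ coeffs S) : X * f ∈ coeffs S := by
  intro n
  cases n with
  | zero => simp
  | succ n => simpa [coeff_X_mul] using hf n

theorem C_mem_coeffs {S : AddSubgroup R} {a : R} (ha : a ∈ S) : C a ∈ coeffs S := by
  intro n
  rw [coeff_C]; split
  · exact ha
  · exact zero_mem S

theorem coeffs_mono {S S' : AddSubgroup R} (h : S ≤ S') : coeffs S ≤ coeffs S' :=
  fun _ hf n => h (hf n)

theorem coeffs_mul_eq_zero {S S' : AddSubgroup R} (h : ∀ x ∈ S, ∀ y ∈ S', x * y = 0) {f g : R[X]}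
    (hf : f ∈ coeffs S) (hg : g ∈ coeffs S') : f * g = 0 := by
  ext n
  rw [coeff_mul, coeff_zero]
  exact Finset.sum_eq_zero fun p _ => h _ (hf p.1) _ (hg p.2)

theorem lead_mul_eq_zero {M M' : AddSubgroup R[X]} {hM : ∀ f ∈ M, X * f ∈ M}
    {hM' : ∀ f ∈ M', X * f ∈ M'} (h : ∀ f ∈ M, ∀ g ∈ M', f * g = 0) {c c' : R}
    (hc : c ∈ lead M hM) (hc' : c' ∈ lead M' hM') : c * c' = 0 := by
  obtain ⟨f, hf, d, hd, rfl⟩ := hc
  obtain ⟨g, hg, e, he, rfl⟩ := hc'
  rw [← coeff_mul_add_eq_of_natDegree_le hd he, h f hf g hg, coeff_zero]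

theorem card_image_le [Finite R] {S : AddSubgroup R} (φ : R[X] →+ R[X]) (hφ : Function.Injective φ)
    (hdeg : ∀ f n, (∀ m, n ≤ m → f.coeff m = 0) → ∀ m, n + 2 ≤ m → (φ f).coeff m = 0)
    (hX : ∀ f ∈ (coeffs S).map φ, X * f ∈ (coeffs S).map φ) :
    Nat.card S ≤ Nat.card (lead ((coeffs S).map φ) hX) := by
  classical
  set M := (coeffs S).map φ
  set L := lead M hX
  let Z : ℕ → AddSubgroup R[X] := fun d =>
    { carrier := {f | f ∈ M ∧ ∀ m, d ≤ m → f.coeff m = 0}
      zero_mem' := ⟨zero_mem M, fun m _ => by simp⟩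
      add_mem' := fun hf hg => ⟨add_mem hf.1 hg.1, fun m hm => by simp [hf.2 m hm, hg.2 m hm]⟩
      neg_mem' := fun hf => ⟨neg_mem hf.1, fun m hm => by simp [hf.2 m hm]⟩ }
  have hfin : ∀ d, Finite (Z d) := fun d =>
    Finite.of_injective (fun f : Z d => fun i : Fin d => f.1.coeff i) fun f g h => by
      refine Subtype.ext (Polynomial.ext fun m => ?_)
      rcases lt_or_ge m d with hm | hm
      · exact congrFun h ⟨m, hm⟩
      · rw [f.2.2 m hm, g.2.2 m hm]
  have hup : ∀ d, Nat.card (Z d) ≤ Nat.card L ^ d := by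
    intro d
    induction d with
    | zero =>
      haveI : Subsingleton (Z 0) := ⟨fun f g => Subtype.ext (Polynomial.ext fun m => by
        rw [f.2.2 m (Nat.zero_le _), g.2.2 m (Nat.zero_le _)])⟩
      simpa using Finite.card_le_one_iff_subsingleton.mpr (this : Subsingleton (Z 0))
    | succ d ih =>
      have hL : ∀ f : Z (d + 1), f.1.coeff d ∈ L := fun f => ⟨f.1, f.2.1, d,
        natDegree_le_iff_coeff_eq_zero.mpr fun m hm => f.2.2 m hm, rfl⟩
      let top : Z (d + 1) → L := fun f => ⟨_, hL f⟩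
      let sec : L → Z (d + 1) := fun c => if h : ∃ f, top f = c then h.choose else 0
      have hsec : ∀ f, (sec (top f)).1.coeff d = f.1.coeff d := fun f => by
        have h : ∃ f', top f' = top f := ⟨f, rfl⟩
        simp only [sec, dif_pos h]
        exact congrArg Subtype.val h.choose_spec
      let res : Z (d + 1) → L × Z d := fun f => (top f, ⟨f.1 - (sec (top f)).1,
        sub_mem f.2.1 (sec (top f)).2.1, fun m hm => by
          rcases eq_or_lt_of_le hm with rfl | hm'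
          · rw [coeff_sub, hsec, sub_self]
          · rw [coeff_sub, f.2.2 m hm', (sec (top f)).2.2 m hm', sub_self]⟩)
      haveI := hfin d
      have hinj : Function.Injective res := fun f g h => by
        have h1 : top f = top g := congrArg Prod.fst h
        have h2 : f.1 - (sec (top f)).1 = g.1 - (sec (top g)).1 := congrArg (fun q => q.2.1) h
        rw [h1] at h2
        exact Subtype.ext (sub_left_inj.mp h2)
      calc Nat.card (Z (d + 1)) ≤ Nat.card (L × Z d) := Nat.card_le_card_of_injective res hinj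
        _ ≤ Nat.card L * Nat.card L ^ d := by rw [Nat.card_prod]; exact Nat.mul_le_mul_left _ ih
        _ = _ := by rw [pow_succ']
  have hlow : ∀ d, Nat.card S ^ d ≤ Nat.card L ^ (d + 2) := by
    intro d
    let pol : (Fin d → S) → R[X] := fun x => ∑ i : Fin d, C (x i : R) * X ^ (i : ℕ)
    have hpc : ∀ x (m : ℕ), (pol x).coeff m = if h : m < d then (x ⟨m, h⟩ : R) else 0 := by
      intro x m
      simp only [pol, finsetSum_coeff, coeff_C_mul_X_pow]
      split
      · next h =>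
        rw [Finset.sum_eq_single ⟨m, h⟩] <;> simp +contextual [Fin.ext_iff, eq_comm]
      · next h => exact Finset.sum_eq_zero fun i _ => if_neg (by omega)
    have hmem : ∀ x, pol x ∈ coeffs S := fun x m => by rw [hpc]; split <;> simp
    let emb : (Fin d → S) → Z (d + 2) := fun x => ⟨φ (pol x), ⟨pol x, hmem x, rfl⟩,
      hdeg _ d fun m hm => by rw [hpc, dif_neg (by omega)]⟩
    haveI := hfin (d + 2)
    have hinj : Function.Injective emb := fun x y h => funext fun i => Subtype.ext (by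
      have h' := congrArg (fun q : R[X] => q.coeff i) (hφ (congrArg Subtype.val h))
      simpa [hpc] using h')
    refine le_trans ?_ (hup (d + 2))
    simpa [Nat.card_fun] using Nat.card_le_card_of_injective emb hinj
  by_contra hlt
  push Not at hlt
  set l := Nat.card L with hl
  have hl1 : 1 ≤ l := Nat.card_pos
  have hb : ∀ d, l ^ d * (l + d) ≤ (l + 1) ^ d * l := by
    intro d
    induction d with
    | zero => simp
    | succ d ih =>
      calc l ^ (d + 1) * (l + (d + 1)) ≤ (l + 1) * (l ^ d * (l + d)) := by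
            rw [pow_succ]; nlinarith [Nat.zero_le (l ^ d * d)]
        _ ≤ (l + 1) * ((l + 1) ^ d * l) := Nat.mul_le_mul_left _ ih
        _ = _ := by ring
  have h1 := hb (l ^ 3)
  have h2 : (l + 1) ^ (l ^ 3) * l ≤ Nat.card S ^ (l ^ 3) * l :=
    Nat.mul_le_mul_right _ (Nat.pow_le_pow_left hlt _)
  have h3 : Nat.card S ^ (l ^ 3) * l ≤ l ^ (l ^ 3 + 2) * l := Nat.mul_le_mul_right _ (hlow _)
  have h4 : l ^ (l ^ 3 + 2) * l = l ^ (l ^ 3) * l ^ 3 := by ring
  have h5 : 0 < l ^ (l ^ 3) := pow_pos hl1 _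
  nlinarith [h1.trans (h2.trans (h3.trans h4.le)), hl1]

/-- Conjugation by `1 + Xβ`. -/
noncomputable def tw (b : R) : R[X] →+ R[X] where
  toFun f := f + X * (C b * f - f * C b) - X * (X * (C b * f * C b))
  map_zero' := by simp
  map_add' f g := by simp only [mul_add, add_mul, mul_sub]; abel

theorem tw_apply (b : R) (f : R[X]) :
    tw b f = f + X * (C b * f - f * C b) - X * (X * (C b * f * C b)) := rfl

theorem tw_eq (b : R) (f : R[X]) : tw b f = (1 + X * C b) * f * (1 - X * C b) := by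
  have h : ∀ g : R[X], g * X = X * g := fun g => (commute_X g).symm.eq
  simp only [tw_apply, mul_sub, add_mul, mul_one, one_mul, ← mul_assoc, h f, sub_eq_add_neg,
    mul_add, mul_neg]
  rw [show X * C b * f * X * C b = X * (C b * f * X) * C b by simp only [mul_assoc], h (C b * f)]
  simp only [← mul_assoc]
  abel

theorem tw_coeff (b : R) (f : R[X]) (n : ℕ) :
    (tw b f).coeff n = f.coeff n + (if 1 ≤ n then b * f.coeff (n - 1) - f.coeff (n - 1) * b else 0)
      - (if 2 ≤ n then b * f.coeff (n - 2) * b else 0) := by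
  match n with
  | 0 => simp [tw_apply]
  | 1 => simp [tw_apply, coeff_X_mul]
  | n + 2 => simp [tw_apply, coeff_X_mul, coeff_C_mul, coeff_mul_C]

theorem tw_X_mul (b : R) (f : R[X]) : tw b (X * f) = X * tw b f := by
  rw [tw_eq, tw_eq]
  have h : (1 + X * C b : R[X]) * X = X * (1 + X * C b) := (commute_X _).symm.eq
  simp only [← mul_assoc, h]

theorem X_mul_mem_map {S : AddSubgroup R} (b : R) {f : R[X]} (hf : f ∈ (coeffs S).map (tw b)) :
    X * f ∈ (coeffs S).map (tw b) := by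
  obtain ⟨g, hg, rfl⟩ := hf
  exact ⟨X * g, X_mul_mem_coeffs hg, tw_X_mul b g⟩

theorem tw_neg_tw {b : R} (hb : b * b = 0) (f : R[X]) : tw (-b) (tw b f) = f := by
  have hz : (C b : R[X]) * C b = 0 := by rw [← C_mul, hb, C_0]
  have hw : (1 - X * C b : R[X]) * (1 + X * C b) = 1 ∧ (1 + X * C b : R[X]) * (1 - X * C b) = 1 := by
    have h2 : (X * C b : R[X]) * (X * C b) = 0 := by
      rw [mul_assoc, ← mul_assoc (C b), ← (commute_X (C b)).eq, mul_assoc, hz, mul_zero, mul_zero]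
    constructor <;>
      simp only [sub_mul, mul_sub, add_mul, mul_add, one_mul, mul_one, h2] <;> abel
  rw [tw_eq, tw_eq, C_neg, mul_neg, ← sub_eq_add_neg, sub_neg_eq_add, ← mul_assoc, ← mul_assoc,
    hw.1, one_mul, mul_assoc, hw.1, mul_one]

theorem tw_mul {b : R} (hb : b * b = 0) (f g : R[X]) : tw b f * tw b g = tw b (f * g) := by
  have hz : (C b : R[X]) * C b = 0 := by rw [← C_mul, hb, C_0]
  have h2 : (X * C b : R[X]) * (X * C b) = 0 := by
    rw [mul_assoc, ← mul_assoc (C b), ← (commute_X (C b)).eq, mul_assoc, hz, mul_zero, mul_zero]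
  have hw : (1 - X * C b : R[X]) * (1 + X * C b) = 1 := by
    simp only [sub_mul, mul_add, one_mul, mul_one, h2]; abel
  rw [tw_eq, tw_eq, tw_eq]
  simp only [mul_assoc]
  rw [← mul_assoc (1 - X * C b) (1 + X * C b), hw, one_mul]

theorem left_mul_X (b : R) (f : R[X]) : (1 + X * C b) * (X * f) = X * ((1 + X * C b) * f) := by
  rw [← mul_assoc, (commute_X (1 + X * C b)).symm.eq, mul_assoc]

/-- Multiplication by `1 + Xβ`. -/
noncomputable def twl (b : R) : R[X] →+ R[X] := AddMonoidHom.mulLeft (1 + X * C b)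

theorem X_mul_mem_map_twl {S : AddSubgroup R} (b : R) {f : R[X]} (hf : f ∈ (coeffs S).map (twl b)) :
    X * f ∈ (coeffs S).map (twl b) := by
  obtain ⟨g, hg, rfl⟩ := hf
  exact ⟨X * g, X_mul_mem_coeffs hg, left_mul_X b g⟩

/-- The limit space. -/
noncomputable def lim (b : R) (S : AddSubgroup R) : AddSubgroup R :=
  lead ((coeffs S).map (tw b)) fun _ hf => X_mul_mem_map b hf

/-- The limit of a space on which conjugation is multiplication. -/
noncomputable def limL (b : R) (S : AddSubgroup R) : AddSubgroup R :=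
  lead ((coeffs S).map (twl b)) fun _ hf => X_mul_mem_map_twl b hf

theorem card_le_lim [Finite R] {b : R} (hb : b * b = 0) (S : AddSubgroup R) :
    Nat.card S ≤ Nat.card (lim b S) := by
  refine card_image_le (tw b) (Function.LeftInverse.injective (tw_neg_tw hb)) (fun f n h m hm => ?_) _
  rw [tw_coeff, h m (by omega), h (m - 1) (by omega), h (m - 2) (by omega)]
  simp

theorem card_le_limL [Finite R] {b : R} (hb : b * b = 0) (S : AddSubgroup R) :
    Nat.card S ≤ Nat.card (limL b S) := by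
  have hz : (C b : R[X]) * C b = 0 := by rw [← C_mul, hb, C_0]
  have h2 : (X * C b : R[X]) * (X * C b) = 0 := by
    rw [mul_assoc, ← mul_assoc (C b), ← (commute_X (C b)).eq, mul_assoc, hz, mul_zero, mul_zero]
  have hw : (1 - X * C b : R[X]) * (1 + X * C b) = 1 := by
    simp only [sub_mul, mul_add, one_mul, mul_one, h2]; abel
  refine card_image_le (twl b) (fun f g h => ?_) (fun f n h m hm => ?_) _
  · have := congrArg ((1 - X * C b) * ·) h
    simp only [twl, AddMonoidHom.coe_mulLeft, ← mul_assoc, hw, one_mul] at this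
    exact this
  · obtain ⟨m, rfl⟩ : ∃ k, m = k + 1 := ⟨m - 1, by omega⟩
    simp [twl, add_mul, mul_assoc, coeff_X_mul, coeff_C_mul, h (m + 1) (by omega), h m (by omega)]

theorem lim_mul_lim {b : R} (hb : b * b = 0) {S : AddSubgroup R}
    (hS : ∀ x ∈ S, ∀ y ∈ S, x * y = 0) {c c' : R} (hc : c ∈ lim b S) (hc' : c' ∈ lim b S) :
    c * c' = 0 := by
  refine lead_mul_eq_zero ?_ hc hc'
  rintro _ ⟨f, hf, rfl⟩ _ ⟨g, hg, rfl⟩
  rw [tw_mul hb, coeffs_mul_eq_zero hS hf hg, map_zero]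

theorem lim_mul_limL {b : R} (hb : b * b = 0) {S K : AddSubgroup R}
    (hS : ∀ x ∈ S, ∀ y ∈ K, x * y = 0) {c c' : R} (hc : c ∈ lim b S) (hc' : c' ∈ limL b K) :
    c * c' = 0 := by
  refine lead_mul_eq_zero ?_ hc hc'
  rintro _ ⟨f, hf, rfl⟩ _ ⟨g, hg, rfl⟩
  have hz : (C b : R[X]) * C b = 0 := by rw [← C_mul, hb, C_0]
  have h2 : (X * C b : R[X]) * (X * C b) = 0 := by
    rw [mul_assoc, ← mul_assoc (C b), ← (commute_X (C b)).eq, mul_assoc, hz, mul_zero, mul_zero]
  have hw : (1 - X * C b : R[X]) * (1 + X * C b) = 1 := by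
    simp only [sub_mul, mul_add, one_mul, mul_one, h2]; abel
  show tw b f * ((1 + X * C b) * g) = 0
  rw [tw_eq, mul_assoc ((1 + X * C b) * f), ← mul_assoc (1 - X * C b), hw, one_mul, mul_assoc,
    coeffs_mul_eq_zero hS hf hg, mul_zero]

theorem lim_le {b : R} {S W : AddSubgroup R} (h1 : ∀ a ∈ S, a ∈ W)
    (h2 : ∀ a ∈ S, b * a - a * b ∈ W) (h3 : ∀ a ∈ S, b * a * b ∈ W) : lim b S ≤ W := by
  rintro _ ⟨_, ⟨f, hf, rfl⟩, d, -, rfl⟩
  rw [tw_coeff]
  refine sub_mem (add_mem (h1 _ (hf _)) ?_) ?_ <;> split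
  · exact h2 _ (hf _)
  · exact zero_mem W
  · exact h3 _ (hf _)
  · exact zero_mem W

theorem lim_mono (b : R) {S S' : AddSubgroup R} (h : S ≤ S') : lim b S ≤ lim b S' := by
  rintro _ ⟨_, ⟨f, hf, rfl⟩, d, hd, rfl⟩
  exact ⟨_, ⟨f, coeffs_mono h hf, rfl⟩, d, hd, rfl⟩

/-- The step: a space not invariant under `ad β` moves deeper. -/
theorem lim_measure [Finite R] {b : R} (hb : b * b = 0) (F : ℕ → AddSubgroup R) (hanti : Antitone F)
    (hF : ∀ k, ∀ x ∈ F k, b * x - x * b ∈ F (k + 1) ∧ b * x * b ∈ F (k + 1))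
    (hF0 : F 0 = ⊤) {N : ℕ} (hN : F N = ⊥) {S : AddSubgroup R}
    (hS : ¬ ∀ a ∈ S, b * a - a * b ∈ S ∧ b * a * b ∈ S) :
    (∀ k, Nat.card ↥(S ⊓ F k) ≤ Nat.card ↥(lim b S ⊓ F k)) ∧
      ∃ k < N + 1, Nat.card ↥(S ⊓ F k) < Nat.card ↥(lim b S ⊓ F k) := by
  classical
  refine ⟨fun k => (card_le_lim hb _).trans (AddSubgroup.card_le_of_le (le_inf
    (lim_mono b inf_le_left) ((lim_mono b inf_le_right).trans (lim_le (fun _ h => h)
      (fun a ha => hanti (Nat.le_succ k) (hF k a ha).1)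
      (fun a ha => hanti (Nat.le_succ k) (hF k a ha).2))))), ?_⟩
  let Inv : ℕ → Prop := fun k => ∀ a ∈ S ⊓ F k, b * a - a * b ∈ S ∧ b * a * b ∈ S
  have hex : ∃ k, Inv k := ⟨N, fun a ha => by
    have h0 : a = 0 := by simpa [hN] using ha.2
    simp [h0]⟩
  obtain ⟨k, hk⟩ : ∃ k, Nat.find hex = k + 1 := by
    refine ⟨Nat.find hex - 1, (Nat.succ_pred ?_).symm⟩
    intro h0
    refine hS fun a ha => ?_
    have h1 := Nat.find_spec hex
    rw [h0] at h1
    exact h1 a ⟨ha, hF0 ▸ AddSubgroup.mem_top a⟩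
  have hinv : Inv (k + 1) := hk ▸ Nat.find_spec hex
  have hnot : ¬ Inv k := Nat.find_min hex (by omega)
  have hkN : k + 1 < N + 1 := by
    have := Nat.find_min' hex (show Inv N from fun a ha => by
      have h0 : a = 0 := by simpa [hN] using ha.2
      simp [h0])
    omega
  set S' := S ⊓ F (k + 1)
  have hS'1 : ∀ c ∈ S', C c ∈ (coeffs S').map (tw b) := by
    intro c hc
    refine ⟨tw (-b) (C c), fun n => ?_, ?_⟩
    · rw [tw_coeff]
      have e1 : b * c - c * b ∈ S' := ⟨(hinv c hc).1, hanti (Nat.le_succ _) (hF _ c hc.2).1⟩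
      have e2 : b * c * b ∈ S' := ⟨(hinv c hc).2, hanti (Nat.le_succ _) (hF _ c hc.2).2⟩
      match n with
      | 0 => simpa [coeff_C] using hc
      | 1 =>
        have := neg_mem e1
        simpa [coeff_C, sub_eq_add_neg, add_comm] using this
      | 2 => simpa [coeff_C] using e2
      | n + 3 => simp [coeff_C]
    · have h := tw_neg_tw (b := -b) (by simp [hb]) (C c)
      rwa [neg_neg] at h
  have hsub : S' ≤ lim b S ⊓ F (k + 1) := fun c hc =>
    ⟨⟨C c, AddSubgroup.map_mono (coeffs_mono inf_le_left) (hS'1 c hc), 0, by simp, by simp⟩, hc.2⟩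
  obtain ⟨a, ha, hbad⟩ : ∃ a ∈ S ⊓ F k, ¬ (b * a - a * b ∈ S ∧ b * a * b ∈ S) := by
    by_contra hall
    exact hnot fun a ha => by_contra fun h => hall ⟨a, ha, h⟩
  obtain ⟨ξ, hξ, hξS⟩ : ∃ ξ ∈ lim b S ⊓ F (k + 1), ξ ∉ S := by
    by_cases h2 : b * a * b ∈ S
    · have h1 : b * a - a * b ∉ S := fun h => hbad ⟨h, h2⟩
      refine ⟨b * a - a * b, ⟨⟨tw b (C a) + X * (X * C (b * a * b)), add_mem ⟨C a, C_mem_coeffs ha.1, rfl⟩
        (X_mul_mem_map b (X_mul_mem_map b (AddSubgroup.map_mono (coeffs_mono inf_le_left)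
          (hS'1 _ ⟨h2, (hF k a ha.2).2⟩)))), 1, ?_, ?_⟩, (hF k a ha.2).1⟩, h1⟩
      · refine natDegree_le_iff_coeff_eq_zero.mpr fun m hm => ?_
        obtain ⟨m, rfl⟩ : ∃ j, m = j + 2 := ⟨m - 2, by omega⟩
        rw [coeff_add, tw_coeff]
        match m with
        | 0 => simp [coeff_C]
        | m + 1 => simp [coeff_C]
      · rw [coeff_add, tw_coeff]; simp [coeff_C]
    · refine ⟨-(b * a * b), ⟨⟨tw b (C a), ⟨C a, C_mem_coeffs ha.1, rfl⟩, 2, ?_, ?_⟩,
        (F (k + 1)).neg_mem (hF k a ha.2).2⟩, fun h => h2 (by simpa using S.neg_mem h)⟩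
      · refine natDegree_le_iff_coeff_eq_zero.mpr fun m hm => ?_
        obtain ⟨m, rfl⟩ : ∃ j, m = j + 3 := ⟨m - 3, by omega⟩
        rw [tw_coeff]; simp [coeff_C]
      · rw [tw_coeff]; simp [coeff_C]
  refine ⟨k + 1, hkN, lt_of_le_of_ne (AddSubgroup.card_le_of_le hsub) fun he => hξS ?_⟩
  exact ((AddSubgroup.eq_of_le_of_card_ge hsub he.ge).ge hξ).1

/-- Three mutually normalising square-zero spaces: `1 + γ` is in the group they generate. -/
theorem one_add_mem {S₀ S₁ S₂ : AddSubgroup R} (P : Submonoid R) (hP₀ : ∀ x ∈ S₀, 1 + x ∈ P)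
    (hP₁ : ∀ x ∈ S₁, 1 + x ∈ P) (hP₂ : ∀ x ∈ S₂, 1 + x ∈ P) (q : ℕ) (hq : (q : R) * 2 = 1)
    (hz₀ : ∀ x ∈ S₀, ∀ y ∈ S₀, x * y = 0) (hz₁ : ∀ x ∈ S₁, ∀ y ∈ S₁, x * y = 0)
    (hz₂ : ∀ x ∈ S₂, ∀ y ∈ S₂, x * y = 0)
    (n01 : ∀ x ∈ S₀, ∀ y ∈ S₁, x * y - y * x ∈ S₀ ∧ x * y - y * x ∈ S₁)
    (n02 : ∀ x ∈ S₀, ∀ y ∈ S₂, x * y - y * x ∈ S₀ ∧ x * y - y * x ∈ S₂)
    (n12 : ∀ x ∈ S₁, ∀ y ∈ S₂, x * y - y * x ∈ S₁ ∧ x * y - y * x ∈ S₂)
    {γ : R} (hγ : γ ∈ S₀ ⊔ S₁ ⊔ S₂) (hγ2 : γ * γ = 0) : 1 + γ ∈ P := by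
  obtain ⟨w, hw, z, hz, rfl⟩ := AddSubgroup.mem_sup.mp hγ
  obtain ⟨x, hx, y, hy, rfl⟩ := AddSubgroup.mem_sup.mp hw
  -- two factors between elements of one space
  have hsand : ∀ {T U : AddSubgroup R}, (∀ a ∈ T, ∀ a' ∈ T, a * a' = 0) →
      (∀ a ∈ T, ∀ u ∈ U, a * u - u * a ∈ T) → ∀ a ∈ T, ∀ u ∈ U, ∀ a' ∈ T, a * u * a' = 0 := by
    intro T U hT hn a ha u hu a' ha'
    calc a * u * a' = a * u * a' := rfl
      _ = (a * a') * u - a * (a' * u - u * a') := by noncomm_ring
      _ = 0 := by rw [hT a ha a' ha', hT a ha _ (hn a' ha' u hu), zero_mul, sub_zero]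
  have hsand2 : ∀ a ∈ S₀, ∀ u ∈ S₁, ∀ v ∈ S₂, ∀ a' ∈ S₀, a * u * v * a' = 0 := by
    intro a ha u hu v hv a' ha'
    calc a * u * v * a' = (a * u * a') * v - a * u * (a' * v - v * a') := by noncomm_ring
      _ = 0 := by
        rw [hsand hz₀ (fun a ha u hu => (n01 a ha u hu).1) a ha u hu a' ha',
          hsand hz₀ (fun a ha u hu => (n01 a ha u hu).1) a ha u hu _ (n02 a' ha' v hv).1, zero_mul,
          sub_zero]
  set c₁ := x * y - y * x with hc₁
  set c₂ := x * z - z * x with hc₂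
  set c₃ := y * z - z * y with hc₃
  obtain ⟨c10, c11⟩ := n01 x hx y hy
  obtain ⟨c20, c22⟩ := n02 x hx z hz
  obtain ⟨c31, c32⟩ := n12 y hy z hz
  set h : R := (q : R)
  have hh : ∀ r : R, h * r = r * h := fun r => Nat.cast_comm q r
  have hmemh : ∀ {T : AddSubgroup R} {c : R}, c ∈ T → -(h * c) ∈ T := fun {T c} hc => by
    rw [← nsmul_eq_mul]; exact T.neg_mem (T.nsmul_mem hc q)
  have hhc : ∀ {a c : R}, a * c = 0 → a * (h * c) = 0 := fun {a c} h0 => by
    rw [← mul_assoc, ← hh a, mul_assoc, h0, mul_zero]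
  have hmem : (1 + x) * (1 + y) * (1 + z) *
      ((1 + -(h * c₁)) * (1 + -(h * c₂)) * (1 + -(h * c₃))) ∈ P :=
    P.mul_mem (P.mul_mem (P.mul_mem (hP₀ x hx) (hP₁ y hy)) (hP₂ z hz))
      (P.mul_mem (P.mul_mem (hP₀ _ (hmemh c10)) (hP₀ _ (hmemh c20))) (hP₁ _ (hmemh c31)))
  -- annihilations
  have a12 : c₁ * c₂ = 0 := hz₀ _ c10 _ c20
  have a13 : c₁ * c₃ = 0 := hz₁ _ c11 _ c31
  have a23 : c₂ * c₃ = 0 := hz₂ _ c22 _ c32
  have x1 : x * c₁ = 0 := hz₀ x hx _ c10
  have x2 : x * c₂ = 0 := hz₀ x hx _ c20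
  have y1 : y * c₁ = 0 := hz₁ y hy _ c11
  have y3 : y * c₃ = 0 := hz₁ y hy _ c31
  have z2 : z * c₂ = 0 := hz₂ z hz _ c22
  have z3 : z * c₃ = 0 := hz₂ z hz _ c32
  have s010 : ∀ a' ∈ S₀, x * y * a' = 0 := fun a' ha' =>
    hsand hz₀ (fun a ha u hu => (n01 a ha u hu).1) x hx y hy a' ha'
  have s020 : ∀ a' ∈ S₀, x * z * a' = 0 := fun a' ha' =>
    hsand hz₀ (fun a ha u hu => (n02 a ha u hu).1) x hx z hz a' ha'
  have s121 : ∀ a' ∈ S₁, y * z * a' = 0 := fun a' ha' =>
    hsand hz₁ (fun a ha u hu => (n12 a ha u hu).1) y hy z hz a' ha'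
  have b1 : x * y * c₁ = 0 := s010 _ c10
  have b2 : x * y * c₂ = 0 := s010 _ c20
  have b3 : x * y * c₃ = 0 := by rw [mul_assoc, y3, mul_zero]
  have d1 : x * z * c₁ = 0 := s020 _ c10
  have d2 : x * z * c₂ = 0 := s020 _ c20
  have d3 : x * z * c₃ = 0 := by rw [mul_assoc, z3, mul_zero]
  have e1 : y * z * c₁ = 0 := s121 _ c11
  have e2 : y * z * c₂ = 0 := by rw [mul_assoc, z2, mul_zero]
  have e3 : y * z * c₃ = 0 := s121 _ c31
  have f1 : x * y * z * c₁ = 0 := hsand2 x hx y hy z hz _ c10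
  have f2 : x * y * z * c₂ = 0 := hsand2 x hx y hy z hz _ c20
  have f3 : x * y * z * c₃ = 0 := by rw [mul_assoc, z3, mul_zero]
  -- cubes
  have xx : x * x = 0 := hz₀ x hx x hx
  have yy : y * y = 0 := hz₁ y hy y hy
  have zz : z * z = 0 := hz₂ z hz z hz
  have pxyx : x * y * x = 0 := s010 x hx
  have pxzx : x * z * x = 0 := s020 x hx
  have pyzy : y * z * y = 0 := s121 y hy
  have pyxy : y * x * y = 0 := hsand hz₁ (fun a ha u hu => by
    have h := neg_mem (n01 u hu a ha).2; rwa [neg_sub] at h) y hy x hx y hy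
  have pzxz : z * x * z = 0 := hsand hz₂ (fun a ha u hu => by
    have h := neg_mem (n02 u hu a ha).2; rwa [neg_sub] at h) z hz x hx z hz
  have pzyz : z * y * z = 0 := hsand hz₂ (fun a ha u hu => by
    have h := neg_mem (n12 u hu a ha).2; rwa [neg_sub] at h) z hz y hy z hz
  set S := x * y + y * x + x * z + z * x + y * z + z * y with hS
  have hS0 : S = 0 := by
    have : (x + y + z) * (x + y + z) = S + x * x + y * y + z * z := by rw [hS]; noncomm_ring
    rw [hγ2, xx, yy, zz, add_zero, add_zero, add_zero] at this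
    exact this.symm
  have k1 : x * y * z + x * z * y = 0 := by
    have : x * S = x * x * y + x * y * x + x * x * z + x * z * x + (x * y * z + x * z * y) := by
      rw [hS]; noncomm_ring
    rw [hS0, mul_zero, xx, pxyx, pxzx] at this; simpa using this.symm
  have k2 : y * x * z + y * z * x = 0 := by
    have : y * S = y * x * y + y * y * x + y * y * z + y * z * y + (y * x * z + y * z * x) := by
      rw [hS]; noncomm_ring
    rw [hS0, mul_zero, yy, pyxy, pyzy] at this; simpa using this.symm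
  have k3 : z * x * y + z * y * x = 0 := by
    have : z * S = z * x * z + z * z * x + z * y * z + z * z * y + (z * x * y + z * y * x) := by
      rw [hS]; noncomm_ring
    rw [hS0, mul_zero, zz, pzxz, pzyz] at this; simpa using this.symm
  have k4 : y * z * x + z * y * x = 0 := by
    have : S * x = x * y * x + y * (x * x) + x * z * x + z * (x * x) + (y * z * x + z * y * x) := by
      rw [hS]; noncomm_ring
    rw [hS0, zero_mul, xx, pxyx, pxzx] at this; simpa using this.symm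
  have k5 : x * z * y + z * x * y = 0 := by
    have : S * y = x * (y * y) + y * x * y + y * z * y + z * (y * y) + (x * z * y + z * x * y) := by
      rw [hS]; noncomm_ring
    rw [hS0, zero_mul, yy, pyxy, pyzy] at this; simpa using this.symm
  have htri : x * c₃ + y * c₂ + z * c₁ = x * y * z + x * y * z := by
    rw [hc₁, hc₂, hc₃]
    have e : x * (y * z - z * y) + y * (x * z - z * x) + z * (x * y - y * x) -
        (x * y * z + x * y * z) = -(x * y * z + x * z * y) + (y * x * z + y * z * x) -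
        (y * z * x + z * y * x) - (y * z * x + z * y * x) + (z * x * y + z * y * x) := by
      noncomm_ring
    rw [k1, k2, k3, k4] at e
    simpa [sub_eq_zero] using e
  have hpair : h * (c₁ + c₂ + c₃) = x * y + x * z + y * z := by
    have e : c₁ + c₂ + c₃ = 2 * (x * y + x * z + y * z) - S := by
      rw [hc₁, hc₂, hc₃, hS]; noncomm_ring
    rw [e, hS0, sub_zero, ← mul_assoc, hq, one_mul]
  have hP3 : (1 + -(h * c₁)) * (1 + -(h * c₂)) * (1 + -(h * c₃)) = 1 - h * (c₁ + c₂ + c₃) := by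
    have u12 : h * c₁ * (h * c₂) = 0 := by rw [mul_assoc, hhc a12, mul_zero]
    have u13 : h * c₁ * (h * c₃) = 0 := by rw [mul_assoc, hhc a13, mul_zero]
    have u23 : h * c₂ * (h * c₃) = 0 := by rw [mul_assoc, hhc a23, mul_zero]
    calc _ = 1 - h * (c₁ + c₂ + c₃) + h * c₁ * (h * c₂) + h * c₁ * (h * c₃) + h * c₂ * (h * c₃) -
          h * c₁ * (h * c₂) * (h * c₃) := by noncomm_ring
      _ = _ := by rw [u12, u13, u23, zero_mul]; abel
  have hprod : (1 + x) * (1 + y) * (1 + z) = 1 + (x + y + z) + (x * y + x * z + y * z) + x * y * z := by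
    noncomm_ring
  rw [hP3, hprod] at hmem
  convert hmem using 1
  have hcen : ∀ r c : R, r * (h * c) = h * (r * c) := fun r c => by
    rw [← mul_assoc, ← hh r, mul_assoc]
  have hm : (1 + (x + y + z) + (x * y + x * z + y * z) + x * y * z) * (h * (c₁ + c₂ + c₃)) =
      h * (c₁ + c₂ + c₃) + h * (x * y * z + x * y * z) := by
    rw [hcen, ← mul_add h, ← htri]
    congr 1
    simp only [add_mul, mul_add, one_mul, x1, x2, y1, y3, z2, z3, b1, b2, b3, d1, d2, d3, e1, e2,
      e3, f1, f2, f3, add_zero, zero_add]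
    abel
  have h2k : h * (x * y * z + x * y * z) = x * y * z := by
    rw [← two_mul, ← mul_assoc, hq, one_mul]
  rw [mul_sub, mul_one, hm, h2k, hpair]
  abel

end Cfsg.Agent.Invol.QuadLimit
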