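import Cfsg.Agent.Lib.Invol.QuadLimit
import Cfsg.Agent.Lib.Transfer.Timmesfeld

/-!
# Quadratic offenders normal in their normal closures

For a finite `p`-group of automorphisms of an elementary abelian `p`-group, `p` odd, a quadratic
offender which is deepest in a filtration of the endomorphism ring is normalised by all its
conjugates.
-/

set_option autoImplicit false

namespace Cfsg.Agent.Invol.QuadNormal

open QuadLimit

variable {G V : Type*} [Group G] [AddCommGroup V] {p : ℕ}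
  (T : G →* AddMonoid.End V)

/-- Conjugation on the endomorphism ring. -/
noncomputable def conjR (g : G) : AddMonoid.End V →+ AddMonoid.End V :=
  (AddMonoidHom.mulLeft (T g)).comp (AddMonoidHom.mulRight (T g⁻¹))

theorem conjR_apply (g : G) (f : AddMonoid.End V) : conjR T g f = T g * (f * T g⁻¹) := rfl

theorem conjR_mul (g h : G) (f : AddMonoid.End V) :
    conjR T (g * h) f = conjR T g (conjR T h f) := by
  simp only [conjR_apply, mul_inv_rev, map_mul, mul_assoc]

theorem conjR_one (f : AddMonoid.End V) : conjR T 1 f = f := by simp [conjR_apply]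

theorem conjR_prod (g : G) (f f' : AddMonoid.End V) :
    conjR T g f * conjR T g f' = conjR T g (f * f') := by
  have h : T g⁻¹ * T g = 1 := by rw [← map_mul, inv_mul_cancel, map_one]
  simp only [conjR_apply, mul_assoc]
  rw [← mul_assoc (T g⁻¹) (T g), h, one_mul]

theorem conjR_sub_one (g c : G) : conjR T g (T c - 1) = T (g * c * g⁻¹) - 1 := by
  have h : T g * T g⁻¹ = 1 := by rw [← map_mul, mul_inv_cancel, map_one]
  rw [conjR_apply, sub_mul, mul_sub, one_mul, h, map_mul, map_mul, mul_assoc]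

theorem natCast_end_eq_zero (hexp : ∀ v : V, p • v = 0) : ((p : AddMonoid.End V)) = 0 :=
  AddMonoidHom.ext fun v => by
    show (p : AddMonoid.End V) v = 0
    rw [AddMonoid.End.natCast_apply, hexp]

variable [Finite G] [Finite V]

/-- The ascending conjugation series. -/
noncomputable def ser : ℕ → AddSubgroup (AddMonoid.End V)
  | 0 => ⊥
  | n + 1 => ⨅ g : G, (ser n).comap (conjR T g - AddMonoidHom.id _)

theorem mem_ser_succ {n : ℕ} {f : AddMonoid.End V} :
    f ∈ ser T (n + 1) ↔ ∀ g, conjR T g f - f ∈ ser T n := by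
  simp [ser]

theorem ser_mono : Monotone (ser T) := by
  refine monotone_nat_of_le_succ fun n => ?_
  induction n with
  | zero => exact bot_le
  | succ n ih => exact fun f hf => (mem_ser_succ T).mpr fun g => ih ((mem_ser_succ T).mp hf g)

theorem conjR_mem_ser {n : ℕ} (g : G) {f : AddMonoid.End V} (hf : f ∈ ser T n) :
    conjR T g f ∈ ser T n := by
  cases n with
  | zero =>
    rw [ser, AddSubgroup.mem_bot] at hf
    simp [hf]
  | succ n =>
    rw [show conjR T g f = (conjR T g f - f) + f by abel]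
    exact add_mem (ser_mono T (Nat.le_succ n) ((mem_ser_succ T).mp hf g)) hf

theorem exists_ser_eq_top [hp : Fact p.Prime] (hexp : ∀ v : V, p • v = 0) (hG : IsPGroup p G) :
    ∃ N, ser T N = ⊤ := by
  haveI : Finite (AddMonoid.End V) :=
    Finite.of_injective (fun f : AddMonoid.End V => (f : V → V)) DFunLike.coe_injective
  obtain ⟨N, hN⟩ := WellFoundedGT.monotone_chain_condition ⟨ser T, ser_mono T⟩
  refine ⟨N, by_contra fun hne => ?_⟩
  set S := ser T N
  let act : MulAction G (AddMonoid.End V ⧸ S) :=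
    { smul := fun g => QuotientAddGroup.map S S (conjR T g) fun f hf => conjR_mem_ser T g hf
      one_smul := fun q => QuotientAddGroup.induction_on q fun f =>
        congrArg QuotientAddGroup.mk (conjR_one T f)
      mul_smul := fun g h q => QuotientAddGroup.induction_on q fun f =>
        congrArg QuotientAddGroup.mk (conjR_mul T g h f) }
  letI := act
  have hdvd : p ∣ Nat.card (AddMonoid.End V ⧸ S) := by
    have hnt : Nontrivial (AddMonoid.End V ⧸ S) := QuotientAddGroup.nontrivial_iff.mpr hne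
    obtain ⟨q, hq⟩ := exists_ne (0 : AddMonoid.End V ⧸ S)
    have ho : addOrderOf q = p := addOrderOf_eq_prime (by
      obtain ⟨f, rfl⟩ := QuotientAddGroup.mk_surjective q
      rw [← QuotientAddGroup.mk_nsmul, nsmul_eq_mul, natCast_end_eq_zero hexp, zero_mul]
      rfl) hq
    exact ho ▸ addOrderOf_dvd_natCard q
  obtain ⟨q, hq, hq0⟩ := hG.exists_fixed_point_of_prime_dvd_card_of_fixed_point
    (AddMonoid.End V ⧸ S) hdvd (a := 0) (fun g => map_zero _)
  obtain ⟨f, rfl⟩ := QuotientAddGroup.mk_surjective q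
  refine hq0 ?_
  symm
  rw [QuotientAddGroup.eq_zero_iff]
  have h1 : f ∈ ser T (N + 1) := (mem_ser_succ T).mpr fun g => by
    rw [sub_eq_neg_add]
    exact QuotientAddGroup.eq.mp (hq g).symm
  exact (hN (N + 1) (Nat.le_succ N)).ge h1

/-- The subgroup of a square-zero space. -/
def grp (a : AddSubgroup (AddMonoid.End V)) (ha : ∀ x ∈ a, ∀ y ∈ a, x * y = 0) : Subgroup G where
  carrier := {g | T g - 1 ∈ a}
  one_mem' := by simp
  mul_mem' := fun {g h} hg hh => by
    show T (g * h) - 1 ∈ a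
    have : T (g * h) - 1 = (T g - 1) + (T h - 1) + (T g - 1) * (T h - 1) := by
      rw [map_mul]; noncomm_ring
    rw [this, ha _ hg _ hh, add_zero]
    exact add_mem hg hh
  inv_mem' := fun {g} hg => by
    show T g⁻¹ - 1 ∈ a
    have h : T g * T g⁻¹ = 1 := by rw [← map_mul, mul_inv_cancel, map_one]
    have h2 : T g⁻¹ = 1 - (T g - 1) := by
      have h3 : (1 - (T g - 1)) * T g = 1 := by
        calc (1 - (T g - 1)) * T g = 1 - (T g - 1) * (T g - 1) := by noncomm_ring
          _ = 1 := by rw [ha _ hg _ hg, sub_zero]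
      calc T g⁻¹ = (1 - (T g - 1)) * T g * T g⁻¹ := by rw [h3, one_mul]
        _ = _ := by rw [mul_assoc, h, mul_one]
    rw [h2, sub_sub_cancel_left]
    exact neg_mem hg

theorem mem_grp {a : AddSubgroup (AddMonoid.End V)} {ha : ∀ x ∈ a, ∀ y ∈ a, x * y = 0} {g : G} :
    g ∈ grp T a ha ↔ T g - 1 ∈ a := Iff.rfl

/-- A square-zero space inside the group, which offends. -/
structure Off (a : AddSubgroup (AddMonoid.End V)) : Prop where
  sq : ∀ x ∈ a, ∀ y ∈ a, x * y = 0
  real : ∀ x ∈ a, ∃ g, T g = 1 + x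
  ne : a ≠ ⊥
  off : ∃ C : AddSubgroup V, (∀ x ∈ a, ∀ v ∈ C, x v = 0) ∧
    Nat.card V ≤ Nat.card a * Nat.card C

theorem grp_quad {a : AddSubgroup (AddMonoid.End V)} {ha : ∀ x ∈ a, ∀ y ∈ a, x * y = 0} {b c : G}
    (hb : b ∈ grp T a ha) (hc : c ∈ grp T a ha) (v : V) : T b (T c v - v) = T c v - v := by
  have h : T b (T c v - v) - (T c v - v) = 0 := DFunLike.congr_fun (ha _ hb _ hc) v
  exact sub_eq_zero.mp h

theorem grp_commute {a : AddSubgroup (AddMonoid.End V)} {ha : ∀ x ∈ a, ∀ y ∈ a, x * y = 0}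
    {b c : G} (hb : b ∈ grp T a ha) (hc : c ∈ grp T a ha) : T (b * c) = T (c * b) := by
  have h1 : (T b - 1) * (T c - 1) = (T c - 1) * (T b - 1) := by rw [ha _ hb _ hc, ha _ hc _ hb]
  rw [map_mul, map_mul]
  calc T b * T c = (T b - 1) * (T c - 1) + T b + T c - 1 := by noncomm_ring
    _ = _ := by rw [h1]; noncomm_ring

theorem grp_pow (hexp : ∀ v : V, p • v = 0) {a : AddSubgroup (AddMonoid.End V)}
    {ha : ∀ x ∈ a, ∀ y ∈ a, x * y = 0} {b : G} (hb : b ∈ grp T a ha) : T (b ^ p) = 1 := by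
  have hpow : ∀ k : ℕ, T (b ^ k) = 1 + k • (T b - 1) := by
    intro k
    induction k with
    | zero => simp
    | succ k ih =>
      have h2 : (k • (T b - 1)) * (T b - 1) = 0 := by rw [smul_mul_assoc, ha _ hb _ hb, nsmul_zero]
      rw [pow_succ, map_mul, ih, succ_nsmul]
      calc (1 + k • (T b - 1)) * T b = (k • (T b - 1)) * (T b - 1) + k • (T b - 1) + T b := by
            generalize k • (T b - 1) = y
            noncomm_ring
        _ = _ := by rw [h2, zero_add]; abel
  rw [hpow, nsmul_eq_mul, natCast_end_eq_zero hexp, zero_mul, add_zero]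

theorem card_le_grp {a : AddSubgroup (AddMonoid.End V)} (h : Off T a) :
    Nat.card a ≤ Nat.card (grp T a h.sq) := by
  choose g hg using fun x : a => h.real x.1 x.2
  refine Nat.card_le_card_of_injective (fun x : a => (⟨g x, by
    show T (g x) - 1 ∈ a
    rw [hg, add_sub_cancel_left]; exact x.2⟩ : grp T a h.sq)) fun x y hxy => ?_
  have := congrArg (fun z : grp T a h.sq => T z.1) hxy
  simp only [hg] at this
  exact Subtype.ext (add_left_cancel this)

theorem grp_ne_bot {a : AddSubgroup (AddMonoid.End V)} (h : Off T a) : grp T a h.sq ≠ ⊥ := by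
  intro he
  refine h.ne ((AddSubgroup.eq_bot_iff_forall a).mpr fun x hx => ?_)
  obtain ⟨g, hg⟩ := h.real x hx
  have hgB : g ∈ grp T a h.sq := by
    show T g - 1 ∈ a
    rw [hg, add_sub_cancel_left]; exact hx
  rw [he, Subgroup.mem_bot] at hgB
  rw [hgB, map_one] at hg
  simpa using hg.symm

theorem card_ker_le [Fact p.Prime] (hexp : ∀ v : V, p • v = 0) {b : AddMonoid.End V} (hb : b * b = 0)
    {a : AddSubgroup (AddMonoid.End V)} {C : AddSubgroup V} (hC : ∀ x ∈ a, ∀ v ∈ C, x v = 0) :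
    ∃ C' : AddSubgroup V, (∀ x ∈ lim b a, ∀ v ∈ C', x v = 0) ∧ Nat.card C ≤ Nat.card C' := by
  classical
  haveI : Finite (AddMonoid.End V) :=
    Finite.of_injective (fun f : AddMonoid.End V => (f : V → V)) DFunLike.coe_injective
  by_cases hV : ∀ v : V, v = 0
  · exact ⟨C, fun x _ v _ => hV _, le_rfl⟩
  obtain ⟨u, hu⟩ := not_forall.mp hV
  letI : Module (ZMod p) V := AddCommGroup.zmodModule hexp
  obtain ⟨χ, hχ⟩ : ∃ χ : V →+ ZMod p, χ u = 1 := by
    obtain ⟨f, hf⟩ := Module.Projective.exists_dual_eq_one (ZMod p) hu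
    exact ⟨f.toAddMonoidHom, hf⟩
  let ι : V →+ AddMonoid.End V :=
    { toFun := fun v =>
        { toFun := fun w => χ w • v
          map_zero' := by rw [map_zero, zero_smul]
          map_add' := fun w w' => by rw [map_add, add_smul] }
      map_zero' := AddMonoidHom.ext fun w => smul_zero _
      map_add' := fun v v' => AddMonoidHom.ext fun w => smul_add _ _ _ }
  have hιu : ∀ v, ι v u = v := fun v => by show χ u • v = v; rw [hχ, one_smul]
  have hιinj : Function.Injective ι := fun v w h => by rw [← hιu v, h, hιu w]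
  have hιl : ∀ (x : AddMonoid.End V) v, x * ι v = ι (x v) := fun x v => AddMonoidHom.ext fun w => by
    show x (χ w • v) = χ w • x v
    exact (AddMonoidHom.toZModLinearMap p x).map_smul (χ w) v
  refine ⟨(limL b (C.map ι)).comap ι, fun x hx v hv => ?_, ?_⟩
  · have h0 : x * ι v = 0 := lim_mul_limL hb (K := C.map ι) (fun y hy z hz => by
      obtain ⟨c, hc, rfl⟩ := hz
      rw [hιl, hC y hy c hc, map_zero]) hx hv
    rw [hιl, ← map_zero ι] at h0
    exact hιinj h0
  · have hsub : limL b (C.map ι) ≤ ι.range := by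
      rintro _ ⟨_, ⟨f, hf, rfl⟩, d, -, rfl⟩
      have hcf : ∀ n, f.coeff n ∈ ι.range := fun n => by
        obtain ⟨c, -, hc⟩ := hf n
        exact ⟨c, hc⟩
      show ((1 + Polynomial.X * Polynomial.C b) * f).coeff d ∈ ι.range
      rw [add_mul, one_mul, mul_assoc, Polynomial.coeff_add]
      refine add_mem (hcf d) ?_
      cases d with
      | zero => rw [Polynomial.coeff_X_mul_zero]; exact zero_mem _
      | succ d =>
        rw [Polynomial.coeff_X_mul, Polynomial.coeff_C_mul]
        obtain ⟨c, hc⟩ := hcf d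
        exact ⟨b c, by rw [← hιl, hc]⟩
    calc Nat.card C = Nat.card (C.map ι) :=
          Nat.card_congr (C.equivMapOfInjective ι hιinj).toEquiv
      _ ≤ Nat.card (limL b (C.map ι)) := card_le_limL hb _
      _ = Nat.card (((limL b (C.map ι)).comap ι).map ι) := by
          rw [AddSubgroup.map_comap_eq_self hsub]
      _ = _ := (Nat.card_congr
          (AddSubgroup.equivMapOfInjective _ ι hιinj).toEquiv).symm

theorem exists_normal_closure [hp : Fact p.Prime] (hp2 : p ≠ 2) (hexp : ∀ v : V, p • v = 0)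
    (hG : IsPGroup p G) {a₀ : AddSubgroup (AddMonoid.End V)} (h0 : Off T a₀) :
    ∃ a, ∃ h : Off T a, ∀ g c : G, c ∈ grp T a h.sq →
      g * c * g⁻¹ ∈ Subgroup.normalizer (grp T a h.sq : Set G) := by
  classical
  haveI : Finite (AddMonoid.End V) :=
    Finite.of_injective (fun f : AddMonoid.End V => (f : V → V)) DFunLike.coe_injective
  obtain ⟨q, hq⟩ : ∃ q : ℕ, (q : AddMonoid.End V) * 2 = 1 := by
    obtain ⟨m, hm⟩ := hp.out.odd_of_ne_two hp2
    refine ⟨m + 1, ?_⟩
    have h2 : ((m + 1) * 2 : ℕ) = p + 1 := by omega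
    have h3 := congrArg (Nat.cast (R := AddMonoid.End V)) h2
    rw [Nat.cast_mul, Nat.cast_add p, natCast_end_eq_zero hexp, zero_add] at h3
    simpa using h3
  have hhalf : ∀ (W : AddSubgroup (AddMonoid.End V)) (x : AddMonoid.End V), x + x ∈ W → x ∈ W := by
    intro W x hx
    have h := W.nsmul_mem hx q
    rwa [nsmul_eq_mul, ← two_mul, ← mul_assoc, hq, one_mul] at h
  obtain ⟨N, hN⟩ := exists_ser_eq_top T hexp hG
  let F : ℕ → AddSubgroup (AddMonoid.End V) := fun k => ser T (N - k)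
  obtain ⟨a, ha, hmax⟩ := (Set.toFinite {a | Off T a}).exists_maximalFor
    (fun a => ∑ k ∈ Finset.range (N + 1), Nat.card ↥(a ⊓ F k)) _ ⟨a₀, h0⟩
  refine ⟨a, ha, by_contra fun hbad => ?_⟩
  set A := grp T a ha.sq with hA
  set K := Subgroup.normalizer (A : Set G)
  let cc : Set G := {c | ∃ g, g⁻¹ * c * g ∈ A}
  have hconj : ∀ c ∈ cc, ∀ x : G, x * c * x⁻¹ ∈ cc := by
    rintro c ⟨g, hg⟩ x
    exact ⟨x * g, by rwa [show (x * g)⁻¹ * (x * c * x⁻¹) * (x * g) = g⁻¹ * c * g by group]⟩
  set L := Subgroup.closure (cc ∩ (K : Set G))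
  have hLK : L ≤ K := (Subgroup.closure_le _).mpr fun _ h => h.2
  -- a conjugate normalising `L` but not `A`
  obtain ⟨b, hbcc, hbL, hbK⟩ : ∃ b ∈ cc, b ∈ Subgroup.normalizer (L : Set G) ∧ b ∉ K := by
    by_contra hno
    refine hbad fun g c hc => ?_
    have hn : Subgroup.normalizer (L : Set G) = ⊤ := by
      haveI : Group.IsNilpotent G := hG.isNilpotent
      by_contra htop
      have hlt := normalizerCondition_of_isNilpotent _ (lt_top_iff_ne_top.mpr htop)
      refine absurd (show Subgroup.normalizer ((Subgroup.normalizer (L : Set G) : Subgroup G) : Set G) ≤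
        Subgroup.normalizer (L : Set G) from fun x hx => ?_) (not_le_of_gt hlt)
      have hxg : ∀ c ∈ cc ∩ (K : Set G), x * c * x⁻¹ ∈ L := fun c hc => by
        have h1 : x * c * x⁻¹ ∈ Subgroup.normalizer (L : Set G) :=
          (Subgroup.mem_normalizer_iff.mp hx c).mp (Subgroup.le_normalizer (Subgroup.subset_closure hc))
        have h2 : x * c * x⁻¹ ∈ K := by_contra fun h => hno ⟨_, hconj c hc.1 x, h1, h⟩
        exact Subgroup.subset_closure ⟨hconj c hc.1 x, h2⟩
      exact Subgroup.mem_normalizer_iff_map_conj_eq.mpr (Subgroup.eq_of_le_of_card_ge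
        (by
          rw [Subgroup.map_le_iff_le_comap, Subgroup.closure_le]
          exact hxg)
        (Subgroup.card_map_of_injective (MulAut.conj x).injective).ge)
    refine by_contra fun h => hno ⟨g * c * g⁻¹, ⟨g, ?_⟩, hn ▸ Subgroup.mem_top _, h⟩
    rwa [show g⁻¹ * (g * c * g⁻¹) * g = c by group]
  -- `β`
  set β := T b - 1 with hβ
  have hb2 : β * β = 0 := by
    obtain ⟨g, hg⟩ := hbcc
    have h : β = conjR T g (T (g⁻¹ * b * g) - 1) := by
      rw [conjR_sub_one, show g * (g⁻¹ * b * g) * g⁻¹ = b by group]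
    rw [h, conjR_prod, ha.sq _ hg _ hg, map_zero]
  have hTb : ∀ t : ℕ, T (b ^ t) = 1 + t • β ∧ T (b ^ t)⁻¹ = 1 - t • β := by
    intro t
    have hgen : ∀ y : AddMonoid.End V, y * y = 0 → (1 + y) * (1 - y) = 1 := fun y hy => by
      calc _ = 1 - y * y := by noncomm_ring
        _ = 1 := by rw [hy, sub_zero]
    have hi : ∀ s : ℕ, (1 + s • β : AddMonoid.End V) * (1 - s • β) = 1 := fun s => hgen _ (by
      rw [smul_mul_smul_comm, hb2, nsmul_zero])
    have h1 : T (b ^ t) = 1 + t • β := by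
      induction t with
      | zero => simp
      | succ t ih =>
        rw [pow_succ, map_mul, ih, succ_nsmul, show T b = 1 + β by rw [hβ]; abel]
        calc (1 + t • β) * (1 + β) = 1 + (t • β + β) + t • (β * β) := by
              rw [← smul_mul_assoc, mul_add, mul_one, add_mul, one_mul]; abel
          _ = _ := by rw [hb2, nsmul_zero, add_zero]
    refine ⟨h1, ?_⟩
    calc T (b ^ t)⁻¹ = T (b ^ t)⁻¹ * ((1 + t • β) * (1 - t • β)) := by rw [hi, mul_one]
      _ = _ := by rw [← h1, ← mul_assoc, ← map_mul, inv_mul_cancel, map_one, one_mul]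
  have hcm : ∀ (t : ℕ) (x : AddMonoid.End V), conjR T (b ^ t) x =
      x + t • (β * x - x * β) - (t * t) • (β * x * β) := by
    intro t x
    rw [conjR_apply, (hTb t).1, (hTb t).2]
    have hgen : ∀ y : AddMonoid.End V, (1 + y) * (x * (1 - y)) = x + (y * x - x * y) - y * x * y :=
      fun y => by noncomm_ring
    rw [hgen]
    simp only [smul_mul_assoc, mul_smul_comm, smul_smul, nsmul_sub]
  have hcm1 : ∀ x : AddMonoid.End V, conjR T b x = x + (β * x - x * β) - β * x * β := fun x => by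
    simpa using hcm 1 x
  have hFstep : ∀ k, ∀ x ∈ F k, β * x - x * β ∈ F (k + 1) ∧ β * x * β ∈ F (k + 1) := by
    intro k x hx
    have key : ∀ g : G, conjR T g x - x ∈ F (k + 1) := fun g => by
      show conjR T g x - x ∈ ser T (N - (k + 1))
      rcases Nat.eq_zero_or_pos (N - k) with h | h
      · have hx' : x ∈ ser T 0 := h ▸ (hx : x ∈ ser T (N - k))
        rw [ser, AddSubgroup.mem_bot] at hx'
        simp [hx']
      · have h' : N - k = N - (k + 1) + 1 := by omega
        exact (mem_ser_succ T).mp (h' ▸ (hx : x ∈ ser T (N - k))) g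
    have e1 := key b
    have e2 := key b⁻¹
    rw [hcm1, show x + (β * x - x * β) - β * x * β - x = (β * x - x * β) - β * x * β by abel] at e1
    rw [show conjR T b⁻¹ x = x - (β * x - x * β) - β * x * β by
      rw [conjR_apply, inv_inv, show T b = 1 + β by rw [hβ]; abel,
        show T b⁻¹ = 1 - β by simpa using (hTb 1).2]
      noncomm_ring, show x - (β * x - x * β) - β * x * β - x = -((β * x - x * β) + β * x * β) by abel]
      at e2
    have h3 : β * x * β ∈ F (k + 1) := hhalf _ _ (by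
      have h := neg_mem (add_mem e1 e2)
      rwa [show -((β * x - x * β - β * x * β) + -((β * x - x * β) + β * x * β)) =
        β * x * β + β * x * β by abel] at h)
    refine ⟨?_, h3⟩
    have h := add_mem e1 h3
    rwa [sub_add_cancel] at h
  -- the conjugates of `A` under powers of `b`
  let S : ℕ → AddSubgroup (AddMonoid.End V) := fun t => a.map (conjR T (b ^ t))
  have hreal : ∀ t, ∀ x ∈ S t, ∃ c ∈ A, T (b ^ t * c * (b ^ t)⁻¹) = 1 + x := by
    rintro t _ ⟨x, hx, rfl⟩
    obtain ⟨c, hc⟩ := ha.real x hx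
    have hcA : c ∈ A := by
      show T c - 1 ∈ a
      rw [hc, add_sub_cancel_left]; exact hx
    refine ⟨c, hcA, ?_⟩
    have h := conjR_sub_one T (b ^ t) c
    rw [hc, add_sub_cancel_left] at h
    rw [h]; abel
  have hsq : ∀ t, ∀ x ∈ S t, ∀ y ∈ S t, x * y = 0 := by
    rintro t _ ⟨x, hx, rfl⟩ _ ⟨y, hy, rfl⟩
    rw [conjR_prod, ha.sq x hx y hy, map_zero]
  have hinL : ∀ (z : G), z ∈ Subgroup.normalizer (L : Set G) → ∀ c ∈ A, z * c * z⁻¹ ∈ K := fun z hz c hc =>
    hLK ((Subgroup.mem_normalizer_iff.mp hz c).mp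
      (Subgroup.subset_closure ⟨⟨1, by simpa using hc⟩, Subgroup.le_normalizer hc⟩))
  have hnorm : ∀ t s : ℕ, ∀ x ∈ S t, ∀ y ∈ S s, x * y - y * x ∈ S t := by
    intro t s x hx y hy
    have key : ∀ x ∈ S t, ∀ y ∈ S s, (1 + y) * x * (1 - y) ∈ S t := by
      rintro _ ⟨x, hx, rfl⟩ y hy
      obtain ⟨c, hc, hcy⟩ := hreal s y hy
      set z := (b ^ t)⁻¹ * (b ^ s * c * (b ^ s)⁻¹) * b ^ t with hz
      have hzK : z ∈ K := by
        have h := hinL _ (Subgroup.mul_mem _ (Subgroup.inv_mem _ (pow_mem hbL t)) (pow_mem hbL s)) c hc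
        rwa [mul_inv_rev, inv_inv, show (b ^ t)⁻¹ * b ^ s * c * ((b ^ s)⁻¹ * b ^ t) = z by
          rw [hz]; group] at h
      obtain ⟨d, hd⟩ := ha.real x hx
      have hdA : d ∈ A := by
        show T d - 1 ∈ a
        rw [hd, add_sub_cancel_left]; exact hx
      refine ⟨T (z * d * z⁻¹) - 1, (Subgroup.mem_normalizer_iff.mp hzK d).mp hdA, ?_⟩
      rw [← conjR_sub_one, hd, add_sub_cancel_left, ← conjR_mul,
        show b ^ t * z = (b ^ s * c * (b ^ s)⁻¹) * b ^ t by rw [hz]; group, conjR_mul]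
      have hinv : T (b ^ s * c * (b ^ s)⁻¹)⁻¹ = 1 - y := by
        have h1 : (1 + y) * (1 - y) = 1 := by
          calc _ = 1 - y * y := by noncomm_ring
            _ = 1 := by rw [hsq s y hy y hy, sub_zero]
        calc T (b ^ s * c * (b ^ s)⁻¹)⁻¹
            = T (b ^ s * c * (b ^ s)⁻¹)⁻¹ * ((1 + y) * (1 - y)) := by rw [h1, mul_one]
          _ = _ := by rw [← hcy, ← mul_assoc, ← map_mul, inv_mul_cancel, map_one, one_mul]
      generalize b ^ s * c * (b ^ s)⁻¹ = w at hcy hinv
      rw [conjR_apply, hcy, hinv, mul_assoc]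
    have e1 := (S t).sub_mem (key x hx y hy) ((S t).sub_mem hx (S t).zero_mem)
    have e2 := key x hx (-y) (neg_mem hy)
    have e3 : (1 + -y) * x * (1 - -y) - (1 + y) * x * (1 - y) =
        (x * y - y * x) + (x * y - y * x) := by noncomm_ring
    exact hhalf _ _ (e3 ▸ (S t).sub_mem e2 (key x hx y hy))
  have hboth : ∀ t s : ℕ, ∀ x ∈ S t, ∀ y ∈ S s, x * y - y * x ∈ S t ∧ x * y - y * x ∈ S s :=
    fun t s x hx y hy => ⟨hnorm t s x hx y hy, by
      have h := neg_mem (hnorm s t y hy x hx); rwa [neg_sub] at h⟩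
  set W := S 0 ⊔ S 1 ⊔ S 2 with hW
  have hS0 : ∀ x ∈ a, x ∈ S 0 := fun x hx => ⟨x, hx, by rw [pow_zero, conjR_one]⟩
  have hW3 : ∀ x ∈ a, β * x * β ∈ W := by
    intro x hx
    have h1 : conjR T (b ^ 1) x ∈ W := AddSubgroup.mem_sup_left (AddSubgroup.mem_sup_right ⟨x, hx, rfl⟩)
    have h2 : conjR T (b ^ 2) x ∈ W := AddSubgroup.mem_sup_right ⟨x, hx, rfl⟩
    have h0 : x ∈ W := AddSubgroup.mem_sup_left (AddSubgroup.mem_sup_left (hS0 x hx))
    refine hhalf W _ ?_
    have h := sub_mem (add_mem (sub_mem h1 h0) (sub_mem h1 h0)) (sub_mem h2 h0)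
    rwa [hcm, hcm, show x + 1 • (β * x - x * β) - (1 * 1) • (β * x * β) - x +
        (x + 1 • (β * x - x * β) - (1 * 1) • (β * x * β) - x) -
        (x + 2 • (β * x - x * β) - (2 * 2) • (β * x * β) - x) = β * x * β + β * x * β by
          abel] at h
  have hW2 : ∀ x ∈ a, β * x - x * β ∈ W := by
    intro x hx
    have h1 : conjR T (b ^ 1) x ∈ W := AddSubgroup.mem_sup_left (AddSubgroup.mem_sup_right ⟨x, hx, rfl⟩)
    have h0 : x ∈ W := AddSubgroup.mem_sup_left (AddSubgroup.mem_sup_left (hS0 x hx))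
    have h := add_mem (sub_mem h1 h0) (hW3 x hx)
    rwa [hcm, show x + 1 • (β * x - x * β) - (1 * 1) • (β * x * β) - x + β * x * β =
      β * x - x * β by abel] at h
  have hlimW : lim β a ≤ W :=
    lim_le (fun x hx => AddSubgroup.mem_sup_left (AddSubgroup.mem_sup_left (hS0 x hx))) hW2 hW3
  have hl2 : ∀ x ∈ lim β a, ∀ y ∈ lim β a, x * y = 0 := fun x hx y hy =>
    lim_mul_lim hb2 ha.sq hx hy
  have hP : ∀ t, ∀ x ∈ S t, 1 + x ∈ MonoidHom.mrange T := fun t x hx => by
    obtain ⟨c, -, hc⟩ := hreal t x hx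
    exact ⟨_, hc⟩
  have hlreal : ∀ x ∈ lim β a, ∃ g, T g = 1 + x := fun x hx =>
    one_add_mem (MonoidHom.mrange T) (hP 0) (hP 1) (hP 2) q hq (hsq 0) (hsq 1) (hsq 2)
      (hboth 0 1) (hboth 0 2) (hboth 1 2) (hlimW hx) (hl2 x hx x hx)
  have hcard := card_le_lim hb2 a
  have hne : lim β a ≠ ⊥ := fun h => ha.ne (AddSubgroup.eq_bot_of_card_le a (hcard.trans (by
    rw [h]; simp)))
  obtain ⟨C, hC, hCV⟩ := ha.off
  obtain ⟨C', hC', hCC⟩ := card_ker_le hexp hb2 hC
  have hoff' : Off T (lim β a) :=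
    ⟨hl2, hlreal, hne, C', hC', hCV.trans (Nat.mul_le_mul hcard hCC)⟩
  have hanti : Antitone F := fun k l hkl => ser_mono T (by omega)
  have hnot : ¬ ∀ x ∈ a, β * x - x * β ∈ a ∧ β * x * β ∈ a := fun hinv => hbK (by
    refine Subgroup.mem_normalizer_iff_map_conj_eq.mpr (Subgroup.eq_of_le_of_card_ge ?_
      (Subgroup.card_map_of_injective (MulAut.conj b).injective).ge)
    rintro _ ⟨c, hc, rfl⟩
    show T (b * c * b⁻¹) - 1 ∈ a
    rw [← conjR_sub_one, hcm1]
    exact sub_mem (add_mem hc (hinv _ hc).1) (hinv _ hc).2)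
  obtain ⟨hle, k, hk, hlt⟩ := lim_measure hb2 F hanti hFstep
    (show ser T (N - 0) = ⊤ by rw [Nat.sub_zero, hN]) (N := N)
    (show ser T (N - N) = ⊥ by rw [Nat.sub_self]; rfl) hnot
  have hgt : (∑ k ∈ Finset.range (N + 1), Nat.card ↥(a ⊓ F k)) <
      ∑ k ∈ Finset.range (N + 1), Nat.card ↥(lim β a ⊓ F k) :=
    Finset.sum_lt_sum (fun i _ => hle i) ⟨k, Finset.mem_range.mpr hk, hlt⟩
  exact (lt_irrefl _) (hgt.trans_le (hmax hoff' hgt.le))

/-- The existence of a quadratic offender, by replacement. -/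
theorem exists_off [hp : Fact p.Prime] (hexp : ∀ v : V, p • v = 0)
    (hGexp : ∀ E : Subgroup G, (∀ g ∈ E, g ^ p = 1) → (∀ g ∈ E, ∀ h ∈ E, g * h = h * g) → E ≠ ⊥ →
      ∃ g ∈ E, T g ≠ 1)
    (E : Subgroup G) (hE : E ≠ ⊥) (hEc : ∀ g ∈ E, ∀ h ∈ E, g * h = h * g) (hEp : ∀ g ∈ E, g ^ p = 1)
    (hoff : Nat.card V ≤ Transfer.Timmesfeld.meas T E) (hinj : Function.Injective T) :
    ∃ a, Off T a := by
  classical
  obtain ⟨E₁, ⟨hE₁, hE₁ne⟩, hmax⟩ := (Set.toFinite {B : Subgroup G | B ≤ E ∧ B ≠ ⊥}).exists_maximalFor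
    (Transfer.Timmesfeld.meas T) _ ⟨E, le_rfl, hE⟩
  have htop : ∀ B, B ≤ E → B ≠ ⊥ →
      Transfer.Timmesfeld.meas T B ≤ Transfer.Timmesfeld.meas T E₁ := fun B hB hB0 =>
    (le_total (Transfer.Timmesfeld.meas T B) (Transfer.Timmesfeld.meas T E₁)).elim id
      (hmax ⟨hB, hB0⟩)
  have hV : Nat.card V ≤ Transfer.Timmesfeld.meas T E₁ := hoff.trans (htop E le_rfl hE)
  set U := T.comp E₁.subtype with hU
  have hfix : ∀ B : Subgroup E₁, Transfer.Timmesfeld.fix U B =
      Transfer.Timmesfeld.fix T (B.map E₁.subtype) := fun B => AddSubgroup.ext fun v =>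
    ⟨fun h b hb => by obtain ⟨c, hc, rfl⟩ := hb; exact h c hc, fun h b hb => h _ ⟨b, hb, rfl⟩⟩
  have hmeas : ∀ B : Subgroup E₁, Transfer.Timmesfeld.meas U B =
      Transfer.Timmesfeld.meas T (B.map E₁.subtype) := fun B => by
    rw [Transfer.Timmesfeld.meas, Transfer.Timmesfeld.meas, hfix,
      Subgroup.card_map_of_injective E₁.subtype_injective]
  have htopU : Transfer.Timmesfeld.meas U ⊤ = Transfer.Timmesfeld.meas T E₁ := by
    rw [hmeas, ← MonoidHom.range_eq_map, Subgroup.range_subtype]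
  have hcomm : ∀ x y : E₁, ∀ v, U x (U y v) = U y (U x v) := fun x y v => by
    rw [← Transfer.Timmesfeld.T_mul, ← Transfer.Timmesfeld.T_mul,
      show x * y = y * x from Subtype.ext (hEc _ (hE₁ x.2) _ (hE₁ y.2))]
  have hbot : Transfer.Timmesfeld.meas T (⊥ : Subgroup G) = Nat.card V := by
    rw [Transfer.Timmesfeld.meas, Subgroup.card_bot, one_mul]
    rw [show Transfer.Timmesfeld.fix T (⊥ : Subgroup G) = ⊤ from eq_top_iff.mpr fun v _ c hc => by
      rw [Subgroup.mem_bot] at hc; rw [hc, map_one]; rfl]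
    exact AddSubgroup.card_top
  have hmaxU : ∀ B : Subgroup E₁, Transfer.Timmesfeld.meas U B ≤ Transfer.Timmesfeld.meas U ⊤ := by
    intro B
    rw [hmeas, htopU]
    by_cases h : B.map E₁.subtype = ⊥
    · rw [h, hbot]; exact hV
    · exact htop _ ((Subgroup.map_subtype_le B).trans hE₁) h
  letI := Fintype.ofFinite V
  obtain ⟨hm, hf⟩ := Transfer.Timmesfeld.replacement U hcomm hmaxU (Finset.univ : Finset V)
  rw [Finset.coe_univ] at hm hf
  set B := Transfer.Timmesfeld.stab U (Transfer.Timmesfeld.comm U (Set.univ : Set V))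
  have hq : ∀ c ∈ B, ∀ d ∈ B, (U c - 1) * (U d - 1) = 0 := fun c hc d _ => AddMonoidHom.ext fun v => by
    show U c (U d v - v) - (U d v - v) = 0
    have h : v - U d v ∈ Transfer.Timmesfeld.comm U (Set.univ : Set V) :=
      AddSubgroup.subset_closure ⟨v, trivial, d, rfl⟩
    rw [hc _ (by simpa using AddSubgroup.neg_mem _ h), sub_self]
  let a : AddSubgroup (AddMonoid.End V) :=
    { carrier := {x | ∃ c ∈ B, U c - 1 = x}
      zero_mem' := ⟨1, one_mem B, by rw [map_one, sub_self]⟩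
      add_mem' := by
        rintro _ _ ⟨c, hc, rfl⟩ ⟨d, hd, rfl⟩
        refine ⟨c * d, mul_mem hc hd, ?_⟩
        calc U (c * d) - 1 = (U c - 1) + (U d - 1) + (U c - 1) * (U d - 1) := by
              rw [map_mul]; noncomm_ring
          _ = _ := by rw [hq c hc d hd, add_zero]
      neg_mem' := by
        rintro _ ⟨c, hc, rfl⟩
        refine ⟨c⁻¹, inv_mem hc, ?_⟩
        have h : (U c - 1) + (U c⁻¹ - 1) = 0 := by
          calc _ = (U (c * c⁻¹) - 1) - (U c - 1) * (U c⁻¹ - 1) := by rw [map_mul]; noncomm_ring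
            _ = 0 := by rw [hq c hc _ (inv_mem hc), mul_inv_cancel, map_one, sub_self, sub_zero]
        exact eq_neg_of_add_eq_zero_right h }
  have hUinj : Function.Injective U := hinj.comp E₁.subtype_injective
  refine ⟨a, fun x hx y hy => ?_, fun x hx => ?_, fun h => ?_, Transfer.Timmesfeld.fix U B,
    fun x hx v hv => ?_, ?_⟩
  · obtain ⟨c, hc, rfl⟩ := hx
    obtain ⟨d, hd, rfl⟩ := hy
    exact hq c hc d hd
  · obtain ⟨c, -, rfl⟩ := hx
    exact ⟨c, by show U c = _; abel⟩
  · have hB : B = ⊥ := (Subgroup.eq_bot_iff_forall B).mpr fun c hc => hUinj (by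
      have hc0 : U c - 1 ∈ a := ⟨c, hc, rfl⟩
      rw [h, AddSubgroup.mem_bot, sub_eq_zero] at hc0
      rw [hc0, map_one])
    have hexp1 : ∀ c : E₁, U c ^ p = 1 := fun c => by
      rw [← map_pow, show c ^ p = 1 from Subtype.ext (hEp _ (hE₁ c.2)), map_one]
    have htriv := Transfer.Timmesfeld.trivial_of_sup_eq_top U hcomm hexp hexp1 (by
      rw [← hf, hB]
      exact eq_top_iff.mpr fun v _ c hc => by rw [Subgroup.mem_bot] at hc; rw [hc, map_one]; rfl)
    obtain ⟨g, hg, hne⟩ := hGexp E₁ (fun g hg => hEp g (hE₁ hg))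
      (fun g hg h' hh => hEc g (hE₁ hg) h' (hE₁ hh)) hE₁ne
    exact hne (AddMonoidHom.ext fun v => htriv ⟨g, hg⟩ v)
  · obtain ⟨c, hc, rfl⟩ := hx
    show U c v - v = 0
    rw [hv c hc, sub_self]
  · haveI : Finite (AddMonoid.End V) :=
      Finite.of_injective (fun f : AddMonoid.End V => (f : V → V)) DFunLike.coe_injective
    refine (hV.trans (htopU.ge.trans hm.ge)).trans (Nat.mul_le_mul_right _ ?_)
    refine Nat.card_le_card_of_injective (fun c : B => (⟨U c.1 - 1, c.1, c.2, rfl⟩ : a)) fun c d h => ?_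
    exact Subtype.ext (hUinj (sub_left_inj.mp (congrArg Subtype.val h)))

end Cfsg.Agent.Invol.QuadNormal
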