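import Mathlib
import Cfsg.Prelude
import Cfsg.Agent.Lib.Invol.PResidual
import Cfsg.Agent.Lib.Invol.CharP
import Cfsg.Agent.Lib.Grp.Subnormal
import Cfsg.Agent.Lib.Grp.Quasisimple
import Cfsg.Agent.Lib.Grp.Coprime

/-!
A group without normal `p`-subgroups with a quasisimple normal subgroup of `p`-power index.
-/

set_option autoImplicit false
set_option linter.style.haveILetI false

open scoped commutatorElement

namespace Cfsg.Agent.Invol.QuasiResidual

open Subgroup

universe u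

variable {Γ : Type u} [Group Γ] [Finite Γ] {p : ℕ} [hp : Fact p.Prime]
  {F : Subgroup Γ} [hFn : F.Normal]

omit [Finite Γ] hFn in
theorem commutator_self (hq : Cfsg.IsQuasisimple ↥F) : ⁅F, F⁆ = F := by
  have h := hq.1.commutator_eq_top
  rw [← Subgroup.map_subtype_commutator, h, ← MonoidHom.range_eq_map, range_subtype]

omit [Finite Γ] hFn in
/-- A subgroup of `F` normalised by it is everything or central. -/
theorem eq_or_centralized (hq : Cfsg.IsQuasisimple ↥F) {K : Subgroup Γ} (hKF : K ≤ F)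
    (hK : F ≤ normalizer (K : Set Γ)) : K = F ∨ K ≤ centralizer (F : Set Γ) := by
  haveI := (normal_subgroupOf_iff_le_normalizer hKF).mpr hK
  rcases Grp.IsQuasisimple.eq_top_or_le_center hq (K.subgroupOf F) with h | h
  · exact Or.inl (le_antisymm hKF (subgroupOf_eq_top.mp h))
  · refine Or.inr fun k hk => mem_centralizer_iff.mpr fun f hf => ?_
    exact congrArg Subtype.val (mem_center_iff.mp (h (show (⟨k, hKF hk⟩ : ↥F) ∈ K.subgroupOf F from hk)) ⟨f, hf⟩)

theorem centralizer_normal : (centralizer (F : Set Γ)).Normal := by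
  rw [← normalizer_eq_top_iff, eq_top_iff]
  intro g _
  refine mem_normalizer_fintype fun c hc => mem_centralizer_iff.mpr fun a ha => ?_
  have h1 := mem_centralizer_iff.mp hc _ (show g⁻¹ * a * g ∈ F by simpa using hFn.conj_mem a ha g⁻¹)
  calc a * (g * c * g⁻¹) = g * (g⁻¹ * a * g * c) * g⁻¹ := by group
    _ = g * (c * (g⁻¹ * a * g)) * g⁻¹ := by rw [h1]
    _ = g * c * g⁻¹ * a := by group

variable (hcore : Cfsg.pCore p Γ = ⊥) (hres : Cfsg.pResidual p Γ ≤ F)
include hcore hres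

omit hFn in
/-- A `p`-element centralising `F` is trivial. -/
theorem eq_one_of_pow [F.Normal] {c : Γ} (hc : c ∈ centralizer (F : Set Γ)) {k : ℕ} (hk : c ^ p ^ k = 1) :
    c = 1 := by
  haveI hCn := centralizer_normal (F := F)
  obtain ⟨C, hC⟩ : ∃ C, C = centralizer (F : Set Γ) := ⟨_, rfl⟩
  rw [← hC] at hc hCn
  have hz : IsPGroup p ↥(zpowers (⟨c, hc⟩ : ↥C)) := by
    rintro ⟨z, hz⟩
    obtain ⟨i, rfl⟩ := mem_zpowers_iff.mp hz
    refine ⟨k, Subtype.ext (Subtype.ext ?_)⟩
    simp only [SubgroupClass.coe_pow, OneMemClass.coe_one, SubgroupClass.coe_zpow]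
    rw [← zpow_natCast, ← zpow_mul, mul_comm, zpow_mul, zpow_natCast, hk, one_zpow]
  obtain ⟨S, hS⟩ := hz.exists_le_sylow
  have hSn : (S : Subgroup ↥C).Normal := by
    rw [← normalizer_eq_top_iff, eq_top_iff, ← pResidual_sup_sylow S]
    refine sup_le ?_ le_normalizer
    rw [Cfsg.pResidual, closure_le]
    intro x hx
    refine mem_normalizer_fintype fun s hs => ?_
    have h1 : ((x : ↥C) : Γ) ∈ F := hres (mem_pResidual (by rwa [Subgroup.orderOf_coe]))
    have h2 := mem_centralizer_iff.mp (hC.le s.2) _ h1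
    rw [show x * s * x⁻¹ = s from Subtype.ext (by
      show (x : Γ) * s * (x : Γ)⁻¹ = s
      rw [h2, mul_inv_cancel_right])]
    exact hs
  have hle : ((S : Subgroup ↥C).map C.subtype) ≤ Cfsg.pCore p Γ := by
    refine Grp.le_pCore_of_isSubnormal ?_ (S.isPGroup'.map _)
    refine IsSubnormal.trans (map_subtype_le _) ?_ hCn.isSubnormal
    rw [subgroupOf, comap_map_eq_self_of_injective C.subtype_injective]
    exact hSn.isSubnormal
  have := hle ⟨⟨c, hc⟩, hS (mem_zpowers _), rfl⟩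
  rwa [hcore, mem_bot] at this

theorem centralizer_le : centralizer (F : Set Γ) ≤ F := by
  intro c hc
  obtain ⟨k, hk⟩ := exists_pow_coprime (p := p) c
  obtain ⟨l, m, hm, hlm⟩ := Nat.exists_eq_pow_mul_and_not_dvd (orderOf_pos c).ne' p hp.out.ne_one
  have h1 : (c ^ m) ^ p ^ l = 1 := by rw [← pow_mul, mul_comm m, ← hlm, pow_orderOf_eq_one]
  have h2 : c ^ m = 1 := eq_one_of_pow hcore hres (pow_mem hc m) h1
  have h3 : orderOf c ∣ m := orderOf_dvd_of_pow_eq_one h2
  have h4 : (orderOf c).Coprime p :=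
    Nat.Coprime.coprime_dvd_left h3 ((hp.out.coprime_iff_not_dvd.mpr hm).symm)
  exact hres (mem_pResidual h4)

/-- The commutator of `F` with a nontrivial `p`-subgroup is `F`. -/
theorem commutator_eq (hq : Cfsg.IsQuasisimple ↥F) {Y : Subgroup Γ} (hY : IsPGroup p Y) (hY1 : Y ≠ ⊥) :
    ⁅F, Y⁆ = F := by
  have hle : ⁅F, Y⁆ ≤ F := commutator_le.mpr fun a ha b hb => by
    rw [commutatorElement_def, show a * b * a⁻¹ * b⁻¹ = a * (b * a⁻¹ * b⁻¹) by group]
    exact mul_mem ha (hFn.conj_mem _ (inv_mem ha) b)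
  have hn : F ≤ normalizer ((⁅F, Y⁆ : Subgroup Γ) : Set Γ) := Grp.left_le_normalizer_commutator Y F |>.trans
    (by rw [commutator_comm])
  refine (eq_or_centralized hq hle hn).resolve_right fun h => hY1 ?_
  have h1 : ⁅⁅F, Y⁆, F⁆ = ⊥ := commutator_eq_bot_iff_le_centralizer.mpr h
  have h2 : ⁅⁅Y, F⁆, F⁆ = ⊥ := by rwa [commutator_comm Y F]
  have h3 := commutator_commutator_eq_bot_of_rotate (H₁ := F) (H₂ := F) (H₃ := Y) h1 h2
  rw [commutator_self hq, commutator_comm, commutator_eq_bot_iff_le_centralizer] at h3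
  rw [eq_bot_iff]
  intro y hy
  obtain ⟨k, hk⟩ := hY ⟨y, hy⟩
  exact eq_one_of_pow hcore hres (h3 hy) (k := k) (by simpa using congrArg Subtype.val hk)

/-- A normal subgroup is above `F` or inside its centre. -/
theorem normal_dichotomy (hq : Cfsg.IsQuasisimple ↥F) (N : Subgroup Γ) [hN : N.Normal] :
    F ≤ N ∨ N ≤ centralizer (F : Set Γ) := by
  rcases eq_or_centralized hq (inf_le_left : F ⊓ N ≤ F) (fun f hf => mem_normalizer_fintype fun a ha =>
      mem_inf.mpr ⟨hFn.conj_mem a ha.1 f, hN.conj_mem a ha.2 f⟩) with h | h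
  · exact Or.inl (inf_eq_left.mp h)
  · refine Or.inr ?_
    have hc : ⁅F, N⁆ ≤ F ⊓ N := commutator_le.mpr fun a ha b hb => mem_inf.mpr
      ⟨by rw [commutatorElement_def, show a * b * a⁻¹ * b⁻¹ = a * (b * a⁻¹ * b⁻¹) by group]
          exact mul_mem ha (hFn.conj_mem _ (inv_mem ha) b),
       by rw [commutatorElement_def]; exact mul_mem (hN.conj_mem b hb a) (inv_mem hb)⟩
    have h1 : ⁅⁅F, N⁆, F⁆ = ⊥ := commutator_eq_bot_iff_le_centralizer.mpr (hc.trans h)
    have h2 : ⁅⁅N, F⁆, F⁆ = ⊥ := by rwa [commutator_comm N F]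
    have h3 := commutator_commutator_eq_bot_of_rotate (H₁ := F) (H₂ := F) (H₃ := N) h1 h2
    rwa [commutator_self hq, commutator_comm, commutator_eq_bot_iff_le_centralizer] at h3

end Cfsg.Agent.Invol.QuasiResidual
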