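import Cfsg.Agent.Lib.Char.QuaternionDerived
import Cfsg.Agent.Lib.Char.Constituent
import Cfsg.Agent.Lib.Char.Kernel

/-!
The two characters with difference one on elements of order not divisible by four, for generalized
quaternion Sylow 2-subgroups.
-/

set_option autoImplicit false
set_option linter.style.haveILetI false

namespace Cfsg.Agent.Invol.QuatExc

open Cfsg Cfsg.Agent.Char
open scoped ComplexConjugate

universe u

variable {G : Type u} [Group G] [Fintype G]

/-- The group theory: a linear character of the centralizer of `D` trivial off the elements whose order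
is divisible by `|D|`, inverted by the normalizer. -/
theorem exists_linear (S : Sylow 2 G) (n : ℕ) (e : (S : Subgroup G) ≃* QuaternionGroup (2 ^ (n + 2)))
    (D : Subgroup G) (hD : D = ⁅(S : Subgroup G), (S : Subgroup G)⁆) :
    ∃ l : ↥(Subgroup.centralizer (D : Set G)) →* ℂˣ,
      (∃ c, l c = Units.mk0 Complex.I Complex.I_ne_zero) ∧
      (∀ c : ↥(Subgroup.centralizer (D : Set G)), ¬ Nat.card D ∣ orderOf (c : G) → l c = 1) ∧
      ∃ t ∈ Subgroup.normalizer (D : Set G), t ∉ Subgroup.centralizer (D : Set G) ∧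
        ∀ c : ↥(Subgroup.centralizer (D : Set G)), ∀ h : t * c * t⁻¹ ∈ Subgroup.centralizer (D : Set G),
          l ⟨_, h⟩ = (l c)⁻¹ := by
  classical
  haveI : NeZero (2 ^ (n + 2)) := ⟨by positivity⟩
  have hd := QD.data S n e D hD
  obtain ⟨K, hKo, hKC, hNK, -, hsup, -⟩ := hd.exists_complement
  set C := Subgroup.centralizer (D : Set G) with hC
  set m := 2 ^ (n + 2) with hm
  let f : QuaternionGroup m →* G := (S : Subgroup G).subtype.comp e.symm.toMonoidHom
  have hf : Function.Injective f := Subtype.val_injective.comp e.symm.injective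
  have hfS : ∀ q, f q ∈ (S : Subgroup G) := fun q => (e.symm q).2
  set b := f (QuaternionGroup.a 1) with hb
  set t := f (QuaternionGroup.xa 0) with ht
  have hbo : orderOf b = 2 * m := by rw [hb, orderOf_injective f hf, QuaternionGroup.orderOf_a_one]
  have hSC : (S : Subgroup G) ⊓ C = Subgroup.zpowers b := by
    have hDz : D = Subgroup.zpowers (f (QuaternionGroup.a 2)) := by
      have hfr : (⊤ : Subgroup (QuaternionGroup m)).map f = (S : Subgroup G) := by
        rw [← MonoidHom.range_eq_map, MonoidHom.range_comp, MonoidHom.range_eq_top.2 e.symm.surjective,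
          ← MonoidHom.range_eq_map, Subgroup.range_subtype]
      rw [hD, ← hfr, ← Subgroup.map_commutator, QD.commutator_eq, MonoidHom.map_zpowers]
    have hbC : b ∈ C := by
      rw [hC, hDz, Subgroup.mem_centralizer_iff]
      rintro y ⟨r, rfl⟩
      have hc : Commute (f (QuaternionGroup.a 2)) b := by
        show f _ * f _ = f _ * f _
        rw [← map_mul, ← map_mul, QuaternionGroup.a_mul_a, QuaternionGroup.a_mul_a, add_comm]
      exact (hc.zpow_left r).eq
    refine (Subgroup.eq_of_le_of_card_ge ((Subgroup.zpowers_le).2 (Subgroup.mem_inf.mpr ⟨hfS _, hbC⟩)) ?_).symm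
    have h1 := hd.index
    have h2 : Nat.card (S : Subgroup G) = 4 * m := by
      rw [Nat.card_congr e.toEquiv, Nat.card_eq_fintype_card, QuaternionGroup.card]
    rw [Nat.card_zpowers, hbo, ← hC] at *
    omega
  have hbC : b ∈ C := ((hSC.ge (Subgroup.mem_zpowers b)) : b ∈ (S : Subgroup G) ⊓ C).2
  have hCN : C ≤ Subgroup.normalizer (D : Set G) := Subgroup.centralizer_le_normalizer _
  haveI hKn : (K.subgroupOf C).Normal :=
    (Subgroup.normal_subgroupOf_iff_le_normalizer hKC).2 (hCN.trans hNK)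
  set π := QuotientGroup.mk' (K.subgroupOf C) with hπ
  set b' : ↥C := ⟨b, hbC⟩ with hb'
  -- every element of `C` is congruent to a power of `b`
  have hgen : ∀ x, x ∈ Subgroup.zpowers (π b') := by
    intro x
    obtain ⟨c, rfl⟩ := QuotientGroup.mk_surjective x
    have h1 : K.subgroupOf C ⊔ Subgroup.zpowers b' = ⊤ := by
      have hz : Subgroup.zpowers b' = (Subgroup.zpowers b).subgroupOf C := by
        apply Subgroup.map_injective C.subtype_injective
        rw [MonoidHom.map_zpowers, Subgroup.map_subgroupOf_eq_of_le ((Subgroup.zpowers_le).2 hbC)]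
        rfl
      rw [hz, ← Subgroup.subgroupOf_sup hKC ((Subgroup.zpowers_le).2 hbC), ← hSC, hsup,
        Subgroup.subgroupOf_self]
    obtain ⟨k, hk, y, hy, hky⟩ := Subgroup.mem_sup_of_normal_left.1 (h1.ge (Subgroup.mem_top c))
    obtain ⟨r, rfl⟩ := Subgroup.mem_zpowers_iff.1 hy
    refine Subgroup.mem_zpowers_iff.2 ⟨r, ?_⟩
    rw [← hky, QuotientGroup.mk_mul, (QuotientGroup.eq_one_iff k).2 hk, one_mul]
    exact (map_zpow π b' r).symm
  have hπo : orderOf (π b') = 2 * m := by
    refine Nat.dvd_antisymm (hbo ▸ ?_) ?_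
    · rw [show orderOf b = orderOf b' from Subgroup.orderOf_coe b']
      exact orderOf_map_dvd π b'
    · rw [← hbo]
      refine orderOf_dvd_of_pow_eq_one ?_
      have h1 : b' ^ orderOf (π b') ∈ K.subgroupOf C := by
        rw [← QuotientGroup.eq_one_iff]
        exact (map_pow π b' _).trans (pow_orderOf_eq_one _)
      have h2 : b ^ orderOf (π b') ∈ K := Subgroup.mem_subgroupOf.1 h1
      rw [← orderOf_eq_one_iff]
      refine Nat.eq_one_of_dvd_coprimes (k := orderOf _) ?_ (Subgroup.orderOf_dvd_natCard K h2)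
        ((orderOf_pow_dvd _).trans hbo.dvd)
      rw [hm, ← pow_succ']
      exact Nat.Coprime.pow_right _ hKo.coprime_two_right
  set I' : ℂˣ := Units.mk0 Complex.I Complex.I_ne_zero with hI'
  have hI : I' ^ 4 = 1 := Units.ext (by simp [hI', Complex.I_pow_four])
  have h4 : (4 : ℕ) ∣ m := by rw [hm, pow_add]; exact dvd_mul_left 4 _
  let ψ := monoidHomOfForallMemZpowers hgen (g' := I')
    ((orderOf_dvd_of_pow_eq_one hI).trans (hπo.symm ▸ Dvd.dvd.mul_left h4 2))
  have hψ : ψ (π b') = I' := monoidHomOfForallMemZpowers_apply_gen _ _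
  refine ⟨ψ.comp π, ⟨b', hψ⟩, fun c hc => ?_, t, hd.normal (hfS _), fun htC => ?_, fun c h => ?_⟩
  · rw [hd.card] at hc
    obtain ⟨r, hr⟩ := mem_powers_iff_mem_zpowers.2 (hgen (π c))
    have hr' : π b' ^ r = π c := hr
    have hdvd : orderOf (π b' ^ r) ∣ orderOf (c : G) := by
      rw [hr', Subgroup.orderOf_coe]; exact orderOf_map_dvd π c
    have h4r : 4 ∣ r := by
      by_contra h4r
      refine hc (dvd_trans ?_ hdvd)
      rw [orderOf_pow, hπo, hm, ← pow_succ']
      obtain ⟨i, hi, e1⟩ := (Nat.dvd_prime_pow Nat.prime_two).1 (Nat.gcd_dvd_left (2 ^ (n + 2 + 1)) r)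
      have hi1 : i ≤ 1 := by
        by_contra hlt
        exact h4r (dvd_trans (pow_dvd_pow 2 (show 2 ≤ i by omega)) (e1 ▸ Nat.gcd_dvd_right _ r))
      rw [e1, Nat.pow_div hi two_pos]
      exact pow_dvd_pow 2 (by omega)
    obtain ⟨s, rfl⟩ := h4r
    show ψ (π c) = 1
    rw [← hr', map_pow, hψ, pow_mul, hI, one_pow]
  · have hmem : t ∈ Subgroup.zpowers b := hSC.le ⟨hfS _, htC⟩
    rw [hb, ← MonoidHom.map_zpowers] at hmem
    obtain ⟨q, hq, hqe⟩ := hmem
    have := hf hqe
    subst this
    obtain ⟨r, hr⟩ := mem_powers_iff_mem_zpowers.2 hq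
    have hr' : (QuaternionGroup.a 1 : QuaternionGroup m) ^ r = QuaternionGroup.xa 0 := hr
    rw [QuaternionGroup.a_one_pow] at hr'
    exact absurd hr' (by simp)
  · -- conjugation by `t` inverts modulo `K`
    haveI hCn : (C.subgroupOf (Subgroup.normalizer (D : Set G))).Normal := QD.centralizer_normal D
    have htN : t ∈ Subgroup.normalizer (D : Set G) := hd.normal (hfS _)
    have hmemC : ∀ x : ↥C, t * (x : G) * t⁻¹ ∈ C := fun x =>
      hCn.conj_mem ⟨(x : G), hCN x.2⟩ x.2 ⟨t, htN⟩
    let τ : ↥C →* ℂˣ :=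
      { toFun := fun x => ψ (π ⟨_, hmemC x⟩)
        map_one' := by
          rw [show (⟨_, hmemC 1⟩ : ↥C) = 1 from Subtype.ext (by simp), map_one, map_one]
        map_mul' := fun x y => by
          rw [← map_mul, ← map_mul]
          congr 2
          exact Subtype.ext (by simp only [Subgroup.coe_mul]; group) }
    have hτb : τ b' = I'⁻¹ := by
      have e1 : t * b * t⁻¹ = b⁻¹ := by
        rw [ht, hb, ← map_inv, ← map_inv, ← map_mul, ← map_mul]
        congr 1
        rw [QD.xa_inv, QD.a_inv, QuaternionGroup.xa_mul_a, QuaternionGroup.xa_mul_xa]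
        congr 1
        have hmz : (m : ZMod (2 * m)) + m = 0 := by
          rw [← Nat.cast_add, ← two_mul, ZMod.natCast_self]
        linear_combination hmz
      show ψ (π ⟨_, hmemC b'⟩) = _
      rw [show (⟨_, hmemC b'⟩ : ↥C) = b'⁻¹ from Subtype.ext e1, map_inv, map_inv, hψ]
    have hτK : ∀ x ∈ K.subgroupOf C, τ x = 1 := by
      intro x hx
      show ψ (π ⟨_, hmemC x⟩) = 1
      have h1 : t * (x : G) * t⁻¹ ∈ K :=
        (Subgroup.mem_normalizer_iff.1 (hNK htN) _).1 (Subgroup.mem_subgroupOf.1 hx)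
      have h2 : π (⟨_, hmemC x⟩ : ↥C) = 1 := (QuotientGroup.eq_one_iff _).2 (Subgroup.mem_subgroupOf.2 h1)
      rw [h2, map_one]
    obtain ⟨r, hr⟩ := Subgroup.mem_zpowers_iff.1 (hgen (π c))
    have hk : c * (b' ^ r)⁻¹ ∈ K.subgroupOf C := by
      rw [← QuotientGroup.eq_one_iff]
      show π (c * (b' ^ r)⁻¹) = 1
      rw [map_mul, map_inv, map_zpow, hr, mul_inv_cancel]
    show τ c = (ψ (π c))⁻¹
    have h2 : τ c = τ b' ^ r := by
      have := hτK _ hk
      rwa [map_mul, map_inv, map_zpow, mul_inv_eq_one] at this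
    rw [h2, hτb, inv_zpow, ← hr, map_zpow, hψ]

theorem main (S : Sylow 2 G) (n : ℕ) (e : (S : Subgroup G) ≃* QuaternionGroup (2 ^ (n + 2))) :
    ∃ χ₁ χ₂ : G → ℂ, Cfsg.IsIrrCharacter G χ₁ ∧ Cfsg.IsIrrCharacter G χ₂ ∧ χ₁ ≠ (fun _ => 1) ∧
      χ₂ ≠ (fun _ => 1) ∧ χ₁ 1 = χ₂ 1 + 1 ∧ ∀ g : G, ¬ 4 ∣ orderOf g → χ₁ g - χ₂ g = 1 := by
  classical
  set D := ⁅(S : Subgroup G), (S : Subgroup G)⁆ with hD
  have hd := QD.data S n e D rfl
  set C := Subgroup.centralizer (D : Set G) with hC
  set N := Subgroup.normalizer (D : Set G) with hN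
  obtain ⟨l, ⟨c₀, hc₀⟩, hl1, t, htN, htC, hlt⟩ : ∃ l : ↥C →* ℂˣ,
      (∃ c, l c = Units.mk0 Complex.I Complex.I_ne_zero) ∧
      (∀ c : ↥C, ¬ Nat.card D ∣ orderOf (c : G) → l c = 1) ∧
      ∃ t ∈ N, t ∉ C ∧ ∀ c : ↥C, ∀ h : t * c * t⁻¹ ∈ C, l ⟨_, h⟩ = (l c)⁻¹ := exists_linear S n e D rfl
  obtain ⟨-, -, -, -, -, -, hidx⟩ := hd.exists_complement
  have hCN : C ≤ N := Subgroup.centralizer_le_normalizer _
  set θ : C → ℂ := fun c => 1 - (l c : ℂ) with hθ
  set f := indFun C θ with hf
  have hone : IsIrrCharacter C (fun _ => (1 : ℂ)) := isIrr_one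
  have hgθ : IsGeneralizedCharacter C θ := IsGenChar.sub (IsGenChar.of_isCharacter IsChar.one)
    (IsGenChar.of_isCharacter (IsIrr.isCharacter (isIrr_linear l)))
  have hgen : IsGeneralizedCharacter G f := IsGenChar.ind C hgθ
  have hθ0 : ∀ c : C, ¬ Nat.card D ∣ orderOf (c : G) → θ c = 0 := fun c hc => by
    simp [hθ, hl1 c hc]
  -- values on the special elements
  have hval : ∀ c : C, Nat.card D ∣ orderOf (c : G) → f c = θ c + θ c⁻¹ := by
    intro c hc
    have hcases : ∀ x : G, extendByZero C θ (x⁻¹ * c * x) =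
        (if x ∈ C then θ c else 0) + (if x ∈ N ∧ x ∉ C then θ c⁻¹ else 0) := by
      intro x
      by_cases hxC : x ∈ C
      · rw [if_pos hxC, if_neg (fun h => h.2 hxC), add_zero,
          extendByZero_of_mem θ (mul_mem (mul_mem (inv_mem hxC) c.2) hxC)]
        have : (⟨x⁻¹ * c * x, mul_mem (mul_mem (inv_mem hxC) c.2) hxC⟩ : C) =
            ⟨x, hxC⟩⁻¹ * c * ⟨x, hxC⟩ := Subtype.ext rfl
        simp only [hθ]
        rw [this, map_mul, map_mul, map_inv, inv_mul_cancel_comm]
      rw [if_neg hxC, zero_add]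
      by_cases hxN : x ∈ N
      · rw [if_pos ⟨hxN, hxC⟩]
        have hmem : x⁻¹ * (c : G) * x ∈ C := by
          have := (QD.normalizer_conj (inv_mem hxN) c.2 hc).1
          rwa [inv_inv] at this
        rw [extendByZero_of_mem θ hmem]
        -- `x = c' t`
        have hxt : x * t ∈ C := by
          have h := (Subgroup.mul_mem_iff_of_index_two hidx (a := (⟨x, hxN⟩ : N)) (b := ⟨t, htN⟩))
          rw [Subgroup.mem_subgroupOf, Subgroup.mem_subgroupOf, Subgroup.mem_subgroupOf] at h
          exact h.2 (iff_of_false hxC htC)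
        set u : C := ⟨x * t, hxt⟩ with hu
        have e1 : x⁻¹ * (c : G) * x = t * ((u⁻¹ * c * u : C) : G) * t⁻¹ := by
          simp only [Subgroup.coe_mul, Subgroup.coe_inv, hu]; group
        simp only [hθ]
        rw [show l (⟨x⁻¹ * (c : G) * x, hmem⟩ : C) = (l (u⁻¹ * c * u))⁻¹ from
          (congrArg l (Subtype.ext e1)).trans (hlt _ (e1 ▸ hmem)), map_mul, map_mul, map_inv,
          inv_mul_cancel_comm, map_inv]
      · rw [if_neg fun h => hxN h.1]
        refine extendByZero_not_mem θ fun h => hxN ?_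
        have h' : x⁻¹ * (c : G) * x⁻¹⁻¹ ∈ C := by rwa [inv_inv]
        have := hd.fusion x⁻¹ c c.2 hc h'
        simpa using inv_mem this
    have h1 : (Finset.univ.filter fun x : G => x ∈ C).card = Nat.card C := by
      rw [← Fintype.card_subtype, ← Nat.card_eq_fintype_card]
    have h2 : (Finset.univ.filter fun x : G => x ∈ N ∧ x ∉ C).card = Nat.card C := by
      have h3 : (Finset.univ.filter fun x : G => x ∈ N).card = Nat.card N := by
        rw [← Fintype.card_subtype, ← Nat.card_eq_fintype_card]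
      have h4 := Finset.card_filter_add_card_filter_not
        (s := Finset.univ.filter fun x : G => x ∈ N) (fun x => x ∈ C)
      rw [Finset.filter_filter, Finset.filter_filter, h3] at h4
      have e1 : (Finset.univ.filter fun x : G => x ∈ N ∧ x ∈ C) = Finset.univ.filter fun x : G => x ∈ C := by
        ext x; simp only [Finset.mem_filter, Finset.mem_univ, true_and]
        exact ⟨fun h => h.2, fun h => ⟨hCN h, h⟩⟩
      have h5 : Nat.card N = Nat.card C * 2 := by
        rw [← hidx, ← Nat.card_congr (Subgroup.subgroupOfEquivOfLe hCN).toEquiv]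
        exact (Subgroup.card_mul_index _).symm
      rw [e1, h1, h5] at h4
      omega
    show (Nat.card C : ℂ)⁻¹ * _ = _
    rw [Finset.sum_congr rfl fun x _ => hcases x, Finset.sum_add_distrib, ← Finset.sum_filter,
      ← Finset.sum_filter, Finset.sum_const, Finset.sum_const, h1, h2, nsmul_eq_mul, nsmul_eq_mul,
      ← mul_add, inv_mul_cancel_left₀ (Nat.cast_ne_zero.2 Nat.card_pos.ne')]
  -- the norm
  have hsum : ∀ μ : C →* ℂˣ, μ ≠ 1 → ∑ c : C, (μ c : ℂ) = 0 := fun μ hμ =>
    sum_hom_units_eq_zero ((Units.coeHom ℂ).comp μ) fun he => hμ (MonoidHom.ext fun c => Units.ext (by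
      simpa using DFunLike.congr_fun he c))
  have hne1 : l ≠ 1 := fun he => by
    have := congrArg Units.val (hc₀.symm.trans (DFunLike.congr_fun he c₀))
    simp [Complex.ext_iff] at this
  have hne2 : l * l ≠ 1 := fun he => by
    have h0 := congrArg Units.val (DFunLike.congr_fun he c₀)
    simp only [MonoidHom.mul_apply, hc₀, Units.val_mul, Units.val_mk0, Complex.I_mul_I,
      MonoidHom.one_apply, Units.val_one] at h0
    norm_num at h0
  have hne3 : l⁻¹ ≠ 1 := fun he => hne1 (MonoidHom.ext fun c => by simpa using DFunLike.congr_fun he c)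
  have hfθ : classInner f f = 3 := by
    rw [hf, classInner_indFun C θ (indFun_classFun C θ), classInner]
    have hterm : ∀ c : C, θ c * conj (f (c : G)) =
        3 - 3 * (l c : ℂ) - ((l⁻¹) c : ℂ) + ((l * l) c : ℂ) := by
      intro c
      have hconj : conj (l c : ℂ) = (l c⁻¹ : ℂ) :=
        (IsIrr.apply_inv (isIrr_linear l) c).symm
      have hinv : (l c : ℂ) * ((l c⁻¹ : ℂˣ) : ℂ) = 1 := by
        rw [← Units.val_mul, ← map_mul, mul_inv_cancel, map_one, Units.val_one]
      have hconj' : conj ((l c⁻¹ : ℂˣ) : ℂ) = (l c : ℂ) := by rw [← hconj, Complex.conj_conj]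
      simp only [MonoidHom.inv_apply, MonoidHom.mul_apply, Units.val_mul, ← map_inv]
      by_cases hc : Nat.card D ∣ orderOf (c : G)
      · rw [hval c hc]
        simp only [hθ, map_add, map_sub, map_one, hconj, hconj']
        linear_combination hinv
      · rw [hθ0 c hc, zero_mul, hl1 c hc, map_inv, hl1 c hc]
        simp
    rw [Finset.sum_congr rfl fun c _ => hterm c, Finset.sum_add_distrib, Finset.sum_sub_distrib,
      Finset.sum_sub_distrib, ← Finset.mul_sum, hsum l hne1, hsum _ hne2, hsum _ hne3, Finset.sum_const,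
      Finset.card_univ, ← Nat.card_eq_fintype_card, nsmul_eq_mul]
    simp [Nat.card_pos.ne']
  have hf1 : f 1 = 0 := by rw [hf, indFun_one_eq, hθ]; simp
  have hoff : ∀ g : G, ¬ 4 ∣ orderOf g → f g = 0 := by
    intro g hg
    show (Nat.card C : ℂ)⁻¹ * _ = 0
    rw [Finset.sum_eq_zero, mul_zero]
    intro x _
    by_cases hx : x⁻¹ * g * x ∈ C
    · rw [extendByZero_of_mem θ hx]
      refine hθ0 _ fun hdvd => hg (dvd_trans (b := Nat.card D) ?_ ?_)
      · exact (by rw [hd.card, pow_add]; exact dvd_mul_left 4 _ : 4 ∣ Nat.card D)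
      · have : orderOf (x⁻¹ * g * x) = orderOf g := by
          have := MulEquiv.orderOf_eq (MulAut.conj x⁻¹) g
          simpa using this
        exact this ▸ hdvd
    · exact extendByZero_not_mem θ hx
  obtain ⟨a, ha, hexp⟩ := IsGenChar.exists_decomp hgen
  set one : IrrCharacter G := ⟨fun _ => 1, isIrr_one⟩ with hone'
  have ha1 : a one = 1 := by
    have h := ha one
    rw [hf, classInner_indFun C θ (IsIrr.classFun one.2), classInner] at h
    simp only [hone', hθ, map_one, mul_one, Finset.sum_sub_distrib, hsum l hne1, sub_zero,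
      Finset.sum_const, Finset.card_univ, ← Nat.card_eq_fintype_card, nsmul_eq_mul] at h
    rw [inv_mul_cancel₀ (Nat.cast_ne_zero.2 Nat.card_pos.ne')] at h
    exact_mod_cast h.symm
  have hs : ∑ φ : IrrCharacter G, a φ ^ 2 = 3 := by
    have := hfθ
    rw [hexp, IsGenChar.classInner_self_int] at this
    exact_mod_cast this
  rw [← Finset.add_sum_erase _ _ (Finset.mem_univ one), ha1] at hs
  have hle : ∀ φ ∈ Finset.univ.erase one, a φ = 0 ∨ a φ = 1 ∨ a φ = -1 := by
    intro φ hφ
    have := Finset.single_le_sum (f := fun x => a x ^ 2) (fun x _ => sq_nonneg _) hφ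
    have h5 : -1 ≤ a φ ∧ a φ ≤ 1 := ⟨by nlinarith, by nlinarith⟩
    omega
  have hcard : ((Finset.univ.erase one).filter fun φ => a φ ≠ 0).card = 2 := by
    have : ∑ φ ∈ Finset.univ.erase one, a φ ^ 2 =
        ∑ φ ∈ Finset.univ.erase one, (if a φ ≠ 0 then (1 : ℤ) else 0) :=
      Finset.sum_congr rfl fun φ hφ => by rcases hle φ hφ with h | h | h <;> simp [h]
    rw [this, Finset.sum_boole] at hs
    have : ((((Finset.univ.erase one).filter fun φ => a φ ≠ 0).card : ℕ) : ℤ) = 2 := by linarith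
    exact_mod_cast this
  obtain ⟨x, y, hxy, hset⟩ := Finset.card_eq_two.mp hcard
  have hx := Finset.mem_filter.mp (hset ▸ Finset.mem_insert_self x {y} :
    x ∈ (Finset.univ.erase one).filter fun φ => a φ ≠ 0)
  have hy := Finset.mem_filter.mp (hset ▸ Finset.mem_insert_of_mem (Finset.mem_singleton_self y) :
    y ∈ (Finset.univ.erase one).filter fun φ => a φ ≠ 0)
  have hexp' : ∀ g, f g = 1 + (a x : ℂ) * (x : G → ℂ) g + (a y : ℂ) * (y : G → ℂ) g := by
    intro g
    have h1 := congrFun hexp g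
    rw [Finset.sum_apply, ← Finset.add_sum_erase _ _ (Finset.mem_univ one), ha1,
      ← Finset.sum_filter_of_ne (p := fun φ => a φ ≠ 0) (fun φ _ hne h0 => hne (by simp [h0])), hset,
      Finset.sum_pair hxy] at h1
    simp only [Pi.smul_apply, smul_eq_mul, Int.cast_one, one_mul, hone'] at h1
    rw [h1]; ring
  obtain ⟨dx, hdx, hdx'⟩ := IsIrr.one_eq_pos x.2
  obtain ⟨dy, hdy, hdy'⟩ := IsIrr.one_eq_pos y.2
  have h0 : (1 : ℤ) + a x * dx + a y * dy = 0 := by
    have := hexp' 1
    rw [hf1, hdx', hdy'] at this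
    exact_mod_cast this.symm
  have hxne : (x : G → ℂ) ≠ fun _ => 1 := fun h => (Finset.ne_of_mem_erase hx.1) (Subtype.ext h)
  have hyne : (y : G → ℂ) ≠ fun _ => 1 := fun h => (Finset.ne_of_mem_erase hy.1) (Subtype.ext h)
  rcases (hle x hx.1).resolve_left hx.2 with ex | ex <;> rcases (hle y hy.1).resolve_left hy.2 with ey | ey
  · rw [ex, ey] at h0; omega
  · refine ⟨y, x, y.2, x.2, hyne, hxne, ?_, fun g hg => ?_⟩
    · rw [hdx', hdy']
      rw [ex, ey] at h0
      have : (dy : ℤ) = dx + 1 := by omega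
      exact_mod_cast this
    · have := hexp' g
      rw [hoff g hg, ex, ey] at this
      push_cast at this
      linear_combination this
  · refine ⟨x, y, x.2, y.2, hxne, hyne, ?_, fun g hg => ?_⟩
    · rw [hdx', hdy']
      rw [ex, ey] at h0
      have : (dx : ℤ) = dy + 1 := by omega
      exact_mod_cast this
    · have := hexp' g
      rw [hoff g hg, ex, ey] at this
      push_cast at this
      linear_combination this
  · rw [ex, ey] at h0; omega

end Cfsg.Agent.Invol.QuatExc
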