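import Mathlib
import Cfsg.Prelude
import Cfsg.Agent.Lib.Invol.NormPairing
import Cfsg.Agent.Lib.Grp.PSolvable
import Cfsg.Agent.Lib.Grp.Frattini
import Cfsg.Agent.Lib.Grp.QuotientNormalizer

/-!
Invariant subgroups of order prime to `p` for a subgroup `E_{p^2}` which is all of `Ω₁` of a
Sylow subgroup of an element centralizer, in a `p`-soluble group.
-/

set_option autoImplicit false
set_option linter.style.haveILetI false

namespace Cfsg.Agent.Invol.RankTwoSig

open Subgroup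

universe u

variable {G : Type u} [Group G] [Finite G] {p : ℕ} [hp : Fact p.Prime]

theorem conj_eq {g x : G} (h : g * x = x * g) : g * x * g⁻¹ = x := by rw [h, mul_inv_cancel_right]

/-- The core-free case. -/
theorem eq_bot (hp2 : p ≠ 2) (R : Subgroup G) [R.Normal] (hR : IsPGroup p R)
    (hCR : centralizer (R : Set G) ≤ R) (B : Subgroup G) (hBc : Nat.card B = p ^ 2)
    (hBab : ∀ x ∈ B, ∀ y ∈ B, x * y = y * x)
    (b₀ : G) (hb₀ : b₀ ∈ B) (hb₁ : b₀ ^ p = 1) (hΩ : ∀ x ∈ R, x * b₀ = b₀ * x → x ^ p = 1 → x ∈ B)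
    (Q : Subgroup G) (hQ : (Nat.card Q).Coprime p) (hinv : ∀ b ∈ B, ∀ x ∈ Q, b * x * b⁻¹ ∈ Q) :
    Q = ⊥ := by
  haveI := Fintype.ofFinite Q
  have hdisj : ∀ x ∈ Q, x ∈ R → x = 1 := fun x hx hxR => by
    obtain ⟨k, hk⟩ := hR ⟨x, hxR⟩
    exact NormPairing.eq_one_of_pow (n := Nat.card Q) (k := k) (p := p)
      (congrArg Subtype.val (pow_card_eq_one' (x := (⟨x, hx⟩ : Q)))) (congrArg Subtype.val hk) hQ
  have hy : ∀ y ∈ B ⊓ R, ∀ x ∈ Q, x * y = y * x := by
    intro y hy x hx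
    have h1 : y * x * y⁻¹ * x⁻¹ = 1 := by
      refine hdisj _ (mul_mem (hinv y hy.1 x hx) (inv_mem hx)) ?_
      rw [show y * x * y⁻¹ * x⁻¹ = y * (x * y⁻¹ * x⁻¹) by group]
      exact mul_mem hy.2 (Subgroup.Normal.conj_mem inferInstance _ (inv_mem hy.2) x)
    exact (mul_inv_eq_iff_eq_mul.mp (mul_inv_eq_one.mp h1)).symm
  let σ : MulAut R := MulAut.conjNormal b₀
  have hσp : σ ^ p = 1 := by
    show (MulAut.conjNormal b₀ : MulAut R) ^ p = 1
    rw [← map_pow, hb₁, map_one]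
  have hfixB : ∀ c : R, σ c = c → c ^ p = 1 → (c : G) ∈ B ⊓ R := by
    intro c h1 h2
    have e : b₀ * (c : G) * b₀⁻¹ = c := by
      rw [← MulAut.conjNormal_apply]; exact congrArg Subtype.val h1
    exact ⟨hΩ c c.2 (mul_inv_eq_iff_eq_mul.mp e).symm (congrArg Subtype.val h2), c.2⟩
  have hmain : ∀ (K : Subgroup G), K ≤ Q → ∀ [Fintype K] (φ : MulAut K), φ ^ p = 1 →
      (∀ x : K, (φ x : G) = b₀ * x * b₀⁻¹) →
      ((∀ x, φ x = x) ∨ ((∀ x, φ x = x → x = 1) ∧ Nat.card ↥(B ⊓ R : Subgroup G) ≤ p)) → K = ⊥ := by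
    intro K hK _ φ hφ hφe hcase
    have hKcop : (Fintype.card K).Coprime p := by
      rw [← Nat.card_eq_fintype_card]; exact hQ.coprime_dvd_left (Subgroup.card_dvd_of_le hK)
    let ρ : K →* MulAut R := (MulAut.conjNormal).comp K.subtype
    have hcomm : ∀ (x : K) (c : R), σ (ρ x c) = ρ (φ x) (σ c) := fun x c => Subtype.ext (by
      simp only [σ, ρ, MonoidHom.comp_apply, Subgroup.coe_subtype, MulAut.conjNormal_apply, hφe]
      group)
    have hcount : ((∀ x, φ x = x) ∨ ((∀ x, φ x = x → x = 1) ∧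
        Nat.card {c : R // σ c = c ∧ c ^ p = 1} ≤ p)) := by
      refine hcase.imp_right fun h => ⟨h.1, le_trans ?_ h.2⟩
      refine Nat.card_le_card_of_injective
        (fun c => (⟨(c.1 : G), hfixB c.1 c.2.1 c.2.2⟩ : ↥(B ⊓ R : Subgroup G))) fun a b e => ?_
      exact Subtype.ext (Subtype.ext (Subtype.mk.inj e))
    have htriv := NormPairing.core (Q := K) hp2 hKcop φ hφ (Nat.card R) R le_rfl hR σ ρ hσp hcomm
      (fun c h1 h2 x => Subtype.ext (by
        simp only [ρ, MonoidHom.comp_apply, Subgroup.coe_subtype, MulAut.conjNormal_apply]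
        exact conj_eq (hy _ (hfixB c h1 h2) _ (hK x.2)))) hcount
    rw [eq_bot_iff]
    intro x hx
    refine hdisj x (hK hx) (hCR (mem_centralizer_iff.mpr fun r hr => ?_))
    have h1 := congrArg Subtype.val (htriv ⟨x, hx⟩ ⟨r, hr⟩)
    simp only [ρ, MonoidHom.comp_apply, Subgroup.coe_subtype, MulAut.conjNormal_apply] at h1
    exact (mul_inv_eq_iff_eq_mul.mp h1).symm
  -- the fixed points of `b₀` on `Q`
  have hQ0 : Q ⊓ centralizer ({b₀} : Set G) = ⊥ := by
    haveI := Fintype.ofFinite ↥(Q ⊓ centralizer ({b₀} : Set G) : Subgroup G)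
    refine hmain _ inf_le_left 1 (one_pow _) (fun x => ?_) (Or.inl fun x => rfl)
    exact (conj_eq (mem_centralizer_singleton_iff.mp x.2.2).symm).symm
  by_cases hBR : Nat.card ↥(B ⊓ R : Subgroup G) ≤ p
  · let φ : MulAut Q :=
      { toFun := fun x => ⟨b₀ * x * b₀⁻¹, hinv b₀ hb₀ x x.2⟩
        invFun := fun x => ⟨b₀⁻¹ * x * b₀, by
          have := hinv b₀⁻¹ (inv_mem hb₀) x x.2
          rwa [inv_inv] at this⟩
        left_inv := fun x => Subtype.ext (by simp [mul_assoc])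
        right_inv := fun x => Subtype.ext (by simp [mul_assoc])
        map_mul' := fun x y => Subtype.ext (by simp only [Subgroup.coe_mul]; group) }
    have hpow : ∀ (i : ℕ) (x : Q), (((φ ^ i) x : Q) : G) = b₀ ^ i * x * (b₀ ^ i)⁻¹ := by
      intro i
      induction i with
      | zero => simp
      | succ i ih =>
        intro x
        rw [pow_succ', MulAut.mul_apply]
        show b₀ * ((φ ^ i) x : Q) * b₀⁻¹ = _
        rw [ih, pow_succ']; group
    refine hmain Q le_rfl φ (MulEquiv.ext fun x => Subtype.ext (by rw [hpow, hb₁]; simp)) (fun x => rfl)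
      (Or.inr ⟨fun x hx => ?_, hBR⟩)
    have e : b₀ * (x : G) * b₀⁻¹ = x := congrArg Subtype.val hx
    have : (x : G) ∈ Q ⊓ centralizer ({b₀} : Set G) :=
      ⟨x.2, mem_centralizer_singleton_iff.mpr (mul_inv_eq_iff_eq_mul.mp e).symm⟩
    rw [hQ0, mem_bot] at this
    exact Subtype.ext this
  · have h1 : B ⊓ R = B := by
      obtain ⟨j, hj, he⟩ := (Nat.dvd_prime_pow hp.out).mp (hBc ▸ Subgroup.card_dvd_of_le (inf_le_left : B ⊓ R ≤ B))
      refine Subgroup.eq_of_le_of_card_ge inf_le_left ?_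
      rw [hBc, he]
      refine Nat.pow_le_pow_right hp.out.pos ?_
      by_contra h
      exact hBR (he ▸ (Nat.pow_le_pow_right hp.out.pos (show j ≤ 1 by omega)).trans (pow_one p).le)
    rw [eq_bot_iff, ← hQ0]
    exact fun x hx => ⟨hx, mem_centralizer_singleton_iff.mpr (hy b₀ (h1.symm ▸ hb₀) x hx)⟩

theorem le_core (hp2 : p ≠ 2) (hG : Cfsg.IsPSolvable p G) (B : Subgroup G)
    (hB : Cfsg.IsElementaryAbelian p B) (hBc : Nat.card B = p ^ 2) (b₀ : G) (hb₀ : b₀ ∈ B)
    (P : Sylow p ↥(centralizer ({b₀} : Set G)))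
    (hBP : B = closure {x : G | x ∈ ((P : Subgroup ↥(centralizer ({b₀} : Set G))).map
      (centralizer ({b₀} : Set G)).subtype : Subgroup G) ∧ orderOf x = p})
    (Q : Subgroup G) (hQ : ¬ p ∣ Nat.card Q) (hinv : ∀ b ∈ B, ∀ x ∈ Q, b * x * b⁻¹ ∈ Q) :
    Q ≤ Cfsg.pPrimeCore p G := by
  obtain ⟨hBab, hBexp⟩ := hB
  have hBab' : ∀ x ∈ B, ∀ y ∈ B, x * y = y * x := fun x hx y hy =>
    congrArg Subtype.val (hBab.is_comm.comm ⟨x, hx⟩ ⟨y, hy⟩)
  have hb₁ : b₀ ^ p = 1 := hBexp b₀ hb₀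
  set L := Cfsg.pPrimeCore p G with hLdef
  haveI : L.Normal := Grp.pPrimeCore_isNormal
  have hLcop : (Nat.card L).Coprime p := Grp.pPrimeCore_coprime
  set f := QuotientGroup.mk' L with hf
  set R := Cfsg.pCore p (G ⧸ L) with hR
  haveI : R.Normal := Grp.pCore_isNormal
  have hBC : B ≤ (centralizer ({b₀} : Set G)) := fun x hx => mem_centralizer_singleton_iff.mpr (hBab' x hx b₀ hb₀)
  -- elements of order `p` in the centralizer
  have hΩ : ∀ x ∈ R, x * f b₀ = f b₀ * x → x ^ p = 1 → x ∈ B.map f := by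
    set W := (R ⊓ centralizer ({f b₀} : Set (G ⧸ L))) ⊔ B.map f with hW
    have hWp : IsPGroup p W := by
      refine IsPGroup.to_sup_of_normal_left' ((Grp.pCore_isPGroup (p := p) (G := G ⧸ L)).to_le inf_le_left)
        ((IsPGroup.of_card hBc).map f) ?_
      intro y hy
      obtain ⟨b, hb, rfl⟩ := hy
      have hc : f b ∈ centralizer ({f b₀} : Set (G ⧸ L)) :=
        mem_centralizer_singleton_iff.mpr (by rw [← map_mul, ← map_mul, hBab' b hb b₀ hb₀])
      refine mem_normalizer_fintype fun z hz => ⟨?_, ?_⟩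
      · exact Subgroup.Normal.conj_mem inferInstance _ hz.1 _
      · exact Subgroup.mul_mem _ (Subgroup.mul_mem _ hc hz.2) (Subgroup.inv_mem _ hc)
    have hcent : centralizer ({f b₀} : Set (G ⧸ L)) = (centralizer ({b₀} : Set G)).map f := by
      have h := Grp.QuotNorm.centralizer_map L (zpowers b₀)
        (hLcop.coprime_dvd_right (by rw [Nat.card_zpowers]; exact orderOf_dvd_of_pow_eq_one hb₁) |> fun h => h)
        (Or.inr inferInstance)
      have e1 : ∀ {H : Type u} [Group H] (g : H),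
          centralizer ((zpowers g : Subgroup H) : Set H) = centralizer ({g} : Set H) := fun {H} _ g => by
        rw [zpowers_eq_closure, centralizer_closure]
      rw [MonoidHom.map_zpowers, e1, e1] at h
      exact h
    have hWC : W ≤ (centralizer ({b₀} : Set G)).map f := by
      rw [← hcent]
      refine sup_le inf_le_right ?_
      rw [hcent]; exact Subgroup.map_mono hBC
    -- the preimage
    set W' := W.comap f ⊓ (centralizer ({b₀} : Set G)) with hW'
    have hW'map : W'.map f = W := by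
      refine le_antisymm ((Subgroup.map_mono inf_le_left).trans (Subgroup.map_comap_le f W)) fun y hy => ?_
      obtain ⟨c, hc, rfl⟩ := hWC hy
      exact ⟨c, ⟨hy, hc⟩, rfl⟩
    have hBW' : B ≤ W' := fun x hx => ⟨mem_sup_right ⟨x, hx, rfl⟩, hBC hx⟩
    obtain ⟨T, hT⟩ := ((IsPGroup.of_card hBc).of_equiv (subgroupOfEquivOfLe hBW').symm).exists_le_sylow
    obtain ⟨T', hT'⟩ : ∃ T' : Subgroup G, T' = (T : Subgroup W').map W'.subtype := ⟨_, rfl⟩
    have hT'p : IsPGroup p T' := hT' ▸ T.isPGroup'.map _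
    have hT'C : T' ≤ (centralizer ({b₀} : Set G)) := hT' ▸ (Subgroup.map_subtype_le _).trans inf_le_right
    have hBT' : B ≤ T' := fun x hx => hT' ▸ ⟨⟨x, hBW' hx⟩, hT hx, rfl⟩
    -- `T'` lies in a conjugate of `P`
    obtain ⟨S, hS⟩ := (hT'p.of_equiv (subgroupOfEquivOfLe hT'C).symm).exists_le_sylow
    obtain ⟨c, rfl⟩ := MulAction.exists_smul_eq (↥(centralizer ({b₀} : Set G))) P S
    have hin : ∀ x ∈ T', x ^ p = 1 → x ∈ B.map (MulAut.conj (c : G)).toMonoidHom := by
      intro x hx hxp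
      rcases eq_or_ne x 1 with rfl | hx1
      · exact one_mem _
      have h1 : (⟨x, hT'C hx⟩ : ↥(centralizer ({b₀} : Set G))) ∈ (c • P : Sylow p ↥(centralizer ({b₀} : Set G))).1 := hS hx
      rw [Sylow.coe_subgroup_smul, Subgroup.mem_pointwise_smul_iff_inv_smul_mem, ← map_inv, MulAut.smul_def,
        MulAut.conj_apply, inv_inv] at h1
      refine ⟨(c : G)⁻¹ * x * c, hBP ▸ subset_closure ⟨⟨_, h1, by simp⟩, ?_⟩, ?_⟩
      · rw [show (c : G)⁻¹ * x * c = MulAut.conj (c : G)⁻¹ x by simp, MulEquiv.orderOf_eq]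
        exact orderOf_eq_prime hxp hx1
      · simp [mul_assoc]
    have hBeq : B = B.map (MulAut.conj (c : G)).toMonoidHom := by
      refine Subgroup.eq_of_le_of_card_ge (fun x hx => hin x (hBT' hx) (hBexp x hx)) ?_
      rw [Subgroup.card_map_of_injective (MulAut.conj (c : G)).injective]
    intro x hxR hxc hxp
    have hxW : x ∈ W := mem_sup_left ⟨hxR, mem_centralizer_singleton_iff.mpr hxc⟩
    -- lift to `T'`
    have hsurj : Function.Surjective (f.subgroupMap W') := f.subgroupMap_surjective W'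
    have hWp' : IsPGroup p (W'.map f) := hW'map.symm ▸ hWp
    have htop : ((T.mapSurjective hsurj : Sylow p (W'.map f)) : Subgroup (W'.map f)) = ⊤ := by
      exact ((T.mapSurjective hsurj).is_maximal' (IsPGroup.to_subgroup hWp' ⊤) le_top).symm
    have hmem : (⟨x, hW'map.symm ▸ hxW⟩ : W'.map f) ∈ ((T.mapSurjective hsurj : Sylow p (W'.map f)) : Subgroup (W'.map f)) := by
      rw [htop]; exact mem_top _
    rw [Sylow.coe_mapSurjective] at hmem
    obtain ⟨t, ht, hte⟩ := hmem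
    have hte' : f (t : G) = x := congrArg Subtype.val hte
    have htT : (t : G) ∈ T' := hT' ▸ ⟨t, ht, rfl⟩
    refine ⟨t, hBeq ▸ hin t htT ?_, hte'⟩
    -- the kernel has order prime to `p`
    have h1 : (t : G) ^ p ∈ L := (QuotientGroup.eq_one_iff _).mp (show f ((t : G) ^ p) = 1 by
      rw [map_pow, hte', hxp])
    obtain ⟨k, hk⟩ := hT'p ⟨_, pow_mem htT p⟩
    exact NormPairing.eq_one_of_pow (n := Nat.card L) (k := k) (p := p)
      (congrArg Subtype.val (pow_card_eq_one' (x := (⟨_, h1⟩ : L)))) (congrArg Subtype.val hk) hLcop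
  have hinjB : Function.Injective (f.comp B.subtype) := by
    rw [injective_iff_map_eq_one]
    intro x hx
    refine Subtype.ext (NormPairing.eq_one_of_pow (n := Nat.card L) (k := 1) (p := p) ?_ ?_ hLcop)
    · exact congrArg Subtype.val (pow_card_eq_one' (x := (⟨(x : G), (QuotientGroup.eq_one_iff _).mp hx⟩ : L)))
    · rw [pow_one]; exact hBexp x x.2
  have key := eq_bot hp2 R (Grp.pCore_isPGroup)
    (Grp.centralizer_pCore_le_of_pSolvable (Grp.isPSolvable_map hG f (QuotientGroup.mk'_surjective L))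
      Grp.pPrimeCore_quotient_eq_bot)
    (B.map f) (by
      rw [← hBc, show B.map f = (f.comp B.subtype).range by rw [MonoidHom.range_comp, range_subtype]]
      exact (Nat.card_congr (MonoidHom.ofInjective hinjB).toEquiv).symm)
    (by rintro _ ⟨x, hx, rfl⟩ _ ⟨y, hy, rfl⟩; rw [← map_mul, ← map_mul, hBab' x hx y hy])
    (f b₀) ⟨b₀, hb₀, rfl⟩ (by rw [← map_pow, hb₁, map_one]) hΩ (Q.map f)
    ((hp.out.coprime_iff_not_dvd.mpr hQ).symm.coprime_dvd_left (Q.card_map_dvd f))
    (by rintro _ ⟨b, hb, rfl⟩ _ ⟨x, hx, rfl⟩; exact ⟨_, hinv b hb x hx, by simp⟩)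
  rw [Subgroup.map_eq_bot_iff, hf, QuotientGroup.ker_mk'] at key
  exact key

end Cfsg.Agent.Invol.RankTwoSig
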