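import Mathlib
import Cfsg.Prelude
import Cfsg.Agent.Lib.Invol.Critical
import Cfsg.Agent.Lib.Transfer.OddRankTwo

/-!
A critical subgroup of small exponent inside the commutator with the residual of an automorphism group.
-/

set_option autoImplicit false

open scoped commutatorElement

namespace Cfsg.Agent.Invol.RelativeCritical

open Subgroup

variable {P : Type*} [Group P] [Finite P] {p : ℕ} [hp : Fact p.Prime]

omit [Finite P] hp in
theorem pow_apply_of_fixed (α : MulAut P) {x d : P} (hd : α d = d) (hx : α x = x * d) (n : ℕ) :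
    (α ^ n) x = x * d ^ n := by
  induction n with
  | zero => simp
  | succ n ih => rw [pow_succ', MulAut.mul_apply, ih, map_mul, map_pow, hd, hx, mul_assoc, pow_succ']

omit [Finite P] in
/-- An element whose difference has exponent dividing a power of `p` is fixed. -/
theorem fixed_of_pow {α : MulAut P} (ha : (orderOf α).Coprime p) {x : P} {k : ℕ}
    (hd : α (x⁻¹ * α x) = x⁻¹ * α x) (hk : (x⁻¹ * α x) ^ p ^ k = 1) : α x = x := by
  have h := pow_apply_of_fixed α hd (x := x) (by group) (orderOf α)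
  rw [pow_orderOf_eq_one, MulAut.one_apply] at h
  have h1 := pow_gcd_eq_one.mpr ⟨mul_eq_left.mp h.symm, hk⟩
  rw [(ha.pow_right k).gcd_eq_one, pow_one] at h1
  exact (inv_mul_eq_one.mp h1).symm

/-- The exponent. -/
def expo (p : ℕ) : ℕ := if p = 2 then 4 else p

omit [Finite P] in
theorem dvd_choose_expo : p ∣ (expo p).choose 2 := by
  unfold expo
  split
  · next h => subst h; decide
  · exact hp.out.dvd_choose_self two_ne_zero (by have := hp.out.two_le; omega)

/-- The elements of bounded exponent of a subgroup of class two. -/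
theorem exists_relative_critical (hP : IsPGroup p P) (G : Subgroup (MulAut P)) (hG : Cfsg.Inn P ≤ G) :
    ∃ D : Subgroup P,
      (∀ α ∈ G, D.map α.toMonoidHom = D) ∧
      D ≤ Subgroup.closure {y : P | ∃ α ∈ Cfsg.pResidual p ↥G, ∃ x : P, y = x⁻¹ * (α : MulAut P) x} ∧
      (∀ d ∈ D, d ^ p = 1 ∨ (p = 2 ∧ d ^ 4 = 1)) ∧
      ⁅D, (⊤ : Subgroup P)⁆ ≤ D ⊓ Subgroup.centralizer (D : Set P) ∧
      (∀ α ∈ G, (orderOf α).Coprime p → (∀ d ∈ D, α d = d) → α = 1) ∧
      ∀ A : Subgroup P, A ≤ D → IsMulCommutative ↥A →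
        (∀ B : Subgroup P, A ≤ B → B ≤ D → IsMulCommutative ↥B → B = A) →
        A.Normal ∧ ∀ α ∈ G, (∀ a ∈ A, α a = a) → ∃ k : ℕ, orderOf α = p ^ k := by
  obtain ⟨R, hR⟩ : ∃ R, R = closure {y : P | ∃ α ∈ Cfsg.pResidual p ↥G, ∃ x : P, y = x⁻¹ * (α : MulAut P) x} :=
    ⟨_, rfl⟩
  have hRinv : ∀ γ ∈ G, ∀ y ∈ R, γ y ∈ R := by
    intro γ hγ y hy
    have hle : R ≤ R.comap γ.toMonoidHom := by
      conv_lhs => rw [hR]
      refine (closure_le _).mpr ?_
      rintro _ ⟨α, hα, x, rfl⟩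
      refine hR ▸ subset_closure ⟨⟨γ, hγ⟩ * α * ⟨γ, hγ⟩⁻¹, ?_, γ x, ?_⟩
      · have hle' : Cfsg.pResidual p ↥G ≤
            (Cfsg.pResidual p ↥G).comap (MulAut.conj (⟨γ, hγ⟩ : ↥G)).toMonoidHom :=
          (closure_le _).mpr fun g hg => subset_closure (by
            show (orderOf ((MulAut.conj (⟨γ, hγ⟩ : ↥G)) g)).Coprime p
            rwa [MulEquiv.orderOf_eq])
        exact hle' hα
      · simp [map_mul]
    exact hle hy
  obtain ⟨H, hHc, hHP, hHp, hHcen⟩ := Invol.exists_critical hP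
  haveI := hHc
  have hcl : ∀ x ∈ H, ∀ y : P, ⁅x, y⁆ ∈ H ⊓ centralizer (H : Set P) := fun x hx y =>
    hHP (commutator_mem_commutator hx (mem_top y))
  have hcp : ∀ x ∈ H, ∀ y ∈ H, ∀ c : P, y * x = c * x * y → Commute c x ∧ Commute c y ∧ c ^ p = 1 := by
    intro x hx y hy c hc
    have e : c = ⁅y, x⁆ := by rw [commutatorElement_def, hc]; group
    have hcC := (hcl y hy x).2
    rw [← e] at hcC
    have hcx : Commute c x := (mem_centralizer_iff.mp hcC x hx).symm
    refine ⟨hcx, (mem_centralizer_iff.mp hcC y hy).symm, ?_⟩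
    have h3 : (y * x * y⁻¹) ^ p = x ^ p := by
      rw [conj_pow, mem_centralizer_iff.mp (hHp x hx).2 y hy, mul_inv_cancel_right]
    rw [show y * x * y⁻¹ = c * x by rw [hc, mul_inv_cancel_right], hcx.mul_pow] at h3
    exact mul_eq_right.mp h3
  have hmulpow : ∀ (e : ℕ), p ∣ e.choose 2 → ∀ x ∈ H, ∀ y ∈ H, (x * y) ^ e = x ^ e * y ^ e := by
    intro e he x hx y hy
    obtain ⟨c, hc⟩ : ∃ c, c = y * x * y⁻¹ * x⁻¹ := ⟨_, rfl⟩
    have hc' : y * x = c * x * y := by rw [hc]; group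
    obtain ⟨h1, h2, h3⟩ := hcp x hx y hy c hc'
    obtain ⟨m, hm⟩ := he
    rw [Grp.mul_pow_class_two hc' h1 h2 e, hm, pow_mul, h3, one_pow, one_mul]
  let D : Subgroup P :=
    { carrier := {x | x ∈ H ∧ x ∈ R ∧ x ^ expo p = 1}
      one_mem' := ⟨one_mem _, one_mem _, one_pow _⟩
      mul_mem' := fun {x y} hx hy => ⟨mul_mem hx.1 hy.1, mul_mem hx.2.1 hy.2.1, by
        rw [hmulpow _ dvd_choose_expo x hx.1 y hy.1, hx.2.2, hy.2.2, one_mul]⟩
      inv_mem' := fun {x} hx => ⟨inv_mem hx.1, inv_mem hx.2.1, by rw [inv_pow, hx.2.2, inv_one]⟩ }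
  have hDH : D ≤ H := fun x hx => hx.1
  have hDinv : ∀ γ ∈ G, ∀ x ∈ D, γ x ∈ D := fun γ hγ x hx =>
    ⟨by
      have := (Subgroup.Characteristic.fixed (H := H) inferInstance γ).ge hx.1
      simpa using this, hRinv γ hγ x hx.2.1, by rw [← map_pow, hx.2.2, map_one]⟩
  have hDn : ∀ g : P, ∀ x ∈ D, g * x * g⁻¹ ∈ D := fun g x hx =>
    hDinv (MulAut.conj g) (hG ⟨g, rfl⟩) x hx
  have hDcomm : ⁅D, (⊤ : Subgroup P)⁆ ≤ D ⊓ centralizer (D : Set P) := by
    rw [commutator_le]
    intro d hd g _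
    refine ⟨?_, centralizer_le hDH (hcl d hd.1 g).2⟩
    rw [commutatorElement_def, mul_assoc, mul_assoc]
    exact mul_mem hd (by rw [← mul_assoc]; exact hDn g _ (inv_mem hd))
  have hfaith : ∀ α ∈ G, (orderOf α).Coprime p → (∀ d ∈ D, α d = d) → α = 1 := by
    intro α hα ha hfix
    refine Invol.aut_eq_one_of_fixed hP hHcen ha ?_
    suffices key : ∀ k, ∀ x ∈ H, x ∈ R → x ^ p ^ k = 1 → α x = x by
      intro x hx
      have hdH : x⁻¹ * α x ∈ H := mul_mem (inv_mem hx) (by
        simpa using (Subgroup.Characteristic.fixed (H := H) inferInstance α).ge hx)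
      have hdR : x⁻¹ * α x ∈ R := hR ▸ subset_closure ⟨⟨α, hα⟩, subset_closure (by
        show (orderOf (⟨α, hα⟩ : ↥G)).Coprime p
        rwa [Subgroup.orderOf_mk]), x, rfl⟩
      obtain ⟨k, hk⟩ := hP (x⁻¹ * α x)
      exact fixed_of_pow ha (key k _ hdH hdR hk) hk
    intro k
    induction k with
    | zero => intro x _ _ hx; rw [pow_zero, pow_one] at hx; rw [hx, map_one]
    | succ k ih =>
      intro x hxH hxR hx
      have hxp : α (x ^ p) = x ^ p := ih _ (pow_mem hxH p) (pow_mem hxR p) (by rw [← pow_mul, ← pow_succ']; exact hx)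
      have hαH : α x ∈ H := by simpa using (Subgroup.Characteristic.fixed (H := H) inferInstance α).ge hxH
      obtain ⟨d, hd⟩ : ∃ d, d = x⁻¹ * α x := ⟨_, rfl⟩
      have hdH : d ∈ H := hd ▸ mul_mem (inv_mem hxH) hαH
      have hdR : d ∈ R := hd ▸ mul_mem (inv_mem hxR) (hRinv α hα x hxR)
      obtain ⟨c, hc⟩ : ∃ c, c = d * x * d⁻¹ * x⁻¹ := ⟨_, rfl⟩
      have hc' : d * x = c * x * d := by rw [hc]; group
      obtain ⟨h1, h2, h3⟩ := hcp x hxH d hdH c hc'
      have e := Grp.mul_pow_class_two hc' h1 h2 p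
      rw [show x * d = α x by rw [hd]; group, ← map_pow, hxp] at e
      have hdp : c ^ p.choose 2 * d ^ p = 1 := by
        have h4 : x ^ p * (c ^ p.choose 2 * d ^ p) = x ^ p := by
          rw [← mul_assoc, ((h1.pow_left _).pow_right p).symm.eq]
          exact e.symm
        exact mul_eq_left.mp h4
      have hde : d ^ expo p = 1 := by
        unfold expo
        split
        · next h2' =>
          subst h2'
          have h5 : d ^ 2 = (c ^ Nat.choose 2 2)⁻¹ := eq_inv_of_mul_eq_one_right hdp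
          rw [show 4 = 2 * 2 from rfl, pow_mul, h5, inv_pow, ← pow_mul, mul_comm, pow_mul, h3, one_pow, inv_one]
        · next h2' =>
          obtain ⟨m, hm⟩ := hp.out.dvd_choose_self two_ne_zero (by have := hp.out.two_le; omega : 2 < p)
          rwa [hm, pow_mul, h3, one_pow, one_mul] at hdp
      obtain ⟨j, hj⟩ := hP d
      exact fixed_of_pow ha (k := j) (hd ▸ hfix d ⟨hdH, hdR, hde⟩) (hd ▸ hj)
  refine ⟨D, fun α hα => le_antisymm ?_ ?_, hR ▸ fun x hx => hx.2.1, ?_, hDcomm, hfaith, ?_⟩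
  · rintro _ ⟨x, hx, rfl⟩; exact hDinv α hα x hx
  · exact fun x hx => ⟨α⁻¹ x, hDinv _ (inv_mem hα) x hx, MulEquiv.apply_symm_apply α x⟩
  · intro d hd
    have := hd.2.2
    unfold expo at this
    by_cases h : p = 2
    · rw [if_pos h] at this; exact Or.inr ⟨h, this⟩
    · rw [if_neg h] at this; exact Or.inl this
  intro A hAD hAab hmax
  have hself : ∀ d ∈ D, (∀ a ∈ A, a * d = d * a) → d ∈ A := by
    intro d hd hcomm
    have hsub : (closure ((A : Set P) ∪ {d})) = A := by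
      refine hmax _ (fun a ha => subset_closure (Or.inl ha)) ((closure_le _).mpr ?_) ?_
      · rintro u (hu | rfl)
        · exact hAD hu
        · exact hd
      · refine isMulCommutative_closure ?_
        rintro u (hu | rfl) v (hv | rfl)
        · exact congrArg Subtype.val (hAab.is_comm.comm (⟨u, hu⟩ : A) ⟨v, hv⟩)
        · exact hcomm u hu
        · exact (hcomm v hv).symm
        · rfl
    exact hsub ▸ subset_closure (Or.inr rfl)
  have hAn : A.Normal := ⟨fun a ha g => by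
    have h := hDcomm (commutator_mem_commutator (hAD ha) (mem_top g))
    have hz : ⁅a, g⁆ ∈ A := hself _ h.1 fun b hb => mem_centralizer_iff.mp h.2 b (hAD hb)
    have := mul_mem (inv_mem hz) ha
    rwa [show ⁅a, g⁆⁻¹ * a = g * a * g⁻¹ by rw [commutatorElement_def]; group] at this⟩
  refine ⟨hAn, fun α hα hfix => ?_⟩
  obtain ⟨k, m, hm, hord⟩ := Nat.exists_eq_pow_mul_and_not_dvd (orderOf_pos α).ne' p hp.out.ne_one
  have hmc : m.Coprime p := (hp.out.coprime_iff_not_dvd.mpr hm).symm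
  have hβord : orderOf (α ^ p ^ k) = m := by
    rw [orderOf_pow' α (pow_ne_zero k hp.out.ne_zero), hord, Nat.gcd_eq_right (Dvd.intro m rfl),
      Nat.mul_div_cancel_left _ (pow_pos hp.out.pos k)]
  have hβfix : ∀ a ∈ A, (α ^ p ^ k) a = a := by
    intro a ha
    induction p ^ k with
    | zero => simp
    | succ n ih => rw [pow_succ', MulAut.mul_apply, ih, hfix a ha]
  obtain ⟨β, hβ⟩ : ∃ β, β = α ^ p ^ k := ⟨_, rfl⟩
  rw [← hβ] at hβord hβfix
  have hβG : β ∈ G := hβ ▸ pow_mem hα _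
  have h1 : β = 1 := by
    refine hfaith β hβG (hβord ▸ hmc) fun d hd => ?_
    have hdA : d⁻¹ * β d ∈ A := by
      refine hself _ (mul_mem (inv_mem hd) (hDinv β hβG d hd)) fun a ha => ?_
      have e := hβfix _ (hAn.conj_mem a ha d)
      rw [map_mul, map_mul, map_inv, hβfix a ha] at e
      calc a * (d⁻¹ * β d) = d⁻¹ * (d * a * d⁻¹) * β d := by group
        _ = d⁻¹ * (β d * a * (β d)⁻¹) * β d := by rw [e]
        _ = d⁻¹ * β d * a := by group
    obtain ⟨j, hj⟩ := hP (d⁻¹ * β d)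
    exact fixed_of_pow (hβord ▸ hmc) (hβfix _ hdA) hj
  rw [h1, orderOf_one] at hβord
  exact ⟨k, by rw [hord, ← hβord, mul_one]⟩

end Cfsg.Agent.Invol.RelativeCritical
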