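import Mathlib
import Cfsg.Agent.Lib.Invol.AmalgamP

/-!
# Cubic edge-transitive graphs with both edge centres moved

A group acts on a graph of valency three; every vertex stabilizer is finite, contains the centralizer of its kernel on
the neighbours, and moves `Ω₁` of the centre of every incident edge stabilizer.
-/

set_option autoImplicit false

namespace Cfsg.Agent.Invol.S4Am

open MulAction Subgroup
open Amal (cj omZ)

variable {G V : Type*} [Group G] [MulAction G V]

/-- The edge stabilizer. -/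
abbrev T (G : Type*) [Group G] {V : Type*} [MulAction G V] (v u : V) : Subgroup G :=
  stabilizer G v ⊓ stabilizer G u

/-- The kernel of a vertex stabilizer on the neighbours. -/
def Q (G : Type*) [Group G] {V : Type*} [MulAction G V] (adj : V → V → Prop) (v : V) : Subgroup G :=
  stabilizer G v ⊓ ⨅ (u : V) (_ : adj v u), stabilizer G u

/-- `Ω₁` of the centre of an edge stabilizer. -/
abbrev E (G : Type*) [Group G] {V : Type*} [MulAction G V] (v u : V) : Subgroup G :=
  omZ 2 (T G v u)

/-- The join of the edge centres at a vertex. -/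
def Z (G : Type*) [Group G] {V : Type*} [MulAction G V] (adj : V → V → Prop) (v : V) : Subgroup G :=
  ⨆ (u : V) (_ : adj v u), E G v u

/-- The standing hypotheses. -/
structure Hyp (G : Type*) [Group G] {V : Type*} [MulAction G V] (adj : V → V → Prop) : Prop where
  symm : ∀ {u v : V}, adj u v → adj v u
  smul_adj : ∀ (g : G) {u v : V}, adj u v → adj (g • u) (g • v)
  conn : ∀ u v : V, Relation.ReflTransGen adj u v
  fin : ∀ v : V, Finite (stabilizer G v)
  three : ∀ v : V, Nat.card {u // adj v u} = 3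
  trans : ∀ {v u w : V}, adj v u → adj v w → ∃ g ∈ stabilizer G v, g • u = w
  not_fix : ∀ {v u : V}, adj v u → ¬ T G v u ≤ Q G adj v
  char : ∀ v : V, stabilizer G v ⊓ centralizer (Q G adj v : Set G) ≤ Q G adj v
  moved : ∀ {v u : V}, adj v u → ¬ stabilizer G v ≤ centralizer (E G v u : Set G)
  faithful : ∀ {v u : V}, adj v u → ∀ N : Subgroup G, N ≤ T G v u → stabilizer G v ≤ normalizer (N : Set G) →
    stabilizer G u ≤ normalizer (N : Set G) → N = ⊥

variable {adj : V → V → Prop}

theorem Q_le (v : V) : Q G adj v ≤ stabilizer G v := inf_le_left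

theorem Q_le_stab {v u : V} (h : adj v u) : Q G adj v ≤ stabilizer G u :=
  inf_le_right.trans ((iInf_le _ u).trans (iInf_le _ h))

theorem Q_le_T {v u : V} (h : adj v u) : Q G adj v ≤ T G v u := le_inf (Q_le v) (Q_le_stab h)

theorem mem_Q {v : V} {g : G} : g ∈ Q G adj v ↔ g • v = v ∧ ∀ u, adj v u → g • u = u := by
  simp [Q, mem_inf, mem_iInf]

theorem E_symm (v u : V) : E G v u = E G u v := by rw [E, E, T, T, inf_comm]

theorem E_le_T (v u : V) : E G v u ≤ T G v u := (Amal.omZ_le _).trans inf_le_left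

theorem E_comm {v u : V} {e t : G} (he : e ∈ E G v u) (ht : t ∈ T G v u) : e * t = t * e :=
  ((mem_centralizer_iff.mp (Amal.omZ_le _ he).2) t ht).symm

theorem E_sq {v u : V} {e : G} (he : e ∈ E G v u) : e * e = 1 := by
  induction he using closure_induction with
  | mem x hx => rw [← pow_two]; exact hx.2
  | one => rw [mul_one]
  | mul x y hx hy ihx ihy =>
    have h := E_comm (v := v) (u := u) hy (E_le_T v u hx)
    calc x * y * (x * y) = x * (y * x) * y := by group
      _ = x * x * (y * y) := by rw [h]; group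
      _ = 1 := by rw [ihx, ihy, one_mul]
  | inv x _ ih => rw [← mul_inv_rev, ih, inv_one]

theorem mem_E {v u : V} {e : G} (he : e ∈ T G v u) (hc : ∀ t ∈ T G v u, t * e = e * t) (h2 : e * e = 1) :
    e ∈ E G v u :=
  subset_closure ⟨⟨he, mem_centralizer_iff.mpr hc⟩, by rw [pow_two, h2]⟩

theorem T_smul (g : G) (v u : V) : T G (g • v) (g • u) = cj g (T G v u) := by
  ext x
  simp only [T, mem_inf, mem_stabilizer_iff, Amal.mem_cj, mul_smul, inv_smul_eq_iff]

theorem E_smul_le (g : G) (v u : V) : cj g (E G v u) ≤ E G (g • v) (g • u) := by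
  rw [E, E, T_smul]; exact Amal.omZ_cj g _

namespace Hyp

variable (h : Hyp G adj)
include h

theorem E_le_Z {v u : V} (hvu : adj v u) : E G v u ≤ Z G adj v :=
  le_iSup₂ (f := fun u (_ : adj v u) => E G v u) u hvu

theorem Q_smul (g : G) (v : V) : Q G adj (g • v) = cj g (Q G adj v) := by
  ext x
  simp only [mem_Q, Amal.mem_cj, mul_smul, inv_smul_eq_iff]
  refine and_congr_right' ⟨fun hx u hu => hx _ (h.smul_adj g hu), fun hx u hu => ?_⟩
  have h1 : adj v (g⁻¹ • u) := by simpa using h.smul_adj g⁻¹ hu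
  simpa using hx _ h1

theorem Z_smul_le (g : G) (v : V) : cj g (Z G adj v) ≤ Z G adj (g • v) := by
  rw [Z, cj, Subgroup.map_iSup]
  simp_rw [Subgroup.map_iSup]
  exact iSup₂_le fun u hu => (E_smul_le g v u).trans (h.E_le_Z (h.smul_adj g hu))

theorem Z_smul (g : G) (v : V) : Z G adj (g • v) = cj g (Z G adj v) := by
  refine le_antisymm ?_ (h.Z_smul_le g v)
  have h1 := Subgroup.map_mono (f := (MulAut.conj g).toMonoidHom) (h.Z_smul_le g⁻¹ (g • v))
  rw [inv_smul_smul, ← cj, ← cj, Amal.cj_cj, mul_inv_cancel, Amal.cj_one] at h1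
  exact h1

theorem Z_fix {g : G} {v : V} (hg : g • v = v) {z : G} (hz : z ∈ Z G adj v) : g * z * g⁻¹ ∈ Z G adj v := by
  have := h.Z_smul_le g v ⟨z, hz, rfl⟩
  rwa [hg] at this

theorem Z_normalized {g : G} {v : V} (hg : g • v = v) : g ∈ normalizer (Z G adj v : Set G) := by
  rw [mem_normalizer_iff]
  refine fun z => ⟨h.Z_fix hg, fun hz => ?_⟩
  have := h.Z_fix (g := g⁻¹) (inv_smul_eq_iff.mpr hg.symm) hz
  simpa [mul_assoc] using this

/-- Two elements fixing a neighbour but not in the kernel have their quotient in the kernel. -/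
theorem div_mem_Q {v u : V} (hvu : adj v u) {a b : G} (ha : a ∈ T G v u) (haQ : a ∉ Q G adj v)
    (hb : b ∈ T G v u) (hbQ : b ∉ Q G adj v) : a * b⁻¹ ∈ Q G adj v := by
  classical
  haveI : Finite {w // adj v w} := Nat.finite_of_card_ne_zero (by rw [h.three v]; norm_num)
  have key : ∀ g ∈ T G v u, ∀ w, adj v w → g • w = w → w ≠ u → g ∈ Q G adj v := by
    intro g hg w hw hgw hne
    rw [mem_Q]
    refine ⟨hg.1, fun w' hw' => ?_⟩
    by_cases h1 : w' = u
    · rw [h1]; exact hg.2
    by_cases h2 : w' = w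
    · rw [h2]; exact hgw
    by_contra h3
    have h4 : adj v (g • w') := by
      have := h.smul_adj g hw'
      rwa [mem_stabilizer_iff.mp hg.1] at this
    have h5 : g • w' ≠ u := fun e => h1 (MulAction.injective g (e.trans (mem_stabilizer_iff.mp hg.2).symm))
    have h6 : g • w' ≠ w := fun e => h2 (MulAction.injective g (e.trans hgw.symm))
    haveI := Fintype.ofFinite {w // adj v w}
    have : ({⟨u, hvu⟩, ⟨w, hw⟩, ⟨w', hw'⟩, ⟨g • w', h4⟩} : Finset {w // adj v w}).card ≤ 3 := by
      refine (Finset.card_le_univ _).trans ?_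
      rw [← Nat.card_eq_fintype_card, h.three v]
    rw [Finset.card_insert_of_notMem (by simp [Ne.symm h1, Ne.symm hne, Ne.symm h5]),
      Finset.card_insert_of_notMem (by simp [Ne.symm h2, Ne.symm h6]),
      Finset.card_insert_of_notMem (by simp [Ne.symm h3]), Finset.card_singleton] at this
    omega
  obtain ⟨w, hw, hwu⟩ : ∃ w, adj v w ∧ w ≠ u := by
    by_contra hcon
    push Not at hcon
    exact haQ (mem_Q.mpr ⟨ha.1, fun w hw => by rw [hcon w hw]; exact ha.2⟩)
  have move : ∀ g ∈ T G v u, g ∉ Q G adj v → ∀ w, adj v w → w ≠ u → g • w ≠ w :=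
    fun g hg hgQ w hw hne e => hgQ (key g hg w hw e hne)
  -- the image of `w` under either element is the third neighbour
  have img : ∀ g ∈ T G v u, g ∉ Q G adj v → adj v (g • w) ∧ g • w ≠ u ∧ g • w ≠ w := by
    intro g hg hgQ
    refine ⟨?_, fun e => hwu (MulAction.injective g (e.trans (mem_stabilizer_iff.mp hg.2).symm)), move g hg hgQ w hw hwu⟩
    have := h.smul_adj g hw
    rwa [mem_stabilizer_iff.mp hg.1] at this
  obtain ⟨a1, a2, a3⟩ := img a ha haQ
  obtain ⟨b1, b2, b3⟩ := img b hb hbQ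
  have heq : a • w = b • w := by
    by_contra hne
    haveI := Fintype.ofFinite {w // adj v w}
    have : ({⟨u, hvu⟩, ⟨w, hw⟩, ⟨a • w, a1⟩, ⟨b • w, b1⟩} : Finset {w // adj v w}).card ≤ 3 := by
      refine (Finset.card_le_univ _).trans ?_
      rw [← Nat.card_eq_fintype_card, h.three v]
    rw [Finset.card_insert_of_notMem (by simp [Ne.symm hwu, Ne.symm a2, Ne.symm b2]),
      Finset.card_insert_of_notMem (by simp [Ne.symm a3, Ne.symm b3]),
      Finset.card_insert_of_notMem (by simp [hne]), Finset.card_singleton] at this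
    omega
  refine key _ ((T G v u).mul_mem ha ((T G v u).inv_mem hb)) (b • w) b1 ?_ b2
  rw [mul_smul, inv_smul_smul, heq]

theorem mul_mem_Q {v u : V} (hvu : adj v u) {a b : G} (ha : a ∈ T G v u) (haQ : a ∉ Q G adj v)
    (hb : b ∈ T G v u) (hbQ : b ∉ Q G adj v) : a * b ∈ Q G adj v := by
  simpa using h.div_mem_Q hvu ha haQ ((T G v u).inv_mem hb) fun e => hbQ (by simpa using (Q G adj v).inv_mem e)

theorem Q_conj {v : V} {g q : G} (hg : g • v = v) (hq : q ∈ Q G adj v) : g * q * g⁻¹ ∈ Q G adj v := by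
  have h1 := h.Q_smul g v
  rw [hg] at h1
  rw [h1]
  exact ⟨q, hq, rfl⟩

theorem exists_other {v u : V} (hvu : adj v u) : ∃ w, adj v w ∧ w ≠ u := by
  by_contra hcon
  push Not at hcon
  exact h.not_fix hvu fun g hg => mem_Q.mpr ⟨hg.1, fun w hw => by rw [hcon w hw]; exact hg.2⟩

theorem Q_eq_inf {v u w : V} (hvu : adj v u) (hvw : adj v w) (hne : u ≠ w) :
    T G v u ⊓ T G v w ≤ Q G adj v := by
  rintro g ⟨hg, hgw⟩
  by_contra hgQ
  obtain ⟨a, ha⟩ := SetLike.not_le_iff_exists.mp (h.not_fix hvu)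
  haveI : Finite {w // adj v w} := Nat.finite_of_card_ne_zero (by rw [h.three v]; norm_num)
  obtain ⟨w', hw', hu', hw''⟩ : ∃ w', adj v w' ∧ w' ≠ u ∧ w' ≠ w := by
    by_contra hcon
    push Not at hcon
    classical
    have hle : Nat.card {x // adj v x} ≤ 2 := by
      haveI := Fintype.ofFinite {x // adj v x}
      rw [Nat.card_eq_fintype_card, ← Finset.card_univ]
      refine (Finset.card_le_card (t := {⟨u, hvu⟩, ⟨w, hvw⟩}) fun x _ => ?_).trans Finset.card_le_two
      by_cases hx : x.1 = u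
      · exact Finset.mem_insert.mpr (Or.inl (Subtype.ext hx))
      · exact Finset.mem_insert.mpr (Or.inr (Finset.mem_singleton.mpr (Subtype.ext (hcon x.1 x.2 hx))))
    rw [h.three v] at hle
    omega
  refine hgQ (mem_Q.mpr ⟨hg.1, fun x hx => ?_⟩)
  by_cases h1 : x = u
  · rw [h1]; exact hg.2
  by_cases h2 : x = w
  · rw [h2]; exact hgw.2
  by_contra h3
  classical
  have h4 : adj v (g • x) := by
    have := h.smul_adj g hx
    rwa [mem_stabilizer_iff.mp hg.1] at this
  have h5 : g • x ≠ u := fun e => h1 (MulAction.injective g (e.trans (mem_stabilizer_iff.mp hg.2).symm))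
  have h6 : g • x ≠ w := fun e => h2 (MulAction.injective g (e.trans (mem_stabilizer_iff.mp hgw.2).symm))
  haveI := Fintype.ofFinite {w // adj v w}
  have : ({⟨u, hvu⟩, ⟨w, hvw⟩, ⟨x, hx⟩, ⟨g • x, h4⟩} : Finset {w // adj v w}).card ≤ 3 := by
    refine (Finset.card_le_univ _).trans ?_
    rw [← Nat.card_eq_fintype_card, h.three v]
  rw [Finset.card_insert_of_notMem (by simp [hne, Ne.symm h1, Ne.symm h5]),
    Finset.card_insert_of_notMem (by simp [Ne.symm h2, Ne.symm h6]),
    Finset.card_insert_of_notMem (by simp [Ne.symm h3]), Finset.card_singleton] at this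
  omega

/-- An edge stabilizer is maximal in the vertex stabilizer. -/
theorem maximal {v u : V} (hvu : adj v u) {H : Subgroup G} (hT : T G v u ≤ H) {x : G} (hx : x ∈ H)
    (hxv : x ∈ stabilizer G v) (hxu : x • u ≠ u) : stabilizer G v ≤ H := by
  intro g hg
  obtain ⟨a, haT, haQ⟩ := SetLike.not_le_iff_exists.mp (h.not_fix hvu)
  have back : ∀ k ∈ H, k ∈ stabilizer G v → g • u = k • u → g ∈ H := by
    intro k hk hkv e
    have h1 : k⁻¹ * g ∈ T G v u := ⟨(stabilizer G v).mul_mem ((stabilizer G v).inv_mem hkv) hg,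
      mem_stabilizer_iff.mpr (by rw [mul_smul, e, inv_smul_smul])⟩
    simpa using H.mul_mem hk (hT h1)
  by_cases h1 : g • u = u
  · exact hT ⟨hg, h1⟩
  by_cases h2 : g • u = x • u
  · exact back x hx hxv h2
  have hadj : ∀ k, k ∈ stabilizer G v → adj v (k • u) := by
    intro k hk
    have := h.smul_adj k hvu
    rwa [mem_stabilizer_iff.mp hk] at this
  refine back (a * x) (H.mul_mem (hT haT) hx) ((stabilizer G v).mul_mem haT.1 hxv) ?_
  have h3 : a • (x • u) ≠ x • u := fun e =>
    haQ (h.Q_eq_inf hvu (hadj x hxv) (Ne.symm hxu) ⟨haT, haT.1, e⟩)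
  have h4 : a • (x • u) ≠ u := fun e => hxu (MulAction.injective a (e.trans (mem_stabilizer_iff.mp haT.2).symm))
  rw [mul_smul]
  by_contra hne
  classical
  haveI : Finite {w // adj v w} := Nat.finite_of_card_ne_zero (by rw [h.three v]; norm_num)
  haveI := Fintype.ofFinite {w // adj v w}
  have h5 : adj v (a • x • u) := by
    have := hadj (a * x) ((stabilizer G v).mul_mem haT.1 hxv)
    rwa [mul_smul] at this
  have : ({⟨u, hvu⟩, ⟨x • u, hadj x hxv⟩, ⟨g • u, hadj g hg⟩, ⟨_, h5⟩} : Finset {w // adj v w}).card ≤ 3 := by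
    refine (Finset.card_le_univ _).trans ?_
    rw [← Nat.card_eq_fintype_card, h.three v]
  rw [Finset.card_insert_of_notMem (by simp [Ne.symm hxu, Ne.symm h1, Ne.symm h4]),
    Finset.card_insert_of_notMem (by simp [Ne.symm h2, Ne.symm h3]),
    Finset.card_insert_of_notMem (by simp [hne]), Finset.card_singleton] at this
  omega

theorem smul_self {v u : V} (hvu : adj v u) {g : G} (hg : g ∈ stabilizer G v)
    (hc : ∀ e ∈ E G v u, g * e = e * g) : g • u = u := by
  by_contra hne
  refine h.moved hvu (h.maximal hvu (fun t ht => mem_centralizer_iff.mpr fun e he => E_comm he ht)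
    (mem_centralizer_iff.mpr fun e he => (hc e he).symm) hg hne)

theorem mem_Q_of_comm {v : V} {g : G} (hg : g ∈ stabilizer G v) (hc : ∀ z ∈ Z G adj v, g * z = z * g) :
    g ∈ Q G adj v :=
  mem_Q.mpr ⟨hg, fun _ hu => h.smul_self hu hg fun e he => hc e (h.E_le_Z hu he)⟩

theorem Z_le_Q (v : V) : Z G adj v ≤ Q G adj v :=
  iSup₂_le fun u hu e he => h.char v ⟨(E_le_T v u he).1, mem_centralizer_iff.mpr fun q hq =>
    (E_comm he (Q_le_T hu hq)).symm⟩

theorem Z_le_stab (v : V) : Z G adj v ≤ stabilizer G v := (h.Z_le_Q v).trans (Q_le v)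

theorem comm_Q {v : V} {z q : G} (hz : z ∈ Z G adj v) (hq : q ∈ Q G adj v) : z * q = q * z := by
  have : Z G adj v ≤ centralizer (Q G adj v : Set G) := iSup₂_le fun u hu e he =>
    mem_centralizer_iff.mpr fun q hq => (E_comm he (Q_le_T hu hq)).symm
  exact (mem_centralizer_iff.mp (this hz) q hq).symm

theorem Z_comm {v : V} {z z' : G} (hz : z ∈ Z G adj v) (hz' : z' ∈ Z G adj v) : z * z' = z' * z :=
  h.comm_Q hz (h.Z_le_Q v hz')

theorem Z_sq {v : V} {z : G} (hz : z ∈ Z G adj v) : z * z = 1 := by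
  let K : Subgroup G :=
    { carrier := {z | z ∈ Z G adj v ∧ z * z = 1}
      one_mem' := ⟨one_mem _, one_mul 1⟩
      mul_mem' := fun {a b} ha hb => ⟨mul_mem ha.1 hb.1, by
        calc a * b * (a * b) = a * (b * a) * b := by group
          _ = a * a * (b * b) := by rw [h.Z_comm hb.1 ha.1]; group
          _ = 1 := by rw [ha.2, hb.2, one_mul]⟩
      inv_mem' := fun {a} ha => ⟨inv_mem ha.1, by rw [← mul_inv_rev, ha.2, inv_one]⟩ }
  have : Z G adj v ≤ K := iSup₂_le fun u hu e he => ⟨h.E_le_Z hu he, E_sq he⟩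
  exact (this hz).2

theorem Z_inv {v : V} {z : G} (hz : z ∈ Z G adj v) : z⁻¹ = z := inv_eq_of_mul_eq_one_right (h.Z_sq hz)

/-- An element of `Z v` centralizing an element of the edge stabilizer outside the kernel is in the edge centre. -/
theorem mem_E_of_comm {v u : V} (hvu : adj v u) {z a : G} (hz : z ∈ Z G adj v) (ha : a ∈ T G v u)
    (haQ : a ∉ Q G adj v) (hc : z * a = a * z) : z ∈ E G v u := by
  refine mem_E (Q_le_T hvu (h.Z_le_Q v hz)) (fun t ht => ?_) (h.Z_sq hz)
  by_cases htQ : t ∈ Q G adj v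
  · exact (h.comm_Q hz htQ).symm
  · have h1 := h.comm_Q hz (h.div_mem_Q hvu ht htQ ha haQ)
    calc t * z = t * a⁻¹ * (a * z) := by group
      _ = t * a⁻¹ * z * a := by rw [← hc]; group
      _ = z * t := by rw [← h1]; group

end Hyp

end Cfsg.Agent.Invol.S4Am
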