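import Cfsg.Agent.Lib.Invol.S4AmalgamMain

/-!
# No critical pair at distance two or more
-/

set_option autoImplicit false

namespace Cfsg.Agent.Invol.S4Am

open MulAction Subgroup
open Amal (cj omZ)

variable {G V : Type*} [Group G] [MulAction G V] {adj : V → V → Prop}

namespace Hyp

variable (h : Hyp G adj)
include h

theorem three_eq {v a b c u : V} (ha : adj v a) (hb : adj v b) (hc : adj v c) (hab : a ≠ b) (hac : a ≠ c)
    (hbc : b ≠ c) (hu : adj v u) : u = a ∨ u = b ∨ u = c := by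
  classical
  by_contra hcon
  push Not at hcon
  haveI : Finite {x // adj v x} := Nat.finite_of_card_ne_zero (by rw [h.three v]; norm_num)
  haveI := Fintype.ofFinite {x // adj v x}
  have : ({⟨a, ha⟩, ⟨b, hb⟩, ⟨c, hc⟩, ⟨u, hu⟩} : Finset {x // adj v x}).card ≤ 3 := by
    refine (Finset.card_le_univ _).trans ?_
    rw [← Nat.card_eq_fintype_card, h.three v]
  rw [Finset.card_insert_of_notMem (by simp [hab, hac, Ne.symm hcon.1]),
    Finset.card_insert_of_notMem (by simp [hbc, Ne.symm hcon.2.1]),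
    Finset.card_insert_of_notMem (by simp [Ne.symm hcon.2.2]), Finset.card_singleton] at this
  omega

theorem exists_Q_not {v u : V} (hvu : adj v u) : ∃ w ∈ Q G adj v, w ∉ Q G adj u := by
  by_contra hcon
  push Not at hcon
  obtain ⟨a, haT, haQ⟩ := SetLike.not_le_iff_exists.mp (h.not_fix (h.symm hvu))
  have haT' : a ∈ T G v u := ⟨haT.2, haT.1⟩
  have hau : a ∉ Q G adj v := fun e => haQ (hcon a e)
  have hrev : ∀ q ∈ Q G adj u, q ∈ Q G adj v := by
    intro q hq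
    by_contra hqv
    have hqT : q ∈ T G v u := ⟨Q_le_stab (h.symm hvu) hq, Q_le u hq⟩
    have h1 := hcon _ (h.div_mem_Q hvu haT' hau hqT hqv)
    exact haQ (by simpa using mul_mem h1 hq)
  have hnorm : stabilizer G u ≤ normalizer (Q G adj u : Set G) :=
    le_normalizer_of_conj fun g hg x hx => h.Q_conj (mem_stabilizer_iff.mp hg) hx
  have he : Q G adj u = Q G adj v := le_antisymm (fun q hq => hrev q hq) (fun q hq => hcon q hq)
  rw [he] at hnorm
  have hD := h.faithful hvu (Q G adj v) (Q_le_T hvu)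
    (le_normalizer_of_conj fun g hg x hx => h.Q_conj (mem_stabilizer_iff.mp hg) hx) hnorm
  refine h.moved hvu fun g _ => mem_centralizer_iff.mpr fun e he => ?_
  have := h.Z_le_Q v (h.E_le_Z hvu he)
  rw [hD, mem_bot] at this
  rw [this, one_mul, mul_one]

/-- A critical pair and its two commutators. -/
theorem crit_eq {k : ℕ} (hlow : Low G adj (k + 1)) {α α' β α₁ : V} (hc : Crit G adj (k + 1) α α')
    (hαβ : adj α β) (hw : Wk adj k β α') (hadj : adj α₁ α') (hw1 : Wk adj k α α₁) :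
    ∃ r, R G adj α β r ∧ R G adj α' α₁ r ∧ r ∈ Z G adj α ∧ r ∈ Z G adj α' := by
  obtain ⟨hc', r, hr, hr'⟩ := h.crit_main hlow hc hαβ hw
  obtain ⟨-, r₂, hr₂, -⟩ := h.crit_main hlow hc' (h.symm hadj) (h.wk_symm hw1)
  obtain ⟨x, hx, hxQ⟩ := SetLike.not_le_iff_exists.mp hc'.2
  have hxq := hlow k (Nat.lt_succ_self k) α' β (h.wk_symm hw) hx
  have hxT : x ∈ T G α β := ⟨Q_le_stab (h.symm hαβ) hxq, Q_le _ hxq⟩
  obtain ⟨z, hz, hzne⟩ : ∃ z ∈ Z G adj α, z * x * z⁻¹ * x⁻¹ ≠ 1 := by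
    by_contra hcon
    push Not at hcon
    exact hxQ (h.mem_Q_of_comm hxT.1 fun z hz => (commutatorElement_eq_one_iff_mul_comm.mp (hcon z hz)).symm)
  have hzq := hlow k (Nat.lt_succ_self k) α α₁ hw1 hz
  have hzT : z ∈ T G α' α₁ := ⟨Q_le_stab hadj hzq, Q_le _ hzq⟩
  have e1 := (hr.2.2 z hz x hxT).resolve_left hzne
  have hne2 : x * z * x⁻¹ * z⁻¹ ≠ 1 := fun e => hzne (by
    have h3 : z * x * z⁻¹ * x⁻¹ = (x * z * x⁻¹ * z⁻¹)⁻¹ := by group
    rw [h3, e, inv_one])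
  have e2 := (hr₂.2.2 x hx z hzT).resolve_left hne2
  have e3 : r = r₂ := by
    rw [← h.Z_inv (h.R_memZ hr₂), ← e1, ← e2]; group
  exact ⟨r, hr, e3 ▸ hr₂, h.R_memZ hr, hr'⟩

/-- Critical pairs at distance at least three do not start at a vertex of type `NA`. -/
theorem no_NA_long {k : ℕ} (hlow : Low G adj (k + 3)) {α α' : V} (hc : Crit G adj (k + 3) α α')
    (hA : NA G adj α) : False := by
  obtain ⟨β, hαβ, hw⟩ := hc.1
  obtain ⟨α₁, hwβ1, h1'⟩ := wk_last hw
  obtain ⟨α₂, hwβ2, h21⟩ := wk_last hwβ1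
  have hw1 : Wk adj (k + 2) α α₁ := ⟨β, hαβ, hwβ1⟩
  have hw2 : Wk adj (k + 1) α α₂ := ⟨β, hαβ, hwβ2⟩
  obtain ⟨α₃, hw3, h32⟩ := wk_last hw2
  obtain ⟨hc', r₀, hr₀, -⟩ := h.crit_main hlow hc hαβ hw
  obtain ⟨x, hx, hxQ⟩ := SetLike.not_le_iff_exists.mp hc'.2
  have hxq := hlow (k + 2) (Nat.lt_succ_self _) α' β (h.wk_symm hw) hx
  have hxT : x ∈ T G α β := ⟨Q_le_stab (h.symm hαβ) hxq, Q_le _ hxq⟩
  have hx1 : x ∈ Q G adj α₁ := hlow 1 (by omega) α' α₁ (wk_one (h.symm h1')) hx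
  have hx2 : x ∈ Q G adj α₂ := hlow 2 (by omega) α' α₂ ⟨α₁, h.symm h1', wk_one (h.symm h21)⟩ hx
  obtain ⟨n, hn, hnβ⟩ := h.exists_other hαβ
  have hxn : x • n ≠ n := fun e => hxQ (h.Q_eq_inf hαβ hn (Ne.symm hnβ) ⟨hxT, hxT.1, e⟩)
  have hnoc : ∀ r, R G adj α n r → x * r ≠ r * x := fun r hr e => hxn (h.R_fix hr hxT.1 e)
  -- a central commutator at `n` gives the commutator at `α`
  have hback : ∀ δ r, R G adj δ n r → (∀ g ∈ stabilizer G n, g * r = r * g) → R G adj α n r := by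
    intro δ r hr hcen
    obtain ⟨g, hg, hgδ⟩ := h.trans (h.symm hr.1) (h.symm hn)
    have := h.R_smul hr g
    rwa [hgδ, mem_stabilizer_iff.mp hg, hcen g hg, mul_inv_cancel_right] at this
  have hwn : Wk adj (k + 2) n α₂ := ⟨α, h.symm hn, hw2⟩
  -- first step
  obtain ⟨δ, hδ, hδα, hδ2⟩ : ∃ δ, adj n δ ∧ δ ≠ α ∧ Z G adj δ ≤ Q G adj α₂ := by
    by_contra hcon
    push Not at hcon
    obtain ⟨δ₁, hd1, hd1α⟩ := h.exists_other (h.symm hn)
    obtain ⟨a, haT, haQ⟩ := SetLike.not_le_iff_exists.mp (h.not_fix (h.symm hn))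
    set δ₂ := a • δ₁ with hd2def
    have hd2 : adj n δ₂ := h.adj_fix hd1 haT.1
    have hd21 : δ₂ ≠ δ₁ := fun e => haQ (h.Q_eq_inf (h.symm hn) hd1 (Ne.symm hd1α) ⟨haT, haT.1, e⟩)
    have hd2α : δ₂ ≠ α := fun e => hd1α (MulAction.injective a (e.trans (mem_stabilizer_iff.mp haT.2).symm))
    have hw' : ∀ δ, adj n δ → Wk adj (k + 3) δ α₂ := fun δ hd => ⟨n, h.symm hd, hwn⟩
    have hwl : ∀ δ, adj n δ → Wk adj (k + 2) δ α₃ := fun δ hd => ⟨n, h.symm hd, α, h.symm hn, hw3⟩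
    obtain ⟨r₁, hr1, hr1', -, hr1Z⟩ :=
      h.crit_eq hlow ⟨hw' _ hd1, hcon δ₁ hd1 hd1α⟩ (h.symm hd1) hwn h32 (hwl _ hd1)
    obtain ⟨r₂, hr2, hr2', -, -⟩ :=
      h.crit_eq hlow ⟨hw' _ hd2, hcon δ₂ hd2 hd2α⟩ (h.symm hd2) hwn h32 (hwl _ hd2)
    have e12 : r₁ = r₂ := h.R_unique hr1' hr2'
    obtain ⟨b, hbT, hbQ⟩ := SetLike.not_le_iff_exists.mp (h.not_fix hd2)
    have hb1 : b • δ₁ ≠ δ₁ := fun e => hbQ (h.Q_eq_inf hd2 hd1 hd21 ⟨hbT, hbT.1, e⟩)
    have hbr : b * r₁ = r₁ * b := by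
      rw [e12]; exact (E_comm (h.R_mem hr2) ⟨hbT.2, hbT.1⟩).symm
    have hcen : ∀ g ∈ stabilizer G n, g * r₁ = r₁ * g := fun g hg => by
      have := h.maximal hd1 (H := centralizer ({r₁} : Set G)) (fun t ht => mem_centralizer_singleton_iff.mpr
        (E_comm (h.R_mem hr1) ⟨ht.2, ht.1⟩).symm) (mem_centralizer_singleton_iff.mpr hbr) hbT.1 hb1 hg
      exact mem_centralizer_singleton_iff.mp this
    exact hnoc r₁ (hback _ _ hr1 hcen) (h.comm_Q hr1Z hx2).symm
  -- second step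
  have hδ1 : Z G adj δ ≤ Q G adj α₁ := by
    intro z hz
    have hz2 := hδ2 hz
    have hz1 : z ∈ stabilizer G α₁ := Q_le_stab h21 hz2
    by_cases hev : Even (k + 1)
    · obtain ⟨g, rfl⟩ := (h.wk_orbit hw2).1 hev
      have hA2 : NA G adj (g • α) := h.NA_smul hA g
      obtain ⟨g', hg', hgα⟩ := h.trans (h.symm h32) h21
      have hle : Z G adj α₁ ≤ Z G adj (g • α) ⊔ Z G adj α₃ := by
        rw [← hgα, h.Z_smul]
        rintro _ ⟨w, hw, rfl⟩
        exact (mem_normalizer_iff.mp (hA2 α₃ (h.symm h32) hg') w).mp (mem_sup_right hw)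
      have hz3 : z ∈ Q G adj α₃ := hlow (k + 2) (by omega) δ α₃ ⟨n, h.symm hδ, α, h.symm hn, hw3⟩ hz
      have hcent : Z G adj (g • α) ⊔ Z G adj α₃ ≤ centralizer ({z} : Set G) :=
        sup_le (fun w hw => mem_centralizer_singleton_iff.mpr (h.comm_Q hw hz2))
          (fun w hw => mem_centralizer_singleton_iff.mpr (h.comm_Q hw hz3))
      exact h.mem_Q_of_comm hz1 fun w hw => (mem_centralizer_singleton_iff.mp (hcent (hle hw))).symm
    · have hev2 : Even (k + 1 + 1) := Nat.even_add_one.mpr hev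
      obtain ⟨g, hg⟩ := (h.wk_orbit hw1).1 hev2
      have hodd : ¬ Even (k + 3) := by
        intro e; exact hev (by simpa [Nat.even_add, show k + 3 = k + 1 + 2 by omega] using e)
      obtain ⟨g', hg'⟩ := (h.wk_orbit hc.1).2 hodd β hαβ
      have hnotA : ¬ NA G adj α' := by
        intro e
        have := h.NA_smul e g'⁻¹
        rw [← hg', inv_smul_smul] at this
        exact h.not_NA_both hαβ (hlow 1 (by omega) α β (wk_one hαβ)) hA this
      obtain ⟨m, hm, hmne⟩ := h.exists_other (h.symm h1')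
      have hB' := ((h.step hlow hc' (h.symm h1') (h.wk_symm hw1) (h.wk_symm hw) (h.symm hαβ) hm hmne).resolve_left
        hnotA).2
      have hBβ : NB G adj β := by
        have := h.NB_smul hB' g'⁻¹
        rwa [← hg', inv_smul_smul] at this
      obtain ⟨c, hcα, hcn⟩ := h.trans hαβ hn
      have hBn : NB G adj n := hcn ▸ h.NB_smul hBβ c
      have hr1 := h.R_smul hr₀ g
      rw [hg] at hr1
      obtain ⟨c', hc'1, hc'2⟩ := h.trans hr1.1 (h.symm h21)
      have hr1' := h.R_smul hr1 c'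
      rw [mem_stabilizer_iff.mp hc'1, hc'2] at hr1'
      by_contra hzQ
      obtain ⟨y, hy, hyne⟩ : ∃ y ∈ Z G adj α₁, y * z * y⁻¹ * z⁻¹ ≠ 1 := by
        by_contra hcon
        push Not at hcon
        exact hzQ (h.mem_Q_of_comm hz1 fun y hy => (commutatorElement_eq_one_iff_mul_comm.mp (hcon y hy)).symm)
      have e1 := (hr1'.2.2 y hy z ⟨hz1, Q_le _ hz2⟩).resolve_left hyne
      have hyα : y ∈ Q G adj α := hlow (k + 2) (by omega) α₁ α (h.wk_symm hw1) hy
      have hyn : y ∈ Q G adj n := by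
        refine h.mem_Q_of_comm (Q_le_stab hn hyα) fun w hw' => ?_
        have hle : Z G adj α ⊔ Z G adj β ≤ centralizer ({y} : Set G) :=
          sup_le (fun w hw => mem_centralizer_singleton_iff.mpr (h.comm_Q hw hyα))
            (fun w hw => mem_centralizer_singleton_iff.mpr
              (h.comm_Q hw (hlow (k + 1) (by omega) α₁ β (h.wk_symm hwβ1) hy)))
        have hwm : w ∈ Z G adj α ⊔ Z G adj β := by
          rw [← hcn, h.Z_smul] at hw'
          obtain ⟨w, hw, rfl⟩ := hw'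
          exact (mem_normalizer_iff.mp (hA β hαβ hcα) w).mp (mem_sup_right hw)
        exact (mem_centralizer_singleton_iff.mp (hle hwm)).symm
      obtain ⟨d, hdn, hdδ⟩ := h.trans (h.symm hn) hδ
      obtain ⟨rα, hrα⟩ : ∃ r, R G adj α n r := by
        have := h.R_smul hr₀ c
        rw [mem_stabilizer_iff.mp hcα, hcn] at this
        exact ⟨_, this⟩
      have hrδ := h.R_smul hrα d
      rw [hdδ, mem_stabilizer_iff.mp hdn] at hrδ
      have hne2 : z * y * z⁻¹ * y⁻¹ ≠ 1 := fun e => hyne (by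
        have h3 : y * z * y⁻¹ * z⁻¹ = (z * y * z⁻¹ * y⁻¹)⁻¹ := by group
        rw [h3, e, inv_one])
      have e2 := (hrδ.2.2 z hz y ⟨Q_le_stab hδ hyn, Q_le _ hyn⟩).resolve_left hne2
      have e3 : c' * (g * r₀ * g⁻¹) * c'⁻¹ = d * rα * d⁻¹ := by
        rw [← h.Z_inv (h.R_memZ hrδ), ← e1, ← e2]; group
      refine hnoc _ (hback _ _ hrδ (fun k hk => hBn _ _ hrδ k hk)) ?_
      rw [← e3]
      exact (h.comm_Q (h.R_memZ hr1') hx1).symm
  -- third step
  obtain ⟨-, r, hr, hrα⟩ := h.crit_main hlow hc' (h.symm h1') (h.wk_symm hw1)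
  obtain ⟨w, hwQ, hwn'⟩ := h.exists_Q_not hn
  set δ' := w • δ with hδ'def
  have hwfix : w • n = n ∧ w • α = α :=
    ⟨mem_stabilizer_iff.mp (Q_le_stab hn hwQ), mem_stabilizer_iff.mp (Q_le _ hwQ)⟩
  have hδ'adj : adj n δ' := h.adj_fix hδ (mem_stabilizer_iff.mpr hwfix.1)
  have hδ'δ : δ' ≠ δ := fun e =>
    hwn' (h.Q_eq_inf (h.symm hn) hδ (Ne.symm hδα) ⟨⟨hwfix.1, hwfix.2⟩, hwfix.1, e⟩)
  have hδ'α : δ' ≠ α := fun e => hδα (MulAction.injective w (e.trans hwfix.2.symm))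
  set Y : V → Subgroup G := fun d => Z G adj α ⊔ Z G adj n ⊔ Z G adj d with hYdef
  set W := Z G adj n ⊔ ⨆ (u : V) (_ : adj n u), Z G adj u with hWdef
  have hYW : ∀ d, adj n d → Y d ≤ W := fun d hd => sup_le (sup_le
    ((le_iSup₂ (f := fun u (_ : adj n u) => Z G adj u) α (h.symm hn)).trans le_sup_right) le_sup_left)
    ((le_iSup₂ (f := fun u (_ : adj n u) => Z G adj u) d hd).trans le_sup_right)
  have hx0 : ∀ z ∈ Z G adj δ, x * z * x⁻¹ ∈ Y δ := by
    intro z hz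
    have hzT : z ∈ T G α' α₁ := ⟨Q_le_stab h1' (hδ1 hz), Q_le _ (hδ1 hz)⟩
    have e : x * z * x⁻¹ = (x * z * x⁻¹ * z⁻¹) * z := by group
    rw [e]
    refine mul_mem (mem_sup_left (mem_sup_left ?_)) (mem_sup_right hz)
    rcases hr.2.2 x hx z hzT with e' | e' <;> rw [e']
    · exact one_mem _
    · exact hrα
  have hxα : ∀ z ∈ Z G adj α ⊔ Z G adj n, x * z * x⁻¹ ∈ Z G adj α ⊔ Z G adj n := fun z hz =>
    (mem_normalizer_iff.mp (hA n hn hxT.1) z).mp hz
  have hxW : x ∈ normalizer (W : Set G) := by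
    have key : ∀ z ∈ W, x * z * x⁻¹ ∈ W := by
      intro z hz
      have hmap : W.map (MulAut.conj x).toMonoidHom ≤ W := by
        rw [hWdef, Subgroup.map_sup, Subgroup.map_iSup]
        simp_rw [Subgroup.map_iSup]
        refine sup_le ?_ (iSup₂_le fun u hu => ?_)
        · rintro _ ⟨z, hz, rfl⟩
          exact hYW δ hδ (mem_sup_left (hxα z (mem_sup_right hz)))
        rcases h.three_eq (h.symm hn) hδ hδ'adj (Ne.symm hδα) (Ne.symm hδ'α) (Ne.symm hδ'δ) hu with rfl | rfl | rfl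
        · rintro _ ⟨z, hz, rfl⟩
          exact hYW δ hδ (mem_sup_left (hxα z (mem_sup_left hz)))
        · rintro _ ⟨z, hz, rfl⟩
          exact hYW u hδ (hx0 z hz)
        · rw [hδ'def, h.Z_smul]
          rintro _ ⟨_, ⟨z, hz, rfl⟩, rfl⟩
          simp only [MulEquiv.coe_toMonoidHom, MulAut.conj_apply]
          set dd := x * w * x⁻¹ * w⁻¹ with hdd
          have hddα : dd ∈ Q G adj α := mul_mem (h.Q_conj (mem_stabilizer_iff.mp hxT.1) hwQ) (inv_mem hwQ)
          have hddn : dd ∈ Q G adj n := by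
            have hwT : ∀ q ∈ Q G adj α, q ∈ T G n α := fun q hq => ⟨Q_le_stab hn hq, Q_le _ hq⟩
            have hq1 : x * w * x⁻¹ ∈ Q G adj α := h.Q_conj (mem_stabilizer_iff.mp hxT.1) hwQ
            refine h.div_mem_Q (h.symm hn) (hwT _ hq1) (fun e => hwn' ?_) (hwT _ hwQ) hwn'
            have h2 := (mem_normalizer_iff.mp (h.NA_inf hA hn (inv_mem hxT.1)) _).mp ⟨hq1, e⟩
            simpa [mul_assoc] using h2.2
          have e : x * (w * z * w⁻¹) * x⁻¹ = dd * (w * (x * z * x⁻¹) * w⁻¹) * dd⁻¹ := by rw [hdd]; group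
          rw [e]
          have h4 : w * (x * z * x⁻¹) * w⁻¹ ∈ Y δ' := by
            have : cj w (Y δ) ≤ Y δ' := by
              simp only [hYdef, cj, Subgroup.map_sup]
              refine sup_le_sup (sup_le_sup ?_ ?_) ?_
              · exact (h.Z_smul_le w α).trans (by rw [hwfix.2])
              · exact (h.Z_smul_le w n).trans (by rw [hwfix.1])
              · exact h.Z_smul_le w δ
            exact this ⟨_, hx0 z hz, rfl⟩
          have h5 : dd ∈ normalizer (Y δ' : Set G) :=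
            normalizer_sup (normalizer_sup (h.Z_normalized (Q_le _ hddα)) (h.Z_normalized (Q_le _ hddn)))
              (h.Z_normalized (Q_le_stab hδ'adj hddn))
          exact hYW δ' hδ'adj ((mem_normalizer_iff.mp h5 _).mp h4)
      exact hmap ⟨z, hz, rfl⟩
    rw [mem_normalizer_iff]
    refine fun z => ⟨key z, fun hz => ?_⟩
    have := key _ hz
    rw [h.Z_inv hx] at this
    simpa [← mul_assoc, h.Z_sq hx, mul_assoc _ x x] using this
  have hnW : stabilizer G n ≤ normalizer (W : Set G) := by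
    refine le_normalizer_of_conj fun g hg z hz => ?_
    have hmap : W.map (MulAut.conj g).toMonoidHom ≤ W := by
      rw [hWdef, Subgroup.map_sup, Subgroup.map_iSup]
      simp_rw [Subgroup.map_iSup]
      refine sup_le ((h.Z_smul_le g n).trans (by rw [mem_stabilizer_iff.mp hg]; exact le_sup_left))
        (iSup₂_le fun u hu => (h.Z_smul_le g u).trans
          ((le_iSup₂ (f := fun u (_ : adj n u) => Z G adj u) (g • u) (h.adj_fix hu hg)).trans le_sup_right))
    exact hmap ⟨z, hz, rfl⟩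
  have hαW : stabilizer G α ≤ normalizer (W : Set G) :=
    h.maximal hn (fun t ht => hnW ht.2) hxW hxT.1 hxn
  have hWT : W ≤ T G α n := by
    refine sup_le ((h.Z_le_Q n).trans fun q hq => ⟨Q_le_stab (h.symm hn) hq, Q_le n hq⟩) (iSup₂_le fun u hu => ?_)
    exact (hlow 1 (by omega) u n (wk_one (h.symm hu))).trans
      fun q hq => ⟨Q_le_stab (h.symm hn) hq, Q_le n hq⟩
  have hW := h.faithful hn W hWT hαW hnW
  refine h.moved hn fun g _ => mem_centralizer_iff.mpr fun e he => ?_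
  rw [E_symm] at he
  have : e ∈ W := mem_sup_left (h.E_le_Z (h.symm hn) he)
  rw [hW, mem_bot] at this
  rw [this, one_mul, mul_one]

end Hyp

end Cfsg.Agent.Invol.S4Am
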