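import Cfsg.Agent.Lib.Invol.S4AmalgamTwo
import Cfsg.Agent.S1012

/-!
# The vertex groups of a critical edge
-/

set_option autoImplicit false

namespace Cfsg.Agent.Invol.S4Am

open MulAction Subgroup
open Amal (cj omZ)

universe w

variable {G : Type w} {V : Type*} [Group G] [MulAction G V] {adj : V → V → Prop}

theorem card_two_mul {H K : Subgroup G} (hle : K ≤ H) {a : G} (ha : a ∈ H) (haK : a ∉ K)
    (hdec : ∀ g ∈ H, g ∈ K ∨ g * a ∈ K) : Nat.card H = 2 * Nat.card K := by
  have hi : (K.subgroupOf H).index = 2 := by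
    rw [Subgroup.index_eq_two_iff]
    refine ⟨⟨a, ha⟩, fun b => ?_⟩
    rcases hdec b b.2 with e | e
    · exact Or.inr ⟨mem_subgroupOf.mpr e, fun e' =>
        haK (by simpa using mul_mem (inv_mem e) (mem_subgroupOf.mp e'))⟩
    · exact Or.inl ⟨mem_subgroupOf.mpr e, fun e' =>
        haK (by simpa using mul_mem (inv_mem (mem_subgroupOf.mp e')) e)⟩
  have := (K.subgroupOf H).card_mul_index
  rw [hi, Nat.card_congr (Subgroup.subgroupOfEquivOfLe hle).toEquiv] at this
  omega

namespace Hyp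

variable (h : Hyp G adj)
include h

theorem relIndex_T {v u : V} (hvu : adj v u) : (T G v u).relIndex (stabilizer G v) = 3 := by
  have hst : stabilizer ↥(stabilizer G v) u = (T G v u).subgroupOf (stabilizer G v) := by
    ext g
    simp [T, Subgroup.mem_subgroupOf, Subgroup.smul_def]
  rw [Subgroup.relIndex, ← hst, MulAction.index_stabilizer, ← h.three v, ← Nat.card_coe_set_eq]
  refine Nat.card_congr (Equiv.subtypeEquivRight fun w => ⟨?_, fun hw => ?_⟩)
  · rintro ⟨g, rfl⟩
    exact h.adj_fix hvu g.2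
  · obtain ⟨g, hg, rfl⟩ := h.trans hvu hw
    exact ⟨⟨g, hg⟩, rfl⟩

/-- The data of one end of a critical edge. -/
theorem edge_end {α β : V} (hαβ : adj α β) (hc : ¬ Z G adj α ≤ Q G adj β) :
    ∃ C : Subgroup G, C ≤ E G α β ∧ Q G adj α ≤ Z G adj α ∧ Nat.card (E G α β) = 2 * Nat.card C ∧
      Nat.card (stabilizer G α) = 24 * Nat.card C ∧
      (∀ g ∈ stabilizer G α, ∀ c ∈ C, g * c = c * g) ∧
      (∀ v w, adj α v → adj α w → v ≠ w → ∀ e ∈ E G α v, e ∈ E G α w → e ∈ C) ∧
      ∃ r, R G adj α β r ∧ r ∉ C ∧ ∀ t ∈ T G α β, t * t = 1 ∨ t * t = r := by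
  have hlow : Low G adj 1 := fun m hm u v huv => by
    obtain rfl : m = 0 := by omega
    cases huv
    exact h.Z_le_Q u
  obtain ⟨hc', r, hr, -⟩ := h.crit_main (k := 0) hlow ⟨wk_one hαβ, hc⟩ hαβ rfl
  obtain ⟨u, hu, huQ⟩ := SetLike.not_le_iff_exists.mp hc
  obtain ⟨x, hx, hxQ⟩ := SetLike.not_le_iff_exists.mp hc'.2
  have hxT : x ∈ T G α β := ⟨Q_le_stab (h.symm hαβ) (h.Z_le_Q β hx), h.Z_le_stab β hx⟩
  have huT : u ∈ T G β α := ⟨Q_le_stab hαβ (h.Z_le_Q α hu), h.Z_le_stab α hu⟩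
  set D := Q G adj α ⊓ Q G adj β with hD
  have hdecα : ∀ q ∈ Q G adj α, q ∈ D ∨ q * u ∈ D := fun q hq => by
    by_cases hqβ : q ∈ Q G adj β
    · exact Or.inl ⟨hq, hqβ⟩
    · exact Or.inr ⟨mul_mem hq (h.Z_le_Q α hu),
        h.mul_mem_Q (h.symm hαβ) ⟨Q_le_stab hαβ hq, Q_le _ hq⟩ hqβ huT huQ⟩
  have hdecβ : ∀ q ∈ Q G adj β, q ∈ D ∨ q * x ∈ D := fun q hq => by
    by_cases hqα : q ∈ Q G adj α
    · exact Or.inl ⟨hqα, hq⟩
    · exact Or.inr ⟨h.mul_mem_Q hαβ ⟨Q_le_stab (h.symm hαβ) hq, Q_le _ hq⟩ hqα hxT hxQ,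
        mul_mem hq (h.Z_le_Q β hx)⟩
  have hsq : ∀ (p : V) (z : G), z ∈ Z G adj p → (∀ q ∈ Q G adj p, q ∈ D ∨ q * z ∈ D) → D ≤ Q G adj p →
      sqC (Q G adj p) = sqC D := fun p z hz hdec hle => by
    refine le_antisymm ((closure_le _).mpr fun g ⟨q, hq, e⟩ => ?_) (sqC_mono hle)
    rcases hdec q hq with e' | e'
    · exact e ▸ sq_mem_sqC e'
    · have : q * q = q * z * (q * z) := by
        calc q * q = q * q * (z * z) := by rw [h.Z_sq hz, mul_one]
          _ = q * (q * z) * z := by group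
          _ = q * (z * q) * z := by rw [h.comm_Q hz hq]
          _ = _ := by group
      exact e ▸ this ▸ sq_mem_sqC e'
  have hbot : sqC D = ⊥ := h.faithful hαβ _ ((sqC_le D).trans (inf_le_left.trans (Q_le_T hαβ)))
    (hsq α u hu hdecα inf_le_left ▸ le_normalizer_sqC (h.Q_normalized α))
    (hsq β x hx hdecβ inf_le_right ▸ le_normalizer_sqC (h.Q_normalized β))
  have hexp : ∀ d ∈ D, d * d = 1 := fun d hd => by
    have := sq_mem_sqC hd; rwa [hbot, mem_bot] at this
  have hDE : D ≤ E G α β := fun d hd => by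
    refine mem_E (Q_le_T hαβ hd.1) (fun t ht => ?_) (hexp d hd)
    have hcomm : ∀ e ∈ D, e * d = d * e := fun e he => by
      calc e * d = (e * d)⁻¹ := (inv_of_sq (hexp _ (mul_mem he hd))).symm
        _ = d * e := by rw [mul_inv_rev, inv_of_sq (hexp e he), inv_of_sq (hexp d hd)]
    have hud := h.comm_Q hu hd.1
    have hxd := h.comm_Q hx hd.2
    have hQ : ∀ q ∈ Q G adj α, q * d = d * q := fun q hq => by
      rcases hdecα q hq with e | e
      · exact hcomm q e
      · calc q * d = (q * u) * (u * d) := by rw [← mul_assoc, mul_assoc q u u, h.Z_sq hu, mul_one]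
          _ = (q * u * d) * u := by rw [hud]; group
          _ = d * (q * (u * u)) := by rw [hcomm _ e]; group
          _ = d * q := by rw [h.Z_sq hu, mul_one]
    by_cases htQ : t ∈ Q G adj α
    · exact hQ t htQ
    · have e := hQ _ (h.mul_mem_Q hαβ ht htQ hxT hxQ)
      calc t * d = (t * x) * (x * d) := by rw [← mul_assoc, mul_assoc t x x, h.Z_sq hx, mul_one]
        _ = (t * x * d) * x := by rw [hxd]; group
        _ = d * (t * (x * x)) := by rw [e]; group
        _ = d * t := by rw [h.Z_sq hx, mul_one]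
  have hED : E G α β ≤ D := fun e he => by
    refine ⟨h.Z_le_Q α (h.E_le_Z hαβ he), ?_⟩
    rw [E_symm] at he
    exact h.Z_le_Q β (h.E_le_Z (h.symm hαβ) he)
  have hQZ : Q G adj α ≤ Z G adj α := fun q hq => by
    rcases hdecα q hq with e | e
    · exact h.E_le_Z hαβ (hDE e)
    · simpa using mul_mem (h.E_le_Z hαβ (hDE e)) (inv_mem hu)
  obtain ⟨β', hβ', hne⟩ := h.exists_other hαβ
  obtain ⟨a, haT, haQ⟩ := SetLike.not_le_iff_exists.mp (h.not_fix hβ')
  have haβ : a • β ≠ β := fun e => haQ (h.Q_eq_inf hβ' hαβ hne ⟨haT, haT.1, e⟩)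
  set C := E G α β ⊓ E G α β' with hC
  have hcen : ∀ g ∈ stabilizer G α, ∀ c ∈ C, g * c = c * g := fun g hg c hc => by
    have := h.maximal hαβ (H := centralizer ({c} : Set G))
      (fun t ht => mem_centralizer_singleton_iff.mpr (E_comm hc.1 ht).symm)
      (mem_centralizer_singleton_iff.mpr (E_comm hc.2 haT).symm) haT.1 haβ hg
    exact mem_centralizer_singleton_iff.mp this
  have hrC : r ∉ C := fun e => haβ (h.R_fix hr haT.1 (E_comm e.2 haT).symm)
  obtain ⟨g₀, hg₀, hg₀β⟩ := h.trans hαβ hβ'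
  have hr' := h.R_smul hr g₀
  rw [mem_stabilizer_iff.mp hg₀, hg₀β] at hr'
  set r' := g₀ * r * g₀⁻¹ with hr'def
  have hEC : ∀ e ∈ E G α β, e ∈ C ∨ e * r ∈ C := fun e he => by
    by_cases hc1 : e * a = a * e
    · exact Or.inl ⟨he, h.mem_E_of_comm hβ' (h.E_le_Z hαβ he) haT haQ hc1⟩
    · refine Or.inr ⟨mul_mem he (h.R_mem hr), h.mem_E_of_comm hβ' ?_ haT haQ ?_⟩
      · exact mul_mem (h.E_le_Z hαβ he) (h.R_memZ hr)
      have e1 := (hr'.2.2 e (h.E_le_Z hαβ he) a haT).resolve_left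
        fun e' => hc1 (commutatorElement_eq_one_iff_mul_comm.mp e')
      have e2 := (hr'.2.2 r (h.R_memZ hr) a haT).resolve_left
        fun e' => haβ (h.R_fix hr haT.1 (commutatorElement_eq_one_iff_mul_comm.mp e').symm)
      have he' := h.E_le_Z hαβ he
      have h1 : e * a = r' * a * e := by rw [← e1]; group
      have h2 : r * a = r' * a * r := by rw [← e2]; group
      have h3 := h.Z_comm he' (h.R_memZ hr')
      calc e * r * a = (e * r') * a * r := by rw [mul_assoc, h2]; group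
        _ = r' * (e * a) * r := by rw [h3]; group
        _ = (r' * r') * (a * (e * r)) := by rw [h1]; group
        _ = a * (e * r) := by rw [h.Z_sq (h.R_memZ hr'), one_mul]
  have hcardE : Nat.card (E G α β) = 2 * Nat.card C := card_two_mul inf_le_left (h.R_mem hr) hrC hEC
  have hcardQ : Nat.card (Q G adj α) = 2 * Nat.card (E G α β) :=
    card_two_mul (hED.trans inf_le_left) (h.Z_le_Q α hu) (fun e => huQ (hED e).2)
      fun q hq => (hdecα q hq).imp (fun e => hDE e) (fun e => hDE e)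
  have hcardT : Nat.card (T G α β) = 2 * Nat.card (Q G adj α) :=
    card_two_mul (Q_le_T hαβ) hxT hxQ fun t ht => by
      by_cases htQ : t ∈ Q G adj α
      · exact Or.inl htQ
      · exact Or.inr (h.mul_mem_Q hαβ ht htQ hxT hxQ)
  have hcardP : Nat.card (stabilizer G α) = 24 * Nat.card C := by
    have := ((T G α β).subgroupOf (stabilizer G α)).card_mul_index
    rw [Nat.card_congr (Subgroup.subgroupOfEquivOfLe (inf_le_left : T G α β ≤ _)).toEquiv, ← Subgroup.relIndex,
      h.relIndex_T hαβ] at this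
    rw [← this, hcardT, hcardQ, hcardE]; ring
  refine ⟨C, inf_le_left, hQZ, hcardE, hcardP, hcen, fun v w hv hw hvw e he1 he2 => ?_, r, hr, hrC, fun t ht => ?_⟩
  · obtain ⟨b, hbT, hbQ⟩ := SetLike.not_le_iff_exists.mp (h.not_fix hw)
    have hbv : b • v ≠ v := fun e' => hbQ (h.Q_eq_inf hw hv (Ne.symm hvw) ⟨hbT, hbT.1, e'⟩)
    have hall : ∀ g ∈ stabilizer G α, g * e = e * g := fun g hg => by
      have := h.maximal hv (H := centralizer ({e} : Set G))
        (fun t ht => mem_centralizer_singleton_iff.mpr (E_comm he1 ht).symm)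
        (mem_centralizer_singleton_iff.mpr (E_comm he2 hbT).symm) hbT.1 hbv hg
      exact mem_centralizer_singleton_iff.mp this
    have hmem : ∀ p, adj α p → e ∈ E G α p := fun p hp =>
      mem_E (Q_le_T hp (h.Z_le_Q α (h.E_le_Z hv he1))) (fun t ht => hall t ht.1) (E_sq he1)
    exact ⟨hmem β hαβ, hmem β' hβ'⟩
  · by_cases htQ : t ∈ Q G adj α
    · exact Or.inl (h.Z_sq (hQZ htQ))
    · have hq := h.mul_mem_Q hαβ hxT hxQ ht htQ
      have hxq : x * (x * t) = t := by rw [← mul_assoc, h.Z_sq hx, one_mul]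
      have h2 := h.Z_sq (hQZ hq)
      set q := x * t with hqdef
      have h3 : t * t = (q * x * q⁻¹ * x⁻¹)⁻¹ := by
        rw [← hxq, h.Z_inv hx, inv_of_sq h2]
        simp only [mul_inv_rev, h.Z_inv hx, inv_of_sq h2, mul_assoc]
      rcases hr.2.2 q (hQZ hq) x hxT with e | e <;> rw [h3, e]
      · exact Or.inl inv_one
      · exact Or.inr (h.Z_inv (h.R_memZ hr))

/-- Modulo its central part the vertex group has no element of order six. -/
theorem no_six {α β : V} (hαβ : adj α β) {C : Subgroup G} (hCE : C ≤ E G α β) (hQZ : Q G adj α ≤ Z G adj α)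
    (hcen : ∀ g ∈ stabilizer G α, ∀ c ∈ C, g * c = c * g)
    (hinf : ∀ v w, adj α v → adj α w → v ≠ w → ∀ e ∈ E G α v, e ∈ E G α w → e ∈ C)
    (hEC : ∀ v r, R G adj α v r → ∀ e ∈ E G α v, e ∈ C ∨ e * r ∈ C)
    {s y : G} (hs : s ∈ stabilizer G α) (hy : y ∈ stabilizer G α) (hsy : s * y = y * s)
    (hs2 : s * s ∈ C) (hy3 : y * y * y ∈ C) (hsC : s ∉ C) (hyC : y ∉ C) {r : G} (hr : R G adj α β r) : False := by
  have hCQ : ∀ c ∈ C, c ∈ Q G adj α := fun c hc => h.Z_le_Q α (h.E_le_Z hαβ (hCE hc))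
  have hy0 : ∀ v, adj α v → y • v ≠ v := by
    intro v hv e
    have hyT : y ∈ T G α v := ⟨hy, e⟩
    have h2 : y * y ∈ Q G adj α := by
      by_cases hyQ : y ∈ Q G adj α
      · exact mul_mem hyQ hyQ
      · exact h.mul_mem_Q hv hyT hyQ hyT hyQ
    have h1 : y ∈ Q G adj α := by
      have e : y = (y * y)⁻¹ * (y * y * y) := by group
      rw [e]; exact mul_mem (inv_mem h2) (hCQ _ hy3)
    have h3 := h.Z_sq (hQZ h1)
    rw [h3, one_mul] at hy3
    exact hyC hy3
  obtain ⟨w, hw, hsw⟩ : ∃ w, adj α w ∧ s • w = w := by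
    by_contra hcon
    push Not at hcon
    obtain ⟨v, hv, hvne⟩ : ∃ v, adj α v ∧ v ≠ β := h.exists_other hαβ
    have hss : ∀ p, adj α p → s • s • p = p := fun p hp => by
      rw [← mul_smul]; exact (mem_Q.mp (hCQ _ hs2)).2 p hp
    have hsβ := h.adj_fix hαβ hs
    obtain ⟨z, hz, hz1, hz2⟩ : ∃ z, adj α z ∧ z ≠ β ∧ z ≠ s • β := by
      by_cases e : v = s • β
      · obtain ⟨a, haT, haQ⟩ := SetLike.not_le_iff_exists.mp (h.not_fix hαβ)
        refine ⟨a • v, h.adj_fix hv haT.1, fun e' => hvne (MulAction.injective a (e'.trans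
          (mem_stabilizer_iff.mp haT.2).symm)), fun e' => haQ (h.Q_eq_inf hαβ hv (Ne.symm hvne) ⟨haT, haT.1, ?_⟩)⟩
        exact e'.trans e.symm
      · exact ⟨v, hv, hvne, e⟩
    rcases h.three_eq hαβ hsβ hz (Ne.symm (hcon β hαβ)) (Ne.symm hz1) (Ne.symm hz2) (h.adj_fix hz hs) with e | e | e
    · exact hz2 (by rw [← e, hss z hz])
    · exact hz1 (MulAction.injective s e)
    · exact hcon z hz e
  have hsyw : s • y • w = y • w := by rw [← mul_smul, hsy, mul_smul, hsw]
  have hsQ : s ∈ Q G adj α :=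
    h.Q_eq_inf hw (h.adj_fix hw hy) (Ne.symm (hy0 w hw)) ⟨⟨hs, hsw⟩, hs, hsyw⟩
  have hnotE : ∀ v, adj α v → s ∉ E G α v := fun v hv hsE => by
    have hall : ∀ g ∈ stabilizer G α, g * s = s * g := fun g hg => by
      have := h.maximal hv (H := centralizer ({s} : Set G))
        (fun t ht => mem_centralizer_singleton_iff.mpr (E_comm hsE ht).symm)
        (mem_centralizer_singleton_iff.mpr hsy.symm) hy (hy0 v hv) hg
      exact mem_centralizer_singleton_iff.mp this
    have hv' := h.adj_fix hv hy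
    exact hsC (hinf v _ hv hv' (Ne.symm (hy0 v hv)) s hsE
      (mem_E (Q_le_T hv' hsQ) (fun t ht => hall t ht.1) (h.Z_sq (hQZ hsQ))))
  set u2 := y • β with hu2
  have hu2adj : adj α u2 := h.adj_fix hαβ hy
  obtain ⟨r2, hr2def⟩ : ∃ r2, r2 = y * r * y⁻¹ := ⟨_, rfl⟩
  have hr2 : R G adj α u2 r2 := by
    have := h.R_smul hr y
    rwa [mem_stabilizer_iff.mp hy, ← hr2def] at this
  obtain ⟨a, haT, haQ⟩ := SetLike.not_le_iff_exists.mp (h.not_fix hαβ)
  have hau2 : a • u2 ≠ u2 := fun e => haQ (h.Q_eq_inf hαβ hu2adj (Ne.symm (hy0 β hαβ)) ⟨haT, haT.1, e⟩)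
  have hsr2 : s * r2 ∈ E G α β := by
    refine h.mem_E_of_comm hαβ (mul_mem (hQZ hsQ) (h.R_memZ hr2)) haT haQ ?_
    have e1 := (hr.2.2 s (hQZ hsQ) a haT).resolve_left fun e' => hnotE β hαβ
      (h.mem_E_of_comm hαβ (hQZ hsQ) haT haQ (commutatorElement_eq_one_iff_mul_comm.mp e'))
    have e2 := (hr.2.2 r2 (h.R_memZ hr2) a haT).resolve_left fun e' =>
      hau2 (h.R_fix hr2 haT.1 (commutatorElement_eq_one_iff_mul_comm.mp e').symm)
    have h1 : s * a = r * a * s := by rw [← e1]; group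
    have h2 : r2 * a = r * a * r2 := by rw [← e2]; group
    calc s * r2 * a = (s * r) * a * r2 := by rw [mul_assoc, h2]; group
      _ = r * (s * a) * r2 := by rw [h.Z_comm (hQZ hsQ) (h.R_memZ hr)]; group
      _ = (r * r) * (a * (s * r2)) := by rw [h1]; group
      _ = a * (s * r2) := by rw [h.Z_sq (h.R_memZ hr), one_mul]
  rcases hEC β r hr _ hsr2 with e | e
  · refine hnotE u2 hu2adj ?_
    have hc2 : s * r2 ∈ E G α u2 :=
      mem_E (Q_le_T hu2adj (hCQ _ e)) (fun t ht => hcen t ht.1 _ e) (h.Z_sq (h.E_le_Z hαβ hsr2))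
    simpa using mul_mem hc2 (inv_mem (h.R_mem hr2))
  · have hfix := hcen y hy _ e
    obtain ⟨r3, hr3def⟩ : ∃ r3, r3 = y * r2 * y⁻¹ := ⟨_, rfl⟩
    have hr3 : R G adj α (y • u2) r3 := by
      have := h.R_smul hr2 y
      rwa [mem_stabilizer_iff.mp hy, ← hr3def] at this
    have h1 : s * r2 * r = s * r3 * r2 := by
      calc s * r2 * r = y * (s * r2 * r) * y⁻¹ := by rw [hfix, mul_inv_cancel_right]
        _ = (y * s * y⁻¹) * r3 * r2 := by rw [hr3def, hr2def]; group
        _ = s * r3 * r2 := by rw [← hsy, mul_inv_cancel_right]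
    have h2 : r = r3 := by
      rw [mul_assoc, mul_assoc] at h1
      have h4 := mul_left_cancel h1
      rw [h.Z_comm (h.R_memZ hr3) (h.R_memZ hr2)] at h4
      exact mul_left_cancel h4
    have hfix2 : (y * y) * r = r * (y * y) := by
      conv_rhs => rw [h2, hr3def, hr2def]
      group
    have h3 := h.R_fix hr (mul_mem hy hy) hfix2
    have h5 : y • β = β := by
      have h6 := (mem_Q.mp (hCQ _ hy3)).2 β hαβ
      rw [mul_assoc, mul_smul, h3] at h6
      exact h6
    exact hy0 β hαβ h5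

/-- A vertex group of a critical edge is the symmetric group of degree four, possibly times a group of order two. -/
theorem vertex_iso {α β : V} (hαβ : adj α β) (hc : ¬ Z G adj α ≤ Q G adj β) :
    ∃ C : Subgroup G, C ≤ E G α β ∧ Nat.card (E G α β) = 2 * Nat.card C ∧
      (∀ g ∈ stabilizer G α, ∀ c ∈ C, g * c = c * g) ∧
      (Nat.card C = 1 → Nonempty (↥(stabilizer G α) ≃* Equiv.Perm (Fin 4))) ∧
      (Nat.card C = 2 → Nonempty (↥(stabilizer G α) ≃* Multiplicative (ZMod 2) × Equiv.Perm (Fin 4))) := by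
  classical
  obtain ⟨C, hCE, hQZ, hcardE, hcardP, hcen, hinf, r, hr, hrC, hsq⟩ := h.edge_end hαβ hc
  haveI := h.fin α
  have hEC : ∀ v r, R G adj α v r → ∀ e ∈ E G α v, e ∈ C ∨ e * r ∈ C := by
    intro v r hr e he
    obtain ⟨w, hw, hwv⟩ := h.exists_other hr.1
    obtain ⟨a, haT, haQ⟩ := SetLike.not_le_iff_exists.mp (h.not_fix hw)
    obtain ⟨g, hg, hgw⟩ := h.trans hr.1 hw
    have hr' := h.R_smul hr g
    rw [mem_stabilizer_iff.mp hg, hgw] at hr'
    have hav : a • v ≠ v := fun e' => haQ (h.Q_eq_inf hw hr.1 hwv ⟨haT, haT.1, e'⟩)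
    by_cases hc1 : e * a = a * e
    · exact Or.inl (hinf v w hr.1 hw (Ne.symm hwv) e he (h.mem_E_of_comm hw (h.E_le_Z hr.1 he) haT haQ hc1))
    · refine Or.inr (hinf v w hr.1 hw (Ne.symm hwv) _ (mul_mem he (h.R_mem hr))
        (h.mem_E_of_comm hw (mul_mem (h.E_le_Z hr.1 he) (h.R_memZ hr)) haT haQ ?_))
      have e1 := (hr'.2.2 e (h.E_le_Z hr.1 he) a haT).resolve_left
        fun e' => hc1 (commutatorElement_eq_one_iff_mul_comm.mp e')
      have e2 := (hr'.2.2 r (h.R_memZ hr) a haT).resolve_left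
        fun e' => hav (h.R_fix hr haT.1 (commutatorElement_eq_one_iff_mul_comm.mp e').symm)
      set r' := g * r * g⁻¹
      have h1 : e * a = r' * a * e := by rw [← e1]; group
      have h2 : r * a = r' * a * r := by rw [← e2]; group
      calc e * r * a = (e * r') * a * r := by rw [mul_assoc, h2]; group
        _ = r' * (e * a) * r := by rw [h.Z_comm (h.E_le_Z hr.1 he) (h.R_memZ hr')]; group
        _ = (r' * r') * (a * (e * r)) := by rw [h1]; group
        _ = a * (e * r) := by rw [h.Z_sq (h.R_memZ hr'), one_mul]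
  have hCP : C ≤ stabilizer G α := (hCE.trans (E_le_T α β)).trans inf_le_left
  set C' := C.subgroupOf (stabilizer G α) with hC'
  haveI : C'.Normal := ⟨fun c hc g => by
    have := hcen g g.2 c (mem_subgroupOf.mp hc)
    rw [mem_subgroupOf, coe_mul, coe_mul, InvMemClass.coe_inv, this, mul_inv_cancel_right]
    exact mem_subgroupOf.mp hc⟩
  have hcardC' : Nat.card C' = Nat.card C := Nat.card_congr (Subgroup.subgroupOfEquivOfLe hCP).toEquiv
  have hq : Nat.card (↥(stabilizer G α) ⧸ C') = 24 := by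
    have := C'.card_mul_index
    rw [hcardC', hcardP, Subgroup.index_eq_card, mul_comm (24 : ℕ)] at this
    haveI hfinC : Finite C := Finite.of_injective _ (Subgroup.inclusion_injective hCP)
    exact Nat.eq_of_mul_eq_mul_left Nat.card_pos this
  have h6 : ∀ g : ↥(stabilizer G α) ⧸ C', orderOf g ≠ 6 := by
    intro gq hgq
    induction gq using QuotientGroup.induction_on with | _ g => ?_
    have hmem : ∀ n : ℕ, (g : G) ^ n ∈ C ↔ 6 ∣ n := fun n => by
      rw [← hgq, orderOf_dvd_iff_pow_eq_one, ← QuotientGroup.mk_pow, QuotientGroup.eq_one_iff, hC', mem_subgroupOf,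
        SubmonoidClass.coe_pow]
    refine h.no_six hαβ hCE hQZ hcen hinf hEC (s := (g : G) ^ 3) (y := (g : G) ^ 2) (pow_mem g.2 3) (pow_mem g.2 2)
      ((Commute.refl (g : G)).pow_pow 3 2).eq ?_ ?_ ?_ ?_ hr
    · rw [← pow_add]; exact (hmem 6).mpr dvd_rfl
    · rw [← pow_add, ← pow_add]; exact (hmem 6).mpr dvd_rfl
    · exact fun e => absurd ((hmem 3).mp e) (by norm_num)
    · exact fun e => absurd ((hmem 2).mp e) (by norm_num)
  obtain ⟨ψ⟩ := S1012.result hq h6
  refine ⟨C, hCE, hcardE, hcen, fun h1 => ?_, fun h2 => ?_⟩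
  · have hbot : C' = ⊥ := Subgroup.card_eq_one.mp (hcardC'.trans h1)
    exact ⟨((QuotientGroup.quotientMulEquivOfEq hbot).trans QuotientGroup.quotientBot).symm.trans ψ⟩
  -- the central involution
  haveI : Finite C := Nat.finite_of_card_ne_zero (by omega)
  obtain ⟨c, hcC, hc1⟩ := C.bot_or_exists_ne_one.resolve_left fun e => by rw [e, card_bot] at h2; omega
  have hc2 : c * c = 1 := E_sq (hCE hcC)
  have hcT : c ∈ T G α β := E_le_T α β (hCE hcC)
  have hrT : r ∈ T G α β := E_le_T α β (h.R_mem hr)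
  have hr2 : r * r = 1 := h.Z_sq (h.R_memZ hr)
  haveI : Finite (T G α β) := Finite.of_injective _ (Subgroup.inclusion_injective (inf_le_left : T G α β ≤ stabilizer G α))
  obtain ⟨W, hWmem, hWmax⟩ : ∃ W ∈ {W : Subgroup G | W ≤ T G α β ∧ r ∈ W ∧ c ∉ W},
      ∀ W' ∈ {W : Subgroup G | W ≤ T G α β ∧ r ∈ W ∧ c ∉ W}, Nat.card W' ≤ Nat.card W := by
    have hbdd : BddAbove ((fun W : Subgroup G => Nat.card W) '' {W : Subgroup G | W ≤ T G α β ∧ r ∈ W ∧ c ∉ W}) :=
      ⟨Nat.card (T G α β), by rintro _ ⟨W, hW, rfl⟩; exact Subgroup.card_le_of_le hW.1⟩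
    have hne : ((fun W : Subgroup G => Nat.card W) '' {W : Subgroup G | W ≤ T G α β ∧ r ∈ W ∧ c ∉ W}).Nonempty := by
      refine ⟨_, zpowers r, ⟨zpowers_le.mpr hrT, mem_zpowers r, ?_⟩, rfl⟩
      rintro ⟨i, hi⟩
      replace hi : r ^ i = c := hi
      rcases Int.even_or_odd i with ⟨j, rfl⟩ | ⟨j, rfl⟩
      · refine hc1 ?_
        rw [← hi, zpow_add, ← (Commute.refl r).mul_zpow, hr2, one_zpow]
      · refine hrC ?_
        have : r ^ (2 * j + 1) = r := by rw [zpow_add, zpow_mul, zpow_two, hr2, one_zpow, one_mul, zpow_one]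
        rw [← this, hi]; exact hcC
    obtain ⟨W, hW, hWe⟩ := Nat.sSup_mem hne hbdd
    exact ⟨W, hW, fun W' hW' => (le_csSup hbdd ⟨W', hW', rfl⟩).trans hWe.ge⟩
  obtain ⟨hWT, hrW, hcW⟩ := hWmem
  have hsqW : ∀ t ∈ T G α β, t * t ∈ W := fun t ht => by
    rcases hsq t ht with e | e <;> rw [e]
    · exact one_mem _
    · exact hrW
  have hrcomm : ∀ t ∈ T G α β, t * r = r * t := fun t ht => (E_comm (h.R_mem hr) ht).symm
  have hnW : ∀ t ∈ T G α β, ∀ w ∈ W, t * w * t⁻¹ ∈ W := fun t ht w hw => by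
    have hwT := hWT hw
    have e : t * w * t⁻¹ = (t * w * (t * w)) * (w⁻¹ * (t⁻¹ * t⁻¹) * w) * (w⁻¹ * w⁻¹) * w := by group
    rw [e]
    refine mul_mem (mul_mem (mul_mem (hsqW _ (mul_mem ht hwT)) ?_) (hsqW _ (inv_mem hwT))) hw
    rcases hsq _ (inv_mem ht) with e' | e' <;> rw [e']
    · simp
    · exact mul_mem (mul_mem (inv_mem hw) hrW) hw
  have hsplit : ∀ t ∈ T G α β, t ∈ W ∨ t * c ∈ W := fun t ht => by
    by_cases htW : t ∈ W
    · exact Or.inl htW
    right
    let H : Subgroup G :=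
      { carrier := {g | g ∈ W ∨ g * t ∈ W}
        one_mem' := Or.inl (one_mem _)
        mul_mem' := by
          intro a b ha hb
          rcases ha with ha | ha <;> rcases hb with hb | hb
          · exact Or.inl (mul_mem ha hb)
          · right
            rw [mul_assoc]; exact mul_mem ha hb
          · right
            have e : a * b * t = (a * t) * (t⁻¹ * b * t) := by group
            rw [e]
            refine mul_mem ha ?_
            simpa using hnW t⁻¹ (inv_mem ht) b hb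
          · left
            have e : a * b = (a * t) * (t⁻¹ * (b * t) * t) * (t * t)⁻¹ := by group
            rw [e]
            refine mul_mem (mul_mem ha ?_) (inv_mem (hsqW t ht))
            simpa using hnW t⁻¹ (inv_mem ht) _ hb
        inv_mem' := by
          intro a ha
          rcases ha with ha | ha
          · exact Or.inl (inv_mem ha)
          · right
            have e : a⁻¹ * t = t * (a * t)⁻¹ * t⁻¹ * (t * t) := by group
            rw [e]
            exact mul_mem (hnW t ht _ (inv_mem ha)) (hsqW t ht) }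
    have hHT : H ≤ T G α β := fun g hg => by
      rcases hg with hg | hg
      · exact hWT hg
      · simpa using mul_mem (hWT hg) (inv_mem ht)
    have hWH : W ≤ H := fun g hg => Or.inl hg
    have htH : t ∈ H := Or.inr (hsqW t ht)
    by_contra hct
    have hcH : c ∉ H := fun hc' => by
      rcases hc' with hc' | hc'
      · exact hcW hc'
      · exact hct (by rwa [← hcen t ht.1 c hcC] at hc')
    haveI : Finite H := Finite.of_injective _ (Subgroup.inclusion_injective hHT)
    have := Subgroup.eq_of_le_of_card_ge hWH (hWmax H ⟨hHT, hWH hrW, hcH⟩)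
    exact htW (this ▸ htH)
  set g1 : Multiplicative (ZMod 2) := Multiplicative.ofAdd 1 with hg1
  have hg12 : g1 * g1 = 1 := by rw [hg1]; decide
  have hg1ne : g1 ≠ 1 := by rw [hg1]; decide
  set T' := (T G α β).subgroupOf (stabilizer G α) with hT'
  let φ : T' →* Multiplicative (ZMod 2) :=
    MonoidHom.mk' (fun t => if ((t : ↥(stabilizer G α)) : G) ∈ W then 1 else g1) (by
      rintro ⟨⟨a, haP⟩, ha⟩ ⟨⟨b, hbP⟩, hb⟩
      have haT : a ∈ T G α β := ha
      have hbT : b ∈ T G α β := hb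
      simp only [MulMemClass.coe_mul]
      by_cases h1 : a ∈ W <;> by_cases h3 : b ∈ W
      · simp [h1, h3, mul_mem h1 h3]
      · have h5 : a * b ∉ W := fun e => h3 (by simpa using mul_mem (inv_mem h1) e)
        simp [h1, h3, h5]
      · have h5 : a * b ∉ W := fun e => h1 (by simpa using mul_mem e (inv_mem h3))
        simp [h1, h3, h5]
      · have ha' := (hsplit a haT).resolve_left h1
        have hb' := (hsplit b hbT).resolve_left h3
        have h5 : a * b ∈ W := by
          have e : a * b = (a * c) * (b * c) := by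
            calc a * b = a * b * (c * c) := by rw [hc2, mul_one]
              _ = a * (b * c) * c := by group
              _ = a * (c * b) * c := by rw [hcen b hbT.1 c hcC]
              _ = _ := by group
          rw [e]; exact mul_mem ha' hb'
        simp [h1, h3, h5, hg12])
  haveI : T'.FiniteIndex := Subgroup.finiteIndex_of_finite
  let f : ↥(stabilizer G α) →* Multiplicative (ZMod 2) := φ.transfer
  have hidx : T'.index = 3 := h.relIndex_T hαβ
  set cP : ↥(stabilizer G α) := ⟨c, hCP hcC⟩ with hcP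
  have hfc : f cP = g1 := by
    have key : ∀ (k : ℕ) (g₀ : ↥(stabilizer G α)), g₀⁻¹ * cP ^ k * g₀ ∈ T' → g₀⁻¹ * cP ^ k * g₀ = cP ^ k := by
      intro k g₀ _
      have hcc : Commute g₀ cP := Subtype.ext (hcen g₀ g₀.2 c hcC)
      rw [mul_assoc, ← (hcc.pow_right k).eq, inv_mul_cancel_left]
    show φ.transfer cP = g1
    rw [MonoidHom.transfer_eq_pow φ cP key]
    show (if ((cP ^ T'.index : ↥(stabilizer G α)) : G) ∈ W then (1 : Multiplicative (ZMod 2)) else g1) = g1
    rw [hidx, SubmonoidClass.coe_pow, if_neg]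
    intro e
    apply hcW
    have e3 : c ^ 3 = c := by rw [pow_succ, pow_two, hc2, one_mul]
    exact e3 ▸ e
  let F : ↥(stabilizer G α) →* Multiplicative (ZMod 2) × Equiv.Perm (Fin 4) :=
    f.prod (ψ.toMonoidHom.comp (QuotientGroup.mk' C'))
  have hinj : Function.Injective F := by
    rw [← MonoidHom.ker_eq_bot_iff, eq_bot_iff]
    intro g hg
    rw [MonoidHom.mem_ker] at hg
    obtain ⟨hg1', hg2⟩ := Prod.ext_iff.mp hg
    have hgC : g ∈ C' := by
      rw [← QuotientGroup.eq_one_iff]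
      exact ψ.injective (hg2.trans (map_one ψ).symm)
    rw [mem_bot]
    obtain ⟨x, y, hxy, huniv⟩ := Nat.card_eq_two_iff.mp h2
    have key : (⟨g, mem_subgroupOf.mp hgC⟩ : C) = 1 ∨ (⟨g, mem_subgroupOf.mp hgC⟩ : C) = ⟨c, hcC⟩ := by
      have hne : (1 : C) ≠ ⟨c, hcC⟩ := fun e => hc1 (congrArg Subtype.val e).symm
      have e1 := Set.eq_univ_iff_forall.1 huniv (1 : C)
      have e2 := Set.eq_univ_iff_forall.1 huniv (⟨c, hcC⟩ : C)
      have e3 := Set.eq_univ_iff_forall.1 huniv (⟨g, mem_subgroupOf.mp hgC⟩ : C)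
      simp only [Set.mem_insert_iff, Set.mem_singleton_iff] at e1 e2 e3
      rcases e1 with e1 | e1 <;> rcases e2 with e2 | e2 <;> rcases e3 with e3 | e3 <;> simp_all
    rcases key with e | e
    · exact Subtype.ext (congrArg Subtype.val e : (g : G) = 1)
    · exfalso
      have : g = cP := Subtype.ext (congrArg Subtype.val e : (g : G) = c)
      rw [this] at hg1'
      exact hg1ne (hfc.symm.trans hg1')
  refine ⟨MulEquiv.ofBijective F ((Nat.bijective_iff_injective_and_card F).mpr ⟨hinj, ?_⟩)⟩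
  rw [hcardP, h2, Nat.card_prod, Nat.card_congr Multiplicative.toAdd, Nat.card_zmod, Nat.card_perm, Nat.card_fin]
  rfl

/-- Both vertex groups of some edge are `S₄`, or both are `2 × S₄`. -/
theorem main [Nonempty V] : ∃ α β, adj α β ∧
    ((Nonempty (↥(stabilizer G α) ≃* Equiv.Perm (Fin 4)) ∧ Nonempty (↥(stabilizer G β) ≃* Equiv.Perm (Fin 4))) ∨
     (Nonempty (↥(stabilizer G α) ≃* Multiplicative (ZMod 2) × Equiv.Perm (Fin 4)) ∧
      Nonempty (↥(stabilizer G β) ≃* Multiplicative (ZMod 2) × Equiv.Perm (Fin 4)))) := by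
  obtain ⟨α, β, hαβ, hc⟩ := h.exists_critical_edge
  have hlow : Low G adj 1 := fun m hm u v huv => by
    obtain rfl : m = 0 := by omega
    cases huv
    exact h.Z_le_Q u
  obtain ⟨hc', -⟩ := h.crit_main (k := 0) hlow ⟨wk_one hαβ, hc⟩ hαβ rfl
  obtain ⟨A, hAE, hAcard, hAcen, hA1, hA2⟩ := h.vertex_iso hαβ hc
  obtain ⟨B, hBE, hBcard, hBcen, hB1, hB2⟩ := h.vertex_iso (h.symm hαβ) hc'.2
  rw [E_symm (G := G) β α] at hBE hBcard
  have hAB : A ⊓ B = ⊥ := h.eq_bot_of_fixed hαβ ((inf_le_left.trans hAE).trans (E_le_T α β))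
    (fun g hg n hn => hAcen g hg n hn.1) (fun g hg n hn => hBcen g hg n hn.2)
  haveI := h.fin α
  haveI hfinE : Finite (E G α β) :=
    Finite.of_injective _ (Subgroup.inclusion_injective ((E_le_T α β).trans (inf_le_left : T G α β ≤ stabilizer G α)))
  haveI : Finite A := Finite.of_injective _ (Subgroup.inclusion_injective hAE)
  haveI : Finite B := Finite.of_injective _ (Subgroup.inclusion_injective hBE)
  have hle : Nat.card (A × B) ≤ Nat.card (E G α β) := by
    refine Nat.card_le_card_of_injective (fun p => ⟨p.1 * p.2, mul_mem (hAE p.1.2) (hBE p.2.2)⟩) ?_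
    rintro ⟨a, b⟩ ⟨a', b'⟩ e
    have e' : (a : G) * b = a' * b' := congrArg Subtype.val e
    have h1 : (a' : G)⁻¹ * a ∈ A ⊓ B := by
      refine ⟨A.mul_mem (A.inv_mem a'.2) a.2, ?_⟩
      have : (a' : G)⁻¹ * a = b' * (b : G)⁻¹ := by
        rw [eq_mul_inv_iff_mul_eq, mul_assoc, e', inv_mul_cancel_left]
      rw [this]; exact B.mul_mem b'.2 (B.inv_mem b.2)
    rw [hAB, mem_bot, inv_mul_eq_one] at h1
    rw [h1] at e'
    exact Prod.ext (Subtype.ext h1.symm) (Subtype.ext (mul_left_cancel e'))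
  rw [Nat.card_prod] at hle
  have hA0 : 0 < Nat.card A := Nat.card_pos
  have heq : Nat.card B = Nat.card A := by omega
  have hA2' : Nat.card A ≤ 2 := by rw [heq, hAcard] at hle; exact Nat.le_of_mul_le_mul_right hle hA0
  refine ⟨α, β, hαβ, ?_⟩
  rcases (show Nat.card A = 1 ∨ Nat.card A = 2 by omega) with e | e
  · exact Or.inl ⟨hA1 e, hB1 (heq.trans e)⟩
  · exact Or.inr ⟨hA2 e, hB2 (heq.trans e)⟩

end Hyp

end Cfsg.Agent.Invol.S4Am
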