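import Cfsg.Agent.Lib.Invol.S4AmalgamBasic

/-!
# The critical distance in a cubic graph with moved edge centres is one
-/

set_option autoImplicit false

namespace Cfsg.Agent.Invol.S4Am

open MulAction Subgroup
open Amal (cj omZ)

variable {G V : Type*} [Group G] [MulAction G V] {adj : V → V → Prop}

theorem le_normalizer_closure {H : Subgroup G} {s : Set G} (h : ∀ g ∈ H, ∀ x ∈ s, g * x * g⁻¹ ∈ closure s) :
    H ≤ normalizer (closure s : Set G) := by
  have key : ∀ g ∈ H, ∀ x ∈ closure s, g * x * g⁻¹ ∈ closure s := by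
    intro g hg x hx
    induction hx using closure_induction with
    | mem x hx => exact h g hg x hx
    | one => simp
    | mul a b _ _ iha ihb => simpa [mul_assoc] using mul_mem iha ihb
    | inv a _ iha => simpa [mul_assoc] using inv_mem iha
  intro g hg
  rw [mem_normalizer_iff]
  refine fun x => ⟨key g hg x, fun hx => ?_⟩
  simpa [mul_assoc] using key g⁻¹ (inv_mem hg) _ hx

theorem le_normalizer_of_conj {H K : Subgroup G} (h : ∀ g ∈ H, ∀ x ∈ K, g * x * g⁻¹ ∈ K) :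
    H ≤ normalizer (K : Set G) := by
  intro g hg
  rw [mem_normalizer_iff]
  refine fun x => ⟨h g hg x, fun hx => ?_⟩
  simpa [mul_assoc] using h g⁻¹ (inv_mem hg) _ hx

theorem normalizer_sup {g : G} {A B : Subgroup G} (hA : g ∈ normalizer (A : Set G)) (hB : g ∈ normalizer (B : Set G)) :
    g ∈ normalizer ((A ⊔ B : Subgroup G) : Set G) := by
  have key : ∀ k, k ∈ normalizer (A : Set G) → k ∈ normalizer (B : Set G) → ∀ x ∈ A ⊔ B, k * x * k⁻¹ ∈ A ⊔ B := by
    intro k hkA hkB x hx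
    have h1 : (A ⊔ B).map (MulAut.conj k).toMonoidHom ≤ A ⊔ B := by
      rw [Subgroup.map_sup]
      refine sup_le_sup ?_ ?_
      · rintro _ ⟨a, ha, rfl⟩; exact (mem_normalizer_iff.mp hkA a).mp ha
      · rintro _ ⟨a, ha, rfl⟩; exact (mem_normalizer_iff.mp hkB a).mp ha
    exact h1 ⟨x, hx, rfl⟩
  rw [mem_normalizer_iff]
  refine fun x => ⟨key g hA hB x, fun hx => ?_⟩
  simpa [mul_assoc] using key g⁻¹ (inv_mem hA) (inv_mem hB) _ hx

/-- The squares of a subgroup. -/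
def sqC (S : Subgroup G) : Subgroup G := closure {x | ∃ s ∈ S, x = s * s}

theorem sq_mem_sqC {S : Subgroup G} {s : G} (hs : s ∈ S) : s * s ∈ sqC S := subset_closure ⟨s, hs, rfl⟩

theorem sqC_le (S : Subgroup G) : sqC S ≤ S :=
  (closure_le _).mpr fun _ ⟨_, hs, e⟩ => e ▸ mul_mem hs hs

theorem le_normalizer_sqC {H S : Subgroup G} (h : H ≤ normalizer (S : Set G)) : H ≤ normalizer (sqC S : Set G) :=
  le_normalizer_closure fun g hg _ ⟨s, hs, e⟩ =>
    subset_closure ⟨g * s * g⁻¹, (mem_normalizer_iff.mp (h hg) s).mp hs, by rw [e]; group⟩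

/-- The only nontrivial commutator of the centres at a vertex with the stabilizer of an edge. -/
def R (G : Type*) [Group G] {V : Type*} [MulAction G V] (adj : V → V → Prop) (v u : V) (r : G) : Prop :=
  adj v u ∧ r ≠ 1 ∧ ∀ z ∈ Z G adj v, ∀ t ∈ T G v u, z * t * z⁻¹ * t⁻¹ = 1 ∨ z * t * z⁻¹ * t⁻¹ = r

/-- `Z v` and the centre of any neighbour generate a normal subgroup of the stabilizer of `v`. -/
def NA (G : Type*) [Group G] {V : Type*} [MulAction G V] (adj : V → V → Prop) (v : V) : Prop :=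
  ∀ u, adj v u → stabilizer G v ≤ normalizer ((Z G adj v ⊔ Z G adj u : Subgroup G) : Set G)

/-- The commutators from the neighbours are central in the stabilizer of `v`. -/
def NB (G : Type*) [Group G] {V : Type*} [MulAction G V] (adj : V → V → Prop) (v : V) : Prop :=
  ∀ u r, R G adj u v r → ∀ g ∈ stabilizer G v, g * r = r * g

/-- A walk of given length. -/
def Wk (adj : V → V → Prop) : ℕ → V → V → Prop
  | 0, u, v => u = v
  | n + 1, u, v => ∃ w, adj u w ∧ Wk adj n w v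

theorem wk_one {u v : V} (huv : adj u v) : Wk adj 1 u v := ⟨v, huv, rfl⟩

theorem wk_snoc : ∀ {n : ℕ} {u v w : V}, Wk adj n u v → adj v w → Wk adj (n + 1) u w
  | 0, _, _, w, h, hvw => by cases h; exact ⟨w, hvw, rfl⟩
  | _ + 1, _, _, _, ⟨x, hx, hr⟩, hvw => ⟨x, hx, wk_snoc hr hvw⟩

theorem wk_last : ∀ {n : ℕ} {u w : V}, Wk adj (n + 1) u w → ∃ v, Wk adj n u v ∧ adj v w
  | 0, u, _, ⟨x, hx, hr⟩ => by cases hr; exact ⟨u, rfl, hx⟩
  | _ + 1, _, _, ⟨x, hx, hr⟩ => by
    obtain ⟨v, hv, hvw⟩ := wk_last hr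
    exact ⟨v, ⟨x, hx, hv⟩, hvw⟩

/-- All shorter walks are harmless. -/
def Low (G : Type*) [Group G] {V : Type*} [MulAction G V] (adj : V → V → Prop) (b : ℕ) : Prop :=
  ∀ m < b, ∀ u v, Wk adj m u v → Z G adj u ≤ Q G adj v

/-- A critical pair. -/
def Crit (G : Type*) [Group G] {V : Type*} [MulAction G V] (adj : V → V → Prop) (b : ℕ) (u v : V) : Prop :=
  Wk adj b u v ∧ ¬ Z G adj u ≤ Q G adj v

namespace Hyp

variable (h : Hyp G adj)
include h

theorem wk_symm : ∀ {n : ℕ} {u v : V}, Wk adj n u v → Wk adj n v u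
  | 0, _, _, e => e.symm
  | _ + 1, _, _, ⟨_, hx, hr⟩ => wk_snoc (wk_symm hr) (h.symm hx)

theorem wk_orbit : ∀ {n : ℕ} {u v : V}, Wk adj n u v →
    (Even n → ∃ g : G, g • u = v) ∧ (¬ Even n → ∀ w, adj u w → ∃ g : G, g • w = v)
  | 0, u, _, e => ⟨fun _ => ⟨1, by rw [one_smul]; exact e⟩, fun hn => absurd Even.zero hn⟩
  | n + 1, u, v, ⟨x, hx, hr⟩ => by
    obtain ⟨he, ho⟩ := wk_orbit hr
    refine ⟨fun hn => ho (Nat.even_add_one.mp hn) u (h.symm hx), fun hn w hw => ?_⟩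
    obtain ⟨g, hg⟩ := he (by rwa [Nat.even_add_one, not_not] at hn)
    obtain ⟨k, -, hk⟩ := h.trans hw hx
    exact ⟨g * k, by rw [mul_smul, hk, hg]⟩

theorem adj_fix {v u : V} (hvu : adj v u) {g : G} (hg : g ∈ stabilizer G v) : adj v (g • u) := by
  have := h.smul_adj g hvu
  rwa [mem_stabilizer_iff.mp hg] at this

theorem R_smul {v u : V} {r : G} (hr : R G adj v u r) (g : G) : R G adj (g • v) (g • u) (g * r * g⁻¹) := by
  refine ⟨h.smul_adj g hr.1, fun e => hr.2.1 (conj_eq_one_iff.mp e), fun z hz t ht => ?_⟩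
  rw [h.Z_smul] at hz
  rw [T_smul] at ht
  obtain ⟨z, hz, rfl⟩ := hz
  obtain ⟨t, ht, rfl⟩ := ht
  have e : (MulAut.conj g).toMonoidHom z * (MulAut.conj g).toMonoidHom t * ((MulAut.conj g).toMonoidHom z)⁻¹ *
      ((MulAut.conj g).toMonoidHom t)⁻¹ = g * (z * t * z⁻¹ * t⁻¹) * g⁻¹ := by
    simp only [MulEquiv.coe_toMonoidHom, MulAut.conj_apply]; group
  rw [e]
  rcases hr.2.2 z hz t ht with e' | e' <;> rw [e']
  · exact Or.inl (by group)
  · exact Or.inr rfl

theorem exists_noncomm {v u : V} (hvu : adj v u) :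
    ∃ z ∈ Z G adj v, ∃ a ∈ T G v u, a ∉ Q G adj v ∧ z * a * z⁻¹ * a⁻¹ ≠ 1 := by
  obtain ⟨a, haT, haQ⟩ := SetLike.not_le_iff_exists.mp (h.not_fix hvu)
  by_contra hcon
  push Not at hcon
  refine haQ (h.mem_Q_of_comm haT.1 fun z hz => ?_)
  have := commutatorElement_eq_one_iff_mul_comm.mp (hcon z hz a haT haQ)
  exact this.symm

theorem R_unique {v u : V} {r r' : G} (hr : R G adj v u r) (hr' : R G adj v u r') : r = r' := by
  obtain ⟨z, hz, a, ha, -, hne⟩ := h.exists_noncomm hr.1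
  exact (((hr.2.2 z hz a ha).resolve_left hne).symm.trans ((hr'.2.2 z hz a ha).resolve_left hne))

theorem R_mem {v u : V} {r : G} (hr : R G adj v u r) : r ∈ E G v u := by
  obtain ⟨z, hz, a, ha, haQ, hne⟩ := h.exists_noncomm hr.1
  have e := (hr.2.2 z hz a ha).resolve_left hne
  have hz' : a * z * a⁻¹ ∈ Z G adj v := h.Z_fix ha.1 hz
  have hrz : r = z * (a * z * a⁻¹) := by
    rw [← e, h.Z_inv hz]; group
  refine h.mem_E_of_comm hr.1 (hrz ▸ mul_mem hz hz') ha haQ ?_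
  have h2 : a * a ∈ Q G adj v := h.mul_mem_Q hr.1 ha haQ ha haQ
  rw [hrz]
  calc z * (a * z * a⁻¹) * a = z * a * z := by group
    _ = a * a⁻¹ * z * a * z := by group
    _ = a * ((a⁻¹ * z * a) * z) := by group
    _ = a * ((a * z * a⁻¹) * z) := by
      have h3 := h.comm_Q hz h2
      rw [show a⁻¹ * z * a = a⁻¹ * (z * (a * a)) * a⁻¹ by group, h3]; group
    _ = a * (z * (a * z * a⁻¹)) := by rw [h.Z_comm hz hz']

theorem R_memZ {v u : V} {r : G} (hr : R G adj v u r) : r ∈ Z G adj v := h.E_le_Z hr.1 (h.R_mem hr)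

/-- Only the edge stabilizer centralizes the commutator of an edge. -/
theorem R_fix {v u : V} {r : G} (hr : R G adj v u r) {g : G} (hg : g ∈ stabilizer G v) (hc : g * r = r * g) :
    g • u = u := by
  by_contra hne
  have hcen : ∀ k ∈ stabilizer G v, k * r = r * k := by
    intro k hk
    have := h.maximal hr.1 (H := centralizer ({r} : Set G)) (fun t ht => mem_centralizer_singleton_iff.mpr
      (E_comm (h.R_mem hr) ht).symm) (mem_centralizer_singleton_iff.mpr hc) hg hne hk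
    exact mem_centralizer_singleton_iff.mp this
  have hvw := h.adj_fix hr.1 hg
  set w := g • u with hw
  have hrw : R G adj v w r := by
    have := h.R_smul hr g
    rwa [mem_stabilizer_iff.mp hg, hc, mul_inv_cancel_right, ← hw] at this
  obtain ⟨a, haT, haQ⟩ := SetLike.not_le_iff_exists.mp (h.not_fix hr.1)
  obtain ⟨b, hbT, hbQ⟩ := SetLike.not_le_iff_exists.mp (h.not_fix hvw)
  have hb' : b • u ≠ u := fun e => hbQ (h.Q_eq_inf hvw hr.1 hne ⟨hbT, hbT.1, e⟩)
  have ha' : a • w ≠ w := fun e => haQ (h.Q_eq_inf hr.1 hvw (Ne.symm hne) ⟨haT, haT.1, e⟩)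
  -- the two conjugates fix the third neighbour
  have hq : (b * a * b⁻¹) * (a * b * a⁻¹)⁻¹ ∈ Q G adj v := by
    have hbu : adj v (b • u) := h.adj_fix hr.1 hbT.1
    have h1 : b * a * b⁻¹ ∈ T G v (b • u) := by
      have := T_smul (G := G) b v u
      rw [mem_stabilizer_iff.mp hbT.1] at this
      rw [this]; exact ⟨a, haT, rfl⟩
    have h1' : b * a * b⁻¹ ∉ Q G adj v := fun e => haQ (by
      simpa [mul_assoc] using h.Q_conj (g := b⁻¹) (inv_smul_eq_iff.mpr (mem_stabilizer_iff.mp hbT.1).symm) e)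
    have heq : a • w = b • u := by
      by_contra hne2
      classical
      haveI : Finite {x // adj v x} := Nat.finite_of_card_ne_zero (by rw [h.three v]; norm_num)
      haveI := Fintype.ofFinite {x // adj v x}
      have e1 : b • u ≠ w := fun e => hne (MulAction.injective b (e.trans (mem_stabilizer_iff.mp hbT.2).symm)).symm
      have e2 : a • w ≠ u := fun e => hne (MulAction.injective a (e.trans (mem_stabilizer_iff.mp haT.2).symm))
      have : ({⟨u, hr.1⟩, ⟨w, hvw⟩, ⟨b • u, hbu⟩, ⟨a • w, h.adj_fix hvw haT.1⟩} : Finset {x // adj v x}).card ≤ 3 := by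
        refine (Finset.card_le_univ _).trans ?_
        rw [← Nat.card_eq_fintype_card, h.three v]
      rw [Finset.card_insert_of_notMem (by simp [Ne.symm hne, Ne.symm hb', Ne.symm e2]),
        Finset.card_insert_of_notMem (by simp [Ne.symm e1, Ne.symm ha']),
        Finset.card_insert_of_notMem (by simp [Ne.symm hne2]), Finset.card_singleton] at this
      omega
    have h2 : a * b * a⁻¹ ∈ T G v (b • u) := by
      have := T_smul (G := G) a v w
      rw [mem_stabilizer_iff.mp haT.1, heq] at this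
      rw [this]; exact ⟨b, hbT, rfl⟩
    have h2' : a * b * a⁻¹ ∉ Q G adj v := fun e => hbQ (by
      simpa [mul_assoc] using h.Q_conj (g := a⁻¹) (inv_smul_eq_iff.mpr (mem_stabilizer_iff.mp haT.1).symm) e)
    exact h.div_mem_Q hbu h1 h1' h2 h2'
  have key : a * b⁻¹ ∈ Q G adj v := by
    refine h.mem_Q_of_comm (mul_mem haT.1 (inv_mem hbT.1)) fun z hz => ?_
    set e1 := z * a * z⁻¹ * a⁻¹ with he1
    set e2 := z * b * z⁻¹ * b⁻¹ with he2
    have hc1 : ∀ k ∈ stabilizer G v, k * e1 = e1 * k := by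
      intro k hk
      rcases hr.2.2 z hz a haT with e | e <;> rw [← he1] at e <;> rw [e]
      · group
      · exact hcen k hk
    have hc2 : ∀ k ∈ stabilizer G v, k * e2 = e2 * k := by
      intro k hk
      rcases hrw.2.2 z hz b hbT with e | e <;> rw [← he2] at e <;> rw [e]
      · group
      · exact hcen k hk
    have za : z * a * z⁻¹ = e1 * a := by rw [he1]; group
    have zb : z * b * z⁻¹ = e2 * b := by rw [he2]; group
    set q := (b * a * b⁻¹) * (a * b * a⁻¹)⁻¹ with hqdef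
    have zq : z * q * z⁻¹ = q := by rw [h.comm_Q hz hq, mul_inv_cancel_right]
    have c1 : z * (b * a * b⁻¹) * z⁻¹ = e1 * (b * a * b⁻¹) := by
      calc z * (b * a * b⁻¹) * z⁻¹ = (z * b * z⁻¹) * (z * a * z⁻¹) * (z * b * z⁻¹)⁻¹ := by group
        _ = e2 * (b * e1) * a * b⁻¹ * e2⁻¹ := by rw [za, zb]; group
        _ = (e2 * e1) * (b * a * b⁻¹) * e2⁻¹ := by rw [hc1 b hbT.1]; group
        _ = (e2 * e1) * ((b * a * b⁻¹) * e2⁻¹) := by group
        _ = (e2 * e1) * (e2⁻¹ * (b * a * b⁻¹)) := by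
          have := hc2 (b * a * b⁻¹) (mul_mem (mul_mem hbT.1 haT.1) (inv_mem hbT.1))
          rw [(Commute.inv_right this).eq]
        _ = e1 * (b * a * b⁻¹) := by
          have := hc2 e1 ?_
          · rw [← mul_assoc (e2 * e1), ← this]; group
          · rw [he1]
            exact mul_mem (mul_mem (mul_mem (h.Z_le_stab v hz) haT.1) (inv_mem (h.Z_le_stab v hz))) (inv_mem haT.1)
    have c2 : z * (a * b * a⁻¹) * z⁻¹ = e2 * (a * b * a⁻¹) := by
      calc z * (a * b * a⁻¹) * z⁻¹ = (z * a * z⁻¹) * (z * b * z⁻¹) * (z * a * z⁻¹)⁻¹ := by group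
        _ = e1 * (a * e2) * b * a⁻¹ * e1⁻¹ := by rw [za, zb]; group
        _ = (e1 * e2) * (a * b * a⁻¹) * e1⁻¹ := by rw [hc2 a haT.1]; group
        _ = (e1 * e2) * ((a * b * a⁻¹) * e1⁻¹) := by group
        _ = (e1 * e2) * (e1⁻¹ * (a * b * a⁻¹)) := by
          have := hc1 (a * b * a⁻¹) (mul_mem (mul_mem haT.1 hbT.1) (inv_mem haT.1))
          rw [(Commute.inv_right this).eq]
        _ = e2 * (a * b * a⁻¹) := by
          have := hc1 e2 ?_
          · rw [← mul_assoc (e1 * e2), ← this]; group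
          · rw [he2]
            exact mul_mem (mul_mem (mul_mem (h.Z_le_stab v hz) hbT.1) (inv_mem (h.Z_le_stab v hz))) (inv_mem hbT.1)
    have heq : e1 = e2 := by
      have h3 : b * a * b⁻¹ = q * (a * b * a⁻¹) := by rw [hqdef]; group
      have h4 : z * (b * a * b⁻¹) * z⁻¹ = q * (e2 * (a * b * a⁻¹)) := by
        calc z * (b * a * b⁻¹) * z⁻¹ = (z * q * z⁻¹) * (z * (a * b * a⁻¹) * z⁻¹) := by rw [h3]; group
          _ = _ := by rw [zq, c2]
      have h5 : e1 * (b * a * b⁻¹) = e2 * (b * a * b⁻¹) := by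
        rw [← c1, h4, h3, ← mul_assoc, hc2 q (Q_le v hq), mul_assoc]
      exact mul_right_cancel h5
    have : z * (a * b⁻¹) * z⁻¹ = a * b⁻¹ := by
      calc z * (a * b⁻¹) * z⁻¹ = (z * a * z⁻¹) * (z * b * z⁻¹)⁻¹ := by group
        _ = e2 * ((a * b⁻¹) * e2⁻¹) := by rw [za, zb, heq]; group
        _ = a * b⁻¹ := by
          rw [(Commute.inv_right (hc2 (a * b⁻¹) (mul_mem haT.1 (inv_mem hbT.1)))).eq, mul_inv_cancel_left]
    exact ((mul_inv_eq_iff_eq_mul.mp this)).symm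
  have hu := (mem_Q.mp key).2 u hr.1
  rw [mul_smul] at hu
  refine hb' ?_
  have h5 : b⁻¹ • u = u := MulAction.injective a (hu.trans (mem_stabilizer_iff.mp haT.2).symm)
  exact (inv_smul_eq_iff.mp h5).symm

theorem NA_smul {v : V} (hA : NA G adj v) (g : G) : NA G adj (g • v) := by
  intro u hu k hk
  have hu' : adj v (g⁻¹ • u) := by simpa using h.smul_adj g⁻¹ hu
  have hk' : g⁻¹ * k * g ∈ stabilizer G v := mem_stabilizer_iff.mpr (by
    rw [mul_smul, mul_smul, mem_stabilizer_iff.mp hk, inv_smul_smul])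
  have key := hA _ hu' hk'
  have e : Z G adj (g • v) ⊔ Z G adj u = cj g (Z G adj v ⊔ Z G adj (g⁻¹ • u)) := by
    rw [cj, Subgroup.map_sup, ← cj, ← cj, ← h.Z_smul, ← h.Z_smul, smul_inv_smul]
  rw [e]
  rw [mem_normalizer_iff] at key ⊢
  intro x
  rw [Amal.mem_cj, Amal.mem_cj, key]
  refine Iff.of_eq (congrArg (· ∈ _) ?_)
  group

theorem NA_of_one {v u : V} (hvu : adj v u) {x : G} (hx : x ∈ stabilizer G v) (hxu : x • u ≠ u)
    (hn : x ∈ normalizer ((Z G adj v ⊔ Z G adj u : Subgroup G) : Set G)) : NA G adj v := by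
  have h1 : stabilizer G v ≤ normalizer ((Z G adj v ⊔ Z G adj u : Subgroup G) : Set G) :=
    h.maximal hvu (fun t ht => normalizer_sup (h.Z_normalized ht.1) (h.Z_normalized ht.2)) hn hx hxu
  intro w hw
  obtain ⟨g, hg, rfl⟩ := h.trans hvu hw
  have e : Z G adj v ⊔ Z G adj (g • u) = Z G adj v ⊔ Z G adj u := by
    have e1 : Z G adj v ⊔ Z G adj (g • u) = cj g (Z G adj v ⊔ Z G adj u) := by
      rw [cj, Subgroup.map_sup, ← cj, ← cj, ← h.Z_smul, ← h.Z_smul, mem_stabilizer_iff.mp hg]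
    rw [e1]
    ext y
    rw [Amal.mem_cj]
    have := mem_normalizer_iff.mp (h1 (inv_mem hg)) y
    rw [inv_inv] at this
    exact this.symm
  rwa [e]

theorem NA_inf {v u : V} (hA : NA G adj v) (hvu : adj v u) :
    stabilizer G v ≤ normalizer ((Q G adj v ⊓ Q G adj u : Subgroup G) : Set G) := by
  refine le_normalizer_of_conj fun g hg q hq => ⟨h.Q_conj (mem_stabilizer_iff.mp hg) hq.1, ?_⟩
  have h1 : g * q * g⁻¹ ∈ Q G adj v := h.Q_conj (mem_stabilizer_iff.mp hg) hq.1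
  refine h.mem_Q_of_comm (Q_le_stab hvu h1) fun z hz => ?_
  have hcent : Z G adj v ⊔ Z G adj u ≤ centralizer ({q} : Set G) :=
    sup_le (fun w hw => mem_centralizer_singleton_iff.mpr (h.comm_Q hw hq.1))
      (fun w hw => mem_centralizer_singleton_iff.mpr (h.comm_Q hw hq.2))
  have hw := (mem_normalizer_iff.mp (hA u hvu (inv_mem hg)) z).mp (mem_sup_right hz)
  have h2 := mem_centralizer_singleton_iff.mp (hcent hw)
  rw [inv_inv] at h2
  calc g * q * g⁻¹ * z = g * (q * (g⁻¹ * z * g)) * g⁻¹ := by group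
    _ = z * (g * q * g⁻¹) := by rw [← h2]; group

theorem not_NA_both {v u : V} (hvu : adj v u) (hle : Z G adj v ≤ Q G adj u) (hv : NA G adj v) (hu : NA G adj u) :
    False := by
  have h1 := h.NA_inf hu (h.symm hvu)
  rw [inf_comm] at h1
  have hD := h.faithful hvu _ (inf_le_left.trans (Q_le_T hvu)) (h.NA_inf hv hvu) h1
  refine h.moved hvu fun g _ => mem_centralizer_iff.mpr fun e he => ?_
  have : e ∈ Q G adj v ⊓ Q G adj u := ⟨h.Z_le_Q v (h.E_le_Z hvu he), hle (h.E_le_Z hvu he)⟩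
  rw [hD, mem_bot] at this
  rw [this, one_mul, mul_one]

theorem NB_of_one {v u : V} {r : G} (hr : R G adj u v r) (hc : ∀ g ∈ stabilizer G v, g * r = r * g) :
    NB G adj v := by
  intro w r' hr' k hk
  obtain ⟨g, hg, rfl⟩ := h.trans (h.symm hr.1) (h.symm hr'.1)
  have h1 := h.R_smul hr g
  rw [mem_stabilizer_iff.mp hg, hc g hg, mul_inv_cancel_right] at h1
  rw [h.R_unique hr' h1]
  exact hc k hk

theorem NB_smul {v : V} (hB : NB G adj v) (g : G) : NB G adj (g • v) := by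
  intro u r hr k hk
  have h1 := h.R_smul hr g⁻¹
  rw [inv_smul_smul] at h1
  have hk' : g⁻¹ * k * g ∈ stabilizer G v := mem_stabilizer_iff.mpr (by
    rw [mul_smul, mul_smul, mem_stabilizer_iff.mp hk, inv_smul_smul])
  have h2 := hB _ _ h1 _ hk'
  simp only [inv_inv] at h2
  calc k * r = g * ((g⁻¹ * k * g) * (g⁻¹ * r * g)) * g⁻¹ := by group
    _ = r * k := by rw [h2]; group

/-- The two directions of a critical pair. -/
theorem crit_main {k : ℕ} (hlow : Low G adj (k + 1)) {α α' β : V} (hc : Crit G adj (k + 1) α α')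
    (hαβ : adj α β) (hw : Wk adj k β α') :
    Crit G adj (k + 1) α' α ∧ ∃ r, R G adj α β r ∧ r ∈ Z G adj α' := by
  obtain ⟨α₁, hw1, hadj⟩ := wk_last hc.1
  have hZa : Z G adj α ≤ T G α' α₁ := fun z hz =>
    have hz' := hlow k (Nat.lt_succ_self k) α α₁ hw1 hz
    ⟨Q_le_stab hadj hz', Q_le _ hz'⟩
  have hZa' : Z G adj α' ≤ T G α β := fun z hz =>
    have hz' := hlow k (Nat.lt_succ_self k) α' β (h.wk_symm hw) hz
    ⟨Q_le_stab (h.symm hαβ) hz', Q_le _ hz'⟩
  have hnot : ¬ Z G adj α' ≤ Q G adj α := fun hle => hc.2 fun z hz =>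
    h.mem_Q_of_comm (hZa hz).1 fun x hx => h.comm_Q hz (hle hx)
  refine ⟨⟨h.wk_symm hc.1, hnot⟩, ?_⟩
  obtain ⟨x, hx, hxQ⟩ := SetLike.not_le_iff_exists.mp hnot
  obtain ⟨u₀, hu, huQ⟩ := SetLike.not_le_iff_exists.mp hc.2
  have hne : u₀ * x * u₀⁻¹ * x⁻¹ ≠ 1 := by
    intro e
    have hE := h.mem_E_of_comm hαβ hu (hZa' hx) hxQ (commutatorElement_eq_one_iff_mul_comm.mp e)
    exact huQ (h.mem_Q_of_comm (hZa hu).1 fun y hy => E_comm hE (hZa' hy))
  have hsame : ∀ z ∈ Z G adj α, z * x * z⁻¹ * x⁻¹ = 1 ∨ z * x * z⁻¹ * x⁻¹ = u₀ * x * u₀⁻¹ * x⁻¹ := by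
    intro z hz
    by_cases hzQ : z ∈ Q G adj α'
    · exact Or.inl (commutatorElement_eq_one_iff_mul_comm.mpr (h.comm_Q hx hzQ).symm)
    · right
      have h1 : u₀⁻¹ * z ∈ Q G adj α' := by
        rw [h.Z_inv hu]; exact h.mul_mem_Q (h.symm hadj) (hZa hu) huQ (hZa hz) hzQ
      have h2 := h.comm_Q hx h1
      calc z * x * z⁻¹ * x⁻¹ = u₀ * ((u₀⁻¹ * z) * x) * z⁻¹ * x⁻¹ := by group
        _ = _ := by rw [← h2]; group
  refine ⟨_, ⟨hαβ, hne, fun z hz t ht => ?_⟩, ?_⟩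
  · by_cases htQ : t ∈ Q G adj α
    · exact Or.inl (commutatorElement_eq_one_iff_mul_comm.mpr (h.comm_Q hz htQ))
    · have h1 := h.div_mem_Q hαβ ht htQ (hZa' hx) hxQ
      have hm : z * x * z⁻¹ * x⁻¹ ∈ Z G adj α := by
        have h3 := mul_mem hz (h.Z_fix (hZa' hx).1 (inv_mem hz))
        have h4 : z * x * z⁻¹ * x⁻¹ = z * (x * z⁻¹ * x⁻¹) := by group
        rwa [h4]
      have h2 := h.comm_Q hm h1
      have h5 : z * t * z⁻¹ * t⁻¹ = z * x * z⁻¹ * x⁻¹ := by
        calc z * t * z⁻¹ * t⁻¹ = (z * (t * x⁻¹)) * (x * z⁻¹ * x⁻¹) * (t * x⁻¹)⁻¹ := by group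
          _ = (t * x⁻¹) * (z * x * z⁻¹ * x⁻¹) * (t * x⁻¹)⁻¹ := by rw [h.comm_Q hz h1]; group
          _ = _ := by rw [← h2]; group
      rw [h5]
      exact hsame z hz
  · exact mul_mem (h.Z_fix (hZa hu).1 hx) (inv_mem hx)

/-- The first step along a critical pair. -/
theorem step {k : ℕ} (hlow : Low G adj (k + 2)) {α α' α₁ β n : V} (hc : Crit G adj (k + 2) α α')
    (hαβ : adj α β) (hw : Wk adj (k + 1) β α') (hw1 : Wk adj (k + 1) α α₁) (hadj : adj α₁ α')
    (hn : adj α n) (hne : n ≠ β) :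
    NA G adj α ∨ (Crit G adj (k + 2) n α₁ ∧ NB G adj α) := by
  obtain ⟨hc', -⟩ := h.crit_main hlow hc hαβ hw
  obtain ⟨x, hx, hxQ⟩ := SetLike.not_le_iff_exists.mp hc'.2
  have hx' := hlow (k + 1) (Nat.lt_succ_self _) α' β (h.wk_symm hw) hx
  have hxT : x ∈ T G α β := ⟨Q_le_stab (h.symm hαβ) hx', Q_le _ hx'⟩
  have hxn : x • n ≠ n := fun e => hxQ (h.Q_eq_inf hαβ hn (Ne.symm hne) ⟨hxT, hxT.1, e⟩)
  by_cases hZn : Z G adj n ≤ Q G adj α₁
  · left
    obtain ⟨-, r, hr, hrα⟩ := h.crit_main hlow hc' (h.symm hadj) (h.wk_symm hw1)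
    refine h.NA_of_one hn hxT.1 hxn ?_
    have key : ∀ w ∈ Z G adj α ⊔ Z G adj n, x * w * x⁻¹ ∈ Z G adj α ⊔ Z G adj n := by
      intro w hw'
      have h1 : (Z G adj α ⊔ Z G adj n).map (MulAut.conj x).toMonoidHom ≤ Z G adj α ⊔ Z G adj n := by
        rw [Subgroup.map_sup]
        refine sup_le ?_ ?_
        · rintro _ ⟨z, hz, rfl⟩; exact mem_sup_left (h.Z_fix hxT.1 hz)
        · rintro _ ⟨z, hz, rfl⟩
          simp only [MulEquiv.coe_toMonoidHom, MulAut.conj_apply]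
          have hzT : z ∈ T G α' α₁ := ⟨Q_le_stab hadj (hZn hz), Q_le _ (hZn hz)⟩
          have e : x * z * x⁻¹ = (x * z * x⁻¹ * z⁻¹) * z := by group
          rw [e]
          refine mul_mem (mem_sup_left ?_) (mem_sup_right hz)
          rcases hr.2.2 x hx z hzT with e' | e' <;> rw [e']
          · exact one_mem _
          · exact hrα
      exact h1 ⟨w, hw', rfl⟩
    rw [mem_normalizer_iff]
    refine fun w => ⟨key w, fun hw' => ?_⟩
    have := key _ hw'
    rw [h.Z_inv hx] at this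
    simpa [← mul_assoc, h.Z_sq hx, mul_assoc _ x x] using this
  · right
    have hcn : Crit G adj (k + 2) n α₁ := ⟨⟨α, h.symm hn, hw1⟩, hZn⟩
    refine ⟨hcn, ?_⟩
    obtain ⟨-, r, hr, hr1⟩ := h.crit_main hlow hcn (h.symm hn) hw1
    refine h.NB_of_one hr fun g hg => ?_
    have hxr : x * r = r * x :=
      (h.comm_Q hr1 (hlow 1 (by omega) α' α₁ (wk_one (h.symm hadj)) hx)).symm
    have := h.maximal hn (H := centralizer ({r} : Set G)) (fun t ht => mem_centralizer_singleton_iff.mpr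
      (E_comm (h.R_mem hr) ⟨ht.2, ht.1⟩).symm) (mem_centralizer_singleton_iff.mpr hxr) hxT.1 hxn hg
    exact mem_centralizer_singleton_iff.mp this

end Hyp

end Cfsg.Agent.Invol.S4Am
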