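import Cfsg.Agent.Lib.Invol.S4AmalgamDist

/-!
# Distance two, and the existence of a critical edge
-/

set_option autoImplicit false

namespace Cfsg.Agent.Invol.S4Am

open MulAction Subgroup
open Amal (cj omZ)

variable {G V : Type*} [Group G] [MulAction G V] {adj : V → V → Prop}

/-- An element with trivial square is its own inverse. -/
theorem inv_of_sq {g : G} (hg : g * g = 1) : g⁻¹ = g := inv_eq_of_mul_eq_one_right hg

theorem sqC_mono {S S' : Subgroup G} (hle : S ≤ S') : sqC S ≤ sqC S' :=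
  Subgroup.closure_mono fun _ ⟨d, hd, e⟩ => ⟨d, hle hd, e⟩

/-- A commutator value of order two commuting with the argument disappears on the square. -/
theorem sq_comm_of {y d c : G} (h1 : y * d = c * d * y) (h2 : d * c = c * d) (hc : c * c = 1) :
    d * d * y = y * (d * d) := by
  symm
  calc y * (d * d) = c * d * y * d := by rw [← mul_assoc, h1]
    _ = c * d * (y * d) := by group
    _ = c * d * (c * d * y) := by rw [h1]
    _ = c * (d * c) * d * y := by group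
    _ = (c * c) * (d * d * y) := by rw [h2]; group
    _ = d * d * y := by rw [hc, one_mul]

namespace Hyp

variable (h : Hyp G adj)
include h

theorem eq_bot_of_fixed {v u : V} (hvu : adj v u) {N : Subgroup G} (hN : N ≤ T G v u)
    (hv : ∀ g ∈ stabilizer G v, ∀ n ∈ N, g * n = n * g) (hu : ∀ g ∈ stabilizer G u, ∀ n ∈ N, g * n = n * g) :
    N = ⊥ :=
  h.faithful hvu N hN
    (le_normalizer_of_conj fun g hg n hn => by rw [hv g hg n hn, mul_inv_cancel_right]; exact hn)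
    (le_normalizer_of_conj fun g hg n hn => by rw [hu g hg n hn, mul_inv_cancel_right]; exact hn)

theorem Q_normalized (v : V) : stabilizer G v ≤ normalizer (Q G adj v : Set G) :=
  le_normalizer_of_conj fun _ hg _ hx => h.Q_conj (mem_stabilizer_iff.mp hg) hx

/-- A subgroup of the edge stabilizer with normal closure data and centralized by it is centralized by the vertex. -/
theorem central_of_normalized {v u : V} (hvu : adj v u) {S : Subgroup G}
    (hn : stabilizer G v ≤ normalizer (S : Set G)) (hc : ∀ t ∈ T G v u, ∀ s ∈ S, t * s = s * t) :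
    ∀ g ∈ stabilizer G v, ∀ s ∈ S, g * s = s * g := by
  obtain ⟨w, hw, hwu⟩ := h.exists_other hvu
  obtain ⟨a, haT, haQ⟩ := SetLike.not_le_iff_exists.mp (h.not_fix hw)
  have hau : a • u ≠ u := fun e => haQ (h.Q_eq_inf hw hvu hwu ⟨haT, haT.1, e⟩)
  obtain ⟨g, hg, hgu⟩ := h.trans hvu hw
  have haS : a ∈ centralizer (S : Set G) := by
    refine mem_centralizer_iff.mpr fun s hs => ?_
    have h1 : g⁻¹ * s * g ∈ S := by
      have := (mem_normalizer_iff.mp (hn (inv_mem hg)) s).mp hs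
      simpa using this
    have h2 : g⁻¹ * a * g ∈ T G v u := by
      have := T_smul (G := G) g v u
      rw [mem_stabilizer_iff.mp hg, hgu] at this
      rw [this, Amal.mem_cj] at haT
      exact haT
    have h3 := hc _ h2 _ h1
    calc s * a = g * ((g⁻¹ * s * g) * (g⁻¹ * a * g)) * g⁻¹ := by group
      _ = a * s := by rw [← h3]; group
  intro k hk s hs
  have := h.maximal hvu (H := centralizer (S : Set G))
    (fun t ht => mem_centralizer_iff.mpr fun s hs => (hc t ht s hs).symm) haS haT.1 hau hk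
  exact (mem_centralizer_iff.mp this s hs).symm

/-- Distance two, when `Z α ⊔ Z β` is normal at `α`. -/
theorem no_NA_two (hlow : Low G adj 2) {α β γ : V} (hαβ : adj α β) (hβγ : adj β γ)
    (hc : Crit G adj 2 α γ) (hA : NA G adj α) : False := by
  obtain ⟨hc', r, hr, -⟩ := h.crit_main (k := 1) hlow hc hαβ (wk_one hβγ)
  obtain ⟨c, hcS, hcα⟩ := h.trans (h.symm hαβ) hβγ
  have hAγ : NA G adj γ := hcα ▸ h.NA_smul hA c
  obtain ⟨u, hu, huQ⟩ := SetLike.not_le_iff_exists.mp hc.2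
  obtain ⟨x, hx, hxQ⟩ := SetLike.not_le_iff_exists.mp hc'.2
  have huβ : u ∈ Q G adj β := hlow 1 (by omega) α β (wk_one hαβ) hu
  have hxβ : x ∈ Q G adj β := hlow 1 (by omega) γ β (wk_one (h.symm hβγ)) hx
  have huα : u ∈ Q G adj α := h.Z_le_Q α hu
  have hxγ : x ∈ Q G adj γ := h.Z_le_Q γ hx
  have hxT : x ∈ T G α β := ⟨Q_le_stab (h.symm hαβ) hxβ, Q_le _ hxβ⟩
  have huT : u ∈ T G γ β := ⟨Q_le_stab hβγ huβ, Q_le _ huβ⟩
  have hux : u * x ≠ x * u := fun e => huQ (h.mem_Q_of_comm huT.1 fun y hy =>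
    E_comm (h.mem_E_of_comm hαβ hu hxT hxQ e) ⟨Q_le_stab (h.symm hαβ) (hlow 1 (by omega) γ β (wk_one (h.symm hβγ)) hy),
      Q_le _ (hlow 1 (by omega) γ β (wk_one (h.symm hβγ)) hy)⟩)
  have hTβγ : ∀ q ∈ Q G adj β, q ∈ T G γ β := fun q hq => ⟨Q_le_stab hβγ hq, Q_le _ hq⟩
  have hTβα : ∀ q ∈ Q G adj β, q ∈ T G α β := fun q hq => ⟨Q_le_stab (h.symm hαβ) hq, Q_le _ hq⟩
  have hdecα : ∀ d ∈ Q G adj α ⊓ Q G adj β, d ∈ Q G adj γ ∨ d * u ∈ Q G adj γ := fun d hd => by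
    by_cases hdγ : d ∈ Q G adj γ
    · exact Or.inl hdγ
    · exact Or.inr (h.mul_mem_Q (h.symm hβγ) (hTβγ d hd.2) hdγ huT huQ)
  have hdecγ : ∀ d ∈ Q G adj γ ⊓ Q G adj β, d ∈ Q G adj α ∨ d * x ∈ Q G adj α := fun d hd => by
    by_cases hdα : d ∈ Q G adj α
    · exact Or.inl hdα
    · exact Or.inr (h.mul_mem_Q hαβ (hTβα d hd.2) hdα hxT hxQ)
  have hsqα : ∀ d ∈ Q G adj α, d * u * (d * u) = d * d := fun d hd => by
    calc d * u * (d * u) = d * (u * d) * u := by group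
      _ = d * d * (u * u) := by rw [h.comm_Q hu hd]; group
      _ = d * d := by rw [h.Z_sq hu, mul_one]
  have hsqγ : ∀ d ∈ Q G adj γ, d * x * (d * x) = d * d := fun d hd => by
    calc d * x * (d * x) = d * (x * d) * x := by group
      _ = d * d * (x * x) := by rw [h.comm_Q hx hd]; group
      _ = d * d := by rw [h.Z_sq hx, mul_one]
  have hN : sqC (Q G adj α ⊓ Q G adj β) = sqC (Q G adj γ ⊓ Q G adj β) := by
    refine le_antisymm ((closure_le _).mpr ?_) ((closure_le _).mpr ?_)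
    · rintro _ ⟨d, hd, rfl⟩
      rcases hdecα d hd with h1 | h1
      · exact sq_mem_sqC ⟨h1, hd.2⟩
      · rw [← hsqα d hd.1]; exact sq_mem_sqC ⟨h1, mul_mem hd.2 huβ⟩
    · rintro _ ⟨d, hd, rfl⟩
      rcases hdecγ d hd with h1 | h1
      · exact sq_mem_sqC ⟨h1, hd.2⟩
      · rw [← hsqγ d hd.1]; exact sq_mem_sqC ⟨h1, mul_mem hd.2 hxβ⟩
  have hNα := le_normalizer_sqC (h.NA_inf hA hαβ)
  have hNγ := le_normalizer_sqC (h.NA_inf hAγ (h.symm hβγ))
  rw [← hN] at hNγ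
  have hcβ : ∀ {p q : V}, adj β p → adj β q → p ≠ q → ∀ {H : Subgroup G}, T G β p ≤ H → T G β q ≤ H →
      stabilizer G β ≤ H := by
    intro p q hp hq hpq H hHp hHq
    obtain ⟨a, haT, haQ⟩ := SetLike.not_le_iff_exists.mp (h.not_fix hq)
    exact h.maximal hp hHp (hHq haT) haT.1 fun e => haQ (h.Q_eq_inf hq hp (Ne.symm hpq) ⟨haT, haT.1, e⟩)
  have hne : α ≠ γ := fun e => hc.2 (e ▸ h.Z_le_Q α)
  have hNbot : sqC (Q G adj α ⊓ Q G adj β) = ⊥ :=
    h.faithful hαβ _ ((sqC_le _).trans (inf_le_left.trans (Q_le_T hαβ))) hNα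
      (hcβ (h.symm hαβ) hβγ hne (fun t ht => hNα ht.2) (fun t ht => hNγ ht.2))
  have hexp : ∀ d ∈ Q G adj α ⊓ Q G adj β, d * d = 1 := fun d hd => by
    have := sq_mem_sqC hd; rwa [hNbot, mem_bot] at this
  have hexpγ : ∀ d ∈ Q G adj γ ⊓ Q G adj β, d * d = 1 := fun d hd => by
    have := sq_mem_sqC hd; rwa [← hN, hNbot, mem_bot] at this
  have hcomm : ∀ a b : G, a * a = 1 → b * b = 1 → (a * b) * (a * b) = 1 → a * b = b * a := fun a b ha hb hab => by
    calc a * b = (a * b)⁻¹ := (inv_of_sq hab).symm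
      _ = b * a := by rw [mul_inv_rev, inv_of_sq ha, inv_of_sq hb]
  -- the third neighbour
  obtain ⟨w, hwT, hwQ⟩ := SetLike.not_le_iff_exists.mp (h.not_fix (h.symm hαβ))
  set ε := w • γ with hε
  have hεadj : adj β ε := h.adj_fix hβγ hwT.1
  have hεγ : ε ≠ γ := fun e => hwQ (h.Q_eq_inf (h.symm hαβ) hβγ hne ⟨hwT, hwT.1, e⟩)
  have hwfix : w • α = α := mem_stabilizer_iff.mp hwT.2
  have hwfixβ : w • β = β := mem_stabilizer_iff.mp hwT.1
  have hconjD : ∀ d ∈ Q G adj γ ⊓ Q G adj β, w * d * w⁻¹ ∈ Q G adj ε ⊓ Q G adj β := fun d hd => by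
    refine ⟨?_, h.Q_conj hwfixβ hd.2⟩
    rw [hε, h.Q_smul]; exact ⟨d, hd.1, rfl⟩
  have hexpε : ∀ d ∈ Q G adj ε ⊓ Q G adj β, d * d = 1 := fun d hd => by
    have h1 : w⁻¹ * d * w ∈ Q G adj γ ⊓ Q G adj β := by
      refine ⟨?_, ?_⟩
      · have h2 : d ∈ cj w (Q G adj γ) := by rw [← h.Q_smul, ← hε]; exact hd.1
        exact Amal.mem_cj.mp h2
      · simpa using h.Q_conj (g := w⁻¹) (inv_smul_eq_iff.mpr hwfixβ.symm) hd.2
    have := hexpγ _ h1
    calc d * d = w * ((w⁻¹ * d * w) * (w⁻¹ * d * w)) * w⁻¹ := by group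
      _ = 1 := by rw [this]; group
  -- elements of the double kernel centralize the third kernel
  have hH : ∀ d ∈ Q G adj α ⊓ Q G adj β, d ∈ Q G adj γ → ∀ q ∈ Q G adj β, d * q = q * d := by
    intro d hd hdγ q hq
    by_cases hqα : q ∈ Q G adj α
    · exact hcomm d q (hexp d hd) (hexp q ⟨hqα, hq⟩) (hexp _ (mul_mem hd ⟨hqα, hq⟩))
    · have h1 : q * x ∈ Q G adj α ⊓ Q G adj β :=
        ⟨h.mul_mem_Q hαβ (hTβα q hq) hqα hxT hxQ, mul_mem hq hxβ⟩
      have h2 := hcomm d (q * x) (hexp d hd) (hexp _ h1) (hexp _ (mul_mem hd h1))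
      have h3 := (h.comm_Q hx hdγ).symm
      calc d * q = d * (q * x) * x⁻¹ := by group
        _ = q * (x * d) * x⁻¹ := by rw [h2]; group
        _ = q * d := by rw [← h3]; group
  have hxε : x ∉ Q G adj ε := by
    intro hxe
    -- then the kernels at `γ` and `ε` meet `Q β` in the same group
    have key : Q G adj γ ⊓ Q G adj β ≤ Q G adj ε ⊓ Q G adj β := by
      intro d hd
      rcases hdecγ d hd with h1 | h1
      · refine ⟨h.mem_Q_of_comm (Q_le_stab hεadj hd.2) fun z hz => ?_, hd.2⟩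
        exact hH d ⟨h1, hd.2⟩ hd.1 z (hlow 1 (by omega) ε β (wk_one (h.symm hεadj)) hz)
      · have h2 : d * x ∈ Q G adj ε := h.mem_Q_of_comm (Q_le_stab hεadj (mul_mem hd.2 hxβ)) fun z hz =>
          hH _ ⟨h1, mul_mem hd.2 hxβ⟩ (mul_mem hd.1 hxγ) z (hlow 1 (by omega) ε β (wk_one (h.symm hεadj)) hz)
        refine ⟨?_, hd.2⟩
        have := mul_mem h2 (inv_mem hxe)
        simpa using this
    have hnγ := h.NA_inf hAγ (h.symm hβγ)
    have hnβ : stabilizer G β ≤ normalizer ((Q G adj γ ⊓ Q G adj β : Subgroup G) : Set G) := by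
      refine h.maximal hβγ (fun t ht => hnγ ht.2) (x := w) ?_ hwT.1 hεγ
      have hc1 : ∀ d ∈ Q G adj γ ⊓ Q G adj β, w * d * w⁻¹ ∈ Q G adj ε ⊓ Q G adj β := hconjD
      have heq : cj w (Q G adj γ ⊓ Q G adj β) = Q G adj ε ⊓ Q G adj β := by
        rw [cj, Subgroup.map_inf _ _ _ (MulAut.conj w).injective, ← cj, ← cj, ← h.Q_smul, ← h.Q_smul, hwfixβ]
      haveI := h.fin β
      haveI : Finite ↥(Q G adj ε ⊓ Q G adj β : Subgroup G) :=
        Finite.of_injective _ (Subgroup.inclusion_injective (inf_le_right.trans (Q_le β)))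
      have hcard : Nat.card ↥(Q G adj ε ⊓ Q G adj β : Subgroup G) ≤ Nat.card ↥(Q G adj γ ⊓ Q G adj β : Subgroup G) := by
        rw [← heq, cj, Subgroup.card_map_of_injective (MulAut.conj w).injective]
      have he := Subgroup.eq_of_le_of_card_ge key hcard
      rw [← he] at heq
      rw [mem_normalizer_iff]
      intro d
      constructor
      · intro hd; rw [← heq]; exact ⟨d, hd, rfl⟩
      · intro hd
        rw [← heq, Amal.mem_cj] at hd
        simpa [mul_assoc] using hd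
    have hbot := h.faithful (h.symm hβγ) _ (inf_le_left.trans (Q_le_T (h.symm hβγ))) hnγ hnβ
    have hx1 : x ∈ Q G adj γ ⊓ Q G adj β := ⟨hxγ, hxβ⟩
    rw [hbot, mem_bot] at hx1
    exact hxQ (hx1 ▸ one_mem _)
  have huε : u ∉ Q G adj ε := by
    intro hue
    have h1 : w⁻¹ * u * w ∈ Q G adj γ := by rwa [hε, h.Q_smul, Amal.mem_cj] at hue
    have h2 : w⁻¹ * u * w ∈ Z G adj α := by
      simpa using h.Z_fix (g := w⁻¹) (inv_smul_eq_iff.mpr hwfix.symm) hu
    have h2β : w⁻¹ * u * w ∈ Q G adj β := hlow 1 (by omega) α β (wk_one hαβ) h2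
    have h3 := hH _ ⟨h.Z_le_Q α h2, h2β⟩ h1 (w⁻¹ * x * w) (by
      simpa using h.Q_conj (g := w⁻¹) (inv_smul_eq_iff.mpr hwfixβ.symm) hxβ)
    exact hux (by
      calc u * x = w * ((w⁻¹ * u * w) * (w⁻¹ * x * w)) * w⁻¹ := by group
        _ = x * u := by rw [h3]; group)
  have hTε : ∀ q ∈ Q G adj β, q ∈ T G ε β := fun q hq => ⟨Q_le_stab hεadj hq, Q_le _ hq⟩
  have h1 : u * x ∈ Q G adj ε ⊓ Q G adj β :=
    ⟨h.mul_mem_Q (h.symm hεadj) (hTε u huβ) huε (hTε x hxβ) hxε, mul_mem huβ hxβ⟩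
  exact hux (hcomm u x (h.Z_sq hu) (h.Z_sq hx) (hexpε _ h1))

/-- Distance two, when no join is normal. -/
theorem no_NB_two (hlow : Low G adj 2) {α β γ ε : V} (hαβ : adj α β) (hβγ : adj β γ) (hαε : adj α ε)
    (hεβ : ε ≠ β) (hc : Crit G adj 2 α γ) (hcε : Crit G adj 2 ε β) (hBα : NB G adj α) (hBβ : NB G adj β) :
    NA G adj α := by
  obtain ⟨hc', -⟩ := h.crit_main (k := 1) hlow hc hαβ (wk_one hβγ)
  obtain ⟨hcε', cα, hcα, -⟩ := h.crit_main (k := 1) hlow hcε (h.symm hαε) (wk_one hαβ)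
  obtain ⟨-, cβ, hcβ, -⟩ := h.crit_main (k := 1) hlow hc' (h.symm hβγ) (wk_one (h.symm hαβ))
  obtain ⟨u, hu, huQ⟩ := SetLike.not_le_iff_exists.mp hc.2
  obtain ⟨x, hx, hxQ⟩ := SetLike.not_le_iff_exists.mp hc'.2
  obtain ⟨y, hy, hyQ⟩ := SetLike.not_le_iff_exists.mp hcε.2
  obtain ⟨v, hv, hvQ⟩ := SetLike.not_le_iff_exists.mp hcε'.2
  have hxβ : x ∈ Q G adj β := hlow 1 (by omega) γ β (wk_one (h.symm hβγ)) hx
  have hyα : y ∈ Q G adj α := hlow 1 (by omega) ε α (wk_one (h.symm hαε)) hy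
  have huβ : u ∈ Q G adj β := hlow 1 (by omega) α β (wk_one hαβ) hu
  have hvα : v ∈ Q G adj α := hlow 1 (by omega) β α (wk_one (h.symm hαβ)) hv
  have hxT : x ∈ T G α β := ⟨Q_le_stab (h.symm hαβ) hxβ, Q_le _ hxβ⟩
  have hyT : y ∈ T G β α := ⟨Q_le_stab hαβ hyα, Q_le _ hyα⟩
  have hxinv := h.Z_inv hx
  have hyinv := h.Z_inv hy
  have hux : u * x ≠ x * u := fun e => huQ (h.mem_Q_of_comm (Q_le_stab hβγ huβ) fun w hw =>
    E_comm (h.mem_E_of_comm hαβ hu hxT hxQ e) ⟨Q_le_stab (h.symm hαβ) (hlow 1 (by omega) γ β (wk_one (h.symm hβγ)) hw),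
      Q_le _ (hlow 1 (by omega) γ β (wk_one (h.symm hβγ)) hw)⟩)
  have hvy : v * y ≠ y * v := fun e => hvQ (h.mem_Q_of_comm (Q_le_stab hαε hvα) fun w hw =>
    E_comm (h.mem_E_of_comm (h.symm hαβ) hv hyT hyQ e) ⟨Q_le_stab hαβ (hlow 1 (by omega) ε α (wk_one (h.symm hαε)) hw),
      Q_le _ (hlow 1 (by omega) ε α (wk_one (h.symm hαε)) hw)⟩)
  set D := Q G adj α ⊓ Q G adj β with hD
  have hcαc : ∀ g ∈ stabilizer G α, g * cα = cα * g := hBα _ _ hcα
  have hcβc : ∀ g ∈ stabilizer G β, g * cβ = cβ * g := hBβ _ _ hcβ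
  have hdy : ∀ d ∈ Q G adj α, y * d * y⁻¹ * d⁻¹ = 1 ∨ y * d * y⁻¹ * d⁻¹ = cα := fun d hd =>
    hcα.2.2 y hy d ⟨Q_le_stab hαε hd, Q_le _ hd⟩
  have hdx : ∀ d ∈ Q G adj β, x * d * x⁻¹ * d⁻¹ = 1 ∨ x * d * x⁻¹ * d⁻¹ = cβ := fun d hd =>
    hcβ.2.2 x hx d ⟨Q_le_stab hβγ hd, Q_le _ hd⟩
  have hcαZ : cα ∈ Z G adj α := h.E_le_Z hαε (E_symm (G := G) ε α ▸ h.R_mem hcα)
  have hcβZ : cβ ∈ Z G adj β := h.E_le_Z hβγ (E_symm (G := G) γ β ▸ h.R_mem hcβ)
  have hcα1 : cα * cα = 1 := h.Z_sq hcαZ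
  have hdecα : ∀ q ∈ Q G adj α, q ∈ D ∨ y * q ∈ D := fun q hq => by
    by_cases hqβ : q ∈ Q G adj β
    · exact Or.inl ⟨hq, hqβ⟩
    · exact Or.inr ⟨mul_mem hyα hq, h.mul_mem_Q (h.symm hαβ) hyT hyQ ⟨Q_le_stab hαβ hq, Q_le _ hq⟩ hqβ⟩
  have hdecβ : ∀ q ∈ Q G adj β, q ∈ D ∨ x * q ∈ D := fun q hq => by
    by_cases hqα : q ∈ Q G adj α
    · exact Or.inl ⟨hqα, hq⟩
    · exact Or.inr ⟨h.mul_mem_Q hαβ hxT hxQ ⟨Q_le_stab (h.symm hαβ) hq, Q_le _ hq⟩ hqα, mul_mem hxβ hq⟩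
  have hdecT : ∀ (C : G → Prop), (∀ a b, C a → C b → C (a * b)) → (∀ d ∈ D, C d) → C x → C y →
      ∀ t ∈ T G α β, C t := by
    intro C hmul hCD hCx hCy t ht
    have hQα : ∀ q ∈ Q G adj α, C q := fun q hq => by
      rcases hdecα q hq with e | e
      · exact hCD q e
      · have := hmul _ _ hCy (hCD _ e)
        rwa [← mul_assoc, h.Z_sq hy, one_mul] at this
    by_cases htQ : t ∈ Q G adj α
    · exact hQα t htQ
    · have := hmul _ _ hCx (hQα _ (h.mul_mem_Q hαβ hxT hxQ ht htQ))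
      rwa [← mul_assoc, h.Z_sq hx, one_mul] at this
  -- the squares
  set N := sqC D with hN
  have hND : N ≤ D := sqC_le _
  have hNy : ∀ n ∈ N, y * n = n * y := by
    intro n hn
    have : N ≤ centralizer ({y} : Set G) := (closure_le _).mpr fun g ⟨d, hd, e⟩ => by
      rw [SetLike.mem_coe, mem_centralizer_singleton_iff, e]
      rcases hdy d hd.1 with e' | e'
      · exact sq_comm_of (c := 1) (by rw [one_mul]; exact commutatorElement_eq_one_iff_mul_comm.mp e')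
          (by rw [one_mul, mul_one]) (one_mul 1)
      · exact sq_comm_of (c := cα) (by rw [← e']; group) (hcαc d (Q_le _ hd.1)) hcα1
    exact (mem_centralizer_singleton_iff.mp (this hn)).symm
  have hcβ1 : cβ * cβ = 1 := h.Z_sq hcβZ
  have hNx : ∀ n ∈ N, x * n = n * x := by
    intro n hn
    have : N ≤ centralizer ({x} : Set G) := (closure_le _).mpr fun g ⟨d, hd, e⟩ => by
      rw [SetLike.mem_coe, mem_centralizer_singleton_iff, e]
      rcases hdx d hd.2 with e' | e'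
      · exact sq_comm_of (c := 1) (by rw [one_mul]; exact commutatorElement_eq_one_iff_mul_comm.mp e')
          (by rw [one_mul, mul_one]) (one_mul 1)
      · exact sq_comm_of (c := cβ) (by rw [← e']; group) (hcβc d (Q_le _ hd.2)) hcβ1
    exact (mem_centralizer_singleton_iff.mp (this hn)).symm
  -- squares of the two kernels
  have hSq : ∀ (p : V) (c z : G), (∀ q ∈ Q G adj p, q ∈ D ∨ z * q ∈ D) → z * z = 1 →
      (∀ d ∈ D, z * d * z⁻¹ * d⁻¹ = 1 ∨ z * d * z⁻¹ * d⁻¹ = c) → c * c = 1 → D ≤ Q G adj p →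
      (∀ d ∈ Q G adj p, d * c = c * d) →
      ∀ q ∈ Q G adj p, ∃ d ∈ D, q * q = d * d ∨ q * q = c * (d * d) := by
    intro p c z hdec hz hcom hc1 hDle hcc q hq
    rcases hdec q hq with e | e
    · exact ⟨q, e, Or.inl rfl⟩
    · refine ⟨z * q, e, ?_⟩
      set d := z * q with hd
      have hq' : q = z * d := by rw [hd, ← mul_assoc, hz, one_mul]
      have h3 : q * q = (z * d * z⁻¹ * d⁻¹) * (d * d) := by rw [hq', inv_of_sq hz]; group
      rcases hcom d e with e' | e' <;> rw [h3, e']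
      · exact Or.inl (one_mul _)
      · exact Or.inr rfl
  have hM : sqC (sqC (Q G adj α)) = sqC N ∧ sqC (sqC (Q G adj β)) = sqC N := by
    have gen : ∀ (p : V) (c z : G), (∀ q ∈ Q G adj p, q ∈ D ∨ z * q ∈ D) → z * z = 1 →
        (∀ d ∈ D, z * d * z⁻¹ * d⁻¹ = 1 ∨ z * d * z⁻¹ * d⁻¹ = c) → c * c = 1 → D ≤ Q G adj p →
        (∀ d ∈ Q G adj p, d * c = c * d) → sqC (sqC (Q G adj p)) = sqC N := by
      intro p c z hdec hz hcom hc1 hDle hcc
      let K : Subgroup G :=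
        { carrier := {s | ∃ n ∈ N, s = n ∨ s = c * n}
          one_mem' := ⟨1, one_mem _, Or.inl rfl⟩
          mul_mem' := by
            rintro a b ⟨n, hn, ha⟩ ⟨m, hm, hb⟩
            have hcn : ∀ n ∈ N, n * c = c * n := fun n hn => hcc n (hDle (hND hn))
            refine ⟨n * m, mul_mem hn hm, ?_⟩
            rcases ha with rfl | rfl <;> rcases hb with rfl | rfl
            · exact Or.inl rfl
            · right; rw [← mul_assoc, hcn a hn, mul_assoc]
            · right; rw [mul_assoc]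
            · left; rw [mul_assoc, ← mul_assoc n, hcn n hn, ← mul_assoc, ← mul_assoc, hc1, one_mul]
          inv_mem' := by
            rintro a ⟨n, hn, ha⟩
            refine ⟨n⁻¹, inv_mem hn, ?_⟩
            rcases ha with rfl | rfl
            · exact Or.inl rfl
            · right
              rw [mul_inv_rev, inv_of_sq hc1, hcc _ (hDle (hND (inv_mem hn)))] }
      have h1 : sqC (Q G adj p) ≤ K := (closure_le _).mpr fun g ⟨q, hq, e⟩ => by
        obtain ⟨d, hd, e'⟩ := hSq p c z hdec hz hcom hc1 hDle hcc q hq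
        exact ⟨d * d, sq_mem_sqC hd, e ▸ e'⟩
      refine le_antisymm ((closure_le _).mpr fun g ⟨s, hs, e⟩ => ?_) ((closure_le _).mpr fun g ⟨n, hn, e⟩ => ?_)
      · obtain ⟨n, hn, rfl | rfl⟩ := h1 hs
        · exact e ▸ sq_mem_sqC hn
        · have : c * n * (c * n) = n * n := by
            rw [mul_assoc, ← mul_assoc n, hcc n (hDle (hND hn)), ← mul_assoc, ← mul_assoc, hc1, one_mul]
          rw [e, this]; exact sq_mem_sqC hn
      · refine e ▸ sq_mem_sqC ?_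
        exact sqC_mono hDle hn
    exact ⟨gen α cα y hdecα (h.Z_sq hy) (fun d hd => hdy d hd.1) hcα1 inf_le_left (fun d hd => hcαc d (Q_le _ hd)),
      gen β cβ x hdecβ (h.Z_sq hx) (fun d hd => hdx d hd.2) hcβ1 inf_le_right (fun d hd => hcβc d (Q_le _ hd))⟩
  have hMbot : sqC N = ⊥ := h.faithful hαβ _ (((sqC_le N).trans hND).trans (inf_le_left.trans (Q_le_T hαβ)))
    (hM.1 ▸ le_normalizer_sqC (le_normalizer_sqC (h.Q_normalized α)))
    (hM.2 ▸ le_normalizer_sqC (le_normalizer_sqC (h.Q_normalized β)))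
  have hN1 : ∀ n ∈ N, n * n = 1 := fun n hn => by have := sq_mem_sqC hn; rwa [hMbot, mem_bot] at this
  -- commutators of squares
  let L : Subgroup G := closure {g | ∃ n ∈ N, ∃ d ∈ D, g = n * d * n⁻¹ * d⁻¹}
  have hLnorm : ∀ (p : V) (c z : G), (∀ q ∈ Q G adj p, q ∈ D ∨ z * q ∈ D) → z * z = 1 →
      (∀ d ∈ D, z * d * z⁻¹ * d⁻¹ = 1 ∨ z * d * z⁻¹ * d⁻¹ = c) → c * c = 1 → D ≤ Q G adj p →
      (∀ d ∈ Q G adj p, d * c = c * d) → (∀ n ∈ N, z * n = n * z) → (∀ d ∈ D, z * d * z⁻¹ ∈ D) →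
      stabilizer G p ≤ normalizer (L : Set G) := by
    intro p c z hdec hz hcom hc1 hDle hcc hzN hzD
    refine le_normalizer_closure ?_
    rintro g hg _ ⟨n, hn, d, hd, rfl⟩
    have hn' : g * n * g⁻¹ ∈ sqC (Q G adj p) :=
      (mem_normalizer_iff.mp (le_normalizer_sqC (h.Q_normalized p) hg) n).mp
        (sqC_mono hDle hn)
    have hd' : g * d * g⁻¹ ∈ Q G adj p := h.Q_conj (mem_stabilizer_iff.mp hg) (hDle hd)
    set n' := g * n * g⁻¹ with hn'def
    set d' := g * d * g⁻¹ with hd'def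
    have e0 : g * (n * d * n⁻¹ * d⁻¹) * g⁻¹ = n' * d' * n'⁻¹ * d'⁻¹ := by rw [hn'def, hd'def]; group
    rw [e0]
    let K : Subgroup G :=
      { carrier := {s | s ∈ Q G adj p ∧ ∀ e ∈ Q G adj p, s * e * s⁻¹ * e⁻¹ ∈ L}
        one_mem' := ⟨one_mem _, fun e _ => by simp⟩
        mul_mem' := by
          rintro a b ⟨ha, ha'⟩ ⟨hb, hb'⟩
          refine ⟨mul_mem ha hb, fun e he => ?_⟩
          have e1 : a * b * e * (a * b)⁻¹ * e⁻¹ = (a * (b * e * b⁻¹) * a⁻¹ * (b * e * b⁻¹)⁻¹) * (b * e * b⁻¹ * e⁻¹) := by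
            group
          rw [e1]
          exact mul_mem (ha' _ (mul_mem (mul_mem hb he) (inv_mem hb))) (hb' e he)
        inv_mem' := by
          rintro a ⟨ha, ha'⟩
          refine ⟨inv_mem ha, fun e he => ?_⟩
          have e1 : a⁻¹ * e * a⁻¹⁻¹ * e⁻¹ = (a * (a⁻¹ * e * a) * a⁻¹ * (a⁻¹ * e * a)⁻¹)⁻¹ := by group
          rw [e1]
          exact inv_mem (ha' _ (mul_mem (mul_mem (inv_mem ha) he) ha)) }
    have hcK : c ∈ Q G adj p → c ∈ K := fun hcp => ⟨hcp, fun e he => by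
      rw [← hcc e he, mul_inv_cancel_right, mul_inv_cancel]; exact one_mem _⟩
    have hNK : N ≤ K := fun n hn => ⟨hDle (hND hn), fun e he => by
      rcases hdec e he with h1 | h1
      · exact subset_closure ⟨n, hn, e, h1, rfl⟩
      · have h2 : n * (z * (z * e) * z⁻¹) * n⁻¹ * (z * (z * e) * z⁻¹)⁻¹ ∈ L :=
          subset_closure ⟨n, hn, _, hzD _ h1, rfl⟩
        have h3 : n * (z * (z * e) * z⁻¹) * n⁻¹ * (z * (z * e) * z⁻¹)⁻¹ = n * e * n⁻¹ * e⁻¹ := by
          have hnz : z * n = n * z := hzN n hn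
          calc n * (z * (z * e) * z⁻¹) * n⁻¹ * (z * (z * e) * z⁻¹)⁻¹
              = n * ((z * z) * e) * (n * z)⁻¹ * (z * e⁻¹ * (z * z)⁻¹) := by group
            _ = n * e * (z * n)⁻¹ * (z * e⁻¹) := by rw [hz, ← hnz, one_mul, inv_one, mul_one]
            _ = n * e * n⁻¹ * e⁻¹ := by group
        rwa [h3] at h2⟩
    have hSK : sqC (Q G adj p) ≤ K := (closure_le _).mpr fun g ⟨q, hq, e⟩ => by
      obtain ⟨d, hd, e' | e'⟩ := hSq p c z hdec hz hcom hc1 hDle hcc q hq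
      · rw [SetLike.mem_coe, e, e']; exact hNK (sq_mem_sqC hd)
      · rw [SetLike.mem_coe, e, e']
        refine mul_mem (hcK ?_) (hNK (sq_mem_sqC hd))
        have : c = q * q * (d * d)⁻¹ := by rw [e']; group
        rw [this]
        exact mul_mem (mul_mem hq hq) (inv_mem (mul_mem (hDle hd) (hDle hd)))
    exact (hSK hn').2 d' hd'
  have hLD : L ≤ D := (closure_le _).mpr fun g ⟨n, hn, d, hd, e⟩ =>
    e ▸ mul_mem (mul_mem (mul_mem (hND hn) hd) (inv_mem (hND hn))) (inv_mem hd)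
  have hLbot : L = ⊥ := h.faithful hαβ L (hLD.trans (inf_le_left.trans (Q_le_T hαβ)))
    (hLnorm α cα y hdecα (h.Z_sq hy) (fun d hd => hdy d hd.1) hcα1 inf_le_left (fun d hd => hcαc d (Q_le _ hd)) hNy
      fun d hd => ⟨h.Q_conj (mem_stabilizer_iff.mp hyT.2) hd.1, h.Q_conj (mem_stabilizer_iff.mp hyT.1) hd.2⟩)
    (hLnorm β cβ x hdecβ (h.Z_sq hx) (fun d hd => hdx d hd.2) hcβ1 inf_le_right (fun d hd => hcβc d (Q_le _ hd)) hNx
      fun d hd => ⟨h.Q_conj (mem_stabilizer_iff.mp hxT.1) hd.1, h.Q_conj (mem_stabilizer_iff.mp hxT.2) hd.2⟩)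
  have hNDc : ∀ n ∈ N, ∀ d ∈ D, n * d = d * n := fun n hn d hd => by
    have : n * d * n⁻¹ * d⁻¹ ∈ L := subset_closure ⟨n, hn, d, hd, rfl⟩
    rw [hLbot, mem_bot] at this
    exact commutatorElement_eq_one_iff_mul_comm.mp this
  have hNT : ∀ t ∈ T G α β, ∀ n ∈ N, t * n = n * t := by
    intro t ht n hn
    exact hdecT (fun t => t * n = n * t) (fun a b ha hb => by rw [mul_assoc, hb, ← mul_assoc, ha, mul_assoc])
      (fun d hd => (hNDc n hn d hd).symm) (hNx n hn) (hNy n hn) t ht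
  have hcen : ∀ (p : V) (q : V) (c z : G), adj p q → T G α β = T G p q → (∀ r ∈ Q G adj p, r ∈ D ∨ z * r ∈ D) →
      z * z = 1 → (∀ d ∈ D, z * d * z⁻¹ * d⁻¹ = 1 ∨ z * d * z⁻¹ * d⁻¹ = c) → c * c = 1 → D ≤ Q G adj p →
      (∀ g ∈ stabilizer G p, g * c = c * g) → ∀ g ∈ stabilizer G p, ∀ n ∈ N, g * n = n * g := by
    intro p q c z hpq hT hdec hz hcom hc1 hDle hcc g hg n hn
    refine h.central_of_normalized hpq (le_normalizer_sqC (h.Q_normalized p)) (fun t ht s hs => ?_) g hg n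
      (sqC_mono hDle hn)
    have hle : sqC (Q G adj p) ≤ centralizer ({t} : Set G) := (closure_le _).mpr fun g ⟨r, hr, e⟩ => by
      rw [SetLike.mem_coe, mem_centralizer_singleton_iff, e]
      obtain ⟨d, hd, e' | e'⟩ := hSq p c z hdec hz hcom hc1 hDle (fun d hd => hcc d (Q_le _ hd)) r hr <;> rw [e']
      · exact (hNT t (hT ▸ ht) _ (sq_mem_sqC hd)).symm
      · rw [mul_assoc, ← hNT t (hT ▸ ht) _ (sq_mem_sqC hd), ← mul_assoc, ← hcc t ht.1, mul_assoc]
    exact (mem_centralizer_singleton_iff.mp (hle hs)).symm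
  have hNbot : N = ⊥ := h.eq_bot_of_fixed hαβ (hND.trans (inf_le_left.trans (Q_le_T hαβ)))
    (hcen α β cα y hαβ rfl hdecα (h.Z_sq hy) (fun d hd => hdy d hd.1) hcα1 inf_le_left hcαc)
    (hcen β α cβ x (h.symm hαβ) (inf_comm _ _) hdecβ (h.Z_sq hx) (fun d hd => hdx d hd.2) hcβ1 inf_le_right hcβc)
  have hexp : ∀ d ∈ D, d * d = 1 := fun d hd => by
    have : d * d ∈ N := sq_mem_sqC hd
    rwa [hNbot, mem_bot] at this
  have habel : ∀ a ∈ D, ∀ b ∈ D, a * b = b * a := fun a ha b hb => by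
    calc a * b = (a * b)⁻¹ := (inv_of_sq (hexp _ (mul_mem ha hb))).symm
      _ = b * a := by rw [mul_inv_rev, inv_of_sq (hexp a ha), inv_of_sq (hexp b hb)]
  -- fixed points
  have huD : u ∈ D := ⟨h.Z_le_Q α hu, huβ⟩
  have hvD : v ∈ D := ⟨hvα, h.Z_le_Q β hv⟩
  have huy : u * y = y * u := h.comm_Q hu hyα
  have hvx : v * x = x * v := h.comm_Q hv hxβ
  have hfix : ∀ d ∈ D, d * x = x * d → d * y = y * d → d ∈ E G α β := fun d hd h1 h2 =>
    mem_E (Q_le_T hαβ hd.1) (hdecT (fun t => t * d = d * t)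
      (fun a b ha hb => by rw [mul_assoc, hb, ← mul_assoc, ha, mul_assoc]) (fun e he => habel e he d hd) h1.symm h2.symm)
      (hexp d hd)
  have hdu : ∀ (c z w : G), (∀ d ∈ D, z * d * z⁻¹ * d⁻¹ = 1 ∨ z * d * z⁻¹ * d⁻¹ = c) → w ∈ D → w * z ≠ z * w →
      (∀ d ∈ D, c * d = d * c) → c * c = 1 → ∀ d ∈ D, d * z = z * d ∨ d * w * z = z * (d * w) := by
    intro c z w hcom hw hwz hcd hc1 d hd
    rcases hcom d hd with e | e
    · exact Or.inl (commutatorElement_eq_one_iff_mul_comm.mp e).symm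
    · have e' := (hcom w hw).resolve_left fun e' => hwz (commutatorElement_eq_one_iff_mul_comm.mp e').symm
      have h1 : z * d = c * d * z := by rw [← e]; group
      have h2 : z * w = c * w * z := by rw [← e']; group
      right
      symm
      calc z * (d * w) = (z * d) * w := by group
        _ = c * d * (z * w) := by rw [h1]; group
        _ = c * (d * c) * w * z := by rw [h2]; group
        _ = (c * c) * (d * w * z) := by rw [← hcd d hd]; group
        _ = d * w * z := by rw [hc1, one_mul]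
  have hDx : ∀ d ∈ D, d * x = x * d → d ∈ Z G adj β := by
    intro d hd hdx'
    rcases hdu cα y v (fun d hd => hdy d hd.1) hvD hvy (fun d hd => (hcαc d (Q_le _ hd.1)).symm) hcα1 d hd with e | e
    · exact h.E_le_Z (h.symm hαβ) (E_symm (G := G) β α ▸ hfix d hd hdx' e)
    · have h1 := h.E_le_Z (h.symm hαβ) (E_symm (G := G) β α ▸ hfix (d * v) (mul_mem hd hvD)
        (by rw [mul_assoc, hvx, ← mul_assoc, hdx', mul_assoc]) e)
      simpa using mul_mem h1 (inv_mem hv)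
  have hDy : ∀ d ∈ D, d * y = y * d → d ∈ Z G adj α := by
    intro d hd hdy'
    rcases hdu cβ x u (fun d hd => hdx d hd.2) huD hux (fun d hd => (hcβc d (Q_le _ hd.2)).symm) hcβ1 d hd with e | e
    · exact h.E_le_Z hαβ (hfix d hd e hdy')
    · have h1 := h.E_le_Z hαβ (hfix (d * u) (mul_mem hd huD) e
        (by rw [mul_assoc, huy, ← mul_assoc, hdy', mul_assoc]))
      simpa using mul_mem h1 (inv_mem hu)
  -- the commutator of `x` and `y`
  set z := y * x * y * x with hz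
  have hzD : z ∈ D := by
    refine ⟨?_, ?_⟩
    · have h1 := h.Q_conj (mem_stabilizer_iff.mp hxT.1) hyα
      rw [hxinv] at h1
      simpa [hz, mul_assoc] using mul_mem hyα h1
    · have h1 := h.Q_conj (mem_stabilizer_iff.mp hyT.1) hxβ
      rw [hyinv] at h1
      simpa [hz, mul_assoc] using mul_mem h1 hxβ
  have hzinv : z = z⁻¹ := (inv_of_sq (hexp z hzD)).symm
  have hz' : z⁻¹ = x * y * x * y := by rw [hz]; simp only [mul_inv_rev, hxinv, hyinv, mul_assoc]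
  have hzx : z * x = x * z := by
    have e1 : z * x = y * x * y := by rw [hz, mul_assoc _ x x, h.Z_sq hx, mul_one]
    have e2 : x * z⁻¹ = y * x * y := by
      rw [hz', ← mul_assoc, ← mul_assoc, ← mul_assoc, h.Z_sq hx, one_mul]
    rw [e1, hzinv, e2]
  have hzy : z * y = y * z := by
    calc z * y = y * (x * y * x * y) := by rw [hz]; group
      _ = y * z := by rw [← hz', ← hzinv]
  have hzα : z ∈ Z G adj α := hDy z hzD hzy
  refine h.NA_of_one hαε hxT.1 (fun e => hxQ (h.Q_eq_inf hαβ hαε (Ne.symm hεβ) ⟨hxT, hxT.1, e⟩)) ?_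
  have hyW : y ∈ Z G adj α ⊔ Z G adj ε := mem_sup_right hy
  have hεW : ∀ w ∈ Z G adj ε, w ∈ Z G adj α ∨ w * y ∈ Z G adj α := by
    have hεα : ∀ w ∈ Z G adj ε, w ∈ Q G adj β → w ∈ Z G adj α := fun w hw hwβ => by
      have h1 := h.mem_E_of_comm (h.symm hαε) (a := v) hw ⟨Q_le_stab hαε hvα, Q_le _ hvα⟩ hvQ
        (h.comm_Q hv hwβ).symm
      exact h.E_le_Z hαε (E_symm (G := G) ε α ▸ h1)
    intro w hw
    by_cases hwβ : w ∈ Q G adj β
    · exact Or.inl (hεα w hw hwβ)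
    · have hwα := hlow 1 (by omega) ε α (wk_one (h.symm hαε)) hw
      exact Or.inr (hεα _ (mul_mem hw hy) (h.mul_mem_Q (h.symm hαβ) ⟨Q_le_stab hαβ hwα, Q_le _ hwα⟩ hwβ hyT hyQ))
  have hmap : (Z G adj α ⊔ Z G adj ε).map (MulAut.conj x).toMonoidHom ≤ Z G adj α ⊔ Z G adj ε := by
    rw [Subgroup.map_sup]
    refine sup_le ?_ ?_
    · rintro _ ⟨w, hw, rfl⟩; exact mem_sup_left (h.Z_fix hxT.1 hw)
    · rintro _ ⟨w, hw, rfl⟩
      simp only [MulEquiv.coe_toMonoidHom, MulAut.conj_apply]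
      rcases hεW w hw with e | e
      · exact mem_sup_left (h.Z_fix hxT.1 e)
      · have e1 : x * w * x⁻¹ = (x * (w * y) * x⁻¹) * ((x * y * x * y) * y) := by
          rw [mul_assoc _ y y, h.Z_sq hy, mul_one, hxinv]
          simp only [← mul_assoc]
          rw [mul_assoc _ x x, h.Z_sq hx, mul_one, mul_assoc _ y y, h.Z_sq hy, mul_one]
        rw [e1, ← hz', ← hzinv]
        exact mul_mem (mem_sup_left (h.Z_fix hxT.1 e)) (mul_mem (mem_sup_left hzα) hyW)
  rw [mem_normalizer_iff]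
  refine fun w => ⟨fun hw => hmap ⟨w, hw, rfl⟩, fun hw => ?_⟩
  have := hmap ⟨_, hw, rfl⟩
  simp only [MulEquiv.coe_toMonoidHom, MulAut.conj_apply, hxinv] at this
  simpa [← mul_assoc, h.Z_sq hx, mul_assoc _ x x] using this

/-- Some edge is critical. -/
theorem exists_critical_edge [Nonempty V] : ∃ α β, adj α β ∧ ¬ Z G adj α ≤ Q G adj β := by
  classical
  by_contra hcon
  push Not at hcon
  have hex : ∃ n, ∃ u v, Crit G adj n u v := by
    by_contra hnone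
    push Not at hnone
    obtain ⟨v⟩ := ‹Nonempty V›
    have hwk : ∀ w, ∃ n, Wk adj n v w := by
      intro w
      induction h.conn v w with
      | refl => exact ⟨0, rfl⟩
      | tail _ hab ih => obtain ⟨n, hn⟩ := ih; exact ⟨n + 1, wk_snoc hn hab⟩
    obtain ⟨u, hu, -⟩ : ∃ u, adj v u ∧ True := by
      haveI : Nonempty {u // adj v u} := (Nat.card_pos_iff.mp (by rw [h.three v]; norm_num)).1
      obtain ⟨⟨u, hu⟩⟩ := ‹Nonempty {u // adj v u}›
      exact ⟨u, hu, trivial⟩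
    set N := ⨅ w : V, Q G adj w with hN
    have hNn : ∀ (g : G) x, x ∈ N → g * x * g⁻¹ ∈ N := by
      intro g x hx
      refine mem_iInf.mpr fun w => ?_
      have := mem_iInf.mp hx (g⁻¹ • w)
      rw [← smul_inv_smul g w, h.Q_smul]
      exact ⟨x, this, rfl⟩
    have hNbot := h.faithful hu N ((iInf_le _ v).trans (Q_le_T hu))
      (le_normalizer_of_conj fun g _ => hNn g) (le_normalizer_of_conj fun g _ => hNn g)
    refine h.moved hu fun g _ => mem_centralizer_iff.mpr fun e he => ?_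
    have : e ∈ N := mem_iInf.mpr fun w => by
      obtain ⟨n, hn⟩ := hwk w
      by_contra hne
      exact hnone n v w ⟨hn, fun hle => hne (hle (h.E_le_Z hu he))⟩
    rw [hNbot, mem_bot] at this
    rw [this, one_mul, mul_one]
  obtain ⟨α, α', hc⟩ := Nat.find_spec hex
  have hlow : Low G adj (Nat.find hex) := fun m hm u v huv => by
    by_contra hne
    exact Nat.find_min hex hm ⟨u, v, huv, hne⟩
  generalize Nat.find hex = b at hc hlow
  match b, hc, hlow with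
  | 0, hc, _ => exact hc.2 (hc.1 ▸ h.Z_le_Q α)
  | 1, hc, _ =>
    obtain ⟨w, hw, e⟩ := hc.1
    exact hc.2 (hcon α α' (e ▸ hw))
  | 2, hc, hlow =>
    obtain ⟨β, hαβ, γ, hβγ, e⟩ := hc.1
    cases e
    obtain ⟨ε, hαε, hεβ⟩ := h.exists_other hαβ
    rcases h.step (k := 0) hlow hc hαβ (wk_one hβγ) (wk_one hαβ) hβγ hαε hεβ with hA | ⟨hcε, hBα⟩
    · exact h.no_NA_two hlow hαβ hβγ hc hA
    obtain ⟨δ, hεδ, hδα⟩ := h.exists_other (h.symm hαε)
    rcases h.step (k := 0) hlow hcε (h.symm hαε) (wk_one hαβ) (wk_one (h.symm hαε)) hαβ hεδ hδα with hA | ⟨-, hBε⟩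
    · exact h.no_NA_two hlow (h.symm hαε) hαβ hcε hA
    obtain ⟨g, -, hgβ⟩ := h.trans hαε hαβ
    exact h.no_NA_two hlow hαβ hβγ hc
      (h.no_NB_two hlow hαβ hβγ hαε hεβ hc hcε hBα (hgβ ▸ h.NB_smul hBε g))
  | k + 3, hc, hlow =>
    obtain ⟨β, hαβ, hw⟩ := hc.1
    obtain ⟨α₁, hwβ1, h1'⟩ := wk_last hw
    obtain ⟨n, hn, hnβ⟩ := h.exists_other hαβ
    rcases h.step (k := k + 1) hlow hc hαβ hw ⟨β, hαβ, hwβ1⟩ h1' hn hnβ with hA | ⟨hcn, -⟩
    · exact h.no_NA_long hlow hc hA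
    obtain ⟨δ, hδ, hδα⟩ := h.exists_other (h.symm hn)
    obtain ⟨α₂, hwβ2, h21⟩ := wk_last hwβ1
    have hwn : Wk adj (k + 2) n α₂ := ⟨α, h.symm hn, β, hαβ, hwβ2⟩
    rcases h.step (k := k + 1) hlow hcn (h.symm hn) ⟨β, hαβ, hwβ1⟩ hwn h21 hδ hδα with hA | ⟨hcδ, hBn⟩
    · exact h.no_NA_long hlow hcn hA
    obtain ⟨-, r, hr, hr2⟩ := h.crit_main hlow hcδ (h.symm hδ) hwn
    obtain ⟨g, hg, hgδ⟩ := h.trans hδ (h.symm hn)
    have hrα := h.R_smul hr g
    rw [hgδ, mem_stabilizer_iff.mp hg, hBn _ _ hr g hg, mul_inv_cancel_right] at hrα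
    obtain ⟨hc', -⟩ := h.crit_main hlow hc hαβ hw
    obtain ⟨x, hx, hxQ⟩ := SetLike.not_le_iff_exists.mp hc'.2
    have hxq := hlow (k + 2) (by omega) α' β (h.wk_symm hw) hx
    have hxT : x ∈ T G α β := ⟨Q_le_stab (h.symm hαβ) hxq, Q_le _ hxq⟩
    have hx2 : x ∈ Q G adj α₂ := hlow 2 (by omega) α' α₂ ⟨α₁, h.symm h1', wk_one (h.symm h21)⟩ hx
    exact hxQ (h.Q_eq_inf hαβ hn (Ne.symm hnβ) ⟨hxT, hxT.1, h.R_fix hrα hxT.1 (h.comm_Q hr2 hx2).symm⟩)

end Hyp

end Cfsg.Agent.Invol.S4Am
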