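import Mathlib
import Cfsg.Agent.Lib.Grp.Supersolvable
import Cfsg.Agent.Lib.Grp.SupersolvableCriteria

/-!
An irreducible module of a supersolvable group in which every `p'`-element of prime power order has at
most one eigenvalue other than one is one-dimensional.
-/

set_option autoImplicit false

namespace Cfsg.Agent.Invol.SSTwoConj

universe u v

variable {p : ℕ} [hp : Fact p.Prime] {G : Type u} [Group G] [Finite G] {V : Type v} [AddCommGroup V]
  [Module (ZMod p) V] [Finite V]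

/-- An element with one eigenvalue other than one. -/
theorem decomp (X : Module.End (ZMod p) V) (m : ℕ) (hm : ¬ p ∣ m) (hX : X ^ m = 1)
    (h : ∀ c : V, ∃ a : ZMod p, X (X c - c) = a • (X c - c)) :
    X = 1 ∨ ∃ l : ZMod p, l ≠ 1 ∧ ∀ v, ∃ f e, v = f + e ∧ X f = f ∧ X e = l • e := by
  by_cases h1 : X = 1
  · exact Or.inl h1
  right
  obtain ⟨c₀, hc₀⟩ : ∃ c, X c - c ≠ 0 := by
    by_contra hall
    simp only [not_exists, not_not, sub_eq_zero] at hall
    exact h1 (LinearMap.ext hall)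
  obtain ⟨l, hl⟩ := h c₀
  have hall : ∀ c, X (X c - c) = l • (X c - c) := by
    intro c
    obtain ⟨a, ha⟩ := h c
    obtain ⟨b, hb⟩ := h (c₀ + c)
    have he : X (c₀ + c) - (c₀ + c) = (X c₀ - c₀) + (X c - c) := by rw [map_add]; abel
    rw [he, map_add, hl, ha, smul_add] at hb
    by_cases hab : a = b
    · subst hab
      have : (l - a) • (X c₀ - c₀) = 0 := by rw [sub_smul, sub_eq_zero]; exact add_right_cancel hb
      rwa [sub_eq_zero.mp ((smul_eq_zero.mp this).resolve_right hc₀)]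
    · have hab' : a - b ≠ 0 := sub_ne_zero.mpr hab
      have h2 : X c - c = ((a - b)⁻¹ * (b - l)) • (X c₀ - c₀) := by
        rw [mul_smul, eq_inv_smul_iff₀ hab', sub_smul, sub_smul, sub_eq_sub_iff_add_eq_add,
          add_comm (a • (X c - c)), hb]
      rw [h2, map_smul, hl, smul_comm]
  have hl1 : l ≠ 1 := by
    intro e
    subst e
    apply h1
    refine LinearMap.ext fun c => ?_
    have hk : ∀ k : ℕ, (X ^ k) c = c + (k : ZMod p) • (X c - c) := by
      intro k
      induction k with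
      | zero => simp
      | succ k ih =>
        rw [pow_succ', Module.End.mul_apply, ih, map_add, map_smul, hall, one_smul, Nat.cast_succ, add_smul,
          one_smul]
        abel
    have h0 := hk m
    rw [hX, Module.End.one_apply] at h0
    have hm0 : (m : ZMod p) ≠ 0 := fun e => hm ((ZMod.natCast_eq_zero_iff _ _).mp e)
    exact sub_eq_zero.mp ((smul_eq_zero.mp (left_eq_add.mp h0)).resolve_left hm0)
  refine ⟨l, hl1, fun v => ⟨v - (l - 1)⁻¹ • (X v - v), (l - 1)⁻¹ • (X v - v), (sub_add_cancel _ _).symm, ?_, ?_⟩⟩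
  · have hne : l - 1 ≠ 0 := sub_ne_zero.mpr hl1
    rw [map_sub, map_smul, hall]
    have e : ((l - 1)⁻¹ * (l - 1)) • (X v - v) = X v - v := by rw [inv_mul_cancel₀ hne, one_smul]
    rw [mul_smul, sub_smul, one_smul, smul_sub] at e
    generalize (l - 1)⁻¹ • (l • (X v - v)) = A at e ⊢
    generalize (l - 1)⁻¹ • (X v - v) = B at e ⊢
    rw [sub_eq_iff_eq_add'.mp e]
    have e' : X v = (X v - v) + v := (sub_add_cancel _ _).symm
    conv_lhs => rw [e']
    abel
  · rw [map_smul, hall, smul_comm]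

theorem eq_zero_of_smul_eq {a b : ZMod p} {v : V} (h : a • v = b • v) (hab : a ≠ b) : v = 0 :=
  (smul_eq_zero.mp (show (a - b) • v = 0 by rw [sub_smul, h, sub_self])).resolve_left (sub_ne_zero.mpr hab)

theorem zmod_two_cases : ∀ x : ZMod 2, x = 0 ∨ x = 1 := by decide

theorem pow_eq_one_of_coprime {M : Type*} [Monoid M] {x : M} {a b : ℕ} (h : a.Coprime b) (ha : x ^ a = 1)
    (hb : x ^ b = 1) : x = 1 := by
  rw [← pow_one x, ← h.gcd_eq_one]
  exact pow_gcd_eq_one.mpr ⟨ha, hb⟩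

/-- Scalar elements. -/
def scalars (ρ : G →* Module.End (ZMod p) V) [Nontrivial V] : Subgroup G where
  carrier := {g | ∃ a : ZMod p, ∀ v, ρ g v = a • v}
  one_mem' := ⟨1, fun v => by rw [map_one, Module.End.one_apply, one_smul]⟩
  mul_mem' := by
    rintro g h ⟨a, ha⟩ ⟨b, hb⟩
    exact ⟨a * b, fun v => by rw [map_mul, Module.End.mul_apply, hb, map_smul, ha, smul_smul, mul_comm]⟩
  inv_mem' := by
    rintro g ⟨a, ha⟩
    refine ⟨a⁻¹, fun v => ?_⟩
    have h : a • ρ g⁻¹ v = v := by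
      rw [← ha, ← Module.End.mul_apply, ← map_mul, mul_inv_cancel, map_one, Module.End.one_apply]
    have ha0 : a ≠ 0 := by
      rintro rfl
      obtain ⟨w, hw⟩ := exists_ne (0 : V)
      refine hw ?_
      have e : ρ g⁻¹ (ρ g w) = w := by rw [← Module.End.mul_apply, ← map_mul, inv_mul_cancel, map_one, Module.End.one_apply]
      rw [← e, ha, zero_smul, map_zero]
    rw [eq_inv_smul_iff₀ ha0]
    exact h

theorem dim_one [Nontrivial V] (ρ : G →* Module.End (ZMod p) V)
    (hirr : ∀ S : Submodule (ZMod p) V, (∀ g, ∀ v ∈ S, ρ g v ∈ S) → S = ⊥ ∨ S = ⊤)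
    (hss : ∀ K : Subgroup G, ∀ [K.Normal], (∀ g, ρ g = 1 → g ∈ K) → Cfsg.IsSupersolvable (G ⧸ K))
    (h : ∀ (q : ℕ), q.Prime → q ≠ p → ∀ x : G, (∃ a : ℕ, orderOf x = q ^ a) →
      ∀ c, ∃ a : ZMod p, ρ x (ρ x c - c) = a • (ρ x c - c)) :
    ∃ v : V, Submodule.span (ZMod p) {v} = ⊤ := by
  classical
  have hinv : ∀ g : G, ∀ v, ρ g⁻¹ (ρ g v) = v := fun g v => by
    rw [← Module.End.mul_apply, ← map_mul, inv_mul_cancel, map_one, Module.End.one_apply]
  have hinj : ∀ g : G, ∀ v, ρ g v = 0 → v = 0 := fun g v e => by rw [← hinv g v, e, map_zero]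
  have hdec : ∀ (q : ℕ), q.Prime → q ≠ p → ∀ x : G, (∃ a : ℕ, orderOf x = q ^ a) →
      ρ x = 1 ∨ ∃ l : ZMod p, l ≠ 1 ∧ ∀ v, ∃ f e, v = f + e ∧ ρ x f = f ∧ ρ x e = l • e := by
    rintro q hq hqp x ⟨a, ha⟩
    refine decomp (ρ x) (q ^ a) ?_ (by rw [← map_pow, ← ha, pow_orderOf_eq_one, map_one]) (h q hq hqp x ⟨a, ha⟩)
    intro hd
    exact hqp ((Nat.prime_dvd_prime_iff_eq hp.out hq).mp (hp.out.dvd_of_dvd_pow hd)).symm
  have : (scalars ρ).Normal := ⟨fun g ⟨a, ha⟩ y => ⟨a, fun v => by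
    rw [map_mul, map_mul, Module.End.mul_apply, Module.End.mul_apply, ha, map_smul, ← Module.End.mul_apply,
      ← map_mul, mul_inv_cancel, map_one, Module.End.one_apply]⟩⟩
  by_cases htop : scalars ρ = ⊤
  · obtain ⟨v, hv⟩ := exists_ne (0 : V)
    refine ⟨v, (hirr _ fun g w hw => ?_).resolve_left ?_⟩
    · obtain ⟨a, ha⟩ : g ∈ scalars ρ := htop ▸ Subgroup.mem_top g
      rw [ha]; exact Submodule.smul_mem _ a hw
    · rw [Submodule.span_singleton_eq_bot]; exact hv
  exfalso
  have hss' := hss (scalars ρ) fun g hg => ⟨1, fun v => by rw [hg, one_smul, Module.End.one_apply]⟩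
  have : Nontrivial (G ⧸ scalars ρ) := QuotientGroup.nontrivial_iff.mpr htop
  obtain ⟨B, hBn, -, hBr⟩ := Grp.exists_prime_normal_le hss' ⊤ top_ne_bot
  obtain ⟨r, hr⟩ : ∃ r, r = Nat.card B := ⟨_, rfl⟩
  rw [← hr] at hBr
  have := Fact.mk hBr
  obtain ⟨⟨y', hy'⟩, hy1⟩ : ∃ y : B, y ≠ 1 := by
    have : Nontrivial B := Finite.one_lt_card_iff_nontrivial.mp (hr ▸ hBr.one_lt)
    exact exists_ne 1
  obtain ⟨y, rfl⟩ := QuotientGroup.mk'_surjective (scalars ρ) y'
  obtain ⟨b, hbB, hb1, hbpow⟩ : ∃ b : G, QuotientGroup.mk' (scalars ρ) b ∈ B ∧ b ∉ scalars ρ ∧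
      ∃ a, orderOf b = r ^ a := by
    refine ⟨y ^ (orderOf y / r ^ (orderOf y).factorization r), ?_, fun hb => hy1 (Subtype.ext ?_), (orderOf y).factorization r, ?_⟩
    · rw [map_pow]; exact B.pow_mem hy' _
    · show QuotientGroup.mk' (scalars ρ) y = 1
      rw [← orderOf_eq_one_iff]
      have d1 : orderOf (QuotientGroup.mk' (scalars ρ) y) ∣ r := by
        rw [hr]
        exact Subgroup.orderOf_dvd_natCard B hy'
      have d2 : orderOf (QuotientGroup.mk' (scalars ρ) y) ∣ orderOf y / r ^ (orderOf y).factorization r := by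
        rw [orderOf_dvd_iff_pow_eq_one, ← map_pow]
        exact (QuotientGroup.eq_one_iff _).mpr hb
      exact Nat.eq_one_of_dvd_coprimes (Nat.coprime_ordCompl hBr (orderOf_pos y).ne') d1 d2
    · rw [orderOf_pow_of_dvd (Nat.ordCompl_pos r (orderOf_pos y).ne').ne' (Nat.ordCompl_dvd _ _)]
      exact Nat.div_div_self (Nat.ordProj_dvd _ _) (orderOf_pos y).ne'
  -- conjugates of `b`
  have hconj : ∀ g : G, ∃ (i : ℕ) (μ : ZMod p), (∀ v, ρ (g * b * g⁻¹) v = μ • ρ (b ^ i) v) ∧
      g * b * g⁻¹ ∉ scalars ρ ∧ g * b * g⁻¹ * (b ^ i)⁻¹ ∈ scalars ρ := by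
    intro g
    have hne : (⟨_, hbB⟩ : B) ≠ 1 := fun e => hb1 ((QuotientGroup.eq_one_iff _).mp (congrArg Subtype.val e))
    have hg' : QuotientGroup.mk' (scalars ρ) (g * b * g⁻¹) ∈ B := by
      rw [map_mul, map_mul, map_inv]; exact hBn.conj_mem _ hbB _
    obtain ⟨i, hi⟩ := mem_powers_of_prime_card hr.symm hne (g' := ⟨_, hg'⟩)
    have he := congrArg Subtype.val hi
    simp only [SubmonoidClass.coe_pow] at he
    rw [← map_pow] at he
    have hz : g * b * g⁻¹ * (b ^ i)⁻¹ ∈ scalars ρ := by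
      rw [← QuotientGroup.eq_one_iff, ← QuotientGroup.mk'_apply, map_mul, map_inv, ← he, mul_inv_cancel]
    obtain ⟨μ, hμ⟩ := hz
    refine ⟨i, μ, fun v => ?_, fun hmem => hb1 ?_, ⟨μ, hμ⟩⟩
    · rw [← hμ, ← Module.End.mul_apply, ← map_mul]
      congr 2
      group
    · have h2 := (inferInstance : (scalars ρ).Normal).conj_mem _ hmem g⁻¹
      rwa [show g⁻¹ * (g * b * g⁻¹) * g⁻¹⁻¹ = b by group] at h2
  have hfix : ∀ g v, ρ b v = v → ρ (g * b * g⁻¹) (ρ g v) = ρ g v := fun g v hv => by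
    rw [← Module.End.mul_apply, ← map_mul, inv_mul_cancel_right, map_mul, Module.End.mul_apply, hv]
  obtain ⟨a, ha⟩ := hbpow
  by_cases hrp : r = p
  · subst hrp
    obtain ⟨c, hc⟩ : b ^ r ∈ scalars ρ := by
      rw [← QuotientGroup.eq_one_iff, ← QuotientGroup.mk'_apply, map_pow]
      have e := pow_card_eq_one' (G := B) (x := ⟨_, hbB⟩)
      rw [← hr] at e
      exact congrArg Subtype.val e
    have hpow : ∀ (k : ℕ) (v : V), ρ ((b ^ r) ^ k) v = c ^ k • v := by
      intro k
      induction k with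
      | zero => intro v; rw [pow_zero, pow_zero, map_one, Module.End.one_apply, one_smul]
      | succ k ih => intro v; rw [pow_succ, map_mul, Module.End.mul_apply, hc, map_smul, ih, smul_smul, pow_succ, mul_comm]
    have hc1 : c = 1 := by
      obtain ⟨w, hw⟩ := exists_ne (0 : V)
      have e := hpow (r ^ a) w
      rw [← pow_mul, mul_comm, pow_mul, ← ha, pow_orderOf_eq_one, one_pow, map_one, Module.End.one_apply, ha] at e
      by_contra hne
      exact hw (eq_zero_of_smul_eq (a := c ^ r ^ a) (b := 1) (by rw [one_smul]; exact e.symm) (by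
        rw [ZMod.pow_card_pow]; exact hne))
    have hbr : (ρ b) ^ r = 1 := LinearMap.ext fun v => by
      rw [← map_pow, hc, hc1, one_smul, Module.End.one_apply]
    let S := LinearMap.ker (ρ b - 1)
    have hS0 : S ≠ ⊥ := by
      intro hbot
      obtain ⟨w, hw⟩ := exists_ne (0 : V)
      have hz : (ρ b - 1) ^ r = 0 := by
        have e := congrArg (Polynomial.aeval (ρ b))
          (sub_pow_char (Polynomial.X : Polynomial (ZMod r)) 1 (p := r))
        rw [map_pow, map_sub, Polynomial.aeval_X, map_one, map_sub, map_pow, Polynomial.aeval_X, map_pow,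
          map_one, one_pow, hbr, sub_self] at e
        exact e
      have hi : ∀ k : ℕ, Function.Injective (⇑((ρ b - 1) ^ k) : V → V) := by
        intro k
        rw [Module.End.coe_pow]
        exact (LinearMap.ker_eq_bot.mp hbot).iterate k
      exact hw (hi r (by rw [map_zero, hz, LinearMap.zero_apply]))
    have hSmem : ∀ v, v ∈ S ↔ ρ b v = v := fun v => by
      rw [LinearMap.mem_ker, LinearMap.sub_apply, Module.End.one_apply, sub_eq_zero]
    have hSinv : ∀ g, ∀ v ∈ S, ρ g v ∈ S := by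
      intro g v hv
      obtain ⟨i, μ, hμ, hout, -⟩ := hconj g
      rw [hSmem] at hv ⊢
      have hbi : ∀ (j : ℕ) (w : V), ρ (b ^ (r * j)) w = w := fun j w => by
        rw [map_pow, pow_mul, hbr, one_pow, Module.End.one_apply]
      have hμ1 : μ = 1 := by
        obtain ⟨w, hw⟩ := exists_ne (0 : V)
        have hk : ∀ (k : ℕ) (w : V), ρ ((g * b * g⁻¹) ^ k) w = μ ^ k • ρ (b ^ (i * k)) w := by
          intro k
          induction k with
          | zero => intro w; rw [pow_zero, pow_zero, one_smul, mul_zero, pow_zero]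
          | succ k ih =>
            intro w
            rw [pow_succ, map_mul, Module.End.mul_apply, hμ, map_smul, ih, smul_smul, ← Module.End.mul_apply,
              ← map_mul, ← pow_add, pow_succ, mul_comm μ, Nat.mul_succ]
        have e := hk r w
        rw [mul_comm i, hbi, conj_pow, map_mul, map_mul, Module.End.mul_apply, Module.End.mul_apply, map_pow,
          hbr, Module.End.one_apply, ← Module.End.mul_apply, ← map_mul, mul_inv_cancel, map_one,
          Module.End.one_apply, ZMod.pow_card] at e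
        by_contra hne
        exact hw (eq_zero_of_smul_eq (a := μ) (b := 1) (by rw [one_smul]; exact e.symm) hne)
      have hri : ¬ r ∣ i := by
        rintro ⟨j, rfl⟩
        exact hout ⟨1, fun w => by rw [hμ, hμ1, hbi, one_smul]⟩
      obtain ⟨j, hj⟩ : ∃ j : ℕ, (i * j) % r = 1 := by
        obtain ⟨j, hj⟩ := Nat.exists_mul_mod_eq_one_of_coprime ((Nat.Prime.coprime_iff_not_dvd hBr).mpr hri).symm hBr.one_lt
        exact ⟨j, hj.2⟩
      have h1 : ρ (b ^ i) (ρ g v) = ρ g v := by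
        have e := hμ (ρ g v)
        rw [hμ1, one_smul, hfix g v hv] at e
        exact e.symm
      have h2 : ∀ j, ρ (b ^ (i * j)) (ρ g v) = ρ g v := by
        intro j
        induction j with
        | zero => rw [mul_zero, pow_zero, map_one, Module.End.one_apply]
        | succ j ih => rw [Nat.mul_succ, pow_add, map_mul, Module.End.mul_apply, h1, ih]
      have h3 := h2 j
      rw [← Nat.mod_add_div (i * j) r, hj, pow_add, pow_one, map_mul, Module.End.mul_apply, hbi] at h3
      exact h3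
    rcases hirr S hSinv with e | e
    · exact hS0 e
    · exact hb1 ⟨1, fun v => by rw [one_smul]; exact (hSmem v).mp (e ▸ Submodule.mem_top)⟩
  -- the semisimple case
  rcases hdec r hBr hrp b ⟨a, ha⟩ with hone | ⟨l, hl1, hsplit⟩
  · exact hb1 ⟨1, fun v => by rw [hone, one_smul, Module.End.one_apply]⟩
  have hl0 : ∀ v, ρ b v = v → ρ b v = l • v → v = 0 := fun v h1 h2 =>
    eq_zero_of_smul_eq (a := l) (b := 1) (by rw [one_smul, ← h2, h1]) hl1
  have hpowb : ∀ (k : ℕ) (f e : V), ρ b f = f → ρ b e = l • e → ρ (b ^ k) (f + e) = f + l ^ k • e := by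
    intro k f e hf he
    induction k with
    | zero => rw [pow_zero, map_one, Module.End.one_apply, pow_zero, one_smul]
    | succ k ih =>
      rw [pow_succ', map_mul, Module.End.mul_apply, ih, map_add, hf, map_smul, he, smul_smul, pow_succ]
  have huniq : ∀ f e, ρ b f = f → ρ b e = l • e → f + e = 0 → f = 0 ∧ e = 0 := by
    intro f e hf he hs
    have h2 := congrArg (ρ b) hs
    rw [map_add, hf, he, map_zero] at h2
    have he0 : e = 0 := eq_zero_of_smul_eq (a := l) (b := 1) (by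
      rw [one_smul]; exact add_left_cancel (h2.trans hs.symm)) hl1
    exact ⟨by rwa [he0, add_zero] at hs, he0⟩
  obtain ⟨c1, hc10, hc1⟩ : ∃ v, v ≠ 0 ∧ ρ b v = v := by
    by_contra hall
    refine hb1 ⟨l, fun v => ?_⟩
    obtain ⟨f, e, rfl, hf, he⟩ := hsplit v
    have hf0 : f = 0 := by_contra fun hf0 => hall ⟨f, hf0, hf⟩
    rw [hf0, zero_add, he]
  obtain ⟨g, v₀, hv₀, hgv₀⟩ : ∃ g v, ρ b v = v ∧ ρ b (ρ g v) ≠ ρ g v := by
    by_contra hall
    simp only [not_exists, not_and, not_not] at hall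
    have hmem : ∀ v, v ∈ LinearMap.ker (ρ b - 1) ↔ ρ b v = v := fun v => by
      rw [LinearMap.mem_ker, LinearMap.sub_apply, Module.End.one_apply, sub_eq_zero]
    rcases hirr _ (fun g v hv => (hmem _).mpr (hall g v ((hmem v).mp hv))) with e | e
    · exact hc10 ((Submodule.eq_bot_iff _).mp e c1 ((hmem _).mpr hc1))
    · exact hb1 ⟨1, fun v => by rw [one_smul]; exact (hmem v).mp (e ▸ Submodule.mem_top)⟩
  obtain ⟨i, μ, hμ, hout, -⟩ := hconj g
  have hcomp : ∀ v, ρ b v = v → ∃ f e, ρ g v = f + e ∧ ρ b f = f ∧ ρ b e = l • e ∧ (μ - 1) • f = 0 ∧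
      (μ * l ^ i - 1) • e = 0 := by
    intro v hv
    obtain ⟨f, e, hfe, hf, he⟩ := hsplit (ρ g v)
    have h1 := hμ (ρ g v)
    rw [hfix g v hv, hfe, hpowb i f e hf he, smul_add, smul_smul] at h1
    have h2 : (μ - 1) • f + (μ * l ^ i - 1) • e = 0 := by
      rw [sub_smul, sub_smul, one_smul, one_smul, sub_add_sub_comm, ← h1, sub_self]
    exact ⟨f, e, hfe, hf, he, huniq _ _ (by rw [map_smul, hf]) (by rw [map_smul, he, smul_comm]) h2⟩
  have hμl : μ * l ^ i = 1 := by
    obtain ⟨f, e, hfe, hf, -, -, h2⟩ := hcomp v₀ hv₀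
    refine sub_eq_zero.mp ((smul_eq_zero.mp h2).resolve_right fun he0 => hgv₀ ?_)
    rw [hfe, he0, add_zero, hf]
  have hμ1 : μ ≠ 1 := by
    intro e
    rw [e, one_mul] at hμl
    refine hout ⟨1, fun v => ?_⟩
    obtain ⟨f, x, rfl, hf, hx⟩ := hsplit v
    rw [hμ, e, hpowb i f x hf hx, hμl, one_smul, one_smul, one_smul]
  have hgC : ∀ v, ρ b v = v → ρ b (ρ g v) = l • ρ g v := by
    intro v hv
    obtain ⟨f, e, hfe, -, he, h1, -⟩ := hcomp v hv
    rw [hfe, (smul_eq_zero.mp h1).resolve_left (sub_ne_zero.mpr hμ1), zero_add, he]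
  have hgD : ∀ v, ρ b v = l • v → ρ b (ρ g v) = ρ g v := by
    intro v hv
    obtain ⟨f, e, hfe, hf, he⟩ := hsplit (ρ g v)
    have h1 : ρ (g * b * g⁻¹) (ρ g v) = l • ρ g v := by
      rw [← Module.End.mul_apply, ← map_mul, inv_mul_cancel_right, map_mul, Module.End.mul_apply, hv, map_smul]
    rw [hμ, hfe, hpowb i f e hf he, smul_add, smul_smul, hμl, smul_add, one_smul] at h1
    have h2 : (μ - l) • f + (1 - l) • e = 0 := by
      rw [sub_smul, sub_smul, one_smul, sub_add_sub_comm, h1, sub_self]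
    have := (huniq _ _ (by rw [map_smul, hf]) (by rw [map_smul, he, smul_comm]) h2).2
    rw [hfe, (smul_eq_zero.mp this).resolve_left (sub_ne_zero.mpr (Ne.symm hl1)), add_zero, hf]
  have hstep : ∀ k : ℕ, (∀ v, ρ b v = v → ρ b (ρ (g ^ (2 * k)) v) = ρ (g ^ (2 * k)) v) ∧
      (∀ v, ρ b v = l • v → ρ b (ρ (g ^ (2 * k)) v) = l • ρ (g ^ (2 * k)) v) := by
    intro k
    induction k with
    | zero => simp [Module.End.one_apply]
    | succ k ih =>
      refine ⟨fun v hv => ?_, fun v hv => ?_⟩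
      · rw [Nat.mul_succ, pow_add, map_mul, pow_two, map_mul, Module.End.mul_apply, Module.End.mul_apply]
        exact ih.1 _ (hgD _ (hgC v hv))
      · rw [Nat.mul_succ, pow_add, map_mul, pow_two, map_mul, Module.End.mul_apply, Module.End.mul_apply]
        exact ih.2 _ (hgC _ (hgD v hv))
  obtain ⟨t, ht, htC, htD⟩ : ∃ t : G, (∃ k, orderOf t = 2 ^ k) ∧ (∀ v, ρ b v = v → ρ b (ρ t v) = l • ρ t v) ∧
      ∀ v, ρ b v = l • v → ρ b (ρ t v) = ρ t v := by
    obtain ⟨s, hs⟩ : ∃ s, orderOf g / 2 ^ (orderOf g).factorization 2 = 2 * s + 1 :=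
      Nat.not_even_iff_odd.mp fun hev =>
        Nat.not_dvd_ordCompl Nat.prime_two (orderOf_pos g).ne' (even_iff_two_dvd.mp hev)
    refine ⟨g ^ (2 * s + 1), ⟨(orderOf g).factorization 2, ?_⟩, fun v hv => ?_, fun v hv => ?_⟩
    · rw [← hs, orderOf_pow_of_dvd (Nat.ordCompl_pos 2 (orderOf_pos g).ne').ne' (Nat.ordCompl_dvd _ _)]
      exact Nat.div_div_self (Nat.ordProj_dvd _ _) (orderOf_pos g).ne'
    · rw [pow_succ, map_mul, Module.End.mul_apply]
      exact (hstep s).2 _ (hgC v hv)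
    · rw [pow_succ, map_mul, Module.End.mul_apply]
      exact (hstep s).1 _ (hgD v hv)
  have hl00 : l ≠ 0 := by
    intro e0
    obtain ⟨f, e, hfe, hf, he⟩ := hsplit (ρ g c1)
    have h1 := hgC c1 hc1
    rw [e0, zero_smul] at h1
    exact hc10 (hinj g _ (hinj b _ h1))
  have h2p : 2 ≠ p := by
    rintro rfl
    rcases zmod_two_cases l with e | e
    exacts [hl00 e, hl1 e]
  have htne : ρ t c1 ≠ 0 := fun e => hc10 (hinj t _ e)
  have htt : ∀ v, ρ t (ρ t v) = v := by
    rcases hdec 2 Nat.prime_two h2p t ht with hone | ⟨μt, -, htsplit⟩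
    · exfalso
      refine hc10 (hl0 c1 hc1 ?_)
      have e := htC c1 hc1
      rwa [hone, Module.End.one_apply] at e
    have hquad : ∀ v, ρ t (ρ t v) = (1 + μt) • ρ t v - μt • v := by
      intro v
      obtain ⟨f, e, rfl, hf, he⟩ := htsplit v
      simp only [map_add, map_smul, hf, he]
      module
    have hμt : 1 + μt = 0 := by
      by_contra hne
      have h1 := htD _ (htC c1 hc1)
      rw [hquad, map_sub, map_smul, map_smul, htC c1 hc1, hc1, smul_comm] at h1
      have h2 : (l • ((1 + μt) • ρ t c1)) = (1 + μt) • ρ t c1 := sub_left_inj.mp h1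
      exact htne ((smul_eq_zero.mp (eq_zero_of_smul_eq (a := l) (b := 1) (by rw [one_smul]; exact h2) hl1)).resolve_left hne)
    intro v
    rw [hquad, hμt, zero_smul, zero_sub, ← neg_smul, eq_neg_of_add_eq_zero_left hμt |>.symm, one_smul]
  have hbinv : ∀ v, ρ b v = l • v → ρ b⁻¹ v = l⁻¹ • v := by
    intro v hv
    rw [eq_inv_smul_iff₀ hl00, ← map_smul, ← hv, hinv]
  have hbinv1 : ∀ v, ρ b v = v → ρ b⁻¹ v = v := fun v hv => by
    conv_lhs => rw [← hv, hinv]
  -- the commutator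
  obtain ⟨u, hu⟩ : ∃ u, u = b * t * b⁻¹ * t := ⟨_, rfl⟩
  have huC : ∀ v, ρ b v = v → ρ u v = l⁻¹ • v := by
    intro v hv
    simp only [hu, map_mul, Module.End.mul_apply, hbinv _ (htC v hv), map_smul, htt, hv]
  have huD : ∀ v, ρ b v = l • v → ρ u v = l • v := by
    intro v hv
    simp only [hu, map_mul, Module.End.mul_apply, hbinv1 _ (htD v hv), htt, hv]
  obtain ⟨d1, hd10, hd1⟩ : ∃ v, v ≠ 0 ∧ ρ b v = l • v := ⟨ρ t c1, htne, htC c1 hc1⟩
  have hla : l ^ r ^ a = 1 := by
    have e := hpowb (r ^ a) 0 d1 (map_zero _) hd1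
    rw [← ha, pow_orderOf_eq_one, map_one, Module.End.one_apply, zero_add, zero_add, ha] at e
    by_contra hne
    exact hd10 (eq_zero_of_smul_eq (a := l ^ r ^ a) (b := 1) (by rw [one_smul]; exact e.symm) hne)
  obtain ⟨e', he'r, hxpow⟩ : ∃ e' : ℕ, Nat.Coprime r e' ∧ ∃ k, orderOf (u ^ e') = r ^ k :=
    ⟨orderOf u / r ^ (orderOf u).factorization r, Nat.coprime_ordCompl hBr (orderOf_pos u).ne',
      (orderOf u).factorization r, by
        rw [orderOf_pow_of_dvd (Nat.ordCompl_pos r (orderOf_pos u).ne').ne' (Nat.ordCompl_dvd _ _)]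
        exact Nat.div_div_self (Nat.ordProj_dvd _ _) (orderOf_pos u).ne'⟩
  have hupow : ∀ (k : ℕ) (v : V) (s : ZMod p), ρ u v = s • v → ρ (u ^ k) v = s ^ k • v := by
    intro k v s hv
    induction k with
    | zero => rw [pow_zero, map_one, Module.End.one_apply, pow_zero, one_smul]
    | succ k ih => rw [pow_succ, map_mul, Module.End.mul_apply, hv, map_smul, ih, smul_smul, pow_succ, mul_comm]
  have hl2 : l ^ 2 = 1 := by
    have hle : l ^ e' ≠ 1 := fun e => hl1 (pow_eq_one_of_coprime (Nat.Coprime.pow_left a he'r) hla e)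
    have hlie : l⁻¹ ^ e' ≠ 1 := by rw [inv_pow, ne_eq, inv_eq_one]; exact hle
    rcases hdec r hBr hrp (u ^ e') hxpow with hone | ⟨ν, -, hxs⟩
    · exfalso
      have e := hupow e' c1 _ (huC c1 hc1)
      rw [hone, Module.End.one_apply] at e
      exact hc10 (eq_zero_of_smul_eq (a := l⁻¹ ^ e') (b := 1) (by rw [one_smul]; exact e.symm) hlie)
    have key : ∀ v s, v ≠ 0 → ρ (u ^ e') v = s • v → s ≠ 1 → s = ν := by
      intro v s hv0 hv hs1
      by_contra hne
      obtain ⟨f, e, rfl, hf, he⟩ := hxs v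
      have h1 := congrArg (ρ (u ^ e')) hv
      rw [map_add, hf, he, smul_add] at hv
      rw [map_smul, map_add, map_add, hf, he, map_smul, he, hf, smul_add, smul_smul, smul_smul] at h1
      have h2 : (1 - s) • f + (ν - s) • e = 0 := by
        rw [sub_smul, sub_smul, one_smul, sub_add_sub_comm, hv, sub_self]
      have h3 : ((1 - s) • f) + (ν * (ν - s)) • e = 0 := by
        have := congrArg (ρ (u ^ e')) h2
        rwa [map_add, map_smul, map_smul, hf, he, map_zero, smul_smul, mul_comm (ν - s)] at this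
      have h4 : ((ν - 1) * (ν - s)) • e = 0 := by
        have := sub_eq_zero.mpr (h3.trans h2.symm)
        rw [add_sub_add_left_eq_sub, ← sub_smul] at this
        rw [sub_mul, one_mul]
        exact this
      by_cases hν : ν = 1
      · rw [hν, ← smul_add, smul_eq_zero] at h2
        exact hv0 (h2.resolve_left (sub_ne_zero.mpr (Ne.symm hs1)))
      · have he0 := (smul_eq_zero.mp h4).resolve_left (mul_ne_zero (sub_ne_zero.mpr hν) (sub_ne_zero.mpr (Ne.symm hne)))
        rw [he0, smul_zero, add_zero, smul_eq_zero] at h2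
        exact hv0 (by rw [he0, h2.resolve_left (sub_ne_zero.mpr (Ne.symm hs1)), add_zero])
    have e1 := key d1 _ hd10 (hupow e' d1 _ (huD d1 hd1)) hle
    have e2 := key c1 _ hc10 (hupow e' c1 _ (huC c1 hc1)) hlie
    have h2e : (l ^ 2) ^ e' = 1 := by
      rw [← pow_mul, mul_comm, pow_mul, pow_two]
      nth_rw 2 [e1.trans e2.symm]
      rw [inv_pow, mul_inv_cancel₀ (pow_ne_zero _ hl00)]
    exact pow_eq_one_of_coprime (Nat.Coprime.pow_left a he'r) (by rw [← pow_mul, mul_comm, pow_mul, hla, one_pow]) h2e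
  have hlneg : l = -1 := (mul_self_eq_one_iff.mp (by rw [← pow_two, hl2])).resolve_left hl1
  subst hlneg
  obtain ⟨w, hw⟩ : ∃ w, w = b * t := ⟨_, rfl⟩
  have hww : ∀ v, ρ w (ρ w v) = -v := by
    intro v
    obtain ⟨f, e, rfl, hf, he⟩ := hsplit v
    have h1 : ρ w f = -ρ t f := by rw [hw, map_mul, Module.End.mul_apply, htC f hf, neg_smul, one_smul]
    have h2 : ρ w e = ρ t e := by rw [hw, map_mul, Module.End.mul_apply, htD e he]
    simp only [map_add, map_neg, h1, h2]
    rw [hw, map_mul, Module.End.mul_apply, Module.End.mul_apply, htt, htt, hf, he, neg_smul, one_smul]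
    abel
  have hwk : ∀ s : ℕ, ∀ v, ρ (w ^ (2 * s)) v = (-1 : ZMod p) ^ s • v := by
    intro s
    induction s with
    | zero => intro v; rw [mul_zero, pow_zero, map_one, Module.End.one_apply, pow_zero, one_smul]
    | succ s ih =>
      intro v
      rw [Nat.mul_succ, pow_add, pow_two, map_mul, map_mul, Module.End.mul_apply, Module.End.mul_apply, hww,
        ih, pow_succ, mul_smul, neg_smul, one_smul]
  obtain ⟨s, hs⟩ : ∃ s, orderOf w / 2 ^ (orderOf w).factorization 2 = 2 * s + 1 :=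
    Nat.not_even_iff_odd.mp fun hev =>
      Nat.not_dvd_ordCompl Nat.prime_two (orderOf_pos w).ne' (even_iff_two_dvd.mp hev)
  have hxo : ∃ k, orderOf (w ^ (2 * s + 1)) = 2 ^ k := ⟨(orderOf w).factorization 2, by
    rw [← hs, orderOf_pow_of_dvd (Nat.ordCompl_pos 2 (orderOf_pos w).ne').ne' (Nat.ordCompl_dvd _ _)]
    exact Nat.div_div_self (Nat.ordProj_dvd _ _) (orderOf_pos w).ne'⟩
  have hneg1 : (-1 : ZMod p) ≠ 1 := hl1
  have hx2 : ∀ v, ρ (w ^ (2 * s + 1)) (ρ (w ^ (2 * s + 1)) v) = -v := by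
    intro v
    rw [← Module.End.mul_apply, ← map_mul, ← pow_add, show (2 * s + 1) + (2 * s + 1) = 2 * (2 * s + 1) by ring,
      hwk, Odd.neg_one_pow ⟨s, rfl⟩, neg_smul, one_smul]
  have hnofix : ∀ v, ρ (w ^ (2 * s + 1)) v = v → v = 0 := fun v hv => by
    have e := hx2 v
    rw [hv, hv] at e
    exact eq_zero_of_smul_eq (a := -1) (b := 1) (by rw [one_smul, neg_smul, one_smul]; exact e.symm) hneg1
  rcases hdec 2 Nat.prime_two h2p _ hxo with hone | ⟨ν, -, hxs⟩
  · exact hc10 (hnofix c1 (by rw [hone, Module.End.one_apply]))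
  obtain ⟨f, e, hfe, hf, he⟩ := hxs c1
  rw [hnofix f hf, zero_add] at hfe
  subst hfe
  have h1 : ρ w c1 = -ρ t c1 := by rw [hw, map_mul, Module.End.mul_apply, htC c1 hc1, neg_smul, one_smul]
  rw [pow_succ, map_mul, Module.End.mul_apply, hwk, h1, smul_neg, ← neg_smul] at he
  have h3 : ρ b ((-(-1 : ZMod p) ^ s) • ρ t c1) = (-1 : ZMod p) • ((-(-1 : ZMod p) ^ s) • ρ t c1) := by
    rw [map_smul, htC c1 hc1, smul_comm]
  have h4 : (-(-1 : ZMod p) ^ s) • ρ t c1 = 0 := hl0 _ (by rw [he, map_smul, hc1]) h3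
  refine htne ((smul_eq_zero.mp h4).resolve_left (neg_ne_zero.mpr (pow_ne_zero _ ?_)))
  exact neg_ne_zero.mpr one_ne_zero

end Cfsg.Agent.Invol.SSTwoConj
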