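import Cfsg.Agent.Lib.Invol.SSTwoConjIrred
import Cfsg.Agent.Lib.Invol.ExtraRepBound
import Cfsg.Agent.Lib.Grp.Solvable
import Cfsg.Agent.Lib.Transfer.Frobenius
import Cfsg.Agent.S0579
import Cfsg.Agent.S0526

/-!
Supersolvability from the orders of subgroups generated by two conjugate elements of prime power order.
-/

set_option autoImplicit false

namespace Cfsg.Agent.Invol.SSTwoConj

open Subgroup

universe u

/-- The hypothesis. -/
def TwoConj (G : Type u) [Group G] : Prop :=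
  ∀ (p q : ℕ), p.Prime → q.Prime → p ≠ q → ∀ (x g : G), (∃ a : ℕ, orderOf x = p ^ a) → (∃ b : ℕ, orderOf g = q ^ b) →
    ¬ q ^ 2 ∣ Nat.card ↥(zpowers x ⊔ zpowers (g * x * g⁻¹))

theorem TwoConj.subgroup {G : Type u} [Group G] (h : TwoConj G) (H : Subgroup G) : TwoConj H := by
  intro p q hp hq hpq x g hx hg hd
  refine h p q hp hq hpq x g (by simpa using hx) (by simpa using hg) ?_
  rw [← Subgroup.card_map_of_injective (f := H.subtype) H.subtype_injective, Subgroup.map_sup,
    MonoidHom.map_zpowers, MonoidHom.map_zpowers] at hd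
  simpa using hd

theorem exists_lift {G H : Type*} [Group G] [Finite G] [Group H] {f : G →* H} (hf : Function.Surjective f)
    {p : ℕ} (hp : p.Prime) {x : H} (hx : ∃ a : ℕ, orderOf x = p ^ a) :
    ∃ y : G, f y = x ∧ ∃ b : ℕ, orderOf y = p ^ b := by
  obtain ⟨y, rfl⟩ := hf x
  obtain ⟨a, ha⟩ := hx
  set m := orderOf y / p ^ (orderOf y).factorization p with hm
  have hco : (orderOf (f y)).Coprime m := by
    rw [ha]; exact (Nat.coprime_ordCompl hp (orderOf_pos y).ne').pow_left a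
  obtain ⟨j, hj⟩ := exists_pow_eq_self_of_coprime hco.symm
  refine ⟨(y ^ m) ^ j, by rw [map_pow, map_pow, hj], ?_⟩
  have h1 : orderOf (y ^ m) = p ^ (orderOf y).factorization p := by
    rw [orderOf_pow_of_dvd (Nat.ordCompl_pos p (orderOf_pos y).ne').ne' (Nat.ordCompl_dvd _ _)]
    exact Nat.div_div_self (Nat.ordProj_dvd _ _) (orderOf_pos y).ne'
  obtain ⟨b, -, hb⟩ := (Nat.dvd_prime_pow hp).mp (h1 ▸ orderOf_pow_dvd j)
  exact ⟨b, hb⟩

theorem TwoConj.quotient {G : Type u} [Group G] [Finite G] (h : TwoConj G) (N : Subgroup G) [N.Normal] :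
    TwoConj (G ⧸ N) := by
  intro p q hp hq hpq x g hx hg hd
  obtain ⟨x', rfl, hx'⟩ := exists_lift (QuotientGroup.mk'_surjective N) hp hx
  obtain ⟨g', rfl, hg'⟩ := exists_lift (QuotientGroup.mk'_surjective N) hq hg
  refine h p q hp hq hpq x' g' hx' hg' (hd.trans ?_)
  have e : zpowers (QuotientGroup.mk' N x') ⊔ zpowers (QuotientGroup.mk' N g' * QuotientGroup.mk' N x' *
      (QuotientGroup.mk' N g')⁻¹) = (zpowers x' ⊔ zpowers (g' * x' * g'⁻¹)).map (QuotientGroup.mk' N) := by
    rw [Subgroup.map_sup, MonoidHom.map_zpowers, MonoidHom.map_zpowers, map_mul, map_mul, map_inv]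
  rw [e]
  exact Subgroup.card_map_dvd _ _

theorem minimal_aux {G : Type u} [Group G] [Finite G] (hG : TwoConj G) (N : Subgroup G) [N.Normal]
    {A : Type u} [CommGroup A] [Finite A] [Nontrivial A] {p : ℕ} (hp : p.Prime) [Module (ZMod p) (Additive A)]
    (ι : A →* G) (hι : Function.Injective ι) (hrange : ∀ x, x ∈ N ↔ ∃ a, ι a = x)
    (φ : G →* MulAut A) (hφ : ∀ (g : G) (c : A), ι (φ g c) = g * ι c * g⁻¹)
    (hexp : ∀ x ∈ N, x ^ p = 1) (hab : ∀ a ∈ N, ∀ b ∈ N, a * b = b * a)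
    (hmin : ∀ M : Subgroup G, M.Normal → M ≤ N → M = ⊥ ∨ M = N)
    (hquot : Cfsg.IsSupersolvable (G ⧸ N)) : IsCyclic ↥N := by
  let ρ : G →* Module.End (ZMod p) (Additive A) := MonoidHom.comp (Invol.ExtraRep.autToEnd p A) φ
  haveI := Fact.mk hp
  have hρ : ∀ (g : G) (c : Additive A), ρ g c = Additive.ofMul (φ g (Additive.toMul c)) := fun _ _ => rfl
  have hmem : ∀ a, ι a ∈ N := fun a => (hrange _).mpr ⟨a, rfl⟩
  suffices hex : ∃ v : Additive A, Submodule.span (ZMod p) {v} = ⊤ by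
    obtain ⟨v, hv⟩ := hex
    refine ⟨⟨⟨ι (Additive.toMul v), hmem _⟩, fun c => ?_⟩⟩
    obtain ⟨c', hc'⟩ := (hrange _).mp c.2
    obtain ⟨a, ha⟩ := Submodule.mem_span_singleton.mp (hv ▸ Submodule.mem_top : Additive.ofMul c' ∈ Submodule.span (ZMod p) {v})
    refine ⟨(a.val : ℤ), Subtype.ext ?_⟩
    rw [← ZMod.natCast_zmod_val a, Nat.cast_smul_eq_nsmul] at ha
    have e := congrArg (fun z => ι (Additive.toMul z)) ha
    simp only [toMul_nsmul, toMul_ofMul, map_pow] at e
    simp only [zpow_natCast, SubmonoidClass.coe_pow, ← hc', ← e]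
  refine dim_one ρ ?_ ?_ ?_
  · intro S hS
    let M : Subgroup G :=
      { carrier := {x | ∃ a : A, ι a = x ∧ Additive.ofMul a ∈ S}
        one_mem' := ⟨1, map_one ι, by rw [ofMul_one]; exact S.zero_mem⟩
        mul_mem' := by
          rintro _ _ ⟨a, rfl, ha⟩ ⟨b, rfl, hb⟩
          exact ⟨a * b, map_mul ι a b, by rw [ofMul_mul]; exact S.add_mem ha hb⟩
        inv_mem' := by
          rintro _ ⟨a, rfl, ha⟩
          exact ⟨a⁻¹, map_inv ι a, by rw [ofMul_inv]; exact S.neg_mem ha⟩ }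
    have hMn : M.Normal := ⟨by
      rintro _ ⟨a, rfl, ha⟩ g
      have e := hS g _ ha
      rw [hρ, toMul_ofMul] at e
      exact ⟨φ g a, hφ g a, e⟩⟩
    rcases hmin M hMn (by rintro _ ⟨a, rfl, -⟩; exact hmem a) with e | e
    · left
      rw [Submodule.eq_bot_iff]
      intro c hc
      have hm : ι (Additive.toMul c) ∈ M := ⟨_, rfl, hc⟩
      rw [e, mem_bot, ← map_one ι] at hm
      exact Additive.toMul.injective (hι hm)
    · right
      rw [Submodule.eq_top_iff']
      intro c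
      obtain ⟨a, ha, hc⟩ : ι (Additive.toMul c) ∈ M := e ▸ hmem _
      rw [hι ha] at hc
      exact hc
  · intro K hK hker
    have hle : N ≤ K := fun x hx => hker x (LinearMap.ext fun c => Additive.toMul.injective (hι (by
      rw [hρ, toMul_ofMul, hφ, hab x hx _ (hmem _), mul_inv_cancel_right]; rfl)))
    exact Grp.isSupersolvable_of_surjective (f := QuotientGroup.map N K (MonoidHom.id G) hle)
      (QuotientGroup.map_surjective_of_surjective N K (MonoidHom.id G)
        ((QuotientGroup.mk'_surjective K).comp Function.surjective_id) hle) hquot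
  · rintro q hq hqp x hx c
    obtain ⟨n, hn⟩ : ∃ n, c = Additive.ofMul n := ⟨Additive.toMul c, rfl⟩
    rw [hn]
    obtain ⟨d, hd⟩ : ∃ d : A, d = φ x n / n := ⟨_, rfl⟩
    have hd0 : ρ x (Additive.ofMul n) - Additive.ofMul n = Additive.ofMul d := by rw [hd, hρ, ofMul_div]; rfl
    rw [hd0, hρ, toMul_ofMul]
    by_cases hd1 : d = 1
    · exact ⟨0, by rw [hd1, map_one, ofMul_one, zero_smul]⟩
    obtain ⟨W, hW⟩ : ∃ W, W = zpowers x ⊔ zpowers (ι n * x * (ι n)⁻¹) := ⟨_, rfl⟩
    have hdG : ι d = x * (ι n * x * (ι n)⁻¹)⁻¹ := by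
      rw [hd, map_div, hφ, div_eq_mul_inv]; group
    have hxW : x ∈ W := hW ▸ mem_sup_left (mem_zpowers x)
    have hdW : ι d ∈ W ⊓ N := mem_inf.mpr ⟨hdG ▸ W.mul_mem hxW (W.inv_mem (hW ▸ mem_sup_right (mem_zpowers _))), hmem _⟩
    have hxd : ι (φ x d) ∈ W ⊓ N := mem_inf.mpr ⟨by
      rw [hφ]; exact W.mul_mem (W.mul_mem hxW (mem_inf.mp hdW).1) (W.inv_mem hxW), hmem _⟩
    have hnd := hG q p hq hp hqp x (ι n) hx (by
      rcases (Nat.dvd_prime hp).mp (orderOf_dvd_of_pow_eq_one (hexp _ (hmem n))) with e | e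
      · exact ⟨0, by rw [e, pow_zero]⟩
      · exact ⟨1, by rw [e, pow_one]⟩)
    rw [← hW] at hnd
    have hz : zpowers (ι d) = W ⊓ N := by
      refine Subgroup.eq_of_le_of_card_ge (zpowers_le.mpr hdW) ?_
      have hdp : orderOf (ι d) = p := orderOf_eq_prime (hexp _ (hmem d)) (fun e => hd1 (hι (e.trans (map_one ι).symm)))
      rw [Nat.card_zpowers, hdp]
      have hP : IsPGroup p ↥(W ⊓ N) := fun y => ⟨1, Subtype.ext (by
        simpa using hexp y.1 (mem_inf.mp y.2).2)⟩
      haveI := Fact.mk hp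
      obtain ⟨k, hk⟩ := hP.exists_card_eq
      rw [hk]
      rcases k with _ | _ | k
      · exact hp.pos
      · rw [pow_one]
      · exact absurd ((pow_dvd_pow p (by omega : 2 ≤ k + 1 + 1)).trans (hk ▸ Subgroup.card_dvd_of_le inf_le_left)) hnd
    obtain ⟨j, hj⟩ := mem_zpowers_iff.mp (hz ▸ hxd)
    refine ⟨(j : ZMod p), ?_⟩
    rw [Int.cast_smul_eq_zsmul, ← ofMul_zpow]
    congr 1
    exact hι (by rw [map_zpow]; exact hj.symm)

theorem isSolvable_of_ss {G : Type u} [Group G] [Finite G] (h : Cfsg.IsSupersolvable G) : Group.IsSolvable G := by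
  have := S0526.result h
  exact Group.isSolvable_of_ker_le_range (commutator G).subtype (Abelianization.of (G := G))
    (by rw [Abelianization.ker_of, Subgroup.range_subtype])

theorem minimal {G : Type u} [Group G] [Finite G] (hG : TwoConj G) (N : Subgroup G) [N.Normal]
    (hN : N ≠ ⊥) (hmin : ∀ M : Subgroup G, M.Normal → M ≤ N → M = ⊥ ∨ M = N) (hs : Group.IsSolvable N)
    (hquot : Cfsg.IsSupersolvable (G ⧸ N)) : Cfsg.IsSupersolvable G := by
  obtain ⟨hab, p, hp, hexp⟩ := Grp.minimal_normal_solvable hs hN hmin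
  have hcyc : IsCyclic ↥N := by
    letI : CommGroup ↥N := { (inferInstance : Group ↥N) with mul_comm := fun a b => hab.is_comm.comm a b }
    haveI := Fact.mk hp
    haveI : Nontrivial ↥N := (Subgroup.nontrivial_iff_ne_bot N).mpr hN
    exact @minimal_aux G _ _ hG N _ ↥N _ _ _ p hp
      (AddCommGroup.zmodModule fun a => Additive.toMul.injective (Subtype.ext (by
        rw [toMul_nsmul, toMul_zero]; simpa using hexp _ (Additive.toMul a).2)))
      N.subtype N.subtype_injective (fun x => ⟨fun hx => ⟨⟨x, hx⟩, rfl⟩, fun ⟨a, ha⟩ => ha ▸ a.2⟩)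
      MulAut.conjNormal (fun _ _ => rfl) hexp
      (fun a ha b hb => congrArg Subtype.val (hab.is_comm.comm (⟨a, ha⟩ : N) ⟨b, hb⟩)) hmin hquot
  exact Grp.isSupersolvable_of_cyclic_normal N hquot

theorem main : ∀ (n : ℕ) (G : Type u) [Group G] [Finite G], Nat.card G = n → TwoConj G →
    Cfsg.IsSupersolvable G := by
  intro n
  induction n using Nat.strong_induction_on with
  | _ n IH =>
  intro G _ _ hn hG
  classical
  have hsub : ∀ H : Subgroup G, H ≠ ⊤ → Cfsg.IsSupersolvable H := fun H hH =>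
    IH _ (hn ▸ lt_of_le_of_ne (Nat.le_of_dvd Nat.card_pos (Subgroup.card_subgroup_dvd_card H)) fun e =>
      hH (Subgroup.eq_top_of_card_eq H e)) H rfl (hG.subgroup H)
  have hquot : ∀ (N : Subgroup G) [N.Normal], N ≠ ⊥ → Cfsg.IsSupersolvable (G ⧸ N) := fun N _ hN =>
    IH _ (hn ▸ by
      rw [Subgroup.card_eq_card_quotient_mul_card_subgroup N]
      exact lt_mul_of_one_lt_right Nat.card_pos ((Subgroup.one_lt_card_iff_ne_bot N).mpr hN))
      (G ⧸ N) rfl (hG.quotient N)
  rcases subsingleton_or_nontrivial G with hss | hnt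
  · exact ⟨0, fun _ => ⊥, rfl, Subsingleton.elim _ _, fun _ => inferInstance, fun i => i.elim0⟩
  obtain ⟨N, hNn, hN, -, hmin⟩ := Grp.exists_minimal_normal_le (N := (⊤ : Subgroup G)) top_ne_bot
  by_cases hNtop : N = ⊤
  swap
  · exact minimal hG N hN hmin (isSolvable_of_ss (hsub N hNtop)) (hquot N hN)
  -- no proper normal subgroup
  obtain ⟨p, hp, hpdvd, hpmin⟩ : ∃ p, p.Prime ∧ p ∣ Nat.card G ∧ ∀ q, q.Prime → q ∣ Nat.card G → p ≤ q := by
    have h1 : Nat.card G ≠ 1 := (Finite.one_lt_card (α := G)).ne'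
    exact ⟨_, Nat.minFac_prime h1, Nat.minFac_dvd _, fun q hq hd => Nat.minFac_le_of_dvd hq.two_le hd⟩
  have := Fact.mk hp
  have hsimp : ∀ U : Subgroup G, U.Normal → U = ⊥ ∨ U = ⊤ := fun U hU =>
    hNtop ▸ hmin U hU (hNtop ▸ le_top)
  by_cases hsol : Group.IsSolvable G
  · exact minimal hG N hN hmin inferInstance (hquot N hN)
  exfalso
  obtain ⟨P₀⟩ : Nonempty (Sylow p G) := inferInstance
  have hnp : Cfsg.HasNormalPComplement p G := by
    rw [Transfer.hasNormalPComplement_iff_frobeniusCondition P₀]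
    intro Q hQ g hg hgp
    rcases eq_or_ne Q ⊥ with hb | hb
    · rw [mem_centralizer_iff]; intro q hq; rw [hb, SetLike.mem_coe, mem_bot] at hq; simp [hq]
    have hne : normalizer (Q : Set G) ≠ ⊤ := by
      intro e
      have hQn : Q.Normal := Subgroup.normalizer_eq_top_iff.mp e
      rcases hsimp Q hQn with e' | e'
      · exact hb e'
      · have h1 : IsPGroup p G := fun x => by
          obtain ⟨k, hk⟩ := (IsPGroup.to_le P₀.isPGroup' hQ) ⟨x, e' ▸ mem_top x⟩
          exact ⟨k, by simpa using congrArg Subtype.val hk⟩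
        exact hsol (by have := h1.isNilpotent; infer_instance)
    have hQM : Q ≤ normalizer (Q : Set G) := le_normalizer
    haveI : (Q.subgroupOf (normalizer (Q : Set G))).Normal := normal_in_normalizer
    have hco : (orderOf (⟨g, hg⟩ : normalizer (Q : Set G))).Coprime (p - 1) := by
      rw [Subgroup.orderOf_mk]
      refine Nat.coprime_of_dvd fun r hr hr1 hr2 => ?_
      have hrp := hpmin r hr (hr1.trans (orderOf_dvd_natCard g))
      have hle := Nat.le_of_dvd (Nat.sub_pos_of_lt hp.one_lt) hr2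
      exact absurd (hle.trans_lt (Nat.sub_lt hp.pos one_pos)) (not_lt.mpr hrp)
    obtain ⟨j, hj⟩ := exists_pow_eq_self_of_coprime hco.symm
    rw [mem_centralizer_iff]
    intro q hq
    have hcomm := S0579.centralizes_of_supersolvable (r := p) _ rfl (hsub _ hne)
      (Q.subgroupOf (normalizer (Q : Set G)))
      ((IsPGroup.to_le P₀.isPGroup' hQ).comap_of_injective _ (Subgroup.subtype_injective _))
      ⟨g, hg⟩ 1 ((⟨g, hg⟩ : normalizer (Q : Set G)) ^ (p - 1)) (Or.inr rfl)
      (Nat.Coprime.coprime_dvd_left (orderOf_pow_dvd _) (by rw [Subgroup.orderOf_mk]; exact hgp))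
      ⟨q, hQM hq⟩ (mem_subgroupOf.mpr hq)
    have h2 : Commute (⟨g, hg⟩ : normalizer (Q : Set G)) ⟨q, hQM hq⟩ := by
      conv_lhs => rw [← hj]
      exact (show Commute _ _ from hcomm).pow_left j
    exact (congrArg Subtype.val h2.eq).symm
  obtain ⟨P, K, hK, hKc⟩ := hnp
  rcases hsimp K hK with e | e
  · subst e
    have h1 := hKc.card_mul
    rw [Subgroup.card_bot, one_mul] at h1
    have hG' : IsPGroup p G := IsPGroup.of_card (n := (Nat.card G).factorization p) (by
      rw [← h1]; exact (P.card_eq_multiplicity).trans (by rw [h1]))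
    exact hsol (by have := hG'.isNilpotent; infer_instance)
  · subst e
    have h1 := hKc.card_mul
    rw [Subgroup.card_top] at h1
    have hP1 : Nat.card P = 1 := (mul_eq_left₀ (Nat.card_pos (α := G)).ne').mp h1
    have h2 := P.card_eq_multiplicity
    rw [hP1] at h2
    exact absurd h2.symm (Nat.one_lt_pow (Nat.Prime.factorization_pos_of_dvd hp Nat.card_pos.ne' hpdvd).ne' hp.one_lt).ne'

end Cfsg.Agent.Invol.SSTwoConj
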