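import Cfsg.Agent.Lib.Invol.ZStarTwoElement

/-!
# A 2-group acting on a normal complement with a shared centralizer

If `G = QN`, `Q` a 2-group meeting the normal subgroup `N` trivially, and an element `t` of
`Z(Q) ∩ [Q,Q]` has the same centralizer in `N` as `Q`, then `[N,Q]` lies in the odd core.
-/

set_option autoImplicit false
set_option linter.unusedSectionVars false
set_option linter.style.haveILetI false

namespace Cfsg.Agent.SharedCentralizerTwo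

open scoped commutatorElement Pointwise

universe u

variable {G : Type u} [Group G]

/-- A homomorphism on `Q` with commuting values kills `[Q,Q]`. -/
theorem eq_one_of_mem_commutator {Q : Subgroup G} (φ : ↥Q →* G) (hc : ∀ a b : ↥Q, Commute (φ a) (φ b))
    {t : G} (ht : t ∈ ⁅Q, Q⁆) (htQ : t ∈ Q) : φ ⟨t, htQ⟩ = 1 := by
  have hle : ⁅Q, Q⁆ ≤ φ.ker.map Q.subtype := by
    refine Subgroup.commutator_le.2 fun a ha b hb => Subgroup.mem_map.2 ⟨⁅(⟨a, ha⟩ : Q), ⟨b, hb⟩⁆, ?_, ?_⟩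
    · rw [MonoidHom.mem_ker, map_commutatorElement, commutatorElement_eq_one_iff_commute]
      exact hc _ _
    · simp [commutatorElement_def]
  obtain ⟨z, hz, hzt⟩ := Subgroup.mem_map.1 (hle ht)
  rw [show (⟨t, htQ⟩ : Q) = z from Subtype.ext hzt.symm]
  exact hz

variable [Finite G] {N Q : Subgroup G} [N.Normal]

theorem commute_of_mem {t : G} (hC : N ⊓ Subgroup.centralizer (Q : Set G) = N ⊓ Subgroup.centralizer ({t} : Set G))
    {y : G} (hy : y ∈ N) (hyt : Commute y t) {q : G} (hq : q ∈ Q) : Commute y q := by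
  have h : y ∈ N ⊓ Subgroup.centralizer (Q : Set G) := by
    rw [hC]
    exact ⟨hy, Subgroup.mem_centralizer_singleton_iff.2 hyt⟩
  exact (Subgroup.mem_centralizer_iff.1 h.2 q hq).symm

/-- `Q` centralizes the intersection with `N` of a Sylow 2-subgroup containing it. -/
theorem sylow_inf_le (hG : Q ⊔ N = ⊤) (hdisj : Q ⊓ N = ⊥) {t : G} (htQ : t ∈ Q) (htc : t ∈ ⁅Q, Q⁆)
    (hC : N ⊓ Subgroup.centralizer (Q : Set G) = N ⊓ Subgroup.centralizer ({t} : Set G))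
    (P : Sylow 2 G) (hQP : Q ≤ (P : Subgroup G)) {a : G} (haP : a ∈ (P : Subgroup G)) (haN : a ∈ N)
    {q : G} (hq : q ∈ Q) : Commute a q := by
  haveI : Fact (Nat.Prime 2) := ⟨Nat.prime_two⟩
  set Z := (P : Subgroup G) ⊓ N ⊓ Subgroup.centralizer (Q : Set G) with hZ
  have hZQ : ∀ z ∈ Z, ∀ r ∈ Q, Commute z r := fun z hz r hr =>
    (Subgroup.mem_centralizer_iff.1 hz.2 r hr).symm
  set H := Z ⊔ Q with hH
  have hHdec : ∀ h ∈ H, ∃ z ∈ Z, ∃ r ∈ Q, z * r = h := by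
    intro h hh
    have hle : Q ≤ Subgroup.normalizer (Z : Set G) := fun r hr => Subgroup.mem_normalizer_iff.2
      fun y => by
        constructor
        · intro hy
          rwa [← (hZQ y hy r hr).eq, mul_inv_cancel_right]
        · intro hy
          have h1 := (hZQ _ hy r hr).eq
          rw [show y = r * y * r⁻¹ by
            rw [inv_mul_cancel_right] at h1
            exact (mul_left_cancel h1).trans rfl]
          exact hy
    have h2 : h ∈ ((Q ⊔ Z : Subgroup G) : Set G) := by rw [sup_comm]; exact hh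
    rw [Subgroup.coe_mul_of_left_le_normalizer_right Q Z hle] at h2
    obtain ⟨r, hr, z, hz, rfl⟩ := Set.mem_mul.1 h2
    exact ⟨z, hz, r, hr, (hZQ z hz r hr).eq⟩
  have hHN : ∀ h ∈ H, h ∈ N → h ∈ Z := by
    intro h hh hN
    obtain ⟨z, hz, r, hr, rfl⟩ := hHdec h hh
    have hzN : z ∈ N := hz.1.2
    have hrN : r ∈ N := by simpa using mul_mem (inv_mem hzN) hN
    have : r ∈ Q ⊓ N := ⟨hr, hrN⟩
    rw [hdisj, Subgroup.mem_bot] at this
    rwa [this, mul_one]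
  by_cases hHP : (P : Subgroup G) ≤ H
  · exact hZQ a (hHN a (hHP haP) haN) q hq
  exfalso
  have hHleP : H ≤ (P : Subgroup G) := sup_le (fun z hz => hz.1.1) hQP
  haveI : Group.IsNilpotent ↥(P : Subgroup G) := P.isPGroup'.isNilpotent
  have hlt : H.subgroupOf (P : Subgroup G) < ⊤ :=
    lt_top_iff_ne_top.2 fun e => hHP (Subgroup.subgroupOf_eq_top.1 e)
  obtain ⟨x, hxn, hxH⟩ := SetLike.exists_of_lt (Group.normalizerCondition_of_isNilpotent _ hlt)
  have hxn' : ∀ h : G, h ∈ H → (x : G) * h * (x : G)⁻¹ ∈ H := fun h hh => by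
    have := (Subgroup.mem_normalizer_iff.1 hxn ⟨h, hHleP hh⟩).1 hh
    exact this
  have hxH' : (x : G) ∉ H := hxH
  obtain ⟨r₀, hr₀, y, hy, hxy⟩ := Subgroup.mem_sup_of_normal_right.1 (hG ▸ Subgroup.mem_top (x : G)⁻¹)
  set w := y⁻¹ with hw
  have hx : (x : G) = w * r₀⁻¹ := by rw [hw, ← mul_inv_rev, hxy, inv_inv]
  have hwn : ∀ h : G, h ∈ H → w * h * w⁻¹ ∈ H := fun h hh => by
    have := hxn' (r₀ * h * r₀⁻¹) (mul_mem (mul_mem (Subgroup.mem_sup_right hr₀) hh)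
      (inv_mem (Subgroup.mem_sup_right hr₀)))
    rwa [hx, show w * r₀⁻¹ * (r₀ * h * r₀⁻¹) * (w * r₀⁻¹)⁻¹ = w * h * w⁻¹ by group] at this
  have hwN : w ∈ N := inv_mem hy
  have hwP : w ∈ (P : Subgroup G) := by
    rw [show w = (x : G) * r₀ by rw [hx]; group]
    exact mul_mem x.2 (hQP hr₀)
  have hwn' : ∀ z ∈ Z, w⁻¹ * z * w ∈ Z := by
    intro z hz
    refine hHN _ ?_ ?_
    · have hx' : ∀ h : G, h ∈ H → (x : G)⁻¹ * h * (x : G) ∈ H := fun h hh => by
        have h2 := (Subgroup.mem_normalizer_iff.1 (inv_mem hxn) ⟨h, hHleP hh⟩).1 hh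
        simpa [Subgroup.mem_subgroupOf] using h2
      have h3 := hx' z (Subgroup.mem_sup_left hz)
      rw [hx] at h3
      have h4 := mul_mem (mul_mem (inv_mem (Subgroup.mem_sup_right hr₀ : r₀ ∈ H)) h3)
        (Subgroup.mem_sup_right hr₀ : r₀ ∈ H)
      simpa [mul_assoc] using h4
    · simpa using Subgroup.Normal.conj_mem inferInstance z hz.1.2 w⁻¹
  have hcZ : ∀ r ∈ Q, w * r * w⁻¹ * r⁻¹ ∈ Z := fun r hr => by
    refine hHN _ (mul_mem (hwn r (Subgroup.mem_sup_right hr)) (inv_mem (Subgroup.mem_sup_right hr))) ?_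
    rw [show w * r * w⁻¹ * r⁻¹ = w * (r * w⁻¹ * r⁻¹) by group]
    exact mul_mem hwN (Subgroup.Normal.conj_mem inferInstance _ (inv_mem hwN) r)
  let φ : ↥Q →* G := MonoidHom.mk' (fun r => w * (r : G) * w⁻¹ * (r : G)⁻¹) fun r s => by
    have h := (hZQ _ (hcZ s s.2) r r.2).eq
    calc w * ((r : G) * s) * w⁻¹ * ((r : G) * s)⁻¹
        = w * r * w⁻¹ * ((w * s * w⁻¹ * (s : G)⁻¹) * (r : G)⁻¹) := by group
      _ = w * r * w⁻¹ * ((r : G)⁻¹ * (w * s * w⁻¹ * (s : G)⁻¹)) := by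
          rw [(hZQ _ (hcZ s s.2) (r : G)⁻¹ (inv_mem r.2)).eq]
      _ = _ := by group
  have hφ : ∀ r s : ↥Q, Commute (φ r) (φ s) := fun r s => by
    have hs : φ s ∈ Z := hcZ s s.2
    have h1 : Commute (w * (r : G) * w⁻¹) (φ s) := by
      have h2 : Commute (r : G) (w⁻¹ * φ s * w) := (hZQ _ (hwn' _ hs) r r.2).symm
      have h3 := h2.map (MulAut.conj w).toMonoidHom
      simpa [mul_assoc] using h3
    exact h1.mul_left (hZQ _ hs _ (inv_mem r.2)).symm
  have h1 : w * t * w⁻¹ * t⁻¹ = 1 := eq_one_of_mem_commutator φ hφ htc htQ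
  have hwt : Commute w t := by
    have := mul_inv_eq_one.1 h1
    exact mul_inv_eq_iff_eq_mul.1 this
  have hwZ : w ∈ Z := ⟨⟨hwP, hwN⟩,
    Subgroup.mem_centralizer_iff.2 fun r hr => (commute_of_mem hC hwN hwt hr).eq.symm⟩
  exact hxH' (hx ▸ mul_mem (Subgroup.mem_sup_left hwZ) (inv_mem (Subgroup.mem_sup_right hr₀)))

/-- `t` has only one conjugate in a Sylow 2-subgroup containing `Q`. -/
theorem unique_conj (hG : Q ⊔ N = ⊤) (hdisj : Q ⊓ N = ⊥) {t : G} (htQ : t ∈ Q) (htc : t ∈ ⁅Q, Q⁆)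
    (htz : ∀ q ∈ Q, Commute t q)
    (hC : N ⊓ Subgroup.centralizer (Q : Set G) = N ⊓ Subgroup.centralizer ({t} : Set G))
    (P : Sylow 2 G) (hQP : Q ≤ (P : Subgroup G)) (g : G) (hg : g * t * g⁻¹ ∈ (P : Subgroup G)) :
    g * t * g⁻¹ = t := by
  obtain ⟨r, hr, n, hn, rfl⟩ := Subgroup.mem_sup_of_normal_right.1 (hG ▸ Subgroup.mem_top g)
  set x := n * t * n⁻¹ with hx
  have hxP : x ∈ (P : Subgroup G) := by
    rw [show x = r⁻¹ * (r * n * t * (r * n)⁻¹) * r by rw [hx]; group]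
    exact mul_mem (mul_mem (inv_mem (hQP hr)) hg) (hQP hr)
  suffices hxt : x = t by
    rw [show r * n * t * (r * n)⁻¹ = r * x * r⁻¹ by rw [hx]; group, hxt, ← (htz r hr).eq,
      mul_inv_cancel_right]
  set a := x * t⁻¹ with ha
  have haN : a ∈ N := by
    rw [show a = n * (t * n⁻¹ * t⁻¹) by rw [ha, hx]; group]
    exact mul_mem hn (Subgroup.Normal.conj_mem inferInstance _ (inv_mem hn) t)
  have haQ : ∀ q ∈ Q, Commute a q := fun q hq =>
    sylow_inf_le hG hdisj htQ htc hC P hQP (mul_mem hxP (inv_mem (hQP htQ))) haN hq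
  have hxa : x = a * t := by rw [ha]; group
  have hxQ : ∀ q ∈ Q, Commute x q := fun q hq => hxa ▸ (haQ q hq).mul_left (htz q hq)
  have hnQ : ∀ y ∈ N, Commute y x → ∀ q ∈ Q, Commute y (n * q * n⁻¹) := by
    intro y hy hyx q hq
    have h1 : Commute (n⁻¹ * y * n) t := by
      have := hyx.map (MulAut.conj n⁻¹).toMonoidHom
      simpa [hx, mul_assoc] using this
    have h2 := (commute_of_mem hC
      (by simpa using Subgroup.Normal.conj_mem inferInstance y hy n⁻¹) h1 hq).map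
      (MulAut.conj n).toMonoidHom
    simpa [mul_assoc] using h2
  have hax : Commute a x := hxa ▸ (Commute.refl a).mul_right (haQ t htQ)
  have hcN : ∀ q ∈ Q, q * (n * q * n⁻¹)⁻¹ ∈ N := fun q hq => by
    rw [show q * (n * q * n⁻¹)⁻¹ = q * n * q⁻¹ * n⁻¹ by group]
    exact mul_mem (Subgroup.Normal.conj_mem inferInstance _ hn q) (inv_mem hn)
  have hnqx : ∀ q ∈ Q, Commute (n * q * n⁻¹) x := fun q hq => by
    have := (htz q hq).symm.map (MulAut.conj n).toMonoidHom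
    simpa [hx] using this
  have hnqt : ∀ q ∈ Q, Commute (n * q * n⁻¹) t := fun q hq => by
    rw [show t = a⁻¹ * x by rw [hxa]; group]
    exact (hnQ a haN hax q hq).symm.inv_right.mul_right (hnqx q hq)
  have hct : ∀ q ∈ Q, Commute (q * (n * q * n⁻¹)⁻¹) t := fun q hq =>
    (htz q hq).symm.mul_left (hnqt q hq).inv_left
  have hcx : ∀ q ∈ Q, Commute (q * (n * q * n⁻¹)⁻¹) x := fun q hq =>
    (hxQ q hq).symm.mul_left (hnqx q hq).inv_left
  have hcQ : ∀ q ∈ Q, ∀ s ∈ Q, Commute (q * (n * q * n⁻¹)⁻¹) s := fun q hq s hs =>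
    commute_of_mem hC (hcN q hq) (hct q hq) hs
  have hcn : ∀ q ∈ Q, ∀ s ∈ Q, Commute (q * (n * q * n⁻¹)⁻¹) (n * s * n⁻¹) := fun q hq s hs =>
    hnQ _ (hcN q hq) (hcx q hq) s hs
  let φ : ↥Q →* G := MonoidHom.mk' (fun q => (q : G) * (n * q * n⁻¹)⁻¹) fun q s => by
    have h1 := (hcn s s.2 q q.2).inv_right
    calc (q : G) * s * (n * ((q : G) * s) * n⁻¹)⁻¹
        = (q : G) * (((s : G) * (n * s * n⁻¹)⁻¹) * (n * q * n⁻¹)⁻¹) := by group
      _ = (q : G) * ((n * q * n⁻¹)⁻¹ * ((s : G) * (n * s * n⁻¹)⁻¹)) := by rw [h1.eq]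
      _ = _ := by group
  have hφ : ∀ q s : ↥Q, Commute (φ q) (φ s) := fun q s =>
    (hcQ q q.2 s s.2).mul_right (hcn q q.2 s s.2).inv_right
  have h1 : t * x⁻¹ = 1 := eq_one_of_mem_commutator φ hφ htc htQ
  exact (mul_inv_eq_one.1 h1).symm

/-- `[N,Q]` lies in the odd core of `G`. -/
theorem commutator_le_core (hG : Q ⊔ N = ⊤) (hQ : IsPGroup 2 ↥Q) (hdisj : Q ⊓ N = ⊥) {t : G}
    (htQ : t ∈ Q) (htc : t ∈ ⁅Q, Q⁆) (htz : ∀ q ∈ Q, Commute t q)
    (hC : N ⊓ Subgroup.centralizer (Q : Set G) = N ⊓ Subgroup.centralizer ({t} : Set G)) :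
    ⁅N, Q⁆ ≤ Cfsg.pPrimeCore 2 G := by
  haveI : Fact (Nat.Prime 2) := ⟨Nat.prime_two⟩
  haveI := Grp.pPrimeCore_isNormal (p := 2) (G := G)
  obtain ⟨P, hQP⟩ := hQ.exists_le_sylow
  have huniq := unique_conj hG hdisj htQ htc htz hC P hQP
  obtain ⟨k, hk⟩ := P.isPGroup' ⟨t, hQP htQ⟩
  have hk' : t ^ 2 ^ k = 1 := congrArg Subtype.val hk
  have hON : Cfsg.pPrimeCore 2 G ≤ N := by
    intro o ho
    obtain ⟨r, hr, n, hn, rfl⟩ := Subgroup.mem_sup_of_normal_right.1 (hG ▸ Subgroup.mem_top o)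
    obtain ⟨j, hj⟩ := hQ ⟨r, hr⟩
    have hj' : r ^ 2 ^ j = 1 := congrArg Subtype.val hj
    set f := QuotientGroup.mk' N
    have hfn : f n = 1 := (QuotientGroup.eq_one_iff n).2 hn
    have h1 : orderOf (f r) ∣ 2 ^ j := orderOf_dvd_of_pow_eq_one (by rw [← map_pow, hj', map_one])
    have h2 : orderOf (f r) ∣ Nat.card (Cfsg.pPrimeCore 2 G) := by
      rw [show f r = f (r * n) by rw [map_mul, hfn, mul_one]]
      exact (orderOf_map_dvd f _).trans (Subgroup.orderOf_dvd_natCard _ ho)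
    have h3 : f r = 1 := orderOf_eq_one_iff.1 (Nat.eq_one_of_dvd_coprimes
      (Nat.Coprime.pow_left j (Grp.pPrimeCore_coprime (p := 2) (G := G)).symm) h1 h2)
    exact mul_mem ((QuotientGroup.eq_one_iff r).1 h3) hn
  refine Subgroup.commutator_le.2 fun n hn q hq => ?_
  have hcomm := ZStarTwo.commutator_mem_oddCore P (hQP htQ) huniq n
  have hmem : n * t * n⁻¹ ∈ Cfsg.pPrimeCore 2 G ⊔ (P : Subgroup G) := by
    rw [show n * t * n⁻¹ = (t * n * t⁻¹ * n⁻¹)⁻¹ * t by group]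
    exact mul_mem (Subgroup.mem_sup_left (inv_mem hcomm)) (Subgroup.mem_sup_right (hQP htQ))
  obtain ⟨o, ho, he⟩ := ZStarTwo.exists_core_conj P (hQP htQ) huniq hk' hmem
  set m := o⁻¹ * n with hm
  have hmt : Commute m t := by
    refine mul_inv_eq_iff_eq_mul.1 ?_
    rw [hm, show o⁻¹ * n * t * (o⁻¹ * n)⁻¹ = o⁻¹ * (n * t * n⁻¹) * o by group, he]
    group
  have hmq := commute_of_mem hC (mul_mem (inv_mem (hON ho)) hn) hmt hq
  have hqmq : m * q * m⁻¹ = q := mul_inv_eq_iff_eq_mul.2 hmq.eq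
  rw [commutatorElement_def, show n * q * n⁻¹ * q⁻¹ = o * (m * q * m⁻¹) * o⁻¹ * q⁻¹ by
    rw [hm]; group, hqmq, show o * q * o⁻¹ * q⁻¹ = o * (q * o⁻¹ * q⁻¹) by group]
  exact mul_mem ho (Subgroup.Normal.conj_mem inferInstance _ (inv_mem ho) q)

/-- The statement, given that groups of odd order are solvable. -/
theorem solvable_odd (hFT : ∀ (K : Type u) [Group K] [Finite K], Odd (Nat.card K) → Group.IsSolvable K)
    (hG : Q ⊔ N = ⊤) (hQ : IsPGroup 2 ↥Q) (hdisj : Q ⊓ N = ⊥) {t : G}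
    (htQ : t ∈ Q) (htc : t ∈ ⁅Q, Q⁆) (htz : ∀ q ∈ Q, Commute t q)
    (hC : N ⊓ Subgroup.centralizer (Q : Set G) = N ⊓ Subgroup.centralizer ({t} : Set G)) :
    Group.IsSolvable ↥⁅N, Q⁆ ∧ Odd (Nat.card ↥⁅N, Q⁆) := by
  haveI : Fact (Nat.Prime 2) := ⟨Nat.prime_two⟩
  have hodd : Odd (Nat.card ↥⁅N, Q⁆) :=
    (Nat.coprime_two_right.1 (Grp.pPrimeCore_coprime (p := 2) (G := G))).of_dvd_nat
      (Subgroup.card_dvd_of_le (commutator_le_core hG hQ hdisj htQ htc htz hC))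
  exact ⟨hFT _ hodd, hodd⟩

end Cfsg.Agent.SharedCentralizerTwo
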