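import Cfsg.Agent.S3012
import Cfsg.Agent.Lib.Invol.GFitCommutator
import Cfsg.Agent.Lib.Invol.LargeSubgroup
import Cfsg.Agent.Lib.Block.PPartDerived

/-!
A minimal counterexample to the pair condition.
-/

set_option autoImplicit false

namespace Cfsg.Agent.Invol.SidkiMin

open Subgroup
open scoped commutatorElement
open Cfsg.Agent.Grp

universe u

/-- The setting of a minimal counterexample. -/
structure Hyp {G : Type u} [Group G] [Finite G] (V : Subgroup G) : Prop where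
  hV : Cfsg.IsElementaryAbelian 2 V
  hV1 : V ≠ ⊥
  hS : Cfsg.IsSidkiPair V
  hVO : V ⊓ Cfsg.pCore 2 G = ⊥
  hminG : ∀ (H : Type u) [Group H] [Finite H] (W : Subgroup H), Nat.card H < Nat.card G →
    Cfsg.IsElementaryAbelian 2 W → W ≠ ⊥ → Cfsg.IsSidkiPair W → W ⊓ Cfsg.pCore 2 H ≠ ⊥

variable {G : Type u} [Group G] [Finite G] {V : Subgroup G}

theorem Hyp.sq (d : Hyp V) {v : G} (hv : v ∈ V) : v * v = 1 := by
  have := d.hV.2 v hv; rwa [pow_two] at this

theorem Hyp.inv_eq (d : Hyp V) {v : G} (hv : v ∈ V) : v⁻¹ = v :=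
  inv_eq_of_mul_eq_one_right (d.sq hv)

theorem Hyp.comm (d : Hyp V) {a b : G} (ha : a ∈ V) (hb : b ∈ V) : Commute a b :=
  congrArg Subtype.val (d.hV.1.is_comm.comm ⟨a, ha⟩ ⟨b, hb⟩)

theorem Hyp.isPGroup (d : Hyp V) : IsPGroup 2 V := fun v => ⟨1, Subtype.ext (by simpa using d.hV.2 v v.2)⟩

theorem mem_of_odd_pow {N : Subgroup G} {h : G} (ho : Odd (orderOf h)) {k : ℕ} (hk : h ^ 2 ^ k ∈ N) :
    h ∈ N := by
  obtain ⟨m, hm⟩ := exists_pow_eq_self_of_coprime (x := h) ((Nat.coprime_two_left.mpr ho).pow_left k)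
  exact hm ▸ N.pow_mem hk m

theorem odd_order_mul {a b : G} (h : Commute a b) (ha : Odd (orderOf a)) (hb : Odd (orderOf b)) :
    Odd (orderOf (a * b)) :=
  (ha.mul hb).of_dvd_nat (h.orderOf_mul_dvd_mul_orderOf)

theorem Hyp.pCore_eq_bot (d : Hyp V) : Cfsg.pCore 2 G = ⊥ := by
  haveI := Fact.mk Nat.prime_two
  haveI : (Cfsg.pCore 2 G).Normal := Grp.pCore_isNormal
  by_contra hne
  refine d.hminG (G ⧸ Cfsg.pCore 2 G) (V.map (QuotientGroup.mk' (Cfsg.pCore 2 G))) ?_ ⟨?_, ?_⟩ ?_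
    (S3012.result V (Cfsg.pCore 2 G) d.hV d.hV1 d.hS d.hVO) ?_
  · rw [Subgroup.card_eq_card_quotient_mul_card_subgroup (Cfsg.pCore 2 G)]
    exact lt_mul_of_one_lt_right Nat.card_pos ((Subgroup.one_lt_card_iff_ne_bot _).mpr hne)
  · refine ⟨⟨?_⟩⟩
    rintro ⟨_, a, ha, rfl⟩ ⟨_, b, hb, rfl⟩
    exact Subtype.ext ((d.comm ha hb).map _).eq
  · rintro _ ⟨a, ha, rfl⟩
    rw [← map_pow, d.hV.2 a ha, map_one]
  · intro h
    rw [Subgroup.map_eq_bot_iff, QuotientGroup.ker_mk'] at h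
    exact d.hV1 (le_bot_iff.mp (d.hVO ▸ le_inf le_rfl h))
  · rw [Block.PPartDerived.pCore_quotient_eq_bot, inf_bot_eq]

/-- A subgroup of `V` avoiding the core of a proper subgroup fails the condition there. -/
theorem Hyp.bad (d : Hyp V) (H : Subgroup G) (hH : H ≠ ⊤) (W : Subgroup G) (hWV : W ≤ V) (hWH : W ≤ H)
    (hO : W ⊓ Cfsg.pCoreOf 2 H = ⊥) :
    ∃ k ∈ H, ∃ w ∈ W, Odd (orderOf k) ∧ w * k * w⁻¹ = k⁻¹ ∧ ∀ x ∈ W, Commute x k → x = 1 := by
  rcases eq_or_ne W ⊥ with rfl | hW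
  · exact ⟨1, one_mem _, 1, one_mem _, by simp, by simp, fun x hx _ => mem_bot.mp hx⟩
  by_contra hne
  refine d.hminG ↥H (W.subgroupOf H) ?_ ⟨?_, ?_⟩ ?_ ?_ ?_
  · exact (Subgroup.card_le_card_group H).lt_of_ne fun e => hH (Subgroup.eq_top_of_card_eq H e)
  · exact ⟨⟨fun a b => Subtype.ext (Subtype.ext (d.comm (hWV a.2) (hWV b.2)).eq)⟩⟩
  · exact fun a ha => Subtype.ext (by simpa using d.hV.2 _ (hWV ha))
  · intro h
    exact hW (le_bot_iff.mp fun w hw => by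
      have : (⟨w, hWH hw⟩ : ↥H) ∈ W.subgroupOf H := hw
      rw [h, mem_bot] at this
      exact mem_bot.mpr (congrArg Subtype.val this))
  · intro k v hv hodd hinv
    by_contra hno
    refine hne ⟨k, k.2, v, hv, by rwa [orderOf_coe], by simpa using congrArg Subtype.val hinv, fun x hx hc => ?_⟩
    by_contra hx1
    exact hno ⟨⟨x, hWH hx⟩, hx, fun e => hx1 (congrArg Subtype.val e), Subtype.ext hc.eq⟩
  · rw [eq_bot_iff]
    intro z hz
    have : (z : G) ∈ W ⊓ Cfsg.pCoreOf 2 H := ⟨(mem_inf.mp hz).1, ⟨z, (mem_inf.mp hz).2, rfl⟩⟩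
    rw [hO, mem_bot] at this
    exact mem_bot.mpr (Subtype.ext this)

/-- Failure of the condition on a normalized subgroup on which `R` is faithful. -/
theorem Hyp.notSidki (d : Hyp V) (N R : Subgroup G) (hR : R ≤ V) (hRN : R ≤ normalizer (N : Set G))
    (hN : Cfsg.pCoreOf 2 N = ⊥) (htop : N ⊔ R ≠ ⊤) (hf : R ⊓ centralizer (N : Set G) = ⊥) :
    ∃ h ∈ N, ∃ u ∈ R, Odd (orderOf h) ∧ u * h * u⁻¹ = h⁻¹ ∧ ∀ x ∈ R, Commute x h → x = 1 := by
  haveI := Fact.mk Nat.prime_two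
  have hO : R ⊓ Cfsg.pCoreOf 2 (N ⊔ R) = ⊥ := by
    rw [← le_bot_iff, ← hf]
    refine le_inf inf_le_left fun z hz => mem_centralizer_iff.mpr fun n hn => ?_
    obtain ⟨hzR, hzO⟩ := mem_inf.mp hz
    have hle : N ⊓ Cfsg.pCoreOf 2 (N ⊔ R) ≤ Cfsg.pCoreOf 2 N := by
      refine lg_le_pCoreOf inf_le_left ?_ ((lg_isPGroup_pCoreOf _).to_le inf_le_right)
      intro m hm
      refine Subgroup.mem_normalizer_fintype fun y hy => mem_inf.mpr
        ⟨mul_mem (mul_mem hm (mem_inf.mp hy).1) (inv_mem hm),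
          (mem_normalizer_iff.mp (lg_le_normalizer_pCoreOf (N ⊔ R) (mem_sup_left hm)) _).mp (mem_inf.mp hy).2⟩
    have hmem : ⁅n, z⁆ ∈ N ⊓ Cfsg.pCoreOf 2 (N ⊔ R) := by
      refine mem_inf.mpr ⟨?_, ?_⟩
      · rw [commutatorElement_def, mul_assoc, mul_assoc]
        refine mul_mem hn ?_
        rw [← mul_assoc]
        exact (mem_normalizer_iff.mp (hRN hzR) _).mp (inv_mem hn)
      · rw [commutatorElement_def]
        exact mul_mem ((mem_normalizer_iff.mp (lg_le_normalizer_pCoreOf (N ⊔ R) (mem_sup_left hn)) _).mp hzO)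
          (inv_mem hzO)
    have := hle hmem
    rw [hN, mem_bot] at this
    exact commutatorElement_eq_one_iff_mul_comm.mp this
  obtain ⟨h, hh, u, hu, ho, hinv, hx⟩ := d.bad _ htop R hR le_sup_right hO
  refine ⟨h, ?_, u, hu, ho, hinv, hx⟩
  rw [← SetLike.mem_coe, coe_mul_of_right_le_normalizer_left N R hRN] at hh
  obtain ⟨n, hn, r, hr, rfl⟩ := hh
  refine mem_of_odd_pow ho (k := 1) ?_
  have e : (n * r) ^ 2 ^ 1 = n * (r * n * r⁻¹) := by
    rw [pow_one, pow_two, d.inv_eq (hR hr)]; simp [mul_assoc]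
  rw [e]
  exact mul_mem hn ((mem_normalizer_iff.mp (hRN hr) n).mp hn)

theorem Hyp.involution_bot (d : Hyp V) (Z : Subgroup G) [hZn : Z.Normal]
    (hZc : ∀ a ∈ Z, ∀ b ∈ Z, Commute a b) {z : G} (hz : z ∈ Z) (hz2 : z * z = 1) : z = 1 := by
  let T : Subgroup G :=
    { carrier := {a | a ∈ Z ∧ a * a = 1}
      one_mem' := ⟨one_mem _, one_mul 1⟩
      mul_mem' := fun {a b} ha hb => ⟨mul_mem ha.1 hb.1, by
        rw [(hZc b hb.1 a ha.1).mul_mul_mul_comm a b, ha.2, hb.2, one_mul]⟩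
      inv_mem' := fun {a} ha => ⟨inv_mem ha.1, by rw [← mul_inv_rev, ha.2, inv_one]⟩ }
  have hT : T.Normal := ⟨fun a ha g => ⟨hZn.conj_mem a ha.1 g, by
    rw [show g * a * g⁻¹ * (g * a * g⁻¹) = g * (a * a) * g⁻¹ by group, ha.2, mul_one, mul_inv_cancel]⟩⟩
  have hTp : IsPGroup 2 T := fun a => ⟨1, Subtype.ext (by simpa [pow_two] using a.2.2)⟩
  have := Grp.le_pCore hT hTp (show z ∈ T from ⟨hz, hz2⟩)
  rwa [d.pCore_eq_bot, mem_bot] at this

theorem Hyp.center_inf (d : Hyp V) {v : G} (hv : v ∈ V) (hc : ∀ g, Commute g v) : v = 1 :=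
  d.involution_bot (center G) (fun a _ b hb => mem_center_iff.mp hb a)
    (Subgroup.mem_center_iff.mpr fun g => (hc g).eq) (d.sq hv)

/-- `V` is faithful on every non-central normal subgroup. -/
theorem Hyp.faithful (d : Hyp V) (N : Subgroup G) [hN : N.Normal] (hK : centralizer (N : Set G) ≠ ⊤) :
    V ⊓ centralizer (N : Set G) = ⊥ := by
  classical
  haveI := Fact.mk Nat.prime_two
  obtain ⟨K, hKdef⟩ : ∃ K, K = centralizer (N : Set G) := ⟨_, rfl⟩
  rw [← hKdef] at hK ⊢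
  have hKn : K.Normal := hKdef ▸ inferInstance
  by_contra hW
  obtain ⟨W, hWdef⟩ : ∃ W, W = V ⊓ K := ⟨_, rfl⟩
  rw [← hWdef] at hW
  have hOK : ∀ M : Subgroup G, M.Normal → Cfsg.pCoreOf 2 M = ⊥ := fun M hM => by
    rw [eq_bot_iff, ← d.pCore_eq_bot]
    refine Grp.le_pCore ?_ (lg_isPGroup_pCoreOf _)
    rw [← normalizer_eq_top_iff, eq_top_iff]
    refine le_trans ?_ (lg_normalizer_le_normalizer_pCoreOf _)
    rw [normalizer_eq_top_iff.mpr hM]
  obtain ⟨k, hkK, w₀, hw₀, hko, hkinv, hkW⟩ :=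
    d.bad K hK W (hWdef ▸ inf_le_left) (hWdef ▸ inf_le_right) (by rw [hOK K hKn, inf_bot_eq])
  obtain ⟨hw₀V, hw₀K⟩ := mem_inf.mp (hWdef ▸ hw₀)
  obtain ⟨Z, hZdef⟩ : ∃ Z, Z = N ⊓ K := ⟨_, rfl⟩
  haveI hZn : Z.Normal := hZdef ▸ inferInstance
  have hNK : ∀ a ∈ N, ∀ b ∈ K, Commute a b := fun a ha b hb =>
    mem_centralizer_iff.mp (hKdef ▸ hb : b ∈ centralizer (N : Set G)) a ha
  have hZc : ∀ a ∈ Z, ∀ b ∈ Z, Commute a b := fun a ha b hb =>
    hNK a (mem_inf.mp (hZdef ▸ ha)).1 b (mem_inf.mp (hZdef ▸ hb)).2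
  have hZW : ∀ z ∈ Z, ∀ w ∈ W, Commute z w := fun z hz w hw =>
    hNK z (mem_inf.mp (hZdef ▸ hz)).1 w (mem_inf.mp (hWdef ▸ hw)).2
  have hZk : ∀ z ∈ Z, Commute z k := fun z hz => hNK z (mem_inf.mp (hZdef ▸ hz)).1 k hkK
  have hZodd : Odd (Nat.card Z) := by
    rw [← Nat.not_even_iff_odd, even_iff_two_dvd]
    intro h2
    obtain ⟨z, hz⟩ := exists_prime_orderOf_dvd_card' (G := Z) 2 h2
    have hz' : (z : G) * z = 1 := by
      have := pow_orderOf_eq_one z
      rw [hz, pow_two] at this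
      exact congrArg Subtype.val this
    have : z = 1 := Subtype.ext (d.involution_bot Z hZc z.2 hz')
    rw [this, orderOf_one] at hz
    exact absurd hz (by norm_num)
  -- the stabilizer of the coset
  let R : Subgroup G :=
    { carrier := {x | x ∈ V ∧ x * k * x⁻¹ * k⁻¹ ∈ Z}
      one_mem' := ⟨one_mem _, by simp⟩
      mul_mem' := fun {a b} ha hb => ⟨mul_mem ha.1 hb.1, by
        rw [show a * b * k * (a * b)⁻¹ * k⁻¹ = a * (b * k * b⁻¹ * k⁻¹) * a⁻¹ * (a * k * a⁻¹ * k⁻¹) by group]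
        exact mul_mem (hZn.conj_mem _ hb.2 a) ha.2⟩
      inv_mem' := fun {a} ha => ⟨inv_mem ha.1, by
        rw [show a⁻¹ * k * a⁻¹⁻¹ * k⁻¹ = a⁻¹ * (a * k * a⁻¹ * k⁻¹)⁻¹ * a⁻¹⁻¹ by group]
        exact hZn.conj_mem _ (inv_mem ha.2) a⁻¹⟩ }
  have hRV : R ≤ V := fun x hx => hx.1
  have hRW : R ⊓ K = ⊥ := by
    rw [eq_bot_iff]
    intro x hx
    obtain ⟨⟨hxV, hxZ⟩, hxK⟩ := mem_inf.mp hx
    have hxW : x ∈ W := hWdef ▸ mem_inf.mpr ⟨hxV, hxK⟩
    refine mem_bot.mpr (hkW x hxW ?_)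
    obtain ⟨z, hz⟩ : ∃ z, z = x * k * x⁻¹ * k⁻¹ := ⟨_, rfl⟩
    rw [← hz] at hxZ
    have h1 : x * k * x⁻¹ = z * k := by rw [hz]; group
    have h2 : z * z = 1 := by
      have e : z * (z * k) = k := by
        calc z * (z * k) = z * (x * k * x⁻¹) := by rw [h1]
          _ = x * (z * k) * x⁻¹ := by
              rw [mul_assoc x k, ← mul_assoc z, (hZW z hxZ x hxW).eq]; group
          _ = (x * x) * k * (x * x)⁻¹ := by rw [← h1]; group
          _ = k := by rw [d.sq hxV]; group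
      rw [← mul_assoc] at e
      exact mul_eq_right.mp e
    rw [d.involution_bot Z hZc hxZ h2, one_mul] at h1
    exact mul_inv_eq_iff_eq_mul.mp h1
  have htop : N ⊔ R ≠ ⊤ := by
    intro e
    obtain ⟨⟨w, hw⟩, hw0⟩ := Subgroup.ne_bot_iff_exists_ne_one.mp hW
    have hw1 : w ≠ 1 := fun h => hw0 (Subtype.ext h)
    obtain ⟨hwV, hwK⟩ := mem_inf.mp (hWdef ▸ hw)
    refine hw1 (d.center_inf hwV fun g => ?_)
    have hle : N ⊔ R ≤ centralizer ({w} : Set G) := sup_le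
      (fun n hn => mem_centralizer_singleton_iff.mpr (hNK n hn w hwK).eq)
      (fun r hr => mem_centralizer_singleton_iff.mpr (d.comm (hRV hr) hwV).eq)
    exact mem_centralizer_singleton_iff.mp (hle (e ▸ mem_top g))
  obtain ⟨h, hhN, u, hu, hho, huinv, huR⟩ := d.notSidki N R hRV
    (by rw [normalizer_eq_top_iff.mpr hN]; exact le_top) (hOK N hN) htop (by rw [← hKdef]; exact hRW)
  -- the average of `k` over `R`
  let _ : Fintype ↥R := Fintype.ofFinite _
  obtain ⟨A, hA⟩ : ∃ A, A = closure (insert k (Z : Set G)) := ⟨_, rfl⟩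
  haveI hAc : IsMulCommutative A := hA ▸ isMulCommutative_closure (by
    rintro a (rfl | ha) b (rfl | hb)
    · rfl
    · exact (hZk b hb).eq.symm
    · exact (hZk a ha).eq
    · exact (hZc a ha b hb).eq)
  have hkA : k ∈ A := hA ▸ subset_closure (Set.mem_insert _ _)
  have hZA : Z ≤ A := fun z hz => hA ▸ subset_closure (Set.mem_insert_of_mem _ hz)
  have hconjA : ∀ x : ↥R, (x : G) * k * (x : G)⁻¹ ∈ A := fun x => by
    have := mul_mem (hZA x.2.2) hkA
    rwa [inv_mul_cancel_right] at this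
  let _ : CommGroup ↥A := { A.toGroup with mul_comm := hAc.is_comm.comm }
  obtain ⟨k₂, hk₂⟩ : ∃ k₂ : ↥A, k₂ = ∏ x : ↥R, (⟨(x : G) * k * (x : G)⁻¹, hconjA x⟩ : ↥A) := ⟨_, rfl⟩
  have hmapA : ∀ (g : G), (∀ a ∈ A, g * a * g⁻¹ ∈ A) → g * (k₂ : G) * g⁻¹ =
      ((∏ x : ↥R, if hh : g * ((x : G) * k * (x : G)⁻¹) * g⁻¹ ∈ A then
        (⟨g * ((x : G) * k * (x : G)⁻¹) * g⁻¹, hh⟩ : ↥A) else 1 : ↥A) : G) := by
    intro g hg
    let φ : ↥A →* ↥A := MonoidHom.mk' (fun a => ⟨g * a * g⁻¹, hg a a.2⟩)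
      fun a b => Subtype.ext (by simp [mul_assoc])
    show ((φ k₂ : ↥A) : G) = _
    rw [hk₂, map_prod]
    congr 1
    refine Finset.prod_congr rfl fun x _ => ?_
    rw [dif_pos (hg _ (hconjA x))]
    rfl
  have hAinv : ∀ g : G, g * k * g⁻¹ ∈ A → ∀ a ∈ A, g * a * g⁻¹ ∈ A := by
    intro g hg a ha
    rw [hA] at ha
    have hle : closure (insert k (Z : Set G)) ≤ A.comap (MulAut.conj g).toMonoidHom := by
      rw [closure_le]
      rintro b (rfl | hb)
      · exact hg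
      · exact hZA (hZn.conj_mem b hb g)
    exact hle ha
  have hfix : ∀ r ∈ R, r * (k₂ : G) * r⁻¹ = k₂ := by
    intro r hr
    rw [hmapA r (hAinv r (hconjA ⟨r, hr⟩)), hk₂]
    congr 1
    refine Fintype.prod_equiv (Equiv.mulLeft (⟨r, hr⟩ : ↥R)) _ _ fun x => ?_
    rw [dif_pos (hAinv r (hconjA ⟨r, hr⟩) _ (hconjA x))]
    apply Subtype.ext
    simp [mul_assoc]
  have hinv₂ : w₀ * (k₂ : G) * w₀⁻¹ = (k₂ : G)⁻¹ := by
    have hg : w₀ * k * w₀⁻¹ ∈ A := hkinv ▸ inv_mem hkA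
    rw [hmapA w₀ (hAinv w₀ hg), hk₂, ← InvMemClass.coe_inv, ← Finset.prod_inv_distrib]
    congr 1
    refine Finset.prod_congr rfl fun x _ => ?_
    rw [dif_pos (hAinv w₀ hg _ (hconjA x))]
    apply Subtype.ext
    show w₀ * ((x : G) * k * (x : G)⁻¹) * w₀⁻¹ = ((x : G) * k * (x : G)⁻¹)⁻¹
    calc w₀ * ((x : G) * k * (x : G)⁻¹) * w₀⁻¹ = (w₀ * x) * k * (w₀ * (x : G))⁻¹ := by group
      _ = ((x : G) * w₀) * k * ((x : G) * w₀)⁻¹ := by rw [(d.comm hw₀V (hRV x.2)).eq]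
      _ = (x : G) * (w₀ * k * w₀⁻¹) * (x : G)⁻¹ := by group
      _ = _ := by rw [hkinv]; group
  have hpow : ∀ x : ↥R, ∃ z ∈ Z, (x : G) * k * (x : G)⁻¹ = z * k := fun x =>
    ⟨_, x.2.2, (inv_mul_cancel_right _ _).symm⟩
  obtain ⟨z₀, hz₀, hk₂e⟩ : ∃ z₀ ∈ Z, (k₂ : G) = z₀ * k ^ Nat.card ↥R := by
    rw [hk₂, Nat.card_eq_fintype_card, ← Finset.card_univ]
    induction (Finset.univ : Finset ↥R) using Finset.induction_on with
    | empty => exact ⟨1, one_mem _, by simp⟩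
    | insert x s hxs ih =>
      obtain ⟨z, hz, e⟩ := hpow x
      obtain ⟨z', hz', e'⟩ := ih
      refine ⟨z * z', mul_mem hz hz', ?_⟩
      rw [Finset.prod_insert hxs, coe_mul, e', Finset.card_insert_of_notMem hxs, pow_succ']
      show (x : G) * k * (x : G)⁻¹ * _ = _
      rw [e, show z * k * (z' * k ^ s.card) = z * (k * z') * k ^ s.card by group, ← (hZk z' hz').eq]
      group
  have hcomm₂ : Commute h (k₂ : G) := by
    refine hNK h hhN _ ?_
    rw [hk₂e]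
    exact mul_mem (mem_inf.mp (hZdef ▸ hz₀)).2 (pow_mem hkK _)
  have hk₂o : Odd (orderOf (k₂ : G)) := by
    rw [hk₂e]
    refine odd_order_mul ((hZk z₀ hz₀).pow_right _) (hZodd.of_dvd_nat ?_) (hko.of_dvd_nat (orderOf_pow_dvd _))
    exact Subgroup.orderOf_dvd_natCard Z hz₀
  obtain ⟨x, hxV, hx1, hxc⟩ := d.hS (h * k₂) (u * w₀) (mul_mem (hRV hu) hw₀V)
    (odd_order_mul hcomm₂ hho hk₂o) (by
      have e1 : w₀ * h * w₀⁻¹ = h := by rw [(hNK h hhN w₀ hw₀K).symm.eq, mul_inv_cancel_right]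
      calc u * w₀ * (h * k₂) * (u * w₀)⁻¹
          = u * ((w₀ * h * w₀⁻¹) * (w₀ * k₂ * w₀⁻¹)) * u⁻¹ := by group
        _ = (u * h * u⁻¹) * (u * (k₂ : G) * u⁻¹)⁻¹ := by rw [e1, hinv₂]; group
        _ = h⁻¹ * (k₂ : G)⁻¹ := by rw [huinv, hfix u hu]
        _ = (h * k₂)⁻¹ := by rw [mul_inv_rev, (hcomm₂.inv_inv).eq])
  have hxR : x ∈ R := by
    refine ⟨hxV, ?_⟩
    have hk₂K : (k₂ : G) ∈ K := by
      rw [hk₂e]; exact mul_mem (mem_inf.mp (hZdef ▸ hz₀)).2 (pow_mem hkK _)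
    have e : x * h * x⁻¹ * (x * k₂ * x⁻¹) = h * k₂ := by
      calc x * h * x⁻¹ * (x * k₂ * x⁻¹) = x * (h * k₂) * x⁻¹ := by group
        _ = h * k₂ := by rw [hxc, mul_inv_cancel_right]
    have hz : (x * k₂ * x⁻¹) * (k₂ : G)⁻¹ ∈ Z := by
      rw [hZdef]
      refine mem_inf.mpr ⟨?_, mul_mem (hKn.conj_mem _ hk₂K x) (inv_mem hk₂K)⟩
      have e2 : (x * k₂ * x⁻¹) * (k₂ : G)⁻¹ = (x * h * x⁻¹)⁻¹ * h := by
        calc (x * k₂ * x⁻¹) * (k₂ : G)⁻¹ = (x * h * x⁻¹)⁻¹ * (x * h * x⁻¹ * (x * k₂ * x⁻¹)) * (k₂ : G)⁻¹ := by group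
          _ = _ := by rw [e]; group
      rw [e2]
      exact mul_mem (inv_mem (hN.conj_mem h hhN x)) hhN
    let π := QuotientGroup.mk' Z
    obtain ⟨j, hj⟩ := (d.isPGroup.to_le hRV).exists_card_eq
    have h1 : π (x * k * x⁻¹) ^ 2 ^ j = π k ^ 2 ^ j := by
      have hzero : ∀ z ∈ Z, π z = 1 := fun z hz => (QuotientGroup.eq_one_iff z).mpr hz
      have e3 : π ((x * k₂ * x⁻¹) * (k₂ : G)⁻¹) = 1 := hzero _ hz
      rw [hk₂e, hj] at e3
      simp only [map_mul, map_inv, map_pow, hzero z₀ hz₀, one_mul, mul_inv_eq_one] at e3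
      rw [← e3, map_mul, map_mul, map_inv, conj_pow]
    have ho : ∀ y : G, Odd (orderOf y) → Odd (orderOf (π y)) := fun y hy => hy.of_dvd_nat (orderOf_map_dvd π y)
    have ho1 : Odd (orderOf (x * k * x⁻¹)) := by
      rwa [show x * k * x⁻¹ = MulAut.conj x k from rfl, MulEquiv.orderOf_eq]
    obtain ⟨m, hm⟩ := exists_pow_eq_self_of_coprime (x := π k)
      ((Nat.coprime_two_left.mpr (ho k hko)).pow_left j)
    have h2 : π (x * k * x⁻¹) = π k := by
      have h3 : (π (x * k * x⁻¹) ^ 2 ^ j) ^ m = π (x * k * x⁻¹) := by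
        obtain ⟨y, hy⟩ : ∃ y, y = π (x * k * x⁻¹) := ⟨_, rfl⟩
        have hy' : y = π x * π k * (π x)⁻¹ := by rw [hy, map_mul, map_mul, map_inv]
        rw [← hy, hy', conj_pow, conj_pow, hm]
      rw [← h3, h1, hm]
    have h4 : π (x * k * x⁻¹ * k⁻¹) = 1 := by rw [map_mul _ (x * k * x⁻¹), h2, map_inv, mul_inv_cancel]
    exact (QuotientGroup.eq_one_iff _).mp h4
  refine hx1 (huR x hxR ?_)
  have h5 := hfix x hxR
  have h6 : x * h * x⁻¹ * (x * k₂ * x⁻¹) = h * k₂ := by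
    calc x * h * x⁻¹ * (x * k₂ * x⁻¹) = x * (h * k₂) * x⁻¹ := by group
      _ = h * k₂ := by rw [hxc, mul_inv_cancel_right]
  rw [h5, mul_left_inj] at h6
  exact mul_inv_eq_iff_eq_mul.mp h6

theorem Hyp.center_eq_bot (d : Hyp V) : center G = ⊥ := by
  haveI := Fact.mk Nat.prime_two
  by_contra hne
  haveI : (center G).Normal := inferInstance
  obtain ⟨v, hv, hv1⟩ : ∃ v ∈ V, v ≠ 1 := by
    by_contra h; push Not at h
    exact d.hV1 (le_bot_iff.mp fun v hv => mem_bot.mpr (h v hv))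
  have hVZ : V ⊓ center G = ⊥ := le_bot_iff.mp fun w hw => mem_bot.mpr
    (d.center_inf (mem_inf.mp hw).1 fun g => Subgroup.mem_center_iff.mp (mem_inf.mp hw).2 g)
  refine d.hminG (G ⧸ center G) (V.map (QuotientGroup.mk' (center G))) ?_ ⟨?_, ?_⟩ ?_
    (S3012.result V (center G) d.hV d.hV1 d.hS hVZ) ?_
  · rw [Subgroup.card_eq_card_quotient_mul_card_subgroup (center G)]
    exact lt_mul_of_one_lt_right Nat.card_pos ((Subgroup.one_lt_card_iff_ne_bot _).mpr hne)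
  · refine ⟨⟨?_⟩⟩
    rintro ⟨_, a, ha, rfl⟩ ⟨_, b, hb, rfl⟩
    exact Subtype.ext ((d.comm ha hb).map _).eq
  · rintro _ ⟨a, ha, rfl⟩
    rw [← map_pow, d.hV.2 a ha, map_one]
  · intro h
    rw [Subgroup.map_eq_bot_iff, QuotientGroup.ker_mk'] at h
    exact d.hV1 (le_bot_iff.mp (hVZ ▸ le_inf le_rfl h))
  rw [eq_bot_iff]
  rintro _ ⟨⟨w, hw, rfl⟩, hwO⟩
  obtain ⟨M, hM⟩ : ∃ M, M = (Cfsg.pCore 2 (G ⧸ center G)).comap (QuotientGroup.mk' (center G)) := ⟨_, rfl⟩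
  have hMn : M.Normal := hM ▸ Grp.pCore_isNormal.comap _
  have hMnil : Group.IsNilpotent ↥M := by
    let f : ↥M →* ↥(Cfsg.pCore 2 (G ⧸ center G)) :=
      ((QuotientGroup.mk' (center G)).comp M.subtype).codRestrict _ fun m => (hM.le m.2)
    haveI := (Grp.pCore_isPGroup (p := 2) (G := G ⧸ center G)).isNilpotent
    refine Subgroup.isNilpotent_of_ker_le_center f ?_
    intro m hm
    rw [MonoidHom.mem_ker] at hm
    have hmc : (m : G) ∈ center G := (QuotientGroup.eq_one_iff _).mp (congrArg Subtype.val hm)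
    exact Subgroup.mem_center_iff.mpr fun y => Subtype.ext (Subgroup.mem_center_iff.mp hmc y)
  have hwF : w ∈ Cfsg.fittingSubgroup G := Grp.le_fittingSubgroup hMn hMnil (hM.ge hwO)
  have hc := GFitComm.fitting_coprime (p := 2) d.pCore_eq_bot
  have h1 : orderOf w ∣ 1 := by
    rw [← hc.gcd_eq_one]
    exact Nat.dvd_gcd (Subgroup.orderOf_dvd_natCard _ hwF) (orderOf_dvd_of_pow_eq_one (d.hV.2 w hw))
  rw [Nat.dvd_one, orderOf_eq_one_iff] at h1
  rw [h1, map_one]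
  exact one_mem _

theorem Hyp.noncentral (d : Hyp V) {N : Subgroup G} (hN : N ≠ ⊥) : centralizer (N : Set G) ≠ ⊤ := by
  intro h
  exact hN (le_bot_iff.mp (d.center_eq_bot ▸ fun n hn => Subgroup.mem_center_iff.mpr fun g =>
    (mem_centralizer_iff.mp (h ▸ mem_top g : g ∈ centralizer (N : Set G)) n hn).symm))

/-- Every nontrivial normal subgroup supplements `V`. -/
theorem Hyp.sup_eq_top (d : Hyp V) (N : Subgroup G) [hN : N.Normal] (h1 : N ≠ ⊥) : N ⊔ V = ⊤ := by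
  haveI := Fact.mk Nat.prime_two
  by_contra htop
  have hf := d.faithful N (d.noncentral h1)
  have hO : Cfsg.pCoreOf 2 N = ⊥ := by
    rw [eq_bot_iff, ← d.pCore_eq_bot]
    refine Grp.le_pCore ?_ (lg_isPGroup_pCoreOf _)
    rw [← normalizer_eq_top_iff, eq_top_iff]
    refine le_trans ?_ (lg_normalizer_le_normalizer_pCoreOf _)
    rw [normalizer_eq_top_iff.mpr hN]
  obtain ⟨h, -, u, hu, ho, hinv, hx⟩ := d.notSidki N V le_rfl
    (by rw [normalizer_eq_top_iff.mpr hN]; exact le_top) hO htop hf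
  obtain ⟨w, hw, hw1, hwc⟩ := d.hS h u hu ho hinv
  exact hw1 (hx w hw hwc)

theorem Hyp.fitting_eq_bot (d : Hyp V) : Cfsg.fittingSubgroup G = ⊥ := by
  haveI := Fact.mk Nat.prime_two
  by_contra hne
  haveI := fittingSubgroup_isNormal (G := G)
  haveI := fittingSubgroup_isNilpotent (G := G)
  haveI : Nontrivial ↥(Cfsg.fittingSubgroup G) := (Subgroup.nontrivial_iff_ne_bot _).mpr hne
  obtain ⟨Z, hZ⟩ : ∃ Z, Z = (center ↥(Cfsg.fittingSubgroup G)).map (Cfsg.fittingSubgroup G).subtype := ⟨_, rfl⟩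
  haveI hZn : Z.Normal := hZ ▸ inferInstance
  have hZ1 : Z ≠ ⊥ := by
    rw [hZ, Ne, Subgroup.map_eq_bot_iff_of_injective _ (Cfsg.fittingSubgroup G).subtype_injective]
    exact Group.IsNilpotent.center_ne_bot _
  have hZF : Z ≤ Cfsg.fittingSubgroup G := hZ ▸ map_subtype_le _
  have hZc : ∀ a ∈ Z, ∀ b ∈ Z, Commute a b := by
    rw [hZ]
    rintro _ ⟨a, ha, rfl⟩ _ ⟨b, hb, rfl⟩
    exact congrArg Subtype.val (Subgroup.mem_center_iff.mp hb a)
  have htop := d.sup_eq_top Z hZ1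
  obtain ⟨⟨v, hv⟩, hv0⟩ := Subgroup.ne_bot_iff_exists_ne_one.mp d.hV1
  obtain ⟨C, hC⟩ : ∃ C, C = Z ⊓ centralizer ({v} : Set G) := ⟨_, rfl⟩
  have hCbot : C = ⊥ := by
    by_contra hC1
    haveI hCn : C.Normal := by
      rw [← normalizer_eq_top_iff, eq_top_iff, ← htop]
      refine sup_le (fun z hz => Subgroup.mem_normalizer_fintype fun c hc => ?_)
        (fun x hx => Subgroup.mem_normalizer_fintype fun c hc => ?_)
      · have hcZ : c ∈ Z := (mem_inf.mp (hC ▸ hc : c ∈ Z ⊓ centralizer ({v} : Set G))).1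
        rwa [SetLike.mem_coe, (hZc z hz c hcZ).eq, mul_inv_cancel_right]
      · rw [SetLike.mem_coe, hC] at hc ⊢
        obtain ⟨hc1, hc2⟩ := mem_inf.mp hc
        refine mem_inf.mpr ⟨hZn.conj_mem c hc1 x, mem_centralizer_singleton_iff.mpr ?_⟩
        have hxv : x * v * x⁻¹ = v := by rw [(d.comm hx hv).eq, mul_inv_cancel_right]
        calc x * c * x⁻¹ * v = x * c * x⁻¹ * (x * v * x⁻¹) := by rw [hxv]
          _ = x * (c * v) * x⁻¹ := by group
          _ = x * (v * c) * x⁻¹ := by rw [mem_centralizer_singleton_iff.mp hc2]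
          _ = (x * v * x⁻¹) * (x * c * x⁻¹) := by group
          _ = v * (x * c * x⁻¹) := by rw [hxv]
    have hf := d.faithful C (d.noncentral hC1)
    have : v ∈ V ⊓ centralizer (C : Set G) := mem_inf.mpr ⟨hv, mem_centralizer_iff.mpr fun c hc =>
      mem_centralizer_singleton_iff.mp (mem_inf.mp (hC ▸ hc : c ∈ Z ⊓ centralizer ({v} : Set G))).2⟩
    rw [hf, mem_bot] at this
    exact hv0 (Subtype.ext this)
  obtain ⟨⟨z, hz⟩, hz0⟩ := Subgroup.ne_bot_iff_exists_ne_one.mp hZ1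
  have hzv : v * z * v⁻¹ = z⁻¹ := by
    have hm : z * (v * z * v⁻¹) ∈ C := by
      rw [hC]
      refine mem_inf.mpr ⟨mul_mem hz (hZn.conj_mem z hz v), mem_centralizer_singleton_iff.mpr ?_⟩
      have e : v * (z * (v * z * v⁻¹)) * v⁻¹ = z * (v * z * v⁻¹) := by
        calc v * (z * (v * z * v⁻¹)) * v⁻¹ = (v * z * v⁻¹) * ((v * v) * z * (v * v)⁻¹) := by group
          _ = (v * z * v⁻¹) * z := by rw [d.sq hv]; group
          _ = _ := (hZc _ (hZn.conj_mem z hz v) z hz).eq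
      exact (mul_inv_eq_iff_eq_mul.mp e).symm
    rw [hCbot, mem_bot] at hm
    exact eq_inv_of_mul_eq_one_right hm
  have hodd : Odd (orderOf z) := by
    have hc := GFitComm.fitting_coprime (p := 2) d.pCore_eq_bot
    exact (Nat.coprime_two_right.mp hc).of_dvd_nat (Subgroup.orderOf_dvd_natCard _ (hZF hz))
  obtain ⟨w, hwV, hw1, hwc⟩ := d.hS z v hv hodd hzv
  have hwall : w ∈ V ⊓ centralizer ((zpowers z : Subgroup G) : Set G) := mem_inf.mpr ⟨hwV, by
    rw [mem_centralizer_iff]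
    rintro _ ⟨i, rfl⟩
    exact ((show Commute w z from hwc).zpow_right i).symm.eq⟩
  -- every nontrivial element of `V` inverts `z`
  have hCw : z ∈ Z ⊓ centralizer ({w} : Set G) :=
    mem_inf.mpr ⟨hz, mem_centralizer_singleton_iff.mpr hwc.symm⟩
  have hDn : (Z ⊓ centralizer ({w} : Set G)).Normal := by
    rw [← normalizer_eq_top_iff, eq_top_iff, ← htop]
    refine sup_le (fun a ha => Subgroup.mem_normalizer_fintype fun c hc => ?_)
      (fun x hx => Subgroup.mem_normalizer_fintype fun c hc => ?_)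
    · have hcZ : c ∈ Z := (mem_inf.mp hc).1
      rwa [SetLike.mem_coe, (hZc a ha c hcZ).eq, mul_inv_cancel_right]
    · obtain ⟨hc1, hc2⟩ := mem_inf.mp hc
      refine mem_inf.mpr ⟨hZn.conj_mem c hc1 x, mem_centralizer_singleton_iff.mpr ?_⟩
      have hxv : x * w * x⁻¹ = w := by rw [(d.comm hx hwV).eq, mul_inv_cancel_right]
      calc x * c * x⁻¹ * w = x * c * x⁻¹ * (x * w * x⁻¹) := by rw [hxv]
        _ = x * (c * w) * x⁻¹ := by group
        _ = x * (w * c) * x⁻¹ := by rw [mem_centralizer_singleton_iff.mp hc2]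
        _ = (x * w * x⁻¹) * (x * c * x⁻¹) := by group
        _ = w * (x * c * x⁻¹) := by rw [hxv]
  have hD1 : Z ⊓ centralizer ({w} : Set G) ≠ ⊥ := fun e => hz0 (Subtype.ext (mem_bot.mp (e ▸ hCw)))
  have hf := d.faithful _ (d.noncentral hD1)
  have hwD : w ∈ V ⊓ centralizer ((Z ⊓ centralizer ({w} : Set G) : Subgroup G) : Set G) :=
    mem_inf.mpr ⟨hwV, mem_centralizer_iff.mpr fun c hc => mem_centralizer_singleton_iff.mp (mem_inf.mp hc).2⟩
  rw [hf, mem_bot] at hwD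
  exact hw1 hwD

theorem inf_centralizer_component (d : Hyp V) {K : Subgroup G} (hK : Cfsg.IsComponent K) :
    K ⊓ centralizer (K : Set G) = ⊥ :=
  le_bot_iff.mp (d.fitting_eq_bot ▸ component_centralizer_inf_le_fitting hK)

theorem exists_odd_ne_one {K : Subgroup G} (hK : Cfsg.IsComponent K) :
    ∃ k ∈ K, k ≠ 1 ∧ Odd (orderOf k) := by
  haveI := Fact.mk Nat.prime_two
  by_contra h
  push Not at h
  have hp : IsPGroup 2 ↥K := by
    intro x
    obtain ⟨a, b, hb, hab⟩ := Nat.exists_eq_two_pow_mul_odd (orderOf_pos (x : G)).ne'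
    refine ⟨a, Subtype.ext ?_⟩
    rw [SubmonoidClass.coe_pow, OneMemClass.coe_one]
    by_contra hne
    refine h _ (pow_mem x.2 _) hne ?_
    rw [orderOf_pow' _ (by positivity), hab, Nat.gcd_eq_right (dvd_mul_right _ b),
      Nat.mul_div_cancel_left _ (by positivity)]
    exact hb
  exact IsQuasisimple.not_isSolvable hK.2 (by have := hp.isNilpotent; infer_instance)

/-- All components are normal. -/
theorem component_normal (d : Hyp V) {K : Subgroup G} (hK : Cfsg.IsComponent K) : K.Normal := by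
  haveI := Fact.mk Nat.prime_two
  by_contra hKn
  obtain ⟨E, hE⟩ : ∃ E, E = Cfsg.layer G := ⟨_, rfl⟩
  haveI : E.Normal := hE ▸ inferInstance
  have hKE : K ≤ E := hE ▸ IsComponent.le_layer hK
  have hEn : E ≤ normalizer (K : Set G) := hE ▸ sSup_le fun K' hK' => by
    by_cases e : K' = K
    · exact e ▸ le_normalizer
    · exact (IsComponent.commute hK' hK e).trans (centralizer_le_normalizer _)
  have hEV : E ⊔ V = ⊤ := d.sup_eq_top E fun e => IsComponent.ne_bot hK (le_bot_iff.mp (e ▸ hKE))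
  have hKc := inf_centralizer_component d hK
  obtain ⟨V₀, hV₀⟩ : ∃ V₀, V₀ = V ⊓ normalizer (K : Set G) := ⟨_, rfl⟩
  have hV₀V : V₀ ≤ V := hV₀ ▸ inf_le_left
  have hV₀n : V₀ ≤ normalizer (K : Set G) := hV₀ ▸ inf_le_right
  have hKO : Cfsg.pCoreOf 2 K = ⊥ := by
    refine le_bot_iff.mp (hKc ▸ le_inf (lg_pCoreOf_le K) ?_)
    rintro _ ⟨y, hy, rfl⟩
    haveI := Grp.pCore_isNormal (p := 2) (G := ↥K)
    rcases IsQuasisimple.eq_top_or_le_center hK.2 (Cfsg.pCore 2 ↥K) with e | e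
    · exfalso
      have hp := Grp.pCore_isPGroup (p := 2) (G := ↥K)
      rw [e] at hp
      have := (hp.of_equiv Subgroup.topEquiv).isNilpotent
      exact IsQuasisimple.not_isSolvable hK.2 inferInstance
    · exact mem_centralizer_iff.mpr fun k hk => congrArg Subtype.val (Subgroup.mem_center_iff.mp (e hy) ⟨k, hk⟩)
  -- elements of `V` conjugate components to components
  have hconj : ∀ x : G, Cfsg.IsComponent (K.map (MulAut.conj x).toMonoidHom) := fun x =>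
    IsComponent.map_iso (MulAut.conj x) hK
  have hstab : ∀ x ∈ V, K.map (MulAut.conj x).toMonoidHom = K → x ∈ V₀ := fun x hx e =>
    hV₀ ▸ mem_inf.mpr ⟨hx, wc_map_conj_eq_iff.mp e⟩
  have hshare : ∀ (A B : Subgroup G), Cfsg.IsComponent A → Cfsg.IsComponent B → ∀ h ∈ A, h ∈ B → h ≠ 1 → A = B := by
    intro A B hA hB h hhA hhB hne
    by_contra hAB
    apply hne
    rw [← mem_bot, ← inf_centralizer_component d hB]
    exact mem_inf.mpr ⟨hhB, IsComponent.commute hA hB hAB hhA⟩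
  obtain ⟨h, hhK, u, hu, hho, hinv, hhR⟩ : ∃ h ∈ K, ∃ u ∈ V₀, Odd (orderOf h) ∧ u * h * u⁻¹ = h⁻¹ ∧
      ∀ x ∈ V₀, Commute x h → x = 1 := by
    refine d.notSidki K V₀ hV₀V hV₀n hKO (fun e => hKn ?_) ?_
    · rw [← normalizer_eq_top_iff, eq_top_iff, ← e]
      exact sup_le le_normalizer hV₀n
    · rw [eq_bot_iff]
      intro x hx
      obtain ⟨hx0, hxc⟩ := mem_inf.mp hx
      have hxV := hV₀V hx0
      -- `x` centralizes every conjugate of `K`
      have hle : normalClosure (K : Set G) ≤ centralizer ({x} : Set G) := by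
        rw [normalClosure, closure_le]
        intro y hy
        obtain ⟨k, hk, hky⟩ := Group.mem_conjugatesOfSet_iff.mp hy
        obtain ⟨g, rfl⟩ := isConj_iff.mp hky
        obtain ⟨e, he, v, hv, rfl⟩ : ∃ v ∈ V, ∃ e ∈ E, v * e = g := by
          have := (sup_comm E V ▸ hEV).ge (mem_top g)
          exact mem_sup_of_normal_right.mp this
        have hk' : v * k * v⁻¹ ∈ K := (mem_normalizer_iff.mp (hEn hv) k).mp hk
        refine mem_centralizer_singleton_iff.mpr ?_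
        have hc : v * k * v⁻¹ * x = x * (v * k * v⁻¹) := mem_centralizer_iff.mp hxc _ hk'
        have hex : e * x * e⁻¹ = x := by rw [(d.comm he hxV).eq, mul_inv_cancel_right]
        calc e * v * k * (e * v)⁻¹ * x = e * v * k * (e * v)⁻¹ * (e * x * e⁻¹) := by rw [hex]
          _ = e * (v * k * v⁻¹ * x) * e⁻¹ := by group
          _ = e * (x * (v * k * v⁻¹)) * e⁻¹ := by rw [hc]
          _ = (e * x * e⁻¹) * (e * v * k * (e * v)⁻¹) := by group
          _ = x * (e * v * k * (e * v)⁻¹) := by rw [hex]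
      haveI : (normalClosure (K : Set G)).Normal := normalClosure_normal
      have hne : normalClosure (K : Set G) ≠ ⊥ := fun e =>
        IsComponent.ne_bot hK (le_bot_iff.mp (e ▸ Subgroup.subset_normalClosure))
      have hf := d.faithful _ (d.noncentral hne)
      rw [← hf]
      exact mem_inf.mpr ⟨hxV, mem_centralizer_iff.mpr fun c hc => mem_centralizer_singleton_iff.mp (hle hc)⟩
  rcases eq_or_ne h 1 with rfl | hh1
  · -- no nontrivial element of `V` normalizes `K`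
    have hV₀b : ∀ x ∈ V₀, x = 1 := fun x hx => hhR x hx (Commute.one_right x)
    obtain ⟨v, hv, hvn⟩ : ∃ v ∈ V, v ∉ normalizer (K : Set G) := by
      by_contra hno
      push Not at hno
      exact hKn (normalizer_eq_top_iff.mp (eq_top_iff.mpr (hEV ▸ sup_le hEn hno)))
    obtain ⟨k, hk, hk1, hko⟩ := exists_odd_ne_one hK
    obtain ⟨K', hK'⟩ : ∃ K', K' = K.map (MulAut.conj v).toMonoidHom := ⟨_, rfl⟩
    have hK'c : Cfsg.IsComponent K' := hK' ▸ hconj v
    have hne : K' ≠ K := fun e => hvn (wc_map_conj_eq_iff.mp (hK' ▸ e))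
    have hb : (v * k * v⁻¹)⁻¹ ∈ K' := inv_mem (hK' ▸ ⟨k, hk, rfl⟩)
    have hkb : ∀ a ∈ K, ∀ b ∈ K', Commute a b := fun a ha b hb =>
      (mem_centralizer_iff.mp (IsComponent.commute hK hK'c (Ne.symm hne) ha) b hb).symm
    obtain ⟨x, hxV, hx1, hxc⟩ := d.hS (k * (v * k * v⁻¹)⁻¹) v hv
      (odd_order_mul (hkb k hk _ hb) hko (by
        rwa [orderOf_inv, show v * k * v⁻¹ = MulAut.conj v k from rfl, MulEquiv.orderOf_eq]))
      (by
        calc v * (k * (v * k * v⁻¹)⁻¹) * v⁻¹ = (v * k * v⁻¹) * ((v * v) * k * (v * v)⁻¹)⁻¹ := by group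
          _ = (v * k * v⁻¹) * k⁻¹ := by rw [d.sq hv]; group
          _ = _ := by rw [mul_inv_rev, inv_inv])
    have hx0 : x ∉ V₀ := fun h => hx1 (hV₀b x h)
    obtain ⟨M, hM⟩ : ∃ M, M = K.map (MulAut.conj x).toMonoidHom := ⟨_, rfl⟩
    obtain ⟨M', hM'⟩ : ∃ M', M' = K'.map (MulAut.conj x).toMonoidHom := ⟨_, rfl⟩
    have hMc : Cfsg.IsComponent M := hM ▸ hconj x
    have hM'c : Cfsg.IsComponent M' := hM' ▸ IsComponent.map_iso (MulAut.conj x) hK'c
    have hMK : M ≠ K := fun e => hx0 (hstab x hxV (hM ▸ e))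
    obtain ⟨b, hb', rfl⟩ : ∃ b, b ∈ K' ∧ b = (v * k * v⁻¹)⁻¹ := ⟨_, hb, rfl⟩
    have heq : x * k * x⁻¹ * (x * (v * k * v⁻¹)⁻¹ * x⁻¹) = k * (v * k * v⁻¹)⁻¹ := by
      calc x * k * x⁻¹ * (x * (v * k * v⁻¹)⁻¹ * x⁻¹) = x * (k * (v * k * v⁻¹)⁻¹) * x⁻¹ := by group
        _ = _ := by rw [hxc, mul_inv_cancel_right]
    have hMM : M' ≠ M := fun e => hne (map_injective (f := (MulAut.conj x).toMonoidHom)
      (MulAut.conj x).injective ((hM'.symm.trans e).trans hM))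
    have hMK' : M = K' := by
      by_contra hMne
      have haM : x * k * x⁻¹ ∈ M := hM ▸ ⟨k, hk, rfl⟩
      have hbM : x * (v * k * v⁻¹)⁻¹ * x⁻¹ ∈ M' := hM' ▸ ⟨_, hb, rfl⟩
      have hc1 : x * k * x⁻¹ = k * (v * k * v⁻¹)⁻¹ * (x * (v * k * v⁻¹)⁻¹ * x⁻¹)⁻¹ := by
        rw [← heq, mul_inv_cancel_right]
      have hcen : x * k * x⁻¹ ∈ centralizer (M : Set G) := by
        rw [hc1]
        exact mul_mem (mul_mem (IsComponent.commute hK hMc (Ne.symm hMK) hk)
          (IsComponent.commute hK'c hMc (Ne.symm hMne) hb)) (inv_mem (IsComponent.commute hM'c hMc hMM hbM))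
      have h1 : x * k * x⁻¹ = 1 := by
        rw [← mem_bot, ← inf_centralizer_component d hMc]
        exact mem_inf.mpr ⟨haM, hcen⟩
      exact hk1 (conj_eq_one_iff.mp h1)
    have hvx : v⁻¹ * x ∈ V₀ := by
      refine hstab _ (mul_mem (inv_mem hv) hxV) ?_
      have e : (MulAut.conj (v⁻¹ * x)).toMonoidHom =
          (MulAut.conj v⁻¹).toMonoidHom.comp (MulAut.conj x).toMonoidHom := by
        ext z; simp [mul_assoc]
      rw [e, ← Subgroup.map_map, ← hM, hMK', hK', Subgroup.map_map]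
      conv_rhs => rw [← Subgroup.map_id K]
      congr 1
      ext z; simp [mul_assoc]
    have hxv : x = v := (eq_of_inv_mul_eq_one (hV₀b _ hvx)).symm
    subst hxv
    have h2 : k * (x * k * x⁻¹)⁻¹ = 1 := by
      obtain ⟨h, hh⟩ : ∃ h, h = k * (x * k * x⁻¹)⁻¹ := ⟨_, rfl⟩
      rw [← hh] at hxc ⊢
      have hinv : x * h * x⁻¹ = h⁻¹ := by
        calc x * h * x⁻¹ = (x * k * x⁻¹) * ((x * x) * k * (x * x)⁻¹)⁻¹ := by rw [hh]; group
          _ = h⁻¹ := by rw [d.sq hxV, hh]; group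
      rw [hxc, mul_inv_cancel_right] at hinv
      have h22 : h * h = 1 := by
        nth_rw 2 [hinv]
        exact mul_inv_cancel h
      have ho : Odd (orderOf h) := hh ▸ odd_order_mul (hkb k hk _ hb) hko (by
        rwa [orderOf_inv, show x * k * x⁻¹ = MulAut.conj x k from rfl, MulEquiv.orderOf_eq])
      have : orderOf h ∣ 2 := orderOf_dvd_of_pow_eq_one (by rw [pow_two]; exact h22)
      rcases (Nat.dvd_prime Nat.prime_two).mp this with e | e
      · exact orderOf_eq_one_iff.mp e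
      · exact absurd (e ▸ ho) (by decide)
    have hkK' : k ∈ K' := by
      rw [mul_inv_eq_one] at h2
      rw [h2, hK']
      exact ⟨k, hk, rfl⟩
    exact hne (hshare K' K hK'c hK k hkK' hk hk1)
  · obtain ⟨x, hxV, hx1, hxc⟩ := d.hS h u (hV₀V hu) hho hinv
    have hx0 : x ∈ V₀ := by
      refine hstab x hxV (hshare _ K (hconj x) hK h ⟨h, hhK, ?_⟩ hhK hh1)
      show x * h * x⁻¹ = h
      rw [hxc, mul_inv_cancel_right]
    exact hx1 (hhR x hx0 hxc)

theorem main (d : Hyp V) :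
    IsSimpleGroup ↥(Cfsg.generalizedFittingSubgroup G) ∧ ¬ IsMulCommutative ↥(Cfsg.generalizedFittingSubgroup G) ∧
      V ⊔ Cfsg.generalizedFittingSubgroup G = ⊤ := by
  have hF := d.fitting_eq_bot
  obtain ⟨K, hK⟩ : ∃ K, Cfsg.IsComponent (G := G) K := by
    by_contra hne
    have hl : Cfsg.layer G = ⊥ := le_bot_iff.mp (sSup_le fun K hK => absurd ⟨K, hK⟩ hne)
    have h := centralizer_fitting_le_of_layer_eq_bot hl
    rw [hF] at h
    exact d.hV1 (le_bot_iff.mp (fun v _ => h (mem_centralizer_iff.mpr fun z hz => by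
      rw [mem_bot.mp hz]; simp)))
  haveI := component_normal d hK
  have htop : K ⊔ V = ⊤ := d.sup_eq_top K (IsComponent.ne_bot hK)
  have huniq : ∀ K' : Subgroup G, Cfsg.IsComponent K' → K' = K := by
    intro K' hK'
    refine IsComponent.eq_of_le hK' hK ?_
    rw [← IsComponent.perfect hK', ← QuotientGroup.ker_mk' K, ← Subgroup.map_eq_bot_iff, map_commutator,
      ← le_bot_iff, commutator_le]
    have hval : ∀ g : G, ∃ v ∈ V, QuotientGroup.mk' K g = QuotientGroup.mk' K v := by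
      intro g
      obtain ⟨v, hv, n, hn, rfl⟩ := mem_sup_of_normal_right.mp ((sup_comm K V ▸ htop).ge (mem_top g))
      exact ⟨v, hv, by rw [map_mul, show QuotientGroup.mk' K n = 1 from (QuotientGroup.eq_one_iff n).mpr hn, mul_one]⟩
    rintro _ ⟨a, -, rfl⟩ _ ⟨b, -, rfl⟩
    obtain ⟨v, hv, ea⟩ := hval a
    obtain ⟨w, hw, eb⟩ := hval b
    rw [mem_bot, ea, eb, commutatorElement_eq_one_iff_mul_comm]
    exact ((d.comm hv hw).map _).eq
  have hgf : Cfsg.generalizedFittingSubgroup G = K := by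
    rw [Cfsg.generalizedFittingSubgroup, hF, sup_bot_eq]
    exact le_antisymm (sSup_le fun K' hK' => (huniq K' hK').le) (IsComponent.le_layer hK)
  rw [hgf]
  have hc : center ↥K = ⊥ := by
    rw [← Subgroup.map_eq_bot_iff_of_injective _ K.subtype_injective, center_map_subtype]
    exact inf_centralizer_component d hK
  have hsimp : IsSimpleGroup ↥K := by
    haveI : IsSimpleGroup (↥K ⧸ center ↥K) := hK.2.2
    exact ((QuotientGroup.quotientMulEquivOfEq hc).trans QuotientGroup.quotientBot).isSimpleGroup_congr.mp inferInstance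
  refine ⟨hsimp, fun hcm => IsQuasisimple.center_ne_top hK.2 (eq_top_iff.mpr fun k _ =>
    Subgroup.mem_center_iff.mpr fun l => hcm.is_comm.comm l k), by rw [sup_comm]; exact htop⟩

end Cfsg.Agent.Invol.SidkiMin
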