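import Cfsg.Agent.Lib.Invol.S4AmalgamPair

/-!
# A maximal subgroup with dihedral residue in a simple group
-/

set_option autoImplicit false

namespace Cfsg.Agent.Invol.SimsD

open Subgroup
open Amal (cj omZ)

/-- The dihedral group of order six is the symmetric group of degree three. -/
theorem dihedralThree : Nonempty (DihedralGroup 3 ≃* Equiv.Perm (Fin 3)) := by
  let f : DihedralGroup 3 → Equiv.Perm (Fin 3) := fun
    | .r i => { toFun := fun x : ZMod 3 => x + i, invFun := fun x : ZMod 3 => x - i,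
                left_inv := fun x => by revert x i; decide, right_inv := fun x => by revert x i; decide }
    | .sr i => { toFun := fun x : ZMod 3 => -(x + i), invFun := fun x : ZMod 3 => -x - i,
                 left_inv := fun x => by revert x i; decide, right_inv := fun x => by revert x i; decide }
  have hm : ∀ a b, f (a * b) = f a * f b := by
    rintro (i | i) (j | j) <;> revert i j <;> decide
  have hinj : Function.Injective f := by
    rintro (i | i) (j | j) <;> revert i j <;> decide
  refine ⟨MulEquiv.ofBijective (MonoidHom.mk' f hm) ((Nat.bijective_iff_injective_and_card _).mpr ⟨hinj, ?_⟩)⟩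
  rw [DihedralGroup.nat_card, Nat.card_perm, Nat.card_fin]; rfl

variable {H : Type*} [Group H] [Finite H]

/-- Elements permuting the cosets of a small-index centralized subgroup with order a large prime act trivially. -/
theorem commute_of_index_le {q : ℕ} (hq : q.Prime) (h5 : 5 ≤ q) {Z C : Subgroup H} {r : H}
    (hrZ : ∀ z ∈ Z, r * z * r⁻¹ ∈ Z) (hrC : ∀ c ∈ C, r * c = c * r) (hCZ : C ≤ Z)
    (hidx : C.relIndex Z ≤ 4) (hrq : ∀ z ∈ Z, r ^ q * z = z * r ^ q)
    (hsq : ∀ c ∈ C, c * c = 1) : ∀ z ∈ Z, r * z = z * r := by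
  classical
  set K := ↥Z ⧸ C.subgroupOf Z with hK
  haveI : Fintype K := Fintype.ofFinite K
  have hwd : ∀ a b : ↥Z, (QuotientGroup.mk a : K) = QuotientGroup.mk b →
      (QuotientGroup.mk (⟨r * a * r⁻¹, hrZ a a.2⟩ : ↥Z) : K) = QuotientGroup.mk ⟨r * b * r⁻¹, hrZ b b.2⟩ := by
    intro a b hab
    rw [QuotientGroup.eq, mem_subgroupOf] at hab ⊢
    simp only [coe_mul, InvMemClass.coe_inv] at hab ⊢
    have e : (r * (a : H) * r⁻¹)⁻¹ * (r * (b : H) * r⁻¹) = r * ((a : H)⁻¹ * b) * r⁻¹ := by group
    rw [e, hrC _ hab, mul_inv_cancel_right]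
    exact hab
  let σ : K → K := fun k => Quotient.liftOn' k
    (fun a : ↥Z => (QuotientGroup.mk (⟨r * a * r⁻¹, hrZ a a.2⟩ : ↥Z) : K))
    fun a b hab => hwd a b (Quotient.sound' hab)
  have hσ : ∀ a : ↥Z, σ (QuotientGroup.mk a) = QuotientGroup.mk ⟨r * a * r⁻¹, hrZ a a.2⟩ := fun a => rfl
  have hpowZ : ∀ (n : ℕ) (z : H), z ∈ Z → r ^ n * z * (r ^ n)⁻¹ ∈ Z := by
    intro n
    induction n with
    | zero => intro z hz; simpa using hz
    | succ n ih =>
      intro z hz
      have := ih _ (hrZ z hz)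
      rw [pow_succ]; simpa [mul_assoc] using this
  have hiter : ∀ (n : ℕ) (a : ↥Z),
      σ^[n] (QuotientGroup.mk a) = QuotientGroup.mk ⟨r ^ n * a * (r ^ n)⁻¹, hpowZ n a a.2⟩ := by
    intro n
    induction n with
    | zero => intro a; simp
    | succ n ih =>
      intro a
      rw [Function.iterate_succ_apply', ih, hσ]
      congr 1
      apply Subtype.ext
      show r * (r ^ n * (a : H) * (r ^ n)⁻¹) * r⁻¹ = r ^ (n + 1) * (a : H) * (r ^ (n + 1))⁻¹
      rw [pow_succ']; group
  have hperiod : ∀ k, σ^[q] k = k := by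
    intro k
    induction k using QuotientGroup.induction_on with | _ a => ?_
    rw [hiter]; congr 1; apply Subtype.ext
    show r ^ q * (a : H) * (r ^ q)⁻¹ = a
    rw [hrq a a.2, mul_inv_cancel_right]
  have hfix : ∀ k, σ k = k := by
    intro k
    by_contra hne
    have hper : Function.minimalPeriod σ k = q := by
      rcases (Nat.dvd_prime hq).mp (Function.IsPeriodicPt.minimalPeriod_dvd (hperiod k)) with e | e
      · exact absurd (Function.minimalPeriod_eq_one_iff_isFixedPt.mp e) hne
      · exact e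
    have hle : q ≤ Fintype.card K := by
      refine le_trans (le_of_eq (Fintype.card_fin q).symm) (Fintype.card_le_of_injective (fun i : Fin q => σ^[i] k) ?_)
      intro i j hij
      apply Fin.ext
      refine (Function.iterate_injOn_Iio_minimalPeriod (f := σ) (x := k)) ?_ ?_ hij
      · rw [Set.mem_Iio, hper]; exact i.2
      · rw [Set.mem_Iio, hper]; exact j.2
    rw [← Nat.card_eq_fintype_card] at hle
    have : Nat.card K ≤ 4 := hidx
    omega
  intro z hz
  have h1 := hfix (QuotientGroup.mk (⟨z, hz⟩ : ↥Z))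
  rw [hσ, QuotientGroup.eq, mem_subgroupOf] at h1
  simp only [coe_mul, InvMemClass.coe_inv] at h1
  set c := (r * z * r⁻¹)⁻¹ * z with hc
  have hzc : r * z * r⁻¹ = z * c⁻¹ := by rw [hc]; group
  have hall : ∀ n : ℕ, r ^ n * z * (r ^ n)⁻¹ = z * (c⁻¹) ^ n := by
    intro n
    induction n with
    | zero => simp
    | succ n ih =>
      calc r ^ (n + 1) * z * (r ^ (n + 1))⁻¹ = r * (r ^ n * z * (r ^ n)⁻¹) * r⁻¹ := by rw [pow_succ']; group
        _ = (r * z * r⁻¹) * (r * (c⁻¹) ^ n * r⁻¹) := by rw [ih]; group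
        _ = z * c⁻¹ ^ (n + 1) := by
          rw [hzc, hrC _ (pow_mem (C.inv_mem h1) n), mul_inv_cancel_right, mul_assoc, ← pow_succ']
  have h2 := hall q
  rw [hrq z hz, mul_inv_cancel_right] at h2
  have h3 : (c⁻¹) ^ q = 1 := mul_eq_left.mp h2.symm
  have h4 : c⁻¹ * c⁻¹ = 1 := hsq _ (C.inv_mem h1)
  obtain ⟨m, hm⟩ := hq.odd_of_ne_two (by omega)
  rw [hm, pow_succ, pow_mul, pow_two, h4, one_pow, one_mul] at h3
  rw [h3, mul_one] at hzc
  exact mul_inv_eq_iff_eq_mul.mp hzc

theorem sims [IsSimpleGroup H] (hna : ¬ IsMulCommutative H) (G : Subgroup H) (hG : IsCoatom G)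
    (hchar : Subgroup.centralizer (Cfsg.pCore 2 ↥G : Set ↥G) ≤ Cfsg.pCore 2 ↥G) (S : Sylow 2 ↥G)
    (hN : ¬ Subgroup.normalizer (((S : Subgroup ↥G).map G.subtype : Subgroup H) : Set H) ≤ G) (q : ℕ) (hq : q.Prime)
    (hD : Nonempty (↥G ⧸ Cfsg.pCore 2 ↥G ≃* DihedralGroup q)) :
    Nonempty (↥G ≃* Equiv.Perm (Fin 4)) ∨ Nonempty (↥G ≃* Equiv.Perm (Fin 4) × Multiplicative (ZMod 2)) := by
  haveI : Fact (Nat.Prime 2) := ⟨Nat.prime_two⟩
  have _ := hna
  obtain ⟨g, hgN, hgG⟩ := SetLike.not_le_iff_exists.mp hN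
  obtain ⟨eD⟩ := hD
  set Q := Cfsg.pCore 2 ↥G with hQdef
  have hQp : IsPGroup 2 ↥Q := Transfer.pCore_le_sylow S |> fun hle => S.isPGroup'.to_le hle
  have hQS : Q ≤ (S : Subgroup ↥G) := Transfer.pCore_le_sylow S
  have hQidx : Q.index = 2 * q := by
    rw [Subgroup.index_eq_card, Nat.card_congr eD.toEquiv, DihedralGroup.nat_card]
  have hodd : ¬ 2 ∣ (S : Subgroup ↥G).index := S.not_dvd_index
  have hdvd : (S : Subgroup ↥G).index ∣ 2 * q := hQidx ▸ Subgroup.index_dvd_of_le hQS
  have hQn : Q.Normal := inferInstance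
  have hSidx : (S : Subgroup ↥G).index = q ∧ 2 < q := by
    have h2 : Nat.Coprime (S : Subgroup ↥G).index 2 := (Nat.prime_two.coprime_iff_not_dvd.mpr hodd).symm
    rcases (Nat.dvd_prime hq).mp (h2.dvd_of_dvd_mul_left hdvd) with e | e
    · exfalso
      have htop : (S : Subgroup ↥G) = ⊤ := Subgroup.index_eq_one.mp e
      have : (S : Subgroup ↥G) ≤ Q := le_sSup ⟨by rw [htop]; infer_instance, S.isPGroup'⟩
      rw [htop, top_le_iff, ← Subgroup.index_eq_one, hQidx] at this
      omega
    · refine ⟨e, ?_⟩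
      rcases Nat.lt_or_ge 2 q with h | h
      · exact h
      · exfalso
        rw [e] at hodd
        exact hodd ⟨1, by have := hq.two_le; omega⟩
  obtain ⟨hSi, hq2⟩ := hSidx
  -- `S` is maximal in `G`
  have hSmax : ∀ K : Subgroup ↥G, (S : Subgroup ↥G) < K → K = ⊤ := by
    intro K hK
    have h1 : K.index ∣ q := hSi ▸ Subgroup.index_dvd_of_le hK.le
    rcases (Nat.dvd_prime hq).mp h1 with e | e
    · exact Subgroup.index_eq_one.mp e
    · exfalso
      refine hK.ne (Subgroup.eq_of_le_of_card_ge hK.le ?_)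
      have a1 := K.card_mul_index
      have a2 := (S : Subgroup ↥G).card_mul_index
      rw [e] at a1; rw [hSi] at a2
      exact le_of_eq (Nat.eq_of_mul_eq_mul_right hq.pos (a1.trans a2.symm))
  set T := (S : Subgroup ↥G).map G.subtype with hT
  have hTG : T ≤ G := Subgroup.map_subtype_le _
  have hTsub : T.subgroupOf G = (S : Subgroup ↥G) := Subgroup.comap_map_eq_self_of_injective G.subtype_injective _
  have hgT : cj g T = T := by
    ext x
    rw [Amal.mem_cj]
    exact ((mem_normalizer_iff.mp (inv_mem hgN) x).trans (by rw [inv_inv])).symm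
  have hGbot : G ≠ ⊥ := fun e => by
    subst e
    haveI : Subsingleton ↥(⊥ : Subgroup H) := inferInstance
    have := Nat.card_congr eD.toEquiv
    rw [Nat.card_of_subsingleton (1 : ↥(⊥ : Subgroup H) ⧸ Q), DihedralGroup.nat_card] at this
    omega
  have hnormG : normalizer (G : Set H) = G := by
    refine le_antisymm ?_ le_normalizer
    by_contra hne
    have h1 : normalizer (G : Set H) = ⊤ := hG.2 _ (lt_of_le_not_ge le_normalizer hne)
    have hn : G.Normal := Subgroup.normalizer_eq_top_iff.mp h1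
    rcases hn.eq_bot_or_eq_top with e | e
    · exact hGbot e
    · exact hG.1 e
  set G' := cj g G with hG'
  have hne : G' ≠ G := by
    intro e
    refine hgG (hnormG.le (mem_normalizer_iff.mpr fun x => ?_))
    conv_rhs => rw [← e]
    rw [Amal.mem_cj]; simp [mul_assoc]
  have hcardG : Nat.card G' = Nat.card G := Subgroup.card_map_of_injective (MulAut.conj g).injective
  have hTG' : T ≤ G' := hgT ▸ Subgroup.map_mono hTG
  have hinf : G ⊓ G' = T := by
    refine le_antisymm ?_ (le_inf hTG hTG')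
    by_contra hle
    have hlt : (S : Subgroup ↥G) < (G ⊓ G').subgroupOf G := by
      refine lt_of_le_not_ge (hTsub ▸ Subgroup.comap_mono (le_inf hTG hTG')) fun h => hle ?_
      have := Subgroup.map_mono (f := G.subtype) h
      rwa [Subgroup.subgroupOf_map_subtype, inf_eq_left.mpr inf_le_left] at this
    have h1 := hSmax _ hlt
    rw [Subgroup.subgroupOf_eq_top] at h1
    exact hne (Subgroup.eq_of_le_of_card_ge (h1.trans inf_le_right) hcardG.le).symm
  have hgen : G ⊔ G' = ⊤ := by
    refine hG.2 _ (lt_of_le_not_ge le_sup_left fun h => hne ?_)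
    exact Subgroup.eq_of_le_of_card_ge (le_sup_right.trans h) hcardG.ge
  have hbot : ∀ N : Subgroup H, N.Normal → N ≤ T → N = ⊥ := by
    intro N hN hNT
    rcases hN.eq_bot_or_eq_top with e | e
    · exact e
    · exact absurd (top_le_iff.mp (e ▸ hNT.trans hTG)) hG.1
  have hnormal_of : ∀ N : Subgroup H, G ≤ normalizer (N : Set H) → g ∈ normalizer (N : Set H) → N.Normal := by
    intro N h1 h2
    refine Subgroup.normalizer_eq_top_iff.mp ?_
    rcases eq_or_lt_of_le h1 with e | e
    · exact absurd (e ▸ h2) hgG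
    · exact hG.2 _ e
  -- the centre of `T`
  set Z := omZ 2 T with hZdef
  have hZT : Z ≤ T := (Amal.omZ_le T).trans inf_le_left
  have hZnorm : ∀ x ∈ normalizer (T : Set H), x ∈ normalizer (Z : Set H) := by
    have key : ∀ x ∈ normalizer (T : Set H), ∀ z ∈ Z, x * z * x⁻¹ ∈ Z := by
      intro x hx z hz
      have h1 : cj x T = T := by
        ext y
        rw [Amal.mem_cj]
        exact ((mem_normalizer_iff.mp (inv_mem hx) y).trans (by rw [inv_inv])).symm
      have := Amal.omZ_cj (p := 2) x T ⟨z, hz, rfl⟩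
      rwa [h1] at this
    intro x hx
    rw [mem_normalizer_iff]
    refine fun z => ⟨key x hx z, fun h => ?_⟩
    simpa [mul_assoc] using key x⁻¹ (inv_mem hx) _ h
  have hTne : T ≠ ⊥ := by
    intro e
    have h1 : (S : Subgroup ↥G) = ⊥ := (Subgroup.map_eq_bot_iff_of_injective _ G.subtype_injective).mp e
    have h2 : Q = ⊥ := le_bot_iff.mp (h1 ▸ hQS)
    have h3 := hQidx
    rw [h2, Subgroup.index_bot] at h3
    have h4 := hSi
    rw [h1, Subgroup.index_bot, h3] at h4
    have := hq.pos
    omega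
  have hTp : IsPGroup 2 ↥T := S.isPGroup'.map _
  have hZne : Z ≠ ⊥ := by
    haveI : Nontrivial ↥T := (Subgroup.nontrivial_iff_ne_bot T).mpr hTne
    haveI : Nontrivial (Subgroup.center ↥T) := hTp.center_nontrivial
    have hdvd2 : 2 ∣ Nat.card (Subgroup.center ↥T) := by
      obtain ⟨n, hn, e⟩ := (hTp.to_subgroup (Subgroup.center ↥T)).nontrivial_iff_card.mp inferInstance
      exact e ▸ dvd_pow_self 2 hn.ne'
    obtain ⟨z, hz⟩ := exists_prime_orderOf_dvd_card' (G := Subgroup.center ↥T) 2 hdvd2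
    have hzT : ((z : ↥T) : H) ∈ T := (z : ↥T).2
    have hz2 : ((z : ↥T) : H) ^ 2 = 1 := by
      have := pow_orderOf_eq_one z
      rw [hz] at this
      simpa using congrArg (fun w : Subgroup.center ↥T => ((w : ↥T) : H)) this
    have hzZ : ((z : ↥T) : H) ∈ Z := Subgroup.subset_closure ⟨⟨hzT, mem_centralizer_iff.mpr fun t ht => by
      exact congrArg Subtype.val (Subgroup.mem_center_iff.mp z.2 ⟨t, ht⟩)⟩, hz2⟩
    intro e
    rw [e, mem_bot] at hzZ
    have : z = 1 := Subtype.ext (Subtype.ext hzZ)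
    rw [this, orderOf_one] at hz
    omega
  have hmoved : ¬ G ≤ centralizer (Z : Set H) := by
    intro hle
    refine hZne (hbot Z (hnormal_of Z (hle.trans (centralizer_le_normalizer _)) (hZnorm g hgN)) hZT)
  have hmoved' : ¬ G' ≤ centralizer (Z : Set H) := by
    intro hle
    refine hmoved fun x hx => mem_centralizer_iff.mpr fun z hz => ?_
    have h2 : g * z * g⁻¹ ∈ Z := (mem_normalizer_iff.mp (hZnorm g hgN) z).mp hz
    have h3 := mem_centralizer_iff.mp (hle ⟨x, hx, rfl⟩) _ h2
    simp only [MulEquiv.coe_toMonoidHom, MulAut.conj_apply] at h3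
    calc z * x = g⁻¹ * ((g * z * g⁻¹) * (g * x * g⁻¹)) * g := by group
      _ = x * z := by rw [h3]; group
  -- the prime is three
  have hq3 : q = 3 := by
    by_contra hq3
    have h5 : 5 ≤ q := by
      have hne4 : q ≠ 4 := fun e => by rw [e] at hq; norm_num at hq
      omega
    set QH := Cfsg.pCoreOf 2 G with hQH
    have hQHT : QH ≤ T := Subgroup.map_mono hQS
    have hQHn : ∀ x ∈ G, ∀ y ∈ QH, x * y * x⁻¹ ∈ QH := by
      rintro x hx _ ⟨y, hy, rfl⟩
      exact ⟨_, hQn.conj_mem y hy ⟨x, hx⟩, rfl⟩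
    have hcharH : ∀ x ∈ G, (∀ y ∈ QH, y * x = x * y) → x ∈ QH := by
      intro x hx hc
      refine ⟨⟨x, hx⟩, hchar (mem_centralizer_iff.mpr fun y hy => Subtype.ext ?_), rfl⟩
      exact hc _ ⟨y, hy, rfl⟩
    -- the normal closure of the centre
    set W := Subgroup.closure {w | ∃ x ∈ G, ∃ z ∈ Z, w = x * z * x⁻¹} with hW
    have hZQ : Z ≤ QH := fun z hz => hcharH z (hTG (hZT hz)) fun y hy =>
      mem_centralizer_iff.mp (Amal.omZ_le T hz).2 y (hQHT hy)
    have hWQ : W ≤ QH := (closure_le _).mpr fun w ⟨x, hx, z, hz, e⟩ => e ▸ hQHn x hx z (hZQ hz)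
    have hWn : ∀ x ∈ G, ∀ w ∈ W, x * w * x⁻¹ ∈ W := by
      intro x hx w hw
      induction hw using closure_induction with
      | mem w hw =>
        obtain ⟨y, hy, z, hz, rfl⟩ := hw
        exact subset_closure ⟨x * y, mul_mem hx hy, z, hz, by group⟩
      | one => simp
      | mul a b _ _ iha ihb => simpa [mul_assoc] using mul_mem iha ihb
      | inv a _ iha => simpa [mul_assoc] using inv_mem iha
    have hWcQ : ∀ w ∈ W, ∀ y ∈ QH, w * y = y * w := by
      have : W ≤ centralizer (QH : Set H) := (closure_le _).mpr fun w ⟨x, hx, z, hz, e⟩ => by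
        rw [SetLike.mem_coe, mem_centralizer_iff, e]
        intro y hy
        have hy' : x⁻¹ * y * x ∈ QH := by simpa using hQHn x⁻¹ (inv_mem hx) y hy
        have := mem_centralizer_iff.mp (Amal.omZ_le T hz).2 _ (hQHT hy')
        calc y * (x * z * x⁻¹) = x * ((x⁻¹ * y * x) * z) * x⁻¹ := by group
          _ = x * z * x⁻¹ * y := by rw [this]; group
      exact fun w hw y hy => (mem_centralizer_iff.mp (this hw) y hy).symm
    have hW2 : ∀ w ∈ W, w * w = 1 := by
      intro w hw
      induction hw using closure_induction with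
      | mem w hw =>
        obtain ⟨y, -, z, hz, rfl⟩ := hw
        have : z * z = 1 := by
          induction hz using closure_induction with
          | mem a ha => rw [← pow_two]; exact ha.2
          | one => rw [one_mul]
          | mul a b ha hb iha ihb =>
            have hab : b * a = a * b :=
              (mem_centralizer_iff.mp (Amal.omZ_le T hb).2 a (Amal.omZ_le T ha).1).symm
            calc a * b * (a * b) = a * (b * a) * b := by group
              _ = (a * a) * (b * b) := by rw [hab]; group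
              _ = 1 := by rw [iha, ihb, one_mul]
          | inv a _ iha => rw [← mul_inv_rev, iha, inv_one]
        calc y * z * y⁻¹ * (y * z * y⁻¹) = y * (z * z) * y⁻¹ := by group
          _ = 1 := by rw [this]; group
      | one => rw [one_mul]
      | mul a b ha hb iha ihb =>
        have hab := hWcQ b hb a (hWQ ha)
        calc a * b * (a * b) = a * (b * a) * b := by group
          _ = (a * a) * (b * b) := by rw [hab]; group
          _ = 1 := by rw [iha, ihb, one_mul]
      | inv a _ iha => rw [← mul_inv_rev, iha, inv_one]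
    -- elements centralizing `W` lie in the core
    have hcW : ∀ x ∈ G, (∀ w ∈ W, x * w = w * x) → x ∈ QH := by
      let C : Subgroup ↥G := (centralizer (W : Set H)).subgroupOf G
      have hCn : C.Normal := ⟨fun c hc x => by
        simp only [C, mem_subgroupOf, mem_centralizer_iff, coe_mul, InvMemClass.coe_inv] at hc ⊢
        intro w hw
        have hw' : (x : H)⁻¹ * w * x ∈ W := by simpa using hWn (x : H)⁻¹ (inv_mem x.2) w hw
        have := hc _ hw'
        calc w * ((x : H) * (c : H) * (x : H)⁻¹) = (x : H) * (((x : H)⁻¹ * w * x) * c) * (x : H)⁻¹ := by group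
          _ = (x : H) * (c : H) * (x : H)⁻¹ * w := by rw [this]; group⟩
      have hCS : C ≤ (S : Subgroup ↥G) := by
        by_contra hle
        have htop := hSmax ((S : Subgroup ↥G) ⊔ C) (lt_of_le_not_ge le_sup_left fun h => hle (le_sup_right.trans h))
        refine hmoved fun x hx => ?_
        have hsub : (S : Subgroup ↥G) ⊔ C ≤ (centralizer (Z : Set H)).subgroupOf G := by
          refine sup_le (fun s hs => ?_) fun c hc => ?_
          · exact mem_centralizer_iff.mpr fun z hz =>
              ((mem_centralizer_iff.mp (Amal.omZ_le T hz).2) _ ⟨s, hs, rfl⟩).symm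
          · exact mem_centralizer_iff.mpr fun z hz =>
              mem_centralizer_iff.mp (mem_subgroupOf.mp hc) z
                (subset_closure ⟨1, one_mem _, z, hz, by group⟩)
        exact hsub (show (⟨x, hx⟩ : ↥G) ∈ (S : Subgroup ↥G) ⊔ C from htop ▸ mem_top _)
      intro x hx hc
      have h1 : C ≤ Q := le_sSup ⟨hCn, S.isPGroup'.to_le hCS⟩
      exact ⟨⟨x, hx⟩, h1 (mem_centralizer_iff.mpr fun w hw => (hc w hw).symm), rfl⟩
    -- elementary abelian subgroups of greatest order
    let EA : Set (Subgroup H) := {A | A ≤ T ∧ (∀ a ∈ A, a * a = 1) ∧ ∀ a ∈ A, ∀ b ∈ A, a * b = b * a}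
    obtain ⟨A₀, hA₀, hmax⟩ : ∃ A ∈ EA, ∀ B ∈ EA, Nat.card B ≤ Nat.card A := by
      have hne : EA.Nonempty := ⟨⊥, bot_le, fun a ha => by rw [mem_bot] at ha; rw [ha, one_mul],
        fun a ha b hb => by rw [mem_bot] at ha hb; rw [ha, hb]⟩
      exact Set.exists_max_image EA (fun B => Nat.card B) (Set.toFinite _) hne
    let J : Subgroup H := ⨆ (A : Subgroup H) (_ : A ∈ EA ∧ Nat.card A = Nat.card A₀), A
    obtain ⟨A, hA, hAc, hAQ⟩ : ∃ A, A ∈ EA ∧ Nat.card A = Nat.card A₀ ∧ ¬ A ≤ QH := by
      by_contra hcon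
      push Not at hcon
      have hJ : ∀ x, (∀ A ∈ EA, Nat.card A = Nat.card A₀ → cj x A ≤ T) → ∀ y ∈ J, x * y * x⁻¹ ∈ J := by
        intro x hx y hy
        have : cj x J ≤ J := by
          simp only [J, cj, Subgroup.map_iSup]
          refine iSup₂_le fun A hA => ?_
          refine le_iSup₂ (f := fun (A : Subgroup H) (_ : A ∈ EA ∧ Nat.card A = Nat.card A₀) => A) (cj x A)
            ⟨⟨hx A hA.1 hA.2, ?_, ?_⟩, ?_⟩
          · rintro _ ⟨a, ha, rfl⟩; rw [← map_mul, hA.1.2.1 a ha, map_one]
          · rintro _ ⟨a, ha, rfl⟩ _ ⟨b, hb, rfl⟩; rw [← map_mul, ← map_mul, hA.1.2.2 a ha b hb]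
          · exact (Subgroup.card_map_of_injective (MulAut.conj x).injective).trans hA.2
        exact this ⟨y, hy, rfl⟩
      have hJn : J.Normal := by
        refine hnormal_of J (fun x hx => ?_) ?_
        · have key : ∀ x ∈ G, ∀ y ∈ J, x * y * x⁻¹ ∈ J := fun x hx => hJ x fun A hA hc => by
            rintro _ ⟨a, ha, rfl⟩
            exact hQHT (hQHn x hx a (hcon A hA hc ha))
          rw [mem_normalizer_iff]
          exact fun y => ⟨key x hx y, fun h => by simpa [mul_assoc] using key x⁻¹ (inv_mem hx) _ h⟩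
        · have key : ∀ x ∈ normalizer (T : Set H), ∀ y ∈ J, x * y * x⁻¹ ∈ J := fun x hx => hJ x fun A hA _ => by
            rintro _ ⟨a, ha, rfl⟩
            exact (mem_normalizer_iff.mp hx a).mp (hA.1 ha)
          rw [mem_normalizer_iff]
          exact fun y => ⟨key g hgN y, fun h => by simpa [mul_assoc] using key g⁻¹ (inv_mem hgN) _ h⟩
      have hJT : J ≤ T := iSup₂_le fun A hA => hA.1.1
      have hJbot := hbot J hJn hJT
      have hA0 : A₀ ≤ J := le_iSup₂ (f := fun (A : Subgroup H) (_ : A ∈ EA ∧ Nat.card A = Nat.card A₀) => A) A₀ ⟨hA₀, rfl⟩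
      have hA0bot : A₀ = ⊥ := le_bot_iff.mp (hJbot ▸ hA0)
      have hZEA : Z ∈ EA := ⟨hZT, fun z hz => hW2 z (subset_closure ⟨1, one_mem _, z, hz, by group⟩),
        fun a ha b hb => (mem_centralizer_iff.mp (Amal.omZ_le T ha).2 b (hZT hb)).symm⟩
      have := hmax Z hZEA
      rw [hA0bot, Subgroup.card_bot] at this
      exact hZne (Subgroup.eq_bot_of_card_le _ this)
    obtain ⟨a, haA, haQ⟩ := SetLike.not_le_iff_exists.mp hAQ
    have haT := hA.1 haA
    -- index of the core in the Sylow subgroup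
    have htwo : ∀ x ∈ T, x ∈ QH ∨ x * a ∈ QH := by
      intro x hx
      obtain ⟨xs, hxs, rfl⟩ := hx
      obtain ⟨as, has, hase⟩ := haT
      have hrel : (Q.subgroupOf (S : Subgroup ↥G)).index = 2 := by
        have := Subgroup.relIndex_mul_index hQS
        rw [hQidx, hSi] at this
        exact Nat.eq_of_mul_eq_mul_right hq.pos this
      have hiff := Subgroup.mul_mem_iff_of_index_two hrel (a := ⟨xs, hxs⟩) (b := ⟨as, has⟩)
      by_cases h : xs ∈ Q
      · exact Or.inl ⟨xs, h, rfl⟩
      · refine Or.inr ⟨xs * as, ?_, by rw [map_mul, hase]⟩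
        exact hiff.mpr (iff_of_false h fun h' => haQ (hase ▸ ⟨as, h', rfl⟩))
    set A0 := A ⊓ QH with hA0def
    set B := A0 ⊔ W with hB
    have hcomm : B ≤ centralizer (B : Set H) := by
      refine sup_le ?_ ?_
      · intro x hx; refine mem_centralizer_iff.mpr ?_
        have hle : B ≤ centralizer ({x} : Set H) := sup_le
          (fun y hy => mem_centralizer_singleton_iff.mpr (hA.2.2 y hy.1 x hx.1))
          (fun y hy => mem_centralizer_singleton_iff.mpr (hWcQ y hy x hx.2))
        exact fun y hy => mem_centralizer_singleton_iff.mp (hle hy)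
      · intro x hx; refine mem_centralizer_iff.mpr ?_
        have hle : B ≤ centralizer ({x} : Set H) := sup_le
          (fun y hy => mem_centralizer_singleton_iff.mpr (hWcQ x hx y hy.2).symm)
          (fun y hy => mem_centralizer_singleton_iff.mpr (hWcQ y hy x (hWQ hx)))
        exact fun y hy => mem_centralizer_singleton_iff.mp (hle hy)
    have hBab : ∀ x ∈ B, ∀ y ∈ B, x * y = y * x := fun x hx y hy => (mem_centralizer_iff.mp (hcomm hx) y hy).symm
    have hB2 : ∀ x ∈ B, x * x = 1 := by
      let K : Subgroup H :=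
        { carrier := {x | x ∈ B ∧ x * x = 1}
          one_mem' := ⟨one_mem _, one_mul 1⟩
          mul_mem' := fun {x y} hx hy => ⟨mul_mem hx.1 hy.1, by
            calc x * y * (x * y) = x * (y * x) * y := by group
              _ = x * x * (y * y) := by rw [hBab y hy.1 x hx.1]; group
              _ = 1 := by rw [hx.2, hy.2, one_mul]⟩
          inv_mem' := fun {x} hx => ⟨inv_mem hx.1, by rw [← mul_inv_rev, hx.2, inv_one]⟩ }
      have hle : B ≤ K := sup_le (fun x hx => ⟨mem_sup_left hx, hA.2.1 x hx.1⟩) fun x hx => ⟨mem_sup_right hx, hW2 x hx⟩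
      exact fun x hx => (hle hx).2
    have hBcard : Nat.card B ≤ Nat.card A := by
      rw [hAc]
      exact hmax B ⟨sup_le (inf_le_left.trans hA.1) (hWQ.trans hQHT), hB2, hBab⟩
    have hA2 : Nat.card A = 2 * Nat.card A0 := by
      refine S4Am.card_two_mul inf_le_left haA (fun h => haQ h.2) fun x hx => ?_
      rcases htwo x (hA.1 hx) with e | e
      · exact Or.inl ⟨hx, e⟩
      · exact Or.inr ⟨mul_mem hx haA, e⟩
    have hrelB : A0.relIndex B ≤ 2 := by
      have h1 := (A0.subgroupOf B).card_mul_index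
      rw [Nat.card_congr (Subgroup.subgroupOfEquivOfLe (le_sup_left : A0 ≤ B)).toEquiv, ← Subgroup.relIndex] at h1
      refine Nat.le_of_mul_le_mul_left ?_ (Nat.card_pos (α := A0))
      rw [h1]; rw [mul_comm]; omega
    set CW := W ⊓ centralizer ({a} : Set H) with hCW
    have hCWidx : CW.relIndex W ≤ 2 := by
      have hne0 : A0.relIndex B ≠ 0 := Subgroup.index_ne_zero_of_finite
      refine le_trans ?_ ((Subgroup.relIndex_le_of_le_right (le_sup_right : W ≤ B) hne0).trans hrelB)
      rw [← Subgroup.inf_relIndex_right A0 W]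
      refine Subgroup.relIndex_le_of_le_left (fun x hx => ⟨hx.2, ?_⟩) Subgroup.index_ne_zero_of_finite
      exact mem_centralizer_singleton_iff.mpr (hA.2.2 x hx.1.1 a haA)
    -- a rotation built from two conjugates
    have haG : a ∈ G := hTG haT
    obtain ⟨y, hy⟩ := QuotientGroup.mk_surjective (eD.symm (DihedralGroup.r 1))
    set b := (y : H) * a * (y : H)⁻¹ with hb
    have hbG : b ∈ G := mul_mem (mul_mem y.2 haG) (inv_mem y.2)
    set aG : ↥G := ⟨a, haG⟩ with haGdef
    have haQ' : aG ∉ Q := fun h => haQ ⟨aG, h, rfl⟩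
    obtain ⟨i, hi⟩ : ∃ i, eD (QuotientGroup.mk aG) = DihedralGroup.sr i := by
      have hsq : eD (QuotientGroup.mk aG) * eD (QuotientGroup.mk aG) = 1 := by
        rw [← map_mul, ← QuotientGroup.mk_mul, show aG * aG = 1 from Subtype.ext (hA.2.1 a haA)]
        exact map_one eD
      cases he : eD (QuotientGroup.mk aG) with
      | sr i => exact ⟨i, rfl⟩
      | r i =>
        exfalso
        rw [he, DihedralGroup.r_mul_r, DihedralGroup.one_def, DihedralGroup.r.injEq] at hsq
        refine haQ' ((QuotientGroup.eq_one_iff _).mp (eD.injective ?_))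
        rw [he, map_one, DihedralGroup.one_def, DihedralGroup.r.injEq]
        haveI : Fact q.Prime := ⟨hq⟩
        have h2 : (2 : ZMod q) * i = 0 := by rw [two_mul]; exact hsq
        rcases mul_eq_zero.mp h2 with e | e
        · exfalso
          have : (q : ℕ) ∣ 2 := (ZMod.natCast_eq_zero_iff 2 q).mp (by exact_mod_cast e) |> id
          have := Nat.le_of_dvd (by norm_num) this
          omega
        · exact e
    set bG : ↥G := ⟨b, hbG⟩ with hbGdef
    have hbar : eD (QuotientGroup.mk (aG * bG)) = DihedralGroup.r (-2 : ZMod q) := by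
      have hbe : bG = y * aG * y⁻¹ := Subtype.ext rfl
      rw [hbe, QuotientGroup.mk_mul, QuotientGroup.mk_mul, QuotientGroup.mk_mul, QuotientGroup.mk_inv, hy, map_mul,
        map_mul, map_mul, map_inv, MulEquiv.apply_symm_apply, hi, DihedralGroup.inv_r, DihedralGroup.r_mul_sr,
        DihedralGroup.sr_mul_r, DihedralGroup.sr_mul_sr]
      congr 1; ring
    set CW' := cj (y : H) CW with hCW'
    have hWy : cj (y : H) W = W := by
      ext w
      rw [Amal.mem_cj]
      exact ⟨fun h => by simpa [mul_assoc] using hWn (y : H) y.2 _ h,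
        fun h => by simpa using hWn (y : H)⁻¹ (inv_mem y.2) w h⟩
    have hidx' : CW'.relIndex W ≤ 2 := by
      conv_lhs => rw [← hWy]
      rw [hCW', cj, Subgroup.relIndex_map_map_of_injective _ _ (MulAut.conj (y : H)).injective]
      exact hCWidx
    have hCC : ∀ c ∈ CW ⊓ CW', (a * b) * c = c * (a * b) := by
      rintro c ⟨⟨-, hca⟩, hcc⟩
      have hc' : c ∈ CW' := hcc
      have h1 := mem_centralizer_singleton_iff.mp hca
      rw [hCW', Amal.mem_cj] at hc'
      have h2 := mem_centralizer_singleton_iff.mp hc'.2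
      have h3 : b * c = c * b := by
        calc b * c = (y : H) * (a * ((y : H)⁻¹ * c * y)) * (y : H)⁻¹ := by rw [hb]; group
          _ = c * b := by rw [← h2, hb]; group
      rw [mul_assoc, h3, ← mul_assoc, ← h1, mul_assoc]
    have hrq : (a * b) ^ q ∈ QH := by
      refine ⟨(aG * bG) ^ q, (QuotientGroup.eq_one_iff _).mp (eD.injective ?_), by simp [aG, bG]⟩
      rw [QuotientGroup.mk_pow, map_pow, hbar, map_one, DihedralGroup.r_pow, DihedralGroup.one_def]
      congr 1; simp
    have hWab := commute_of_index_le (r := a * b) hq h5 (fun w hw => hWn _ (mul_mem haG hbG) w hw) hCC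
      (inf_le_left.trans inf_le_left)
      (Subgroup.relIndex_inf_le.trans (Nat.mul_le_mul hCWidx hidx'))
      (fun w hw => (hWcQ w hw _ hrq).symm) (fun c hc => hW2 c hc.1.1)
    obtain ⟨z, hz, hze⟩ := hcW _ (mul_mem haG hbG) hWab
    have hz1 : eD (QuotientGroup.mk (aG * bG)) = 1 := by
      have : z = aG * bG := Subtype.ext hze
      rw [← this, (QuotientGroup.eq_one_iff z).mpr hz, map_one]
    rw [hbar, DihedralGroup.one_def, DihedralGroup.r.injEq, neg_eq_zero] at hz1
    have : (q : ℕ) ∣ 2 := (ZMod.natCast_eq_zero_iff 2 q).mp (by exact_mod_cast hz1)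
    have := Nat.le_of_dvd (by norm_num) this
    omega
  subst hq3
  obtain ⟨e3⟩ := dihedralThree
  haveI : Finite ↥G' := inferInstance
  have hsylG' : ∃ S' : Sylow 2 ↥G', (S' : Subgroup ↥G') = T.subgroupOf G' := by
    have h1 := (Amal.isSyl_map S).conj g
    rw [← hT, hgT] at h1
    obtain ⟨S', hS'⟩ := h1.exists_sylow
    exact ⟨S', by rw [← hS']; exact (Subgroup.comap_map_eq_self_of_injective G'.subtype_injective _).symm⟩
  have h₁G : G ⊓ centralizer (Cfsg.pCoreOf 2 G : Set H) ≤ Cfsg.pCoreOf 2 G := by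
    rintro x ⟨hx, hc⟩
    refine ⟨⟨x, hx⟩, hchar (mem_centralizer_iff.mpr fun y hy => Subtype.ext ?_), rfl⟩
    exact mem_centralizer_iff.mp hc _ ⟨y, hy, rfl⟩
  have h₁G' : G' ⊓ centralizer (Cfsg.pCoreOf 2 G' : Set H) ≤ Cfsg.pCoreOf 2 G' := fun x hx =>
    Amal.charP_conj G g hchar hx.1 fun y hy => mem_centralizer_iff.mp hx.2 y hy
  let eG : ↥G ≃* ↥G' := G.equivMapOfInjective _ (MulAut.conj g).injective
  have hmapQ : (Cfsg.pCore 2 ↥G).map eG.toMonoidHom = Cfsg.pCore 2 ↥G' := by
    refine le_antisymm (Invol.pCore_map_le_of_mulEquiv eG) fun x hx => ?_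
    have := Invol.pCore_map_le_of_mulEquiv eG.symm ⟨x, hx, rfl⟩
    exact ⟨eG.symm x, this, eG.apply_symm_apply x⟩
  have res := S4Am.pair G G' hgen T hinf.symm
    (by rintro P (rfl | rfl); exacts [h₁G, h₁G'])
    (by rintro P (rfl | rfl); exacts [⟨S, hTsub.symm⟩, hsylG'])
    hbot
    (by
      rintro P (rfl | rfl)
      · exact ⟨eD.trans e3⟩
      · exact ⟨((QuotientGroup.congr _ _ eG hmapQ).symm.trans eD).trans e3⟩)
    (by rintro P (rfl | rfl); exacts [hmoved, hmoved'])
  rcases res with ⟨⟨f⟩, -⟩ | ⟨⟨f⟩, -⟩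
  · exact Or.inl ⟨f⟩
  · exact Or.inr ⟨f.trans MulEquiv.prodComm⟩

end Cfsg.Agent.Invol.SimsD
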