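import Cfsg.Agent.Lib.Invol.SixtyFourShape
import Cfsg.Agent.Lib.Fus.HeisenbergSL
import Cfsg.Agent.Lib.Fus.PSLSimple

/-!
# The Sylow 2-subgroup of `PSL(3, 4)` as a group of order 64
-/

set_option autoImplicit false

open scoped Classical

namespace Cfsg.Agent.Invol.SixtyFour

open Cfsg.Agent.Fus.PSLN

/-- The shape of the Sylow 2-subgroup of `PSL(3, 4)`. -/
def linearShape : Shape where
  s _ := (false, false)
  c i j :=
    if i = 0 ∧ j = 2 then (true, false)
    else if (i = 0 ∧ j = 3) ∨ (i = 1 ∧ j = 2) then (false, true)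
    else if i = 1 ∧ j = 3 then (true, true)
    else (false, false)

variable {F : Type*} [Field F] [Fintype F] [CharP F 2]

/-- The upper unitriangular matrix with the given entries. -/
def mk3 (a b d : F) : ↥(unip F 3) :=
  ⟨⟨!![1, a, d; 0, 1, b; 0, 0, 1], by simp [Matrix.det_fin_three]⟩,
    ⟨fun i j h => by fin_cases i <;> fin_cases j <;> simp [ent] at h ⊢,
      fun i => by fin_cases i <;> simp [ent]⟩⟩

theorem mk3_01 (a b d : F) : ent (mk3 a b d).1 0 1 = a := by simp [mk3, ent]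
theorem mk3_12 (a b d : F) : ent (mk3 a b d).1 1 2 = b := by simp [mk3, ent]
theorem mk3_02 (a b d : F) : ent (mk3 a b d).1 0 2 = d := by simp [mk3, ent]

theorem mk3_mul (a b d a' b' d' : F) :
    mk3 a b d * mk3 a' b' d' = mk3 (a + a') (b + b') (d + d' + a * b') := by
  refine Subtype.ext (uni_ext ((mk3 a b d).2.mul (mk3 a' b' d').2) (mk3 _ _ _).2 ?_ ?_ ?_) <;>
    rw [Subgroup.coe_mul]
  · rw [ent_mul_01 (mk3 a b d).2 (mk3 a' b' d').2, mk3_01, mk3_01, mk3_01]
  · rw [ent_mul_12 (mk3 a b d).2 (mk3 a' b' d').2, mk3_12, mk3_12, mk3_12]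
  · rw [ent_mul_02 (mk3 a b d).2 (mk3 a' b' d').2, mk3_02, mk3_02, mk3_02, mk3_01, mk3_12]

theorem mk3_zero : mk3 (0 : F) 0 0 = 1 := by
  refine Subtype.ext (uni_ext (mk3 _ _ _).2 isUni_one ?_ ?_ ?_)
  · rw [mk3_01]; simp [ent]
  · rw [mk3_12]; simp [ent]
  · rw [mk3_02]; simp [ent]

theorem mk3_surj (A : ↥(unip F 3)) : A = mk3 (ent A.1 0 1) (ent A.1 1 2) (ent A.1 0 2) :=
  Subtype.ext (uni_ext A.2 (mk3 _ _ _).2 (mk3_01 _ _ _).symm (mk3_12 _ _ _).symm (mk3_02 _ _ _).symm)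

theorem card_unip_three : Nat.card ↥(unip F 3) = Nat.card F ^ 3 := by
  rw [Nat.card_congr (β := F × F × F)
    { toFun := fun A => (ent A.1 0 1, ent A.1 1 2, ent A.1 0 2)
      invFun := fun p => mk3 p.1 p.2.1 p.2.2
      left_inv := fun A => (mk3_surj A).symm
      right_inv := fun p => by simp [mk3_01, mk3_12, mk3_02] }, Nat.card_prod, Nat.card_prod]
  ring

theorem linear_pres (hF : Fintype.card F = 4) : Nonempty (Pres linearShape ↥(unip F 3)) := by
  obtain ⟨ω, hω0, hω1⟩ : ∃ ω : F, ω ≠ 0 ∧ ω ≠ 1 := by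
    by_contra hno
    push Not at hno
    have : (Finset.univ : Finset F) ⊆ {0, 1} := fun a _ => by
      simp only [Finset.mem_insert, Finset.mem_singleton]
      exact or_iff_not_imp_left.mpr (hno a)
    have h1 := (Finset.card_le_card this).trans Finset.card_le_two
    rw [Finset.card_univ, hF] at h1; omega
  have h3 : ω ^ 3 = 1 := by
    have h := FiniteField.pow_card_sub_one_eq_one ω hω0
    rwa [hF] at h
  have hω2 : ω * ω = 1 + ω := by
    have h1 : (ω - 1) * (ω * ω + ω + 1) = 0 := by linear_combination h3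
    have h2 := (mul_eq_zero.mp h1).resolve_left (sub_ne_zero.mpr hω1)
    linear_combination h2 - (1 + ω) * CharTwo.two_eq_zero (R := F)
  have h01 : (1 : F) + ω ≠ 0 := fun e => hω1 (CharTwo.add_eq_zero.mp e).symm
  have h01' : (1 : F) + ω ≠ 1 := fun e => hω0 (add_eq_left.mp e)
  have h01'' : (1 : F) + ω ≠ ω := fun e => one_ne_zero (add_eq_right.mp e)
  have hall : ∀ a : F, a = 0 ∨ a = 1 ∨ a = ω ∨ a = 1 + ω := by
    intro a
    have huniv : ({0, 1, ω, 1 + ω} : Finset F) = Finset.univ := Finset.eq_univ_of_card _ (by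
      rw [hF]
      simp [Finset.card_insert_of_notMem, hω0.symm, hω1.symm, h01.symm, h01'.symm, h01''.symm])
    have h := Finset.mem_univ a
    rw [← huniv] at h
    simpa using h
  have hc : ∀ (a b d : F) (g : ↥(unip F 3)), a = 0 → b = 0 → g * mk3 a b d = mk3 a b d * g := by
    intro a b d g ha hb
    subst ha; subst hb
    rw [mk3_surj g, mk3_mul, mk3_mul]
    congr 1 <;> ring
  refine ⟨⟨![mk3 1 0 0, mk3 ω 0 0, mk3 0 1 0, mk3 0 ω 0], mk3 0 0 1, mk3 0 0 ω,
    fun g => hc _ _ _ g rfl rfl, fun g => hc _ _ _ g rfl rfl, ?_, ?_, ?_, ?_, ?_, ?_⟩⟩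
  · rw [mk3_mul]; simp [CharTwo.add_self_eq_zero, mk3_zero]
  · rw [mk3_mul]; simp [CharTwo.add_self_eq_zero, mk3_zero]
  · intro i
    fin_cases i <;> simp [linearShape, pw, mk3_mul, CharTwo.add_self_eq_zero, mk3_zero]
  · intro i j hij
    fin_cases i <;> fin_cases j <;>
      simp [linearShape, pw, mk3_mul, CharTwo.add_self_eq_zero, mk3_zero, hω2, add_comm] at hij ⊢
  · set K := Subgroup.closure (Set.range ![mk3 1 0 0, mk3 ω 0 0, mk3 0 1 0, mk3 0 ω 0] ∪
      {mk3 (0 : F) 0 1, mk3 0 0 ω})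
    have hgen : ∀ i, ![mk3 1 0 0, mk3 ω 0 0, mk3 0 1 0, mk3 0 ω 0] i ∈ K :=
      fun i => Subgroup.subset_closure (Or.inl ⟨i, rfl⟩)
    have key : ∀ f : F → ↥(unip F 3), f 0 = 1 → (∀ a b, f (a + b) = f a * f b) → f 1 ∈ K → f ω ∈ K →
        ∀ a, f a ∈ K := by
      intro f f0 fadd f1 fω a
      rcases hall a with rfl | rfl | rfl | rfl
      · rw [f0]; exact one_mem K
      · exact f1
      · exact fω
      · rw [fadd]; exact mul_mem f1 fω
    refine eq_top_iff.mpr fun A _ => ?_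
    have hA : A = mk3 0 0 (ent A.1 0 2) * (mk3 0 (ent A.1 1 2) 0 * mk3 (ent A.1 0 1) 0 0) := by
      rw [mk3_mul, mk3_mul]
      conv_lhs => rw [mk3_surj A]
      congr 1 <;> ring
    rw [hA]
    refine mul_mem ?_ (mul_mem ?_ ?_)
    · exact key (fun a => mk3 0 0 a) mk3_zero (fun a b => by rw [mk3_mul]; congr 1 <;> ring)
        (Subgroup.subset_closure (Or.inr (Or.inl rfl))) (Subgroup.subset_closure (Or.inr (Or.inr rfl))) _
    · exact key (fun a => mk3 0 a 0) mk3_zero (fun a b => by rw [mk3_mul]; congr 1 <;> ring)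
        (hgen 2) (hgen 3) _
    · exact key (fun a => mk3 a 0 0) mk3_zero (fun a b => by rw [mk3_mul]; congr 1 <;> ring)
        (hgen 0) (hgen 1) _
  · rw [card_unip_three, Nat.card_eq_fintype_card, hF]; norm_num

/-- Sylow 2-subgroups of `PSL(3, 2ⁿ)` are the unitriangular group. -/
theorem sylow_psl (P : Sylow 2 (Matrix.ProjectiveSpecialLinearGroup (Fin 3) F)) :
    Nonempty (↥(unip F 3) ≃* ↥(P : Subgroup (Matrix.ProjectiveSpecialLinearGroup (Fin 3) F))) := by
  haveI : Fact (Nat.Prime 2) := ⟨Nat.prime_two⟩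
  let π : Matrix.SpecialLinearGroup (Fin 3) F →* Matrix.ProjectiveSpecialLinearGroup (Fin 3) F :=
    QuotientGroup.mk' (Subgroup.center (Matrix.SpecialLinearGroup (Fin 3) F))
  have hπ : Function.Surjective π := QuotientGroup.mk'_surjective _
  have hker : ∀ A, π A = 1 ↔ A ∈ Subgroup.center (Matrix.SpecialLinearGroup (Fin 3) F) :=
    fun A => QuotientGroup.eq_one_iff A
  obtain ⟨P', hP'⟩ := ((isPGroup_unip (K := F) (p := 2) (n := 3)).map π).exists_le_sylow
  have heq := eq_map_unip (p := 2) hker hπ P' hP'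
  have hinj : Function.Injective (π.subgroupMap (unip F 3)) := fun a b e =>
    Subtype.ext (eq_of_map_eq_unip (p := 2) hker b.2 (IsUni.exists_pow_eq_one (p := 2) a.2)
      (congrArg Subtype.val e))
  exact ⟨((MulEquiv.ofBijective _ ⟨hinj, π.subgroupMap_surjective _⟩).trans
    (MulEquiv.subgroupCongr heq)).trans (P'.equiv P)⟩

end Cfsg.Agent.Invol.SixtyFour
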