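import Mathlib

/-!
# Groups of order 64 with a four-group `Z` of central squares and commutators

Such a group is determined by the squares and commutators of four elements generating it modulo `Z`.
-/

set_option autoImplicit false

namespace Cfsg.Agent.Invol.SixtyFour

/-- Squares `s i` and commutators `c i j` (`i < j`) in coordinates. -/
structure Shape where
  s : Fin 4 → Bool × Bool
  c : Fin 4 → Fin 4 → Bool × Bool

/-- Optional element. -/
def pw {G : Type*} [Group G] (g : G) (e : Bool) : G := if e then g else 1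

/-- Four generators modulo a central four-group realising a shape. -/
structure Pres (S : Shape) (T : Type*) [Group T] where
  x : Fin 4 → T
  z : T
  w : T
  zc : ∀ g : T, g * z = z * g
  wc : ∀ g : T, g * w = w * g
  z2 : z * z = 1
  w2 : w * w = 1
  sq : ∀ i, x i * x i = pw z (S.s i).1 * pw w (S.s i).2
  cm : ∀ i j, i < j → x j * x i = x i * x j * (pw z (S.c i j).1 * pw w (S.c i j).2)
  gen : Subgroup.closure (Set.range x ∪ {z, w}) = ⊤
  card : Nat.card T = 64

/-- Normal forms. -/
abbrev NF := (Fin 4 → Bool) × (Bool × Bool)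

/-- Componentwise sum. -/
def add2 (p q : Bool × Bool) : Bool × Bool := (p.1 ^^ q.1, p.2 ^^ q.2)

/-- `q` if `e`. -/
def on2 (e : Bool) (q : Bool × Bool) : Bool × Bool := (e && q.1, e && q.2)

namespace Pres

variable {S : Shape} {T : Type*} [Group T] (P : Pres S T)

/-- An element of the central part. -/
def zz (f : Bool × Bool) : T := pw P.z f.1 * pw P.w f.2

theorem zz_comm (f : Bool × Bool) (g : T) : g * P.zz f = P.zz f * g := by
  obtain ⟨a, b⟩ := f
  have hz := P.zc
  have hw := P.wc
  cases a <;> cases b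
  · simp [zz, pw]
  · simpa [zz, pw] using hw g
  · simpa [zz, pw] using hz g
  · show g * (P.z * P.w) = P.z * P.w * g
    rw [← mul_assoc, hz g, mul_assoc, hw g, ← mul_assoc]

theorem zz_mul (f g : Bool × Bool) : P.zz f * P.zz g = P.zz (add2 f g) := by
  obtain ⟨a, b⟩ := f
  obtain ⟨c, d⟩ := g
  have hz2 := P.z2
  have hw2 := P.w2
  have hwz : P.w * P.z = P.z * P.w := P.zc P.w
  have h3 : P.z * (P.z * P.w) = P.w := by rw [← mul_assoc, hz2, one_mul]
  have h4 : P.w * (P.z * P.w) = P.z := by rw [← mul_assoc, hwz, mul_assoc, hw2, mul_one]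
  cases a <;> cases b <;> cases c <;> cases d <;>
    simp [zz, pw, add2, hz2, hw2, hwz, h3, h4, mul_assoc]

theorem zz_zero : P.zz (false, false) = 1 := by simp [zz, pw]

theorem pw_swap {i j : Fin 4} (h : j < i) (e : Bool) :
    pw (P.x i) e * P.x j = P.x j * pw (P.x i) e * P.zz (on2 e (S.c j i)) := by
  cases e
  · simp [pw, on2, zz]
  · simpa [pw, on2, zz] using P.cm j i h

theorem pw_self (i : Fin 4) (e : Bool) :
    pw (P.x i) e * P.x i = pw (P.x i) (!e) * P.zz (on2 e (S.s i)) := by
  cases e
  · simp [pw, on2, zz]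
  · simpa [pw, on2, zz] using P.sq i

/-- The word of a normal form. -/
def el (p : NF) : T :=
  pw (P.x 0) (p.1 0) * pw (P.x 1) (p.1 1) * pw (P.x 2) (p.1 2) * pw (P.x 3) (p.1 3) * P.zz p.2

theorem pull (A B : T) (f : Bool × Bool) : A * P.zz f * B = A * B * P.zz f := by
  rw [mul_assoc, ← P.zz_comm, ← mul_assoc]

theorem pullpw (A : T) (f : Bool × Bool) (g : T) (e : Bool) :
    A * P.zz f * pw g e = A * pw g e * P.zz f := P.pull A _ f

theorem zz_right (A : T) (f g : Bool × Bool) : A * P.zz f * P.zz g = A * P.zz (add2 f g) := by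
  rw [mul_assoc, zz_mul]

theorem el_zero : P.el (fun _ => false, (false, false)) = 1 := by simp [el, zz, pw]

end Pres

/-- The generators. -/
def gens {S : Shape} {T : Type*} [Group T] (P : Pres S T) : Fin 4 ⊕ Bool → T
  | .inl i => P.x i
  | .inr true => P.z
  | .inr false => P.w

/-- Right multiplication by a generator on normal forms. -/
def act (S : Shape) : Fin 4 ⊕ Bool → NF → NF
  | .inr true, p => (p.1, add2 p.2 (true, false))
  | .inr false, p => (p.1, add2 p.2 (false, true))
  | .inl 0, p => (Function.update p.1 0 (!p.1 0), add2 p.2 (add2 (on2 (p.1 3) (S.c 0 3))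
      (add2 (on2 (p.1 2) (S.c 0 2)) (add2 (on2 (p.1 1) (S.c 0 1)) (on2 (p.1 0) (S.s 0))))))
  | .inl 1, p => (Function.update p.1 1 (!p.1 1), add2 p.2 (add2 (on2 (p.1 3) (S.c 1 3))
      (add2 (on2 (p.1 2) (S.c 1 2)) (on2 (p.1 1) (S.s 1)))))
  | .inl 2, p => (Function.update p.1 2 (!p.1 2), add2 p.2 (add2 (on2 (p.1 3) (S.c 2 3))
      (on2 (p.1 2) (S.s 2))))
  | .inl 3, p => (Function.update p.1 3 (!p.1 3), add2 p.2 (on2 (p.1 3) (S.s 3)))

theorem add2_assoc (a b c : Bool × Bool) : add2 (add2 a b) c = add2 a (add2 b c) := by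
  simp [add2, Bool.xor_assoc]

theorem add2_comm (a b : Bool × Bool) : add2 a b = add2 b a := by simp [add2, Bool.xor_comm]

namespace Pres

variable {S : Shape} {T : Type*} [Group T] (P : Pres S T)

theorem act_spec (k : Fin 4 ⊕ Bool) (p : NF) : P.el p * gens P k = P.el (act S k p) := by
  rcases k with i | b
  · unfold el
    rw [P.pull]
    fin_cases i
    · show _ * P.x 0 * _ = _
      rw [mul_assoc _ (pw (P.x 3) _) (P.x 0), P.pw_swap (by decide)]
      simp only [← mul_assoc]
      rw [mul_assoc _ (pw (P.x 2) _) (P.x 0), P.pw_swap (by decide)]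
      simp only [← mul_assoc]
      rw [mul_assoc _ (pw (P.x 1) _) (P.x 0), P.pw_swap (by decide)]
      simp only [← mul_assoc]
      rw [P.pw_self]
      simp only [P.pullpw, P.zz_right, act]
      simp [Function.update, add2, Bool.xor_assoc, Bool.xor_comm, Bool.xor_left_comm]
    · show _ * P.x 1 * _ = _
      rw [mul_assoc _ (pw (P.x 3) _) (P.x 1), P.pw_swap (by decide)]
      simp only [← mul_assoc]
      rw [mul_assoc _ (pw (P.x 2) _) (P.x 1), P.pw_swap (by decide)]
      simp only [← mul_assoc]
      rw [mul_assoc _ (pw (P.x 1) _) (P.x 1), P.pw_self]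
      simp only [← mul_assoc]
      simp only [P.pullpw, P.zz_right, act]
      simp [Function.update, add2, Bool.xor_assoc, Bool.xor_comm, Bool.xor_left_comm]
    · show _ * P.x 2 * _ = _
      rw [mul_assoc _ (pw (P.x 3) _) (P.x 2), P.pw_swap (by decide)]
      simp only [← mul_assoc]
      rw [mul_assoc _ (pw (P.x 2) _) (P.x 2), P.pw_self]
      simp only [← mul_assoc]
      simp only [P.pullpw, P.zz_right, act]
      simp [Function.update, add2, Bool.xor_assoc, Bool.xor_comm, Bool.xor_left_comm]
    · show _ * P.x 3 * _ = _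
      rw [mul_assoc _ (pw (P.x 3) _) (P.x 3), P.pw_self]
      simp only [← mul_assoc]
      simp only [P.pullpw, P.zz_right, act]
      simp [Function.update, add2, Bool.xor_assoc, Bool.xor_comm, Bool.xor_left_comm]
  · unfold el
    cases b
    · show _ * P.w = _
      rw [show P.w = P.zz (false, true) by simp [zz, pw], P.zz_right]; rfl
    · show _ * P.z = _
      rw [show P.z = P.zz (true, false) by simp [zz, pw], P.zz_right]; rfl

theorem closure_gens : Subgroup.closure (Set.range (gens P)) = ⊤ := by
  rw [eq_top_iff, ← P.gen]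
  refine Subgroup.closure_mono ?_
  rintro g (⟨i, rfl⟩ | rfl | rfl)
  · exact ⟨.inl i, rfl⟩
  · exact ⟨.inr true, rfl⟩
  · exact ⟨.inr false, rfl⟩

theorem reach [Finite T] (y : T) : ∀ p : NF, ∃ q, P.el p * y = P.el q := by
  have hy : y ∈ Subgroup.closure (Set.range (gens P)) := P.closure_gens ▸ Subgroup.mem_top y
  induction hy using Subgroup.closure_induction with
  | mem g hg => obtain ⟨k, rfl⟩ := hg; exact fun p => ⟨_, P.act_spec k p⟩
  | one => exact fun p => ⟨p, mul_one _⟩
  | mul a b _ _ ha hb =>
    intro p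
    obtain ⟨q, hq⟩ := ha p
    obtain ⟨r, hr⟩ := hb q
    exact ⟨r, by rw [← mul_assoc, hq, hr]⟩
  | inv a _ ha =>
    intro p
    have hpow : ∀ n : ℕ, ∀ p, ∃ q, P.el p * a ^ n = P.el q := by
      intro n
      induction n with
      | zero => exact fun p => ⟨p, by simp⟩
      | succ n ih =>
        intro p
        obtain ⟨q, hq⟩ := ih p
        obtain ⟨r, hr⟩ := ha q
        exact ⟨r, by rw [pow_succ, ← mul_assoc, hq, hr]⟩
    have hinv : a⁻¹ = a ^ (orderOf a - 1) := by
      refine inv_eq_of_mul_eq_one_right ?_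
      rw [← pow_succ', Nat.sub_add_cancel (orderOf_pos a), pow_orderOf_eq_one]
    rw [hinv]; exact hpow _ p

theorem el_bijective [Finite T] : Function.Bijective P.el := by
  have hsurj : Function.Surjective P.el := fun y => by
    obtain ⟨q, hq⟩ := P.reach y (fun _ => false, (false, false))
    exact ⟨q, by rw [← hq, P.el_zero, one_mul]⟩
  refine (Function.Surjective.bijective_of_nat_card_le hsurj ?_)
  rw [P.card]; simp [Nat.card_eq_fintype_card, NF]

include P in
/-- Two groups with presentations of the same shape are isomorphic. -/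
theorem nonempty_mulEquiv {U : Type*} [Group U] [Finite T] [Finite U] (Q : Pres S U) :
    Nonempty (T ≃* U) := by
  let e : T ≃ U := (Equiv.ofBijective _ P.el_bijective).symm.trans (Equiv.ofBijective _ Q.el_bijective)
  have he : ∀ p, e (P.el p) = Q.el p := fun p => by
    show Q.el ((Equiv.ofBijective _ P.el_bijective).symm (P.el p)) = _
    rw [show P.el p = Equiv.ofBijective _ P.el_bijective p from rfl, Equiv.symm_apply_apply]
  have he1 : e 1 = 1 := by rw [← P.el_zero, he, Q.el_zero]
  have key : ∀ y : T, ∀ x : T, e (x * y) = e x * e y := by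
    intro y
    have hy : y ∈ Subgroup.closure (Set.range (gens P)) := P.closure_gens ▸ Subgroup.mem_top y
    induction hy using Subgroup.closure_induction with
    | mem g hg =>
      obtain ⟨k, rfl⟩ := hg
      have hk : e (gens P k) = gens Q k := by
        have h1 := congrArg e (P.act_spec k (fun _ => false, (false, false)))
        rw [P.el_zero, one_mul, he, ← Q.act_spec, Q.el_zero, one_mul] at h1
        exact h1
      intro x
      obtain ⟨p, rfl⟩ := P.el_bijective.2 x
      rw [P.act_spec, he, he, hk, Q.act_spec]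
    | one => intro x; rw [mul_one, he1, mul_one]
    | mul a b _ _ ha hb => intro x; rw [← mul_assoc, hb, ha, hb a, mul_assoc]
    | inv a _ ha =>
      intro x
      have h1 := ha (x * a⁻¹)
      rw [inv_mul_cancel_right] at h1
      have h2 := ha a⁻¹
      rw [inv_mul_cancel, he1] at h2
      rw [eq_mul_inv_of_mul_eq h1.symm, eq_inv_of_mul_eq_one_left h2.symm]
  exact ⟨{ e with map_mul' := fun x y => key y x }⟩

end Pres

end Cfsg.Agent.Invol.SixtyFour
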