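import Cfsg.Agent.Lib.Invol.SixtyFourThree
import Cfsg.Agent.Lib.Invol.SixtyFourLinear
import Cfsg.Agent.Lib.Invol.RotHomocyclic

/-!
# 2-groups with commuting automorphisms of orders two and three, the involution fixing a central four-group

The group is elementary of order 16, homocyclic of rank two, or of order 64 of unitary or linear shape.
-/

set_option autoImplicit false

namespace Cfsg.Agent.Invol.SixtyFour

open FpfThree

/-- An involutive permutation of a finite set of even size fixing a point fixes another one. -/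
theorem exists_second_fixed {Q : Type*} [Finite Q] (f : Q → Q) (hf : ∀ q, f (f q) = q) (heven : 2 ∣ Nat.card Q)
    (o : Q) (ho : f o = o) : ∃ q, q ≠ o ∧ f q = q := by
  classical
  haveI := Fintype.ofFinite Q
  haveI : Fact (Nat.Prime 2) := ⟨Nat.prime_two⟩
  by_contra hno
  push Not at hno
  let p : Equiv.Perm Q := ⟨f, f, hf, hf⟩
  have hp : p ^ 2 ^ 1 = 1 := by
    rw [pow_one, pow_two]; exact Equiv.ext hf
  have h := Equiv.Perm.card_compl_support_modEq (p := 2) (n := 1) (σ := p) hp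
  have hs : p.supportᶜ = {o} := by
    ext q
    simp only [Finset.mem_compl, Equiv.Perm.mem_support, not_not, Finset.mem_singleton]
    exact ⟨fun hq => by_contra fun hne => hno q hne hq, fun hq => hq ▸ ho⟩
  rw [hs, Finset.card_singleton, ← Nat.card_eq_fintype_card, Nat.ModEq] at h
  omega

/-- The hypotheses. -/
structure Data {T : Type*} [Group T] (ψ τ : MulAut T) (V : Subgroup T) : Prop where
  pgroup : IsPGroup 2 T
  invol : ∀ x, τ (τ x) = x
  comm : ∀ x, ψ (τ x) = τ (ψ x)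
  fixed : ∀ x, τ x = x ↔ x ∈ V
  vc : V ≤ Subgroup.center T
  rot : NoSCN.Rot ψ V
  v4 : Nat.card V = 4
  three : ∀ x, ψ (ψ (ψ x)) = x

namespace Data

variable {T : Type*} [Group T] {ψ τ : MulAut T} {V : Subgroup T} (h : Data ψ τ V)
include h

/-- `δ x`. -/
theorem delta_inv (x : T) : τ (x⁻¹ * τ x) = (x⁻¹ * τ x)⁻¹ := by
  rw [map_mul, map_inv, h.invol, mul_inv_rev, inv_inv]

theorem delta_eq_one {x : T} : x⁻¹ * τ x = 1 ↔ x ∈ V := by
  rw [inv_mul_eq_one, eq_comm, h.fixed]

omit h in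
theorem delta_mul {x y : T} (hx : x⁻¹ * τ x ∈ Subgroup.center T) :
    (x * y)⁻¹ * τ (x * y) = (x⁻¹ * τ x) * (y⁻¹ * τ y) := by
  calc (x * y)⁻¹ * τ (x * y) = y⁻¹ * (x⁻¹ * τ x) * τ y := by rw [map_mul]; group
    _ = _ := by rw [Subgroup.mem_center_iff.mp hx y⁻¹]; group

theorem delta_psi (x : T) : (ψ x)⁻¹ * τ (ψ x) = ψ (x⁻¹ * τ x) := by
  rw [map_mul, map_inv, h.comm]

/-- A nontrivial value of `δ` in `V` gives all of them. -/
theorem delta_cover {A : Subgroup T} (hA : ∀ a ∈ A, ψ a ∈ A) {a : T} (ha : a ∈ A)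
    (hav : a⁻¹ * τ a ∈ V) (ha1 : a⁻¹ * τ a ≠ 1) {v : T} (hv : v ∈ V) :
    ∃ b ∈ A, b⁻¹ * τ b = v ∧ (b = 1 ∨ b = a ∨ b = ψ a ∨ b = ψ (ψ a)) := by
  rcases h.rot.all _ hav ha1 v hv with e | e | e | e
  · exact ⟨1, one_mem A, by rw [e]; simp, Or.inl rfl⟩
  · exact ⟨a, ha, e.symm, Or.inr (Or.inl rfl)⟩
  · exact ⟨ψ a, hA _ ha, by rw [e, h.delta_psi], Or.inr (Or.inr (Or.inl rfl))⟩
  · exact ⟨ψ (ψ a), hA _ (hA _ ha), by rw [e, h.delta_psi, h.delta_psi], Or.inr (Or.inr (Or.inr rfl))⟩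

theorem fpf [Finite T] : Fpf ψ := by
  refine ⟨h.three, fun x hx => ?_⟩
  by_contra hx1
  let C : Subgroup T :=
    { carrier := {t | ψ t = t}
      one_mem' := map_one ψ
      mul_mem' := fun {a b} ha hb => by
        show ψ (a * b) = a * b
        rw [map_mul, show ψ a = a from ha, show ψ b = b from hb]
      inv_mem' := fun {a} ha => by
        show ψ a⁻¹ = a⁻¹
        rw [map_inv, show ψ a = a from ha] }
  have hCτ : ∀ c : C, τ c ∈ C := fun c => by
    show ψ (τ c) = τ c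
    rw [h.comm, show ψ (c : T) = c from c.2]
  haveI : Nontrivial C := ⟨⟨⟨x, hx⟩, 1, fun e => hx1 (congrArg Subtype.val e)⟩⟩
  obtain ⟨q, hq1, hqf⟩ := exists_second_fixed (fun c : C => (⟨τ c, hCτ c⟩ : C))
    (fun c => Subtype.ext (h.invol c)) (by
      obtain ⟨j, hj⟩ := IsPGroup.iff_card.mp (h.pgroup.to_subgroup C)
      rw [hj]
      refine dvd_pow_self 2 fun e => ?_
      have := Finite.one_lt_card (α := C)
      rw [hj, e, pow_zero] at this
      omega) 1 (Subtype.ext (map_one τ))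
  refine hq1 (Subtype.ext (h.rot.ne q ?_ q.2))
  exact (h.fixed _).mp (congrArg Subtype.val hqf)

theorem comm_center [Finite T] (a b : T) : c a b ∈ Subgroup.center T := h.fpf.comm_center h.pgroup a b

/-- An invariant abelian subgroup with an involution outside `V` is elementary. -/
theorem elementary [Finite T] {Z : Subgroup T} (hZc : ∀ a ∈ Z, ∀ b ∈ Z, a * b = b * a)
    (hψ : ∀ a ∈ Z, ψ a ∈ Z) (hτ : ∀ a ∈ Z, τ a ∈ Z) {u : T} (hu : u ∈ Z) (hu2 : u * u = 1)
    (huV : u ∉ V) : ∀ z ∈ Z, z * z = 1 := by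
  suffices key : ∀ j : ℕ, ∀ z ∈ Z, z ^ 2 ^ j = 1 → z * z = 1 from fun z hz => by
    obtain ⟨j, hj⟩ := h.pgroup z; exact key j z hz hj
  intro j
  induction j with
  | zero => intro z _ hj; simp only [pow_zero, pow_one] at hj; rw [hj, mul_one]
  | succ j ih =>
    intro z hz hj
    have hs2 := ih (z * z) (mul_mem hz hz) (by rw [← pow_two, ← pow_mul, ← pow_succ']; exact hj)
    set a := z * τ z
    have haV : a ∈ V := (h.fixed _).mp (by rw [map_mul, h.invol, hZc _ (hτ z hz) z hz])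
    have hsV : z * z ∈ V := by
      refine (h.fixed _).mp ?_
      have h1 : z * z * τ (z * z) = 1 := by
        rw [map_mul, show z * z * (τ z * τ z) = z * (z * τ z) * τ z by group,
          hZc z hz a (mul_mem hz (hτ z hz)), mul_assoc]
        exact h.rot.sq a haV
      exact (eq_inv_of_mul_eq_one_right h1).trans (inv_eq_of_mul_eq_one_right hs2)
    have hdu : u⁻¹ * τ u ∈ V := by
      refine (h.fixed _).mp ?_
      rw [h.delta_inv, inv_eq_iff_mul_eq_one,
        show u⁻¹ * τ u * (u⁻¹ * τ u) = u⁻¹ * (τ u * u⁻¹) * τ u by group,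
        hZc _ (hτ u hu) _ (inv_mem hu), show u⁻¹ * (u⁻¹ * τ u) * τ u = (u * u)⁻¹ * (τ u * τ u) by group,
        hu2, ← map_mul, hu2, map_one, inv_one, one_mul]
    have hdz : z⁻¹ * τ z = (z * z)⁻¹ * a := by simp only [a]; group
    obtain ⟨w, hw, hwv, hwc⟩ := h.delta_cover hψ hu hdu (fun e => huV (h.delta_eq_one.mp e))
      (mul_mem (inv_mem hsV) haV)
    have hw2 : w * w = 1 := by
      rcases hwc with e | e | e | e <;> rw [e]
      · exact one_mul 1
      · exact hu2
      · rw [← map_mul, hu2, map_one]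
      · rw [← map_mul, ← map_mul, hu2, map_one, map_one]
    have hzw : z * w ∈ V := h.delta_eq_one.mp (by
      rw [delta_mul (h.vc (by rw [hdz]; exact mul_mem (inv_mem hsV) haV)), hwv, hdz]
      exact h.rot.sq _ (mul_mem (inv_mem hsV) haV))
    have h1 := h.rot.sq _ hzw
    rwa [show z * w * (z * w) = z * (w * z) * w by group, hZc w hw z hz,
      show z * (z * w) * w = z * z * (w * w) by group, hw2, mul_one] at h1

theorem psi_center {a : T} (ha : a ∈ Subgroup.center T) : ψ a ∈ Subgroup.center T ∧ τ a ∈ Subgroup.center T := by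
  constructor <;> refine Subgroup.mem_center_iff.mpr fun g => ?_
  · obtain ⟨g, rfl⟩ := ψ.surjective g; rw [← map_mul, ← map_mul, Subgroup.mem_center_iff.mp ha g]
  · obtain ⟨g, rfl⟩ := τ.surjective g; rw [← map_mul, ← map_mul, Subgroup.mem_center_iff.mp ha g]

/-- With an involution outside `V` a nonabelian `T` has centre `V`. -/
theorem center_eq [Finite T] (hna : ¬ IsMulCommutative T) {u : T} (hu2 : u * u = 1) (huV : u ∉ V) :
    Subgroup.center T = V := by
  classical
  refine le_antisymm ?_ h.vc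
  by_contra hle
  obtain ⟨z₀, hz₀, hz₀V⟩ := SetLike.not_le_iff_exists.mp hle
  set Z := Subgroup.center T
  have hZc : ∀ a ∈ Z, ∀ b ∈ Z, a * b = b * a := fun a ha b _ => (Subgroup.mem_center_iff.mp ha b).symm
  have hpow : ∀ i : ℕ, (z₀ ^ i)⁻¹ * τ (z₀ ^ i) = (z₀⁻¹ * τ z₀) ^ i := by
    intro i
    induction i with
    | zero => simp
    | succ i ih =>
      rw [pow_succ', delta_mul (mul_mem (inv_mem hz₀) (h.psi_center hz₀).2), ih, pow_succ']
  -- some `z` in the centre has `δ z` a nontrivial element of `V`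
  obtain ⟨z, hz, hzV, hz1⟩ : ∃ z ∈ Z, z⁻¹ * τ z ∈ V ∧ z⁻¹ * τ z ≠ 1 := by
    set g := z₀⁻¹ * τ z₀
    have hg1 : g ≠ 1 := fun e => hz₀V (h.delta_eq_one.mp e)
    obtain ⟨j, hj⟩ := h.pgroup g
    have hex : ∃ i, g ^ 2 ^ i = 1 := ⟨j, hj⟩
    have h0 : Nat.find hex ≠ 0 := fun e => hg1 (by
      have := Nat.find_spec hex; rwa [e, pow_zero, pow_one] at this)
    refine ⟨z₀ ^ 2 ^ (Nat.find hex - 1), pow_mem hz₀ _, ?_, ?_⟩
    · refine (h.fixed _).mp ?_
      rw [h.delta_inv, hpow, inv_eq_iff_mul_eq_one, ← pow_two, ← pow_mul, ← pow_succ,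
        Nat.sub_add_cancel (Nat.one_le_iff_ne_zero.mpr h0)]
      exact Nat.find_spec hex
    · rw [hpow]
      exact Nat.find_min hex (by omega)
  have hstar : ∀ x : T, x⁻¹ * τ x ∈ V → x ∈ Z := by
    intro x hx
    obtain ⟨b, hb, hbv, -⟩ := h.delta_cover (A := Z) (fun a ha => (h.psi_center ha).1) hz hzV hz1 hx
    have h1 : x * b ∈ V := h.delta_eq_one.mp (by
      rw [delta_mul (h.vc hx), hbv]; exact h.rot.sq _ hx)
    exact (Subgroup.mul_mem_cancel_right Z hb).mp (h.vc h1)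
  -- no central involution lies outside `V`
  have homega : ∀ w ∈ Z, w * w = 1 → w ∈ V := by
    intro w hw hw2
    by_contra hwV
    have hel := h.elementary hZc (fun a ha => (h.psi_center ha).1) (fun a ha => (h.psi_center ha).2) hw hw2 hwV
    have hne : Z ≠ ⊤ := fun e => hna ⟨⟨fun a b =>
      (Subgroup.mem_center_iff.mp (show a ∈ Z from e ▸ Subgroup.mem_top a) b).symm⟩⟩
    have hmap : Z ≤ Z.comap τ.toMonoidHom := fun a ha => (h.psi_center ha).2
    obtain ⟨q, hq1, hqf⟩ := exists_second_fixed (fun q : T ⧸ Z => QuotientGroup.map Z Z τ.toMonoidHom hmap q)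
      (fun q => by
        obtain ⟨y, rfl⟩ := QuotientGroup.mk_surjective q
        simp [QuotientGroup.map_mk, h.invol]) (by
        obtain ⟨i, hi⟩ := h.pgroup.index Z
        rw [← Subgroup.index_eq_card, hi]
        refine dvd_pow_self 2 fun e => ?_
        rw [e, pow_zero, Subgroup.index_eq_one] at hi
        exact hne hi) 1 (map_one _)
    obtain ⟨y, rfl⟩ := QuotientGroup.mk_surjective q
    have hy : y⁻¹ * τ y ∈ Z := by
      rw [QuotientGroup.map_mk] at hqf
      exact (QuotientGroup.eq.mp hqf.symm)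
    refine hq1 ((QuotientGroup.eq_one_iff y).mpr (hstar y ((h.fixed _).mp ?_)))
    rw [h.delta_inv]
    exact inv_eq_of_mul_eq_one_right (hel _ hy)
  have huZ : u ∉ Z := fun hm => huV (homega u hm hu2)
  set x := u⁻¹ * τ u with hx
  have hui : u⁻¹ = u := inv_eq_of_mul_eq_one_right hu2
  have hwi : (τ u)⁻¹ = τ u := inv_eq_of_mul_eq_one_right (by rw [← map_mul, hu2, map_one])
  have hxx : x * x = c u (τ u) := by
    simp only [hx, c, hui, hwi]; group
  have hcc := h.comm_center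
  have hxxV : x * x ∈ V := by
    refine homega _ (hxx ▸ hcc u (τ u)) ?_
    rw [hxx, ← c_mul_left hcc, hu2, c_center_left (one_mem _)]
  have hxZ : x ∈ Z := hstar x (by
    rw [h.delta_inv, ← mul_inv_rev]; exact inv_mem hxxV)
  refine huZ (hstar u (homega x hxZ ?_))
  have h1 : u * x * (u * x) = 1 := by
    rw [hx, mul_inv_cancel_left, ← map_mul, hu2, map_one]
  rwa [show u * x * (u * x) = u * (x * u) * x by group, ← Subgroup.mem_center_iff.mp hxZ u,
    show u * (u * x) * x = u * u * (x * x) by group, hu2, one_mul] at h1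

/-- With an involution outside `V` a nonabelian `T` has the linear shape. -/
theorem linear [Finite T] (hna : ¬ IsMulCommutative T) {u : T} (hu2 : u * u = 1) (huV : u ∉ V) :
    Nonempty (Pres linearShape T) := by
  classical
  have hZ := h.center_eq hna hu2 huV
  have hf := h.fpf
  have hcc := h.comm_center
  have hcV : ∀ a b : T, c a b ∈ V := fun a b => hZ ▸ hcc a b
  have hsq : ∀ x : T, x * x ∈ Subgroup.center T := fun x => Subgroup.mem_center_iff.mpr fun g =>
    ((c_eq_one.mp (by rw [c_mul_left hcc]; exact h.rot.sq _ (hcV x g))) : x * x * g = g * (x * x)).symm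
  have hsqV : ∀ x : T, x * x ∈ V := fun x => hZ ▸ hsq x
  haveI := normal_of_comm (A := V) hcV
  have hquad : ∀ b g, g ∈ Subgroup.center T ⊔ Subgroup.zpowers b ⊔ Subgroup.zpowers (ψ b) →
      ∃ v ∈ V, g = v ∨ g = v * b ∨ g = v * ψ b ∨ g = v * (b * ψ b) := fun b g hg => by
    rw [← hZ]; exact mem_quad hcc hsq hg
  have hEψ : ∀ b g, g ∈ Subgroup.center T ⊔ Subgroup.zpowers b ⊔ Subgroup.zpowers (ψ b) →
      ψ g ∈ Subgroup.center T ⊔ Subgroup.zpowers b ⊔ Subgroup.zpowers (ψ b) := by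
    intro b
    set E := Subgroup.center T ⊔ Subgroup.zpowers b ⊔ Subgroup.zpowers (ψ b)
    have hle : E ≤ E.comap ψ.toMonoidHom := by
      refine sup_le (sup_le (fun a ha => Subgroup.mem_sup_left (Subgroup.mem_sup_left (h.psi_center ha).1))
        (Subgroup.zpowers_le.mpr (Subgroup.mem_sup_right (Subgroup.mem_zpowers _))))
        (Subgroup.zpowers_le.mpr ?_)
      show ψ (ψ b) ∈ E
      rw [hf.two b]
      exact inv_mem (mul_mem (Subgroup.mem_sup_left (Subgroup.mem_sup_right (Subgroup.mem_zpowers _)))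
        (Subgroup.mem_sup_right (Subgroup.mem_zpowers _)))
    exact fun g hg => hle hg
  -- the elements with `δ` in `V`
  have hF : ∀ b, b⁻¹ * τ b ∈ V → b⁻¹ * τ b ≠ 1 → ∀ y, y⁻¹ * τ y ∈ V →
      y ∈ Subgroup.center T ⊔ Subgroup.zpowers b ⊔ Subgroup.zpowers (ψ b) := by
    intro b hb hb1 y hy
    obtain ⟨k, hk, hkv, -⟩ := h.delta_cover (A := Subgroup.center T ⊔ Subgroup.zpowers b ⊔ Subgroup.zpowers (ψ b))
      (hEψ b) (Subgroup.mem_sup_left (Subgroup.mem_sup_right (Subgroup.mem_zpowers b))) hb hb1 hy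
    have h1 : y * k ∈ V := h.delta_eq_one.mp (by
      rw [delta_mul (h.vc hy), hkv]; exact h.rot.sq _ hy)
    exact (Subgroup.mul_mem_cancel_right _ hk).mp (Subgroup.mem_sup_left (Subgroup.mem_sup_left (h.vc h1)))
  -- `δ u` is outside `V`
  have hxV : u⁻¹ * τ u ∉ V := by
    intro hxV
    have hu1 : u⁻¹ * τ u ≠ 1 := fun e => huV (h.delta_eq_one.mp e)
    obtain ⟨a, ha⟩ : ∃ a, a⁻¹ * τ a ∉ V := by
      by_contra hno
      push Not at hno
      refine hna ⟨⟨fun p q => c_eq_one.mp ?_⟩⟩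
      obtain ⟨v, hv, e⟩ := hquad u p (hF u hxV hu1 p (hno p))
      obtain ⟨v', hv', e'⟩ := hquad u q (hF u hxV hu1 q (hno q))
      have hcu := hf.c_self u
      have hcu' : c (ψ u) u = 1 := by rw [← c_inv, hcu, inv_one]
      have hl : ∀ s, s ∈ V → ∀ t, c (s * t) (q) = c t q := fun s hs t => c_congr_left hcc (h.vc hs)
      have hr : ∀ s, s ∈ V → ∀ t r, c r (s * t) = c r t := fun s hs t r => by
        rw [c_mul_right hcc, c_center_right (h.vc hs), one_mul]
      have hself : ∀ r : T, c r r = 1 := fun r => c_eq_one.mpr rfl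
      rcases e with e | e | e | e <;> rw [e] <;>
        first
          | exact c_center_left (h.vc hv) q
          | (rw [hl v hv]
             rcases e' with e' | e' | e' | e' <;> rw [e'] <;>
               first
                 | exact c_center_right (h.vc hv') _
                 | (rw [hr v' hv']; simp only [c_mul_left hcc, c_mul_right hcc, hcu, hcu', hself, one_mul]))
    set b := a⁻¹ * τ a
    have hbV : b⁻¹ * τ b ∈ V := by
      rw [h.delta_inv, ← mul_inv_rev]; exact inv_mem (hsqV b)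
    have hbb : b * b ≠ 1 := fun e => ha ((h.fixed _).mp (by
      rw [h.delta_inv]; exact inv_eq_of_mul_eq_one_right e))
    have hb1 : b⁻¹ * τ b ≠ 1 := fun e => ha (h.delta_eq_one.mp e)
    obtain ⟨v, hv, e⟩ := hquad b u (hF b hbV hb1 u hxV)
    have hsm : ∀ t, v * t * (v * t) = t * t := fun t => by
      rw [show v * t * (v * t) = v * (t * v) * t by group, Subgroup.mem_center_iff.mp (h.vc hv) t,
        show v * (v * t) * t = (v * v) * (t * t) by group, h.rot.sq v hv, one_mul]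
    rcases e with e | e | e | e
    · exact huV (e ▸ hv)
    · rw [e, hsm] at hu2; exact hbb hu2
    · rw [e, hsm, ← map_mul] at hu2; exact hbb (ψ.injective (hu2.trans (map_one ψ).symm))
    · rw [e, hsm, show b * ψ b * (b * ψ b) = b * (ψ b * b) * ψ b by group, ← hf.commute b,
        show b * (b * ψ b) * ψ b = b * b * (ψ b * ψ b) by group, ← map_mul] at hu2
      refine hbb (h.rot.ne _ (hsqV b) ?_)
      rw [eq_inv_of_mul_eq_one_right hu2, inv_eq_of_mul_eq_one_right (h.rot.sq _ (hsqV b))]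
  set x := u⁻¹ * τ u with hxdef
  have hui : u⁻¹ = u := inv_eq_of_mul_eq_one_right hu2
  have hw2 : τ u * τ u = 1 := by rw [← map_mul, hu2, map_one]
  have hxdV : x⁻¹ * τ x ∈ V := by
    rw [h.delta_inv, ← mul_inv_rev]; exact inv_mem (hsqV x)
  have hxd1 : x⁻¹ * τ x ≠ 1 := fun e => hxV (h.delta_eq_one.mp e)
  have hxx1 : x * x ≠ 1 := fun e => hxV ((h.fixed _).mp (by
    rw [h.delta_inv]; exact inv_eq_of_mul_eq_one_right e))
  set w := τ u with hw
  set d := c u w with hd
  have hdxx : d = x * x := by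
    simp only [hd, hxdef, c, hui, inv_eq_of_mul_eq_one_right hw2]; group
  have hdV : d ∈ V := hcV u w
  have hd1 : d ≠ 1 := by rw [hdxx]; exact hxx1
  set E := Subgroup.center T ⊔ Subgroup.zpowers u ⊔ Subgroup.zpowers (ψ u)
  have huE : u ∈ E := Subgroup.mem_sup_left (Subgroup.mem_sup_right (Subgroup.mem_zpowers u))
  have hwE : w ∉ E := by
    intro hm
    refine hxx1 ?_
    obtain ⟨v, hv, e⟩ := hquad u x (mul_mem (inv_mem huE) hm)
    have hsm : ∀ t, v * t * (v * t) = t * t := fun t => by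
      rw [show v * t * (v * t) = v * (t * v) * t by group, Subgroup.mem_center_iff.mp (h.vc hv) t,
        show v * (v * t) * t = (v * v) * (t * t) by group, h.rot.sq v hv, one_mul]
    rcases e with e | e | e | e <;> rw [e]
    · exact h.rot.sq v hv
    · rw [hsm, hu2]
    · rw [hsm, ← map_mul, hu2, map_one]
    · rw [hsm, show u * ψ u * (u * ψ u) = u * (ψ u * u) * ψ u by group, ← hf.commute u,
        show u * (u * ψ u) * ψ u = u * u * (ψ u * ψ u) by group, ← map_mul, hu2, map_one, mul_one]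
  set K := Subgroup.center T ⊔ Subgroup.zpowers u ⊔ Subgroup.zpowers (ψ u) ⊔ Subgroup.zpowers w ⊔
    Subgroup.zpowers (ψ w) with hK
  have huK : u ∈ K := Subgroup.mem_sup_left (Subgroup.mem_sup_left huE)
  have hψuK : ψ u ∈ K := Subgroup.mem_sup_left (Subgroup.mem_sup_left (Subgroup.mem_sup_right (Subgroup.mem_zpowers _)))
  have hwK : w ∈ K := Subgroup.mem_sup_left (Subgroup.mem_sup_right (Subgroup.mem_zpowers _))
  have hψwK : ψ w ∈ K := Subgroup.mem_sup_right (Subgroup.mem_zpowers _)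
  have hzK : ∀ v ∈ V, v ∈ K := fun v hv => Subgroup.mem_sup_left (Subgroup.mem_sup_left
    (Subgroup.mem_sup_left (Subgroup.mem_sup_left (h.vc hv))))
  have hxK : x ∈ K := mul_mem (inv_mem huK) hwK
  have hψxK : ψ x ∈ K := by rw [hxdef, map_mul, map_inv]; exact mul_mem (inv_mem hψuK) hψwK
  have hKtop : ∀ y, y ∈ K := by
    intro y
    have hyd : (y⁻¹ * τ y)⁻¹ * τ (y⁻¹ * τ y) ∈ V := by
      rw [h.delta_inv, ← mul_inv_rev]; exact inv_mem (hsqV _)
    obtain ⟨v, hv, e⟩ := hquad x _ (hF x hxdV hxd1 _ hyd)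
    -- adjust `y` by an element of `⟨u, ψ u⟩` with the same value of `δ` modulo `V`
    obtain ⟨k, hk, hke⟩ : ∃ k ∈ K, ∃ v' ∈ V, y⁻¹ * τ y = v' * (k⁻¹ * τ k) := by
      rcases e with e | e | e | e
      · exact ⟨1, one_mem K, v, hv, by rw [e]; simp⟩
      · exact ⟨u, huK, v, hv, e⟩
      · exact ⟨ψ u, hψuK, v, hv, by rw [e, h.delta_psi]⟩
      · refine ⟨u * ψ u, mul_mem huK hψuK, v * c x (ψ u)⁻¹, mul_mem hv (hcV _ _), ?_⟩
        have hk1 : (u * ψ u)⁻¹ * τ (u * ψ u) = (ψ u)⁻¹ * x * ψ u * ψ x := by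
          rw [hxdef, hw, map_mul τ, ← h.comm, map_mul ψ, map_inv ψ]; group
        rw [e, hk1, mul_assoc v (c x (ψ u)⁻¹)]
        congr 1
        simp only [c]; group
    obtain ⟨v', hv', hke⟩ := hke
    have hyk : (y * k⁻¹)⁻¹ * τ (y * k⁻¹) ∈ V := by
      rw [show (y * k⁻¹)⁻¹ * τ (y * k⁻¹) = k * (y⁻¹ * τ y) * τ k⁻¹ by rw [map_mul]; group, hke, map_inv,
        Subgroup.mem_center_iff.mp (h.vc hv') (k⁻¹ * τ k) |>.symm,
        show k * (k⁻¹ * τ k * v') * (τ k)⁻¹ = τ k * v' * (τ k)⁻¹ by group,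
        Subgroup.mem_center_iff.mp (h.vc hv') (τ k), mul_inv_cancel_right]
      exact hv'
    obtain ⟨v₂, hv₂, e₂⟩ := hquad x _ (hF x hxdV hxd1 _ hyk)
    have hmem : y * k⁻¹ ∈ K := by
      rcases e₂ with e₂ | e₂ | e₂ | e₂ <;> rw [e₂]
      · exact hzK _ hv₂
      · exact mul_mem (hzK _ hv₂) hxK
      · exact mul_mem (hzK _ hv₂) hψxK
      · exact mul_mem (hzK _ hv₂) (mul_mem hxK hψxK)
    simpa using mul_mem hmem hk
  have h64 : Nat.card T = 64 := by
    have h1 := chain hf hcc hsq (u := u) (w := w) (by rw [hZ]; exact huV) hwE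
    rw [← hK, hZ, h.v4, show K = ⊤ from eq_top_iff.mpr fun y _ => hKtop y, Subgroup.card_top] at h1
    exact h1
  obtain ⟨e1, e2, e3⟩ := hf.pair h.rot hcc hcV u w
  rw [← hd] at e1 e2 e3
  have hd2 : ψ (ψ d) ∈ V := h.rot.mem _ (h.rot.mem _ hdV)
  have hmid : d * ψ (ψ d) = ψ d := by
    rw [h.rot.two d hdV, ← mul_assoc, h.rot.sq d hdV, one_mul]
  refine ⟨⟨![u, ψ u, w, ψ w], d, ψ (ψ d), fun g => Subgroup.mem_center_iff.mp (h.vc hdV) g,
    fun g => Subgroup.mem_center_iff.mp (h.vc hd2) g, h.rot.sq _ hdV, h.rot.sq _ hd2, ?_, ?_, ?_, h64⟩⟩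
  · intro i
    fin_cases i <;> simp [linearShape, pw, ← map_mul, hu2, hw2]
  · intro i j hij
    fin_cases i <;> fin_cases j <;> simp [linearShape, pw] at hij ⊢
    · exact (hf.commute u).symm
    · exact rel_of_c hd.symm (h.rot.sq _ hdV) (h.vc hdV)
    · exact rel_of_c e1 (h.rot.sq _ hd2) (h.vc hd2)
    · exact rel_of_c e2 (h.rot.sq _ hd2) (h.vc hd2)
    · rw [hmid]; exact rel_of_c e3 (h.rot.sq _ (h.rot.mem _ hdV)) (h.vc (h.rot.mem _ hdV))
    · exact (hf.commute w).symm
  · set K' := Subgroup.closure (Set.range ![u, ψ u, w, ψ w] ∪ {d, ψ (ψ d)})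
    have hgen : ∀ i, ![u, ψ u, w, ψ w] i ∈ K' := fun i => Subgroup.subset_closure (Or.inl ⟨i, rfl⟩)
    have hdK : d ∈ K' := Subgroup.subset_closure (Or.inr (Or.inl rfl))
    have hd2K : ψ (ψ d) ∈ K' := Subgroup.subset_closure (Or.inr (Or.inr rfl))
    have hVK : Subgroup.center T ≤ K' := by
      rw [hZ]
      intro a ha
      rcases h.rot.all d hdV hd1 a ha with e | e | e | e <;> rw [e]
      · exact one_mem _
      · exact hdK
      · rw [← hmid]; exact mul_mem hdK hd2K
      · exact hd2K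
    refine eq_top_iff.mpr fun y _ => ?_
    exact (sup_le (sup_le (sup_le (sup_le hVK (Subgroup.zpowers_le.mpr (hgen 0)))
      (Subgroup.zpowers_le.mpr (hgen 1))) (Subgroup.zpowers_le.mpr (hgen 2)))
      (Subgroup.zpowers_le.mpr (hgen 3))) (hKtop y)

theorem abelian_case [Finite T] (hab : IsMulCommutative T) :
    (Nat.card T = 16 ∧ ∀ x : T, x ^ 2 = 1) ∨
      ∃ n : ℕ, 1 ≤ n ∧ Nonempty (T ≃* Multiplicative (ZMod (2 ^ n)) × Multiplicative (ZMod (2 ^ n))) := by
  haveI := hab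
  have hc : ∀ a b : T, a * b = b * a := fun a b => mul_comm' a b
  by_cases hu : ∃ u : T, u * u = 1 ∧ u ∉ V
  · obtain ⟨u, hu2, huV⟩ := hu
    have hel := h.elementary (Z := ⊤) (fun a _ b _ => hc a b) (fun a _ => Subgroup.mem_top _)
      (fun a _ => Subgroup.mem_top _) (Subgroup.mem_top u) hu2 huV
    have hdV : ∀ x : T, x⁻¹ * τ x ∈ V := fun x => (h.fixed _).mp (by
      rw [h.delta_inv]; exact inv_eq_of_mul_eq_one_right (hel _ (Subgroup.mem_top _)))
    let f : T →* T :=
      { toFun := fun x => x⁻¹ * τ x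
        map_one' := by simp
        map_mul' := fun x y => delta_mul (h.vc (hdV x)) }
    have hker : f.ker = V := Subgroup.ext fun x => h.delta_eq_one
    have hrange : f.range = V := le_antisymm (by rintro _ ⟨x, rfl⟩; exact hdV x) fun v hv => by
      obtain ⟨b, -, hb, -⟩ := h.delta_cover (A := ⊤) (fun a _ => Subgroup.mem_top _) (Subgroup.mem_top u)
        (hdV u) (fun e => huV (h.delta_eq_one.mp e)) hv
      exact ⟨b, hb⟩
    refine Or.inl ⟨?_, fun x => by rw [pow_two]; exact hel x (Subgroup.mem_top x)⟩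
    rw [← Subgroup.card_mul_index f.ker, Subgroup.index_ker, hrange, hker, h.v4]
  · push Not at hu
    exact Or.inr (RotHomocyclic.homocyclic h.pgroup hc
      (fun x => ⟨fun hx => h.rot.sq x hx, fun hx => hu x hx⟩) h.rot h.v4)

theorem unitary [Finite T] (hna : ¬ IsMulCommutative T) (hu : ∀ u : T, u * u = 1 → u ∈ V) :
    Nonempty (Pres unitaryShape T) := by
  obtain ⟨v, hv, hv1⟩ := (Subgroup.bot_or_exists_ne_one V).resolve_left fun e => by
    have := h.v4; rw [e, Subgroup.card_bot] at this; omega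
  have h1 : orderOf ψ = 3 ^ 1 := by
    rw [pow_one]
    haveI : Fact (Nat.Prime 3) := ⟨Nat.prime_three⟩
    refine orderOf_eq_prime (MulEquiv.ext fun x => ?_) fun e => hv1 (h.rot.ne v hv (by rw [e]; rfl))
    rw [pow_three]; exact h.three x
  exact exists_pres (unitary_of_three h.pgroup hna h1
    (fun x => ⟨fun hx => h.rot.sq x hx, hu x⟩) h.rot h.v4)

end Data

end Cfsg.Agent.Invol.SixtyFour
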