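import Cfsg.Agent.Lib.Invol.SixtyFourShape
import Cfsg.Agent.Lib.Invol.FpfThree
import Cfsg.Agent.Lib.Recog.SU3SylowBasic

/-!
# The group of order 64 with three involutions and a fixed-point-free automorphism of order three

It is isomorphic to a Sylow 2-subgroup of `PSU(3, 4)`.
-/

set_option autoImplicit false

namespace Cfsg.Agent.Invol.SixtyFour

open FpfThree

/-- The shape of the Sylow 2-subgroup of `PSU(3, 4)`. -/
def unitaryShape : Shape where
  s := ![(true, false), (false, true), (true, false), (false, true)]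
  c i j :=
    if i = 0 ∧ j = 2 then (false, true)
    else if (i = 0 ∧ j = 3) ∨ (i = 1 ∧ j = 2) then (true, false)
    else if i = 1 ∧ j = 3 then (true, true)
    else (false, false)

/-- The hypotheses. -/
structure Unitary {T : Type*} [Group T] (ψ : MulAut T) : Prop where
  pgroup : IsPGroup 2 T
  fpf : Fpf ψ
  rot : NoSCN.Rot ψ (Subgroup.center T)
  centre : Nat.card (Subgroup.center T) = 4
  sq : ∀ x : T, x * x ∈ Subgroup.center T
  inv : ∀ x : T, x * x = 1 → x ∈ Subgroup.center T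
  order : Nat.card T = 64

theorem rel_of_c {T : Type*} [Group T] {a b q : T} (h : c a b = q) (hq : q * q = 1)
    (hqc : q ∈ Subgroup.center T) : b * a = a * b * q := by
  rw [Subgroup.mem_center_iff.mp hqc (a * b), ← inv_eq_of_mul_eq_one_right hq, ← h, c_inv]
  simp only [c]; group

theorem flipped {T : Type*} [Group T] {ψ : MulAut T} (h : Unitary ψ) : Unitary (ψ * ψ) :=
  ⟨h.pgroup, h.fpf.flip, h.rot.flip, h.centre, h.sq, h.inv, h.order⟩

theorem pres_aux {T : Type*} [Group T] [Finite T] {ψ : MulAut T} (h : Unitary ψ) {x y : T}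
    (hx : x * x ≠ 1) (hyx : y * y = x * x) (hd : c x y = ψ (x * x))
    (hy : y ∉ Subgroup.center T ⊔ Subgroup.zpowers x ⊔ Subgroup.zpowers (ψ x)) :
    Nonempty (Pres unitaryShape T) := by
  have hc := h.fpf.comm_center h.pgroup
  set Z := Subgroup.center T
  set z := x * x with hz
  have hzZ : z ∈ Z := h.sq x
  have hwZ : ψ z ∈ Z := h.rot.mem z hzZ
  obtain ⟨e1, e2, e3⟩ := h.fpf.pair h.rot hc (fun a b => hc a b) x y
  rw [hd, h.rot.three hzZ] at e1 e2
  rw [hd, h.rot.two z hzZ] at e3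
  have hz2 := h.rot.sq z hzZ
  have hw2 := h.rot.sq _ hwZ
  have hzw2 := h.rot.sq _ (mul_mem hzZ hwZ)
  have hxZ : x ∉ Z := fun hm => hx (h.rot.sq x hm)
  refine ⟨⟨![x, ψ x, y, ψ y], z, ψ z, fun g => Subgroup.mem_center_iff.mp hzZ g,
    fun g => Subgroup.mem_center_iff.mp hwZ g, hz2, hw2, ?_, ?_, ?_, h.order⟩⟩
  · intro i
    fin_cases i <;> simp [unitaryShape, pw, hz, ← map_mul, hyx]
  · intro i j hij
    fin_cases i <;> fin_cases j <;> simp [unitaryShape, pw] at hij ⊢
    · exact (h.fpf.commute x).symm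
    · exact rel_of_c hd hw2 hwZ
    · exact rel_of_c e1 hz2 hzZ
    · exact rel_of_c e2 hz2 hzZ
    · exact rel_of_c e3 hzw2 (mul_mem hzZ hwZ)
    · exact (h.fpf.commute y).symm
  · set K := Subgroup.closure (Set.range ![x, ψ x, y, ψ y] ∪ {z, ψ z})
    have hgen : ∀ i, ![x, ψ x, y, ψ y] i ∈ K := fun i => Subgroup.subset_closure (Or.inl ⟨i, rfl⟩)
    have hzK : z ∈ K := Subgroup.subset_closure (Or.inr (Or.inl rfl))
    have hwK : ψ z ∈ K := Subgroup.subset_closure (Or.inr (Or.inr rfl))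
    have hZK : Z ≤ K := by
      intro a ha
      rcases h.rot.all z hzZ hx a ha with e | e | e | e <;> rw [e]
      · exact one_mem K
      · exact hzK
      · exact hwK
      · rw [h.rot.two z hzZ]; exact mul_mem hzK hwK
    have hle : Z ⊔ Subgroup.zpowers x ⊔ Subgroup.zpowers (ψ x) ⊔ Subgroup.zpowers y ⊔
        Subgroup.zpowers (ψ y) ≤ K :=
      sup_le (sup_le (sup_le (sup_le hZK (Subgroup.zpowers_le.mpr (hgen 0)))
        (Subgroup.zpowers_le.mpr (hgen 1))) (Subgroup.zpowers_le.mpr (hgen 2)))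
        (Subgroup.zpowers_le.mpr (hgen 3))
    have h1 := Subgroup.card_le_of_le hle
    rw [chain h.fpf hc h.sq hxZ hy, h.centre] at h1
    refine Subgroup.eq_top_of_card_eq K (le_antisymm (Subgroup.card_le_card_group K) ?_)
    rw [h.order]; exact h1

theorem exists_pres {T : Type*} [Group T] [Finite T] {ψ : MulAut T} (h : Unitary ψ) :
    Nonempty (Pres unitaryShape T) := by
  have hc := h.fpf.comm_center h.pgroup
  set Z := Subgroup.center T
  obtain ⟨z, hz, hz1⟩ := (Subgroup.bot_or_exists_ne_one Z).resolve_left fun e => by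
    have := h.centre; rw [show Subgroup.center T = ⊥ from e, Subgroup.card_bot] at this; omega
  -- an element of square `z` outside a given invariant subgroup
  have hroot : ∀ A : Subgroup T, (∀ a ∈ A, ψ a ∈ A) → Z ≤ A → A ≠ ⊤ → ∃ v, v * v = z ∧ v ∉ A := by
    intro A hA hZA hne
    obtain ⟨v, -, hv⟩ := SetLike.exists_of_lt (lt_top_iff_ne_top.mpr hne)
    have hv2 : v * v ≠ 1 := fun e => hv (hZA (h.inv v e))
    have hout : ∀ a, a ∉ A → ψ a ∉ A := fun a ha hm => ha (by
      have := hA _ (hA _ hm); rwa [h.fpf.three] at this)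
    rcases h.rot.all z hz hz1 _ (h.sq v) with e | e | e | e
    · exact absurd e hv2
    · exact ⟨v, e, hv⟩
    · exact ⟨ψ (ψ v), by rw [← map_mul, ← map_mul, e, h.fpf.three], hout _ (hout _ hv)⟩
    · exact ⟨ψ v, by rw [← map_mul, e, h.fpf.three], hout _ hv⟩
  obtain ⟨x, hx, hxZ⟩ := hroot Z h.rot.mem le_rfl fun e => by
    have := h.centre; rw [show Subgroup.center T = ⊤ from e, Subgroup.card_top, h.order] at this; omega
  set E := Z ⊔ Subgroup.zpowers x ⊔ Subgroup.zpowers (ψ x)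
  have hEψ : ∀ a ∈ E, ψ a ∈ E := by
    have hle : E ≤ E.comap ψ.toMonoidHom := by
      refine sup_le (sup_le (fun a ha => Subgroup.mem_sup_left (Subgroup.mem_sup_left (h.rot.mem a ha)))
        (Subgroup.zpowers_le.mpr (Subgroup.mem_sup_right (Subgroup.mem_zpowers _))))
        (Subgroup.zpowers_le.mpr ?_)
      show ψ (ψ x) ∈ E
      rw [h.fpf.two x]
      exact inv_mem (mul_mem (Subgroup.mem_sup_left (Subgroup.mem_sup_right (Subgroup.mem_zpowers _)))
        (Subgroup.mem_sup_right (Subgroup.mem_zpowers _)))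
    exact fun a ha => hle ha
  obtain ⟨y, hy, hyE⟩ := hroot E hEψ (le_sup_left.trans le_sup_left) fun e => by
    haveI := normal_of_comm (A := Z ⊔ Subgroup.zpowers x) fun a b => Subgroup.mem_sup_left (hc a b)
    have h1 : Nat.card ↥E ≤ 2 * Nat.card ↥(Z ⊔ Subgroup.zpowers x) := by
      by_cases hm : ψ x ∈ Z ⊔ Subgroup.zpowers x
      · rw [show E = Z ⊔ Subgroup.zpowers x from le_antisymm
          (sup_le le_rfl (Subgroup.zpowers_le.mpr hm)) le_sup_left]
        omega
      · rw [card_adj (Subgroup.mem_sup_left (h.sq _)) hm]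
    rw [card_adj (h.sq x) hxZ, h.centre, show E = ⊤ from e, Subgroup.card_top, h.order] at h1
    omega
  set d := c x y with hd
  have hxy : ∀ a, a ∈ E → (a * y) * (a * y) ≠ 1 := fun a ha e =>
    hyE ((Subgroup.mul_mem_cancel_left E ha).mp (Subgroup.mem_sup_left (Subgroup.mem_sup_left (h.inv _ e))))
  have hsqm : ∀ a, a * y * (a * y) = c a y * (a * a) * (y * y) := fun a => by
    have h1 : c a y = c y a := by
      rw [← c_inv a y, inv_eq_of_mul_eq_one_right (h.rot.sq _ (hc a y))]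
    rw [h1]
    calc a * y * (a * y) = a * c y a * a * (y * y) := by simp only [c]; group
      _ = _ := by rw [Subgroup.mem_center_iff.mp (hc y a) a]; group
  have hd1 : d ≠ 1 := fun e => hxy x (Subgroup.mem_sup_left (Subgroup.mem_sup_right (Subgroup.mem_zpowers x)))
    (by rw [hsqm, ← hd, e, hx, hy, one_mul, h.rot.sq z hz])
  have hdz : d ≠ z := fun e => hxy (ψ x) (Subgroup.mem_sup_right (Subgroup.mem_zpowers _)) (by
    obtain ⟨-, e2, -⟩ := h.fpf.pair h.rot hc (fun a b => hc a b) x y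
    rw [hsqm, e2, ← map_mul, hx, hy, ← hd, e, h.rot.two z hz, mul_assoc, ← h.rot.comm hz (h.rot.mem z hz),
      h.rot.sq _ (mul_mem hz (h.rot.mem z hz))])
  rcases h.rot.all z hz hz1 d (hc x y) with e | e | e | e
  · exact absurd e hd1
  · exact absurd e hdz
  · exact pres_aux h (by rw [hx]; exact hz1) (hy.trans hx.symm) (by rw [← hd, e, hx]) hyE
  · refine pres_aux (flipped h) (by rw [hx]; exact hz1) (hy.trans hx.symm)
      (by rw [← hd, e, hx]; rfl) fun hm => hyE ?_
    refine (sup_le (sup_le (le_sup_left.trans le_sup_left) (le_sup_right.trans le_sup_left))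
      (Subgroup.zpowers_le.mpr ?_) : _ ≤ E) hm
    exact hEψ _ (hEψ _ (Subgroup.mem_sup_left (Subgroup.mem_sup_right (Subgroup.mem_zpowers x))))

open Cfsg Cfsg.Agent.Recog.SU3Two in
/-- The model. -/
theorem unitary_model {F : Type*} [Field F] [Fintype F] [CharP F 2]
    [hF : Fact (Fintype.card F = 4 ^ 2)] : ∃ ψ : MulAut (UT F 4), Unitary ψ := by
  classical
  haveI : Fact (Nat.Prime 3) := ⟨Nat.prime_three⟩
  obtain ⟨c₀, hc₀⟩ := exists_prime_orderOf_dvd_card 3 (G := Fˣ) (by
    rw [Fintype.card_units, hF.out]; norm_num)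
  have hω3 : (c₀ : F) ^ 3 = 1 := by rw [← Units.val_pow_eq_pow_val, ← hc₀, pow_orderOf_eq_one, Units.val_one]
  have hω1 : (c₀ : F) ≠ 1 := fun e => by
    rw [Units.val_eq_one] at e
    rw [e, orderOf_one] at hc₀; omega
  set ω : F := (c₀ : F)
  have hω5 : ω * ω ^ 4 = ω ^ 2 := by
    calc ω * ω ^ 4 = ω ^ 3 * ω ^ 2 := by ring
      _ = _ := by rw [hω3, one_mul]
  have hω2 : ω ^ 2 + ω + 1 = 0 := by
    have h1 : (ω - 1) * (ω ^ 2 + ω + 1) = 0 := by linear_combination hω3
    exact (mul_eq_zero.mp h1).resolve_left (sub_ne_zero.mpr hω1)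
  let ψ : MulAut (UT F 4) := UT.scaleHom (q := 4) c₀
  have ha : ∀ u, (ψ u).a = ω * u.a := fun u => rfl
  have hb : ∀ u, (ψ u).b = ω ^ 2 * u.b := fun u => by
    show (c₀ : F) * (c₀ : F) ^ 4 * u.b = _
    rw [hω5]
  have hZ : ∀ u : UT F 4, u ∈ Subgroup.center (UT F 4) ↔ u.a = 0 := UT.mem_center_iff
  have hsq1 : ∀ u : UT F 4, u.a = 0 → u * u = 1 := fun u hu => by
    rw [← pow_two]; exact (UT.sq_eq_one_iff' u).mpr hu
  have h4 : Nat.card (Subgroup.center (UT F 4)) = 4 := UT.card_center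
  have hsq0 : ∀ u : UT F 4, u.a = 0 → ∀ v : UT F 4, (u * v).b = u.b + v.b := fun u hu v => by
    rw [UT.mul_b, hu, zero_pow (by norm_num), zero_mul, add_zero]
  refine ⟨ψ, ⟨UT.isPGroup (n := 2) rfl, ⟨fun u => ?_, fun u hu => ?_⟩, ⟨?_, ?_, ?_, ?_, ?_⟩, h4,
    fun u => (hZ _).mpr ?_, fun u hu => (hZ u).mpr ((UT.sq_eq_one_iff' u).mp ((pow_two u).trans hu)),
    by rw [UT.card]; norm_num⟩⟩
  · refine UT.ext ?_ ?_
    · rw [ha, ha, ha]; linear_combination u.a * hω3
    · rw [hb, hb, hb]; linear_combination (u.b * (ω ^ 3 + 1)) * hω3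
  · have e1 := congrArg UT.a hu
    have e2 := congrArg UT.b hu
    rw [ha] at e1
    rw [hb] at e2
    have hne : ω ^ 2 ≠ 1 := fun e => hω1 (by linear_combination hω3 - ω * e)
    refine UT.ext ?_ ?_
    · rw [UT.one_a]
      exact (mul_eq_zero.mp (show (ω - 1) * u.a = 0 by linear_combination e1)).resolve_left (sub_ne_zero.mpr hω1)
    · rw [UT.one_b]
      exact (mul_eq_zero.mp (show (ω ^ 2 - 1) * u.b = 0 by linear_combination e2)).resolve_left
        (sub_ne_zero.mpr hne)
  · intro u hu; rw [hZ] at hu ⊢; rw [ha, hu, mul_zero]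
  · exact fun u hu => hsq1 u ((hZ u).mp hu)
  · intro u hu
    rw [hZ] at hu
    refine UT.ext ?_ ?_
    · rw [UT.mul_a, ha, ha, hu]; ring
    · rw [hsq0 u hu, hb, hb]
      linear_combination (ω * u.b) * hω3 - u.b * hω2 + (ω * u.b) * CharTwo.two_eq_zero (R := F)
  · intro u hu he
    rw [hZ] at hu
    have e2 := congrArg UT.b he
    rw [hb] at e2
    refine UT.ext (by rw [hu, UT.one_a]) ?_
    rw [UT.one_b]
    refine (mul_eq_zero.mp (show (ω ^ 2 - 1) * u.b = 0 by linear_combination e2)).resolve_left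
      (sub_ne_zero.mpr fun e => hω1 ?_)
    linear_combination hω3 - ω * e
  · intro u hu hu1 v hv
    rw [hZ] at hu hv
    have hb0 : u.b ≠ 0 := fun e => hu1 (UT.ext (by rw [hu, UT.one_a]) (by rw [e, UT.one_b]))
    have hfix : ∀ w : UT F 4, w.a = 0 → w.b ^ 4 = w.b := fun w hw => by
      have h1 := w.eq
      rw [hw, zero_mul, CharTwo.add_eq_zero] at h1
      exact h1.symm
    obtain ⟨t, hvt⟩ : ∃ t, v.b = t * u.b := ⟨v.b / u.b, (div_mul_cancel₀ _ hb0).symm⟩
    have ht : t ^ 4 = t := by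
      have h1 := hfix v hv
      rw [hvt, mul_pow, hfix u hu] at h1
      exact mul_right_cancel₀ hb0 h1
    have hprod : t * ((t - 1) * ((t - ω) * (t - ω ^ 2))) = 0 := by
      linear_combination ht + (-(t * t * (t - 1))) * hω2 + (t * (t - 1)) * hω3
    have hext : ∀ w : UT F 4, w.a = 0 → v.b = w.b → v = w := fun w hw he => UT.ext (hv.trans hw.symm) he
    rcases mul_eq_zero.mp hprod with e | e
    · exact Or.inl (hext 1 UT.one_a (by rw [hvt, e, zero_mul, UT.one_b]))
    rcases mul_eq_zero.mp e with e | e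
    · exact Or.inr (Or.inl (hext u hu (by rw [hvt, sub_eq_zero.mp e, one_mul])))
    rcases mul_eq_zero.mp e with e | e
    · refine Or.inr (Or.inr (Or.inr (hext _ (by rw [ha, ha, hu, mul_zero, mul_zero]) ?_)))
      rw [hvt, sub_eq_zero.mp e, hb, hb]
      linear_combination (-(ω * u.b)) * hω3
    · refine Or.inr (Or.inr (Or.inl (hext _ (by rw [ha, hu, mul_zero]) ?_)))
      rw [hvt, sub_eq_zero.mp e, hb]
  · rw [UT.mul_a, CharTwo.add_self_eq_zero]

end Cfsg.Agent.Invol.SixtyFour
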