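import Cfsg.Agent.Lib.Invol.SuborbitAltSoc

/-!
An unfaithful suborbit on which a primitive point stabilizer induces the alternating or symmetric
group: the stabilizer is a product of two alternating or symmetric groups.
-/

set_option autoImplicit false
set_option linter.unusedSectionVars false

namespace Cfsg.Agent.Invol.SubAlt

open Subgroup Equiv

/-! ### Symmetric groups -/

theorem eq_one_of_comm_alt {n : ℕ} (hn : 4 ≤ n) {u : Perm (Fin n)}
    (h : ∀ g ∈ alternatingGroup (Fin n), g * u = u * g) : u = 1 := by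
  by_contra hne
  obtain ⟨x, hx⟩ : ∃ x, u x ≠ x := by
    by_contra hc
    push Not at hc
    exact hne (Equiv.ext hc)
  obtain ⟨z, hz⟩ : ∃ z, z ∉ ({x, u x} : Finset (Fin n)) := by
    by_contra hc
    push Not at hc
    have := Finset.card_le_card (fun a (_ : a ∈ (Finset.univ : Finset (Fin n))) => hc a)
    rw [Finset.card_univ, Fintype.card_fin] at this
    have := this.trans Finset.card_le_two
    omega
  obtain ⟨w, hw⟩ : ∃ w, w ∉ ({x, u x, z} : Finset (Fin n)) := by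
    by_contra hc
    push Not at hc
    have := Finset.card_le_card (fun a (_ : a ∈ (Finset.univ : Finset (Fin n))) => hc a)
    rw [Finset.card_univ, Fintype.card_fin] at this
    have := this.trans Finset.card_le_three
    omega
  simp only [Finset.mem_insert, Finset.mem_singleton, not_or] at hz hw
  have hg : swap x z * swap x w ∈ alternatingGroup (Fin n) := by
    rw [Perm.mem_alternatingGroup, map_mul, Perm.sign_swap (Ne.symm hz.1), Perm.sign_swap (Ne.symm hw.1)]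
    rfl
  have := congrArg (fun f : Perm (Fin n) => f x) (h _ hg)
  simp only [Perm.mul_apply, swap_apply_left] at this
  rw [swap_apply_of_ne_of_ne hx (Ne.symm hw.2.1), swap_apply_of_ne_of_ne hx (Ne.symm hz.2),
    swap_apply_of_ne_of_ne hw.1 hw.2.2] at this
  exact (Ne.symm hw.1) (u.injective this)

theorem simple_alt {n : ℕ} (hn : 5 ≤ n) : IsSimpleGroup (alternatingGroup (Fin n)) :=
  alternatingGroup.isSimpleGroup (by rw [Nat.card_fin]; exact hn)

theorem alt_not_comm {n : ℕ} (hn : 5 ≤ n) :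
    ∃ a ∈ alternatingGroup (Fin n), ∃ b ∈ alternatingGroup (Fin n), a * b ≠ b * a := by
  by_contra hc
  push Not at hc
  have hbot : ∀ a ∈ alternatingGroup (Fin n), a = 1 := fun a ha =>
    eq_one_of_comm_alt (by omega) fun g hg => hc g hg a ha
  haveI : Nontrivial (alternatingGroup (Fin n)) :=
    alternatingGroup.nontrivial_of_three_le_card (by rw [Nat.card_fin]; omega)
  obtain ⟨a, ha⟩ := exists_ne (1 : alternatingGroup (Fin n))
  exact ha (Subtype.ext (hbot a a.2))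

theorem alt_ne_bot {n : ℕ} (hn : 5 ≤ n) : ∃ a ∈ alternatingGroup (Fin n), a ≠ 1 := by
  obtain ⟨a, ha, b, -, h⟩ := alt_not_comm hn
  exact ⟨a, ha, fun e => h (by rw [e, one_mul, mul_one])⟩

theorem alt_le_of_normal {n : ℕ} (hn : 5 ≤ n) {U : Subgroup (Perm (Fin n))}
    (h : ∀ g ∈ alternatingGroup (Fin n), ∀ u ∈ U, g * u * g⁻¹ ∈ U) (hne : U ≠ ⊥) :
    alternatingGroup (Fin n) ≤ U := by
  haveI := simple_alt hn
  have hN : (U.subgroupOf (alternatingGroup (Fin n))).Normal := ⟨fun x hx g => h g g.2 x hx⟩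
  rcases hN.eq_bot_or_eq_top with hb | ht
  · exfalso
    refine hne ((eq_bot_iff_forall U).mpr fun u hu => eq_one_of_comm_alt (by omega) fun g hg => ?_)
    have h1 : g * u * g⁻¹ * u⁻¹ ∈ U := mul_mem (h g hg u hu) (inv_mem hu)
    have h2 : g * u * g⁻¹ * u⁻¹ ∈ alternatingGroup (Fin n) := by
      rw [mul_assoc g u g⁻¹, mul_assoc g]
      exact mul_mem hg ((alternatingGroup.normal).conj_mem _ (inv_mem hg) u)
    have h3 := hb.le (show (⟨_, h2⟩ : alternatingGroup (Fin n)) ∈ U.subgroupOf _ from h1)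
    rw [mem_bot] at h3
    exact mul_inv_eq_iff_eq_mul.mp (mul_inv_eq_one.mp (congrArg Subtype.val h3))
  · exact subgroupOf_eq_top.mp ht

theorem two_mul_card_alt {n : ℕ} (hn : 2 ≤ n) : 2 * Nat.card (alternatingGroup (Fin n)) = n.factorial := by
  haveI : Nontrivial (Fin n) := Fin.nontrivial_iff_two_le.mpr hn
  rw [two_mul_nat_card_alternatingGroup, Nat.card_perm, Nat.card_fin]

theorem not_pgroup_of_alt_le {n p : ℕ} [Fact p.Prime] (hn : 5 ≤ n) {U : Subgroup (Perm (Fin n))}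
    (hU : IsPGroup p U) : ¬ alternatingGroup (Fin n) ≤ U := by
  intro h
  haveI := simple_alt hn
  have hA : IsPGroup p (alternatingGroup (Fin n)) := hU.to_le h
  haveI : Nontrivial (alternatingGroup (Fin n)) :=
    alternatingGroup.nontrivial_of_three_le_card (by rw [Nat.card_fin]; omega)
  haveI := hA.center_nontrivial
  rcases (inferInstance : (center (alternatingGroup (Fin n))).Normal).eq_bot_or_eq_top with hb | ht
  · exact absurd hb ((nontrivial_iff_ne_bot _).mp inferInstance)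
  · obtain ⟨a, ha, b, hb, hab⟩ := alt_not_comm hn
    exact hab (congrArg Subtype.val (mem_center_iff.mp (ht.ge (mem_top (⟨b, hb⟩ : alternatingGroup (Fin n)))) ⟨a, ha⟩))

/-! ### One side -/

variable {G : Type*} [Group G]

/-- The action of `M` on a suborbit, with point stabilizer `P` and kernel `A`. -/
structure Side (M P A : Subgroup G) (n : ℕ) where
  α : ↥M →* Perm (Fin (n + 1))
  ρ : ↥P →* Perm (Fin n)
  le : P ≤ M
  Ale : A ≤ P
  memA : ∀ x : M, (x : G) ∈ A ↔ α x = 1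
  memρ : ∀ x : P, (x : G) ∈ A ↔ ρ x = 1
  altα : alternatingGroup (Fin (n + 1)) ≤ α.range
  altρ : alternatingGroup (Fin n) ≤ ρ.range
  move : ∀ m : M, ∃ σ ∈ alternatingGroup (Fin (n + 1)), ∀ x : M, α x = σ → (x : G)⁻¹ * m ∈ P
  sgn : ∀ x : P, Perm.sign (ρ x) = Perm.sign (α ⟨x, le x.2⟩)

/-- The kernel of an action of `M`, in the ambient group. -/
def kerIn {M : Subgroup G} {n : ℕ} (α : ↥M →* Perm (Fin n)) : Subgroup G := α.ker.map M.subtype

theorem mem_kerIn {M : Subgroup G} {n : ℕ} (α : ↥M →* Perm (Fin n)) (x : M) :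
    (x : G) ∈ kerIn α ↔ α x = 1 := by
  constructor
  · rintro ⟨y, hy, he⟩
    obtain rfl := Subtype.ext he
    exact hy
  · exact fun h => ⟨x, h, rfl⟩

theorem kerIn_le {M P : Subgroup G} {n : ℕ} (α : ↥M →* Perm (Fin n)) (pt : Fin n)
    (hP : ∀ x : M, (x : G) ∈ P ↔ α x pt = pt) : kerIn α ≤ P := by
  rintro _ ⟨x, hx, rfl⟩
  exact (hP x).mpr (by rw [MonoidHom.mem_ker.mp hx, Perm.one_apply])

theorem exists_side {M P : Subgroup G} {n : ℕ} (hn : 3 ≤ n) (hPM : P ≤ M) (α : ↥M →* Perm (Fin (n + 1)))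
    (pt : Fin (n + 1)) (hP : ∀ x : M, (x : G) ∈ P ↔ α x pt = pt)
    (halt : alternatingGroup (Fin (n + 1)) ≤ α.range) :
    ∃ S : Side M P (kerIn α) n, S.α = α := by
  classical
  set e := (finSuccAboveEquiv pt).symm
  have hfix : ∀ (x : P) (c : Fin (n + 1)), α ⟨x, hPM x.2⟩ c ≠ pt ↔ c ≠ pt := by
    intro x c
    have := (hP ⟨x, hPM x.2⟩).mp x.2
    constructor
    · intro h hc; exact h (hc ▸ this)
    · intro h hc; exact h ((α ⟨x, hPM x.2⟩).injective (hc.trans this.symm))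
  let r : ↥P →* Perm {c : Fin (n + 1) // c ≠ pt} :=
    { toFun := fun x => (α ⟨x, hPM x.2⟩).subtypePerm (fun c => hfix x c)
      map_one' := Equiv.ext fun c => Subtype.ext (DFunLike.congr_fun (map_one α) (c : Fin (n + 1)))
      map_mul' := fun x y => Equiv.ext fun c => Subtype.ext
        (DFunLike.congr_fun (map_mul α (⟨x, hPM x.2⟩ : M) ⟨y, hPM y.2⟩) (c : Fin (n + 1))) }
  refine ⟨{
    α := α
    ρ := e.permCongrHom.toMonoidHom.comp r
    le := hPM
    Ale := kerIn_le α pt hP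
    memA := mem_kerIn α
    memρ := ?_
    altα := halt
    altρ := ?_
    move := ?_
    sgn := ?_ }, rfl⟩
  · intro x
    rw [mem_kerIn α ⟨x, hPM x.2⟩, MonoidHom.comp_apply, MulEquiv.coe_toMonoidHom, MulEquiv.map_eq_one_iff]
    constructor
    · intro h; exact Equiv.ext fun c => Subtype.ext (DFunLike.congr_fun h (c : Fin (n + 1)))
    · intro h
      refine Equiv.ext fun c => ?_
      by_cases hc : c = pt
      · subst hc; exact (hP ⟨x, hPM x.2⟩).mp x.2
      · exact congrArg Subtype.val (DFunLike.congr_fun h ⟨c, hc⟩)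
  · intro τ hτ
    set σ : Perm (Fin (n + 1)) := Perm.ofSubtype (e.symm.permCongr τ) with hσ
    have hσa : σ ∈ alternatingGroup (Fin (n + 1)) := by
      rw [Perm.mem_alternatingGroup, hσ, Perm.sign_ofSubtype, Perm.sign_permCongr]
      exact Perm.mem_alternatingGroup.mp hτ
    obtain ⟨m, hm⟩ := halt hσa
    have hmP : (m : G) ∈ P := (hP m).mpr (by
      rw [hm, hσ]; exact Perm.ofSubtype_apply_of_not_mem _ (not_not.mpr rfl))
    refine ⟨⟨m, hmP⟩, ?_⟩
    have : r ⟨m, hmP⟩ = e.symm.permCongr τ := Equiv.ext fun c => Subtype.ext (by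
      show α m c = _
      rw [hm, hσ]
      exact Perm.ofSubtype_apply_of_mem (p := fun a => a ≠ pt) _ c.2)
    rw [MonoidHom.comp_apply, this]
    refine Equiv.ext fun i => ?_
    simp [Equiv.permCongrHom, Equiv.permCongr_apply]
  · intro m
    obtain ⟨z, hz⟩ : ∃ z, z ∉ ({pt, α m pt} : Finset (Fin (n + 1))) := by
      by_contra hc
      push Not at hc
      have := Finset.card_le_card (fun a (_ : a ∈ (Finset.univ : Finset (Fin (n + 1)))) => hc a)
      rw [Finset.card_univ, Fintype.card_fin] at this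
      have := this.trans Finset.card_le_two
      omega
    simp only [Finset.mem_insert, Finset.mem_singleton, not_or] at hz
    obtain ⟨σ, hσ, hσpt⟩ : ∃ σ ∈ alternatingGroup (Fin (n + 1)), σ pt = α m pt := by
      by_cases h : α m pt = pt
      · exact ⟨1, one_mem _, by rw [Perm.one_apply, h]⟩
      · refine ⟨swap pt z * swap pt (α m pt), ?_, ?_⟩
        · rw [Perm.mem_alternatingGroup, map_mul, Perm.sign_swap (Ne.symm h), Perm.sign_swap (Ne.symm hz.1)]
          rfl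
        · rw [Perm.mul_apply, swap_apply_left, swap_apply_of_ne_of_ne h (Ne.symm hz.2)]
    refine ⟨σ, hσ, fun x hx => (hP (x⁻¹ * m)).mpr ?_⟩
    rw [map_mul, map_inv, Perm.mul_apply, hx, ← hσpt]
    exact σ.symm_apply_apply pt
  · intro x
    show Perm.sign (e.permCongr (r x)) = _
    rw [Perm.sign_permCongr]
    exact Perm.sign_subtypePerm _ (fun c => hfix x c) (fun c hc hcp => hc (hcp ▸ (hP ⟨x, hPM x.2⟩).mp x.2))

namespace Side

variable {M P A : Subgroup G} {n : ℕ} (S : Side M P A n)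

include S

theorem normM : M ≤ normalizer (A : Set G) := by
  refine norm_of_conj fun g hg x hx => ?_
  have h := (S.memA ⟨x, S.le (S.Ale hx)⟩).mp hx
  refine (S.memA ⟨g * x * g⁻¹, mul_mem (mul_mem hg (S.le (S.Ale hx))) (inv_mem hg)⟩).mpr ?_
  rw [show (⟨g * x * g⁻¹, _⟩ : M) = ⟨g, hg⟩ * ⟨x, S.le (S.Ale hx)⟩ * ⟨g, hg⟩⁻¹ from rfl, map_mul, map_mul,
    h, mul_one, map_inv, mul_inv_cancel]

theorem alt_le_img (hn : 5 ≤ n) {U : Subgroup G} (hU : U ≤ P) (hUn : P ≤ normalizer (U : Set G))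
    (hne : ¬ U ≤ A) : alternatingGroup (Fin n) ≤ (U.subgroupOf P).map S.ρ := by
  refine alt_le_of_normal hn ?_ ?_
  · rintro g hg _ ⟨u, hu, rfl⟩
    obtain ⟨p, rfl⟩ := S.altρ hg
    exact ⟨p * u * p⁻¹, cmem hUn p.2 hu, by simp⟩
  · intro hb
    refine hne fun u hu => (S.memρ ⟨u, hU hu⟩).mpr (mem_bot.mp (hb.le ⟨⟨u, hU hu⟩, hu, rfl⟩))

theorem alt_le_imgM (hn : 5 ≤ n) {U : Subgroup G} (hU : U ≤ M) (hUn : M ≤ normalizer (U : Set G))
    (hne : ¬ U ≤ A) : alternatingGroup (Fin (n + 1)) ≤ (U.subgroupOf M).map S.α := by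
  refine alt_le_of_normal (by omega) ?_ ?_
  · rintro g hg _ ⟨u, hu, rfl⟩
    obtain ⟨p, rfl⟩ := S.altα hg
    exact ⟨p * u * p⁻¹, cmem hUn p.2 hu, by simp⟩
  · intro hb
    refine hne fun u hu => (S.memA ⟨u, hU hu⟩).mpr (mem_bot.mp (hb.le ⟨⟨u, hU hu⟩, hu, rfl⟩))

theorem pgroup_le {p : ℕ} [Fact p.Prime] (hn : 5 ≤ n) {U : Subgroup G} (hU : U ≤ P)
    (hUn : P ≤ normalizer (U : Set G)) (hp : IsPGroup p U) : U ≤ A := by
  by_contra h
  exact not_pgroup_of_alt_le hn ((hp.comap_of_injective P.subtype P.subtype_injective).map S.ρ)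
    (S.alt_le_img hn hU hUn h)

theorem pgroupM_le {p : ℕ} [Fact p.Prime] (hn : 5 ≤ n) {U : Subgroup G} (hU : U ≤ M)
    (hUn : M ≤ normalizer (U : Set G)) (hp : IsPGroup p U) : U ≤ A := by
  by_contra h
  exact not_pgroup_of_alt_le (by omega) ((hp.comap_of_injective M.subtype M.subtype_injective).map S.α)
    (S.alt_le_imgM hn hU hUn h)

theorem card_alt_le [Finite G] (hn : 5 ≤ n) {U : Subgroup G} (hU : U ≤ M)
    (hUn : M ≤ normalizer (U : Set G)) (hne : ¬ U ≤ A) :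
    Nat.card (alternatingGroup (Fin (n + 1))) ≤ Nat.card U := by
  refine (card_le_of_le (S.alt_le_imgM hn hU hUn hne)).trans ((Nat.le_of_dvd Nat.card_pos (Subgroup.card_map_dvd _ _)).trans ?_)
  exact (Nat.card_congr (subgroupOfEquivOfLe hU).toEquiv).le

theorem disjoint_A {W : Subgroup G} (hW : MinN P W) (h : ¬ W ≤ A) : W ⊓ A = ⊥ :=
  (hW.le_or (S.le.trans S.normM)).resolve_left h

theorem W_comm_A {W : Subgroup G} (hW : MinN P W) (h : ¬ W ≤ A) {w a : G} (hw : w ∈ W) (ha : a ∈ A) :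
    w * a = a * w :=
  comm_of_disjoint (S.Ale.trans hW.2.1) (hW.1.trans (S.le.trans S.normM)) (S.disjoint_A hW h) hw ha

theorem card_W [Finite G] (hn : 5 ≤ n) {W : Subgroup G} (hW : MinN P W) (h : ¬ W ≤ A) :
    Nat.card W = Nat.card (alternatingGroup (Fin n)) := by
  have hd := S.disjoint_A hW h
  have hge := S.alt_le_img hn hW.1 hW.2.1 h
  obtain ⟨W', hW'⟩ : ∃ W', W' = ((alternatingGroup (Fin n)).comap S.ρ).map P.subtype ⊓ W := ⟨_, rfl⟩
  have hW'n : P ≤ normalizer (W' : Set G) := by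
    rw [hW']
    refine norm_inf (norm_of_conj fun g hg x hx => ?_) hW.2.1
    obtain ⟨x, hx, rfl⟩ := hx
    refine ⟨⟨g, hg⟩ * x * ⟨g, hg⟩⁻¹, ?_, rfl⟩
    show S.ρ _ ∈ alternatingGroup (Fin n)
    rw [map_mul, map_mul, map_inv]
    exact alternatingGroup.normal.conj_mem _ hx _
  have hne : W' ≠ ⊥ := by
    obtain ⟨τ, hτ, hτ1⟩ := alt_ne_bot hn
    obtain ⟨w, hw, hwe⟩ := hge hτ
    intro hb
    have hmem : (w : G) ∈ W' := hW' ▸ ⟨⟨w, show S.ρ w ∈ alternatingGroup (Fin n) from hwe ▸ hτ, rfl⟩, hw⟩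
    rw [hb, mem_bot] at hmem
    rw [show w = 1 from Subtype.ext hmem, map_one] at hwe
    exact hτ1 hwe.symm
  have heq := hW.2.2.2 W' (hW' ▸ inf_le_right) hW'n hne
  have himg : (W.subgroupOf P).map S.ρ = alternatingGroup (Fin n) := by
    refine le_antisymm ?_ hge
    rintro _ ⟨w, hw, rfl⟩
    obtain ⟨x, hx, hxe⟩ := (hW' ▸ heq.ge hw : (w : G) ∈ ((alternatingGroup (Fin n)).comap S.ρ).map P.subtype ⊓ W).1
    rw [← show x = w from Subtype.ext hxe]
    exact hx
  rw [← himg, ← Nat.card_congr (subgroupOfEquivOfLe hW.1).toEquiv]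
  refine Nat.card_eq_of_bijective (fun w : W.subgroupOf P => (⟨S.ρ w, w, w.2, rfl⟩ : (W.subgroupOf P).map S.ρ))
    ⟨fun w v he => ?_, fun ⟨_, w, hw, hwe⟩ => ⟨⟨w, hw⟩, Subtype.ext hwe⟩⟩
  have h1 : S.ρ ((w : P)⁻¹ * v) = 1 := by
    rw [map_mul, map_inv, show S.ρ (w : P) = S.ρ (v : P) from congrArg Subtype.val he, inv_mul_cancel]
  have h2 : (((w : P)⁻¹ * v : P) : G) ∈ W ⊓ A :=
    ⟨mul_mem (W.inv_mem (show ((w : P) : G) ∈ W from w.2)) (show ((v : P) : G) ∈ W from v.2), (S.memρ _).mpr h1⟩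
  rw [hd, mem_bot] at h2
  exact Subtype.ext (inv_mul_eq_one.mp (Subtype.ext h2))

theorem W_unique (hn : 5 ≤ n) {W W' : Subgroup G} (hW : MinN P W) (h : ¬ W ≤ A) (hW' : MinN P W')
    (h' : ¬ W' ≤ A) : W' = W := by
  rcases hW'.le_or hW.2.1 with hle | hd
  · exact hW.2.2.2 W' hle hW'.2.1 hW'.2.2.1
  exfalso
  obtain ⟨a, ha, b, hb, hab⟩ := alt_not_comm hn
  obtain ⟨w, hw, rfl⟩ := S.alt_le_img hn hW.1 hW.2.1 h ha
  obtain ⟨w', hw', rfl⟩ := S.alt_le_img hn hW'.1 hW'.2.1 h' hb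
  refine hab ?_
  rw [← map_mul, ← map_mul]
  exact congrArg S.ρ (Subtype.ext (comm_of_disjoint (hW.1.trans hW'.2.1) (hW'.1.trans hW.2.1) hd
    (show ((w' : P) : G) ∈ W' from hw') (show ((w : P) : G) ∈ W from hw)).symm)

/-- Elements of `M` are products of elements centralizing `A` and elements of `P`. -/
theorem central (hn : 5 ≤ n) {W : Subgroup G} (hW : MinN P W) (h : ¬ W ≤ A) :
    alternatingGroup (Fin (n + 1)) ≤ ((cz M A).subgroupOf M).map S.α ∧
      ∀ m ∈ M, ∃ z ∈ cz M A, z⁻¹ * m ∈ P := by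
  have hWZ : W ≤ cz M A := fun w hw => ⟨S.le (hW.1 hw),
    mem_centralizer_iff.mpr fun a ha => (S.W_comm_A hW h hw ha).symm⟩
  have hge := S.alt_le_imgM hn inf_le_left (cz_norm le_normalizer S.normM) fun hle => h (hWZ.trans hle)
  refine ⟨hge, fun m hm => ?_⟩
  obtain ⟨σ, hσ, hx⟩ := S.move ⟨m, hm⟩
  obtain ⟨z, hz, hze⟩ := hge hσ
  exact ⟨z, hz, hx z hze⟩

theorem norm_of_le (hn : 5 ≤ n) {W : Subgroup G} (hW : MinN P W) (h : ¬ W ≤ A) {U : Subgroup G}
    (hU : U ≤ A) (hUn : P ≤ normalizer (U : Set G)) : M ≤ normalizer (U : Set G) := by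
  refine norm_of_conj fun g hg u hu => ?_
  obtain ⟨z, hz, hp⟩ := (S.central hn hW h).2 g hg
  have h1 := cmem hUn hp hu
  have h2 := mem_centralizer_iff.mp hz.2 _ (hU h1)
  rw [show g * u * g⁻¹ = z * (z⁻¹ * g * u * (z⁻¹ * g)⁻¹) * z⁻¹ by group, ← h2, mul_inv_cancel_right]
  exact h1

theorem soc_eq_of_no_W [Finite G] (hP : AbFree P) (h : ∀ W, MinN P W → W ≤ A) : soc A = soc P := by
  rw [soc_eq S.Ale (S.le.trans S.normM) hP]
  exact le_antisymm (sSup_le fun W hW => le_sSup hW.1) (sSup_le fun W hW => le_sSup ⟨hW, h W hW⟩)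

theorem relIndex_A_le [Finite G] : A.relIndex P ≤ n.factorial := by
  have : A.subgroupOf P = S.ρ.ker := by ext x; exact S.memρ x
  rw [relIndex, this, index_ker]
  exact (card_le_card_group _).trans_eq (by rw [Nat.card_perm, Nat.card_fin])

end Side

/-! ### The suborbit and its paired suborbit -/

section Two

variable [Finite G] {M N P A B : Subgroup G} {n : ℕ}

theorem abFree_all (hn : 5 ≤ n) (S : Side M P A n) (T : Side N P B n)
    (hne : ∀ U ≤ P, M ≤ normalizer (U : Set G) → N ≤ normalizer (U : Set G) → U = ⊥) :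
    AbFree A ∧ AbFree M ∧ AbFree P := by
  have hc : ∀ p, p.Prime → core p A = ⊥ := by
    intro p hp
    haveI := Fact.mk hp
    have h1 : core p A ≤ core p B :=
      le_core (T.pgroup_le hn ((core_le p A).trans S.Ale) (core_norm p (S.le.trans S.normM)) (core_pgroup p A))
        ((T.Ale.trans (core_norm p (S.le.trans S.normM)))) (core_pgroup p A)
    have h2 : core p B ≤ core p A :=
      le_core (S.pgroup_le hn ((core_le p B).trans T.Ale) (core_norm p (T.le.trans T.normM)) (core_pgroup p B))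
        ((S.Ale.trans (core_norm p (T.le.trans T.normM)))) (core_pgroup p B)
    refine hne _ ((core_le p A).trans S.Ale) (core_norm p S.normM) ?_
    rw [le_antisymm h1 h2]
    exact core_norm p T.normM
  refine ⟨abFree_of_cores hc, abFree_of_cores fun p hp => ?_, abFree_of_cores fun p hp => ?_⟩ <;>
    haveI := Fact.mk hp
  · exact le_bot_iff.mp ((le_core (S.pgroupM_le hn (core_le p M) (core_norm p le_normalizer) (core_pgroup p M))
      ((S.Ale.trans S.le).trans (core_norm p le_normalizer)) (core_pgroup p M)).trans (hc p hp).le)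
  · exact le_bot_iff.mp ((le_core (S.pgroup_le hn (core_le p P) (core_norm p le_normalizer) (core_pgroup p P))
      (S.Ale.trans (core_norm p le_normalizer)) (core_pgroup p P)).trans (hc p hp).le)

theorem not_one_sided (hn : 5 ≤ n) (S : Side M P A n) (T : Side N P B n) (e : ↥M ≃* ↥N)
    (hM : AbFree M) (hP : AbFree P) {W : Subgroup G} (hW : MinN P W) (hWA : ¬ W ≤ A)
    (hB : ∀ V, MinN P V → V ≤ B) : False := by
  have hAn : M ≤ normalizer (A : Set G) := S.normM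
  have hsP : soc B = soc P := T.soc_eq_of_no_W hP hB
  -- upper bound
  have hZB : cz N (soc B) = ⊥ := by
    have hn' : N ≤ normalizer (cz N (soc B) : Set G) := cz_norm le_normalizer (soc_norm T.normM)
    have hPc : ∀ z ∈ cz N (soc B), z ∈ P → z = 1 := fun z hz hzP => by
      have := (cz_soc hP).le (show z ∈ cz P (soc P) from ⟨hzP, hsP ▸ hz.2⟩)
      exact mem_bot.mp this
    by_contra hne
    have hnB : ¬ cz N (soc B) ≤ B := fun hle => hne ((eq_bot_iff_forall _).mpr fun z hz => hPc z hz (T.Ale (hle hz)))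
    obtain ⟨τ, hτ, hτ1⟩ := alt_ne_bot hn
    obtain ⟨q, hq⟩ := T.altρ hτ
    have hev : T.α ⟨q, T.le q.2⟩ ∈ alternatingGroup (Fin (n + 1)) := by
      rw [Perm.mem_alternatingGroup, ← T.sgn, hq]; exact Perm.mem_alternatingGroup.mp hτ
    obtain ⟨z, hz, hze⟩ := T.alt_le_imgM hn inf_le_left hn' hnB hev
    have hb : ((z⁻¹ * ⟨q, T.le q.2⟩ : N) : G) ∈ B := (T.memA _).mpr (by rw [map_mul, map_inv, hze, inv_mul_cancel])
    have hzP : (z : G) ∈ P := by
      have := mul_mem q.2 (inv_mem (T.Ale hb))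
      simpa [mul_assoc] using this
    have hz1 : z = 1 := Subtype.ext (hPc z hz hzP)
    rw [hz1, inv_one, one_mul] at hb
    rw [(T.memρ q).mp hb] at hq
    exact hτ1 hq.symm
  have hup : soc N ≤ soc B := sSup_le fun V hV => by
    rcases hV.le_or (soc_norm T.normM) with h | h
    · exact h
    exfalso
    refine hV.2.2.1 (le_bot_iff.mp (hZB ▸ fun v hv => ⟨hV.1 hv, mem_centralizer_iff.mpr fun s hs => ?_⟩))
    exact (comm_of_disjoint ((soc_le B).trans ((T.Ale.trans T.le).trans hV.2.1))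
      (hV.1.trans (soc_norm T.normM)) h hv hs).symm
  have hsup : soc P ≤ soc A ⊔ W := sSup_le fun V hV => by
    by_cases hVA : V ≤ A
    · refine le_sup_of_le_left ?_
      rw [soc_eq S.Ale (S.le.trans S.normM) hP]
      exact le_sSup ⟨hV, hVA⟩
    · exact le_sup_of_le_right (S.W_unique hn hW hWA hV hVA).le
  have hU : Nat.card (soc N) ≤ Nat.card (soc A) * Nat.card (alternatingGroup (Fin n)) := by
    rw [← S.card_W hn hW hWA]
    refine (card_le_of_le (hup.trans (hsP.le.trans hsup))).trans (card_sup_le fun a ha w hw => ?_)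
    exact (S.W_comm_A hW hWA hw (soc_le A ha)).symm
  -- lower bound
  have hZA : cz M A ⊓ A = ⊥ := by rw [inf_comm]; exact cz_self_eq_bot hM (S.Ale.trans S.le) hAn
  have hZne : cz M A ≠ ⊥ := by
    intro hb
    obtain ⟨τ, hτ, hτ1⟩ := alt_ne_bot (n := n + 1) (by omega)
    obtain ⟨z, hz, rfl⟩ := (S.central hn hW hWA).1 hτ
    rw [show z = 1 from Subtype.ext (mem_bot.mp (hb.le hz)), map_one] at hτ1
    exact hτ1 rfl
  obtain ⟨V, hV, hVZ⟩ := exists_minN inf_le_left (cz_norm le_normalizer hAn) hZne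
  have hVA : V ⊓ A = ⊥ := le_bot_iff.mp (hZA ▸ inf_le_inf_right A hVZ)
  have hnot : ¬ V ≤ A := fun hle => hV.2.2.1 (by rw [← hVA, inf_eq_left.mpr hle])
  have hsA : soc A ≤ soc M := by
    rw [soc_eq (S.Ale.trans S.le) hAn hM]
    exact sSup_le fun X hX => le_sSup hX.1
  have hlow : Nat.card (soc A) * Nat.card (alternatingGroup (Fin (n + 1))) ≤ Nat.card (soc M) := by
    refine (Nat.mul_le_mul_left _ (S.card_alt_le hn hV.1 hV.2.1 hnot)).trans
      (card_mul_le (fun a ha v hv => mem_centralizer_iff.mp (hVZ hv).2 a (soc_le A ha)) ?_ hsA (minN_le_soc hV))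
    exact le_bot_iff.mp (hVA ▸ le_inf inf_le_right (inf_le_left.trans (soc_le A)))
  have h := hlow.trans ((card_soc_le e).trans hU)
  have h1 := two_mul_card_alt (n := n) (by omega)
  have h2 := two_mul_card_alt (n := n + 1) (by omega)
  rw [Nat.factorial_succ, ← h1] at h2
  have hpos : 0 < Nat.card (alternatingGroup (Fin n)) := Nat.card_pos
  have h3 := Nat.le_of_mul_le_mul_left h Nat.card_pos
  nlinarith

/-- The two kernels meet trivially, and each has a complementary simple factor in `P`. -/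
theorem core_facts (hn : 5 ≤ n) (S : Side M P A n) (T : Side N P B n) (e : ↥M ≃* ↥N)
    (hne : ∀ U ≤ P, M ≤ normalizer (U : Set G) → N ≤ normalizer (U : Set G) → U = ⊥) (hA : A ≠ ⊥) :
    A ⊓ B = ⊥ ∧ (∃ W, MinN P W ∧ ¬ W ≤ A) ∧ ∃ W, MinN P W ∧ ¬ W ≤ B := by
  obtain ⟨-, hM, hP⟩ := abFree_all hn S T hne
  obtain ⟨-, hN, -⟩ := abFree_all hn T S (fun U hU h1 h2 => hne U hU h2 h1)
  by_cases hSA : ∀ W, MinN P W → W ≤ A
  · exfalso
    by_cases hSB : ∀ W, MinN P W → W ≤ B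
    · have h := hne (soc A) ((soc_le A).trans S.Ale) (soc_norm S.normM)
        (by rw [S.soc_eq_of_no_W hP hSA, ← T.soc_eq_of_no_W hP hSB]; exact soc_norm T.normM)
      obtain ⟨U, hU, -⟩ := exists_minN le_rfl le_normalizer hA
      exact hU.2.2.1 (le_bot_iff.mp (h ▸ minN_le_soc hU))
    · push Not at hSB
      obtain ⟨W, hW, hWB⟩ := hSB
      exact not_one_sided hn T S e.symm hN hP hW hWB hSA
  push Not at hSA
  obtain ⟨W, hW, hWA⟩ := hSA
  by_cases hSB : ∀ W, MinN P W → W ≤ B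
  · exact (not_one_sided hn S T e hM hP hW hWA hSB).elim
  push Not at hSB
  obtain ⟨W', hW', hWB⟩ := hSB
  refine ⟨hne _ (inf_le_left.trans S.Ale) ?_ ?_, ⟨W, hW, hWA⟩, W', hW', hWB⟩
  · exact S.norm_of_le hn hW hWA inf_le_left (norm_inf (S.le.trans S.normM) (T.le.trans T.normM))
  · exact T.norm_of_le hn hW' hWB inf_le_right (norm_inf (S.le.trans S.normM) (T.le.trans T.normM))

theorem exists_gamma (hn : 5 ≤ n) (S : Side M P A n) (T : Side N P B n) (hA : A ≠ ⊥) (hD : A ⊓ B = ⊥)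
    {W : Subgroup G} (hW : MinN P W) (hWA : ¬ W ≤ A) :
    ∃ γ : ↥M →* Perm (Fin n), (∀ (x : G) (hx : x ∈ P), γ ⟨x, S.le hx⟩ = T.ρ ⟨x, hx⟩) ∧
      ∀ z : M, (z : G) ∈ cz M A → γ z = 1 := by
  classical
  have hAB : ¬ A ≤ B := fun h => hA (by rw [← hD, inf_eq_left.mpr h])
  have hzero : ∀ z : P, (z : G) ∈ cz M A → T.ρ z = 1 := by
    intro z hz
    refine eq_one_of_comm_alt (by omega) fun g hg => ?_
    obtain ⟨a, ha, rfl⟩ := T.alt_le_img hn S.Ale (S.le.trans S.normM) hAB hg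
    rw [← map_mul, ← map_mul]
    exact congrArg T.ρ (Subtype.ext (mem_centralizer_iff.mp hz.2 _ ha))
  choose zf hzf hpf using (S.central hn hW hWA).2
  let f : ↥M → Perm (Fin n) := fun m => T.ρ ⟨(zf m m.2)⁻¹ * m, hpf m m.2⟩
  have uniq : ∀ (m : M) (z : G), z ∈ cz M A → ∀ hp : z⁻¹ * m ∈ P, f m = T.ρ ⟨z⁻¹ * m, hp⟩ := by
    intro m z hz hp
    have hd : ((⟨(zf m m.2)⁻¹ * m, hpf m m.2⟩ * ⟨z⁻¹ * m, hp⟩⁻¹ : P) : G) ∈ cz M A := by
      show (zf m m.2)⁻¹ * m * (z⁻¹ * m)⁻¹ ∈ cz M A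
      rw [show (zf m m.2)⁻¹ * (m : G) * (z⁻¹ * m)⁻¹ = (zf m m.2)⁻¹ * z by group]
      exact mul_mem (inv_mem (hzf m m.2)) hz
    have := hzero _ hd
    rw [map_mul, map_inv, mul_inv_eq_one] at this
    exact this
  have hZn : M ≤ normalizer (cz M A : Set G) := cz_norm le_normalizer S.normM
  refine ⟨MonoidHom.mk' f fun m₁ m₂ => ?_, fun x hx => ?_, fun z hz => ?_⟩
  · set z₁ := zf m₁ m₁.2
    set z₂ := zf m₂ m₂.2
    have hp₁ : z₁⁻¹ * m₁ ∈ P := hpf m₁ m₁.2
    have hz : z₁ * (z₁⁻¹ * m₁ * z₂ * (z₁⁻¹ * m₁)⁻¹) ∈ cz M A :=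
      mul_mem (hzf m₁ m₁.2) (cmem hZn (S.le hp₁) (hzf m₂ m₂.2))
    have he : (z₁ * (z₁⁻¹ * m₁ * z₂ * (z₁⁻¹ * m₁)⁻¹))⁻¹ * ((m₁ * m₂ : M) : G) =
        z₁⁻¹ * m₁ * (z₂⁻¹ * m₂) := by
      rw [Subgroup.coe_mul]; group
    rw [uniq (m₁ * m₂) _ hz (he ▸ mul_mem hp₁ (hpf m₂ m₂.2))]
    show _ = T.ρ _ * T.ρ _
    rw [← map_mul]
    exact congrArg T.ρ (Subtype.ext he)
  · rw [MonoidHom.mk'_apply, uniq ⟨x, S.le hx⟩ 1 (one_mem _) (by simpa using hx)]
    exact congrArg T.ρ (Subtype.ext (by simp))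
  · rw [MonoidHom.mk'_apply, uniq z z hz (by simp [one_mem]), ← map_one T.ρ]
    exact congrArg T.ρ (Subtype.ext (by simp))

end Two

end Cfsg.Agent.Invol.SubAlt
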