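import Cfsg.Agent.Lib.Invol.SuborbitAlt
import Cfsg.Agent.Lib.Perm.ThompsonWielandtAction

/-!
The shape of an unfaithful point stabilizer inducing the alternating or symmetric group on a
suborbit of length at least six.
-/

set_option autoImplicit false
set_option linter.unusedSectionVars false

namespace Cfsg.Agent.Invol.SubAlt

open Subgroup Equiv

section Abstract

variable {G : Type*} [Group G] [Finite G] {M N P A B : Subgroup G} {n : ℕ}

/-- The paired action also contains the alternating group. -/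
theorem alt_paired (hn : 5 ≤ n) (S : Side M P A n) (e : ↥M ≃* ↥N) (hPN : P ≤ N)
    (β : ↥N →* Perm (Fin (n + 1))) (pt : Fin (n + 1)) (hP : ∀ x : N, (x : G) ∈ P ↔ β x pt = pt) :
    alternatingGroup (Fin (n + 1)) ≤ β.range := by
  have h1 := two_mul_card_alt (n := n) (by omega)
  have h2 := two_mul_card_alt (n := n + 1) (by omega)
  rw [Nat.factorial_succ] at h2
  obtain ⟨s, hs⟩ : ∃ s, s = Nat.card (alternatingGroup (Fin (n + 1))) := ⟨_, rfl⟩
  rw [← hs] at h2
  have hfac : n.factorial < s := by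
    have := Nat.factorial_pos n
    nlinarith
  have hs1 : 1 < s := lt_of_le_of_lt (Nat.factorial_pos n) hfac
  by_cases hr : s ≤ Nat.card β.range
  · refine Equiv.Perm.alternatingGroup_le_of_index_le_two ?_
    have := β.range.card_mul_index
    rw [Nat.card_perm, Nat.card_fin, Nat.factorial_succ, ← h2] at this
    have hpos : 0 < s := by omega
    nlinarith
  exfalso
  obtain ⟨k, hk, hk'⟩ : ∃ k, Cnt s k A ∧ ¬ Cnt s (k + 1) A := by
    by_contra hc
    push Not at hc
    have : ∀ k, Cnt s k A := fun k => by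
      induction k with
      | zero => trivial
      | succ k ih => exact hc k ih
    exact lt_irrefl _ ((this (Nat.card A)).lt_card hs1)
  refine hk' ?_
  have hM : Cnt s (k + 1) M := by
    refine ⟨((alternatingGroup (Fin (n + 1))).comap S.α).map M.subtype, A, map_subtype_le _, ?_, ?_, ?_, ?_, hk⟩
    · intro x hx
      exact ⟨⟨x, S.le (S.Ale hx)⟩, by
        rw [SetLike.mem_coe, mem_comap, (S.memA ⟨x, S.le (S.Ale hx)⟩).mp hx]; exact one_mem _, rfl⟩
    · exact (map_subtype_le _).trans S.normM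
    · have hA : A = (S.α.ker).map M.subtype := by
        ext x
        constructor
        · intro hx; exact ⟨⟨x, S.le (S.Ale hx)⟩, (S.memA _).mp hx, rfl⟩
        · rintro ⟨y, hy, rfl⟩; exact (S.memA y).mpr hy
      refine (congrArg (fun X : Subgroup G => X.relIndex _) hA).trans ?_
      show ((S.α.ker).map M.subtype).relIndex _ = s
      rw [relIndex_map_map_of_injective _ _ M.subtype_injective, ← MonoidHom.comap_bot, relIndex_comap,
        map_comap_eq_self S.altα, relIndex_bot_left, hs]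
    · intro X hAX hXW hXn
      have hXM : X ≤ M := hXW.trans (map_subtype_le _)
      by_cases hXA : X ≤ A
      · exact Or.inl (le_antisymm hXA hAX)
      right
      have himg : alternatingGroup (Fin (n + 1)) ≤ (X.subgroupOf M).map S.α := by
        refine alt_le_of_normal (by omega) ?_ ?_
        · rintro g hg _ ⟨u, hu, rfl⟩
          obtain ⟨w, hw⟩ := S.altα hg
          have hwW : (w : G) ∈ ((alternatingGroup (Fin (n + 1))).comap S.α).map M.subtype :=
            ⟨w, show S.α w ∈ alternatingGroup (Fin (n + 1)) from hw ▸ hg, rfl⟩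
          subst hw
          exact ⟨w * u * w⁻¹, cmem hXn hwW hu, by simp⟩
        · intro hb
          exact hXA fun u hu => (S.memA ⟨u, hXM hu⟩).mpr (mem_bot.mp (hb.le ⟨⟨u, hXM hu⟩, hu, rfl⟩))
      refine le_antisymm hXW ?_
      rintro _ ⟨w, hw, rfl⟩
      obtain ⟨x, hx, hxe⟩ := himg hw
      have h := (S.memA (x⁻¹ * w)).mpr (by rw [map_mul, map_inv, hxe, inv_mul_cancel])
      have := mul_mem (show (x : G) ∈ X from hx) (hAX h)
      simpa using this
  have hN := hM.transport e le_rfl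
  rw [tr_self e] at hN
  have hBP : kerIn β ≤ P := kerIn_le β pt hP
  have hnB : N ≤ normalizer (kerIn β : Set G) := by
    refine norm_of_conj fun g hg x hx => ?_
    obtain ⟨y, hy, rfl⟩ := hx
    exact ⟨⟨g, hg⟩ * y * ⟨g, hg⟩⁻¹, MonoidHom.normal_ker β |>.conj_mem y hy _, rfl⟩
  have hi : (kerIn β).relIndex N < s := by
    have : (kerIn β).subgroupOf N = β.ker := by ext x; exact mem_kerIn β x
    rw [relIndex, this, index_ker]
    omega
  have hP' := ((hN.shift (hBP.trans hPN) hnB hi).mono hBP)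
  exact hP'.shift S.Ale (S.le.trans S.normM) (lt_of_le_of_lt S.relIndex_A_le hfac)

theorem sign_ne_one {m : ℕ} {g : Perm (Fin m)} (h : g ∉ alternatingGroup (Fin m)) : Perm.sign g = -1 := by
  rcases Int.units_eq_one_or (Perm.sign g) with h1 | h1
  · exact absurd (Perm.mem_alternatingGroup.mpr h1) h
  · exact h1

theorem range_alt_or_top {m : ℕ} {U : Subgroup (Perm (Fin m))} (h : alternatingGroup (Fin m) ≤ U) :
    U = alternatingGroup (Fin m) ∨ U = ⊤ := by
  by_cases hle : U ≤ alternatingGroup (Fin m)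
  · exact Or.inl (le_antisymm hle h)
  right
  obtain ⟨g, hg, hg'⟩ := SetLike.not_le_iff_exists.mp hle
  refine eq_top_iff.mpr fun x _ => ?_
  by_cases hx : x ∈ alternatingGroup (Fin m)
  · exact h hx
  · have h1 : g⁻¹ * x ∈ alternatingGroup (Fin m) := by
      rw [Perm.mem_alternatingGroup, map_mul, map_inv, sign_ne_one hg', sign_ne_one hx, inv_mul_cancel]
    have := mul_mem hg (h h1)
    rwa [mul_inv_cancel_left] at this

theorem B_ne_bot (hn : 5 ≤ n) (S : Side M P A n) (T : Side N P B n) (hA : A ≠ ⊥) (hD : A ⊓ B = ⊥)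
    {W W' : Subgroup G} (hW : MinN P W) (hWA : ¬ W ≤ A) (hW' : MinN P W') (hWB : ¬ W' ≤ B) : B ≠ ⊥ := by
  intro hB
  obtain ⟨V, hV, hVA⟩ := exists_minN S.Ale (S.le.trans S.normM) hA
  have h1 : W = W' := T.W_unique hn hW' hWB hW fun h => hW.2.2.1 (le_bot_iff.mp (hB ▸ h))
  have h2 : V = W' := T.W_unique hn hW' hWB hV fun h => hV.2.2.1 (le_bot_iff.mp (hB ▸ h))
  exact hWA (h1.trans h2.symm ▸ hVA)

/-- If `M` induces only even permutations, so does `N`. -/
theorem paired_even (hn : 5 ≤ n) (S : Side M P A n) (T : Side N P B n) (e : ↥M ≃* ↥N) (hA : A ≠ ⊥)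
    (hD : A ⊓ B = ⊥) {W W' : Subgroup G} (hW : MinN P W) (hWA : ¬ W ≤ A) (hW' : MinN P W')
    (hWB : ¬ W' ≤ B) (hr : S.α.range = alternatingGroup (Fin (n + 1))) :
    T.α.range = alternatingGroup (Fin (n + 1)) := by
  rcases range_alt_or_top T.altα with h | htop
  · exact h
  exfalso
  have hBA : ¬ B ≤ A := fun h => B_ne_bot hn S T hA hD hW hWA hW' hWB (by rw [← hD, inf_eq_right.mpr h])
  have hAe : A ≤ normalizer (B : Set G) := (S.Ale.trans (T.le.trans T.normM))
  have hBe : B ≤ normalizer (A : Set G) := (T.Ale.trans (S.le.trans S.normM))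
  have hcom : ∀ a ∈ A, ∀ b ∈ B, a * b = b * a := fun a ha b hb => comm_of_disjoint hBe hAe hD ha hb
  have heven : ∀ p : P, S.ρ p ∈ alternatingGroup (Fin n) := fun p => by
    rw [Perm.mem_alternatingGroup, S.sgn, ← Perm.mem_alternatingGroup, ← hr]
    exact ⟨_, rfl⟩
  -- the centralizer of `B` in `N` is large
  have hbig : (n + 1).factorial ≤ Nat.card (cz N B) := by
    have hle : (⊤ : Subgroup (Perm (Fin (n + 1)))) ≤ ((cz N B).subgroupOf N).map T.α := by
      intro σ _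
      obtain ⟨m, rfl⟩ := htop.ge (mem_top σ)
      obtain ⟨z, hz, hp⟩ := (T.central hn hW' hWB).2 m m.2
      obtain ⟨b, hb, hbe⟩ := S.alt_le_img hn T.Ale (T.le.trans T.normM) hBA (heven ⟨_, hp⟩)
      have hc : ((b⁻¹ * ⟨z⁻¹ * m, hp⟩ : P) : G) ∈ A :=
        (S.memρ _).mpr (by rw [map_mul, map_inv, hbe, inv_mul_cancel])
      have hcB : (b : G) ∈ B := hb
      set c : G := ((b⁻¹ * ⟨z⁻¹ * m, hp⟩ : P) : G) with hcdef
      have hcz : z * c ∈ cz N B :=
        mul_mem hz ⟨T.le (S.Ale hc), mem_centralizer_iff.mpr fun x hx => (hcom c hc x hx).symm⟩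
      refine ⟨⟨z * c, hcz.1⟩, hcz, ?_⟩
      have hm : m = ⟨z, hz.1⟩ * ⟨b, T.le b.2⟩ * ⟨c, T.le (S.Ale hc)⟩ := Subtype.ext (by
        simp [hcdef, mul_assoc])
      rw [hm, show (⟨z * c, hcz.1⟩ : N) = ⟨z, hz.1⟩ * ⟨c, T.le (S.Ale hc)⟩ from rfl, map_mul, map_mul, map_mul,
        (T.memA ⟨b, T.le b.2⟩).mp hcB, mul_one]
    have := (card_le_of_le hle).trans (Nat.le_of_dvd Nat.card_pos (Subgroup.card_map_dvd _ _))
    rw [card_top, Nat.card_perm, Nat.card_fin] at this
    exact this.trans (Nat.card_congr (subgroupOfEquivOfLe inf_le_left).toEquiv).le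
  have hcardB : Nat.card B ≤ Nat.card (alternatingGroup (Fin n)) := by
    refine Nat.card_le_card_of_injective (fun b : B => ⟨S.ρ ⟨b, T.Ale b.2⟩, heven _⟩) fun b c he => ?_
    have h1 : S.ρ ((⟨b, T.Ale b.2⟩ : P)⁻¹ * ⟨c, T.Ale c.2⟩) = 1 := by
      rw [map_mul, map_inv, show S.ρ ⟨b, T.Ale b.2⟩ = S.ρ ⟨c, T.Ale c.2⟩ from congrArg Subtype.val he, inv_mul_cancel]
    have h2 : (b : G)⁻¹ * c ∈ A ⊓ B := ⟨(S.memρ _).mpr h1, mul_mem (B.inv_mem b.2) c.2⟩
    rw [hD, mem_bot, inv_mul_eq_one] at h2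
    exact Subtype.ext h2
  -- transport to `M`
  have hBN : B ≤ N := T.Ale.trans T.le
  obtain ⟨U, hU⟩ : ∃ U, U = tr e.symm B := ⟨_, rfl⟩
  obtain ⟨C, hC⟩ : ∃ C, C = tr e.symm (cz N B) := ⟨_, rfl⟩
  have hUM : U ≤ M := hU ▸ tr_le e.symm B
  have hUn : M ≤ normalizer (U : Set G) := hU ▸ (tr_self e.symm).ge.trans (tr_norm e.symm le_rfl hBN T.normM)
  have hcU : ∀ x ∈ C, ∀ u ∈ U, u * x = x * u := by
    intro x hx u hu
    rw [hC] at hx; rw [hU] at hu
    obtain ⟨y, hy, rfl⟩ := (mem_tr e.symm).mp hx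
    obtain ⟨v, hv, rfl⟩ := (mem_tr e.symm).mp hu
    rw [← Subgroup.coe_mul, ← Subgroup.coe_mul, ← map_mul, ← map_mul]
    exact congrArg (fun w : N => ((e.symm w : M) : G)) (Subtype.ext (mem_centralizer_iff.mp hy.2 _ hv))
  have hUA : U ≤ A := by
    by_contra h
    have h1 := S.card_alt_le hn hUM hUn h
    rw [hU, card_tr e.symm hBN] at h1
    have h3 := two_mul_card_alt (n := n) (by omega)
    have h4 := two_mul_card_alt (n := n + 1) (by omega)
    rw [Nat.factorial_succ, ← h3] at h4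
    have : 0 < Nat.card (alternatingGroup (Fin n)) := Nat.card_pos
    nlinarith
  have hUB : ¬ U ≤ B := by
    intro h
    refine tr_ne_bot e.symm hBN (B_ne_bot hn S T hA hD hW hWA hW' hWB) (hU ▸ ?_)
    exact le_bot_iff.mp (hD ▸ le_inf hUA h)
  have hCA : ∀ x : M, (x : G) ∈ C → S.α x = 1 → x = 1 := by
    intro x hx h1
    have hxA := (S.memA x).mpr h1
    have h2 : T.ρ ⟨x, S.Ale hxA⟩ = 1 := by
      refine eq_one_of_comm_alt (by omega) fun g hg => ?_
      obtain ⟨u, hu, rfl⟩ := T.alt_le_img hn (hUA.trans S.Ale) (S.le.trans hUn) hUB hg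
      rw [← map_mul, ← map_mul]
      exact congrArg T.ρ (Subtype.ext (hcU _ hx _ hu))
    have h3 : (x : G) ∈ A ⊓ B := ⟨hxA, (T.memρ ⟨x, S.Ale hxA⟩).mpr h2⟩
    rw [hD, mem_bot] at h3
    exact Subtype.ext h3
  have hsmall : Nat.card C ≤ Nat.card (alternatingGroup (Fin (n + 1))) := by
    have hCM : C ≤ M := hC ▸ tr_le e.symm _
    rw [← hr]
    refine Nat.card_le_card_of_injective (fun x : C => (⟨S.α ⟨x, hCM x.2⟩, _, rfl⟩ : S.α.range)) fun x y he => ?_
    have h1 : S.α ((⟨x, hCM x.2⟩ : M)⁻¹ * ⟨y, hCM y.2⟩) = 1 := by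
      rw [map_mul, map_inv, show S.α ⟨x, hCM x.2⟩ = S.α ⟨y, hCM y.2⟩ from congrArg Subtype.val he, inv_mul_cancel]
    have h2 := hCA _ (mul_mem (C.inv_mem x.2) y.2) h1
    exact Subtype.ext (inv_mul_eq_one.mp (congrArg Subtype.val h2))
  have hC' : Nat.card C = Nat.card (cz N B) := hC ▸ card_tr e.symm inf_le_left
  rw [hC'] at hsmall
  have h3 := two_mul_card_alt (n := n + 1) (by omega)
  have hpos : 0 < Nat.card (alternatingGroup (Fin (n + 1))) := Nat.card_pos
  omega

/-- The sign of both coordinates. -/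
def sgnPair (n : ℕ) : Perm (Fin (n + 1)) × Perm (Fin n) →* ℤˣ :=
  (Perm.sign.comp (MonoidHom.fst (Perm (Fin (n + 1))) (Perm (Fin n)))) *
    (Perm.sign.comp (MonoidHom.snd (Perm (Fin (n + 1))) (Perm (Fin n))))

theorem range_cases {R : Subgroup (Perm (Fin (n + 1)) × Perm (Fin n))}
    (h1 : ∀ a ∈ alternatingGroup (Fin (n + 1)), (a, 1) ∈ R)
    (h2 : ∀ b ∈ alternatingGroup (Fin n), (1, b) ∈ R) (hfull : ∀ a, ∃ b, (a, b) ∈ R) :
    R = ⊤ ∨ R = (⊤ : Subgroup (Perm (Fin (n + 1)))).prod (alternatingGroup (Fin n)) ∨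
      R = (sgnPair n).ker := by
  have fill : ∀ {a b a' b'}, (a, b) ∈ R → Perm.sign a = Perm.sign a' → Perm.sign b = Perm.sign b' → (a', b') ∈ R := by
    intro a b a' b' h ha hb
    have e1 : a⁻¹ * a' ∈ alternatingGroup (Fin (n + 1)) := by
      rw [Perm.mem_alternatingGroup, map_mul, map_inv, ha, inv_mul_cancel]
    have e2 : b⁻¹ * b' ∈ alternatingGroup (Fin n) := by
      rw [Perm.mem_alternatingGroup, map_mul, map_inv, hb, inv_mul_cancel]
    have := mul_mem h (mul_mem (h1 _ e1) (h2 _ e2))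
    simpa using this
  by_cases hev : ∀ x ∈ R, x.2 ∈ alternatingGroup (Fin n)
  · refine Or.inr (Or.inl (le_antisymm (fun x hx => mem_prod.mpr ⟨mem_top _, hev x hx⟩) ?_))
    rintro ⟨a, b⟩ h
    obtain ⟨c, hc⟩ := hfull a
    exact fill hc rfl ((Perm.mem_alternatingGroup.mp (hev _ hc)).trans
      (Perm.mem_alternatingGroup.mp (mem_prod.mp h).2).symm)
  push Not at hev
  obtain ⟨⟨a₂, b₂⟩, hm₂, hb₂⟩ := hev
  have hb₂' : Perm.sign b₂ = -1 := sign_ne_one hb₂
  by_cases hker : R ≤ (sgnPair n).ker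
  · refine Or.inr (Or.inr (le_antisymm hker ?_))
    rintro ⟨a, b⟩ h
    obtain ⟨c, hc⟩ := hfull a
    have e1 : Perm.sign a * Perm.sign c = 1 := hker hc
    have e2 : Perm.sign a * Perm.sign b = 1 := h
    exact fill hc rfl (mul_left_cancel (e1.trans e2.symm))
  left
  obtain ⟨⟨a₀, b₀⟩, h₀, h₀'⟩ := SetLike.not_le_iff_exists.mp hker
  have h₀'' : Perm.sign a₀ * Perm.sign b₀ ≠ 1 := h₀'
  refine eq_top_iff.mpr ?_
  rintro ⟨a, b⟩ -
  obtain ⟨c, hc⟩ := hfull a
  by_cases he : Perm.sign c = Perm.sign b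
  · exact fill hc rfl he
  -- the element with even first and odd second coordinate
  suffices ∃ x y, (x, y) ∈ R ∧ Perm.sign x = 1 ∧ Perm.sign y = -1 by
    obtain ⟨x, y, hxy, hx, hy⟩ := this
    refine fill (a := a * x) (b := c * y) (mul_mem hc hxy) (by rw [map_mul, hx, mul_one]) ?_
    rw [map_mul, hy]
    rcases Int.units_eq_one_or (Perm.sign c) with e1 | e1 <;>
      rcases Int.units_eq_one_or (Perm.sign b) with e2 | e2 <;> simp_all
  rcases Int.units_eq_one_or (Perm.sign a₂) with e | e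
  · exact ⟨a₂, b₂, hm₂, e, hb₂'⟩
  rcases Int.units_eq_one_or (Perm.sign a₀) with e0 | e0
  · rcases Int.units_eq_one_or (Perm.sign b₀) with f0 | f0
    · exact absurd (by rw [e0, f0, one_mul]) h₀''
    · exact ⟨a₀, b₀, h₀, e0, f0⟩
  · rcases Int.units_eq_one_or (Perm.sign b₀) with f0 | f0
    · exact ⟨a₀ * a₂, b₀ * b₂, mul_mem h₀ hm₂, by rw [map_mul, e0, e]; rfl, by rw [map_mul, f0, hb₂', one_mul]⟩
    · exact absurd (by rw [e0, f0]; rfl) h₀''

/-- The shape of `M`. -/
theorem shape (hn : 5 ≤ n) (S : Side M P A n) (T : Side N P B n) (e : ↥M ≃* ↥N)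
    (hne : ∀ U ≤ P, M ≤ normalizer (U : Set G) → N ≤ normalizer (U : Set G) → U = ⊥) (hA : A ≠ ⊥) :
    (S.α.range = alternatingGroup (Fin (n + 1)) ∧
        Nonempty (↥M ≃* alternatingGroup (Fin (n + 1)) × alternatingGroup (Fin n))) ∨
      (S.α.range = ⊤ ∧ (Nonempty (↥M ≃* Perm (Fin (n + 1)) × Perm (Fin n)) ∨
        Nonempty (↥M ≃* Perm (Fin (n + 1)) × alternatingGroup (Fin n)) ∨ Nonempty (↥M ≃* (sgnPair n).ker))) := by
  obtain ⟨hD, ⟨W, hW, hWA⟩, W', hW', hWB⟩ := core_facts hn S T e hne hA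
  obtain ⟨γ, hγP, hγZ⟩ := exists_gamma hn S T hA hD hW hWA
  have hinj : Function.Injective (S.α.prod γ) := by
    refine (injective_iff_map_eq_one _).mpr fun x hx => ?_
    obtain ⟨h1, h2⟩ := Prod.ext_iff.mp hx
    have hxA := (S.memA x).mpr h1
    have h3 : T.ρ ⟨x, S.Ale hxA⟩ = 1 := (hγP x (S.Ale hxA)).symm.trans h2
    have h4 : (x : G) ∈ A ⊓ B := ⟨hxA, (T.memρ ⟨x, S.Ale hxA⟩).mpr h3⟩
    rw [hD, mem_bot] at h4
    exact Subtype.ext h4
  have hAB : ¬ A ≤ B := fun h => hA (by rw [← hD, inf_eq_left.mpr h])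
  have h1 : ∀ a ∈ alternatingGroup (Fin (n + 1)), (a, (1 : Perm (Fin n))) ∈ (S.α.prod γ).range := by
    intro a ha
    obtain ⟨z, hz, rfl⟩ := (S.central hn hW hWA).1 ha
    exact ⟨z, Prod.ext rfl (hγZ z hz)⟩
  have h2 : ∀ b ∈ alternatingGroup (Fin n), ((1 : Perm (Fin (n + 1))), b) ∈ (S.α.prod γ).range := by
    intro b hb
    obtain ⟨u, hu, rfl⟩ := T.alt_le_img hn S.Ale (S.le.trans S.normM) hAB hb
    exact ⟨⟨u, S.le u.2⟩, Prod.ext ((S.memA _).mp hu) (hγP u u.2)⟩
  let ι := MonoidHom.ofInjective hinj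
  rcases range_alt_or_top S.altα with hr | hr
  · refine Or.inl ⟨hr, ?_⟩
    have hT := paired_even hn S T e hA hD hW hWA hW' hWB hr
    have heq : (S.α.prod γ).range = (alternatingGroup (Fin (n + 1))).prod (alternatingGroup (Fin n)) := by
      apply le_antisymm
      · rintro _ ⟨m, rfl⟩
        refine mem_prod.mpr ⟨hr ▸ ⟨m, rfl⟩, ?_⟩
        obtain ⟨z, hz, hp⟩ := (S.central hn hW hWA).2 m m.2
        have he : m = ⟨z, hz.1⟩ * ⟨z⁻¹ * m, S.le hp⟩ := Subtype.ext (by simp)
        show γ m ∈ alternatingGroup (Fin n)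
        rw [he, map_mul, hγZ ⟨z, hz.1⟩ hz, one_mul, hγP _ hp, Perm.mem_alternatingGroup, T.sgn,
          ← Perm.mem_alternatingGroup, ← hT]
        exact ⟨_, rfl⟩
      · rintro ⟨a, b⟩ h
        have := mul_mem (h1 a (mem_prod.mp h).1) (h2 b (mem_prod.mp h).2)
        simpa using this
    exact ⟨(ι.trans (MulEquiv.subgroupCongr heq)).trans (prodEquiv _ _)⟩
  · refine Or.inr ⟨hr, ?_⟩
    have hfull : ∀ a, ∃ b, (a, b) ∈ (S.α.prod γ).range := fun a => by
      obtain ⟨m, rfl⟩ := hr.ge (mem_top a)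
      exact ⟨γ m, m, rfl⟩
    rcases range_cases h1 h2 hfull with h | h | h
    · exact Or.inl ⟨(ι.trans (MulEquiv.subgroupCongr h)).trans topEquiv⟩
    · exact Or.inr (Or.inl ⟨((ι.trans (MulEquiv.subgroupCongr h)).trans (prodEquiv _ _)).trans
        (MulEquiv.prodCongr topEquiv (MulEquiv.refl _))⟩)
    · exact Or.inr (Or.inr ⟨ι.trans (MulEquiv.subgroupCongr h)⟩)

end Abstract

/-- The suborbit statement. -/
theorem main {G Ω : Type*} [Group G] [Finite G] [MulAction G Ω] [FaithfulSMul G Ω] [Finite Ω]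
    (hprim : MulAction.IsPreprimitive G Ω) (a b : Ω) (d : ℕ)
    (hd : Nat.card (MulAction.orbit (MulAction.stabilizer G a) b) = d) (h6 : 6 ≤ d)
    (halt : (MulAction.toPermHom (MulAction.stabilizer G a) (MulAction.orbit (MulAction.stabilizer G a) b)).range.index ≤ 2)
    (hunf : ¬ Function.Injective (MulAction.toPermHom (MulAction.stabilizer G a) (MulAction.orbit (MulAction.stabilizer G a) b))) :
    ((MulAction.toPermHom (MulAction.stabilizer G a) (MulAction.orbit (MulAction.stabilizer G a) b)).range.index = 2 ∧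
      Nonempty (MulAction.stabilizer G a ≃* alternatingGroup (Fin d) × alternatingGroup (Fin (d - 1)))) ∨
    ((MulAction.toPermHom (MulAction.stabilizer G a) (MulAction.orbit (MulAction.stabilizer G a) b)).range = ⊤ ∧
      (Nonempty (MulAction.stabilizer G a ≃* Equiv.Perm (Fin d) × Equiv.Perm (Fin (d - 1))) ∨
       Nonempty (MulAction.stabilizer G a ≃* Equiv.Perm (Fin d) × alternatingGroup (Fin (d - 1))) ∨
       Nonempty (MulAction.stabilizer G a ≃* ((Equiv.Perm.sign.comp (MonoidHom.fst (Equiv.Perm (Fin d)) (Equiv.Perm (Fin (d - 1))))) *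
         (Equiv.Perm.sign.comp (MonoidHom.snd (Equiv.Perm (Fin d)) (Equiv.Perm (Fin (d - 1)))))).ker))) := by
  classical
  obtain ⟨n, rfl⟩ : ∃ n, d = n + 1 := ⟨d - 1, by omega⟩
  have hn : 5 ≤ n := by omega
  obtain ⟨-, -, hMN, ⟨e⟩, hcard⟩ := TW.point_data hprim a b (n + 1) hd (by omega)
  have hd' : Nat.card (MulAction.orbit (MulAction.stabilizer G b) a) = n + 1 := by
    rw [TW.card_orbit_swap a b (hcard a b), hd]
  set M := MulAction.stabilizer G a
  set N := MulAction.stabilizer G b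
  set Δ := MulAction.orbit M b
  set Δ' := MulAction.orbit N a
  let ε : Δ ≃ Fin (n + 1) := Finite.equivFinOfCardEq hd
  let ε' : Δ' ≃ Fin (n + 1) := Finite.equivFinOfCardEq hd'
  let α : ↥M →* Perm (Fin (n + 1)) := ε.permCongrHom.toMonoidHom.comp (MulAction.toPermHom M Δ)
  let β : ↥N →* Perm (Fin (n + 1)) := ε'.permCongrHom.toMonoidHom.comp (MulAction.toPermHom N Δ')
  have hPα : ∀ x : M, (x : G) ∈ M ⊓ N ↔ α x (ε ⟨b, MulAction.mem_orbit_self b⟩) = ε ⟨b, MulAction.mem_orbit_self b⟩ := by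
    intro x
    have : α x (ε ⟨b, MulAction.mem_orbit_self b⟩) = ε (x • ⟨b, MulAction.mem_orbit_self b⟩) := by
      simp [α, Equiv.permCongrHom, Equiv.permCongr_apply]
    rw [this, ε.injective.eq_iff, Subtype.ext_iff]
    exact ⟨fun h => h.2, fun h => ⟨x.2, h⟩⟩
  have hPβ : ∀ x : N, (x : G) ∈ M ⊓ N ↔ β x (ε' ⟨a, MulAction.mem_orbit_self a⟩) = ε' ⟨a, MulAction.mem_orbit_self a⟩ := by
    intro x
    have : β x (ε' ⟨a, MulAction.mem_orbit_self a⟩) = ε' (x • ⟨a, MulAction.mem_orbit_self a⟩) := by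
      simp [β, Equiv.permCongrHom, Equiv.permCongr_apply]
    rw [this, ε'.injective.eq_iff, Subtype.ext_iff]
    exact ⟨fun h => h.1, fun h => ⟨h, x.2⟩⟩
  have hrange : α.range = (MulAction.toPermHom M Δ).range.map ε.permCongrHom.toMonoidHom :=
    (MonoidHom.map_range _ _).symm
  have hidx : α.range.index = (MulAction.toPermHom M Δ).range.index := by
    rw [hrange, index_map_of_bijective]
    exact ε.permCongrHom.bijective
  obtain ⟨S, hS⟩ := exists_side (n := n) (by omega) (inf_le_left : M ⊓ N ≤ M) α _ hPα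
    (Equiv.Perm.alternatingGroup_le_of_index_le_two (by rw [hidx]; exact halt))
  obtain ⟨T, -⟩ := exists_side (n := n) (by omega) (inf_le_right : M ⊓ N ≤ N) β _ hPβ
    (alt_paired hn S e inf_le_right β _ hPβ)
  have hA : kerIn α ≠ ⊥ := by
    intro hb
    refine hunf ((injective_iff_map_eq_one _).mpr fun x hx => Subtype.ext (mem_bot.mp (hb.le ⟨x, ?_, rfl⟩)))
    show α x = 1
    show ε.permCongrHom (MulAction.toPermHom M Δ x) = 1
    rw [hx, map_one]
  have hne : ∀ U ≤ M ⊓ N, M ≤ normalizer (U : Set G) → N ≤ normalizer (U : Set G) → U = ⊥ := by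
    intro U hU hUM hUN
    haveI : Nontrivial Ω := ⟨a, b, fun h => hMN (by simp only [M, N, h])⟩
    haveI := hprim.toIsPretransitive
    have hmax : IsCoatom M := (MulAction.isCoatom_stabilizer_iff_preprimitive G a).mpr hprim
    rcases hUM.lt_or_eq with hlt | heq
    · haveI : U.Normal := normalizer_eq_top_iff.mp (hmax.2 _ hlt)
      refine (eq_bot_iff_forall U).mpr fun x hx => FaithfulSMul.eq_of_smul_eq_smul (α := Ω) fun c => ?_
      obtain ⟨g, rfl⟩ := MulAction.exists_smul_eq G a c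
      have h : g⁻¹ * x * g ∈ M := by
        have := Normal.conj_mem (inferInstance : U.Normal) x hx g⁻¹
        rw [inv_inv] at this
        exact (hU this).1
      have h' : (g⁻¹ * x * g) • a = a := h
      rw [mul_smul, mul_smul, inv_smul_eq_iff] at h'
      rw [h', one_smul]
    · exfalso
      refine hMN (eq_of_le_of_card_ge (hUN.trans heq.ge) ?_).symm
      exact (hcard a b).le
  have htop : α.range = ⊤ → (MulAction.toPermHom M Δ).range = ⊤ := by
    intro h
    rw [hrange, ← Subgroup.map_top_of_surjective ε.permCongrHom.toMonoidHom ε.permCongrHom.surjective] at h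
    exact map_injective ε.permCongrHom.injective h
  rw [Nat.add_sub_cancel]
  rcases shape hn S T e hne hA with ⟨h1, h2⟩ | ⟨h1, h2⟩
  · refine Or.inl ⟨?_, h2⟩
    rw [hS] at h1
    haveI : Nontrivial (Fin (n + 1)) := Fin.nontrivial_iff_two_le.mpr (by omega)
    rw [← hidx, h1]
    exact alternatingGroup.index_eq_two
  · rw [hS] at h1
    exact Or.inr ⟨htop h1, h2⟩

end Cfsg.Agent.Invol.SubAlt
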