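import Mathlib
import Cfsg.Prelude.Def_Solvable
import Cfsg.Agent.Lib.Perm.ThompsonWielandt
import Cfsg.Agent.Lib.Grp.Cores

/-!
Socles of subgroups, and a count of large simple sections, inside an ambient finite group.
-/

set_option autoImplicit false
set_option linter.unusedSectionVars false

namespace Cfsg.Agent.Invol.SubAlt

open Subgroup Cfsg.Agent.Grp

variable {G : Type*} [Group G]

theorem norm_of_conj {H K : Subgroup G} (h : ∀ g ∈ H, ∀ x ∈ K, g * x * g⁻¹ ∈ K) :
    H ≤ normalizer (K : Set G) := TW.normalizer_of_conj h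

theorem cmem {H K : Subgroup G} (h : H ≤ normalizer (K : Set G)) {g x : G} (hg : g ∈ H) (hx : x ∈ K) :
    g * x * g⁻¹ ∈ K := TW.conj_mem h hg hx

theorem norm_inf {V X Y : Subgroup G} (hX : V ≤ normalizer (X : Set G)) (hY : V ≤ normalizer (Y : Set G)) :
    V ≤ normalizer ((X ⊓ Y : Subgroup G) : Set G) :=
  norm_of_conj fun _ hg _ hx => ⟨cmem hX hg hx.1, cmem hY hg hx.2⟩

/-- The centralizer of `X` in `V`. -/
def cz (V X : Subgroup G) : Subgroup G := V ⊓ centralizer (X : Set G)

theorem cz_norm {M V X : Subgroup G} (hV : M ≤ normalizer (V : Set G)) (hX : M ≤ normalizer (X : Set G)) :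
    M ≤ normalizer (cz V X : Set G) := by
  refine norm_of_conj fun g hg z hz => ⟨cmem hV hg hz.1, mem_centralizer_iff.mpr fun x hx => ?_⟩
  have h1 := mem_centralizer_iff.mp hz.2 (g⁻¹ * x * g)
    (by have h := cmem hX (inv_mem hg) hx; rwa [inv_inv] at h)
  calc x * (g * z * g⁻¹) = g * (g⁻¹ * x * g * z) * g⁻¹ := by group
    _ = g * (z * (g⁻¹ * x * g)) * g⁻¹ := by rw [h1]
    _ = g * z * g⁻¹ * x := by group

/-- `W` is a minimal subgroup among the nontrivial subgroups of `V` normalized by `V`. -/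
def MinN (V W : Subgroup G) : Prop :=
  W ≤ V ∧ V ≤ normalizer (W : Set G) ∧ W ≠ ⊥ ∧
    ∀ X ≤ W, V ≤ normalizer (X : Set G) → X ≠ ⊥ → X = W

theorem exists_minN [Finite G] {V X : Subgroup G} (hXV : X ≤ V) (hn : V ≤ normalizer (X : Set G))
    (hne : X ≠ ⊥) : ∃ W, MinN V W ∧ W ≤ X := by
  induction h : Nat.card X using Nat.strong_induction_on generalizing X with
  | _ n ih =>
    by_cases hmin : ∀ Y ≤ X, V ≤ normalizer (Y : Set G) → Y ≠ ⊥ → Y = X
    · exact ⟨X, ⟨hXV, hn, hne, hmin⟩, le_rfl⟩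
    · push Not at hmin
      obtain ⟨Y, hYX, hYn, hY, hYne⟩ := hmin
      have hlt : Nat.card Y < n := by
        rw [← h]
        exact lt_of_le_of_ne (card_le_of_le hYX) fun he => hYne (eq_of_le_of_card_ge hYX he.ge)
      obtain ⟨W, hW, hWY⟩ := ih _ hlt (hYX.trans hXV) hYn hY rfl
      exact ⟨W, hW, hWY.trans hYX⟩

theorem MinN.le_or {V W X : Subgroup G} (hW : MinN V W) (hX : V ≤ normalizer (X : Set G)) :
    W ≤ X ∨ W ⊓ X = ⊥ := by
  by_cases h : W ⊓ X = ⊥
  · exact Or.inr h
  · left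
    have := hW.2.2.2 _ inf_le_left (norm_inf hW.2.1 hX) h
    exact this ▸ inf_le_right

theorem comm_of_disjoint {W X : Subgroup G} (hW : X ≤ normalizer (W : Set G))
    (hX : W ≤ normalizer (X : Set G)) (h : W ⊓ X = ⊥) {w x : G} (hw : w ∈ W) (hx : x ∈ X) :
    w * x = x * w := by
  have h1 : w * x * w⁻¹ * x⁻¹ ∈ W ⊓ X := by
    refine ⟨?_, mul_mem (cmem hX hw hx) (X.inv_mem hx)⟩
    rw [show w * x * w⁻¹ * x⁻¹ = w * (x * w⁻¹ * x⁻¹) by group]
    exact mul_mem hw (cmem hW hx (W.inv_mem hw))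
  rw [h, mem_bot, mul_inv_eq_one, mul_inv_eq_iff_eq_mul] at h1
  exact h1

/-- The socle of `V`. -/
def soc (V : Subgroup G) : Subgroup G := sSup {W | MinN V W}

theorem soc_le (V : Subgroup G) : soc V ≤ V := sSup_le fun _ hW => hW.1

theorem minN_le_soc {V W : Subgroup G} (h : MinN V W) : W ≤ soc V := le_sSup h

theorem minN_conj {V W : Subgroup G} (h : MinN V W) {g : G} (hg : g ∈ normalizer (V : Set G)) :
    MinN V (W.map (MulAut.conj g).toMonoidHom) := by
  have hV : ∀ x ∈ V, g * x * g⁻¹ ∈ V := fun x hx => (mem_set_normalizer_iff.mp hg x).mp hx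
  have hV' : ∀ x ∈ V, g⁻¹ * x * g ∈ V := fun x hx => (mem_set_normalizer_iff.mp hg _).mpr (by
    rw [show g * (g⁻¹ * x * g) * g⁻¹ = x by group]; exact hx)
  have back : ∀ (X : Subgroup G), V ≤ normalizer (X : Set G) →
      V ≤ normalizer ((X.comap (MulAut.conj g).toMonoidHom : Subgroup G) : Set G) := by
    intro X hX
    refine norm_of_conj fun v hv x hx => ?_
    have := cmem hX (hV v hv) (show g * x * g⁻¹ ∈ X from hx)
    show g * (v * x * v⁻¹) * g⁻¹ ∈ X
    rw [show g * (v * x * v⁻¹) * g⁻¹ = g * v * g⁻¹ * (g * x * g⁻¹) * (g * v * g⁻¹)⁻¹ by group]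
    exact this
  have hinj : Function.Injective (MulAut.conj g).toMonoidHom := (MulAut.conj g).injective
  have hsur : Function.Surjective (MulAut.conj g).toMonoidHom := (MulAut.conj g).surjective
  refine ⟨?_, ?_, fun hb => h.2.2.1 ((map_eq_bot_iff_of_injective _ hinj).mp hb), ?_⟩
  · rintro _ ⟨x, hx, rfl⟩
    exact hV x (h.1 hx)
  · refine norm_of_conj fun v hv y hy => ?_
    obtain ⟨x, hx, rfl⟩ := hy
    refine ⟨(g⁻¹ * v * g) * x * (g⁻¹ * v * g)⁻¹, cmem h.2.1 (hV' v hv) hx, ?_⟩
    simp [mul_assoc]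
  · intro X hX hXn hXne
    have hle : X.comap (MulAut.conj g).toMonoidHom ≤ W := by
      intro x hx
      obtain ⟨y, hy, he⟩ := hX hx
      exact hinj he ▸ hy
    have := h.2.2.2 _ hle (back X hXn) (fun hb => hXne (by
      rw [← map_comap_eq_self_of_surjective hsur X, hb, Subgroup.map_bot]))
    rw [← this, map_comap_eq_self_of_surjective hsur X]

theorem soc_norm {M V : Subgroup G} (h : M ≤ normalizer (V : Set G)) : M ≤ normalizer (soc V : Set G) := by
  refine norm_of_conj fun g hg x hx => ?_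
  have : soc V ≤ (soc V).comap (MulAut.conj g).toMonoidHom :=
    sSup_le fun W hW y hy => minN_le_soc (minN_conj hW (h hg)) ⟨y, hy, rfl⟩
  exact this hx

theorem soc_self_norm (V : Subgroup G) : V ≤ normalizer (soc V : Set G) := soc_norm le_normalizer

/-- No nontrivial abelian normal subgroup. -/
def AbFree (V : Subgroup G) : Prop :=
  ∀ X ≤ V, V ≤ normalizer (X : Set G) → (∀ a ∈ X, ∀ b ∈ X, a * b = b * a) → X = ⊥

theorem cz_self_eq_bot {V : Subgroup G} (hV : AbFree V) {X : Subgroup G}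
    (hX : X ≤ V) (hn : V ≤ normalizer (X : Set G)) : X ⊓ cz V X = ⊥ :=
  hV _ (inf_le_left.trans hX) (norm_inf hn (cz_norm le_normalizer hn)) fun a ha b hb =>
    mem_centralizer_iff.mp hb.2.2 a ha.1

theorem cz_soc [Finite G] {V : Subgroup G} (hV : AbFree V) : cz V (soc V) = ⊥ := by
  by_contra hne
  have hn : V ≤ normalizer (cz V (soc V) : Set G) := cz_norm le_normalizer (soc_self_norm V)
  obtain ⟨W, hW, hWc⟩ := exists_minN inf_le_left hn hne
  exact hW.2.2.1 (hV W hW.1 hW.2.1 fun a ha b hb =>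
    mem_centralizer_iff.mp (hWc hb).2 a (minN_le_soc hW ha))

theorem soc_eq [Finite G] {A V : Subgroup G} (hAV : A ≤ V) (hn : V ≤ normalizer (A : Set G))
    (hV : AbFree V) : soc A = sSup {W | MinN V W ∧ W ≤ A} := by
  obtain ⟨S', hS'⟩ : ∃ S', S' = sSup {W | MinN V W ∧ W ≤ A} := ⟨_, rfl⟩
  rw [← hS']
  have hS'A : S' ≤ A := hS' ▸ sSup_le fun _ h => h.2
  have hS'n : V ≤ normalizer (S' : Set G) := by
    refine norm_of_conj fun g hg x hx => ?_
    have : S' ≤ S'.comap (MulAut.conj g).toMonoidHom := by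
      refine hS'.le.trans (sSup_le fun W hW y hy => ?_)
      exact (hS' ▸ le_sSup hW : W ≤ S') (cmem hW.1.2.1 hg hy)
    exact this hx
  apply le_antisymm
  · refine sSup_le fun U hU => ?_
    rcases hU.le_or (hAV.trans hS'n) with h | h
    · exact h
    · exfalso
      have hUc : U ≤ cz A S' := fun u hu => ⟨hU.1 hu, mem_centralizer_iff.mpr fun s hs =>
        (comm_of_disjoint (hS'A.trans hU.2.1) ((hU.1.trans hAV).trans hS'n) h hu hs).symm⟩
      have hcne : cz A S' ≠ ⊥ := fun hb => hU.2.2.1 (le_bot_iff.mp (hb ▸ hUc))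
      obtain ⟨W, hW, hWc⟩ := exists_minN (inf_le_left.trans hAV) (cz_norm hn hS'n) hcne
      have hWA : W ≤ A := fun w hw => (hWc hw).1
      exact hW.2.2.1 (hV W hW.1 hW.2.1 fun a ha b hb => mem_centralizer_iff.mp (hWc hb).2 a
        ((hS' ▸ le_sSup (show W ∈ {W | MinN V W ∧ W ≤ A} from ⟨hW, hWA⟩) : W ≤ S') ha))
  · refine hS'.le.trans (sSup_le fun W ⟨hW, hWA⟩ => ?_)
    obtain ⟨U, hU, hUW⟩ := exists_minN hWA (hAV.trans hW.2.1) hW.2.2.1
    rcases hW.le_or (soc_norm hn) with h | h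
    · exact h
    · exact absurd (le_bot_iff.mp (h ▸ le_inf hUW (minN_le_soc hU))) hU.2.2.1

/-- The `p`-core of `V` inside the ambient group. -/
def core (p : ℕ) (V : Subgroup G) : Subgroup G := (Cfsg.pCore p ↥V).map V.subtype

theorem core_le (p : ℕ) (V : Subgroup G) : core p V ≤ V := map_subtype_le _

theorem core_pgroup [Finite G] (p : ℕ) (V : Subgroup G) : IsPGroup p (core p V) :=
  pCore_isPGroup.map _

theorem le_core {p : ℕ} {V X : Subgroup G} (hXV : X ≤ V) (hn : V ≤ normalizer (X : Set G))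
    (hp : IsPGroup p X) : X ≤ core p V := by
  intro x hx
  exact ⟨⟨x, hXV hx⟩, le_pCore (normal_subgroupOf_of_le_normalizer hn)
    (hp.comap_of_injective V.subtype V.subtype_injective) hx, rfl⟩

theorem core_norm [Finite G] (p : ℕ) {M V : Subgroup G} (hM : M ≤ normalizer (V : Set G)) :
    M ≤ normalizer (core p V : Set G) := by
  refine norm_of_conj fun g hg x hx => ?_
  have hn : V ≤ normalizer (((core p V).map (MulAut.conj g).toMonoidHom : Subgroup G) : Set G) := by
    refine norm_of_conj fun v hv y hy => ?_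
    obtain ⟨z, hz, rfl⟩ := hy
    have hv' : g⁻¹ * v * g ∈ V := by
      have := cmem hM (inv_mem hg) hv
      rwa [inv_inv] at this
    have hcn : V ≤ normalizer (core p V : Set G) := by
      refine norm_of_conj fun a ha b hb => ?_
      obtain ⟨b, hb, rfl⟩ := hb
      exact ⟨⟨a, ha⟩ * b * ⟨a, ha⟩⁻¹, (pCore_isNormal (p := p) (G := ↥V)).conj_mem b hb _, rfl⟩
    refine ⟨(g⁻¹ * v * g) * z * (g⁻¹ * v * g)⁻¹, cmem hcn hv' hz, ?_⟩
    simp [mul_assoc]
  refine le_core ?_ hn ((core_pgroup p V).map _) ⟨x, hx, rfl⟩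
  rintro _ ⟨z, hz, rfl⟩
  exact cmem hM hg (core_le p V hz)

theorem abFree_of_cores [Finite G] {V : Subgroup G} (h : ∀ p, p.Prime → core p V = ⊥) : AbFree V := by
  intro X hXV hn hab
  by_contra hne
  haveI : Nontrivial X := (nontrivial_iff_ne_bot X).mpr hne
  obtain ⟨p, hp, hd⟩ := Nat.exists_prime_and_dvd (Finite.one_lt_card (α := X)).ne'
  haveI := Fact.mk hp
  obtain ⟨x, hx⟩ := exists_prime_orderOf_dvd_card' p hd
  let Xp : Subgroup G :=
    { carrier := {y | y ∈ X ∧ y ^ p = 1}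
      one_mem' := ⟨one_mem X, one_pow p⟩
      mul_mem' := fun {a b} ha hb => ⟨mul_mem ha.1 hb.1, by
        rw [(show Commute a b from hab a ha.1 b hb.1).mul_pow, ha.2, hb.2, one_mul]⟩
      inv_mem' := fun {a} ha => ⟨inv_mem ha.1, by rw [inv_pow, ha.2, inv_one]⟩ }
  have hXp : Xp ≤ core p V := le_core (fun y hy => hXV hy.1)
    (norm_of_conj fun g hg y hy => ⟨cmem hn hg hy.1, by rw [conj_pow, hy.2, mul_one, mul_inv_cancel]⟩)
    (fun y => ⟨1, Subtype.ext (by simpa using y.2.2)⟩)
  rw [h p hp] at hXp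
  have hxp : (x : G) ∈ Xp := ⟨x.2, by
    rw [← Subgroup.orderOf_coe] at hx
    rw [← hx, pow_orderOf_eq_one]⟩
  have hx1 : x = 1 := Subtype.ext (mem_bot.mp (hXp hxp))
  rw [hx1, orderOf_one] at hx
  exact hp.one_lt.ne hx

theorem core_eq_bot_of_abFree [Finite G] {V : Subgroup G} (h : AbFree V) (p : ℕ) [hp : Fact p.Prime] :
    core p V = ⊥ := by
  by_contra hne
  have hcn : V ≤ normalizer (core p V : Set G) := core_norm p le_normalizer
  haveI : Nontrivial (core p V) := (nontrivial_iff_ne_bot _).mpr hne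
  haveI hz : Nontrivial (center (core p V)) := (core_pgroup p V).center_nontrivial
  have hc : core p V ⊓ centralizer (core p V : Set G) = ⊥ :=
    h _ (inf_le_left.trans (core_le p V)) (norm_inf hcn (by
      refine norm_of_conj fun g hg z hz => mem_centralizer_iff.mpr fun x hx => ?_
      have h1 := mem_centralizer_iff.mp hz (g⁻¹ * x * g)
        (by have h := cmem hcn (inv_mem hg) hx; rwa [inv_inv] at h)
      calc x * (g * z * g⁻¹) = g * (g⁻¹ * x * g * z) * g⁻¹ := by group
        _ = g * (z * (g⁻¹ * x * g)) * g⁻¹ := by rw [h1]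
        _ = g * z * g⁻¹ * x := by group))
      fun a ha b hb => mem_centralizer_iff.mp hb.2 a ha.1
  obtain ⟨z, hz1⟩ := exists_ne (1 : center (core p V))
  refine hz1 (Subtype.ext (Subtype.ext (mem_bot.mp (hc.le ⟨z.1.2, mem_centralizer_iff.mpr ?_⟩))))
  exact fun y hy => congrArg Subtype.val (mem_center_iff.mp z.2 ⟨y, hy⟩)

theorem abFree_of_normal [Finite G] {A V : Subgroup G} (hAV : A ≤ V) (hn : V ≤ normalizer (A : Set G))
    (hV : AbFree V) : AbFree A := by
  refine abFree_of_cores fun p hp => ?_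
  haveI := Fact.mk hp
  have h := le_core ((core_le p A).trans hAV) (core_norm p hn) (core_pgroup p A)
  rw [core_eq_bot_of_abFree hV p] at h
  exact le_bot_iff.mp h

theorem card_sup_le [Finite G] {X Y : Subgroup G} (h : ∀ x ∈ X, ∀ y ∈ Y, x * y = y * x) :
    Nat.card (X ⊔ Y : Subgroup G) ≤ Nat.card X * Nat.card Y := by
  have hc : ∀ (x : X) (y : Y), Commute (X.subtype x) (Y.subtype y) := fun x y => h x x.2 y y.2
  let f : ↥X × ↥Y →* G := MonoidHom.noncommCoprod X.subtype Y.subtype hc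
  have hr : f.range = X ⊔ Y := by
    show (MonoidHom.noncommCoprod X.subtype Y.subtype hc).range = _
    rw [MonoidHom.noncommCoprod_range, range_subtype, range_subtype]
  rw [← hr, ← Nat.card_prod]
  exact Nat.card_le_card_of_surjective f.rangeRestrict f.rangeRestrict_surjective

theorem card_mul_le [Finite G] {X Y W : Subgroup G} (h : ∀ x ∈ X, ∀ y ∈ Y, x * y = y * x)
    (hd : X ⊓ Y = ⊥) (hX : X ≤ W) (hY : Y ≤ W) : Nat.card X * Nat.card Y ≤ Nat.card W := by
  rw [← Nat.card_prod]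
  refine Nat.card_le_card_of_injective (fun z : ↥X × ↥Y => (⟨z.1 * z.2, mul_mem (hX z.1.2) (hY z.2.2)⟩ : W)) ?_
  rintro ⟨x, y⟩ ⟨x', y'⟩ e
  have e' : (x : G) * y = x' * y' := congrArg Subtype.val e
  have h1 : (x' : G)⁻¹ * x ∈ X ⊓ Y := by
    refine ⟨mul_mem (X.inv_mem x'.2) x.2, ?_⟩
    rw [show (x' : G)⁻¹ * x = y' * (y : G)⁻¹ by
      rw [eq_mul_inv_iff_mul_eq, mul_assoc, e', inv_mul_cancel_left]]
    exact mul_mem y'.2 (Y.inv_mem y.2)
  rw [hd, mem_bot, inv_mul_eq_one] at h1
  rw [h1, mul_left_cancel_iff] at e'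
  exact Prod.ext (Subtype.ext h1.symm) (Subtype.ext e')

section Transport

variable {M N : Subgroup G} (e : ↥M ≃* ↥N)

/-- Transport of a subgroup of `M` to `N`. -/
def tr (U : Subgroup G) : Subgroup G := ((U.subgroupOf M).map e.toMonoidHom).map N.subtype

theorem mem_tr {U : Subgroup G} {y : G} : y ∈ tr e U ↔ ∃ x : M, (x : G) ∈ U ∧ (e x : G) = y := by
  constructor
  · rintro ⟨_, ⟨x, hx, rfl⟩, rfl⟩; exact ⟨x, hx, rfl⟩
  · rintro ⟨x, hx, rfl⟩; exact ⟨_, ⟨x, hx, rfl⟩, rfl⟩

theorem tr_le (U : Subgroup G) : tr e U ≤ N := map_subtype_le _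

theorem tr_mono {U V : Subgroup G} (h : U ≤ V) : tr e U ≤ tr e V :=
  map_mono (map_mono fun _ hx => h hx)

theorem tr_self : tr e M = N := by
  refine le_antisymm (tr_le e M) fun y hy => (mem_tr e).mpr ⟨e.symm ⟨y, hy⟩, (e.symm ⟨y, hy⟩).2, ?_⟩
  rw [e.apply_symm_apply]

theorem tr_tr {U : Subgroup G} (h : U ≤ M) : tr e.symm (tr e U) = U := by
  ext x
  rw [mem_tr]
  constructor
  · rintro ⟨z, hz, rfl⟩
    obtain ⟨w, hw, he⟩ := (mem_tr e).mp hz
    rw [show z = e w from Subtype.ext he.symm, e.symm_apply_apply]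
    exact hw
  · intro hx
    exact ⟨e ⟨x, h hx⟩, (mem_tr e).mpr ⟨_, hx, rfl⟩, by rw [e.symm_apply_apply]⟩

theorem card_tr {U : Subgroup G} (h : U ≤ M) : Nat.card (tr e U) = Nat.card U := by
  rw [tr, card_map_of_injective N.subtype_injective, card_map_of_injective (f := e.toMonoidHom) e.injective,
    Nat.card_congr (subgroupOfEquivOfLe h).toEquiv]

theorem tr_norm {U V : Subgroup G} (hV : V ≤ M) (hU : U ≤ M) (h : V ≤ normalizer (U : Set G)) :
    tr e V ≤ normalizer (tr e U : Set G) := by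
  refine norm_of_conj fun g hg x hx => ?_
  obtain ⟨v, hv, rfl⟩ := (mem_tr e).mp hg
  obtain ⟨u, hu, rfl⟩ := (mem_tr e).mp hx
  exact (mem_tr e).mpr ⟨v * u * v⁻¹, cmem h hv hu, by simp⟩

theorem tr_relIndex {U V : Subgroup G} (hV : V ≤ M) : (tr e U).relIndex (tr e V) = U.relIndex V := by
  rw [tr, tr, relIndex_map_map_of_injective _ _ N.subtype_injective,
    relIndex_map_map_of_injective (f := e.toMonoidHom) _ _ e.injective, relIndex_subgroupOf hV]

theorem tr_ne_bot {U : Subgroup G} (h : U ≤ M) (hne : U ≠ ⊥) : tr e U ≠ ⊥ := by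
  intro hb
  refine hne ?_
  rw [← tr_tr e h, hb, eq_bot_iff]
  intro y hy
  obtain ⟨x, hx, rfl⟩ := (mem_tr e.symm).mp hy
  rw [show x = 1 from Subtype.ext (mem_bot.mp hx), map_one]
  exact one_mem _

theorem minN_tr {W : Subgroup G} (h : MinN M W) : MinN N (tr e W) := by
  refine ⟨tr_le e W, (tr_self e).ge.trans (tr_norm e le_rfl h.1 h.2.1), tr_ne_bot e h.1 h.2.2.1, ?_⟩
  intro X hX hXn hXne
  have hXN : X ≤ N := hX.trans (tr_le e W)
  have := h.2.2.2 (tr e.symm X) (by rw [← tr_tr e h.1]; exact tr_mono e.symm hX)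
    ((tr_self e.symm).ge.trans (tr_norm e.symm le_rfl hXN hXn)) (tr_ne_bot e.symm hXN hXne)
  rw [← this]
  exact (tr_tr e.symm hXN).symm

include e in
theorem card_soc_le [Finite G] : Nat.card (soc M) ≤ Nat.card (soc N) := by
  rw [← card_tr e (soc_le M)]
  refine card_le_of_le ?_
  intro y hy
  obtain ⟨x, hx, rfl⟩ := (mem_tr e).mp hy
  have key : soc M ≤ tr e.symm (soc N) := sSup_le fun W hW => by
    rw [← tr_tr e hW.1]
    exact tr_mono e.symm (minN_le_soc (minN_tr e hW))
  obtain ⟨z, hz, he⟩ := (mem_tr e.symm).mp (key hx)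
  rw [show x = e.symm z from Subtype.ext he.symm, e.apply_symm_apply]
  exact hz

/-- `V` has a chain of `k` simple sections of order `s`. -/
def Cnt (s : ℕ) : ℕ → Subgroup G → Prop
  | 0, _ => True
  | k + 1, V => ∃ W U : Subgroup G, W ≤ V ∧ U ≤ W ∧ W ≤ normalizer (U : Set G) ∧ U.relIndex W = s ∧
      (∀ X, U ≤ X → X ≤ W → W ≤ normalizer (X : Set G) → X = U ∨ X = W) ∧ Cnt s k U

theorem Cnt.mono {s k : ℕ} {V V' : Subgroup G} (hle : V ≤ V') (h : Cnt s k V) : Cnt s k V' := by
  cases k with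
  | zero => trivial
  | succ k =>
    obtain ⟨W, U, hW, h'⟩ := h
    exact ⟨W, U, hW.trans hle, h'⟩

theorem Cnt.transport {s k : ℕ} {V : Subgroup G} (hV : V ≤ M) (h : Cnt s k V) : Cnt s k (tr e V) := by
  induction k generalizing V with
  | zero => trivial
  | succ k ih =>
    obtain ⟨W, U, hW, hUW, hn, hi, hs, hc⟩ := h
    have hWM := hW.trans hV
    refine ⟨tr e W, tr e U, tr_mono e hW, tr_mono e hUW, tr_norm e hWM (hUW.trans hWM) hn, ?_, ?_,
      ih (hUW.trans hWM) hc⟩
    · rw [tr_relIndex e hWM, hi]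
    · intro X h1 h2 h3
      have hXN : X ≤ N := h2.trans (tr_le e W)
      rcases hs (tr e.symm X) (by rw [← tr_tr e (hUW.trans hWM)]; exact tr_mono e.symm h1)
        (by rw [← tr_tr e hWM]; exact tr_mono e.symm h2)
        (by
          have h := tr_norm e.symm (tr_le e W) hXN h3
          rwa [tr_tr e hWM] at h) with h | h
      · left; rw [← h]; exact (tr_tr e.symm hXN).symm
      · right; rw [← h]; exact (tr_tr e.symm hXN).symm

end Transport

theorem relNe [Finite G] {H K : Subgroup G} : H.relIndex K ≠ 0 := index_ne_zero_of_finite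

theorem Cnt.lt_card [Finite G] {s k : ℕ} (hs : 1 < s) {V : Subgroup G} (h : Cnt s k V) : k < Nat.card V := by
  induction k generalizing V with
  | zero => exact Nat.card_pos
  | succ k ih =>
    obtain ⟨W, U, hW, hUW, -, hi, -, hc⟩ := h
    have h1 : Nat.card U < Nat.card W := by
      refine lt_of_le_of_ne (card_le_of_le hUW) fun he => ?_
      rw [eq_of_le_of_card_ge hUW he.ge, relIndex_self] at hi
      omega
    have := ih hc
    have := card_le_of_le hW
    omega

theorem Cnt.shift [Finite G] {s k : ℕ} {A V : Subgroup G} (hAV : A ≤ V) (hn : V ≤ normalizer (A : Set G))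
    (hi : A.relIndex V < s) (h : Cnt s k V) : Cnt s k A := by
  induction k generalizing A V with
  | zero => trivial
  | succ k ih =>
    obtain ⟨W, U, hW, hUW, hUn, hs, hsimp, hc⟩ := h
    have hWA : W ≤ normalizer ((W ⊓ A : Subgroup G) : Set G) := norm_inf le_normalizer (hW.trans hn)
    have key : ∀ X : Subgroup G, X ≤ W → W ⊓ A ≤ normalizer (X : Set G) →
        W ⊓ A ⊔ U = W → W ≤ normalizer ((X ⊔ U : Subgroup G) : Set G) := by
      intro X hX hXn htop
      rw [← htop]
      refine sup_le (fun a ha => ?_) (le_sup_right.trans le_normalizer)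
      have haW : a ∈ W := ha.1
      have haX := hXn ha
      have haU := hUn haW
      refine mem_set_normalizer_iff.mpr fun y => ⟨fun hy => ?_, fun hy => ?_⟩
      · have : X ⊔ U ≤ (X ⊔ U).comap (MulAut.conj a).toMonoidHom := sup_le
          (fun x hx => mem_sup_left ((mem_set_normalizer_iff.mp haX x).mp hx))
          (fun x hx => mem_sup_right ((mem_set_normalizer_iff.mp haU x).mp hx))
        exact this hy
      · have : X ⊔ U ≤ (X ⊔ U).comap (MulAut.conj a⁻¹).toMonoidHom := sup_le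
          (fun x hx => mem_sup_left ((mem_set_normalizer_iff.mp (inv_mem haX) x).mp hx))
          (fun x hx => mem_sup_right ((mem_set_normalizer_iff.mp (inv_mem haU) x).mp hx))
        have h' := this hy
        simpa [mul_assoc] using h'
    have hXn : W ≤ normalizer ((W ⊓ A ⊔ U : Subgroup G) : Set G) := by
      intro w hw
      refine mem_set_normalizer_iff.mpr fun y => ?_
      have hc : ∀ g ∈ W, ∀ y ∈ W ⊓ A ⊔ U, g * y * g⁻¹ ∈ W ⊓ A ⊔ U := by
        intro g hg y hy
        have : W ⊓ A ⊔ U ≤ (W ⊓ A ⊔ U).comap (MulAut.conj g).toMonoidHom := sup_le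
          (fun x hx => mem_sup_left (cmem hWA hg hx)) (fun x hx => mem_sup_right (cmem hUn hg hx))
        exact this hy
      refine ⟨hc w hw y, fun hy => ?_⟩
      have := hc w⁻¹ (inv_mem hw) _ hy
      simpa [mul_assoc] using this
    rcases hsimp _ le_sup_right (sup_le inf_le_left hUW) hXn with h | h
    · exfalso
      have hle : W ⊓ A ≤ U := h ▸ le_sup_left
      have h1 : U.relIndex W ≤ (W ⊓ A).relIndex W :=
        Nat.le_of_dvd (Nat.pos_of_ne_zero (relNe)) (relIndex_dvd_of_le_left W hle)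
      have h2 : (W ⊓ A).relIndex W ≤ A.relIndex V := by
        rw [inf_relIndex_left]
        exact relIndex_le_of_le_right hW relNe
      omega
    · refine ⟨W ⊓ A, U ⊓ A, inf_le_right, inf_le_inf_right A hUW,
        norm_inf (inf_le_left.trans hUn) (inf_le_right.trans le_normalizer), ?_, ?_, ?_⟩
      · have h1 : (U ⊓ A).relIndex (W ⊓ A) = U.relIndex (W ⊓ A) := by
          refine le_antisymm ?_ ?_
          · refine Nat.le_of_dvd (Nat.pos_of_ne_zero relNe) (dvd_of_eq ?_)
            rw [← inf_relIndex_right, ← inf_relIndex_right U]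
            congr 1
            rw [inf_assoc, inf_eq_right.mpr (inf_le_right : W ⊓ A ≤ A)]
          · rw [← inf_relIndex_right, ← inf_relIndex_right (U ⊓ A)]
            rw [inf_assoc, inf_eq_right.mpr (inf_le_right : W ⊓ A ≤ A)]
        haveI : (U.subgroupOf W).Normal := normal_subgroupOf_of_le_normalizer hUn
        rw [h1, ← relIndex_subgroupOf (inf_le_left : W ⊓ A ≤ W), ← relIndex_sup_right,
          ← subgroupOf_sup inf_le_left hUW, h, subgroupOf_self, relIndex_top_right]
        rw [← hs, Subgroup.relIndex]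
      · intro X hUX hXW hXn'
        rcases hsimp (X ⊔ U) le_sup_right (sup_le (hXW.trans inf_le_left) hUW)
          (key X (hXW.trans inf_le_left) hXn' h) with h' | h'
        · left
          exact le_antisymm (le_inf (h' ▸ le_sup_left) (hXW.trans inf_le_right)) hUX
        · right
          refine le_antisymm hXW fun w hw => ?_
          have hw' : w ∈ ((X ⊔ U : Subgroup G) : Set G) := h'.ge hw.1
          rw [coe_mul_of_left_le_normalizer_right X U ((hXW.trans inf_le_left).trans hUn)] at hw'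
          obtain ⟨x, hx, u, hu, rfl⟩ := hw'
          refine mul_mem hx (hUX ⟨hu, ?_⟩)
          have := mul_mem (A.inv_mem (hXW hx).2) hw.2
          rwa [inv_mul_cancel_left] at this
      · refine ih inf_le_left (norm_inf le_normalizer ((hUW.trans hW).trans hn)) ?_ hc
        rw [inf_relIndex_left]
        exact lt_of_le_of_lt (relIndex_le_of_le_right (hUW.trans hW) relNe) hi

end Cfsg.Agent.Invol.SubAlt
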