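import Mathlib
import Cfsg.Prelude.Def_LieRecognition
import Cfsg.Agent.Lib.Invol.SuzukiTypeA

/-!
Recognition of the 2-groups of type A by their squaring map.
-/

set_option autoImplicit false

namespace Cfsg.Agent.Invol.TypeA

/-- `P` is a central extension of `F` by `F` with squaring map `a ↦ a φ(a)`. -/
structure IsModel {P : Type*} [Group P] {F : Type*} [Field F] (φ : F ≃+* F) (π : P → F) (ι : F → P) : Prop where
  map_mul : ∀ x y, π (x * y) = π x + π y
  surj : Function.Surjective π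
  ker : ∀ x, π x = 0 ↔ ∃ v, ι v = x
  map_add : ∀ v w, ι (v + w) = ι v * ι w
  inj : Function.Injective ι
  central : ∀ v x, ι v * x = x * ι v
  sq : ∀ x, x * x = ι (π x * φ (π x))

namespace IsModel

variable {P : Type*} [Group P] {F : Type*} [Field F] {φ : F ≃+* F} {π : P → F} {ι : F → P}

theorem map_zero (h : IsModel φ π ι) : ι 0 = 1 := by
  have h1 := h.map_add 0 0
  rw [add_zero] at h1
  exact mul_eq_left.1 h1.symm

theorem map_one (h : IsModel φ π ι) : π 1 = 0 := (h.ker 1).2 ⟨0, h.map_zero⟩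

theorem cm_eq [CharP F 2] (h : IsModel φ π ι) (x y : P) :
    cm y x = ι ((π x + π y) * φ (π x + π y) + π x * φ (π x) + π y * φ (π y)) := by
  have hinv : π x⁻¹ = π x ∧ π y⁻¹ = π y := by
    constructor
    · have h1 := h.map_mul x x⁻¹
      rw [mul_inv_cancel, h.map_one] at h1
      exact (CharTwo.add_eq_zero.1 h1.symm).symm
    · have h1 := h.map_mul y y⁻¹
      rw [mul_inv_cancel, h.map_one] at h1
      exact (CharTwo.add_eq_zero.1 h1.symm).symm
  obtain ⟨c, hc⟩ : ∃ c, ι c = cm y x := (h.ker _).1 (by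
    simp only [cm, h.map_mul, hinv.1, hinv.2]
    linear_combination (π x + π y) * CharTwo.two_eq_zero (R := F))
  have h1 := h.sq (x * y)
  rw [show x * y * (x * y) = x * cm y x * x⁻¹ * (x * x) * (y * y) by simp only [cm]; group, ← hc,
    ← h.central c x, mul_inv_cancel_right, h.sq, h.sq, ← h.map_add, ← h.map_add, h.map_mul] at h1
  rw [← hc]
  congr 1
  linear_combination h.inj h1 - (π x * φ (π x) + π y * φ (π y)) * CharTwo.two_eq_zero (R := F)

theorem card [Finite P] [Finite F] (h : IsModel φ π ι) : Nat.card P = Nat.card F * Nat.card F := by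
  obtain ⟨s, hs⟩ := h.surj.hasRightInverse
  rw [← Nat.card_prod]
  refine (Nat.card_congr (Equiv.ofBijective (fun vw : F × F => s vw.1 * ι vw.2) ⟨?_, ?_⟩)).symm
  · rintro ⟨v, w⟩ ⟨v', w'⟩ hvw
    have h1 := congrArg π hvw
    simp only [h.map_mul, hs v, hs v', (h.ker _).2 ⟨w, rfl⟩, (h.ker _).2 ⟨w', rfl⟩, add_zero] at h1
    subst h1
    exact Prod.ext rfl (h.inj (mul_left_cancel hvw))
  · intro x
    have h1 : π ((s (π x))⁻¹ * x) = 0 := by
      have h2 := h.map_mul (s (π x)) ((s (π x))⁻¹ * x)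
      rw [mul_inv_cancel_left, hs (π x)] at h2
      linear_combination -h2
    obtain ⟨w, hw⟩ := (h.ker _).1 h1
    exact ⟨(π x, w), by simp only [hw, mul_inv_cancel_left]⟩

end IsModel

/-- Two models with the same squaring map are isomorphic. -/
theorem nonempty_mulEquiv {P Q : Type*} [Group P] [Group Q] [Finite P] [Finite Q] {F : Type*} [Field F] [Finite F]
    [CharP F 2] {φ : F ≃+* F} {π : P → F} {ι : F → P} {π' : Q → F} {ι' : F → Q} (h : IsModel φ π ι)
    (h' : IsModel φ π' ι') : Nonempty (P ≃* Q) := by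
  classical
  let Fib : Subgroup (P × Q) :=
    { carrier := {x | π x.1 = π' x.2}
      one_mem' := by show π 1 = π' 1; rw [h.map_one, h'.map_one]
      mul_mem' := fun {a b} ha hb => by
        show π (a.1 * b.1) = π' (a.2 * b.2)
        rw [h.map_mul, h'.map_mul, show π a.1 = π' a.2 from ha, show π b.1 = π' b.2 from hb]
      inv_mem' := fun {a} ha => by
        show π a.1⁻¹ = π' a.2⁻¹
        have h1 := h.map_mul a.1 a.1⁻¹
        have h2 := h'.map_mul a.2 a.2⁻¹
        rw [mul_inv_cancel, h.map_one] at h1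
        rw [mul_inv_cancel, h'.map_one] at h2
        rw [show π a.1 = π' a.2 from ha] at h1
        linear_combination h2 - h1 }
  let Δ : Subgroup (P × Q) :=
    { carrier := Set.range fun v => (ι v, ι' v)
      one_mem' := ⟨0, by simp [h.map_zero, h'.map_zero, Prod.ext_iff]⟩
      mul_mem' := by
        rintro _ _ ⟨v, rfl⟩ ⟨w, rfl⟩
        exact ⟨v + w, by simp [h.map_add, h'.map_add]⟩
      inv_mem' := by
        rintro _ ⟨v, rfl⟩
        refine ⟨v, eq_inv_of_mul_eq_one_left ?_⟩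
        simp [← h.map_add, ← h'.map_add, CharTwo.add_self_eq_zero, h.map_zero, h'.map_zero] }
  have hΔc : Nat.card Δ = Nat.card F := by
    refine (Nat.card_congr (Equiv.ofBijective (fun v => (⟨(ι v, ι' v), v, rfl⟩ : Δ)) ⟨fun a b hab => ?_, ?_⟩)).symm
    · exact h.inj (congrArg (fun z : Δ => z.1.1) hab)
    · rintro ⟨_, v, rfl⟩; exact ⟨v, rfl⟩
  have hsq : ∀ a ∈ Fib, a * a ∈ Δ := fun a ha => ⟨π a.1 * φ (π a.1), by
    refine Prod.ext (h.sq a.1).symm ?_
    show ι' _ = a.2 * a.2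
    rw [h'.sq, show π a.1 = π' a.2 from ha]⟩
  have hcm : ∀ a ∈ Fib, ∀ b ∈ Fib, cm a b ∈ Δ := fun a ha b hb => by
    refine ⟨(π b.1 + π a.1) * φ (π b.1 + π a.1) + π b.1 * φ (π b.1) + π a.1 * φ (π a.1),
      Prod.ext (h.cm_eq b.1 a.1).symm ?_⟩
    show ι' _ = cm a.2 b.2
    rw [h'.cm_eq b.2 a.2, show π a.1 = π' a.2 from ha, show π b.1 = π' b.2 from hb]
  letI : Algebra (ZMod 2) F := ZMod.algebra _ 2
  haveI : Module.Finite (ZMod 2) F := Module.Finite.of_finite
  let bas := Module.finBasis (ZMod 2) F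
  choose g hg using fun i => h.surj (bas i)
  choose g' hg' using fun i => h'.surj (bas i)
  have hind : ∀ s : Finset (Fin (Module.finrank (ZMod 2) F)), ∃ E : Subgroup (P × Q), Δ ≤ E ∧ E ≤ Fib ∧
      (∀ i ∈ s, (g i, g' i) ∈ E) ∧ Nat.card E ≤ 2 ^ s.card * Nat.card F := by
    intro s
    induction s using Finset.induction_on with
    | empty =>
      refine ⟨Δ, le_rfl, ?_, by simp, by simp [hΔc]⟩
      rintro _ ⟨v, rfl⟩
      show π (ι v) = π' (ι' v)
      rw [(h.ker _).2 ⟨v, rfl⟩, (h'.ker _).2 ⟨v, rfl⟩]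
    | insert i s his ih =>
      obtain ⟨E, hΔE, hEF, hgen, hcard⟩ := ih
      set b : P × Q := (g i, g' i) with hb
      have hbF : b ∈ Fib := show π (g i) = π' (g' i) by rw [hg, hg']
      have hbb : b * b ∈ E := hΔE (hsq b hbF)
      have key : ∀ x ∈ Fib, ∀ y ∈ Fib, x * y ∈ E ↔ y * x ∈ E := by
        intro x hx y hy
        rw [show x * y = cm x y * (y * x) by simp only [cm]; group]
        exact Subgroup.mul_mem_cancel_left _ (hΔE (hcm x hx y hy))
      let E' : Subgroup (P × Q) :=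
        { carrier := {x | x ∈ Fib ∧ (x ∈ E ∨ x * b ∈ E)}
          one_mem' := ⟨Fib.one_mem, Or.inl E.one_mem⟩
          mul_mem' := by
            rintro x y ⟨hxF, hx⟩ ⟨hyF, hy⟩
            refine ⟨Fib.mul_mem hxF hyF, ?_⟩
            rcases hx with hx | hx <;> rcases hy with hy | hy
            · exact Or.inl (E.mul_mem hx hy)
            · exact Or.inr (by rw [mul_assoc]; exact E.mul_mem hx hy)
            · refine Or.inr ?_
              rw [mul_assoc, show y * b = cm y b * (b * y) by simp only [cm]; group]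
              have hc := hcm y hyF b hbF
              obtain ⟨v, hv⟩ := hc
              have hcomm : ∀ z : P × Q, z * cm y b = cm y b * z := fun z => by
                rw [← hv]; exact Prod.ext (h.central v z.1).symm (h'.central v z.2).symm
              rw [← mul_assoc, hcomm x, mul_assoc, ← mul_assoc x b y]
              exact E.mul_mem (hΔE ⟨v, hv⟩) (E.mul_mem hx hy)
            · refine Or.inl ?_
              have h1 : x * b * (b * y) ∈ E := E.mul_mem hx ((key y hyF b hbF).1 hy)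
              rw [show x * b * (b * y) = x * (b * b) * y by group] at h1
              obtain ⟨v, hv⟩ := hsq b hbF
              have h2 : x * (b * b) = b * b * x := by
                rw [← hv]; exact Prod.ext (h.central v x.1).symm (h'.central v x.2).symm
              rw [h2, mul_assoc] at h1
              exact (Subgroup.mul_mem_cancel_left _ hbb).1 h1
          inv_mem' := by
            rintro x ⟨hxF, hx⟩
            refine ⟨Fib.inv_mem hxF, ?_⟩
            rcases hx with hx | hx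
            · exact Or.inl (E.inv_mem hx)
            · refine Or.inr ?_
              have h1 := E.inv_mem hx
              rw [mul_inv_rev] at h1
              have h2 : b * b * (b⁻¹ * x⁻¹) ∈ E := E.mul_mem hbb h1
              rw [show b * b * (b⁻¹ * x⁻¹) = b * x⁻¹ by group] at h2
              exact (key b hbF x⁻¹ (Fib.inv_mem hxF)).1 h2 }
      refine ⟨E', fun x hx => ⟨hEF (hΔE hx), Or.inl (hΔE hx)⟩, fun x hx => hx.1, ?_, ?_⟩
      · intro j hj
        rcases Finset.mem_insert.1 hj with rfl | hj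
        · exact ⟨hbF, Or.inr hbb⟩
        · exact ⟨hEF (hgen j hj), Or.inl (hgen j hj)⟩
      · have h1 : (E' : Set (P × Q)) ⊆ (E : Set (P × Q)) ∪ (fun x => x * b⁻¹) '' (E : Set (P × Q)) := by
          rintro x ⟨-, hx | hx⟩
          · exact Or.inl hx
          · exact Or.inr ⟨_, hx, mul_inv_cancel_right x b⟩
        have h2 := (Set.ncard_le_ncard h1).trans (Set.ncard_union_le _ _)
        have h3 := Set.ncard_image_le (f := fun x => x * b⁻¹) (Set.toFinite (E : Set (P × Q)))
        simp only [← Nat.card_coe_set_eq, SetLike.coe_sort_coe] at h2 h3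
        rw [Finset.card_insert_of_notMem his, pow_succ]
        linarith
  obtain ⟨E, hΔE, hEF, hgen, hcard⟩ := hind Finset.univ
  have hcard' : Nat.card E ≤ Nat.card F * Nat.card F := by
    refine hcard.trans_eq ?_
    rw [Finset.card_univ, Fintype.card_fin, Module.natCard_eq_pow_finrank (K := ZMod 2) (V := F), Nat.card_zmod]
  let img : AddSubgroup F :=
    { carrier := {v | ∃ a ∈ E, π a.1 = v}
      zero_mem' := ⟨1, E.one_mem, h.map_one⟩
      add_mem' := by
        rintro _ _ ⟨a, ha, rfl⟩ ⟨b, hb, rfl⟩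
        exact ⟨a * b, E.mul_mem ha hb, h.map_mul _ _⟩
      neg_mem' := by
        rintro _ ⟨a, ha, rfl⟩
        exact ⟨a, ha, (CharTwo.neg_eq _).symm⟩ }
  have himg : ∀ v, ∃ a ∈ E, π a.1 = v := by
    intro v
    have h1 : v ∈ AddSubgroup.toZModSubmodule 2 img := by
      have h2 : Submodule.span (ZMod 2) (Set.range bas) ≤ AddSubgroup.toZModSubmodule 2 img := by
        rw [Submodule.span_le]
        rintro _ ⟨i, rfl⟩
        exact ⟨(g i, g' i), hgen i (Finset.mem_univ i), hg i⟩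
      exact h2 (by rw [bas.span_eq]; exact Submodule.mem_top)
    exact h1
  have himg' : ∀ v, ∃ a ∈ E, π' a.2 = v := fun v => by
    obtain ⟨a, ha, hav⟩ := himg v
    exact ⟨a, ha, (hEF ha).symm.trans hav⟩
  let f₁ : E →* P := (MonoidHom.fst P Q).comp E.subtype
  let f₂ : E →* Q := (MonoidHom.snd P Q).comp E.subtype
  have hs₁ : Function.Surjective f₁ := fun x => by
    obtain ⟨a, ha, hax⟩ := himg (π x)
    obtain ⟨v, hv⟩ := (h.ker (a.1⁻¹ * x)).1 (by
      have h2 := h.map_mul a.1 (a.1⁻¹ * x)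
      rw [mul_inv_cancel_left, hax] at h2
      linear_combination -h2)
    exact ⟨⟨a * (ι v, ι' v), E.mul_mem ha (hΔE ⟨v, rfl⟩)⟩, by simp [f₁, hv]⟩
  have hs₂ : Function.Surjective f₂ := fun x => by
    obtain ⟨a, ha, hax⟩ := himg' (π' x)
    obtain ⟨v, hv⟩ := (h'.ker (a.2⁻¹ * x)).1 (by
      have h2 := h'.map_mul a.2 (a.2⁻¹ * x)
      rw [mul_inv_cancel_left, hax] at h2
      linear_combination -h2)
    exact ⟨⟨a * (ι v, ι' v), E.mul_mem ha (hΔE ⟨v, rfl⟩)⟩, by simp [f₂, hv]⟩
  have hb₁ : Function.Bijective f₁ := Function.Surjective.bijective_of_nat_card_le hs₁ (by rw [h.card]; exact hcard')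
  have hb₂ : Function.Bijective f₂ := Function.Surjective.bijective_of_nat_card_le hs₂ (by rw [h'.card]; exact hcard')
  exact ⟨(MulEquiv.ofBijective f₁ hb₁).symm.trans (MulEquiv.ofBijective f₂ hb₂)⟩

section Standard

variable {F : Type*} [Field F] [CharP F 2]

/-- the element with rows `(1,0,0)`, `(x,1,0)`, `(y, φ x, 1)` -/
def mk (φ : F ≃+* F) (x y : F) : GL (Fin 3) F :=
  ⟨!![1, 0, 0; x, 1, 0; y, φ x, 1], !![1, 0, 0; x, 1, 0; y + φ x * x, φ x, 1],
    by
      have h2 := CharTwo.two_eq_zero (R := F)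
      ext i j
      fin_cases i <;> fin_cases j <;> simp [Matrix.mul_apply, Fin.sum_univ_three] <;>
        first
          | linear_combination (y + φ x * x) * h2
          | linear_combination x * h2
          | linear_combination (φ x) * h2,
    by
      have h2 := CharTwo.two_eq_zero (R := F)
      ext i j
      fin_cases i <;> fin_cases j <;> simp [Matrix.mul_apply, Fin.sum_univ_three] <;>
        first
          | linear_combination (y + φ x * x) * h2
          | linear_combination x * h2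
          | linear_combination (φ x) * h2⟩

theorem mk_mul (φ : F ≃+* F) (x y x' y' : F) : mk φ x y * mk φ x' y' = mk φ (x + x') (y + y' + φ x * x') := by
  refine Units.ext ?_
  ext i j
  fin_cases i <;> fin_cases j <;> simp [mk, Matrix.mul_apply, Fin.sum_univ_three] <;> ring

theorem mk_inj (φ : F ≃+* F) {x y x' y' : F} (h : mk φ x y = mk φ x' y') : x = x' ∧ y = y' := by
  have h1 := congrArg (fun g : GL (Fin 3) F => (g : Matrix (Fin 3) (Fin 3) F) 1 0) h
  have h2 := congrArg (fun g : GL (Fin 3) F => (g : Matrix (Fin 3) (Fin 3) F) 2 0) h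
  simp [mk] at h1 h2
  exact ⟨h1, h2⟩

theorem mem_suzukiTypeA (φ : F ≃+* F) (g : GL (Fin 3) F) :
    g ∈ Cfsg.suzukiTypeA F (φ : F →+* F) ↔ ∃ x y, g = mk φ x y := by
  constructor
  · intro hg
    induction hg using Subgroup.closure_induction with
    | mem g hg =>
      obtain ⟨x, y, hxy⟩ := hg
      exact ⟨x, y, Units.ext hxy⟩
    | one => exact ⟨0, 0, by refine Units.ext ?_; ext i j; fin_cases i <;> fin_cases j <;> simp [mk]⟩
    | mul a b _ _ ha hb =>
      obtain ⟨x, y, rfl⟩ := ha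
      obtain ⟨x', y', rfl⟩ := hb
      exact ⟨_, _, mk_mul φ x y x' y'⟩
    | inv a _ ha =>
      obtain ⟨x, y, rfl⟩ := ha
      exact ⟨x, y + φ x * x, Units.ext rfl⟩
  · rintro ⟨x, y, rfl⟩
    exact Subgroup.subset_closure ⟨x, y, rfl⟩

theorem exists_model (φ : F ≃+* F) :
    ∃ (π : Cfsg.suzukiTypeA F (φ : F →+* F) → F) (ι : F → Cfsg.suzukiTypeA F (φ : F →+* F)), IsModel φ π ι := by
  choose X Y hXY using fun g : Cfsg.suzukiTypeA F (φ : F →+* F) => (mem_suzukiTypeA φ g.1).1 g.2
  refine ⟨X, fun v => ⟨mk φ 0 v, (mem_suzukiTypeA φ _).2 ⟨0, v, rfl⟩⟩, ?_⟩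
  refine ⟨fun a b => ?_, fun v => ?_, fun a => ⟨fun ha => ?_, ?_⟩, fun v w => ?_, fun v w hvw => ?_, fun v a => ?_,
    fun a => ?_⟩
  · have h := hXY (a * b)
    rw [Subgroup.coe_mul, hXY a, hXY b, mk_mul] at h
    exact (mk_inj φ h).1.symm
  · exact ⟨⟨mk φ v 0, (mem_suzukiTypeA φ _).2 ⟨v, 0, rfl⟩⟩, (mk_inj φ (hXY ⟨mk φ v 0, _⟩)).1.symm⟩
  · exact ⟨Y a, Subtype.ext (by rw [hXY a, ha])⟩
  · rintro ⟨v, rfl⟩
    exact (mk_inj φ (hXY ⟨mk φ 0 v, _⟩)).1.symm
  · exact Subtype.ext (by simp [mk_mul])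
  · exact (mk_inj φ (congrArg Subtype.val hvw)).2
  · exact Subtype.ext (by
      rw [Subgroup.coe_mul, Subgroup.coe_mul, hXY a, mk_mul, mk_mul]
      congr 1 <;> simp [add_comm])
  · exact Subtype.ext (by
      show _ = mk φ 0 _
      rw [Subgroup.coe_mul, hXY a, mk_mul, CharTwo.add_self_eq_zero, CharTwo.add_self_eq_zero, zero_add, mul_comm (φ (X a))])

end Standard

/-- Higman: a Suzuki 2-group with `|P| = |Z(P)|²` is of type A. -/
theorem exists_typeA {P : Type*} [Group P] (hP : Cfsg.IsSuzukiTwoGroup P)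
    (hcard : Nat.card P = Nat.card (Subgroup.center P) ^ 2) :
    ∃ (F : Type) (_ : Field F) (_ : Fintype F) (φ : F ≃+* F), Fintype.card F = Nat.card (Subgroup.center P) ∧
      φ ≠ RingEquiv.refl F ∧ Odd (orderOf φ) ∧ Nonempty (P ≃* Cfsg.suzukiTypeA F (φ : F →+* F)) := by
  classical
  obtain ⟨hfin, hp, hna, ⟨t₁, t₂, ht12, ht1, ht1', ht2, ht2'⟩, K, hK, hreg⟩ := hP
  haveI := hfin
  haveI : Fact (Nat.Prime 2) := ⟨Nat.prime_two⟩
  haveI : Nontrivial P := ⟨⟨t₁, 1, ht1⟩⟩
  obtain ⟨z₀, hz₀, hz₀1, hz₀2⟩ : ∃ z ∈ Subgroup.center P, z ≠ 1 ∧ z * z = 1 := by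
    have hc := hp.center_nontrivial
    obtain ⟨m, hm⟩ := IsPGroup.iff_card.1 (hp.to_subgroup (Subgroup.center P))
    have h2 : 2 ∣ Nat.card (Subgroup.center P) := by
      have := Finite.one_lt_card_iff_nontrivial.2 hc
      rcases m with _ | m
      · omega
      · exact hm ▸ dvd_pow_self 2 m.succ_ne_zero
    obtain ⟨⟨z, hz⟩, hord⟩ := exists_prime_orderOf_dvd_card' 2 h2
    rw [Subgroup.orderOf_mk] at hord
    refine ⟨z, hz, ?_, ?_⟩
    · rintro rfl
      rw [orderOf_one] at hord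
      omega
    · rw [← pow_two, ← hord, pow_orderOf_eq_one]
  have hcinv : ∀ (k : MulAut P), ∀ z ∈ Subgroup.center P, k z ∈ Subgroup.center P := by
    intro k z hz
    rw [Subgroup.mem_center_iff] at hz ⊢
    intro g
    obtain ⟨g', rfl⟩ := k.surjective g
    rw [← map_mul, hz, map_mul]
  have hcentral : ∀ t : P, t * t = 1 → t ∈ Subgroup.center P := by
    intro t ht
    by_cases h1 : t = 1
    · rw [h1]; exact one_mem _
    obtain ⟨k, hk, -⟩ := hreg z₀ t hz₀1 hz₀2 h1 ht
    rw [← hk]; exact hcinv _ _ hz₀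
  have hKc : ∀ a b : K, a * b = b * a := fun a b => by
    haveI := hK
    letI := IsCyclic.commGroup (α := K)
    exact mul_comm a b
  let Ω : Subgroup P :=
    { carrier := {t | t * t = 1}
      one_mem' := one_mul 1
      mul_mem' := fun {a b} ha hb => by
        show a * b * (a * b) = 1
        rw [← mul_assoc, mul_assoc a b a, Subgroup.mem_center_iff.1 (hcentral a ha) b, ← mul_assoc,
          show a * a = 1 from ha, one_mul]
        exact hb
      inv_mem' := fun {a} ha => by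
        show a⁻¹ * a⁻¹ = 1
        rw [← mul_inv_rev, show a * a = 1 from ha, inv_one] }
  let act : K →* MulAut Ω :=
    { toFun := fun k =>
        { toFun := fun t => ⟨(k : MulAut P) t, by show _ * _ = 1; rw [← map_mul, t.2, map_one]⟩
          invFun := fun t => ⟨(k : MulAut P).symm t, by show _ * _ = 1; rw [← map_mul, t.2, map_one]⟩
          left_inv := fun t => Subtype.ext ((k : MulAut P).symm_apply_apply _)
          right_inv := fun t => Subtype.ext ((k : MulAut P).apply_symm_apply _)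
          map_mul' := fun a b => Subtype.ext (map_mul _ _ _) }
      map_one' := rfl
      map_mul' := fun a b => rfl }
  obtain ⟨n, hn⟩ := IsPGroup.iff_card.1 (hp.to_subgroup Ω)
  have hn2 : 2 ≤ n := by
    by_contra hlt
    have h1 : Nat.card Ω ≤ 2 := by rw [hn]; exact (Nat.pow_le_pow_right (by norm_num) (show n ≤ 1 by omega)).trans le_rfl
    have h2 : ({1, t₁, t₂} : Set P).ncard = 3 :=
      Set.ncard_eq_three.2 ⟨1, t₁, t₂, ht1.symm, fun h => ht2 h.symm, ht12, rfl⟩
    have h3 : ({1, t₁, t₂} : Set P).ncard ≤ (Ω : Set P).ncard := by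
      refine Set.ncard_le_ncard ?_
      rintro x (rfl | rfl | rfl)
      · exact Ω.one_mem
      · exact ht1'
      · exact ht2'
    rw [← Nat.card_coe_set_eq (Ω : Set P), SetLike.coe_sort_coe] at h3
    omega
  obtain ⟨φ₀, u, hφb, hub, hφadd, hφeq⟩ := exists_coord act hKc (fun t => Subtype.ext t.2) n (by omega) hn
    (fun x y hx hy => by
      obtain ⟨k, hk, huniq⟩ := hreg x y (fun h => hx (Subtype.ext h)) x.2 (fun h => hy (Subtype.ext h)) y.2
      exact ⟨k, Subtype.ext hk, fun k' hk' => huniq k' (congrArg Subtype.val hk')⟩)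
  haveI : NeZero n := ⟨by omega⟩
  let ω : P → GaloisField 2 n := fun t => if h : t * t = 1 then φ₀ ⟨t, h⟩ else 0
  have hω : ∀ {t : P} (h : t * t = 1), ω t = φ₀ ⟨t, h⟩ := fun {t} h => dif_pos h
  have S : Setting P K n (GaloisField 2 n) ω u := by
    refine ⟨hfin, hp, hcentral, hKc, hreg, hn, hn2, ?_, ?_, ?_, ?_, hub⟩
    · intro x y hx hy
      rw [hω hx, hω hy, hω (Ω.mul_mem (x := x) (y := y) hx hy), ← hφadd]
      rfl
    · intro k x hx
      rw [hω hx, hω (show (k : MulAut P) x * (k : MulAut P) x = 1 by rw [← map_mul, hx, map_one]), ← hφeq]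
      rfl
    · intro x y hx hy hxy
      rw [hω hx, hω hy] at hxy
      exact congrArg Subtype.val (hφb.1 hxy)
    · intro v
      obtain ⟨t, ht⟩ := hφb.2 v
      exact ⟨t, t.2, by rw [hω t.2]; exact ht⟩
  have hZ := center_sq S hna hcard
  have hΩZ : Subgroup.center P = Ω := le_antisymm hZ hcentral
  have hZcard : Nat.card (Subgroup.center P) = 2 ^ n := by rw [hΩZ, hn]
  haveI : Finite (GaloisField 2 n) := Finite.of_surjective φ₀ hφb.2
  letI : Fintype (GaloisField 2 n) := Fintype.ofFinite _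
  have hFcard : Nat.card (GaloisField 2 n) = 2 ^ n := GaloisField.card 2 n (by omega)
  -- the squares
  have hQeq : ∀ (k : K) (x : P), x * x ∈ Ω → ω ((k : MulAut P) x * (k : MulAut P) x) = (u k : GaloisField 2 n) * ω (x * x) :=
    fun k x hx => by rw [← map_mul]; exact S.equiv k _ hx
  haveI hcn : (Subgroup.center P).Normal := inferInstance
  let U : Subgroup P :=
    { carrier := {y | y * y ∈ Ω ∧ ∀ g, cm y g ∈ Subgroup.center P}
      one_mem' := ⟨by simp [Ω.one_mem], fun g => by simp [cm]⟩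
      mul_mem' := by
        intro x y hx hy
        refine ⟨?_, fun g => ?_⟩
        · rw [show x * y * (x * y) = x * cm y x * x⁻¹ * (x * x) * (y * y) by simp only [cm]; group]
          exact Ω.mul_mem (Ω.mul_mem (hΩZ ▸ hcn.conj_mem _ (hy.2 x) x) hx.1) hy.1
        · rw [cm_mul_left (hy.2 g)]
          exact Subgroup.mul_mem _ (hx.2 g) (hy.2 g)
      inv_mem' := by
        intro x hx
        refine ⟨?_, fun g => ?_⟩
        · rw [show x⁻¹ * x⁻¹ = (x * x)⁻¹ by group]; exact Ω.inv_mem hx.1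
        · rw [show cm x⁻¹ g = x⁻¹ * (cm x g)⁻¹ * x by simp only [cm]; group]
          exact hcn.conj_mem' _ (Subgroup.inv_mem _ (hx.2 g)) x }
  have hUinv : ∀ (k : K), ∀ y ∈ U, (k : MulAut P) y ∈ U := by
    intro k y hy
    refine ⟨by show _ * _ * (_ * _) = 1; rw [← map_mul, ← map_mul, show y * y * (y * y) = 1 from hy.1, map_one], fun g => ?_⟩
    obtain ⟨g', rfl⟩ := (k : MulAut P).surjective g
    rw [← map_cm]; exact hcinv _ _ (hy.2 g')
  have hΩsq : ∀ x : P, x ∉ Ω → x * x ≠ 1 := fun x hx h => hx h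
  obtain ⟨y₀, hy₀U, hy₀Ω⟩ : ∃ y ∈ U, y ∉ Ω := by
    haveI hnt : Nontrivial (P ⧸ Subgroup.center P) := by
      rw [← Finite.one_lt_card_iff_nontrivial, ← Subgroup.index_eq_card]
      refine Nat.lt_of_le_of_ne (Nat.one_le_iff_ne_zero.2 Subgroup.index_ne_zero_of_finite) fun h => ?_
      obtain ⟨x, y, hxy⟩ := hna
      exact hxy (Subgroup.mem_center_iff.1 (Subgroup.index_eq_one.1 h.symm ▸ Subgroup.mem_top y) x)
    have hQ := hp.to_quotient (Subgroup.center P)
    have hnc := hQ.center_nontrivial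
    obtain ⟨m, hm⟩ := IsPGroup.iff_card.1 (hQ.to_subgroup (Subgroup.center (P ⧸ Subgroup.center P)))
    have h2 : 2 ∣ Nat.card (Subgroup.center (P ⧸ Subgroup.center P)) := by
      have := Finite.one_lt_card_iff_nontrivial.2 hnc
      rcases m with _ | m
      · omega
      · exact hm ▸ dvd_pow_self 2 m.succ_ne_zero
    obtain ⟨⟨c, hc⟩, hord⟩ := exists_prime_orderOf_dvd_card' 2 h2
    obtain ⟨y, rfl⟩ := QuotientGroup.mk_surjective c
    rw [Subgroup.orderOf_mk] at hord
    refine ⟨y, ⟨?_, fun g => ?_⟩, fun hy => ?_⟩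
    · rw [← hΩZ, ← QuotientGroup.eq_one_iff, QuotientGroup.mk_mul, ← pow_two, ← hord, pow_orderOf_eq_one]
    · rw [← QuotientGroup.eq_one_iff]
      simp only [cm, QuotientGroup.mk_mul, QuotientGroup.mk_inv]
      rw [← Subgroup.mem_center_iff.1 hc (g : P ⧸ Subgroup.center P)]
      group
    · rw [(QuotientGroup.eq_one_iff y).2 (hΩZ ▸ hy), orderOf_one] at hord
      omega
  have hc0 : ω (y₀ * y₀) ≠ 0 := fun h => hy₀Ω ((S.omega_eq_zero hy₀U.1).1 h)
  -- square roots
  have hroot : ∀ v, ∃ y ∈ U, ω (y * y) = v := by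
    intro v
    by_cases hv : v = 0
    · exact ⟨1, U.one_mem, by rw [one_mul, S.omega_one, hv]⟩
    obtain ⟨k, hk⟩ := hub.2 (Units.mk0 (v / ω (y₀ * y₀)) (div_ne_zero hv hc0))
    exact ⟨(k : MulAut P) y₀, hUinv k _ hy₀U, by rw [hQeq k y₀ hy₀U.1, hk, Units.val_mk0, div_mul_cancel₀ _ hc0]⟩
  choose r hrU hr using hroot
  have hrsq : ∀ (v : GaloisField 2 n) (z : Ω), r v * z * (r v * z) = r v * r v := fun v z => by
    rw [mul_assoc, ← mul_assoc (z : P) (r v) z, ← Subgroup.mem_center_iff.1 (hcentral z z.2) (r v), mul_assoc,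
      show (z : P) * z = 1 from z.2, mul_one]
  have hbij : Function.Bijective fun vz : GaloisField 2 n × Ω => r vz.1 * (vz.2 : P) := by
    refine Function.Injective.bijective_of_nat_card_le ?_ ?_
    · rintro ⟨v, z⟩ ⟨v', z'⟩ h
      simp only at h
      have h1 := congrArg (fun x => ω (x * x)) h
      simp only [hrsq, hr] at h1
      subst h1
      exact Prod.ext rfl (Subtype.ext (mul_left_cancel h))
    · rw [Nat.card_prod, hFcard, hn, hcard, hZcard, pow_two]
  have hall : ∀ x : P, x * x ∈ Ω ∧ ∀ g, cm x g ∈ Subgroup.center P := by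
    intro x
    obtain ⟨⟨v, z⟩, rfl⟩ := hbij.2 x
    exact U.mul_mem (hrU v) ⟨by rw [show (z : P) * z = 1 from z.2]; exact Ω.one_mem, fun g => by
      rw [cm_eq_one_iff.2 (Subgroup.mem_center_iff.1 (hcentral z z.2) g).symm]; exact one_mem _⟩
  -- equal squares: same coset
  have hcoset : ∀ x y : P, x * x = y * y → (x : P ⧸ Subgroup.center P) = y := by
    intro x y h
    obtain ⟨⟨v, z⟩, rfl⟩ := hbij.2 x
    obtain ⟨⟨w, z'⟩, rfl⟩ := hbij.2 y
    simp only [hrsq] at h
    have h1 := congrArg ω h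
    rw [hr, hr] at h1
    subst h1
    rw [QuotientGroup.eq, show (r v * (z : P))⁻¹ * (r v * z') = (z : P)⁻¹ * z' by group]
    exact Subgroup.mul_mem _ (Subgroup.inv_mem _ (hcentral z z.2)) (hcentral z' z'.2)
  let actQ : K →* MulAut (P ⧸ Subgroup.center P) :=
    { toFun := fun k => QuotientGroup.congr (Subgroup.center P) (Subgroup.center P) (k : MulAut P) (by
        refine le_antisymm ?_ fun z hz => ?_
        · rintro _ ⟨z, hz, rfl⟩; exact hcinv _ _ hz
        · exact ⟨(k : MulAut P).symm z, hcinv (k : MulAut P).symm _ hz, (k : MulAut P).apply_symm_apply z⟩)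
      map_one' := MulEquiv.ext fun c => by
        obtain ⟨x, rfl⟩ := QuotientGroup.mk_surjective c; rfl
      map_mul' := fun a b => MulEquiv.ext fun c => by
        obtain ⟨x, rfl⟩ := QuotientGroup.mk_surjective c; rfl }
  have hsqne : ∀ x : P, (x : P ⧸ Subgroup.center P) ≠ 1 → x * x ≠ 1 := fun x hx h =>
    hx ((QuotientGroup.eq_one_iff x).2 (hcentral x h))
  have hsqcoset : ∀ x y : P, (x : P ⧸ Subgroup.center P) = y → x * x = y * y := by
    intro x y h
    have hz : x⁻¹ * y ∈ Subgroup.center P := QuotientGroup.eq.1 h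
    rw [show y = x * (x⁻¹ * y) by group, mul_assoc x (x⁻¹ * y), ← mul_assoc (x⁻¹ * y) x,
      ← Subgroup.mem_center_iff.1 hz x, mul_assoc x (x⁻¹ * y) (x⁻¹ * y), hZ _ hz, mul_one]
  obtain ⟨π₀, w, hπb, hwb, hπadd, hπeq⟩ := exists_coord actQ hKc
    (fun c => by
      obtain ⟨x, rfl⟩ := QuotientGroup.mk_surjective c
      rw [← QuotientGroup.mk_mul, QuotientGroup.eq_one_iff, hΩZ]
      exact (hall x).1)
    n (by omega)
    (by
      have h1 := Subgroup.card_mul_index (Subgroup.center P)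
      rw [hcard, pow_two] at h1
      rw [← Subgroup.index_eq_card, ← hZcard]
      exact Nat.eq_of_mul_eq_mul_left Nat.card_pos h1)
    (fun cx cy hcx hcy => by
      obtain ⟨x, rfl⟩ := QuotientGroup.mk_surjective cx
      obtain ⟨y, rfl⟩ := QuotientGroup.mk_surjective cy
      obtain ⟨k, hk, huniq⟩ := hreg (x * x) (y * y) (hsqne x hcx) (hall x).1 (hsqne y hcy) (hall y).1
      refine ⟨k, hcoset _ _ (by rw [← map_mul]; exact hk), fun k' hk' => huniq k' ?_⟩
      show (k' : MulAut P) (x * x) = y * y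
      rw [map_mul]; exact hsqcoset _ _ hk')
  let π₁ : P → GaloisField 2 n := fun x => π₀ (x : P ⧸ Subgroup.center P)
  have hπ₁add : ∀ x y, π₁ (x * y) = π₁ x + π₁ y := fun x y => by
    show π₀ _ = π₀ _ + π₀ _
    rw [QuotientGroup.mk_mul]; exact hπadd _ _
  have hπ₁eq : ∀ (k : K) (x : P), π₁ ((k : MulAut P) x) = (w k : GaloisField 2 n) * π₁ x := fun k x => by
    show π₀ _ = _ * π₀ _
    rw [← hπeq]; rfl
  have hπ₁surj : ∀ v, ∃ x, π₁ x = v := fun v => by
    obtain ⟨c, hc⟩ := hπb.2 v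
    obtain ⟨x, rfl⟩ := QuotientGroup.mk_surjective c
    exact ⟨x, hc⟩
  have hπ₁z : ∀ x, π₁ x = 0 ↔ x ∈ Subgroup.center P := fun x => by
    have h0 : π₀ 1 = 0 := by
      have := hπadd 1 1; rw [one_mul] at this; linear_combination -this
    rw [← QuotientGroup.eq_one_iff]
    exact ⟨fun h => hπb.1 (h.trans h0.symm), fun h => by show π₀ _ = 0; rw [h, h0]⟩
  choose r₁ hr₁ using hπ₁surj
  have hcmΩ : ∀ x y : P, cm x y * cm x y = 1 := fun x y => hZ _ ((hall x).2 y)
  let χ : GaloisField 2 n → GaloisField 2 n := fun a =>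
    if h : a = 0 then 0 else (u (hwb.2 (Units.mk0 a h)).choose : GaloisField 2 n)
  have hχ : ∀ k, χ (w k : GaloisField 2 n) = (u k : GaloisField 2 n) := by
    intro k
    simp only [χ, dif_neg (w k).ne_zero]
    congr 2
    apply hwb.1
    rw [(hwb.2 (Units.mk0 _ (w k).ne_zero)).choose_spec, Units.mk0_val]
  let β : GaloisField 2 n → GaloisField 2 n → GaloisField 2 n := fun v v' => ω (cm (r₁ v) (r₁ v'))
  have heval : ∀ x y, ω (cm x y) = β (π₁ x) (π₁ y) := by
    intro x y
    obtain ⟨a, ha, hxa⟩ : ∃ a ∈ Subgroup.center P, x = r₁ (π₁ x) * a :=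
      ⟨(r₁ (π₁ x))⁻¹ * x, QuotientGroup.eq.1 (hπb.1 (hr₁ (π₁ x))), by group⟩
    obtain ⟨b, hb, hyb⟩ : ∃ b ∈ Subgroup.center P, y = r₁ (π₁ y) * b :=
      ⟨(r₁ (π₁ y))⁻¹ * y, QuotientGroup.eq.1 (hπb.1 (hr₁ (π₁ y))), by group⟩
    have ha1 : ∀ g, cm a g = 1 := fun g => cm_eq_one_iff.2 (Subgroup.mem_center_iff.1 ha g).symm
    have hb1 : ∀ g, cm g b = 1 := fun g => cm_eq_one_iff.2 (Subgroup.mem_center_iff.1 hb g)
    conv_lhs => rw [hxa, hyb]
    rw [cm_mul_left (by rw [ha1]; exact one_mem _), ha1, mul_one, cm_mul_right (by rw [hb1]; exact one_mem _), hb1,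
      mul_one]
  have hl : ∀ v v' v'', β (v + v') v'' = β v v'' + β v' v'' := by
    intro v v' v''
    have h := heval (r₁ v * r₁ v') (r₁ v'')
    rw [hπ₁add, hr₁, hr₁, hr₁, cm_mul_left ((hall _).2 _), S.add _ _ (hcmΩ _ _) (hcmΩ _ _)] at h
    exact h.symm
  have hrr : ∀ v v' v'', β v (v' + v'') = β v v' + β v v'' := by
    intro v v' v''
    have h := heval (r₁ v) (r₁ v' * r₁ v'')
    rw [hπ₁add, hr₁, hr₁, hr₁, cm_mul_right ((hall _).2 _), S.add _ _ (hcmΩ _ _) (hcmΩ _ _)] at h
    exact h.symm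
  have hdd : ∀ v, β v v = 0 := fun v => by
    show ω _ = 0
    rw [cm_eq_one_iff.2 rfl, S.omega_one]
  have hχeq : ∀ a v v', β (a * v) (a * v') = χ a * β v v' := by
    intro a v v'
    by_cases ha : a = 0
    · simp only [ha, zero_mul]; rw [hdd]; simp [χ]
    obtain ⟨k, hk⟩ := hwb.2 (Units.mk0 a ha)
    have hka : (w k : GaloisField 2 n) = a := by rw [hk]; rfl
    have h := heval ((k : MulAut P) (r₁ v)) ((k : MulAut P) (r₁ v'))
    rw [hπ₁eq, hπ₁eq, hr₁, hr₁, ← map_cm, S.equiv k _ (hcmΩ _ _), ← hχ k, hka] at h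
    exact h.symm
  obtain ⟨σ, τ, hστ, hmul⟩ := exists_factor β hl hrr hdd χ hχeq (by
    obtain ⟨x, y, hxy⟩ := hna
    refine ⟨π₁ x, π₁ y, fun h => hxy (cm_eq_one_iff.1 ((S.omega_eq_zero (hcmΩ x y)).1 ?_))⟩
    rw [heval, h])
  let φ : GaloisField 2 n ≃+* GaloisField 2 n := σ.symm.trans τ
  let π : P → GaloisField 2 n := fun x => σ (π₁ x)
  let x₀ : P := r₁ (σ.symm 1)
  let c₀ : GaloisField 2 n := ω (x₀ * x₀)
  have hc₀ : c₀ ≠ 0 := by
    intro h
    have h1 : x₀ ∈ Subgroup.center P := hcentral _ ((S.omega_eq_zero (hall _).1).1 h)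
    rw [← hπ₁z, hr₁] at h1
    simp at h1
  have hQ : ∀ x, ω (x * x) = c₀ * (π x * φ (π x)) := by
    intro x
    by_cases hx : π₁ x = 0
    · rw [show π x = 0 by show σ _ = 0; rw [hx, map_zero], zero_mul, mul_zero, hZ x ((hπ₁z x).1 hx), S.omega_one]
    obtain ⟨k, hk⟩ := hwb.2 (Units.mk0 (π₁ x / σ.symm 1) (div_ne_zero hx (by simp)))
    have hkx : π₁ ((k : MulAut P) x₀) = π₁ x := by
      rw [hπ₁eq, hr₁, hk, Units.val_mk0, div_mul_cancel₀ _ (by simp)]
    have h1 : x * x = (k : MulAut P) (x₀ * x₀) := by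
      rw [map_mul]; exact (hsqcoset _ _ (hπb.1 hkx)).symm
    have hwk : π₁ x = (w k : GaloisField 2 n) * σ.symm 1 := by rw [← hkx, hπ₁eq, hr₁]
    rw [h1, S.equiv k _ (hall _).1, ← hχ, hmul]
    have h2 : σ (π₁ x) = σ (w k : GaloisField 2 n) := by rw [hwk, map_mul, σ.apply_symm_apply, mul_one]
    show _ = _ * (σ (π₁ x) * τ (σ.symm (σ (π₁ x))))
    rw [h2, σ.symm_apply_apply]
    ring
  choose t ht2 ht using fun v => S.surj (c₀ * v)
  have hmodel : IsModel φ π t := by
    refine ⟨fun x y => by show σ _ = _; rw [hπ₁add, map_add], fun v => ⟨r₁ (σ.symm v), by show σ _ = v; rw [hr₁, σ.apply_symm_apply]⟩,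
      fun x => ?_, fun v v' => ?_, fun v v' h => ?_, fun v x => ?_, fun x => ?_⟩
    · constructor
      · intro h
        have hx : x ∈ Subgroup.center P := (hπ₁z x).1 (σ.injective (h.trans (map_zero σ).symm))
        refine ⟨ω x / c₀, S.inj _ _ (ht2 _) (hZ x hx) ?_⟩
        rw [ht, mul_div_cancel₀ _ hc₀]
      · rintro ⟨v, rfl⟩
        show σ _ = 0
        rw [(hπ₁z _).2 (hcentral _ (ht2 v)), map_zero]
    · refine S.inj _ _ (ht2 _) (Ω.mul_mem (x := t v) (y := t v') (ht2 v) (ht2 v')) ?_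
      rw [ht, S.add _ _ (ht2 v) (ht2 v'), ht, ht, mul_add]
    · exact mul_left_cancel₀ hc₀ ((ht v).symm.trans ((congrArg ω h).trans (ht v')))
    · exact (Subgroup.mem_center_iff.1 (hcentral _ (ht2 v)) x).symm
    · exact S.inj _ _ (hall x).1 (ht2 _) (by rw [hQ, ht])
  obtain ⟨π', ι', hmodel'⟩ := exists_model φ
  refine ⟨GaloisField 2 n, inferInstance, inferInstance, φ, ?_, ?_, ?_, nonempty_mulEquiv hmodel hmodel'⟩
  · rw [← Nat.card_eq_fintype_card, hFcard, hZcard]
  · intro h
    refine hστ (RingEquiv.ext fun a => ?_)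
    have h1 := RingEquiv.congr_fun h (σ a)
    simpa [φ] using h1.symm
  · by_contra hodd
    rw [Nat.not_odd_iff_even] at hodd
    have hinj : ∀ a : GaloisField 2 n, a * φ a = 1 → a = 1 := by
      intro a ha
      obtain ⟨x, hx⟩ := hmodel.surj a
      obtain ⟨y, hy⟩ := hmodel.surj 1
      have h1 : x * x = y * y := by rw [hmodel.sq, hmodel.sq, hx, hy, ha, map_one, mul_one]
      have h2 := congrArg π₀ (hcoset x y h1)
      rw [← hx, ← hy]
      exact congrArg σ h2
    letI : Algebra (ZMod 2) (GaloisField 2 n) := ZMod.algebra _ 2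
    let φa : GaloisField 2 n ≃ₐ[ZMod 2] GaloisField 2 n :=
      AlgEquiv.ofRingEquiv (f := φ) (fun r => by
        rw [show φ (algebraMap (ZMod 2) (GaloisField 2 n) r) =
          ((φ : GaloisField 2 n →+* GaloisField 2 n).comp (algebraMap (ZMod 2) (GaloisField 2 n))) r from rfl]
        exact RingHom.congr_fun (RingHom.ext_zmod _ _) r)
    let θ : (GaloisField 2 n ≃ₐ[ZMod 2] GaloisField 2 n) →* RingAut (GaloisField 2 n) :=
      { toFun := fun e => e.toRingEquiv, map_one' := rfl, map_mul' := fun _ _ => rfl }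
    have hord : orderOf φa = orderOf φ :=
      (orderOf_injective θ (fun a b h => AlgEquiv.ext fun x => RingEquiv.congr_fun h x) φa).symm
    have hne : φa ∉ Subgroup.zpowers (φa * φa) := by
      intro h
      obtain ⟨j, hj⟩ := Subgroup.mem_zpowers_iff.1 h
      have h1 : φa ^ (2 * j - 1) = 1 := by
        rw [zpow_sub, zpow_mul, zpow_one]
        rw [show φa ^ (2 : ℤ) = φa * φa from zpow_two φa, hj, mul_inv_cancel]
      rw [← orderOf_dvd_iff_zpow_eq_one, hord] at h1
      have h2 : (2 : ℤ) ∣ 2 * j - 1 := by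
        obtain ⟨c, hc⟩ := hodd
        exact dvd_trans ⟨(c : ℤ), by push_cast [hc]; ring⟩ h1
      omega
    obtain ⟨b, hb, hbne⟩ : ∃ b, φ (φ b) = b ∧ φ b ≠ b := by
      by_contra hcon
      push Not at hcon
      refine hne ?_
      rw [← IntermediateField.fixingSubgroup_fixedField (Subgroup.zpowers (φa * φa)),
        IntermediateField.mem_fixingSubgroup_iff]
      intro b hb
      rw [IntermediateField.mem_fixedField_iff] at hb
      exact hcon b (hb (φa * φa) (Subgroup.mem_zpowers _))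
    have hb0 : b ≠ 0 := fun h => hbne (by rw [h, map_zero])
    have hφb0 : φ b ≠ 0 := fun h => hb0 (φ.injective (h.trans (map_zero φ).symm))
    have h1 := hinj (b / φ b) (by rw [map_div₀, hb]; field_simp)
    exact hbne (div_eq_one_iff_eq hφb0 |>.1 h1).symm

end Cfsg.Agent.Invol.TypeA
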