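import Cfsg.Prelude.Def_SylowChains
import Cfsg.Agent.Lib.Invol.SPEmbedded
import Cfsg.Agent.Lib.Invol.Sylow

/-!
Connectedness of the graph of Sylow `p`-subgroups and strongly `p`-embedded subgroups.
-/

set_option autoImplicit false

open scoped Pointwise

namespace Cfsg.Agent.Invol

variable {G : Type*} [Group G] {p : ℕ}

/-- Adjacency in the Sylow graph. -/
def SylowAdj (S T : Sylow p G) : Prop :=
  S ≠ T ∧ (S : Subgroup G) ⊓ (T : Subgroup G) ≠ ⊥

/-- Being joined by a path in the Sylow graph. -/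
def SylowJoin (S T : Sylow p G) : Prop := Relation.ReflTransGen SylowAdj S T

theorem SylowJoin.symm {S T : Sylow p G} (h : SylowJoin S T) : SylowJoin T S := by
  induction h with
  | refl => exact .refl
  | tail _ hbc ih => exact Relation.ReflTransGen.head ⟨hbc.1.symm, fun e => hbc.2 ((inf_comm _ _).trans e)⟩ ih

theorem SylowJoin.smul {S T : Sylow p G} (h : SylowJoin S T) (g : G) :
    SylowJoin (g • S) (g • T) := by
  induction h with
  | refl => exact .refl
  | tail _ hbc ih =>
    refine Relation.ReflTransGen.tail ih ⟨fun e => hbc.1 (MulAction.injective g e), fun e => hbc.2 ?_⟩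
    rw [Sylow.coe_subgroup_smul, Sylow.coe_subgroup_smul, ← Subgroup.smul_inf] at e
    exact smul_left_cancel (MulAut.conj g) (e.trans (Subgroup.smul_bot _).symm)

theorem sylowJoin_of_mem [Finite G] [Fact p.Prime] {S T : Sylow p G} {z : G} (hz : orderOf z = p)
    (hS : z ∈ S) (hT : z ∈ T) : SylowJoin S T := by
  rcases eq_or_ne S T with rfl | hne
  · exact .refl
  · refine Relation.ReflTransGen.single ⟨hne, fun e => ?_⟩
    have h1 : z = 1 := Subgroup.mem_bot.mp (e.le ⟨hS, hT⟩)
    rw [h1, orderOf_one] at hz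
    exact (Fact.out : p.Prime).ne_one hz.symm

theorem exists_chain_of_sylowJoin {S T : Sylow p G} (h : SylowJoin S T) :
    ∃ (n : ℕ) (c : Fin (n + 1) → Sylow p G), c 0 = S ∧ c (Fin.last n) = T ∧
      ∀ i : Fin n, c i.castSucc ≠ c i.succ ∧
        (c i.castSucc : Subgroup G) ⊓ (c i.succ : Subgroup G) ≠ ⊥ := by
  induction h with
  | refl => exact ⟨0, fun _ => S, rfl, rfl, fun i => i.elim0⟩
  | @tail b c _ hbc ih =>
    obtain ⟨n, d, h0, hl, hd⟩ := ih
    refine ⟨n + 1, Fin.snoc d c, ?_, Fin.snoc_last _ _, fun i => ?_⟩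
    · rw [← Fin.castSucc_zero, Fin.snoc_castSucc, h0]
    · refine Fin.lastCases ?_ (fun i => ?_) i
      · rw [Fin.snoc_castSucc, Fin.succ_last, Fin.snoc_last, hl]
        exact hbc
      · rw [Fin.snoc_castSucc, ← Fin.castSucc_succ, Fin.snoc_castSucc]
        exact hd i

theorem isSylowChainConnected_iff :
    Cfsg.IsSylowChainConnected p G ↔ ∀ S T : Sylow p G, SylowJoin S T := by
  constructor
  · intro h S T
    obtain ⟨n, c, rfl, rfl, -, hc⟩ := h S T
    have : ∀ i : Fin (n + 1), SylowJoin (c 0) (c i) := by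
      intro i
      induction i using Fin.induction with
      | zero => exact .refl
      | succ i ih => exact Relation.ReflTransGen.tail ih (hc i)
    exact this _
  · intro h S T
    rcases eq_or_ne S T with rfl | hne
    · exact ⟨0, fun _ => S, rfl, rfl, fun _ => inf_le_left, fun i => i.elim0⟩
    by_cases hST : (S : Subgroup G) ⊓ (T : Subgroup G) = ⊥
    · obtain ⟨n, c, h0, hl, hc⟩ := exists_chain_of_sylowJoin (h S T)
      exact ⟨n, c, h0, hl, fun i => hST.le.trans bot_le, hc⟩
    · refine ⟨1, ![S, T], rfl, rfl, fun i => ?_, fun i => ?_⟩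
      · fin_cases i
        · exact inf_le_left
        · exact inf_le_right
      · rw [Fin.fin_one_eq_zero i]
        exact ⟨hne, hST⟩

variable [Finite G] [Fact p.Prime]

/-- The stabilizer of the connected component of `P`. -/
def sylowComponentStab (P : Sylow p G) : Subgroup G where
  carrier := {g | SylowJoin P (g • P)}
  one_mem' := by simp only [Set.mem_setOf_eq, one_smul]; exact .refl
  mul_mem' := by
    intro a b ha hb
    simp only [Set.mem_setOf_eq, mul_smul]
    exact Relation.ReflTransGen.trans ha (hb.smul a)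
  inv_mem' := by
    intro a ha
    have h := (ha.smul a⁻¹).symm
    rwa [inv_smul_smul] at h

theorem exists_classical_of_not_connected (hG : ¬ Cfsg.IsSylowChainConnected p G) :
    ∃ H : Subgroup G, H ≠ ⊤ ∧ p ∣ Nat.card H ∧
      ∀ g : G, g ∉ H → ¬ p ∣ Nat.card ↥(H ⊓ H.map (MulAut.conj g).toMonoidHom) := by
  rw [isSylowChainConnected_iff] at hG
  obtain ⟨P⟩ : Nonempty (Sylow p G) := inferInstance
  set H := sylowComponentStab P with hH
  have hPH : (P : Subgroup G) ≤ H := fun a ha => by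
    show SylowJoin P (a • P)
    rw [Sylow.smul_eq_iff_mem_normalizer.mpr (Subgroup.le_normalizer ha)]
    exact .refl
  have hHtop : H ≠ ⊤ := by
    refine fun e => hG fun S T => ?_
    obtain ⟨a, rfl⟩ := MulAction.exists_smul_eq G P S
    obtain ⟨b, rfl⟩ := MulAction.exists_smul_eq G P T
    exact Relation.ReflTransGen.trans (show SylowJoin P (a • P) from e.ge (Subgroup.mem_top a)).symm
      (e.ge (Subgroup.mem_top b))
  have hdvd : p ∣ Nat.card H := by
    by_contra hn
    refine hG fun S T => ?_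
    have hP : (P : Subgroup G) = ⊥ := by
      obtain ⟨k, hk⟩ := P.isPGroup'.exists_card_eq
      rcases Nat.eq_zero_or_pos k with rfl | hk0
      · exact Subgroup.card_eq_one.mp (by simpa using hk)
      · exact absurd ((dvd_pow_self p hk0.ne').trans (hk ▸ Subgroup.card_dvd_of_le hPH)) hn
    have hall : ∀ U : Sylow p G, U = P := fun U => by
      obtain ⟨a, rfl⟩ := MulAction.exists_smul_eq G P U
      exact Sylow.ext (by rw [Sylow.coe_subgroup_smul, hP, Subgroup.smul_bot])
    rw [hall S, hall T]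
    exact .refl
  refine ⟨H, hHtop, hdvd, fun g hg hdiv => hg ?_⟩
  obtain ⟨z, hzmem, hz⟩ := exists_orderOf_prime_mem hdiv
  obtain ⟨hzH, hzg⟩ := Subgroup.mem_inf.mp hzmem
  have key : ∀ w : G, orderOf w = p → w ∈ H → ∀ T : Sylow p G, w ∈ T → SylowJoin P T := by
    intro w hw hwH T hwT
    obtain ⟨h, hh⟩ := exists_conj_mem_sylow (G := H) (n := 1) (x := ⟨w, hwH⟩) (by
      rw [Subgroup.orderOf_mk, hw, pow_one]) (P.subtype hPH)
    have h1 : SylowJoin P ((h : G)⁻¹ • P) := H.inv_mem h.2
    refine Relation.ReflTransGen.trans h1 (sylowJoin_of_mem hw ?_ hwT)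
    refine ⟨(h : G) * w * (h : G)⁻¹, hh, ?_⟩
    show (h : G)⁻¹ * ((h : G) * w * (h : G)⁻¹) * (h : G)⁻¹⁻¹ = w
    group
  obtain ⟨z', hz'H, rfl⟩ := hzg
  obtain ⟨T, hT⟩ := (isPGroup_zpowers (p := p) (n := 1) (x := MulAut.conj g z') (by
    rw [pow_one]; exact hz)).exists_le_sylow
  have hzT : MulAut.conj g z' ∈ T := hT (Subgroup.mem_zpowers _)
  have h1 := key _ hz hzH T hzT
  have h2 := key z' (by rw [← MulEquiv.orderOf_eq (MulAut.conj g)]; exact hz) hz'H (g⁻¹ • T) ⟨_, hzT, by
    show g⁻¹ * (g * z' * g⁻¹) * g⁻¹⁻¹ = z'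
    group⟩
  have h3 := h2.smul g
  rw [smul_inv_smul] at h3
  exact Relation.ReflTransGen.trans h1 h3.symm

theorem not_connected_of_classical {H : Subgroup G} (hH : H ≠ ⊤) (hd : p ∣ Nat.card H)
    (hY : ∀ g : G, g ∉ H → ¬ p ∣ Nat.card ↥(H ⊓ H.map (MulAut.conj g).toMonoidHom)) :
    ¬ Cfsg.IsSylowChainConnected p G := by
  rw [isSylowChainConnected_iff]
  intro hall
  obtain ⟨P, hP⟩ := exists_sylow_le_of_classical hd hY
  have hsub : ∀ T : Sylow p G, (T : Subgroup G) ≤ H := by
    intro T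
    induction hall P T with
    | refl => exact hP
    | @tail b c _ hbc ih =>
      have hne : p ∣ Nat.card ↥((b : Subgroup G) ⊓ (c : Subgroup G)) := by
        obtain ⟨k, hk⟩ := (b.isPGroup'.to_le (inf_le_left : _ ⊓ (c : Subgroup G) ≤ _)).exists_card_eq
        rcases Nat.eq_zero_or_pos k with rfl | hk0
        · exact absurd (Subgroup.card_eq_one.mp (by simpa using hk)) hbc.2
        · exact hk ▸ dvd_pow_self p hk0.ne'
      obtain ⟨z, hzm, hz⟩ := exists_orderOf_prime_mem hne
      exact pGroup_le_of_classical hY c.isPGroup' hz hzm.2 (ih hzm.1)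
  obtain ⟨g, hg⟩ : ∃ g, g ∉ H := by
    by_contra! h
    exact hH (Subgroup.eq_top_iff' _ |>.mpr h)
  have hdP : p ∣ Nat.card (P : Subgroup G) := P.dvd_card_of_dvd_card (hd.trans H.card_subgroup_dvd_card)
  obtain ⟨z, hzP, hz⟩ := exists_orderOf_prime_mem hdP
  refine hY g hg (dvd_card_of_mem (z := g * z * g⁻¹) ?_ (Subgroup.mem_inf.mpr
    ⟨hsub (g • P) ⟨z, hzP, rfl⟩, ⟨z, hP hzP, rfl⟩⟩))
  rw [← MulAut.conj_apply, MulEquiv.orderOf_eq, hz]

end Cfsg.Agent.Invol
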