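import Mathlib
import Cfsg.Prelude.Def_SylowControl
import Cfsg.Prelude.Def_SylowChains

/-!
Control of Sylow intersections, phrased through a step relation between Sylow subgroups.
-/

set_option autoImplicit false

open scoped Pointwise

namespace Cfsg.Agent.Invol

variable {G : Type*} [Group G] {p : ℕ}

theorem exists_fin_chain {α : Type*} {r : α → α → Prop} {a b : α}
    (h : Relation.ReflTransGen r a b) :
    ∃ (n : ℕ) (c : Fin (n + 1) → α), c 0 = a ∧ c (Fin.last n) = b ∧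
      ∀ i : Fin n, r (c i.castSucc) (c i.succ) := by
  induction h with
  | refl => exact ⟨0, fun _ => a, rfl, rfl, fun i => i.elim0⟩
  | @tail b c _ hbc ih =>
    obtain ⟨n, d, h0, hl, hd⟩ := ih
    refine ⟨n + 1, Fin.snoc d c, ?_, Fin.snoc_last _ _, fun i => ?_⟩
    · rw [← Fin.castSucc_zero, Fin.snoc_castSucc, h0]
    · refine Fin.lastCases ?_ (fun i => ?_) i
      · rw [Fin.snoc_castSucc, Fin.succ_last, Fin.snoc_last, hl]
        exact hbc
      · rw [Fin.snoc_castSucc, ← Fin.castSucc_succ, Fin.snoc_castSucc]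
        exact hd i

theorem reflTransGen_of_fin_chain {α : Type*} {r : α → α → Prop} {n : ℕ} {c : Fin (n + 1) → α}
    (h : ∀ i : Fin n, r (c i.castSucc) (c i.succ)) :
    ∀ i : Fin (n + 1), Relation.ReflTransGen r (c 0) (c i) := by
  intro i
  induction i using Fin.induction with
  | zero => exact .refl
  | succ i ih => exact ih.tail (h i)

theorem mem_conjRightSubgroup {g : G} {X : Subgroup G} {a : G} :
    a ∈ Cfsg.subgroupConjRight g X ↔ g * a * g⁻¹ ∈ X := by
  constructor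
  · rintro ⟨b, hb, rfl⟩
    show g * (g⁻¹ * b * g⁻¹⁻¹) * g⁻¹ ∈ X
    simpa [mul_assoc] using hb
  · intro h
    exact ⟨g * a * g⁻¹, h, by show g⁻¹ * (g * a * g⁻¹) * g⁻¹⁻¹ = a; group⟩

theorem mem_smul_sylow {g a : G} {U : Sylow p G} :
    a ∈ ((g • U : Sylow p G) : Subgroup G) ↔ g⁻¹ * a * g ∈ (U : Subgroup G) := by
  rw [Sylow.coe_subgroup_smul, Subgroup.mem_pointwise_smul_iff_inv_smul_mem, ← map_inv,
    MulAut.smul_def, MulAut.conj_apply, inv_inv]

theorem smul_eq_iff_conjRight {g : G} {U V : Sylow p G} :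
    g • U = V ↔ Cfsg.subgroupConjRight g (V : Subgroup G) = (U : Subgroup G) := by
  constructor
  · rintro rfl
    ext a
    rw [mem_conjRightSubgroup, mem_smul_sylow]
    simp [mul_assoc]
  · intro h
    refine Sylow.ext (SetLike.ext fun a => ?_)
    rw [mem_smul_sylow, ← h, mem_conjRightSubgroup]
    simp [mul_assoc]

/-- One step of a chain of Sylow subgroups controlled by `𝓕`, over the subgroup `D`. -/
def CtrlStep (p : ℕ) (𝓕 : Set (Subgroup G)) (D : Subgroup G) (U V : Sylow p G) : Prop :=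
  ∃ X : Subgroup G, ∃ x ∈ X, X ∈ Cfsg.sylowMembers p 𝓕 (U : Subgroup G) ∧
    X ∈ Cfsg.sylowMembers p 𝓕 (V : Subgroup G) ∧ x • U = V ∧ D ≤ (V : Subgroup G) ⊓ X

theorem controls_iff {𝓕 : Set (Subgroup G)} :
    Cfsg.ControlsSylowIntersections p 𝓕 ↔ ∀ S T : Sylow p G, S ≠ T →
      (S : Subgroup G) ⊓ (T : Subgroup G) ≠ ⊥ →
        Relation.ReflTransGen (CtrlStep p 𝓕 ((S : Subgroup G) ⊓ (T : Subgroup G))) S T := by
  refine forall₄_congr fun S T _ _ => ⟨?_, fun h => ?_⟩
  · rintro ⟨n, c, X, x, rfl, rfl, h⟩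
    refine reflTransGen_of_fin_chain (fun i => ?_) _
    obtain ⟨h1, h2, h3, h4, h5⟩ := h i
    exact ⟨X i, x i, h3, h1, h2, smul_eq_iff_conjRight.mpr h4, h5⟩
  · obtain ⟨n, c, h0, hl, hc⟩ := exists_fin_chain h
    choose X x hx h1 h2 h3 h4 using hc
    exact ⟨n, c, X, x, h0, hl, fun i => ⟨h1 i, h2 i, hx i, smul_eq_iff_conjRight.mp (h3 i), h4 i⟩⟩

theorem sylowMembers_iff [Finite G] [Fact p.Prime] {𝓕 : Set (Subgroup G)} {X : Subgroup G}
    (U : Sylow p G) : X ∈ Cfsg.sylowMembers p 𝓕 (U : Subgroup G) ↔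
      X ∈ 𝓕 ∧ ¬ p ∣ ((U : Subgroup G) ⊓ X).relIndex X := by
  refine and_congr_right fun _ => ⟨?_, fun h => ?_⟩
  · rintro ⟨P, hP⟩
    rw [← hP, Subgroup.relIndex, Subgroup.subgroupOf,
      Subgroup.comap_map_eq_self_of_injective X.subtype_injective]
    exact P.not_dvd_index
  · have hp : IsPGroup p ↥(((U : Subgroup G) ⊓ X).subgroupOf X) :=
      (U.isPGroup'.to_le (inf_le_left : (U : Subgroup G) ⊓ X ≤ _)).of_equiv
        (Subgroup.subgroupOfEquivOfLe inf_le_right).symm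
    exact ⟨hp.toSylow h, Subgroup.map_subgroupOf_eq_of_le inf_le_right⟩

/-- Conjugation carries `𝓕(U)` to `𝓕(g • U)`. -/
theorem sylowMembers_conj [Finite G] [Fact p.Prime] {𝓕 : Set (Subgroup G)}
    (h𝓕 : Cfsg.IsNormalSet 𝓕) {X : Subgroup G} {U : Sylow p G}
    (hX : X ∈ Cfsg.sylowMembers p 𝓕 (U : Subgroup G)) (g : G) :
    X.map (MulAut.conj g).toMonoidHom ∈ Cfsg.sylowMembers p 𝓕 ((g • U : Sylow p G) : Subgroup G) := by
  rw [sylowMembers_iff] at hX ⊢
  refine ⟨?_, ?_⟩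
  · have := h𝓕 X hX.1 g⁻¹
    rwa [Cfsg.subgroupConjRight, inv_inv] at this
  · have e : ((g • U : Sylow p G) : Subgroup G) = (U : Subgroup G).map (MulAut.conj g).toMonoidHom := by
      rw [Sylow.coe_subgroup_smul]; rfl
    rw [e, ← Subgroup.map_inf _ _ _ (MulAut.conj g).injective,
      Subgroup.relIndex_map_map_of_injective _ _ (MulAut.conj g).injective]
    exact hX.2

theorem prod_take_succ {M : Type*} [Monoid M] {n : ℕ} (y : Fin n → M) (i : Fin n) :
    ((List.ofFn y).take (i.val + 1)).prod = ((List.ofFn y).take i.val).prod * y i := by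
  rw [List.take_add_one, List.getElem?_eq_getElem (by simp), List.prod_append]
  simp

end Cfsg.Agent.Invol
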