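import Mathlib

/-!
# Fixed points of Sylow subgroups in transitive groups

If `G` is finite, `p` a prime and `X` a subgroup generated by Sylow `p`-subgroups of `H` that
does not contain all of them, then a Sylow `p`-subgroup of `H` lies in at most a
`(p-1)/(2p-1)` fraction of the `H`-conjugates of `X`.

The proof is an induction on `H`, proving at the same time that few such subgroups with small
total slack contain a common Sylow `p`-subgroup; `p` conjugates permuted cyclically by an element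
of `p`-power order never do.
-/

set_option linter.style.longLine false

open scoped Pointwise

namespace Cfsg.Agent.Invol.SylowFix

variable {G : Type*} [Group G] [Finite G] {p : ℕ} [hp : Fact p.Prime]

/-- The subgroup generated by the Sylow `p`-subgroups of `G` contained in `X`. -/
def gen (p : ℕ) (X : Subgroup G) : Subgroup G :=
  ⨆ (P : Sylow p G) (_ : (P : Subgroup G) ≤ X), (P : Subgroup G)

/-- Conjugates of `X` by elements of `H`. -/
noncomputable def orb (H X : Subgroup G) : Finset (Subgroup G) :=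
  (Set.toFinite (Set.range fun h : H => MulAut.conj (h : G) • X)).toFinset

/-- Weight of a point relative to the Sylow subgroup `P`. -/
noncomputable def wt (P : Sylow p G) (X : Subgroup G) : ℤ := by
  classical
  exact ((p : ℤ) - 1) - if (P : Subgroup G) ≤ X then 2 * (p : ℤ) - 1 else 0

/-- Slack of a set of subgroups. -/
noncomputable def slack (P : Sylow p G) (s : Finset (Subgroup G)) : ℤ := ∑ X ∈ s, wt P X

lemma gen_le (X : Subgroup G) : gen p X ≤ X := iSup₂_le fun _ h => h

lemma le_gen {X : Subgroup G} {P : Sylow p G} (h : (P : Subgroup G) ≤ X) :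
    (P : Subgroup G) ≤ gen p X := le_iSup₂_of_le P h le_rfl

lemma le_gen_iff {X : Subgroup G} {P : Sylow p G} :
    (P : Subgroup G) ≤ gen p X ↔ (P : Subgroup G) ≤ X :=
  ⟨fun h => h.trans (gen_le X), le_gen⟩

lemma gen_mono {X Y : Subgroup G} (h : X ≤ Y) : gen p X ≤ gen p Y :=
  iSup₂_le fun P hP => le_gen (hP.trans h)

lemma gen_gen (X : Subgroup G) : gen p (gen p X) = gen p X :=
  le_antisymm (gen_le _) (iSup₂_le fun _ hP => le_gen (le_gen hP))

lemma conj_gen (g : G) (X : Subgroup G) :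
    MulAut.conj g • gen p X = gen p (MulAut.conj g • X) := by
  have key : ∀ (g : G) (X : Subgroup G),
      gen p (MulAut.conj g • X) ≤ MulAut.conj g • gen p X := by
    intro g X
    refine iSup₂_le fun P hP => ?_
    have h2 := Subgroup.subset_pointwise_smul_iff.1 hP
    have h3 : ((g⁻¹ • P : Sylow p G) : Subgroup G) ≤ gen p X :=
      le_gen (by rw [Sylow.coe_subgroup_smul, map_inv]; exact h2)
    rw [Sylow.coe_subgroup_smul, map_inv] at h3
    exact Subgroup.subset_pointwise_smul_iff.2 h3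
  refine le_antisymm ?_ (key g X)
  have h := key g⁻¹ (MulAut.conj g • X)
  rw [map_inv, inv_smul_smul] at h
  exact Subgroup.pointwise_smul_subset_iff.2 h

lemma mem_orb {H X X' : Subgroup G} :
    X' ∈ orb H X ↔ ∃ h ∈ H, MulAut.conj h • X = X' := by
  simp [orb]

lemma self_mem_orb (H X : Subgroup G) : X ∈ orb H X :=
  mem_orb.2 ⟨1, H.one_mem, by simp⟩

lemma orb_eq_of_mem {H X X' : Subgroup G} (h : X' ∈ orb H X) : orb H X' = orb H X := by
  obtain ⟨a, ha, rfl⟩ := mem_orb.1 h
  ext Z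
  simp only [mem_orb]
  constructor
  · rintro ⟨b, hb, rfl⟩
    exact ⟨b * a, H.mul_mem hb ha, by rw [map_mul, mul_smul]⟩
  · rintro ⟨b, hb, rfl⟩
    exact ⟨b * a⁻¹, H.mul_mem hb (H.inv_mem ha), by
      rw [map_mul, mul_smul, map_inv, inv_smul_smul]⟩

lemma conj_mem_orb {H X X' : Subgroup G} {h : G} (hh : h ∈ H) (hX : X' ∈ orb H X) :
    MulAut.conj h • X' ∈ orb H X := by
  rw [← orb_eq_of_mem hX]
  exact mem_orb.2 ⟨h, hh, rfl⟩

lemma conj_smul_of_mem {H : Subgroup G} {h : G} (hh : h ∈ H) : MulAut.conj h • H = H := by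
  ext x
  rw [Subgroup.mem_pointwise_smul_iff_inv_smul_mem, MulAut.inv_def, MulAut.smul_def,
    MulAut.conj_symm_apply]
  constructor
  · intro hx
    have := H.mul_mem (H.mul_mem hh hx) (H.inv_mem hh)
    simpa [mul_assoc] using this
  · intro hx
    exact H.mul_mem (H.mul_mem (H.inv_mem hh) hx) hh

omit [Finite G] in
lemma conj_smul_eq_iff {g : G} {X : Subgroup G} :
    MulAut.conj g • X = X ↔ g ∈ Subgroup.normalizer (X : Set G) := by
  rw [Subgroup.mem_normalizer_iff]
  constructor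
  · intro h x
    conv_rhs => rw [← h]
    rw [Subgroup.mem_pointwise_smul_iff_inv_smul_mem, MulAut.inv_def, MulAut.smul_def,
      MulAut.conj_symm_apply]
    simp [mul_assoc]
  · intro h
    ext x
    rw [Subgroup.mem_pointwise_smul_iff_inv_smul_mem, MulAut.inv_def, MulAut.smul_def,
      MulAut.conj_symm_apply]
    have := h (g⁻¹ * x * g)
    simp only [mul_assoc, mul_inv_cancel, mul_one, mul_inv_cancel_left] at this
    simpa [mul_assoc] using this

/-- Sylow subgroups of `G` inside `H` are conjugate in `H`. -/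
lemma exists_conj_sylow {H : Subgroup G} (P Q : Sylow p G) (hP : (P : Subgroup G) ≤ H)
    (hQ : (Q : Subgroup G) ≤ H) :
    ∃ h ∈ H, MulAut.conj h • (P : Subgroup G) = (Q : Subgroup G) := by
  obtain ⟨h, hh⟩ := MulAction.exists_smul_eq ↥H (P.subtype hP) (Q.subtype hQ)
  refine ⟨h, h.2, ?_⟩
  have h1 : (h • P).subtype (Sylow.smul_le hP h) = Q.subtype hQ :=
    (Sylow.smul_subtype hP h).symm.trans hh
  rw [← Sylow.subtype_injective h1]
  rfl

/-- A `p`-element normalizing a subgroup containing a Sylow `p`-subgroup lies in it. -/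
lemma mem_of_normalizes {M : Subgroup G} {Q : Sylow p G} (hQ : (Q : Subgroup G) ≤ M) {x : G}
    (hx : ∃ k, x ^ p ^ k = 1) (hN : x ∈ Subgroup.normalizer (M : Set G)) : x ∈ M := by
  set N := Subgroup.normalizer (M : Set G) with hNdef
  have hMN : M ≤ N := Subgroup.le_normalizer
  haveI : (M.subgroupOf N).Normal := Subgroup.normal_in_normalizer
  obtain ⟨k, hk⟩ := hx
  have h1 : orderOf (QuotientGroup.mk (s := M.subgroupOf N) ⟨x, hN⟩) ∣ p ^ k := by
    apply orderOf_dvd_of_pow_eq_one
    rw [← QuotientGroup.mk_pow]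
    have : (⟨x, hN⟩ : N) ^ p ^ k = 1 := Subtype.ext (by simpa using hk)
    rw [this, QuotientGroup.mk_one]
  have h2 : orderOf (QuotientGroup.mk (s := M.subgroupOf N) ⟨x, hN⟩) ∣ M.relIndex N :=
    orderOf_dvd_natCard _
  have h3 : ¬ p ∣ M.relIndex N := by
    intro hd
    apply Q.not_dvd_index
    have h4 : (Q : Subgroup G).relIndex N ∣ (Q : Subgroup G).index :=
      Subgroup.relIndex_dvd_index_of_le (hQ.trans hMN)
    have h5 : M.relIndex N ∣ (Q : Subgroup G).relIndex N :=
      ⟨(Q : Subgroup G).relIndex M, by rw [mul_comm, Subgroup.relIndex_mul_relIndex _ _ _ hQ hMN]⟩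
    exact hd.trans (h5.trans h4)
  obtain ⟨j, -, hj⟩ := (Nat.dvd_prime_pow hp.out).1 h1
  rcases Nat.eq_zero_or_pos j with h0 | h0
  · rw [h0, pow_zero, orderOf_eq_one_iff, QuotientGroup.eq_one_iff, Subgroup.mem_subgroupOf] at hj
    exact hj
  · exact absurd ((hj ▸ dvd_pow_self p h0.ne' : p ∣ _).trans h2) h3

lemma exists_pow_eq_one (P : Sylow p G) {g : G} (hg : g ∈ (P : Subgroup G)) :
    ∃ k, g ^ p ^ k = 1 := by
  obtain ⟨k, hk⟩ := P.2 ⟨g, hg⟩
  exact ⟨k, by simpa using congrArg Subtype.val hk⟩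

/-- If `P` does not normalise `X`, some element of `P` moves `X` in a cycle of length `p`. -/
lemma exists_cycle (P : Sylow p G) (X : Subgroup G)
    (h : ¬ (P : Subgroup G) ≤ Subgroup.normalizer (X : Set G)) :
    ∃ x ∈ (P : Subgroup G), MulAut.conj (x ^ p) • X = X ∧
      Function.Injective (fun i : Fin p => MulAut.conj (x ^ (i : ℕ)) • X) := by
  classical
  obtain ⟨g, hg, hgN⟩ := Set.not_subset.1 h
  obtain ⟨k, hk⟩ := exists_pow_eq_one P hg
  have hex : ∃ j, g ^ p ^ j ∈ Subgroup.normalizer (X : Set G) := ⟨k, hk ▸ one_mem _⟩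
  have hspec := Nat.find_spec hex
  cases hj : Nat.find hex with
  | zero => rw [hj, pow_zero, pow_one] at hspec; exact absurd hspec hgN
  | succ j =>
    have hxN : g ^ p ^ j ∉ Subgroup.normalizer (X : Set G) :=
      Nat.find_min hex (by omega)
    have hxp : (g ^ p ^ j) ^ p ∈ Subgroup.normalizer (X : Set G) := by
      rw [← pow_mul, ← pow_succ, ← hj]; exact hspec
    refine ⟨g ^ p ^ j, Subgroup.pow_mem _ hg _, conj_smul_eq_iff.2 hxp, ?_⟩
    have key : ∀ a b : ℕ, a < b → b < p →
        MulAut.conj ((g ^ p ^ j) ^ a) • X ≠ MulAut.conj ((g ^ p ^ j) ^ b) • X := by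
      intro a b hab hbp he
      obtain ⟨e, rfl⟩ := Nat.exists_eq_add_of_lt hab
      apply hxN
      have h1 : MulAut.conj ((g ^ p ^ j) ^ (e + 1)) • X = X := by
        have : a + e + 1 = a + (e + 1) := by omega
        rw [this, pow_add, map_mul, mul_smul, smul_left_cancel_iff] at he
        exact he.symm
      have h2 := conj_smul_eq_iff.1 h1
      obtain ⟨u, v, huv⟩ : IsCoprime ((e + 1 : ℕ) : ℤ) (p : ℤ) := by
        rw [Int.isCoprime_iff_nat_coprime]
        simp only [Int.natAbs_natCast]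
        exact (Nat.coprime_of_lt_prime (by omega) (by omega) hp.out).symm
      have : g ^ p ^ j = ((g ^ p ^ j) ^ (e + 1)) ^ u * ((g ^ p ^ j) ^ p) ^ v := by
        rw [← zpow_natCast (g ^ p ^ j) (e + 1), ← zpow_natCast (g ^ p ^ j) p, ← zpow_mul,
          ← zpow_mul, ← zpow_add, mul_comm ((e + 1 : ℕ) : ℤ) u, mul_comm ((p : ℕ) : ℤ) v, huv,
          zpow_one]
      rw [this]
      exact mul_mem (zpow_mem h2 u) (zpow_mem hxp v)
    intro a b he
    rcases lt_trichotomy (a : ℕ) b with hab | hab | hab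
    · exact absurd he (key _ _ hab b.2)
    · exact Fin.ext hab
    · exact absurd he.symm (key _ _ hab a.2)

/-- `X` is a point for `H`. -/
structure Good (p : ℕ) (H X : Subgroup G) : Prop where
  gen_eq : gen p X = X
  sylow : ∃ P : Sylow p G, (P : Subgroup G) ≤ X
  le : X ≤ H
  proper : gen p H ≠ X

lemma Good.conj {H X : Subgroup G} (hX : Good p H X) {h : G} (hh : h ∈ H) :
    Good p H (MulAut.conj h • X) where
  gen_eq := by rw [← conj_gen, hX.gen_eq]
  sylow := by
    obtain ⟨P, hP⟩ := hX.sylow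
    exact ⟨h • P, by rw [Sylow.coe_subgroup_smul]; exact Subgroup.pointwise_smul_le_pointwise_smul_iff.2 hP⟩
  le := by
    rw [← conj_smul_of_mem hh]
    exact Subgroup.pointwise_smul_le_pointwise_smul_iff.2 hX.le
  proper := by
    intro he
    apply hX.proper
    have h2 := congrArg (fun M => (MulAut.conj h)⁻¹ • M) he
    simp only [inv_smul_smul] at h2
    rw [← map_inv, conj_gen, conj_smul_of_mem (H.inv_mem hh)] at h2
    exact h2

/-- In a good configuration not every Sylow subgroup of `H` lies in `X`. -/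
lemma Good.exists_not_le {H X : Subgroup G} (hX : Good p H X) :
    ∃ Q : Sylow p G, (Q : Subgroup G) ≤ H ∧ ¬ (Q : Subgroup G) ≤ Subgroup.normalizer (X : Set G) := by
  by_contra hc
  push Not at hc
  apply hX.proper
  refine le_antisymm (iSup₂_le fun Q hQ => ?_) (hX.gen_eq ▸ gen_mono hX.le)
  intro q hq
  obtain ⟨P, hP⟩ := hX.sylow
  exact mem_of_normalizes hP (exists_pow_eq_one Q hq) (hc Q hQ hq)

omit [Finite G] hp in
lemma orb_sum_indep_aux (φ : G) (P : Sylow p G) (X : Subgroup G) :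
    wt (φ • P) (MulAut.conj φ • X) = wt P X := by
  have h : ((φ • P : Sylow p G) : Subgroup G) ≤ MulAut.conj φ • X ↔ (P : Subgroup G) ≤ X := by
    rw [Sylow.coe_subgroup_smul]; exact Subgroup.pointwise_smul_le_pointwise_smul_iff
  classical
  by_cases hc : (P : Subgroup G) ≤ X <;> simp [wt, h, hc]

lemma slack_indep {H X : Subgroup G} (P Q : Sylow p G) (hP : (P : Subgroup G) ≤ H)
    (hQ : (Q : Subgroup G) ≤ H) : slack P (orb H X) = slack Q (orb H X) := by
  obtain ⟨h, hh, hc⟩ := exists_conj_sylow P Q hP hQ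
  have hQ' : h • P = Q := Sylow.ext (by rw [Sylow.coe_subgroup_smul]; exact hc)
  refine Finset.sum_bij (fun Z _ => MulAut.conj h • Z) (fun Z hZ => conj_mem_orb hh hZ)
    (fun a _ b _ he => (smul_left_cancel_iff _).1 he)
    (fun Z hZ => ⟨MulAut.conj h⁻¹ • Z, conj_mem_orb (H.inv_mem hh) hZ, by
      rw [map_inv, smul_inv_smul]⟩)
    (fun Z _ => ?_)
  rw [← hQ', orb_sum_indep_aux]

/-- Slack through an equivariant map with which the Sylow containment is compatible. -/
lemma slack_image {H X : Subgroup G} (P : Sylow p G) (hP : (P : Subgroup G) ≤ H) :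
    ∃ c : ℕ, 0 < c ∧
      slack P (orb H X) = c * slack P (orb H (gen p (H ⊓ X))) := by
  classical
  set φ : Subgroup G → Subgroup G := fun Z => gen p (H ⊓ Z) with hφ
  have heq : ∀ h ∈ H, ∀ Z, φ (MulAut.conj h • Z) = MulAut.conj h • φ Z := by
    intro h hh Z
    simp only [hφ, conj_gen, Subgroup.smul_inf, conj_smul_of_mem hh]
  set O := orb H X
  set O' := orb H (gen p (H ⊓ X))
  have hmaps : ∀ Z ∈ O, φ Z ∈ O' := by
    intro Z hZ
    obtain ⟨h, hh, rfl⟩ := mem_orb.1 hZ
    rw [heq h hh]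
    exact mem_orb.2 ⟨h, hh, rfl⟩
  have hw : ∀ Z, wt P (φ Z) = wt P Z := by
    intro Z
    have : (P : Subgroup G) ≤ φ Z ↔ (P : Subgroup G) ≤ Z := by
      rw [hφ, le_gen_iff, le_inf_iff]; exact and_iff_right hP
    unfold wt
    simp only [this]
  set c := (O.filter fun Z => φ Z = φ X).card with hc
  have hfib : ∀ W ∈ O', (O.filter fun Z => φ Z = W).card = c := by
    intro W hW
    obtain ⟨h, hh, rfl⟩ := mem_orb.1 hW
    refine Finset.card_bij' (fun Z _ => MulAut.conj h⁻¹ • Z) (fun Z _ => MulAut.conj h • Z)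
      ?_ ?_ (fun Z _ => by rw [map_inv, smul_inv_smul]) (fun Z _ => by rw [map_inv, inv_smul_smul])
    · intro Z hZ
      rw [Finset.mem_filter] at hZ ⊢
      refine ⟨conj_mem_orb (H.inv_mem hh) hZ.1, ?_⟩
      rw [heq _ (H.inv_mem hh), hZ.2, map_inv, inv_smul_smul]
    · intro Z hZ
      rw [Finset.mem_filter] at hZ ⊢
      exact ⟨conj_mem_orb hh hZ.1, by rw [heq _ hh, hZ.2]⟩
  refine ⟨c, Finset.card_pos.2 ⟨X, by simp [O, self_mem_orb]⟩, ?_⟩
  unfold slack
  rw [← Finset.sum_fiberwise_of_maps_to hmaps, Finset.mul_sum]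
  refine Finset.sum_congr rfl fun W hW => ?_
  rw [← hfib W hW, ← nsmul_eq_mul, ← Finset.sum_const]
  refine Finset.sum_congr rfl fun Z hZ => ?_
  rw [← hw Z, (Finset.mem_filter.1 hZ).2]

/-- The common Sylow property for `H`. -/
def Common (p : ℕ) (H : Subgroup G) : Prop :=
  ∀ P : Sylow p G, (P : Subgroup G) ≤ H → ∀ K : Finset (Subgroup G), (∀ X ∈ K, Good p H X) →
    ∀ [DecidableEq (Finset (Subgroup G))],
      (p : ℤ) * K.card + ∑ O ∈ K.image (orb H), slack P O < (p : ℤ) ^ 2 →
        ∃ Q : Sylow p G, (Q : Subgroup G) ≤ H ∧ ∀ X ∈ K, (Q : Subgroup G) ≤ X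

/-- The bound follows from the common Sylow property: `p` conjugates in a cycle of an element
of `p`-power order contain no common Sylow subgroup. -/
lemma slack_nonneg_of_common {H : Subgroup G} (hC : Common p H) {P : Sylow p G}
    (hP : (P : Subgroup G) ≤ H) {X : Subgroup G} (hX : Good p H X) :
    0 ≤ slack P (orb H X) := by
  classical
  by_contra hneg
  obtain ⟨Q, hQH, hQN⟩ := hX.exists_not_le
  obtain ⟨x, hxQ, hxp, hinj⟩ := exists_cycle Q X hQN
  set K : Finset (Subgroup G) :=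
    Finset.univ.image (fun i : Fin p => MulAut.conj (x ^ (i : ℕ)) • X) with hK
  have hxH : x ∈ H := hQH hxQ
  have hmem : ∀ Z ∈ K, ∃ n : ℕ, n < p ∧ MulAut.conj (x ^ n) • X = Z := by
    intro Z hZ
    obtain ⟨i, -, rfl⟩ := Finset.mem_image.1 hZ
    exact ⟨i, i.2, rfl⟩
  have hgood : ∀ Z ∈ K, Good p H Z := by
    intro Z hZ
    obtain ⟨n, -, rfl⟩ := hmem Z hZ
    exact hX.conj (H.pow_mem hxH n)
  have himg : K.image (orb H) ⊆ {orb H X} := by
    intro O hO
    obtain ⟨Z, hZ, rfl⟩ := Finset.mem_image.1 hO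
    obtain ⟨n, -, rfl⟩ := hmem Z hZ
    exact Finset.mem_singleton.2 (orb_eq_of_mem (mem_orb.2 ⟨_, H.pow_mem hxH n, rfl⟩))
  have hne : (K.image (orb H)).Nonempty := by
    refine ⟨orb H X, Finset.mem_image.2 ⟨X, Finset.mem_image.2 ⟨⟨0, hp.out.pos⟩, by simp, by simp⟩, rfl⟩⟩
  have hsum : ∑ O ∈ K.image (orb H), slack P O = slack P (orb H X) := by
    rw [(Finset.subset_singleton_iff.1 himg).resolve_left hne.ne_empty, Finset.sum_singleton]
  have hcard : K.card ≤ p := Finset.card_image_le.trans (by simp)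
  obtain ⟨Q0, -, hQ0⟩ := hC P hP K hgood (by
    rw [hsum]
    have : (p : ℤ) * K.card ≤ (p : ℤ) ^ 2 := by
      rw [sq]; exact mul_le_mul_of_nonneg_left (by exact_mod_cast hcard) (by positivity)
    omega)
  set M : Subgroup G := K.inf id with hM
  have hQM : (Q0 : Subgroup G) ≤ M := Finset.le_inf fun Z hZ => hQ0 Z hZ
  have hstep : ∀ Z ∈ K, MulAut.conj x • Z ∈ K := by
    intro Z hZ
    obtain ⟨n, hn, rfl⟩ := hmem Z hZ
    rw [← mul_smul, ← map_mul, ← pow_succ']
    rcases Nat.lt_or_ge (n + 1) p with h | h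
    · exact Finset.mem_image.2 ⟨⟨n + 1, h⟩, by simp, rfl⟩
    · have : n + 1 = p := by omega
      rw [this, hxp]
      exact Finset.mem_image.2 ⟨⟨0, hp.out.pos⟩, by simp, by simp⟩
  have hMx : MulAut.conj x • M = M := by
    have hle : MulAut.conj x • M ≤ M := by
      refine Finset.le_inf fun Z hZ => ?_
      obtain ⟨Z', hZ', rfl⟩ : ∃ Z' ∈ K, MulAut.conj x • Z' = Z := by
        exact Finset.surjOn_of_injOn_of_card_le (fun Z => MulAut.conj x • Z) hstep
          (fun a _ b _ h => (smul_left_cancel_iff _).1 h) le_rfl hZ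
      exact Subgroup.pointwise_smul_le_pointwise_smul_iff.2 (Finset.inf_le (f := id) hZ')
    exact Subgroup.eq_of_le_of_card_ge hle
      (Nat.card_congr (Subgroup.equivSMul (MulAut.conj x) M).toEquiv).le
  have hxM : x ∈ M := mem_of_normalizes hQM (exists_pow_eq_one Q hxQ) (conj_smul_eq_iff.1 hMx)
  have hxX : x ∈ X := by
    have : M ≤ X := Finset.inf_le (f := id) (Finset.mem_image.2 ⟨⟨0, hp.out.pos⟩, by simp, by simp⟩)
    exact this hxM
  have := @hinj ⟨1, hp.out.one_lt⟩ ⟨0, hp.out.pos⟩ (by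
    simp only [pow_one, pow_zero, map_one, one_smul]
    exact conj_smul_eq_iff.2 (Subgroup.le_normalizer hxX))
  simp at this

/-- The common Sylow property holds for every subgroup. -/
theorem common (H : Subgroup G) : Common p H := by
  induction H using WellFoundedLT.induction with
  | ind H IH =>
  classical
  intro P hPH K hgood hdec hsum
  rcases K.eq_empty_or_nonempty with rfl | hKne
  · exact ⟨P, hPH, by simp⟩
  let sig : Subgroup G → ℕ := fun X => Nat.card {Q : Sylow p G // (Q : Subgroup G) ≤ X}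
  obtain ⟨Y, hYK, hYmax⟩ := K.exists_max_image sig hKne
  obtain ⟨P', hP'Y⟩ := (hgood Y hYK).sylow
  by_cases hk : K.card = 1
  · obtain ⟨Z, rfl⟩ := Finset.card_eq_one.1 hk
    obtain rfl := Finset.mem_singleton.1 hYK
    exact ⟨P', hP'Y.trans (hgood Y hYK).le, by simpa using hP'Y⟩
  have hk2 : 2 ≤ K.card := by have := hKne.card_pos; omega
  set N := H ⊓ Subgroup.normalizer (Y : Set G) with hN
  have hYN : Y ≤ N := le_inf (hgood Y hYK).le Subgroup.le_normalizer
  have hP'N : (P' : Subgroup G) ≤ N := hP'Y.trans hYN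
  have hP'H : (P' : Subgroup G) ≤ H := hP'N.trans inf_le_left
  have hNlt : N < H := by
    refine lt_of_le_of_ne inf_le_left fun he => ?_
    obtain ⟨Q, hQH, hQN⟩ := (hgood Y hYK).exists_not_le
    exact hQN (hQH.trans (he ▸ inf_le_right))
  have hNsyl : ∀ Q : Sylow p G, (Q : Subgroup G) ≤ N → (Q : Subgroup G) ≤ Y := fun Q hQ q hq =>
    mem_of_normalizes hP'Y (exists_pow_eq_one Q hq) (hQ hq).2
  have hgenN : gen p N = Y := le_antisymm
    (iSup₂_le fun Q hQ => hNsyl Q hQ) ((hgood Y hYK).gen_eq ▸ gen_mono hYN)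
  set U : Finset (Subgroup G) := (K.image (orb H)).biUnion id with hU
  have hUmem : ∀ Z ∈ U, ∃ X ∈ K, Z ∈ orb H X := by
    intro Z hZ
    simpa [hU] using hZ
  have hKU : ∀ X ∈ K, X ∈ U := fun X hX => by
    simp only [hU, Finset.mem_biUnion, Finset.mem_image, id_eq]
    exact ⟨_, ⟨X, hX, rfl⟩, self_mem_orb H X⟩
  have hUgood : ∀ Z ∈ U, Good p H Z ∧ sig Z ≤ sig Y := by
    intro Z hZ
    obtain ⟨X, hX, hZX⟩ := hUmem Z hZ
    obtain ⟨h, hh, rfl⟩ := mem_orb.1 hZX
    refine ⟨(hgood X hX).conj hh, le_trans (le_of_eq ?_) (hYmax X hX)⟩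
    refine Nat.card_congr ((MulAction.toPerm (h⁻¹ : G)).subtypeEquiv fun Q => ?_)
    show (Q : Subgroup G) ≤ _ ↔ ((h⁻¹ • Q : Sylow p G) : Subgroup G) ≤ _
    rw [Sylow.coe_subgroup_smul, map_inv, Subgroup.subset_pointwise_smul_iff]
  have hUclosed : ∀ Z ∈ U, ∀ W ∈ orb N Z, W ∈ U := by
    intro Z hZ W hW
    obtain ⟨X, hX, hZX⟩ := hUmem Z hZ
    obtain ⟨n, hn, rfl⟩ := mem_orb.1 hW
    simp only [hU, Finset.mem_biUnion, Finset.mem_image, id_eq]
    exact ⟨_, ⟨X, hX, rfl⟩, conj_mem_orb hn.1 hZX⟩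
  -- total slack does not depend on the orbit decomposition
  have htot : ∑ O ∈ K.image (orb H), slack P O = ∑ S ∈ U.image (orb N), slack P' S := by
    have h1 : ∑ O ∈ K.image (orb H), slack P O = ∑ Z ∈ U, wt P' Z := by
      rw [hU, Finset.sum_biUnion]
      · refine Finset.sum_congr rfl fun O hO => ?_
        obtain ⟨X, -, rfl⟩ := Finset.mem_image.1 hO
        exact slack_indep P P' hPH hP'H
      · intro O hO O' hO' hne
        obtain ⟨X, -, rfl⟩ := Finset.mem_image.1 hO
        obtain ⟨X', -, rfl⟩ := Finset.mem_image.1 hO'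
        simp only [Function.onFun, id_eq, Finset.disjoint_left]
        intro Z hZ hZ'
        exact hne ((orb_eq_of_mem hZ).symm.trans (orb_eq_of_mem hZ'))
    rw [h1, ← Finset.sum_fiberwise_of_maps_to (fun Z hZ => Finset.mem_image_of_mem (orb N) hZ)]
    refine Finset.sum_congr rfl fun S hS => ?_
    obtain ⟨Z, hZ, rfl⟩ := Finset.mem_image.1 hS
    refine Finset.sum_congr ?_ fun _ _ => rfl
    ext W
    simp only [Finset.mem_filter]
    exact ⟨fun h => h.2 ▸ self_mem_orb N W, fun h => ⟨hUclosed Z hZ W h, orb_eq_of_mem h⟩⟩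
  have horbY : orb N Y = {Y} := by
    ext W
    rw [mem_orb, Finset.mem_singleton]
    exact ⟨fun ⟨n, hn, e⟩ => e ▸ conj_smul_eq_iff.2 hn.2,
      fun e => ⟨1, N.one_mem, by simp [e]⟩⟩
  have hslackY : slack P' (orb N Y) = -(p : ℤ) := by
    rw [horbY, slack, Finset.sum_singleton, wt]
    simp only [hP'Y, if_true]
    ring
  -- points with an image
  have himg : ∀ Z ∈ U, Z ≠ Y → (∃ W ∈ orb N Z, (P' : Subgroup G) ≤ W) →
      Good p N (gen p (N ⊓ Z)) := by
    rintro Z hZ hne ⟨W, hW, hPW⟩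
    refine ⟨gen_gen _, ?_, (gen_le _).trans inf_le_left, fun he => ?_⟩
    · obtain ⟨n, hn, rfl⟩ := mem_orb.1 hW
      refine ⟨n⁻¹ • P', le_gen (le_inf ?_ ?_)⟩ <;> rw [Sylow.coe_subgroup_smul]
      · have := Subgroup.pointwise_smul_le_pointwise_smul_iff (a := (MulAut.conj n⁻¹)).2 hP'N
        rwa [conj_smul_of_mem (N.inv_mem hn)] at this
      · have h2 := Subgroup.pointwise_smul_le_pointwise_smul_iff (a := (MulAut.conj n⁻¹)).2 hPW
        rw [← mul_smul, ← map_mul, inv_mul_cancel, map_one, one_smul] at h2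
        exact h2
    · apply hne
      have hYZ : Y ≤ Z := by rw [← hgenN, he]; exact (gen_le _).trans inf_le_right
      obtain ⟨hZg, hZs⟩ := hUgood Z hZ
      refine le_antisymm ?_ hYZ
      rw [← hZg.gen_eq]
      refine iSup₂_le fun Q hQ => ?_
      have hsub : {Q : Sylow p G | (Q : Subgroup G) ≤ Y} = {Q : Sylow p G | (Q : Subgroup G) ≤ Z} := by
        refine Set.eq_of_subset_of_ncard_le (fun Q hQ => le_trans hQ hYZ) ?_ (Set.toFinite _)
        rw [← Nat.card_coe_set_eq, ← Nat.card_coe_set_eq]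
        exact hZs
      exact (hsub.symm ▸ hQ : Q ∈ {Q : Sylow p G | (Q : Subgroup G) ≤ Y})
  have hnn : ∀ Z ∈ U, Z ≠ Y → 0 ≤ slack P' (orb N Z) ∧
      ((∃ W ∈ orb N Z, (P' : Subgroup G) ≤ W) →
        0 ≤ slack P' (orb N (gen p (N ⊓ Z))) ∧
          slack P' (orb N (gen p (N ⊓ Z))) ≤ slack P' (orb N Z)) ∧
      (¬ (∃ W ∈ orb N Z, (P' : Subgroup G) ≤ W) →
        (p : ℤ) * (p - 1) ≤ slack P' (orb N Z)) := by
    intro Z hZ hne
    by_cases hfx : ∃ W ∈ orb N Z, (P' : Subgroup G) ≤ W
    · obtain ⟨c, hc, he⟩ := slack_image (X := Z) P' hP'N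
      have h0 := slack_nonneg_of_common (IH N hNlt) hP'N (himg Z hZ hne hfx)
      refine ⟨he ▸ mul_nonneg (by positivity) h0, fun _ => ⟨h0, he ▸ ?_⟩, fun h => absurd hfx h⟩
      exact le_mul_of_one_le_left h0 (by exact_mod_cast hc)
    · have hval : slack P' (orb N Z) = ((orb N Z).card : ℤ) * (p - 1) := by
        push Not at hfx
        unfold slack
        rw [Finset.sum_congr rfl (g := fun _ => (p : ℤ) - 1) fun W hW => by
          simp [wt, hfx W hW]]
        rw [Finset.sum_const, nsmul_eq_mul]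
      have hcard : p ≤ (orb N Z).card := by
        have hPn : ¬ (P' : Subgroup G) ≤ Subgroup.normalizer (Z : Set G) := by
          intro h
          obtain ⟨Q, hQ⟩ := (hUgood Z hZ).1.sylow
          exact hfx ⟨Z, self_mem_orb N Z, fun q hq =>
            mem_of_normalizes hQ (exists_pow_eq_one P' hq) (h hq)⟩
        obtain ⟨x, hx, -, hinj⟩ := exists_cycle P' Z hPn
        calc p = (Finset.univ.image (fun i : Fin p => MulAut.conj (x ^ (i : ℕ)) • Z)).card := by
              rw [Finset.card_image_of_injective _ hinj]; simp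
          _ ≤ _ := Finset.card_le_card fun W hW => by
              obtain ⟨i, -, rfl⟩ := Finset.mem_image.1 hW
              exact mem_orb.2 ⟨_, N.pow_mem (hP'N hx) _, rfl⟩
      have hp1 : (0 : ℤ) ≤ p - 1 := by have := hp.out.one_lt; omega
      refine ⟨hval ▸ mul_nonneg (by positivity) hp1, fun h => absurd h hfx, fun _ => ?_⟩
      rw [hval]
      exact mul_le_mul_of_nonneg_right (by exact_mod_cast hcard) hp1
  set T := (U.image (orb N)).erase {Y} with hT
  have hTsum : ∑ S ∈ T, slack P' S = (∑ O ∈ K.image (orb H), slack P O) + p := by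
    have hmem : ({Y} : Finset (Subgroup G)) ∈ U.image (orb N) :=
      Finset.mem_image.2 ⟨Y, hKU Y hYK, horbY⟩
    rw [htot, ← Finset.sum_erase_add _ _ hmem, ← horbY, hslackY, horbY]
    ring
  have hTnn : ∀ S ∈ T, 0 ≤ slack P' S := by
    intro S hS
    obtain ⟨hSY, hS'⟩ := Finset.mem_erase.1 hS
    obtain ⟨Z, hZ, rfl⟩ := Finset.mem_image.1 hS'
    exact (hnn Z hZ (fun e => hSY (e ▸ horbY))).1
  have hKT : ∀ X ∈ K.erase Y, orb N X ∈ T := by
    intro X hX
    obtain ⟨hXY, hXK⟩ := Finset.mem_erase.1 hX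
    refine Finset.mem_erase.2 ⟨fun e => hXY ?_, Finset.mem_image_of_mem _ (hKU X hXK)⟩
    exact Finset.mem_singleton.1 (e ▸ self_mem_orb N X)
  have hfix : ∀ X ∈ K.erase Y, ∃ W ∈ orb N X, (P' : Subgroup G) ≤ W := by
    intro X hX
    by_contra hc
    have h1 := (hnn X (hKU X (Finset.mem_of_mem_erase hX)) (Finset.ne_of_mem_erase hX)).2.2 hc
    have h2 := Finset.single_le_sum hTnn (hKT X hX)
    have h3 : (2 : ℤ) ≤ K.card := by exact_mod_cast hk2
    have hp0 : (0 : ℤ) ≤ p := by positivity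
    nlinarith [hTsum]
  set φ : Subgroup G → Subgroup G := fun X => gen p (N ⊓ X) with hφ
  set K' := (K.erase Y).image φ with hK'
  have hgood' : ∀ X ∈ K', Good p N X := by
    intro X' hX'
    obtain ⟨X, hX, rfl⟩ := Finset.mem_image.1 hX'
    exact himg X (hKU X (Finset.mem_of_mem_erase hX)) (Finset.ne_of_mem_erase hX) (hfix X hX)
  have heq : ∀ X : Subgroup G, (orb N X).image φ = orb N (φ X) := by
    intro X
    ext W
    simp only [Finset.mem_image, mem_orb]
    have he : ∀ n ∈ N, φ (MulAut.conj n • X) = MulAut.conj n • φ X := by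
      intro n hn
      simp only [hφ, conj_gen, Subgroup.smul_inf, conj_smul_of_mem hn]
    constructor
    · rintro ⟨Z, ⟨n, hn, rfl⟩, rfl⟩
      exact ⟨n, hn, (he n hn).symm⟩
    · rintro ⟨n, hn, rfl⟩
      exact ⟨_, ⟨n, hn, rfl⟩, he n hn⟩
  have hsum' : ∑ S ∈ K'.image (orb N), slack P' S ≤ ∑ S ∈ T, slack P' S := by
    have e : K'.image (orb N) = ((K.erase Y).image (orb N)).image (Finset.image φ) := by
      rw [hK', Finset.image_image, Finset.image_image]
      exact Finset.image_congr fun X _ => (heq X).symm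
    rw [e]
    refine (Finset.sum_image_le_of_nonneg ?_).trans ?_
    · intro S hS
      obtain ⟨S0, hS0, rfl⟩ := Finset.mem_image.1 hS
      obtain ⟨X, hX, rfl⟩ := Finset.mem_image.1 hS0
      rw [heq]
      exact ((hnn X (hKU X (Finset.mem_of_mem_erase hX)) (Finset.ne_of_mem_erase hX)).2.1
        (hfix X hX)).1
    · refine (Finset.sum_le_sum fun S hS => ?_).trans
        (Finset.sum_le_sum_of_subset_of_nonneg ?_ fun S hS _ => hTnn S hS)
      · obtain ⟨X, hX, rfl⟩ := Finset.mem_image.1 hS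
        rw [heq]
        exact ((hnn X (hKU X (Finset.mem_of_mem_erase hX)) (Finset.ne_of_mem_erase hX)).2.1
          (hfix X hX)).2
      · intro S hS
        obtain ⟨X, hX, rfl⟩ := Finset.mem_image.1 hS
        exact hKT X hX
  have hcard' : (K'.card : ℤ) + 1 ≤ K.card := by
    have h1 : K'.card ≤ (K.erase Y).card := Finset.card_image_le
    have h2 := Finset.card_erase_add_one hYK
    omega
  obtain ⟨Q, hQN, hQ⟩ := IH N hNlt P' hP'N K' hgood' (by
    have hp0 : (0 : ℤ) ≤ p := by positivity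
    have := mul_le_mul_of_nonneg_left hcard' hp0
    rw [hTsum] at hsum'
    linarith)
  refine ⟨Q, hQN.trans inf_le_left, fun X hX => ?_⟩
  by_cases hXY : X = Y
  · rw [hXY]; exact hNsyl Q hQN
  · have := hQ (φ X) (Finset.mem_image_of_mem _ (Finset.mem_erase.2 ⟨hXY, hX⟩))
    exact this.trans ((gen_le _).trans inf_le_right)

/-- A Sylow `p`-subgroup of `H` lies in at most a `(p-1)/(2p-1)` fraction of the conjugates of
a subgroup generated by some, but not all, Sylow `p`-subgroups of `H`. -/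
theorem slack_nonneg {H : Subgroup G} {P : Sylow p G} (hP : (P : Subgroup G) ≤ H)
    {X : Subgroup G} (hX : Good p H X) : 0 ≤ slack P (orb H X) :=
  slack_nonneg_of_common (common H) hP hX

variable {Ω : Type*} [MulAction G Ω]

/-- **Sylow fixed point bound**: a Sylow `p`-subgroup of a transitive group, with nontrivial
`p`-part not acting trivially, fixes at most `(p-1)/(2p-1)` of the points. -/
theorem fixed_points_le [Finite Ω] [MulAction.IsPretransitive G Ω] [FaithfulSMul G Ω]
    (hpG : p ∣ Nat.card G) (P : Sylow p G) :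
    (2 * p - 1) * Nat.card {ω : Ω // (P : Subgroup G) ≤ MulAction.stabilizer G ω} ≤
      (p - 1) * Nat.card Ω := by
  classical
  haveI := Fintype.ofFinite Ω
  rcases isEmpty_or_nonempty {ω : Ω // (P : Subgroup G) ≤ MulAction.stabilizer G ω} with h | ⟨⟨a, ha⟩⟩
  · simp
  set φ : Ω → Subgroup G := fun ω => gen p (MulAction.stabilizer G ω) with hφ
  have heq : ∀ (g : G) (ω : Ω), φ (g • ω) = MulAut.conj g • φ ω := by
    intro g ω
    simp only [hφ, conj_gen, MulAction.stabilizer_smul_eq_stabilizer_map_conj]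
    rfl
  set X := φ a with hXdef
  have hPX : (P : Subgroup G) ≤ X := le_gen ha
  have hgood : Good p ⊤ X := by
    refine ⟨gen_gen _, ⟨P, hPX⟩, le_top, fun he => ?_⟩
    have hP1 : (P : Subgroup G) = ⊥ := by
      rw [Subgroup.eq_bot_iff_forall]
      intro g hg
      refine FaithfulSMul.eq_of_smul_eq_smul fun ω : Ω => ?_
      obtain ⟨k, rfl⟩ := MulAction.exists_smul_eq G a ω
      have h1 : (P : Subgroup G) ≤ φ (k • a) := by
        rw [heq, ← hXdef, ← he, conj_gen, conj_smul_of_mem (Subgroup.mem_top k)]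
        exact le_gen le_top
      rw [one_smul]
      exact MulAction.mem_stabilizer_iff.1 ((h1.trans (gen_le _)) hg)
    exact P.ne_bot_of_dvd_card hpG hP1
  set O := orb ⊤ X
  have hmaps : ∀ ω ∈ (Finset.univ : Finset Ω), φ ω ∈ O := by
    intro ω _
    obtain ⟨k, rfl⟩ := MulAction.exists_smul_eq G a ω
    exact mem_orb.2 ⟨k, Subgroup.mem_top k, (heq k a).symm⟩
  set c := (Finset.univ.filter fun ω : Ω => φ ω = X).card
  have hfib : ∀ W ∈ O, (Finset.univ.filter fun ω : Ω => φ ω = W).card = c := by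
    intro W hW
    obtain ⟨k, -, rfl⟩ := mem_orb.1 hW
    refine Finset.card_bij' (fun ω _ => k⁻¹ • ω) (fun ω _ => k • ω) ?_ ?_
      (fun ω _ => smul_inv_smul k ω) (fun ω _ => inv_smul_smul k ω)
    · intro ω hω
      simp only [Finset.mem_filter, Finset.mem_univ, true_and] at hω ⊢
      rw [heq, hω, map_inv, inv_smul_smul]
    · intro ω hω
      simp only [Finset.mem_filter, Finset.mem_univ, true_and] at hω ⊢
      rw [heq, hω]
  have hsum : (0 : ℤ) ≤ ∑ ω : Ω, wt P (φ ω) := by
    rw [← Finset.sum_fiberwise_of_maps_to hmaps]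
    have e : ∀ W ∈ O, ∑ ω ∈ Finset.univ.filter (fun ω : Ω => φ ω = W), wt P (φ ω) =
        (c : ℤ) * wt P W := by
      intro W hW
      rw [Finset.sum_congr rfl (g := fun _ => wt P W) fun ω hω => by
        rw [(Finset.mem_filter.1 hω).2]]
      simp [hfib W hW]
    rw [Finset.sum_congr rfl e, ← Finset.mul_sum]
    exact mul_nonneg (by positivity) (slack_nonneg le_top hgood)
  have hw : ∑ ω : Ω, wt P (φ ω) = ((p : ℤ) - 1) * Nat.card Ω -
      (2 * (p : ℤ) - 1) * Nat.card {ω : Ω // (P : Subgroup G) ≤ MulAction.stabilizer G ω} := by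
    have : ∀ ω, ((P : Subgroup G) ≤ φ ω) = ((P : Subgroup G) ≤ MulAction.stabilizer G ω) :=
      fun ω => propext le_gen_iff
    simp only [wt, this, Finset.sum_sub_distrib, Finset.sum_const, Finset.sum_ite,
      Nat.card_eq_fintype_card, Fintype.card_subtype, Finset.card_univ]
    simp
    ring
  have h1 := hp.out.one_lt
  rw [hw] at hsum
  have : (((2 * p - 1) * Nat.card {ω : Ω // (P : Subgroup G) ≤ MulAction.stabilizer G ω} : ℕ) : ℤ) ≤
      (((p - 1) * Nat.card Ω : ℕ) : ℤ) := by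
    push_cast [Nat.cast_sub (show 1 ≤ 2 * p by omega), Nat.cast_sub (show 1 ≤ p by omega)]
    linarith
  exact_mod_cast this

end Cfsg.Agent.Invol.SylowFix
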