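import Cfsg.Prelude.Def_Local
import Cfsg.Agent.Lib.Alt.AutAlternating
import Cfsg.Agent.Lib.Grp.Components
import Cfsg.Agent.Lib.Grp.Zassenhaus.Quotient

/-!
Subgroups of the symmetric group with quasisimple generalized Fitting subgroup and many 3-cycles.

A maximal set of points all of whose 3-cycles lie in the subgroup carries a subnormal alternating group,
which is either soluble (hence centralised by the component) or is the component.
-/

set_option autoImplicit false

namespace Cfsg.Agent.Invol.ThreeCyc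

open Equiv Equiv.Perm
open Cfsg.Agent.AltAut (cyc)

variable {n : ℕ} {H : Subgroup (Perm (Fin n))}

theorem fin3 : ∀ s : Fin 3, s = 0 ∨ s = 1 ∨ s = 2 := by decide

/-- All 3-cycles inside `Δ` lie in `H`. -/
def Good (H : Subgroup (Perm (Fin n))) (Δ : Finset (Fin n)) : Prop :=
  ∀ a ∈ Δ, ∀ b ∈ Δ, ∀ c ∈ Δ, a ≠ b → b ≠ c → a ≠ c → cyc a b c ∈ H

theorem good_support {a b c : Fin n} (hab : a ≠ b) (hbc : b ≠ c) (hac : a ≠ c) (h : cyc a b c ∈ H) :
    Good H {a, b, c} := by
  have h1 : cyc b c a ∈ H := by rwa [← AltAut.cyc_rot hab hbc hac]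
  have h2 : cyc c a b ∈ H := by rwa [← AltAut.cyc_rot hbc hac.symm hab.symm]
  have i1 : cyc c b a ∈ H := by rw [← AltAut.cyc_inv]; exact H.inv_mem h
  have i2 : cyc a c b ∈ H := by rw [← AltAut.cyc_inv]; exact H.inv_mem h1
  have i3 : cyc b a c ∈ H := by rw [← AltAut.cyc_inv]; exact H.inv_mem h2
  intro x hx y hy z hz hxy hyz hxz
  simp only [Finset.mem_insert, Finset.mem_singleton] at hx hy hz
  rcases hx with rfl | rfl | rfl <;> rcases hy with rfl | rfl | rfl <;> rcases hz with rfl | rfl | rfl <;>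
    first | assumption | (exact absurd rfl hxy) | (exact absurd rfl hyz) | (exact absurd rfl hxz)

theorem pair_step {Δ : Finset (Fin n)} (hΔ : Good H Δ) {x u v w : Fin n} (hx : x ∉ Δ) (hu : u ∈ Δ) (hv : v ∈ Δ)
    (hw : w ∈ Δ) (huv : u ≠ v) (hvw : v ≠ w) (huw : u ≠ w) (h : cyc u v x ∈ H) : cyc v w x ∈ H := by
  have hc := hΔ u hu v hv w hw huv hvw huw
  have := H.mul_mem (H.mul_mem hc h) (H.inv_mem hc)
  rwa [AltAut.cyc_conj, AltAut.cyc_fst huv huw, AltAut.cyc_snd huw hvw,
    AltAut.cyc_other (ne_of_mem_of_not_mem hu hx).symm (ne_of_mem_of_not_mem hv hx).symm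
      (ne_of_mem_of_not_mem hw hx).symm] at this

theorem pair_swap {Δ : Finset (Fin n)} {x u v : Fin n} (hx : x ∉ Δ) (hu : u ∈ Δ) (hv : v ∈ Δ) (huv : u ≠ v)
    (h : cyc u v x ∈ H) : cyc v u x ∈ H := by
  have h1 : cyc x v u ∈ H := by rw [← AltAut.cyc_inv]; exact H.inv_mem h
  rwa [AltAut.cyc_rot (ne_of_mem_of_not_mem hv hx).symm huv.symm (ne_of_mem_of_not_mem hu hx).symm] at h1

theorem good_insert {Δ : Finset (Fin n)} (hΔ : Good H Δ) {x u v : Fin n} (hx : x ∉ Δ) (hu : u ∈ Δ) (hv : v ∈ Δ)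
    (huv : u ≠ v) (h : cyc u v x ∈ H) : Good H (insert x Δ) := by
  have hv' : ∀ w ∈ Δ, w ≠ v → cyc v w x ∈ H := by
    intro w hw hwv
    by_cases hwu : w = u
    · exact hwu ▸ pair_swap hx hu hv huv h
    · exact pair_step hΔ hx hu hv hw huv hwv.symm (Ne.symm hwu) h
  have hu' : ∀ w ∈ Δ, w ≠ u → cyc u w x ∈ H := by
    intro w hw hwu
    by_cases hwv : w = v
    · exact hwv ▸ h
    · exact pair_step hΔ hx hv hu hw huv.symm (Ne.symm hwu) (Ne.symm hwv) (pair_swap hx hu hv huv h)
  have hall : ∀ a ∈ Δ, ∀ b ∈ Δ, a ≠ b → cyc a b x ∈ H := by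
    intro a ha b hb hab
    by_cases h1 : a = u
    · exact h1 ▸ hu' b hb (fun e => hab (h1.trans e.symm))
    by_cases h2 : b = u
    · exact h2 ▸ pair_swap hx hu ha (Ne.symm h1) (hu' a ha h1)
    exact pair_step hΔ hx hu ha hb (Ne.symm h1) hab (Ne.symm h2) (hu' a ha h1)
  intro a ha b hb c hc hab hbc hac
  rw [Finset.mem_insert] at ha hb hc
  rcases ha with rfl | ha
  · have hb' : b ∈ Δ := hb.resolve_left hab.symm
    have hc' : c ∈ Δ := hc.resolve_left hac.symm
    rw [AltAut.cyc_rot hab hbc hac]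
    exact hall b hb' c hc' hbc
  rcases hb with rfl | hb
  · have hc' : c ∈ Δ := hc.resolve_left hbc.symm
    rw [AltAut.cyc_rot hab hbc hac, AltAut.cyc_rot hbc hac.symm hab.symm]
    exact hall c hc' a ha hac.symm
  rcases hc with rfl | hc
  · exact hall a ha b hb hab
  · exact hΔ a ha b hb c hc hab hbc hac

/-- A maximal good set containing a 3-cycle is a union of whole supports. -/
theorem exists_closed {a b c : Fin n} (hab : a ≠ b) (hbc : b ≠ c) (hac : a ≠ c) (h : cyc a b c ∈ H) :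
    ∃ Δ : Finset (Fin n), a ∈ Δ ∧ b ∈ Δ ∧ c ∈ Δ ∧ 3 ≤ Δ.card ∧ Good H Δ ∧
      ∀ d ∈ H, d.IsThreeCycle → ∀ u ∈ Δ, d u ∈ Δ := by
  classical
  obtain ⟨Δ, hΔm, hmax⟩ := Finset.exists_max_image
    ((Finset.univ : Finset (Finset (Fin n))).filter (fun D => {a, b, c} ⊆ D ∧ Good H D)) Finset.card
    ⟨{a, b, c}, Finset.mem_filter.2 ⟨Finset.mem_univ _, le_rfl, good_support hab hbc hac h⟩⟩
  obtain ⟨-, hsub, hgood⟩ := Finset.mem_filter.1 hΔm
  have h3 : 3 ≤ Δ.card := le_trans (le_of_eq (by
    rw [Finset.card_insert_of_notMem (by simp [hab, hac]), Finset.card_insert_of_notMem (by simp [hbc]),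
      Finset.card_singleton])) (Finset.card_le_card hsub)
  have noext : ∀ x u v, x ∉ Δ → u ∈ Δ → v ∈ Δ → u ≠ v → cyc u v x ∉ H := by
    intro x u v hx hu hv huv hm
    have := hmax (insert x Δ) (Finset.mem_filter.2 ⟨Finset.mem_univ _, hsub.trans (Finset.subset_insert _ _),
      good_insert hgood hx hu hv huv hm⟩)
    rw [Finset.card_insert_of_notMem hx] at this
    omega
  refine ⟨Δ, hsub (by simp), hsub (by simp), hsub (by simp), h3, hgood, fun d hd hd3 u hu => ?_⟩
  by_contra hx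
  have hdu : d u ≠ u := fun e => hx (e.symm ▸ hu)
  obtain ⟨hd', h1, h2, -⟩ := AltAut.eq_cyc hd3 hdu
  rw [hd'] at hd
  by_cases hy : d (d u) ∈ Δ
  · refine noext (d u) (d (d u)) u hx hy hu h2.symm ?_
    rwa [← AltAut.cyc_rot h1 h2.symm hdu, ← AltAut.cyc_rot hdu.symm h1 h2]
  · obtain ⟨v, hv, hvu⟩ := Finset.exists_mem_ne (by omega : 1 < Δ.card) u
    obtain ⟨w, hw, hw'⟩ := Finset.exists_mem_notMem_of_card_lt_card (s := {u, v}) (t := Δ)
      (lt_of_le_of_lt Finset.card_le_two (by omega))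
    simp only [Finset.mem_insert, Finset.mem_singleton, not_or] at hw'
    have hm := H.mul_mem (H.mul_mem hd (hgood u hu v hv w hw hvu.symm (Ne.symm hw'.2) (Ne.symm hw'.1))) (H.inv_mem hd)
    rw [AltAut.cyc_conj, AltAut.cyc_fst hdu.symm h2,
      AltAut.cyc_other hvu (ne_of_mem_of_not_mem hv hx) (ne_of_mem_of_not_mem hv hy),
      AltAut.cyc_other hw'.1 (ne_of_mem_of_not_mem hw hx) (ne_of_mem_of_not_mem hw hy)] at hm
    refine noext (d u) v w hx hv hw (Ne.symm hw'.2) ?_
    rwa [AltAut.cyc_rot (ne_of_mem_of_not_mem hv hx).symm (Ne.symm hw'.2) (ne_of_mem_of_not_mem hw hx).symm] at hm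

/-- The alternating group on `Δ`, fixing the rest. -/
def altOn (Δ : Finset (Fin n)) : Subgroup (Perm (Fin n)) :=
  (alternatingGroup {x // x ∈ Δ}).map Perm.ofSubtype

theorem ofSubtype_cyc {Δ : Finset (Fin n)} (a b c : {x // x ∈ Δ}) :
    Perm.ofSubtype (cyc a b c) = cyc (a : Fin n) b c := by
  simp only [cyc, map_mul, Perm.ofSubtype_swap_eq]

theorem cyc_mem_altOn {Δ : Finset (Fin n)} {a b c : Fin n} (ha : a ∈ Δ) (hb : b ∈ Δ) (hc : c ∈ Δ) (hab : a ≠ b)
    (hbc : b ≠ c) : cyc a b c ∈ altOn Δ :=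
  ⟨_, AltAut.cyc_mem (a := (⟨a, ha⟩ : {x // x ∈ Δ})) (b := ⟨b, hb⟩) (c := ⟨c, hc⟩)
    (fun e => hab (congrArg Subtype.val e)) (fun e => hbc (congrArg Subtype.val e)), ofSubtype_cyc _ _ _⟩

theorem altOn_le {Δ : Finset (Fin n)} {S : Subgroup (Perm (Fin n))} (h : Good S Δ) : altOn Δ ≤ S := by
  rw [altOn, ← closure_three_cycles_eq_alternating, MonoidHom.map_closure, Subgroup.closure_le]
  rintro _ ⟨σ, hσ, rfl⟩
  obtain ⟨a, ha⟩ : ∃ a, σ a ≠ a := by
    by_contra hcon
    push Not at hcon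
    exact hσ.ne_one (Equiv.ext hcon)
  obtain ⟨e, h1, h2, -⟩ := AltAut.eq_cyc hσ ha
  rw [e, SetLike.mem_coe, ofSubtype_cyc]
  exact h _ a.2 _ (σ a).2 _ (σ (σ a)).2 (fun e' => ha (Subtype.ext e').symm) (fun e' => h1 (Subtype.ext e'))
    (fun e' => h2 (Subtype.ext e'))

theorem altOn_fix {Δ : Finset (Fin n)} {g : Perm (Fin n)} (hg : g ∈ altOn Δ) {x : Fin n} (hx : x ∉ Δ) : g x = x := by
  obtain ⟨σ, -, rfl⟩ := hg
  exact Perm.ofSubtype_apply_of_not_mem σ hx

theorem altOn_normalized {Δ : Finset (Fin n)} {g : Perm (Fin n)} (hg : ∀ u ∈ Δ, g u ∈ Δ) :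
    g ∈ Subgroup.normalizer (altOn Δ : Set (Perm (Fin n))) := by
  have hle : (altOn Δ).map (MulAut.conj g).toMonoidHom ≤ altOn Δ := by
    have h : altOn Δ ≤ (altOn Δ).comap (MulAut.conj g).toMonoidHom := altOn_le fun a ha b hb c hc hab hbc hac => by
      show g * cyc a b c * g⁻¹ ∈ altOn Δ
      rw [AltAut.cyc_conj]
      exact cyc_mem_altOn (hg a ha) (hg b hb) (hg c hc) (g.injective.ne hab) (g.injective.ne hbc)
    exact Subgroup.map_le_iff_le_comap.2 h
  have heq : (altOn Δ).map (MulAut.conj g).toMonoidHom = altOn Δ :=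
    Subgroup.eq_of_le_of_card_ge hle (Subgroup.card_map_of_injective (MulAut.conj g).injective).ge
  refine Subgroup.mem_normalizer_iff.2 fun y => ⟨fun hy => ?_, fun hy => ?_⟩
  · exact hle ⟨y, hy, rfl⟩
  · rw [← heq] at hy
    obtain ⟨w, hw, hwe⟩ := hy
    exact (MulAut.conj g).injective hwe ▸ hw

/-- The subgroup of `H` generated by its 3-cycles. -/
def cyclesIn (H : Subgroup (Perm (Fin n))) : Subgroup ↥H :=
  Subgroup.closure {d : ↥H | (d : Perm (Fin n)).IsThreeCycle}

theorem cyclesIn_normal : (cyclesIn H).Normal := by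
  constructor
  intro x hx g
  have h : cyclesIn H ≤ (cyclesIn H).comap (MulAut.conj g).toMonoidHom := by
    refine (Subgroup.closure_le _).2 fun d hd => Subgroup.subset_closure ?_
    show ((g * d * g⁻¹ : ↥H) : Perm (Fin n)).IsThreeCycle
    have hd' : (d : Perm (Fin n)).IsThreeCycle := hd
    unfold Equiv.Perm.IsThreeCycle at hd' ⊢
    push_cast
    rw [Equiv.Perm.cycleType_conj]
    exact hd'
  exact h hx

variable (hF : Cfsg.IsQuasisimple ↥(Cfsg.generalizedFittingSubgroup ↥H))

include hF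

theorem isComponent_fstar : Cfsg.IsComponent (Cfsg.generalizedFittingSubgroup ↥H) := by
  refine ⟨?_, hF⟩
  have : (Cfsg.generalizedFittingSubgroup ↥H).Normal := by
    have := Grp.fittingSubgroup_isNormal (G := ↥H)
    rw [Cfsg.generalizedFittingSubgroup]; infer_instance
  exact this.isSubnormal

theorem solvable_subnormal_centralizes {R : Subgroup ↥H} (hR : R.IsSubnormal) (hs : Group.IsSolvable R) :
    R ≤ Subgroup.centralizer (Cfsg.generalizedFittingSubgroup ↥H : Set ↥H) := by
  have hK := isComponent_fstar hF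
  rcases Grp.component_le_or_commute hK hR with hle | hc
  · exfalso
    refine Grp.IsQuasisimple.not_isSolvable hF ?_
    exact Grp.isSolvable_of_le hle hs
  · exact Subgroup.commutator_eq_bot_iff_le_centralizer.1 (by rwa [Subgroup.commutator_comm])

theorem centralizer_fstar_comm {x y : ↥H} (hx : x ∈ Subgroup.centralizer (Cfsg.generalizedFittingSubgroup ↥H : Set ↥H))
    (hy : y ∈ Subgroup.centralizer (Cfsg.generalizedFittingSubgroup ↥H : Set ↥H)) : x * y = y * x :=
  Subgroup.mem_centralizer_iff.1 hy x (Grp.centralizer_gfitting_le hx)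

/-- The alternating group on a closed good set of at most four points is centralised by `F*(H)`; on at least
five points it is `F*(H)`. -/
theorem altOn_cases {Δ : Finset (Fin n)} (hgood : Good H Δ)
    (hcl : ∀ d ∈ H, d.IsThreeCycle → ∀ u ∈ Δ, d u ∈ Δ) :
    (Δ.card ≤ 4 ∧ (altOn Δ).subgroupOf H ≤ Subgroup.centralizer (Cfsg.generalizedFittingSubgroup ↥H : Set ↥H)) ∨
      (5 ≤ Δ.card ∧ (altOn Δ).subgroupOf H = Cfsg.generalizedFittingSubgroup ↥H) := by
  classical
  set A := (altOn Δ).subgroupOf H with hA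
  have hAle : altOn Δ ≤ H := altOn_le hgood
  have hAN : A ≤ cyclesIn H := by
    have h : altOn Δ ≤ (cyclesIn H).map H.subtype := altOn_le fun a ha b hb c hc hab hbc hac =>
      ⟨⟨cyc a b c, hgood a ha b hb c hc hab hbc hac⟩,
        Subgroup.subset_closure (AltAut.isThreeCycle_cyc hab hbc hac), rfl⟩
    intro x hx
    obtain ⟨y, hy, hyx⟩ := h (Subgroup.mem_subgroupOf.1 hx)
    exact Subtype.ext hyx ▸ hy
  have hNA : cyclesIn H ≤ Subgroup.normalizer (A : Set ↥H) := by
    refine (Subgroup.closure_le _).2 fun d hd => ?_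
    have h := altOn_normalized (g := (d : Perm (Fin n))) (hcl d d.2 hd)
    refine Subgroup.mem_normalizer_iff.2 fun y => ?_
    show (y : Perm (Fin n)) ∈ altOn Δ ↔ (d : Perm (Fin n)) * y * (d : Perm (Fin n))⁻¹ ∈ altOn Δ
    exact Subgroup.mem_normalizer_iff.1 h y
  have hAsub : A.IsSubnormal :=
    Subgroup.IsSubnormal.step _ _ hAN (cyclesIn_normal.isSubnormal)
      ((Subgroup.normal_subgroupOf_iff_le_normalizer hAN).2 hNA)
  let e : ↥A ≃* ↥(alternatingGroup {x // x ∈ Δ}) := (Subgroup.subgroupOfEquivOfLe hAle).trans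
    (Subgroup.equivMapOfInjective _ _ Perm.ofSubtype_injective).symm
  by_cases h4 : Δ.card ≤ 4
  · refine Or.inl ⟨h4, solvable_subnormal_centralizes hF hAsub ?_⟩
    haveI := Grp.Zas.isSolvable_sym_four
    obtain ⟨i⟩ : Nonempty ({x // x ∈ Δ} ↪ Fin 4) := Function.Embedding.nonempty_of_card_le (by simpa using h4)
    haveI : Group.IsSolvable (Perm {x // x ∈ Δ}) := Grp.isSolvable_of_injective
      (Perm.viaEmbeddingHom i) (Perm.viaEmbeddingHom_injective i) Grp.Zas.isSolvable_sym_four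
    exact Grp.isSolvable_of_injective ((alternatingGroup {x // x ∈ Δ}).subtype.comp e.toMonoidHom)
      (Subtype.val_injective.comp e.injective) this
  · right
    have h5 : 5 ≤ Nat.card {x // x ∈ Δ} := by
      rw [Nat.card_eq_fintype_card, Fintype.card_coe]; omega
    have hq : Cfsg.IsQuasisimple ↥A := by
      refine (Grp.isQuasisimple_congr e).2 ?_
      haveI := alternatingGroup.isSimpleGroup h5
      exact Grp.isQuasisimple_of ⟨commutator_alternatingGroup_eq_top h5⟩ fun N hN =>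
        hN.eq_bot_or_eq_top.symm.imp_right fun h => h.le.trans bot_le
    have hcomp : Cfsg.IsComponent A := ⟨hAsub, hq⟩
    refine ⟨by omega, ?_⟩
    by_contra hne
    have hc := Grp.IsComponent.commute hcomp (isComponent_fstar hF) hne
    exact Grp.IsComponent.ne_bot hcomp (Grp.eq_bot_of_perfect_of_comm (Grp.IsComponent.perfect hcomp)
      fun x hx => Subgroup.mem_centralizer_iff.2 fun y hy => centralizer_fstar_comm hF (hc hy) (hc hx))

/-- `q = n / 3` disjoint 3-cycles of `H` force `F*(H)` alternating of degree at least `n - 2`. -/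
theorem conclusion (hS : ∃ P : Sylow 3 (Perm (Fin n)), (P : Subgroup (Perm (Fin n))) ≤ H) :
    ∃ m : ℕ, (m = n - 2 ∨ m = n - 1 ∨ m = n) ∧
      Nonempty (↥(Cfsg.generalizedFittingSubgroup ↥H) ≃* ↥(alternatingGroup (Fin m))) := by
  classical
  haveI : Fact (Nat.Prime 3) := ⟨Nat.prime_three⟩
  obtain ⟨P, hP⟩ := hS
  -- `q` disjoint 3-cycles
  set q := n / 3 with hq
  have hlt : ∀ (i : Fin q) (r : ℕ), r < 3 → 3 * (i : ℕ) + r < n := fun i r hr => by
    have := i.2; omega
  let pt : Fin q → Fin 3 → Fin n := fun i r => ⟨3 * (i : ℕ) + r, hlt i r r.2⟩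
  have hpt : ∀ i j r s, pt i r = pt j s → i = j ∧ r = s := fun i j r s e => by
    have e' : 3 * (i : ℕ) + r = 3 * (j : ℕ) + s := congrArg Fin.val e
    have := r.2; have := s.2
    exact ⟨Fin.ext (by omega), Fin.ext (by omega)⟩
  have hne : ∀ i, pt i 0 ≠ pt i 1 ∧ pt i 1 ≠ pt i 2 ∧ pt i 0 ≠ pt i 2 := fun i =>
    ⟨fun e => absurd (hpt _ _ _ _ e).2 (by decide), fun e => absurd (hpt _ _ _ _ e).2 (by decide),
      fun e => absurd (hpt _ _ _ _ e).2 (by decide)⟩
  set E := Subgroup.closure (Set.range fun i => cyc (pt i 0) (pt i 1) (pt i 2)) with hE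
  have hcommE : ∀ i j, Commute (cyc (pt i 0) (pt i 1) (pt i 2)) (cyc (pt j 0) (pt j 1) (pt j 2)) := by
    intro i j
    by_cases hij : i = j
    · rw [hij]
    refine Equiv.Perm.Disjoint.commute fun x => ?_
    by_cases hx : ∃ r, x = pt i r
    · obtain ⟨r, rfl⟩ := hx
      exact Or.inr (AltAut.cyc_other (fun e => hij (hpt _ _ _ _ e).1) (fun e => hij (hpt _ _ _ _ e).1)
        (fun e => hij (hpt _ _ _ _ e).1))
    · push Not at hx
      exact Or.inl (AltAut.cyc_other (hx 0) (hx 1) (hx 2))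
  have hEp : IsPGroup 3 ↥E := by
    haveI : IsMulCommutative ↥E := Subgroup.isMulCommutative_closure (by
      rintro _ ⟨i, rfl⟩ _ ⟨j, rfl⟩
      exact (hcommE i j).eq)
    have h3 : ∀ x ∈ E, x ^ 3 = 1 := by
      intro x hx
      induction hx using Subgroup.closure_induction with
      | mem x hx =>
        obtain ⟨i, rfl⟩ := hx
        exact AltAut.cube_eq_one (AltAut.isThreeCycle_cyc (hne i).1 (hne i).2.1 (hne i).2.2)
      | one => exact one_pow 3
      | mul x y hxE hyE hx hy =>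
        rw [(show Commute x y from congrArg Subtype.val (mul_comm' (⟨x, hxE⟩ : ↥E) ⟨y, hyE⟩)).mul_pow, hx, hy,
          one_mul]
      | inv x _ hx => rw [inv_pow, hx, inv_one]
    exact fun x => ⟨1, Subtype.ext (by simpa using h3 x x.2)⟩
  obtain ⟨P₁, hEP⟩ := hEp.exists_le_sylow
  obtain ⟨g, hg⟩ := MulAction.exists_smul_eq (Perm (Fin n)) P₁ P
  have hcH : ∀ i, cyc (g (pt i 0)) (g (pt i 1)) (g (pt i 2)) ∈ H := fun i => by
    rw [← AltAut.cyc_conj]
    refine hP ?_
    rw [← hg, Sylow.coe_subgroup_smul]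
    exact Subgroup.smul_mem_pointwise_smul _ (MulAut.conj g) _
      (hEP (Subgroup.subset_closure ⟨i, rfl⟩))
  have hneg : ∀ i, g (pt i 0) ≠ g (pt i 1) ∧ g (pt i 1) ≠ g (pt i 2) ∧ g (pt i 0) ≠ g (pt i 2) := fun i =>
    ⟨g.injective.ne (hne i).1, g.injective.ne (hne i).2.1, g.injective.ne (hne i).2.2⟩
  set C := Subgroup.centralizer (Cfsg.generalizedFittingSubgroup ↥H : Set ↥H) with hC
  by_cases hbig : ∃ Δ : Finset (Fin n), Good H Δ ∧ (∀ d ∈ H, d.IsThreeCycle → ∀ u ∈ Δ, d u ∈ Δ) ∧ 5 ≤ Δ.card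
  · obtain ⟨Δ, hgood, hcl, h5⟩ := hbig
    obtain h | ⟨-, hK⟩ := altOn_cases hF hgood hcl
    · omega
    have hin : ∀ i r, g (pt i r) ∈ Δ := by
      intro i r
      by_contra hout
      set c := cyc (g (pt i 0)) (g (pt i 1)) (g (pt i 2)) with hc
      have hc3 : c.IsThreeCycle := AltAut.isThreeCycle_cyc (hneg i).1 (hneg i).2.1 (hneg i).2.2
      have hc0 : c (g (pt i 0)) = g (pt i 1) := AltAut.cyc_fst (hneg i).1 (hneg i).2.2
      have hc1 : c (g (pt i 1)) = g (pt i 2) := AltAut.cyc_snd (hneg i).2.2 (hneg i).2.1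
      have hc2 : c (g (pt i 2)) = g (pt i 0) := AltAut.cyc_thd
      have hnone : ∀ s, g (pt i s) ∉ Δ := by
        intro s hs
        have m := hcl c (hcH i) hc3
        apply hout
        rcases fin3 s with rfl | rfl | rfl
        · have a := m _ hs; rw [hc0] at a
          have b := m _ a; rw [hc1] at b
          rcases fin3 r with rfl | rfl | rfl <;> assumption
        · have a := m _ hs; rw [hc1] at a
          have b := m _ a; rw [hc2] at b
          rcases fin3 r with rfl | rfl | rfl <;> assumption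
        · have a := m _ hs; rw [hc2] at a
          have b := m _ a; rw [hc0] at b
          rcases fin3 r with rfl | rfl | rfl <;> assumption
      have hcC : (⟨c, hcH i⟩ : ↥H) ∈ C := by
        rw [hC, ← hK, Subgroup.mem_centralizer_iff]
        intro a ha
        refine Subtype.ext (Equiv.Perm.Disjoint.commute fun x => ?_).eq
        by_cases hxΔ : x ∈ Δ
        · exact Or.inr (AltAut.cyc_other (fun e => hnone 0 (e ▸ hxΔ)) (fun e => hnone 1 (e ▸ hxΔ))
            (fun e => hnone 2 (e ▸ hxΔ)))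
        · exact Or.inl (altOn_fix (Subgroup.mem_subgroupOf.1 ha) hxΔ)
      have hcA := (hK.ge (Grp.centralizer_gfitting_le hcC) : (⟨c, hcH i⟩ : ↥H) ∈ (altOn Δ).subgroupOf H)
      exact (hneg i).1 ((altOn_fix (Subgroup.mem_subgroupOf.1 hcA) (hnone 0)).symm.trans hc0)
    have hcard : 3 * q ≤ Δ.card := by
      have : (Finset.univ.image fun x : Fin q × Fin 3 => g (pt x.1 x.2)).card ≤ Δ.card :=
        Finset.card_le_card (fun y hy => by
          obtain ⟨x, -, rfl⟩ := Finset.mem_image.1 hy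
          exact hin x.1 x.2)
      rw [Finset.card_image_of_injective _ (fun x y e => Prod.ext (hpt _ _ _ _ (g.injective e)).1
        (hpt _ _ _ _ (g.injective e)).2), Finset.card_univ, Fintype.card_prod, Fintype.card_fin, Fintype.card_fin] at this
      omega
    have hn : Δ.card ≤ n := by simpa using Finset.card_le_univ Δ
    refine ⟨Δ.card, by omega, ⟨?_⟩⟩
    exact ((MulEquiv.subgroupCongr hK.symm).trans (Subgroup.subgroupOfEquivOfLe (altOn_le hgood))).trans
      ((Subgroup.equivMapOfInjective _ _ Perm.ofSubtype_injective).symm.trans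
        (Equiv.altCongrHom (Fintype.equivFinOfCardEq (by rw [Fintype.card_coe]))))
  · exfalso
    push Not at hbig
    have hcC : ∀ i, (⟨_, hcH i⟩ : ↥H) ∈ C := fun i => by
      obtain ⟨Δ, ha, hb, hc, -, hgood, hcl⟩ := exists_closed (hneg i).1 (hneg i).2.1 (hneg i).2.2 (hcH i)
      obtain ⟨-, hle⟩ | ⟨h5, -⟩ := altOn_cases hF hgood hcl
      · exact hle (Subgroup.mem_subgroupOf.2 (cyc_mem_altOn ha hb hc (hneg i).1 (hneg i).2.1))
      · exact absurd h5 (not_le.2 (hbig Δ hgood hcl))
    set cov : Finset (Fin n) := Finset.univ.image fun x : Fin q × Fin 3 => g (pt x.1 x.2) with hcov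
    have hR : (Finset.univ \ cov).card ≤ 2 := by
      rw [Finset.card_univ_sdiff, hcov, Finset.card_image_of_injective _ (fun x y e => Prod.ext
        (hpt _ _ _ _ (g.injective e)).1 (hpt _ _ _ _ (g.injective e)).2), Finset.card_univ, Fintype.card_prod,
        Fintype.card_fin, Fintype.card_fin, Fintype.card_fin]
      omega
    have hcomm : ∀ k₁ ∈ Cfsg.generalizedFittingSubgroup ↥H, ∀ k₂ ∈ Cfsg.generalizedFittingSubgroup ↥H,
        k₁ * k₂ = k₂ * k₁ := by
      intro k₁ hk₁ k₂ hk₂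
      have hck : ∀ k ∈ Cfsg.generalizedFittingSubgroup ↥H, ∀ i x, (k : Perm (Fin n)) (cyc (g (pt i 0)) (g (pt i 1)) (g (pt i 2)) x) =
          cyc (g (pt i 0)) (g (pt i 1)) (g (pt i 2)) ((k : Perm (Fin n)) x) := fun k hk i x =>
        DFunLike.congr_fun (congrArg Subtype.val (Subgroup.mem_centralizer_iff.1 (hcC i) k hk)) x
      have hmv : ∀ k ∈ Cfsg.generalizedFittingSubgroup ↥H, ∀ i r, ∃ s, (k : Perm (Fin n)) (g (pt i r)) = g (pt i s) := by
        intro k hk i r
        by_contra hcon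
        push Not at hcon
        have e1 := hck k hk i (g (pt i r))
        rw [AltAut.cyc_other (hcon 0) (hcon 1) (hcon 2)] at e1
        have e2 := (k : Perm (Fin n)).injective e1
        have ⟨a, b, c⟩ := hneg i
        rcases fin3 r with rfl | rfl | rfl
        · exact a (e2.symm.trans (AltAut.cyc_fst a c))
        · exact b (e2.symm.trans (AltAut.cyc_snd c b))
        · exact c (AltAut.cyc_thd.symm.trans e2)
      refine Subtype.ext (Equiv.ext fun x => ?_)
      show (k₁ : Perm (Fin n)) ((k₂ : Perm (Fin n)) x) = (k₂ : Perm (Fin n)) ((k₁ : Perm (Fin n)) x)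
      by_cases hx : x ∈ cov
      · obtain ⟨⟨i, r⟩, -, rfl⟩ := Finset.mem_image.1 hx
        have ⟨a, b, c⟩ := hneg i
        set d := cyc (g (pt i 0)) (g (pt i 1)) (g (pt i 2)) with hd
        have hd0 : d (g (pt i 0)) = g (pt i 1) := AltAut.cyc_fst a c
        have hd1 : d (g (pt i 1)) = g (pt i 2) := AltAut.cyc_snd c b
        have hd2 : d (g (pt i 2)) = g (pt i 0) := AltAut.cyc_thd
        have form : ∀ k ∈ Cfsg.generalizedFittingSubgroup ↥H, ∃ j : ℕ, ∀ s, (k : Perm (Fin n)) (g (pt i s)) = (d ^ j) (g (pt i s)) := by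
          intro k hk
          obtain ⟨s₀, hs₀⟩ := hmv k hk i 0
          have h1 : (k : Perm (Fin n)) (g (pt i 1)) = d ((k : Perm (Fin n)) (g (pt i 0))) := by rw [← hck k hk i, hd0]
          have h2 : (k : Perm (Fin n)) (g (pt i 2)) = d ((k : Perm (Fin n)) (g (pt i 1))) := by rw [← hck k hk i, hd1]
          refine ⟨(s₀ : ℕ), fun s => ?_⟩
          rcases fin3 s₀ with rfl | rfl | rfl <;> rcases fin3 s with rfl | rfl | rfl <;> simp [hs₀, h1, h2, hd0, hd1, hd2, pow_succ, Equiv.Perm.mul_apply]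
        obtain ⟨j₁, hj₁⟩ := form k₁ hk₁
        obtain ⟨j₂, hj₂⟩ := form k₂ hk₂
        obtain ⟨s₁, hs₁⟩ := hmv k₁ hk₁ i r
        obtain ⟨s₂, hs₂⟩ := hmv k₂ hk₂ i r
        show (k₁ : Perm (Fin n)) ((k₂ : Perm (Fin n)) (g (pt i r))) = (k₂ : Perm (Fin n)) ((k₁ : Perm (Fin n)) (g (pt i r)))
        rw [hs₂, hj₁, ← hs₂, hj₂, hs₁, hj₂, ← hs₁, hj₁]
        exact DFunLike.congr_fun ((Commute.refl d).pow_pow j₁ j₂).eq (g (pt i r))
      · have hout : ∀ k ∈ Cfsg.generalizedFittingSubgroup ↥H, ∀ y ∈ Finset.univ \ cov,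
            (k : Perm (Fin n)) y ∈ Finset.univ \ cov := by
          intro k hk y hy
          simp only [Finset.mem_sdiff, Finset.mem_univ, true_and] at hy ⊢
          intro hky
          obtain ⟨⟨i, r⟩, -, hir⟩ := Finset.mem_image.1 hky
          obtain ⟨s, hs⟩ := hmv k⁻¹ ((Cfsg.generalizedFittingSubgroup ↥H).inv_mem hk) i r
          refine hy (Finset.mem_image.2 ⟨(i, s), Finset.mem_univ _, ?_⟩)
          dsimp only at hir ⊢
          rw [← hs, hir]
          simp
        have hxR : x ∈ Finset.univ \ cov := by simp [hx]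
        have pig : ∀ u ∈ Finset.univ \ cov, ∀ v ∈ Finset.univ \ cov, ∀ w ∈ Finset.univ \ cov, u = v ∨ u = w ∨ v = w := by
          intro u hu v hv w hw
          by_contra hcon
          push Not at hcon
          have h3 : ({u, v, w} : Finset (Fin n)).card = 3 := by
            rw [Finset.card_insert_of_notMem (by simp [hcon.1, hcon.2.1]),
              Finset.card_insert_of_notMem (by simp [hcon.2.2]), Finset.card_singleton]
          have := Finset.card_le_card (s := {u, v, w}) (t := Finset.univ \ cov) (by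
            intro t ht
            simp only [Finset.mem_insert, Finset.mem_singleton] at ht
            rcases ht with rfl | rfl | rfl <;> assumption)
          omega
        have a1 := hout _ hk₁ x hxR
        have a2 := hout _ hk₂ x hxR
        have b1 := hout _ hk₁ _ a2
        have b2 := hout _ hk₂ _ a1
        by_cases e1 : (k₁ : Perm (Fin n)) x = x
        · by_cases e2 : (k₂ : Perm (Fin n)) x = x
          · rw [e2, e1, e2]
          · rw [e1]
            rcases pig x hxR _ a2 _ b1 with e | e | e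
            · exact absurd e.symm e2
            · exact absurd ((k₁ : Perm (Fin n)).injective (e1.trans e)) (Ne.symm e2)
            · exact e.symm
        · by_cases e2 : (k₂ : Perm (Fin n)) x = x
          · rw [e2]
            rcases pig x hxR _ a1 _ b2 with e | e | e
            · exact absurd e.symm e1
            · exact absurd ((k₂ : Perm (Fin n)).injective (e2.trans e)) (Ne.symm e1)
            · exact e
          · have hy : (k₁ : Perm (Fin n)) x = (k₂ : Perm (Fin n)) x := by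
              rcases pig x hxR _ a1 _ a2 with e | e | e
              · exact absurd e.symm e1
              · exact absurd e.symm e2
              · exact e
            rcases pig x hxR _ a2 _ b1 with e | e | e
            · exact absurd e.symm e2
            · rcases pig x hxR _ a1 _ b2 with f | f | f
              · exact absurd f.symm e1
              · exact e.symm.trans f
              · exact absurd ((k₂ : Perm (Fin n)).injective (f.symm.trans hy)) e1
            · exact absurd ((k₁ : Perm (Fin n)).injective (e.symm.trans hy.symm)) e2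
    haveI : IsMulCommutative ↥(Cfsg.generalizedFittingSubgroup ↥H) :=
      ⟨⟨fun x y => Subtype.ext (hcomm x x.2 y y.2)⟩⟩
    exact Grp.IsQuasisimple.not_isSolvable hF (Group.isSolvable_of_comm mul_comm')

end Cfsg.Agent.Invol.ThreeCyc
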