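import Cfsg.Prelude.Def_LocalEven
import Cfsg.Agent.Lib.Invol.ThreeCycleComponent
import Cfsg.Agent.Lib.Perm.NilpotentBound

/-!
3-minimal groups with alternating generalized Fitting subgroup.

The supports of the 3-cycles of a Sylow 3-subgroup partition all but at most two points. Unless the degree
is 6, 9 or `3^a + 1`, two stabilisers of partitions contain the Sylow subgroup and link all points by 3-cycles.
-/

set_option autoImplicit false

namespace Cfsg.Agent.Invol.ThreeMin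

open Equiv Equiv.Perm
open Cfsg.Agent.AltAut (cyc)
open Cfsg.Agent.Invol.ThreeCyc

variable {n : ℕ}

/-- The permutations respecting a block map. -/
def Resp (f : Fin n → Finset (Fin n)) : Subgroup (Perm (Fin n)) where
  carrier := {g | ∀ x, f (g x) = (f x).image g}
  one_mem' := fun x => by simp
  mul_mem' := fun {a b} ha hb x => by
    show f (a (b x)) = (f x).image (a * b)
    rw [ha, hb, Finset.image_image]; rfl
  inv_mem' := fun {a} ha x => by
    have h : f x = (f (a⁻¹ x)).image a := by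
      have h' := ha (a⁻¹ x)
      rw [show a (a⁻¹ x) = x by simp] at h'
      exact h'
    conv_rhs => rw [h, Finset.image_image]
    ext y; simp

theorem mem_Resp {f : Fin n → Finset (Fin n)} {g : Perm (Fin n)} :
    g ∈ Resp f ↔ ∀ x, f (g x) = (f x).image g := Iff.rfl

/-- A partition into blocks. -/
structure IsPart (f : Fin n → Finset (Fin n)) : Prop where
  self : ∀ x, x ∈ f x
  eq : ∀ x, ∀ y ∈ f x, f y = f x

theorem mem_Resp_inside {f : Fin n → Finset (Fin n)} (hf : IsPart f) {g : Perm (Fin n)} (hg : ∀ x, g x ∈ f x) :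
    g ∈ Resp f := by
  intro x
  rw [hf.eq _ _ (hg x)]
  refine (Finset.eq_of_subset_of_card_le (fun y hy => ?_) ?_).symm
  · obtain ⟨z, hz, rfl⟩ := Finset.mem_image.1 hy
    rw [← hf.eq _ _ hz]
    exact hg z
  · rw [Finset.card_image_of_injective _ g.injective]

theorem cyc_mem_Resp {f : Fin n → Finset (Fin n)} (hf : IsPart f) {a b c : Fin n} (hb : b ∈ f a) (hc : c ∈ f a)
    (hab : a ≠ b) (hbc : b ≠ c) (hac : a ≠ c) : cyc a b c ∈ Resp f := by
  refine mem_Resp_inside hf fun x => ?_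
  by_cases h1 : x = a
  · subst h1; rw [AltAut.cyc_fst hab hac]; exact hb
  by_cases h2 : x = b
  · subst h2; rw [AltAut.cyc_snd hac hbc, hf.eq _ _ hb]; exact hc
  by_cases h3 : x = c
  · subst h3; rw [AltAut.cyc_thd, hf.eq _ _ hc]; exact hf.self a
  rw [AltAut.cyc_other h1 h2 h3]; exact hf.self x

theorem Resp_ne_top {f : Fin n → Finset (Fin n)} (hf : IsPart f) {x y w : Fin n} (hy : y ∈ f x) (hw : w ∉ f x)
    (hxy : x ≠ y) : (Resp f).subgroupOf (alternatingGroup (Fin n)) ≠ ⊤ := by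
  intro e
  have hxw : x ≠ w := fun h => hw (h ▸ hf.self x)
  have hyw : y ≠ w := fun h => hw (h ▸ hy)
  have hm : (⟨cyc x y w, AltAut.cyc_mem hxy hyw⟩ : ↥(alternatingGroup (Fin n))) ∈
      (Resp f).subgroupOf (alternatingGroup (Fin n)) := e ▸ Subgroup.mem_top _
  have h := mem_Resp.1 (Subgroup.mem_subgroupOf.1 hm) x
  change f (cyc x y w x) = (f x).image (cyc x y w) at h
  rw [AltAut.cyc_fst hxy hxw, hf.eq _ _ hy] at h
  have : w ∈ (f x).image (cyc x y w) := Finset.mem_image.2 ⟨y, hy, AltAut.cyc_snd hxw hyw⟩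
  exact hw (h.symm ▸ this)

theorem good_mono {J J' : Subgroup (Perm (Fin n))} (h : J ≤ J') {Δ : Finset (Fin n)} (hg : Good J Δ) : Good J' Δ :=
  fun a ha b hb c hc h1 h2 h3 => h (hg a ha b hb c hc h1 h2 h3)

theorem good_of_block {f : Fin n → Finset (Fin n)} (hf : IsPart f) (x : Fin n) :
    Good (Resp f ⊓ alternatingGroup (Fin n)) (f x) := fun a ha b hb c hc hab hbc hac =>
  Subgroup.mem_inf.2 ⟨cyc_mem_Resp hf (by rw [hf.eq _ _ ha]; exact hb) (by rw [hf.eq _ _ ha]; exact hc) hab hbc hac,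
    AltAut.cyc_mem hab hbc⟩

/-- A good set meeting a closed one lies inside it. -/
theorem subset_closed {J : Subgroup (Perm (Fin n))} {A Δ : Finset (Fin n)} (hA : Good J A) (hA3 : 3 ≤ A.card)
    (hcl : ∀ d ∈ J, d.IsThreeCycle → ∀ u ∈ Δ, d u ∈ Δ) {u : Fin n} (hu : u ∈ A) (huΔ : u ∈ Δ) : A ⊆ Δ := by
  intro v hv
  by_cases huv : u = v
  · exact huv ▸ huΔ
  obtain ⟨w, hw, hw'⟩ := Finset.exists_mem_notMem_of_card_lt_card (s := {u, v}) (t := A)
    (lt_of_le_of_lt Finset.card_le_two (by omega))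
  simp only [Finset.mem_insert, Finset.mem_singleton, not_or] at hw'
  have := hcl _ (hA u hu v hv w hw huv (Ne.symm hw'.2) (Ne.symm hw'.1))
    (AltAut.isThreeCycle_cyc huv (Ne.symm hw'.2) (Ne.symm hw'.1)) u huΔ
  rwa [AltAut.cyc_fst huv (Ne.symm hw'.1)] at this

theorem closed_of_good {J : Subgroup (Perm (Fin n))} {A : Finset (Fin n)} (hA : Good J A) (hA3 : 3 ≤ A.card) :
    ∃ Δ : Finset (Fin n), A ⊆ Δ ∧ Good J Δ ∧ ∀ d ∈ J, d.IsThreeCycle → ∀ u ∈ Δ, d u ∈ Δ := by
  obtain ⟨a, ha, b, hb, c, hc, hab, hac, hbc⟩ := Finset.two_lt_card.1 (by omega : 2 < A.card)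
  obtain ⟨Δ, h1, -, -, -, hgood, hcl⟩ := exists_closed hab hbc hac (hA a ha b hb c hc hab hbc hac)
  exact ⟨Δ, subset_closed hA hA3 hcl ha h1, hgood, hcl⟩

theorem alt_le_of_univ {J : Subgroup (Perm (Fin n))} {Δ : Finset (Fin n)} (h : Good J Δ) (hu : ∀ x, x ∈ Δ) :
    alternatingGroup (Fin n) ≤ J := by
  rw [← closure_three_cycles_eq_alternating, Subgroup.closure_le]
  intro σ hσ
  obtain ⟨a, ha⟩ : ∃ a, σ a ≠ a := by
    by_contra hcon
    push Not at hcon
    exact hσ.ne_one (Equiv.ext hcon)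
  obtain ⟨e, h1, h2, -⟩ := AltAut.eq_cyc hσ ha
  rw [e]
  exact h _ (hu _) _ (hu _) _ (hu _) (Ne.symm ha) h1 h2

/-- Two overgroups with nothing proper above both. -/
def Two (P : Subgroup ↥(alternatingGroup (Fin n))) : Prop :=
  ∃ W₁ W₂ : Subgroup ↥(alternatingGroup (Fin n)), W₁ ≠ ⊤ ∧ W₂ ≠ ⊤ ∧ P ≤ W₁ ∧ P ≤ W₂ ∧
    ∀ M, W₁ ≤ M → W₂ ≤ M → M = ⊤

/-- Two partition stabilisers whose join links everything. -/
theorem two_of_link {P : Subgroup ↥(alternatingGroup (Fin n))} {f₁ f₂ : Fin n → Finset (Fin n)}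
    (h1 : (Resp f₁).subgroupOf (alternatingGroup (Fin n)) ≠ ⊤) (h2 : (Resp f₂).subgroupOf (alternatingGroup (Fin n)) ≠ ⊤)
    (hP1 : ∀ g ∈ P, (g : Perm (Fin n)) ∈ Resp f₁) (hP2 : ∀ g ∈ P, (g : Perm (Fin n)) ∈ Resp f₂)
    (hlink : ∀ J : Subgroup (Perm (Fin n)), Resp f₁ ⊓ alternatingGroup (Fin n) ≤ J →
      Resp f₂ ⊓ alternatingGroup (Fin n) ≤ J → ∃ Δ : Finset (Fin n), Good J Δ ∧ ∀ x, x ∈ Δ) : Two P := by
  refine ⟨_, _, h1, h2, hP1, hP2, fun M hM1 hM2 => ?_⟩
  have hle : ∀ {f : Fin n → Finset (Fin n)}, (Resp f).subgroupOf (alternatingGroup (Fin n)) ≤ M →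
      Resp f ⊓ alternatingGroup (Fin n) ≤ M.map (alternatingGroup (Fin n)).subtype := fun hf g hg =>
    ⟨⟨g, (Subgroup.mem_inf.1 hg).2⟩, hf (Subgroup.mem_subgroupOf.2 (Subgroup.mem_inf.1 hg).1), rfl⟩
  obtain ⟨Δ, hgood, hu⟩ := hlink _ (hle hM1) (hle hM2)
  refine top_le_iff.1 fun g _ => ?_
  obtain ⟨y, hy, e⟩ := alt_le_of_univ hgood hu g.2
  exact Subtype.ext e ▸ hy

/-- The block map of a set and its complement. -/
def halves (A : Finset (Fin n)) (x : Fin n) : Finset (Fin n) := if x ∈ A then A else Aᶜ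

theorem halves_part (A : Finset (Fin n)) : IsPart (halves A) := by
  refine ⟨fun x => ?_, fun x y hy => ?_⟩
  · unfold halves; split_ifs with h
    · exact h
    · exact Finset.mem_compl.2 h
  · unfold halves at hy ⊢
    split_ifs at hy with h
    · rw [if_pos hy, if_pos h]
    · rw [Finset.mem_compl] at hy; rw [if_neg hy, if_neg h]

theorem halves_pos {A : Finset (Fin n)} {x : Fin n} (h : x ∈ A) : halves A x = A := if_pos h

theorem mem_Resp_halves {A : Finset (Fin n)} {g : Perm (Fin n)} (hg : ∀ x, g x ∈ A ↔ x ∈ A) : g ∈ Resp (halves A) :=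
  mem_Resp_inside (halves_part A) fun x => by
    unfold halves; split_ifs with h
    · exact (hg x).2 h
    · exact Finset.mem_compl.2 fun hm => h ((hg x).1 hm)

theorem halves_ne_top {A : Finset (Fin n)} (hA : 2 ≤ A.card) {w : Fin n} (hw : w ∉ A) :
    (Resp (halves A)).subgroupOf (alternatingGroup (Fin n)) ≠ ⊤ := by
  obtain ⟨x, hx, y, hy, hxy⟩ := Finset.one_lt_card.1 hA
  exact Resp_ne_top (halves_part A) (x := x) (y := y) (w := w) (by rwa [halves_pos hx]) (by rwa [halves_pos hx]) hxy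

/-- Two proper invariant sets which overlap and cover. -/
theorem two_of_sets {P : Subgroup ↥(alternatingGroup (Fin n))} {A B : Finset (Fin n)}
    (hA : 3 ≤ A.card) (hB : 3 ≤ B.card) {a b u : Fin n} (ha : a ∉ A) (hb : b ∉ B) (huA : u ∈ A) (huB : u ∈ B)
    (hcov : ∀ x, x ∈ A ∨ x ∈ B) (hPA : ∀ g ∈ P, ∀ x, (g : Perm (Fin n)) x ∈ A ↔ x ∈ A)
    (hPB : ∀ g ∈ P, ∀ x, (g : Perm (Fin n)) x ∈ B ↔ x ∈ B) : Two P := by
  refine two_of_link (halves_ne_top (by omega) ha) (halves_ne_top (by omega) hb)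
    (fun g hg => mem_Resp_halves (hPA g hg)) (fun g hg => mem_Resp_halves (hPB g hg)) fun J hJ1 hJ2 => ?_
  have gA : Good J A := by
    have h := good_of_block (halves_part A) u
    rw [halves_pos huA] at h
    exact good_mono hJ1 h
  have gB : Good J B := by
    have h := good_of_block (halves_part B) u
    rw [halves_pos huB] at h
    exact good_mono hJ2 h
  obtain ⟨Δ, hAΔ, hgood, hcl⟩ := closed_of_good gA hA
  exact ⟨Δ, hgood, fun x => (hcov x).elim (@hAΔ x) (@subset_closed _ _ B Δ gB hB hcl u huB (hAΔ huA) x)⟩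

/-- The 3-cycle supports of a 3-group. -/
noncomputable def tri (P : Subgroup (Perm (Fin n))) (x : Fin n) : Finset (Fin n) :=
  letI := Classical.propDecidable (∃ d ∈ P, d.IsThreeCycle ∧ d x ≠ x)
  if h : ∃ d ∈ P, d.IsThreeCycle ∧ d x ≠ x then h.choose.support else {x}

/-- The points on a 3-cycle of `P`. -/
def Mov (P : Subgroup (Perm (Fin n))) (x : Fin n) : Prop := ∃ d ∈ P, d.IsThreeCycle ∧ d x ≠ x

section threegroup

variable {P : Subgroup (Perm (Fin n))} (hP : IsPGroup 3 ↥P)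

include hP

theorem odd_card : ¬ 2 ∣ Nat.card ↥P := by
  haveI : Fact (Nat.Prime 3) := ⟨Nat.prime_three⟩
  obtain ⟨k, hk⟩ := IsPGroup.iff_card.1 hP
  rw [hk]
  exact fun h => absurd (Nat.prime_two.dvd_of_dvd_pow h) (by decide)

theorem meet_eq {c d : Perm (Fin n)} (hc : c ∈ P) (hd : d ∈ P) (hc3 : c.IsThreeCycle) (hd3 : d.IsThreeCycle)
    {x : Fin n} (hxc : c x ≠ x) (hxd : d x ≠ x) : d.support = c.support := by
  by_contra hne
  obtain ⟨e, h1, h2, -⟩ := AltAut.eq_cyc hc3 hxc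
  obtain ⟨Δ, ma, mb, mc, h3, hgood, hcl⟩ := exists_closed (Ne.symm hxc) h1 h2 (e ▸ hc)
  have hsub : ∀ c' ∈ P, c'.IsThreeCycle → c' x ≠ x → c'.support ⊆ Δ := by
    intro c' hc' hc3' hx' y hy
    obtain ⟨e', -, -, -⟩ := AltAut.eq_cyc hc3' hx'
    rw [Equiv.Perm.mem_support, e'] at hy
    by_cases y1 : y = x
    · exact y1 ▸ ma
    by_cases y2 : y = c' x
    · exact y2 ▸ hcl c' hc' hc3' x ma
    by_cases y3 : y = c' (c' x)
    · exact y3 ▸ hcl c' hc' hc3' _ (hcl c' hc' hc3' x ma)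
    exact absurd (AltAut.cyc_other y1 y2 y3) hy
  by_cases h4 : 4 ≤ Δ.card
  · obtain ⟨u, hu, v, hv, huv⟩ := Finset.one_lt_card.1 (show 1 < Δ.card by omega)
    obtain ⟨a, haΔ, ha⟩ := Finset.exists_mem_notMem_of_card_lt_card (s := {u, v}) (t := Δ)
      (lt_of_le_of_lt Finset.card_le_two (by omega))
    obtain ⟨b, hbΔ, hb⟩ := Finset.exists_mem_notMem_of_card_lt_card (s := {u, v, a}) (t := Δ)
      (lt_of_le_of_lt Finset.card_le_three (by omega))
    simp only [Finset.mem_insert, Finset.mem_singleton, not_or] at ha hb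
    set g := cyc u v a * cyc u v b with hg
    have hgP : g ∈ P := P.mul_mem (hgood u hu v hv a haΔ huv (Ne.symm ha.2) (Ne.symm ha.1))
      (hgood u hu v hv b hbΔ huv (Ne.symm hb.2.1) (Ne.symm hb.1))
    have g1 : g u = a := by
      rw [hg, Perm.mul_apply, AltAut.cyc_fst huv (Ne.symm hb.1), AltAut.cyc_snd (Ne.symm ha.1) (Ne.symm ha.2)]
    have g2 : g a = u := by
      rw [hg, Perm.mul_apply, AltAut.cyc_other ha.1 ha.2 (Ne.symm hb.2.2), AltAut.cyc_thd]
    obtain ⟨k, hk⟩ := hP ⟨g, hgP⟩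
    have hk' : g ^ 3 ^ k = 1 := congrArg Subtype.val hk
    have hpow : ∀ m : ℕ, (g ^ (2 * m)) u = u := by
      intro m
      induction m with
      | zero => rfl
      | succ m ih => rw [show 2 * (m + 1) = 2 + 2 * m by ring, pow_add, Perm.mul_apply, ih, pow_two, Perm.mul_apply, g1, g2]
    obtain ⟨m, hm⟩ : Odd (3 ^ k) := (by decide : Odd 3).pow
    have := DFunLike.congr_fun hk' u
    rw [hm, pow_succ', Perm.mul_apply, hpow, g1, Perm.one_apply] at this
    exact ha.1 this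
  · refine hne ?_
    have e1 := Finset.eq_of_subset_of_card_le (hsub c hc hc3 hxc) (by rw [hc3.card_support]; omega)
    have e2 := Finset.eq_of_subset_of_card_le (hsub d hd hd3 hxd) (by rw [hd3.card_support]; omega)
    rw [e1, e2]

theorem tri_eq {c : Perm (Fin n)} (hc : c ∈ P) (hc3 : c.IsThreeCycle) {x : Fin n} (hx : c x ≠ x) :
    tri P x = c.support := by
  have h : ∃ d ∈ P, d.IsThreeCycle ∧ d x ≠ x := ⟨c, hc, hc3, hx⟩
  rw [tri, dif_pos h]
  exact meet_eq hP hc h.choose_spec.1 hc3 h.choose_spec.2.1 hx h.choose_spec.2.2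

theorem tri_fixed {x : Fin n} (hx : ¬ Mov P x) : tri P x = {x} := dif_neg hx

theorem tri_part : IsPart (tri P) := by
  constructor
  · intro x
    by_cases h : Mov P x
    · obtain ⟨c, hc, hc3, hx⟩ := h
      rw [tri_eq hP hc hc3 hx]; exact Equiv.Perm.mem_support.2 hx
    · rw [tri_fixed hP h]; exact Finset.mem_singleton_self x
  · intro x y hy
    by_cases h : Mov P x
    · obtain ⟨c, hc, hc3, hx⟩ := h
      rw [tri_eq hP hc hc3 hx] at hy ⊢
      exact tri_eq hP hc hc3 (Equiv.Perm.mem_support.1 hy)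
    · rw [tri_fixed hP h, Finset.mem_singleton] at hy
      rw [hy]

theorem tri_card {x : Fin n} (h : Mov P x) : (tri P x).card = 3 := by
  obtain ⟨c, hc, hc3, hx⟩ := h
  rw [tri_eq hP hc hc3 hx, hc3.card_support]

theorem mov_map {g : Perm (Fin n)} (hg : g ∈ P) {x : Fin n} (h : Mov P x) : Mov P (g x) := by
  obtain ⟨c, hc, hc3, hx⟩ := h
  refine ⟨g * c * g⁻¹, P.mul_mem (P.mul_mem hg hc) (P.inv_mem hg), ?_, ?_⟩
  · unfold Equiv.Perm.IsThreeCycle at hc3 ⊢
    rw [Equiv.Perm.cycleType_conj]; exact hc3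
  · simpa using hx

theorem tri_map {g : Perm (Fin n)} (hg : g ∈ P) : g ∈ Resp (tri P) := by
  intro x
  by_cases h : Mov P x
  · obtain ⟨c, hc, hc3, hx⟩ := h
    have hd3 : (g * c * g⁻¹).IsThreeCycle := by
      unfold Equiv.Perm.IsThreeCycle at hc3 ⊢
      rw [Equiv.Perm.cycleType_conj]; exact hc3
    rw [tri_eq hP hc hc3 hx, tri_eq hP (P.mul_mem (P.mul_mem hg hc) (P.inv_mem hg)) hd3 (x := g x) (by simpa using hx)]
    ext y
    simp only [Finset.mem_image, Equiv.Perm.mem_support, Perm.mul_apply]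
    constructor
    · intro hy
      exact ⟨g⁻¹ y, fun e => hy (by rw [e]; simp), by simp⟩
    · rintro ⟨z, hz, rfl⟩; simpa using hz
  · have h' : ¬ Mov P (g x) := fun hm => h (by simpa using mov_map hP (P.inv_mem hg) hm)
    rw [tri_fixed hP h, tri_fixed hP h', Finset.image_singleton]

end threegroup

variable (P : Subgroup ↥(alternatingGroup (Fin n)))

/-- Same orbit. -/
def Rel (x y : Fin n) : Prop := ∃ g ∈ P, (g : Perm (Fin n)) x = y

theorem Rel.refl (x : Fin n) : Rel P x x := ⟨1, P.one_mem, rfl⟩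

variable {P}

theorem Rel.symm {x y : Fin n} (h : Rel P x y) : Rel P y x := by
  obtain ⟨g, hg, rfl⟩ := h
  exact ⟨g⁻¹, P.inv_mem hg, by simp⟩

theorem Rel.trans {x y w : Fin n} (h : Rel P x y) (h' : Rel P y w) : Rel P x w := by
  obtain ⟨g, hg, rfl⟩ := h
  obtain ⟨g', hg', rfl⟩ := h'
  exact ⟨g' * g, P.mul_mem hg' hg, rfl⟩

variable (P) in
/-- The orbit as a finite set. -/
noncomputable def orb (x : Fin n) : Finset (Fin n) :=
  letI := Classical.decPred (Rel P x)
  Finset.univ.filter (Rel P x)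

theorem mem_orb {x y : Fin n} : y ∈ orb P x ↔ Rel P x y := by simp [orb]

theorem orb_inv {g : ↥(alternatingGroup (Fin n))} (hg : g ∈ P) (x y : Fin n) :
    (g : Perm (Fin n)) y ∈ orb P x ↔ y ∈ orb P x := by
  rw [mem_orb, mem_orb]
  exact ⟨fun h => h.trans (Rel.symm ⟨g, hg, rfl⟩), fun h => h.trans ⟨g, hg, rfl⟩⟩

theorem orb_card (hP : IsPGroup 3 ↥P) (x : Fin n) : ∃ k, (orb P x).card = 3 ^ k := by
  haveI : Fact (Nat.Prime 3) := ⟨Nat.prime_three⟩
  let f : ↥P →* Perm (Fin n) := (alternatingGroup (Fin n)).subtype.comp P.subtype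
  letI : MulAction ↥P (Fin n) := MulAction.compHom (Fin n) f
  obtain ⟨k, hk⟩ := hP.card_orbit x
  refine ⟨k, ?_⟩
  rw [← hk, ← Nat.card_eq_finsetCard]
  refine Nat.card_congr (Equiv.setCongr (Set.ext fun y => ?_) : {y // y ∈ orb P x} ≃ MulAction.orbit ↥P x)
  change y ∈ orb P x ↔ y ∈ MulAction.orbit ↥P x
  rw [mem_orb]
  constructor
  · rintro ⟨g, hg, rfl⟩; exact ⟨⟨g, hg⟩, rfl⟩
  · rintro ⟨g, rfl⟩; exact ⟨g.1, g.2, rfl⟩

/-- Three orbits give two overgroups. -/
theorem two_of_three_orbits (h5 : 5 ≤ n) {x y w : Fin n} (hxy : ¬ Rel P x y) (hxw : ¬ Rel P x w) (hyw : ¬ Rel P y w) :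
    Two P := by
  classical
  obtain ⟨a, b, u, hab, hau, hbu, h1, h2⟩ : ∃ a b u, ¬ Rel P a b ∧ ¬ Rel P a u ∧ ¬ Rel P b u ∧
      2 * (orb P a).card < n ∧ 2 * (orb P b).card < n := by
    have key : ∀ a b u, ¬ Rel P a b → ¬ Rel P a u → ¬ Rel P b u → (orb P a).card + (orb P b).card < n := by
      intro a b u hab hau hbu
      have hd : Disjoint (orb P a) (orb P b) := Finset.disjoint_left.2 fun z hz hz' =>
        hab ((mem_orb.1 hz).trans (mem_orb.1 hz').symm)
      rw [← Finset.card_union_of_disjoint hd]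
      refine lt_of_lt_of_le (Finset.card_lt_card ((Finset.ssubset_univ_iff).2 fun e => ?_)) (le_of_eq (by simp))
      have := (e ▸ Finset.mem_univ u : u ∈ orb P a ∪ orb P b)
      rw [Finset.mem_union, mem_orb, mem_orb] at this
      exact this.elim hau hbu
    have kxy := key x y w hxy hxw hyw
    have kxw := key x w y hxw hxy (fun h => hyw h.symm)
    have kyw := key y w x hyw (fun h => hxy h.symm) (fun h => hxw h.symm)
    rcases le_total (orb P x).card (orb P w).card with l1 | l1 <;> rcases le_total (orb P y).card (orb P w).card with l2 | l2 <;>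
      rcases le_total (orb P x).card (orb P y).card with l3 | l3
    all_goals first
      | exact ⟨x, y, w, hxy, hxw, hyw, by omega, by omega⟩
      | exact ⟨x, w, y, hxw, hxy, fun h => hyw h.symm, by omega, by omega⟩
      | exact ⟨y, w, x, hyw, fun h => hxy h.symm, fun h => hxw h.symm, by omega, by omega⟩
  refine two_of_sets (A := (orb P a)ᶜ) (B := (orb P b)ᶜ) ?_ ?_ (a := a) (b := b) (u := u) ?_ ?_ ?_ ?_ ?_
    (fun g hg x => by rw [Finset.mem_compl, Finset.mem_compl, orb_inv hg])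
    (fun g hg x => by rw [Finset.mem_compl, Finset.mem_compl, orb_inv hg])
  · rw [Finset.card_compl, Fintype.card_fin]; omega
  · rw [Finset.card_compl, Fintype.card_fin]; omega
  · simpa [mem_orb] using Rel.refl P a
  · simpa [mem_orb] using Rel.refl P b
  · simpa [mem_orb] using hau
  · simpa [mem_orb] using hbu
  · intro z
    by_contra h
    simp only [Finset.mem_compl, mem_orb, not_or, not_not] at h
    exact hab (h.1.trans h.2.symm)

/-- A set of whole triples with at least two of them, and the triples. -/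
theorem two_of_triples {Pp : Subgroup (Perm (Fin n))} (hPp : IsPGroup 3 ↥Pp) (hall : ∀ x, Mov Pp x)
    (hPPp : ∀ g ∈ P, (g : Perm (Fin n)) ∈ Pp) {f : Fin n → Finset (Fin n)} (hf : IsPart f)
    (hfP : ∀ g ∈ P, (g : Perm (Fin n)) ∈ Resp f) {a₀ : Fin n} (hA : 6 ≤ (f a₀).card)
    (hclosed : ∀ x ∈ f a₀, tri Pp x ⊆ f a₀) {w : Fin n} (hw : w ∉ f a₀) : Two P := by
  have hsub := tri_part hPp
  have ht3 : ∀ x, (tri Pp x).card = 3 := fun x => tri_card hPp (hall x)
  obtain ⟨y₀, hy₀, hy₀'⟩ := Finset.exists_mem_ne (by omega : 1 < (f a₀).card) a₀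
  refine two_of_link (f₁ := f) (f₂ := tri Pp) (Resp_ne_top hf (y := y₀) (w := w) hy₀ hw hy₀'.symm) ?_
    hfP (fun g hg => tri_map hPp (hPPp g hg)) fun J hJ1 hJ2 => ?_
  · obtain ⟨y, hy, hy'⟩ := Finset.exists_mem_ne (by rw [ht3]; omega : 1 < (tri Pp a₀).card) a₀
    exact Resp_ne_top hsub (y := y) (w := w) hy (fun h => hw (hclosed a₀ (hf.self a₀) h)) hy'.symm
  have gA : Good J (f a₀) := good_mono hJ1 (good_of_block hf a₀)
  obtain ⟨Δ, hAΔ, hgood, hcl⟩ := closed_of_good gA (by omega)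
  refine ⟨Δ, hgood, fun b => ?_⟩
  by_cases hb : b ∈ f a₀
  · exact hAΔ hb
  -- the exchange
  obtain ⟨a₁, ha₁, a₂, ha₂, h01, h02, h12, hTa⟩ : ∃ a₁ ∈ tri Pp a₀, ∃ a₂ ∈ tri Pp a₀, a₀ ≠ a₁ ∧ a₀ ≠ a₂ ∧ a₁ ≠ a₂ ∧
      ∀ z ∈ tri Pp a₀, z = a₀ ∨ z = a₁ ∨ z = a₂ := by
    obtain ⟨c, hc, hc3, hx⟩ := hall a₀
    obtain ⟨e, e1, e2, -⟩ := AltAut.eq_cyc hc3 hx
    rw [tri_eq hPp hc hc3 hx]
    refine ⟨c a₀, ?_, c (c a₀), ?_, Ne.symm hx, e2, e1, fun z hz => ?_⟩
    · rw [Equiv.Perm.mem_support]; exact fun h => hx (c.injective h)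
    · rw [Equiv.Perm.mem_support]; exact fun h => hx (c.injective (c.injective h))
    · rw [Equiv.Perm.mem_support, e] at hz
      by_contra h
      push Not at h
      exact hz (AltAut.cyc_other h.1 h.2.1 h.2.2)
  obtain ⟨b₁, hb₁, b₂, hb₂, k01, k02, k12, hTb⟩ : ∃ b₁ ∈ tri Pp b, ∃ b₂ ∈ tri Pp b, b ≠ b₁ ∧ b ≠ b₂ ∧ b₁ ≠ b₂ ∧
      ∀ z ∈ tri Pp b, z = b ∨ z = b₁ ∨ z = b₂ := by
    obtain ⟨c, hc, hc3, hx⟩ := hall b
    obtain ⟨e, e1, e2, -⟩ := AltAut.eq_cyc hc3 hx
    rw [tri_eq hPp hc hc3 hx]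
    refine ⟨c b, ?_, c (c b), ?_, Ne.symm hx, e2, e1, fun z hz => ?_⟩
    · rw [Equiv.Perm.mem_support]; exact fun h => hx (c.injective h)
    · rw [Equiv.Perm.mem_support]; exact fun h => hx (c.injective (c.injective h))
    · rw [Equiv.Perm.mem_support, e] at hz
      by_contra h
      push Not at h
      exact hz (AltAut.cyc_other h.1 h.2.1 h.2.2)
  obtain ⟨u, hu, hu'⟩ := Finset.exists_mem_notMem_of_card_lt_card (s := tri Pp a₀) (t := f a₀) (by rw [ht3]; omega)
  obtain ⟨v, hv, hvu⟩ := Finset.exists_mem_ne (by rw [ht3]; omega : 1 < (tri Pp u).card) u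
  have hba : ∀ z ∈ tri Pp b, z ∉ f a₀ := fun z hz hzA => hb (hclosed z hzA (by rw [hsub.eq _ _ hz]; exact hsub.self b))
  have hua : ∀ z ∈ tri Pp u, z ∉ tri Pp a₀ := fun z hz hzA => hu' (by
    rw [← hsub.eq _ _ hzA, hsub.eq _ _ hz]; exact hsub.self u)
  have hTaA := hclosed a₀ (hf.self a₀)
  have hTuA := hclosed u hu
  have d0 : ∀ z ∈ tri Pp a₀, z ≠ b ∧ z ≠ b₁ ∧ z ≠ b₂ ∧ z ≠ u ∧ z ≠ v := fun z hz =>
    ⟨fun e => hba b (hsub.self b) (e ▸ hTaA hz), fun e => hba b₁ hb₁ (e ▸ hTaA hz), fun e => hba b₂ hb₂ (e ▸ hTaA hz),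
      fun e => hua u (hsub.self u) (e ▸ hz), fun e => hua v hv (e ▸ hz)⟩
  have d1 : ∀ z ∈ tri Pp b, z ≠ u ∧ z ≠ v := fun z hz =>
    ⟨fun e => hba z hz (e ▸ hu), fun e => hba z hz (e ▸ hTuA hv)⟩
  obtain ⟨x01, x02, x03, x04, x05⟩ := d0 a₀ (hsub.self a₀)
  obtain ⟨x11, x12, x13, x14, x15⟩ := d0 a₁ ha₁
  obtain ⟨x21, x22, x23, x24, x25⟩ := d0 a₂ ha₂
  obtain ⟨y04, y05⟩ := d1 b (hsub.self b)
  obtain ⟨y14, y15⟩ := d1 b₁ hb₁
  obtain ⟨y24, y25⟩ := d1 b₂ hb₂
  set g : Perm (Fin n) := swap a₀ b * swap a₁ b₁ * swap a₂ b₂ * swap u v with hg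
  have g0 : g a₀ = b := by simp [hg, swap_apply_of_ne_of_ne, *]
  have g1 : g a₁ = b₁ := by simp [hg, swap_apply_of_ne_of_ne, *, Ne.symm h01, Ne.symm k01, Ne.symm x02]
  have g2 : g a₂ = b₂ := by simp [hg, swap_apply_of_ne_of_ne, *, Ne.symm h02, Ne.symm h12, Ne.symm k02, Ne.symm k12, Ne.symm x03, Ne.symm x13]
  have g3 : g b = a₀ := by simp [hg, swap_apply_of_ne_of_ne, *, Ne.symm x11, Ne.symm x21, Ne.symm x01]
  have g4 : g b₁ = a₁ := by simp [hg, swap_apply_of_ne_of_ne, *, Ne.symm x22, Ne.symm x12, Ne.symm h01, Ne.symm k01]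
  have g5 : g b₂ = a₂ := by simp [hg, swap_apply_of_ne_of_ne, *, Ne.symm x23, Ne.symm h12, Ne.symm h02, Ne.symm k12, Ne.symm k02]
  have g6 : g u = v := by simp [hg, swap_apply_of_ne_of_ne, *, Ne.symm x05, Ne.symm x15, Ne.symm x25, Ne.symm y05, Ne.symm y15, Ne.symm y25]
  have g7 : g v = u := by simp [hg, swap_apply_of_ne_of_ne, *, Ne.symm x04, Ne.symm x14, Ne.symm x24, Ne.symm y04, Ne.symm y14, Ne.symm y24]
  have gother : ∀ z, z ≠ a₀ → z ≠ a₁ → z ≠ a₂ → z ≠ b → z ≠ b₁ → z ≠ b₂ → z ≠ u → z ≠ v → g z = z := by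
    intro z n1 n2 n3 n4 n5 n6 n7 n8; simp [hg, swap_apply_of_ne_of_ne, *]
  have hgR : g ∈ Resp (tri Pp) := by
    have hin : ∀ x, ∀ y ∈ tri Pp x, g y ∈ tri Pp (g x) := by
      have cl : ∀ z, (z ∈ tri Pp a₀ → g z ∈ tri Pp b) ∧ (z ∈ tri Pp b → g z ∈ tri Pp a₀) ∧
          (z ∉ tri Pp a₀ → z ∉ tri Pp b → g z ∈ tri Pp z) := by
        intro z
        refine ⟨fun hz => ?_, fun hz => ?_, fun h1 h2 => ?_⟩
        · rcases hTa z hz with rfl | rfl | rfl
          · rw [g0]; exact hsub.self b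
          · rw [g1]; exact hb₁
          · rw [g2]; exact hb₂
        · rcases hTb z hz with rfl | rfl | rfl
          · rw [g3]; exact hsub.self a₀
          · rw [g4]; exact ha₁
          · rw [g5]; exact ha₂
        · by_cases e : z = u
          · subst e; rw [g6]; exact hv
          by_cases e' : z = v
          · subst e'; rw [g7, hsub.eq _ _ hv]; exact hsub.self u
          rw [gother z (fun q => h1 (q ▸ hsub.self a₀)) (fun q => h1 (q ▸ ha₁)) (fun q => h1 (q ▸ ha₂))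
            (fun q => h2 (q ▸ hsub.self b)) (fun q => h2 (q ▸ hb₁)) (fun q => h2 (q ▸ hb₂)) e e']
          exact hsub.self z
      intro x y hy
      have hxy := hsub.eq _ _ hy
      by_cases hx1 : x ∈ tri Pp a₀
      · have hy1 : y ∈ tri Pp a₀ := by rw [← hsub.eq _ _ hx1]; exact hy
        rw [hsub.eq _ _ ((cl x).1 hx1)]
        exact (cl y).1 hy1
      by_cases hx2 : x ∈ tri Pp b
      · have hy2 : y ∈ tri Pp b := by rw [← hsub.eq _ _ hx2]; exact hy
        rw [hsub.eq _ _ ((cl x).2.1 hx2)]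
        exact (cl y).2.1 hy2
      have hy1 : y ∉ tri Pp a₀ := fun h => hx1 (by rw [← hsub.eq _ _ h, hxy]; exact hsub.self x)
      have hy2 : y ∉ tri Pp b := fun h => hx2 (by rw [← hsub.eq _ _ h, hxy]; exact hsub.self x)
      have := (cl y).2.2 hy1 hy2
      rw [hxy] at this
      rwa [hsub.eq _ _ ((cl x).2.2 hx1 hx2)]
    intro x
    refine (Finset.eq_of_subset_of_card_le (fun y hy => ?_) ?_).symm
    · obtain ⟨z, hz, rfl⟩ := Finset.mem_image.1 hy; exact hin x z hz
    · rw [Finset.card_image_of_injective _ g.injective, ht3, ht3]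
  have hgA : g ∈ alternatingGroup (Fin n) := by
    rw [mem_alternatingGroup, hg, map_mul, map_mul, map_mul, sign_swap x01, sign_swap x12, sign_swap x23,
      sign_swap (Ne.symm hvu)]
    rfl
  have hgJ : g ∈ J := hJ2 (Subgroup.mem_inf.2 ⟨hgR, hgA⟩)
  have hc := gA u hu a₀ (hf.self a₀) a₁ (hTaA ha₁) (Ne.symm x04) h01 (Ne.symm x14)
  have hd := J.mul_mem (J.mul_mem hgJ hc) (J.inv_mem hgJ)
  rw [AltAut.cyc_conj, g6, g0, g1] at hd
  have := hcl _ hd (AltAut.isThreeCycle_cyc (Ne.symm y05) k01 (Ne.symm y15)) v (hAΔ (hTuA hv))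
  rwa [AltAut.cyc_fst (Ne.symm y05) (Ne.symm y15)] at this

/-- Outside degrees 6, 9 and `3^a + 1` there are two overgroups. -/
theorem two_of_sylow (h5 : 5 ≤ n) (h6 : n ≠ 6) (h9 : n ≠ 9) (hpow : ¬ ∃ a, 2 ≤ a ∧ n = 3 ^ a + 1)
    (S : Sylow 3 ↥(alternatingGroup (Fin n))) : Two (S : Subgroup ↥(alternatingGroup (Fin n))) := by
  classical
  haveI : Fact (Nat.Prime 3) := ⟨Nat.prime_three⟩
  haveI : Nontrivial (Fin n) := Fin.nontrivial_iff_two_le.2 (by omega)
  set Pp := (S : Subgroup ↥(alternatingGroup (Fin n))).map (alternatingGroup (Fin n)).subtype with hPpdef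
  have hPp : IsPGroup 3 ↥Pp := S.2.map _
  have hcardPp : Nat.card ↥Pp = 3 ^ (Nat.card (Perm (Fin n))).factorization 3 := by
    rw [hPpdef, Subgroup.card_map_of_injective Subtype.val_injective, S.card_eq_multiplicity,
      ← two_mul_nat_card_alternatingGroup, Nat.factorization_mul (by norm_num) (Nat.pos_iff_ne_zero.1 Nat.card_pos)]
    simp [Nat.prime_two.factorization]
  let T : Sylow 3 (Perm (Fin n)) := Sylow.ofCard Pp hcardPp
  -- coverage
  set q := n / 3 with hq
  have hlt : ∀ (i : Fin q) (r : ℕ), r < 3 → 3 * (i : ℕ) + r < n := fun i r hr => by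
    have := i.2; omega
  let pt : Fin q × Fin 3 → Fin n := fun x => ⟨3 * (x.1 : ℕ) + x.2, hlt x.1 x.2 x.2.2⟩
  have hpt : Function.Injective pt := fun a b e => by
    have e' : 3 * (a.1 : ℕ) + a.2 = 3 * (b.1 : ℕ) + b.2 := congrArg Fin.val e
    have := a.2.2; have := b.2.2
    exact Prod.ext (Fin.ext (by omega)) (Fin.ext (by omega))
  let c : Fin q → Perm (Fin n) := fun i => cyc (pt (i, 0)) (pt (i, 1)) (pt (i, 2))
  have hc3 : ∀ i, (c i).IsThreeCycle := fun i =>
    AltAut.isThreeCycle_cyc (hpt.ne (by simp)) (hpt.ne (by simp)) (hpt.ne (by simp))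
  have hcm : ∀ i r, c i (pt (i, r)) ≠ pt (i, r) := fun i r => by
    rcases fin3 r with rfl | rfl | rfl
    · rw [show c i (pt (i, 0)) = pt (i, 1) from AltAut.cyc_fst (hpt.ne (by simp)) (hpt.ne (by simp))]
      exact hpt.ne (by simp)
    · rw [show c i (pt (i, 1)) = pt (i, 2) from AltAut.cyc_snd (hpt.ne (by simp)) (hpt.ne (by simp))]
      exact hpt.ne (by simp)
    · rw [show c i (pt (i, 2)) = pt (i, 0) from AltAut.cyc_thd]
      exact hpt.ne (by simp)
  have hcc : ∀ i j, Commute (c i) (c j) := by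
    intro i j
    by_cases hij : i = j
    · rw [hij]
    refine Equiv.Perm.Disjoint.commute fun x => ?_
    by_cases hx : ∃ r, x = pt (i, r)
    · obtain ⟨r, rfl⟩ := hx
      exact Or.inr (AltAut.cyc_other (hpt.ne (by simp [hij])) (hpt.ne (by simp [hij])) (hpt.ne (by simp [hij])))
    · push Not at hx
      exact Or.inl (AltAut.cyc_other (hx 0) (hx 1) (hx 2))
  set E := Subgroup.closure (Set.range c) with hE
  have hEp : IsPGroup 3 ↥E := by
    haveI : IsMulCommutative ↥E := Subgroup.isMulCommutative_closure (by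
      rintro _ ⟨i, rfl⟩ _ ⟨j, rfl⟩
      exact (hcc i j).eq)
    have h3 : ∀ x ∈ E, x ^ 3 = 1 := by
      intro x hx
      induction hx using Subgroup.closure_induction with
      | mem x hx => obtain ⟨i, rfl⟩ := hx; exact AltAut.cube_eq_one (hc3 i)
      | one => exact one_pow 3
      | mul x y hxE hyE hx hy =>
        rw [(show Commute x y from congrArg Subtype.val (mul_comm' (⟨x, hxE⟩ : ↥E) ⟨y, hyE⟩)).mul_pow, hx, hy,
          one_mul]
      | inv x _ hx => rw [inv_pow, hx, inv_one]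
    exact fun x => ⟨1, Subtype.ext (by simpa using h3 x x.2)⟩
  obtain ⟨T₁, hET⟩ := hEp.exists_le_sylow
  obtain ⟨g, hg⟩ := MulAction.exists_smul_eq (Perm (Fin n)) T₁ T
  have hmovimg : ∀ x : Fin q × Fin 3, Mov Pp (g (pt x)) := by
    intro x
    refine ⟨g * c x.1 * g⁻¹, ?_, ?_, ?_⟩
    · show g * c x.1 * g⁻¹ ∈ (T : Subgroup (Perm (Fin n)))
      rw [← hg, Sylow.coe_subgroup_smul]
      exact Subgroup.smul_mem_pointwise_smul _ (MulAut.conj g) _ (hET (Subgroup.subset_closure ⟨x.1, rfl⟩))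
    · have h := hc3 x.1
      unfold Equiv.Perm.IsThreeCycle at h ⊢
      rw [Equiv.Perm.cycleType_conj]; exact h
    · simpa using hcm x.1 x.2
  set R := (Finset.univ : Finset (Fin n)).filter (fun x => ¬ Mov Pp x) with hR
  have hR2 : R.card ≤ 2 := by
    have hd : Disjoint R ((Finset.univ : Finset (Fin q × Fin 3)).image fun x => g (pt x)) := by
      rw [Finset.disjoint_right]
      intro y hy
      obtain ⟨x, -, rfl⟩ := Finset.mem_image.1 hy
      simp [hR, hmovimg x]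
    have := Finset.card_le_univ (R ∪ (Finset.univ : Finset (Fin q × Fin 3)).image fun x => g (pt x))
    rw [Finset.card_union_of_disjoint hd, Finset.card_image_of_injective _ (fun a b e => hpt (g.injective e)),
      Finset.card_univ, Fintype.card_prod, Fintype.card_fin, Fintype.card_fin, Fintype.card_fin] at this
    omega
  set P := (S : Subgroup ↥(alternatingGroup (Fin n)))
  have hPPp : ∀ g ∈ P, (g : Perm (Fin n)) ∈ Pp := fun g hg => ⟨g, hg, rfl⟩
  have hfix : ∀ x, ¬ Mov Pp x → ∀ p ∈ P, (p : Perm (Fin n)) x = x := by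
    intro x hx p hp
    by_contra hne
    set σ := (p : Perm (Fin n))
    have hσ : σ ∈ Pp := hPPp p hp
    have hin : ∀ y, ¬ Mov Pp y → ¬ Mov Pp (σ y) := fun y hy hm => hy (by simpa using mov_map hPp (Pp.inv_mem hσ) hm)
    have h2 : σ (σ x) = x := by
      by_contra h2
      have h3 : ({x, σ x, σ (σ x)} : Finset (Fin n)).card = 3 := by
        rw [Finset.card_insert_of_notMem (by simp [Ne.symm hne, Ne.symm h2]),
          Finset.card_insert_of_notMem (by simpa using fun e => hne (σ.injective e).symm), Finset.card_singleton]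
      have := Finset.card_le_card (s := ({x, σ x, σ (σ x)} : Finset (Fin n))) (t := R) (by
        intro y hy
        simp only [Finset.mem_insert, Finset.mem_singleton] at hy
        rcases hy with rfl | rfl | rfl <;> simp [hR, hx, hin _ hx, hin _ (hin _ hx)])
      omega
    obtain ⟨k, hk⟩ := hPp ⟨σ, hσ⟩
    have hk' : σ ^ 3 ^ k = 1 := congrArg Subtype.val hk
    have hev : ∀ m : ℕ, (σ ^ (2 * m)) x = x := by
      intro m
      induction m with
      | zero => rfl
      | succ m ih => rw [show 2 * (m + 1) = 2 + 2 * m by ring, pow_add, Perm.mul_apply, ih, pow_two, Perm.mul_apply, h2]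
    obtain ⟨m, hm⟩ : Odd (3 ^ k) := (by decide : Odd 3).pow
    have := DFunLike.congr_fun hk' x
    rw [hm, pow_succ', Perm.mul_apply, hev, Perm.one_apply] at this
    exact hne this
  by_cases hthree : ∃ x y w, ¬ Rel P x y ∧ ¬ Rel P x w ∧ ¬ Rel P y w
  · obtain ⟨x, y, w, a, b, c⟩ := hthree
    exact two_of_three_orbits h5 a b c
  push Not at hthree
  have hfixRel : ∀ x, ¬ Mov Pp x → ∀ y, Rel P x y → y = x := by
    rintro x hx y ⟨p, hp, rfl⟩; exact hfix x hx p hp
  have horbclosed : ∀ x, ∀ y ∈ orb P x, tri Pp y ⊆ orb P x := by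
    intro x y hy z hz
    by_cases hm : Mov Pp y
    · obtain ⟨d, ⟨d', hd', rfl⟩, hd3, hdy⟩ := hm
      rw [tri_eq hPp ⟨d', hd', rfl⟩ hd3 hdy, Equiv.Perm.mem_support] at hz
      obtain ⟨e, -, -, -⟩ := AltAut.eq_cyc hd3 hdy
      rw [e] at hz
      by_cases z1 : z = y
      · exact z1 ▸ hy
      by_cases z2 : z = (d' : Perm (Fin n)) y
      · exact z2 ▸ (orb_inv hd' x y).2 hy
      by_cases z3 : z = (d' : Perm (Fin n)) ((d' : Perm (Fin n)) y)
      · exact z3 ▸ (orb_inv hd' x _).2 ((orb_inv hd' x y).2 hy)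
      exact absurd (AltAut.cyc_other z1 z2 z3) hz
    · rw [tri_fixed hPp hm, Finset.mem_singleton] at hz
      exact hz ▸ hy
  by_cases hfree : ∀ x, Mov Pp x
  swap
  · exfalso
    push Not at hfree
    obtain ⟨x, hx⟩ := hfree
    obtain ⟨y, hyx⟩ := exists_ne x
    have hxy : ¬ Rel P x y := fun h => hyx (hfixRel x hx y h)
    have hor : orb P y = Finset.univ.erase x := by
      ext z
      simp only [mem_orb, Finset.mem_erase, Finset.mem_univ, and_true]
      refine ⟨fun h e => hxy (e ▸ h).symm, fun hz => ?_⟩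
      exact hthree x y z hxy (fun h => hz (hfixRel x hx z h))
    obtain ⟨k, hk⟩ := orb_card S.2 y
    rw [hor, Finset.card_erase_of_mem (Finset.mem_univ x), Finset.card_univ, Fintype.card_fin] at hk
    rcases Nat.lt_or_ge k 2 with hk2 | hk2
    · interval_cases k <;> omega
    · exact hpow ⟨k, hk2, by omega⟩
  have htri3 : ∀ x, (tri Pp x).card = 3 := fun x => tri_card hPp (hfree x)
  by_cases htrans : ∀ x y, Rel P x y
  swap
  · -- two orbits
    push Not at htrans
    obtain ⟨x, y, hxy⟩ := htrans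
    have hcov : ∀ z, z ∈ orb P x ∨ z ∈ orb P y := fun z => by
      rw [mem_orb, mem_orb]; exact or_iff_not_imp_left.2 fun h => hthree x y z hxy h
    have hd : Disjoint (orb P x) (orb P y) := Finset.disjoint_left.2 fun z hz hz' =>
      hxy ((mem_orb.1 hz).trans (mem_orb.1 hz').symm)
    have hsum : (orb P x).card + (orb P y).card = n := by
      rw [← Finset.card_union_of_disjoint hd, show orb P x ∪ orb P y = Finset.univ from
        Finset.eq_univ_of_forall fun z => Finset.mem_union.2 (hcov z), Finset.card_univ, Fintype.card_fin]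
    have h3le : ∀ z, 3 ≤ (orb P z).card := fun z =>
      (htri3 z).ge.trans (Finset.card_le_card (horbclosed z z (mem_orb.2 (Rel.refl P z))))
    obtain ⟨a, b, hab, ha6⟩ : ∃ a b, ¬ Rel P a b ∧ 6 ≤ (orb P a).card := by
      obtain ⟨i, hi⟩ : ∃ k, (orb P x).card = 3 ^ k := orb_card S.2 x
      obtain ⟨j, hj⟩ : ∃ k, (orb P y).card = 3 ^ k := orb_card S.2 y
      have := h3le x; have := h3le y
      by_cases hi2 : 2 ≤ i
      · exact ⟨x, y, hxy, le_trans (by norm_num) ((Nat.pow_le_pow_right (by norm_num) hi2).trans hi.ge)⟩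
      by_cases hj2 : 2 ≤ j
      · exact ⟨y, x, fun h => hxy h.symm, le_trans (by norm_num) ((Nat.pow_le_pow_right (by norm_num) hj2).trans hj.ge)⟩
      exfalso
      interval_cases i <;> interval_cases j <;> simp only [pow_zero, pow_one] at hi hj <;> omega
    have haa : halves (orb P a) a = orb P a := halves_pos (mem_orb.2 (Rel.refl P a))
    refine two_of_triples (P := P) hPp hfree hPPp (halves_part (orb P a))
      (fun p hp => mem_Resp_halves fun z => orb_inv hp a z) (a₀ := a) (by rw [haa]; exact ha6)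
      (fun z hz => by rw [haa] at hz ⊢; exact horbclosed a z hz) (w := b) (by rw [haa, mem_orb]; exact hab)
  -- transitive
  let K : Subgroup ↥P :=
    { carrier := {p | ∀ x, ((p : ↥(alternatingGroup (Fin n))) : Perm (Fin n)) x ∈ tri Pp x}
      one_mem' := fun x => (tri_part hPp).self x
      mul_mem' := fun {p r} hp hr x => by
        have := hp (((r : ↥(alternatingGroup (Fin n))) : Perm (Fin n)) x)
        rw [(tri_part hPp).eq _ _ (hr x)] at this
        exact this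
      inv_mem' := fun {p} hp x => by
        have h := (show ∀ y, ((p : ↥(alternatingGroup (Fin n))) : Perm (Fin n)) y ∈ tri Pp y from hp)
          ((((p⁻¹ : ↥P) : ↥(alternatingGroup (Fin n))) : Perm (Fin n)) x)
        have e : ((p : ↥(alternatingGroup (Fin n))) : Perm (Fin n)) ((((p⁻¹ : ↥P) : ↥(alternatingGroup (Fin n))) : Perm (Fin n)) x) = x := by
          simp
        rw [e] at h
        rw [(tri_part hPp).eq _ _ h]
        exact (tri_part hPp).self _ }
  have hmap : ∀ (p : ↥P) x, tri Pp (((p : ↥(alternatingGroup (Fin n))) : Perm (Fin n)) x) =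
      (tri Pp x).image ((p : ↥(alternatingGroup (Fin n))) : Perm (Fin n)) := fun p => tri_map hPp (hPPp _ p.2)
  haveI : K.Normal := ⟨fun k hk p x => by
    set π := ((p : ↥(alternatingGroup (Fin n))) : Perm (Fin n))
    have h1 := hk (π⁻¹ x)
    have h2 : π (((k : ↥(alternatingGroup (Fin n))) : Perm (Fin n)) (π⁻¹ x)) ∈ tri Pp (π (π⁻¹ x)) := by
      rw [hmap p]; exact Finset.mem_image_of_mem _ h1
    rw [show π (π⁻¹ x) = x by simp] at h2
    exact h2⟩
  obtain ⟨x₀⟩ : Nonempty (Fin n) := inferInstance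
  have hKne : K ≠ ⊤ := by
    intro e
    have hsub : (Finset.univ : Finset (Fin n)) ⊆ tri Pp x₀ := fun z _ => by
      obtain ⟨p, hp, rfl⟩ := htrans x₀ z
      exact (e ▸ Subgroup.mem_top (⟨p, hp⟩ : ↥P) : (⟨p, hp⟩ : ↥P) ∈ K) x₀
    have := Finset.card_le_card hsub
    rw [Finset.card_univ, Fintype.card_fin, htri3] at this
    omega
  have hQ : IsPGroup 3 (↥P ⧸ K) := S.2.to_quotient K
  haveI : Group.IsNilpotent (↥P ⧸ K) := hQ.isNilpotent
  obtain ⟨j, hj⟩ := IsPGroup.iff_card.1 hQ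
  have hj0 : j ≠ 0 := fun h0 => hKne (Subgroup.index_eq_one.1 (by
    rw [Subgroup.index_eq_card, hj, h0, pow_zero]))
  obtain ⟨z', hz'c, hz'o⟩ := Cfsg.Agent.PermNilp.exists_central_order (p := 3) Nat.prime_three (hj ▸ dvd_pow_self 3 hj0)
  obtain ⟨z, rfl⟩ := QuotientGroup.mk_surjective z'
  have hz3 : z ^ 3 ∈ K := by
    rw [← QuotientGroup.eq_one_iff, QuotientGroup.mk_pow, ← hz'o, pow_orderOf_eq_one]
  have hzK : z ∉ K := fun h => by
    rw [(QuotientGroup.eq_one_iff z).2 h, orderOf_one] at hz'o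
    exact absurd hz'o (by decide)
  set ζ : Perm (Fin n) := ((z : ↥(alternatingGroup (Fin n))) : Perm (Fin n)) with hζ
  set τ := tri Pp with hτ
  have hτp := tri_part hPp
  have hζmap : ∀ x, τ (ζ x) = (τ x).image ζ := hmap z
  have hζ3 : ∀ x, τ (ζ (ζ (ζ x))) = τ x := fun x => hτp.eq x _ (by
    have h := hz3 x
    simpa [pow_succ, Perm.mul_apply] using h)
  have hcomm : ∀ (p : ↥P) x, τ (ζ (((p : ↥(alternatingGroup (Fin n))) : Perm (Fin n)) x)) =
      τ (((p : ↥(alternatingGroup (Fin n))) : Perm (Fin n)) (ζ x)) := by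
    intro p x
    have hk : (p * z)⁻¹ * (z * p) ∈ K := by
      rw [← QuotientGroup.eq, QuotientGroup.mk_mul, QuotientGroup.mk_mul]
      exact Subgroup.mem_center_iff.1 hz'c (p : ↥P ⧸ K)
    have h := hk x
    have h2 : (((p * z : ↥P) : ↥(alternatingGroup (Fin n))) : Perm (Fin n))
        (((((p * z)⁻¹ * (z * p) : ↥P) : ↥(alternatingGroup (Fin n))) : Perm (Fin n)) x) ∈
        (τ x).image (((p * z : ↥P) : ↥(alternatingGroup (Fin n))) : Perm (Fin n)) :=
      Finset.mem_image_of_mem _ h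
    rw [← hmap] at h2
    refine hτp.eq (((p : ↥(alternatingGroup (Fin n))) : Perm (Fin n)) (ζ x)) _ ?_
    simp only [Subgroup.coe_mul, Subgroup.coe_inv, Perm.mul_apply] at h2
    simpa [hζ, hτ] using h2
  have hfree' : ∀ x, τ (ζ x) ≠ τ x := by
    intro x e
    refine hzK fun y => ?_
    obtain ⟨p, hp, rfl⟩ := htrans x y
    show ζ ((p : Perm (Fin n)) x) ∈ τ ((p : Perm (Fin n)) x)
    rw [← show τ (ζ ((p : Perm (Fin n)) x)) = τ ((p : Perm (Fin n)) x) by
      have h1 := hcomm ⟨p, hp⟩ x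
      rw [hmap ⟨p, hp⟩ (ζ x), e, ← hmap ⟨p, hp⟩ x] at h1
      exact h1]
    exact hτp.self _
  set f : Fin n → Finset (Fin n) := fun x => τ x ∪ τ (ζ x) ∪ τ (ζ (ζ x)) with hf
  have hτcongr : ∀ x y, τ y = τ x → τ (ζ y) = τ (ζ x) := fun x y e => by rw [hζmap, hζmap, e]
  have hfpart : IsPart f := by
    refine ⟨fun x => ?_, fun x y hy => ?_⟩
    · exact Finset.mem_union_left _ (Finset.mem_union_left _ (hτp.self x))
    · simp only [hf, Finset.mem_union] at hy ⊢
      rcases hy with (h | h) | h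
      · have e : τ y = τ _ := hτp.eq _ _ h
        rw [e, hτcongr _ _ e, hτcongr _ _ (hτcongr _ _ e)]
      · have e : τ y = τ _ := hτp.eq _ _ h
        rw [e, hτcongr _ _ e, hτcongr _ _ (hτcongr _ _ e), hζ3]
        ext w; simp only [Finset.mem_union]; tauto
      · have e : τ y = τ _ := hτp.eq _ _ h
        rw [e, hτcongr _ _ e, hτcongr _ _ (hτcongr _ _ e), hζ3, hτcongr _ _ (hζ3 x)]
        ext w; simp only [Finset.mem_union]; tauto
  have hfP : ∀ p ∈ P, (p : Perm (Fin n)) ∈ Resp f := by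
    intro p hp x
    have c1 := hcomm ⟨p, hp⟩
    simp only at c1
    simp only [hf, Finset.image_union]
    rw [hτcongr _ _ (c1 x), c1 (ζ x), c1 x, hmap ⟨p, hp⟩ x, hmap ⟨p, hp⟩ (ζ x), hmap ⟨p, hp⟩ (ζ (ζ x))]
  have hdisj : ∀ x y, τ x ≠ τ y → Disjoint (τ x) (τ y) := fun x y hne => Finset.disjoint_left.2 fun w hw hw' =>
    hne ((hτp.eq _ _ hw).symm.trans (hτp.eq _ _ hw'))
  have hfcard : (f x₀).card = 9 := by
    have n1 : τ x₀ ≠ τ (ζ x₀) := fun e => hfree' x₀ e.symm
    have n2 : τ (ζ x₀) ≠ τ (ζ (ζ x₀)) := fun e => hfree' (ζ x₀) e.symm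
    have n3 : τ x₀ ≠ τ (ζ (ζ x₀)) := fun e => hfree' (ζ (ζ x₀)) (by rw [hζ3, e])
    simp only [hf]
    rw [Finset.card_union_of_disjoint (Finset.disjoint_union_left.2 ⟨hdisj _ _ n3, hdisj _ _ n2⟩),
      Finset.card_union_of_disjoint (hdisj _ _ n1), hτ, htri3, htri3, htri3]
  obtain ⟨w, -, hw⟩ := Finset.exists_mem_notMem_of_card_lt_card (s := f x₀) (t := Finset.univ) (by
    have hle := Finset.card_le_univ (f x₀)
    rw [Fintype.card_fin, hfcard] at hle
    rw [Finset.card_univ, Fintype.card_fin, hfcard]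
    omega)
  refine two_of_triples (P := P) hPp hfree hPPp hfpart hfP (a₀ := x₀) (by rw [hfcard]; norm_num) (fun y hy z hz => ?_) hw
  rw [← hfpart.eq _ _ hy]
  exact Finset.mem_union_left _ (Finset.mem_union_left _ hz)

/-- Automorphisms of 3-power order are inner. -/
theorem inner_of_threePower (h5 : 5 ≤ n) (θ : MulAut ↥(alternatingGroup (Fin n))) {k : ℕ} (hk : θ ^ 3 ^ k = 1) :
    ∃ σ : ↥(alternatingGroup (Fin n)), MulAut.conj σ = θ := by
  classical
  obtain ⟨m, hm⟩ : Odd (3 ^ k) := (by decide : Odd 3).pow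
  have hθ : θ = (θ * θ) ^ (m + 1) := by
    rw [← pow_two, ← pow_mul, show 2 * (m + 1) = 1 + 3 ^ k by omega, pow_add, hk, mul_one, pow_one]
  have hex : ∃ σ : Perm (Fin n), MulAut.conjNormal σ = θ := by
    by_cases h6 : n = 6
    · subst h6
      refine AltAut.exists_perm_of_threeCycle (by simp) θ ?_
      suffices h2 : ∀ x : ↥(alternatingGroup (Fin 6)), (x : Perm (Fin 6)).IsThreeCycle →
          ((θ * θ) x : Perm (Fin 6)).IsThreeCycle by
        intro x hx
        rw [hθ]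
        generalize m + 1 = r
        induction r with
        | zero => exact hx
        | succ r ih => rw [pow_succ', MulAut.mul_apply]; exact h2 _ ih
      intro x hx
      have hcls : ∀ y : ↥(alternatingGroup (Fin 6)), (y : Perm (Fin 6)).IsThreeCycle →
          ((θ x : Perm (Fin 6)).IsThreeCycle ↔ (θ y : Perm (Fin 6)).IsThreeCycle) := by
        intro y hy
        obtain ⟨w, hw⟩ := isConj_iff.1 (alternatingGroup.isThreeCycle_isConj (by simp) hx hy)
        rw [← hw]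
        unfold Equiv.Perm.IsThreeCycle
        simp only [map_mul, map_inv, Subgroup.coe_mul, Subgroup.coe_inv, Equiv.Perm.cycleType_conj]
      by_cases hθx : (θ x : Perm (Fin 6)).IsThreeCycle
      · exact (hcls _ hθx).1 hθx
      by_contra hθθ
      change ¬ (θ (θ x) : Perm (Fin 6)).IsThreeCycle at hθθ
      have htype : ∀ y : ↥(alternatingGroup (Fin 6)), orderOf y = 3 → ¬ (y : Perm (Fin 6)).IsThreeCycle →
          ∃ w : ↥(alternatingGroup (Fin 6)), ((w * y * w⁻¹ : ↥(alternatingGroup (Fin 6))) : Perm (Fin 6)) =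
            cyc 0 1 2 * cyc 3 4 5 := by
        intro y hy hny
        haveI : Fact (Nat.Prime 3) := ⟨Nat.prime_three⟩
        obtain ⟨j, hj⟩ := Equiv.Perm.cycleType_prime_order (σ := (y : Perm (Fin 6)))
          (by rw [Subgroup.orderOf_coe, hy]; exact Nat.prime_three)
        rw [Subgroup.orderOf_coe, hy] at hj
        have hle := Finset.card_le_univ (y : Perm (Fin 6)).support
        rw [← Equiv.Perm.sum_cycleType, hj, Multiset.sum_replicate, smul_eq_mul, Fintype.card_fin] at hle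
        have hj1 : j = 1 := by
          rcases Nat.eq_zero_or_pos j with rfl | hjp
          · exact absurd hj hny
          · omega
        subst hj1
        have hstd : (cyc (0 : Fin 6) 1 2 * cyc 3 4 5).cycleType = Multiset.replicate 2 3 := by
          have hd : (cyc (0 : Fin 6) 1 2).Disjoint (cyc 3 4 5) := fun i => by
            revert i; decide
          rw [hd.cycleType_mul, AltAut.isThreeCycle_cyc (a := (0 : Fin 6)) (b := 1) (c := 2) (by decide) (by decide) (by decide),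
            AltAut.isThreeCycle_cyc (a := (3 : Fin 6)) (b := 4) (c := 5) (by decide) (by decide) (by decide)]
          rfl
        obtain ⟨σ, hσ⟩ := isConj_iff.1 (Equiv.Perm.isConj_iff_cycleType_eq.2 (hj.trans hstd.symm))
        set r : Perm (Fin 6) := swap 0 3 * swap 1 4 * swap 2 5 with hr
        have hrfix : r * (cyc 0 1 2 * cyc 3 4 5) * r⁻¹ = cyc (0 : Fin 6) 1 2 * cyc 3 4 5 := by
          rw [hr]; decide
        rcases Int.units_eq_one_or (sign σ) with e | e
        · exact ⟨⟨σ, mem_alternatingGroup.2 e⟩, hσ⟩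
        · refine ⟨⟨r * σ, mem_alternatingGroup.2 (by rw [map_mul, e, hr]; decide)⟩, ?_⟩
          show r * σ * (y : Perm (Fin 6)) * (r * σ)⁻¹ = _
          rw [show r * σ * (y : Perm (Fin 6)) * (r * σ)⁻¹ = r * (σ * (y : Perm (Fin 6)) * σ⁻¹) * r⁻¹ by group, hσ, hrfix]
      have ho : orderOf x = 3 := by rw [← Subgroup.orderOf_coe]; exact hx.orderOf
      obtain ⟨w₁, e₁⟩ := htype (θ x) ((MulEquiv.orderOf_eq θ x).trans ho) hθx
      obtain ⟨w₂, e₂⟩ := htype (θ (θ x)) (((MulEquiv.orderOf_eq θ _).trans (MulEquiv.orderOf_eq θ x)).trans ho) hθθ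
      have e : w₁ * θ x * w₁⁻¹ = w₂ * θ (θ x) * w₂⁻¹ := Subtype.ext (e₁.trans e₂.symm)
      set u := θ.symm (w₁⁻¹ * w₂) with hu
      have hconj : u * θ x * u⁻¹ = x := θ.injective (by
        rw [map_mul, map_mul, map_inv, hu, MulEquiv.apply_symm_apply]
        calc w₁⁻¹ * w₂ * θ (θ x) * (w₁⁻¹ * w₂)⁻¹ = w₁⁻¹ * (w₂ * θ (θ x) * w₂⁻¹) * w₁ := by group
          _ = θ x := by rw [← e]; group)
      refine hθx ?_
      have hx' := hx
      rw [← hconj] at hx'
      unfold Equiv.Perm.IsThreeCycle at hx' ⊢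
      simpa only [Subgroup.coe_mul, Subgroup.coe_inv, Equiv.Perm.cycleType_conj] using hx'
    · exact AltAut.exists_perm (by simp; omega) (by simpa using h6) θ
  obtain ⟨σ, rfl⟩ := hex
  have h1 : σ ^ 3 ^ k = 1 := AltAut.conjNormal_injective (α := Fin n) (by simp; omega) (by rw [map_pow, hk, map_one])
  have hs : sign σ = 1 := by
    rcases Int.units_eq_one_or (sign σ) with e | e
    · exact e
    · have := congrArg sign h1
      rw [map_pow, map_one, e, hm, pow_succ, pow_mul, Int.units_sq, one_pow, one_mul] at this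
      exact absurd this (by decide)
  exact ⟨⟨σ, mem_alternatingGroup.2 hs⟩, MulEquiv.ext fun a => Subtype.ext rfl⟩

universe u

theorem conclusion {X : Type u} [Group X] [Finite X] (hX : Cfsg.IsPMinimal 3 X) (h5 : 5 ≤ n)
    (hF : Nonempty (↥(Cfsg.generalizedFittingSubgroup X) ≃* ↥(alternatingGroup (Fin n)))) :
    Cfsg.generalizedFittingSubgroup X = ⊤ ∧ (n = 6 ∨ n = 9 ∨ ∃ a : ℕ, 2 ≤ a ∧ n = 3 ^ a + 1) := by
  classical
  haveI : Fact (Nat.Prime 3) := ⟨Nat.prime_three⟩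
  set A := Cfsg.generalizedFittingSubgroup X with hA
  haveI : A.Normal := by
    have := Grp.fittingSubgroup_isNormal (G := X)
    rw [hA, Cfsg.generalizedFittingSubgroup]; infer_instance
  obtain ⟨e⟩ := hF
  obtain ⟨S⟩ : Nonempty (Sylow 3 X) := inferInstance
  have hSA : (S : Subgroup X) ≤ A := by
    intro s hs
    set θ : MulAut ↥(alternatingGroup (Fin n)) := MulAut.congr e (MulAut.conjNormal s) with hθ
    obtain ⟨k, hk⟩ := S.2 ⟨s, hs⟩
    have hsk : s ^ 3 ^ k = 1 := congrArg Subtype.val hk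
    obtain ⟨σ, hσ⟩ := inner_of_threePower h5 θ (k := k) (by rw [hθ, ← map_pow, ← map_pow, hsk, map_one, map_one])
    set a := e.symm σ with ha
    have hc : ((a : X))⁻¹ * s ∈ Subgroup.centralizer (A : Set X) := by
      rw [Subgroup.mem_centralizer_iff]
      intro x hx
      have h1 : θ (e ⟨x, hx⟩) = e (a * ⟨x, hx⟩ * a⁻¹) := by
        rw [← hσ, MulAut.conj_apply, map_mul, map_mul, map_inv, ha, MulEquiv.apply_symm_apply]
      have h2 : θ (e ⟨x, hx⟩) = e (MulAut.conjNormal s ⟨x, hx⟩) := by simp [hθ, MulAut.congr]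
      have h3 := congrArg Subtype.val (e.injective (h2.symm.trans h1))
      rw [MulAut.conjNormal_apply, Subgroup.coe_mul, Subgroup.coe_mul, Subgroup.coe_inv] at h3
      calc x * ((a : X)⁻¹ * s) = (a : X)⁻¹ * ((a : X) * x * (a : X)⁻¹) * s := by group
        _ = (a : X)⁻¹ * (s * x * s⁻¹) * s := by rw [← h3]
        _ = (a : X)⁻¹ * s * x := by group
    have := A.mul_mem a.2 (Grp.centralizer_gfitting_le hc)
    rwa [mul_inv_cancel_left] at this
  have htop : A = ⊤ := by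
    by_contra hne
    obtain ⟨hnn, M, -, huniq⟩ := hX S
    obtain ⟨M₁, hM₁, hAM⟩ := (eq_top_or_exists_le_coatom A).resolve_left hne
    have hNne : Subgroup.normalizer ((S : Subgroup X) : Set X) ≠ ⊤ := fun h => hnn (Subgroup.normalizer_eq_top_iff.1 h)
    obtain ⟨M₂, hM₂, hNM⟩ := (eq_top_or_exists_le_coatom (Subgroup.normalizer ((S : Subgroup X) : Set X))).resolve_left hNne
    have e₁ := huniq M₁ ⟨hM₁, hSA.trans hAM⟩
    have e₂ := huniq M₂ ⟨hM₂, Subgroup.le_normalizer.trans hNM⟩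
    have hfr : Subgroup.normalizer ((S : Subgroup X) : Set X) ⊔ A = ⊤ := by
      have h := Sylow.normalizer_sup_eq_top (S.subtype hSA)
      rwa [Sylow.coe_subtype, Subgroup.map_subgroupOf_eq_of_le hSA] at h
    exact hM₁.1 (top_le_iff.1 (hfr ▸ sup_le (e₂.trans e₁.symm ▸ hNM) hAM))
  refine ⟨htop, ?_⟩
  by_contra hcon
  push Not at hcon
  let ψ : X ≃* ↥(alternatingGroup (Fin n)) :=
    (Subgroup.topEquiv.symm.trans (MulEquiv.subgroupCongr htop.symm)).trans e
  have hψ : Function.Surjective ψ.toMonoidHom := ψ.surjective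
  set S' : Sylow 3 ↥(alternatingGroup (Fin n)) := S.mapSurjective (f := ψ.toMonoidHom) hψ with hS'
  obtain ⟨W₁, W₂, h1, h2, hP1, hP2, hj⟩ := two_of_sylow h5 hcon.1 hcon.2.1 (fun ⟨a, ha, hn⟩ => hcon.2.2 a ha hn) S'
  obtain ⟨-, M, -, huniq⟩ := hX S
  have pull : ∀ W : Subgroup ↥(alternatingGroup (Fin n)), W ≠ ⊤ → (S' : Subgroup ↥(alternatingGroup (Fin n))) ≤ W →
      W.comap ψ.toMonoidHom ≤ M := by
    intro W hW hSW
    have hne : W.comap ψ.toMonoidHom ≠ ⊤ := fun e' => hW (by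
      rw [← Subgroup.map_comap_eq_self_of_surjective hψ W, e', Subgroup.map_top_of_surjective _ hψ])
    obtain ⟨M', hM', hle⟩ := (eq_top_or_exists_le_coatom _).resolve_left hne
    have hS : (S : Subgroup X) ≤ W.comap ψ.toMonoidHom := fun s hs => hSW (by
      rw [hS', Sylow.coe_mapSurjective]; exact ⟨s, hs, rfl⟩)
    exact hle.trans (huniq M' ⟨hM', hS.trans hle⟩).le
  have key : M.map ψ.toMonoidHom = ⊤ := hj _
    ((Subgroup.map_comap_eq_self_of_surjective hψ W₁).ge.trans (Subgroup.map_mono (pull W₁ h1 hP1)))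
    ((Subgroup.map_comap_eq_self_of_surjective hψ W₂).ge.trans (Subgroup.map_mono (pull W₂ h2 hP2)))
  obtain ⟨hM, -⟩ := (hX S).2.choose_spec.1
  have hMM : (hX S).2.choose = M := huniq _ (hX S).2.choose_spec.1
  rw [hMM] at hM
  refine hM.1 (top_le_iff.1 fun x _ => ?_)
  have hm : ψ x ∈ M.map ψ.toMonoidHom := key ▸ Subgroup.mem_top _
  obtain ⟨y, hy, hye⟩ := hm
  exact ψ.injective hye ▸ hy

end Cfsg.Agent.Invol.ThreeMin
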