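import Mathlib
import Cfsg.Agent.Lib.Invol.TransferTheorems

/-!
# Transport of control of transfer along isomorphisms
-/

set_option autoImplicit false

namespace Cfsg.Agent.Invol

universe u

variable {p : ℕ} [Fact p.Prime] {𝓦 : Set (∀ (Q : Type u) [Group Q], Subgroup Q)}
  (h𝓦 : ∀ W ∈ 𝓦, Cfsg.IsCharPFunctor.{u} p W)

include h𝓦 in
theorem transferCtrl_of_mulEquiv {Q X : Type u} [Group Q] [Group X] [Finite Q] [Finite X]
    (e : Q ≃* X) (h : TransferCtrl p 𝓦 Q) : TransferCtrl p 𝓦 X := by
  intro S
  set T := S.mapSurjective (f := e.symm.toMonoidHom) e.symm.surjective with hT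
  have hTS : (T : Subgroup _).map e.toMonoidHom = (S : Subgroup X) := by
    change ((S : Subgroup X).map e.symm.toMonoidHom).map e.toMonoidHom = _
    rw [Subgroup.map_map]
    convert Subgroup.map_id (S : Subgroup X)
    ext x; simp
  rw [← hTS]
  refine le_trans ?_ (foc_ind_map_le (p := p) (𝓦 := 𝓦) h𝓦
    e.toMonoidHom T.isPGroup' (fun x _ hx => e.injective (hx.trans (map_one _).symm)))
  rw [← Subgroup.map_top_of_surjective e.toMonoidHom e.surjective, ← Subgroup.map_commutator,
    ← Subgroup.map_inf _ _ _ e.injective]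
  exact Subgroup.map_mono (h T)

include h𝓦 in
/-- Hypotheses about the quotients `K/R` give hypotheses about all sections. -/
theorem transferCtrl_of_sections {G : Type u} [Group G] [Finite G]
    (h : ∀ (K R : Subgroup G) [(R.subgroupOf K).Normal], TransferCtrl p 𝓦 (↥K ⧸ R.subgroupOf K))
    (X : Type u) [Group X] [Finite X] (hX : IsSectionOf X G) : TransferCtrl p 𝓦 X := by
  obtain ⟨K, R, hR, ⟨e⟩⟩ := hX.exists_quotient
  exact transferCtrl_of_mulEquiv h𝓦 e (h K R)

end Cfsg.Agent.Invol
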