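import Mathlib
import Cfsg.Prelude.Def_CaseTheorems

/-!
Recognizing wreathed and quasi-dihedral Sylow `2`-subgroups from elements of the group.
-/

set_option autoImplicit false

namespace Cfsg.Agent.Invol.TwoSylowShape

variable {G : Type*} [Group G] [Finite G]

/-- Elements generating a `2`-subgroup appear, up to isomorphism, in every Sylow `2`-subgroup. -/
theorem exists_embed (P : Sylow 2 G) {A : Subgroup G} (hA : IsPGroup 2 A) :
    ∃ f : ↥A →* ↥(P : Subgroup G), Function.Injective f := by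
  haveI : Fact (Nat.Prime 2) := ⟨Nat.prime_two⟩
  obtain ⟨Q, hQ⟩ := hA.exists_le_sylow
  exact ⟨(Sylow.equiv Q P).toMonoidHom.comp (Subgroup.inclusion hQ),
    (Sylow.equiv Q P).injective.comp (Subgroup.inclusion_injective hQ)⟩

theorem sylow_card (P : Sylow 2 G) {k : ℕ} (h1 : 2 ^ k ∣ Nat.card G) (h2 : ¬ 2 ^ (k + 1) ∣ Nat.card G) :
    Nat.card P = 2 ^ k := by
  haveI : Fact (Nat.Prime 2) := ⟨Nat.prime_two⟩
  obtain ⟨j, hj⟩ := P.isPGroup'.exists_card_eq
  have h3 : 2 ^ j ∣ Nat.card G := hj ▸ (P : Subgroup G).card_subgroup_dvd_card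
  have h4 := P.pow_dvd_card_of_pow_dvd_card h1
  rw [hj, Nat.pow_dvd_pow_iff_le_right (by norm_num)] at h4
  rcases Nat.lt_or_ge k j with h | h
  · exact absurd ((pow_dvd_pow 2 h).trans h3) h2
  · rw [hj, le_antisymm h h4]

theorem isPGroup_zpowers {a : G} {n : ℕ} (ha : orderOf a = 2 ^ n) : IsPGroup 2 (Subgroup.zpowers a) :=
  IsPGroup.of_card (n := n) (by rw [Nat.card_zpowers, ha])

/-- Wreathed Sylow subgroups. -/
theorem isWreathed (P : Sylow 2 G) {n : ℕ} (hn : 2 ≤ n) (hG1 : 2 ^ (2 * n + 1) ∣ Nat.card G)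
    (hG2 : ¬ 2 ^ (2 * n + 1 + 1) ∣ Nat.card G) {x y z : G} (hx : orderOf x = 2 ^ n)
    (hxy : x * y = y * x) (hinf : Subgroup.zpowers x ⊓ Subgroup.zpowers y = ⊥) (hz : orderOf z = 2)
    (hzx : z * x * z⁻¹ = y) : Cfsg.IsWreathed ↥(P : Subgroup G) := by
  have hzz : z * z = 1 := by rw [← pow_two, ← hz, pow_orderOf_eq_one]
  have hzi : z⁻¹ = z := inv_eq_of_mul_eq_one_right hzz
  have hy : orderOf y = 2 ^ n := by
    rw [← hx, ← hzx]; exact orderOf_injective (MulAut.conj z).toMonoidHom (MulAut.conj z).injective x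
  have hzy : z * y * z⁻¹ = x := by
    rw [← hzx, hzi]
    calc z * (z * x * z) * z = (z * z) * x * (z * z) := by group
      _ = x := by rw [hzz, one_mul, mul_one]
  obtain ⟨A, hA⟩ : ∃ A, A = Subgroup.zpowers x ⊔ Subgroup.zpowers y := ⟨_, rfl⟩
  have hxn : Subgroup.zpowers y ≤ Subgroup.normalizer (Subgroup.zpowers x : Set G) := by
    refine Subgroup.zpowers_le.mpr ?_
    rw [Subgroup.zpowers_eq_closure]
    refine Subgroup.centralizer_le_normalizer _ ?_
    rw [← Subgroup.zpowers_eq_closure]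
    refine Subgroup.mem_centralizer_iff.mpr fun a ha => ?_
    obtain ⟨i, rfl⟩ := Subgroup.mem_zpowers_iff.mp ha
    exact ((show Commute x y from hxy).zpow_left i).eq
  have hAp : IsPGroup 2 A := by
    rw [hA, sup_comm]
    exact IsPGroup.to_sup_of_normal_right' (isPGroup_zpowers hy) (isPGroup_zpowers hx) hxn
  have hzn : Subgroup.zpowers z ≤ Subgroup.normalizer (A : Set G) := by
    refine Subgroup.zpowers_le.mpr ?_
    haveI : Fintype G := Fintype.ofFinite G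
    refine Subgroup.mem_normalizer_fintype fun a ha => ?_
    have hle : A.map (MulAut.conj z).toMonoidHom ≤ A := by
      rw [hA, Subgroup.map_sup, MonoidHom.map_zpowers, MonoidHom.map_zpowers]
      simp only [MulEquiv.coe_toMonoidHom, MulAut.conj_apply, hzx, hzy]
      rw [sup_comm]
    exact hle ⟨a, ha, rfl⟩
  obtain ⟨B, hB⟩ : ∃ B, B = Subgroup.zpowers z ⊔ A := ⟨_, rfl⟩
  have hBp : IsPGroup 2 B :=
    hB ▸ IsPGroup.to_sup_of_normal_right' (isPGroup_zpowers (n := 1) (by rw [hz]; norm_num)) hAp hzn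
  obtain ⟨f, hf⟩ := exists_embed P hBp
  have hxB : x ∈ B := hB ▸ Subgroup.mem_sup_right (hA ▸ Subgroup.mem_sup_left (Subgroup.mem_zpowers x))
  have hyB : y ∈ B := hB ▸ Subgroup.mem_sup_right (hA ▸ Subgroup.mem_sup_right (Subgroup.mem_zpowers y))
  have hzB : z ∈ B := hB ▸ Subgroup.mem_sup_left (Subgroup.mem_zpowers z)
  refine ⟨n, hn, sylow_card P hG1 hG2, f ⟨x, hxB⟩, f ⟨y, hyB⟩, f ⟨z, hzB⟩, ?_, ?_, ?_, ?_, ?_⟩
  · rw [orderOf_injective f hf, Subgroup.orderOf_mk, hx]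
  · rw [← map_mul, ← map_mul]; exact congrArg f (Subtype.ext hxy)
  · rw [eq_bot_iff]
    rintro a ⟨ha, hb⟩
    obtain ⟨i, rfl⟩ := Subgroup.mem_zpowers_iff.mp ha
    obtain ⟨j, hj⟩ := Subgroup.mem_zpowers_iff.mp hb
    rw [← map_zpow, ← map_zpow] at hj
    have h' := congrArg Subtype.val (hf hj)
    simp only [SubgroupClass.coe_zpow] at h'
    have : x ^ i = 1 := (Subgroup.mem_bot).mp (hinf.le ⟨⟨i, rfl⟩, ⟨j, h'⟩⟩)
    rw [Subgroup.mem_bot, ← map_zpow, show (⟨x, hxB⟩ : B) ^ i = 1 from Subtype.ext (by simpa using this), map_one]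
  · rw [orderOf_injective f hf, Subgroup.orderOf_mk, hz]
  · rw [← map_inv, ← map_mul, ← map_mul]; exact congrArg f (Subtype.ext hzx)

/-- Quasi-dihedral Sylow subgroups. -/
theorem isQuasiDihedral (P : Sylow 2 G) {n : ℕ} (hn : 3 ≤ n) (hG1 : 2 ^ (n + 1) ∣ Nat.card G)
    (hG2 : ¬ 2 ^ (n + 1 + 1) ∣ Nat.card G) {x y : G} (hx : orderOf x = 2 ^ n) (hy : orderOf y = 2)
    (hyx : y * x * y⁻¹ = x ^ (2 ^ (n - 1) - 1)) : Cfsg.IsQuasiDihedral ↥(P : Subgroup G) := by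
  have hn' : Subgroup.zpowers y ≤ Subgroup.normalizer (Subgroup.zpowers x : Set G) := by
    refine Subgroup.zpowers_le.mpr ?_
    haveI : Fintype G := Fintype.ofFinite G
    refine Subgroup.mem_normalizer_fintype fun a ha => ?_
    obtain ⟨i, rfl⟩ := Subgroup.mem_zpowers_iff.mp ha
    rw [SetLike.mem_coe, ← conj_zpow, hyx]
    exact Subgroup.zpow_mem _ (Subgroup.npow_mem_zpowers _ _) i
  obtain ⟨B, hB⟩ : ∃ B, B = Subgroup.zpowers y ⊔ Subgroup.zpowers x := ⟨_, rfl⟩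
  have hBp : IsPGroup 2 B :=
    hB ▸ IsPGroup.to_sup_of_normal_right' (isPGroup_zpowers (n := 1) (by rw [hy]; norm_num)) (isPGroup_zpowers hx) hn'
  obtain ⟨f, hf⟩ := exists_embed P hBp
  have hxB : x ∈ B := hB ▸ Subgroup.mem_sup_right (Subgroup.mem_zpowers x)
  have hyB : y ∈ B := hB ▸ Subgroup.mem_sup_left (Subgroup.mem_zpowers y)
  refine ⟨n, hn, sylow_card P hG1 hG2, f ⟨x, hxB⟩, f ⟨y, hyB⟩, ?_, ?_, ?_⟩
  · rw [orderOf_injective f hf, Subgroup.orderOf_mk, hx]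
  · rw [orderOf_injective f hf, Subgroup.orderOf_mk, hy]
  · rw [← map_inv, ← map_mul, ← map_mul, ← map_pow]; exact congrArg f (Subtype.ext (by simpa using hyx))

/-- The exact power of `2`. -/
theorem two_part {N a b : ℕ} (h : N = 2 ^ a * b) (hb : ¬ 2 ∣ b) : 2 ^ a ∣ N ∧ ¬ 2 ^ (a + 1) ∣ N := by
  refine ⟨Dvd.intro _ h.symm, fun hd => hb ?_⟩
  rw [h, pow_succ] at hd
  exact Nat.dvd_of_mul_dvd_mul_left (by positivity) hd

end Cfsg.Agent.Invol.TwoSylowShape
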