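import Cfsg.Agent.Lib.Recog.PSU33Action
import Cfsg.Agent.Lib.Invol.SimpleOrder168

/-! A simple subgroup of order `168` of `SU(3, 3)`. -/

set_option autoImplicit false
set_option maxRecDepth 8000

namespace Cfsg.Agent.Invol.U33Seven

open Cfsg.Agent.PSU33 Cfsg.Agent.SpectrumPSU3Three

/-- The elements, coded in base nine. -/
def nums : List ℕ :=
  [129159849, 1102329, 27915222, 377996117, 226356731, 26850504, 138278655, 205750159, 168574369,
    307669387, 149429537, 140995071, 347186379, 143042103, 168351825, 176075517, 221593441, 278891493,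
    174940467, 205828889, 297908169, 141297809, 175010511, 26832684, 149104785, 307202439, 148970263,
    9568206, 196243351, 272445721, 143279233, 297703759, 4842021, 36418632, 220580799, 221138481,
    272537519, 129144564, 270076149, 1121958, 270411809, 220806125, 278051381, 220603773, 1181034,
    307135795, 129142404, 306697245, 272200329, 297169969, 138522587, 311988297, 37478976, 221108973,
    9684039, 149503729, 28151448, 176062479, 225894885, 136396769, 368371211, 143423681, 4787424,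
    168622649, 377997629, 347199585, 225918507, 225827513, 27893676, 225389685, 149633211, 348190293,
    347125161, 311454291, 258300015, 9624993, 138614389, 267477831, 377956753, 267636425, 168886119,
    348260217, 176014263, 265655005, 570969, 4785318, 265273335, 140914683, 312472043, 168236583,
    297773585, 307231899, 27086676, 649566, 174997311, 311938451, 307450727, 136192257, 278776371,
    148900121, 141153577, 205751725, 258284754, 174953667, 368449945, 168765171, 368451295, 168045277,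
    136488679, 149219871, 267397839, 312214009, 267780877, 311684719, 377958265, 37461804, 149754327,
    37698024, 278628745, 312011979, 298023447, 225608773, 136151559, 225360825, 265350807, 28129902,
    1082727, 297494823, 196205387, 270319903, 205830455, 36654798, 272241279, 265510769, 168088859,
    297244493, 270113931, 368372561, 129179535, 278241951, 36632604, 306674211, 27068856, 196244755,
    221064223, 311483103, 278584847, 278099329, 306921437, 37715196, 258319695, 196203983, 138316689,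
    551205, 297373911, 590544, 226142437, 348203337, 176001225, 143119179, 36396438, 278363031,
    258282540, 348247173, 347138367, 221339789, 4901073, 9570474]

/-- Parent in the spanning tree. -/
def par : List ℕ :=
  [0, 0, 0, 1, 2, 2, 3, 3, 4, 5, 6, 7, 8, 8, 9, 10, 10, 11, 12, 13, 14, 14, 15, 16, 17, 17, 18, 18, 19,
    20, 21, 22, 22, 23, 24, 25, 26, 27, 28, 28, 29, 29, 30, 31, 32, 33, 33, 34, 34, 35, 36, 36, 37, 38,
    39, 40, 41, 42, 42, 43, 44, 45, 46, 47, 48, 49, 51, 52, 52, 53, 53, 54, 55, 55, 56, 57, 59, 60, 60,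
    61, 61, 62, 63, 63, 64, 65, 66, 67, 68, 69, 71, 73, 74, 75, 75, 76, 77, 78, 79, 81, 83, 84, 85, 85,
    86, 86, 87, 87, 88, 89, 89, 90, 91, 92, 93, 95, 95, 96, 96, 97, 98, 98, 99, 100, 101, 102, 104, 105,
    106, 108, 110, 111, 111, 112, 112, 113, 114, 114, 115, 116, 117, 119, 121, 122, 122, 123, 123, 124,
    125, 125, 126, 126, 128, 128, 129, 130, 133, 134, 135, 137, 138, 141, 142, 146, 147, 149, 155, 162]

/-- Generator on the edge to the parent. -/
def gen : List ℕ :=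
  [0, 0, 1, 1, 0, 1, 0, 1, 1, 0, 1, 0, 0, 1, 1, 0, 1, 1, 1, 0, 0, 1, 1, 0, 0, 1, 0, 1, 1, 1, 0, 0, 1,
    1, 1, 0, 1, 0, 0, 1, 0, 1, 1, 1, 0, 0, 1, 0, 1, 1, 0, 1, 1, 1, 0, 1, 0, 0, 1, 1, 1, 1, 0, 1, 0, 0,
    0, 0, 1, 0, 1, 1, 0, 1, 1, 1, 0, 0, 1, 0, 1, 1, 0, 1, 1, 1, 1, 1, 0, 1, 0, 0, 1, 0, 1, 1, 1, 0, 1,
    0, 0, 1, 0, 1, 0, 1, 0, 1, 1, 0, 1, 1, 1, 0, 1, 0, 1, 0, 1, 1, 0, 1, 1, 1, 0, 1, 1, 0, 1, 0, 0, 0,
    1, 0, 1, 1, 0, 1, 1, 0, 1, 0, 0, 0, 1, 0, 1, 1, 0, 1, 0, 1, 0, 1, 1, 1, 1, 0, 0, 0, 1, 1, 1, 0, 0,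
    0, 0, 0]

/-- Left product by the first generator. -/
def ja : List ℕ :=
  [1, 0, 4, 6, 2, 9, 3, 11, 12, 5, 15, 7, 8, 19, 20, 10, 23, 24, 26, 13, 14, 30, 31, 16, 17, 35, 18,
    37, 38, 40, 21, 22, 44, 45, 47, 25, 50, 27, 28, 54, 29, 56, 57, 58, 32, 33, 62, 34, 64, 65, 36, 66,
    67, 69, 39, 72, 41, 42, 43, 76, 77, 79, 46, 82, 48, 49, 51, 52, 88, 53, 80, 90, 55, 91, 84, 93, 59,
    60, 97, 61, 70, 99, 63, 100, 74, 102, 104, 106, 68, 109, 71, 73, 113, 75, 107, 115, 117, 78, 120,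
    81, 83, 124, 85, 118, 86, 127, 87, 94, 129, 89, 130, 131, 133, 92, 136, 95, 139, 96, 103, 141, 98,
    142, 143, 145, 101, 148, 150, 105, 152, 108, 110, 111, 151, 112, 157, 158, 114, 159, 153, 116, 156,
    119, 121, 122, 160, 123, 163, 164, 125, 165, 126, 132, 128, 138, 161, 166, 140, 134, 135, 137, 144,
    154, 167, 146, 147, 149, 155, 162]

/-- Left product by the second generator. -/
def jb : List ℕ :=
  [2, 3, 5, 7, 8, 0, 10, 1, 13, 14, 16, 17, 18, 4, 21, 22, 6, 25, 27, 28, 29, 9, 32, 33, 34, 11, 36,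
    12, 39, 41, 42, 43, 15, 46, 48, 49, 51, 52, 53, 19, 55, 20, 58, 59, 60, 61, 23, 63, 24, 50, 35, 26,
    68, 70, 71, 73, 74, 75, 30, 31, 78, 80, 81, 83, 84, 85, 86, 87, 37, 89, 38, 72, 54, 40, 92, 94, 95,
    96, 44, 98, 45, 82, 62, 47, 101, 103, 105, 107, 108, 110, 111, 112, 56, 114, 57, 116, 118, 119, 121,
    122, 123, 64, 125, 65, 126, 66, 128, 67, 109, 88, 69, 132, 134, 135, 137, 138, 76, 140, 77, 120, 97,
    79, 144, 146, 147, 149, 151, 145, 153, 154, 155, 142, 90, 156, 91, 136, 113, 93, 160, 133, 150, 161,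
    162, 130, 99, 152, 100, 148, 124, 102, 117, 104, 127, 106, 165, 143, 139, 166, 163, 141, 115, 159,
    131, 167, 157, 129, 164, 158]

/-- Inverses. -/
def iv : List ℕ :=
  [0, 1, 5, 9, 7, 2, 11, 4, 21, 3, 30, 6, 25, 13, 14, 35, 19, 20, 58, 16, 17, 8, 43, 23, 24, 12, 50,
    39, 41, 42, 10, 36, 54, 56, 57, 15, 31, 46, 48, 27, 49, 28, 29, 22, 62, 64, 37, 65, 38, 40, 26, 72,
    92, 94, 32, 59, 33, 34, 18, 55, 113, 107, 44, 76, 45, 47, 82, 101, 68, 103, 70, 73, 51, 71, 74, 75,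
    63, 124, 88, 118, 80, 91, 66, 90, 84, 93, 136, 87, 78, 116, 83, 81, 52, 85, 53, 114, 106, 97, 139,
    100, 99, 67, 102, 69, 148, 109, 96, 61, 134, 105, 132, 137, 135, 60, 95, 125, 89, 117, 79, 157, 127,
    151, 159, 158, 77, 115, 153, 120, 156, 146, 144, 149, 110, 147, 108, 112, 86, 111, 138, 98, 140,
    163, 160, 165, 130, 164, 129, 133, 104, 131, 150, 121, 152, 126, 161, 167, 128, 119, 123, 122, 142,
    154, 162, 141, 145, 143, 166, 155]

/-- Representative of the class. -/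
def cr : List ℕ :=
  [0, 1, 2, 3, 3, 2, 2, 7, 7, 7, 3, 2, 3, 1, 1, 7, 16, 16, 16, 16, 16, 3, 7, 1, 1, 7, 7, 2, 7, 2, 7,
    16, 16, 16, 16, 3, 16, 16, 16, 2, 16, 3, 2, 3, 2, 7, 16, 2, 16, 16, 3, 7, 16, 16, 16, 7, 16, 16, 16,
    3, 3, 3, 2, 3, 3, 2, 3, 3, 1, 3, 1, 3, 3, 7, 1, 1, 7, 16, 2, 16, 1, 2, 7, 2, 1, 2, 2, 1, 2, 2, 2, 2,
    16, 2, 16, 2, 2, 1, 2, 3, 7, 7, 1, 7, 2, 2, 2, 7, 7, 2, 2, 7, 2, 7, 2, 2, 2, 1, 16, 2, 2, 16, 2, 16,
    16, 2, 16, 2, 16, 2, 16, 2, 2, 16, 3, 2, 2, 3, 1, 2, 1, 7, 2, 7, 16, 2, 2, 16, 2, 2, 1, 16, 1, 16,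
    16, 2, 16, 2, 16, 2, 2, 16, 1, 3, 2, 3, 1, 2]

/-- Conjugating element. -/
def cc : List ℕ :=
  [0, 0, 0, 0, 1, 117, 1, 0, 2, 1, 109, 106, 120, 2, 5, 3, 0, 7, 2, 1, 5, 4, 86, 3, 7, 98, 95, 4, 63,
    9, 89, 3, 20, 31, 15, 6, 6, 24, 26, 124, 12, 82, 79, 104, 6, 55, 17, 11, 18, 8, 115, 8, 28, 29, 14,
    14, 22, 10, 4, 20, 57, 31, 113, 15, 72, 69, 24, 50, 8, 26, 13, 77, 12, 60, 14, 21, 10, 33, 91, 34,
    114, 141, 17, 76, 89, 99, 44, 63, 100, 65, 129, 66, 38, 90, 40, 47, 26, 10, 54, 67, 52, 36, 25, 18,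
    40, 12, 31, 22, 28, 62, 19, 29, 20, 42, 30, 37, 158, 55, 47, 127, 57, 67, 104, 96, 45, 131, 61, 157,
    84, 133, 77, 115, 93, 87, 38, 88, 130, 40, 43, 15, 22, 33, 23, 34, 60, 24, 45, 75, 35, 56, 36, 52,
    18, 53, 86, 67, 74, 38, 85, 64, 102, 104, 34, 45, 97, 47, 29, 77]

/-- A coded number at an index. -/
def at' (L : List ℕ) (i : Fin 168) : Fin 168 := Fin.ofNat 168 (L.getD i.val 0)

/-- The code of a number. -/
def dig (n k : ℕ) : E9 := (((n / 9 ^ k % 9 / 3 : ℕ) : ZMod 3), ((n / 9 ^ k % 3 : ℕ) : ZMod 3))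

/-- The element of an index. -/
def M (i : Fin 168) : Matrix (Fin 3) (Fin 3) E9 :=
  Matrix.of fun r c => dig (nums.getD i.val 0) (8 - (3 * r.val + c.val))

/-- The first generator. -/
def a₀ : Fin 168 := 1

/-- The second generator. -/
def b₀ : Fin 168 := 2

/-- The class representatives, with a word in their conjugates for each generator. -/
def words : List (Fin 168 × List (Fin 168) × List (Fin 168)) :=
  [(1, [0], [26, 36]), (2, [10, 62], [0]), (3, [2, 104], [26, 36]), (7, [3, 95], [0, 1]), (16, [114, 114], [20, 29])]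

/-- The product of conjugates along a word. -/
def prodW (r : Fin 168) : List (Fin 168) → Matrix (Fin 3) (Fin 3) E9
  | [] => me
  | c :: w => mm (mm (mm (M c) (M r)) (M (at' iv c))) (prodW r w)

theorem M_zero : M 0 = me := by decide +kernel
theorem gens_ok : (md (M a₀) = (1, 0) ∧ IsU (M a₀)) ∧ (md (M b₀) = (1, 0) ∧ IsU (M b₀)) := by
  unfold IsU; decide +kernel
theorem closed_ok : ∀ i, mm (M a₀) (M i) = M (at' ja i) ∧ mm (M b₀) (M i) = M (at' jb i) := by decide +kernel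
theorem tree_ok : ∀ i : Fin 168, i ≠ 0 → (at' par i).val < i.val ∧
    M i = mm (if gen.getD i.val 0 = 0 then M a₀ else M b₀) (M (at' par i)) := by decide +kernel
theorem nums_nodup : nums.Nodup := by decide +kernel
theorem iv_ok : ∀ i, mm (M i) (M (at' iv i)) = me := by decide +kernel
theorem conj_ok : ∀ i : Fin 168, i ≠ 0 → mm (M (at' cc i)) (M i) = mm (M (at' cr i)) (M (at' cc i)) ∧
    at' cr i ∈ words.map Prod.fst := by decide +kernel
theorem words_ok : ∀ w ∈ words, prodW w.1 w.2.1 = M a₀ ∧ prodW w.1 w.2.2 = M b₀ := by decide +kernel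

/-- The number of a matrix. -/
def enc (A : Matrix (Fin 3) (Fin 3) E9) : ℕ :=
  ((List.finRange 9).map fun k : Fin 9 =>
    (3 * (A ⟨k.val / 3, Nat.div_lt_of_lt_mul k.isLt⟩ ⟨k.val % 3, Nat.mod_lt _ (by norm_num)⟩).1.val +
      (A ⟨k.val / 3, Nat.div_lt_of_lt_mul k.isLt⟩ ⟨k.val % 3, Nat.mod_lt _ (by norm_num)⟩).2.val) * 9 ^ (8 - k.val)).sum

theorem enc_M : ∀ i : Fin 168, enc (M i) = nums.getD i.val 0 := by decide +kernel

theorem nums_length : nums.length = 168 := rfl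

theorem M_inj : Function.Injective M := by
  intro i j h
  have e := congrArg enc h
  rw [enc_M, enc_M, List.getD_eq_getElem _ _ (nums_length.symm ▸ i.isLt),
    List.getD_eq_getElem _ _ (nums_length.symm ▸ j.isLt)] at e
  exact Fin.ext (nums_nodup.getElem_inj_iff.mp e)

variable {F : Type*} [Field F] [Fintype F] [hF : Fact (Fintype.card F = 9)]

theorem exists_subgroup : ∃ H : Subgroup (SU 3 F 3), Nat.card H = 168 ∧ IsSimpleGroup H := by
  classical
  obtain ⟨A, hA⟩ := exists_code (F := F) (M a₀) gens_ok.1.1 gens_ok.1.2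
  obtain ⟨B, hB⟩ := exists_code (F := F) (M b₀) gens_ok.2.1 gens_ok.2.2
  obtain ⟨H, hH⟩ : ∃ H, H = Subgroup.closure ({A, B} : Set (SU 3 F 3)) := ⟨_, rfl⟩
  have hAH : A ∈ H := hH ▸ Subgroup.subset_closure (by simp)
  have hBH : B ∈ H := hH ▸ Subgroup.subset_closure (by simp)
  have hex : ∀ i : Fin 168, ∃ g : H, code (g : SU 3 F 3) = M i := by
    intro i
    induction hn : i.val using Nat.strong_induction_on generalizing i with
    | _ n ih =>
      by_cases h0 : i = 0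
      · exact ⟨1, by rw [h0, M_zero]; exact code_one⟩
      · obtain ⟨hlt, he⟩ := tree_ok i h0
        obtain ⟨g, hg⟩ := ih _ (hn ▸ hlt) (at' par i) rfl
        refine ⟨(if gen.getD i.val 0 = 0 then ⟨A, hAH⟩ else ⟨B, hBH⟩) * g, ?_⟩
        rw [he, Subgroup.coe_mul, code_mul, hg]
        split_ifs <;> simp [hA, hB]
  choose e he using hex
  have hext : ∀ g g' : H, code (g : SU 3 F 3) = code (g' : SU 3 F 3) → g = g' := fun g g' h =>
    Subtype.ext (code_inj h)
  have hsurj : ∀ g : H, ∃ i, e i = g := by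
    intro g
    suffices h : ∀ x ∈ Subgroup.closure ({A, B} : Set (SU 3 F 3)), ∀ i, ∃ j, code (x * (e i : SU 3 F 3)) = M j by
      obtain ⟨j, hj⟩ := h g.1 (hH ▸ g.2) 0
      refine ⟨j, hext _ _ ?_⟩
      rw [he, ← hj, show ((e 0 : H) : SU 3 F 3) = 1 from code_inj (by rw [he, M_zero, code_one]), mul_one]
    intro x hx
    rw [← Subgroup.mem_toSubmonoid, Subgroup.closure_toSubmonoid_of_finite] at hx
    induction hx using Submonoid.closure_induction_left with
    | one => exact fun i => ⟨i, by rw [one_mul, he]⟩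
    | mul_left x hx y _ ih =>
      intro i
      obtain ⟨j, hj⟩ := ih i
      rw [mul_assoc, code_mul, hj]
      rcases hx with rfl | rfl
      · exact ⟨_, by rw [hA]; exact (closed_ok j).1⟩
      · exact ⟨_, by rw [hB]; exact (closed_ok j).2⟩
  have hinj : Function.Injective e := fun i j h => M_inj (by rw [← he, h, he])
  have hcard : Nat.card H = 168 := by
    rw [← Nat.card_eq_of_bijective e ⟨hinj, hsurj⟩, Nat.card_fin]
  have h0 : e 0 = 1 := hext _ _ (by rw [he, M_zero]; exact code_one.symm)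
  have hnt : Nontrivial H := ⟨⟨e 0, e 1, fun h => absurd (hinj h) (by decide)⟩⟩
  refine ⟨H, hcard, ⟨fun N hN => ?_⟩⟩
  by_cases hbot : N = ⊥
  · exact Or.inl hbot
  refine Or.inr ((Subgroup.eq_top_iff' N).mpr ?_)
  obtain ⟨⟨x, hx⟩, hx1'⟩ := (Subgroup.ne_bot_iff_exists_ne_one.mp hbot)
  have hx1 : x ≠ 1 := fun e => hx1' (Subtype.ext e)
  obtain ⟨i, rfl⟩ := hsurj x
  obtain ⟨hc, hw⟩ := conj_ok i (fun e0 => hx1 (by rw [e0, h0]))
  have hr : e (at' cr i) ∈ N := by
    have h1 : e (at' cc i) * e i = e (at' cr i) * e (at' cc i) := hext _ _ (by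
      rw [Subgroup.coe_mul, Subgroup.coe_mul, code_mul, code_mul, he, he, he, hc])
    rw [← mul_inv_cancel_right (e (at' cr i)) (e (at' cc i)), ← h1]
    exact hN.conj_mem _ hx _
  obtain ⟨w, hwm, hwr⟩ := List.mem_map.mp hw
  have hprod : ∀ l : List (Fin 168), ∃ y ∈ N, code (y : SU 3 F 3) = prodW w.1 l := by
    intro l
    induction l with
    | nil => exact ⟨1, one_mem _, code_one⟩
    | cons c l ih =>
      obtain ⟨y, hy, hye⟩ := ih
      have hcv : e (at' iv c) = (e c)⁻¹ := eq_inv_of_mul_eq_one_right (hext _ _ (by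
        rw [Subgroup.coe_mul, code_mul, he, he, iv_ok]; exact code_one.symm))
      refine ⟨e c * e w.1 * (e c)⁻¹ * y, N.mul_mem (hN.conj_mem _ (hwr ▸ hr) _) hy, ?_⟩
      rw [← hcv, Subgroup.coe_mul, Subgroup.coe_mul, Subgroup.coe_mul, code_mul, code_mul, code_mul, he, he, he, hye]
      rfl
  obtain ⟨ya, hya, hyae⟩ := hprod w.2.1
  obtain ⟨yb, hyb, hybe⟩ := hprod w.2.2
  have hle : H ≤ N.map H.subtype := by
    conv_lhs => rw [hH]
    rw [Subgroup.closure_le]
    rintro z (rfl | rfl)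
    · exact ⟨ya, hya, code_inj (by rw [hA, ← (words_ok w hwm).1]; exact hyae)⟩
    · exact ⟨yb, hyb, code_inj (by rw [hB, ← (words_ok w hwm).2]; exact hybe)⟩
  intro z
  obtain ⟨y, hy, hye⟩ := hle z.2
  exact (Subtype.ext hye : y = z) ▸ hy

end Cfsg.Agent.Invol.U33Seven
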