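import Mathlib

/-!
# An involution with a single fixed coset
-/

set_option autoImplicit false

namespace Cfsg.Agent.Invol.UniqFix

variable {G : Type*} [Group G]

theorem smul_mk_eq_iff {H : Subgroup G} (u c : G) :
    u • (c : G ⧸ H) = (c : G ⧸ H) ↔ u ∈ H.map (MulAut.conj c).toMonoidHom := by
  rw [MulAction.Quotient.smul_coe, QuotientGroup.eq, smul_eq_mul, Subgroup.mem_map]
  constructor
  · intro h
    exact ⟨((u * c)⁻¹ * c)⁻¹, H.inv_mem h, by simp [mul_assoc]⟩
  · rintro ⟨h, hh, rfl⟩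
    have : (MulAut.conj c h * c)⁻¹ * c = h⁻¹ := by simp [mul_assoc]
    rw [MulEquiv.coe_toMonoidHom, this]
    exact H.inv_mem hh

/-- The only coset fixed by `u` is `H` itself. -/
def Only (H : Subgroup G) (u : G) : Prop := ∀ g : G, u ∈ H.map (MulAut.conj g).toMonoidHom ↔ g ∈ H

theorem Only.fixed_iff {H : Subgroup G} {u : G} (h : Only H u) (y : G ⧸ H) : u • y = y ↔ y = ((1 : G) : G ⧸ H) := by
  induction y using QuotientGroup.induction_on with
  | H c =>
    rw [smul_mk_eq_iff, h c, QuotientGroup.eq]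
    simp

theorem Only.centralizer_le {H : Subgroup G} {u : G} (h : Only H u) :
    Subgroup.centralizer ({u} : Set G) ≤ H := fun g hg => by
  have h1 : u • ((g : G) : G ⧸ H) = ((g : G) : G ⧸ H) := by
    have h0 : u • ((1 : G) : G ⧸ H) = ((1 : G) : G ⧸ H) := (h.fixed_iff _).mpr rfl
    rw [show ((g : G) : G ⧸ H) = g • ((1 : G) : G ⧸ H) by rw [MulAction.Quotient.smul_coe, smul_eq_mul, mul_one],
      smul_smul, ← Subgroup.mem_centralizer_singleton_iff.mp hg, ← smul_smul, h0]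
  have h2 := (h.fixed_iff _).mp h1
  rw [QuotientGroup.eq, mul_one] at h2
  simpa using H.inv_mem h2

variable {H : Subgroup G} {z : G} (hzz : z * z = 1) (h0 : Only H z)

/-- The conjugates of `z`. -/
abbrev Cls (z : G) := {t : G // IsConj z t}

include h0

theorem exists_unique_fixed {t : G} (ht : IsConj z t) : ∃! y : G ⧸ H, t • y = y := by
  obtain ⟨c, rfl⟩ := isConj_iff.mp ht
  refine ⟨c • ((1 : G) : G ⧸ H), ?_, fun y hy => ?_⟩
  · show (c * z * c⁻¹) • (c • ((1 : G) : G ⧸ H)) = _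
    rw [smul_smul, inv_mul_cancel_right, mul_smul, (h0.fixed_iff _).mpr rfl]
  · have h2 : z • (c⁻¹ • y) = c⁻¹ • y := by
      conv_rhs => rw [← hy]
      rw [smul_smul, smul_smul]
      congr 1
      group
    rw [← (h0.fixed_iff _).mp h2, smul_inv_smul]

/-- The fixed coset of a conjugate. -/
noncomputable def pt (t : Cls z) : G ⧸ H := (exists_unique_fixed h0 t.2).choose

theorem pt_eq_iff (t : Cls z) (y : G ⧸ H) : pt h0 t = y ↔ (t : G) • y = y :=
  ⟨fun h => h ▸ (exists_unique_fixed h0 t.2).choose_spec.1,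
    fun h => ((exists_unique_fixed h0 t.2).choose_spec.2 y h).symm⟩

/-- The number of conjugates with a given fixed coset does not depend on the coset. -/
theorem card_fibre (y : G ⧸ H) :
    Nat.card {t : Cls z // pt h0 t = y} = Nat.card {t : Cls z // pt h0 t = ((1 : G) : G ⧸ H)} := by
  induction y using QuotientGroup.induction_on with
  | H c =>
    let e : Cls z ≃ Cls z := (MulAut.conj c).toEquiv.subtypeEquiv fun t =>
      ⟨fun h => h.trans (isConj_iff.mpr ⟨c, rfl⟩), fun h => h.trans (isConj_iff.mpr ⟨c, rfl⟩ : IsConj t _).symm⟩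
    refine (Nat.card_congr (e.subtypeEquiv fun t => ?_)).symm
    rw [pt_eq_iff, pt_eq_iff]
    show _ ↔ (c * (t : G) * c⁻¹) • ((c : G) : G ⧸ H) = _
    rw [show ((c : G) : G ⧸ H) = c • ((1 : G) : G ⧸ H) by rw [MulAction.Quotient.smul_coe, smul_eq_mul, mul_one],
      smul_smul, inv_mul_cancel_right, mul_smul, smul_left_cancel_iff]

theorem card_cls [Finite G] :
    Nat.card (Cls z) = H.index * Nat.card {t : Cls z // pt h0 t = ((1 : G) : G ⧸ H)} := by
  classical
  haveI := Fintype.ofFinite (G ⧸ H)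
  rw [Nat.card_congr (Equiv.sigmaFiberEquiv (pt h0)).symm, Nat.card_sigma,
    Finset.sum_congr rfl (fun y _ => card_fibre h0 y), Finset.sum_const, Finset.card_univ, smul_eq_mul,
    Subgroup.index, Nat.card_eq_fintype_card (α := G ⧸ H)]

include hzz

theorem odd_index [Finite G] : Odd H.index := by
  have hP : IsPGroup 2 (Subgroup.zpowers z) := by
    rcases eq_or_ne z 1 with rfl | hne
    · rw [Subgroup.zpowers_one_eq_bot]; exact IsPGroup.of_bot
    · exact IsPGroup.of_card (n := 1) (by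
        rw [Nat.card_zpowers, pow_one, orderOf_eq_prime (by rw [pow_two, hzz]) hne])
  haveI := Fact.mk Nat.prime_two
  have h1 := hP.card_modEq_card_fixedPoints (G ⧸ H)
  have h2 : MulAction.fixedPoints (Subgroup.zpowers z) (G ⧸ H) = {((1 : G) : G ⧸ H)} := by
    ext y
    refine ⟨fun hy => (h0.fixed_iff y).mp (hy ⟨z, Subgroup.mem_zpowers z⟩), ?_⟩
    rintro rfl ⟨w, hw⟩
    exact (Subgroup.zpowers_le.mpr (MulAction.mem_stabilizer_iff.mpr ((h0.fixed_iff _).mpr rfl)) hw :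
      w ∈ MulAction.stabilizer G ((1 : G) : G ⧸ H))
  rw [h2, Nat.card_unique (α := ({((1 : G) : G ⧸ H)} : Set (G ⧸ H)))] at h1
  exact Nat.odd_iff.mpr h1

/-- Products of commuting conjugates fixing one coset: the number of conjugates fixing a coset is odd. -/
theorem odd_fibre [Finite G]
    (hH : H ≠ ⊤) (hprod : ∀ t : G, IsConj z t → t ≠ z → t * z = z * t → Only H (z * t)) :
    Odd (Nat.card {t : Cls z // pt h0 t = ((1 : G) : G ⧸ H)}) := by
  classical
  set x₀ : G ⧸ H := ((1 : G) : G ⧸ H) with hx₀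
  haveI := Fact.mk Nat.prime_two
  by_contra hev
  rw [Nat.not_odd_iff_even] at hev
  -- products of two commuting conjugates fix at most one coset
  have hpair : ∀ r r' : G, IsConj z r → IsConj z r' → r ≠ r' → r * r' = r' * r → ∀ y y' : G ⧸ H,
      (r * r') • y = y → (r * r') • y' = y' → y = y' := by
    intro r r' hr hr' hne hc y y' hy hy'
    obtain ⟨c, rfl⟩ := isConj_iff.mp hr
    have ht : IsConj z (c⁻¹ * r' * c) := hr'.trans (isConj_iff.mpr ⟨c⁻¹, by rw [inv_inv]⟩)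
    have hcomm : c⁻¹ * r' * c * z = z * (c⁻¹ * r' * c) := by
      calc c⁻¹ * r' * c * z = c⁻¹ * (r' * (c * z * c⁻¹)) * c := by group
        _ = c⁻¹ * (c * z * c⁻¹ * r') * c := by rw [hc]
        _ = z * (c⁻¹ * r' * c) := by group
    have hne' : c⁻¹ * r' * c ≠ z := fun h => hne (by rw [← h]; group)
    have hon := hprod _ ht hne' hcomm
    have key : ∀ w : G ⧸ H, (c * z * c⁻¹ * r') • w = w → w = c • x₀ := fun w hw => by
      have h1 : (z * (c⁻¹ * r' * c)) • (c⁻¹ • w) = c⁻¹ • w := by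
        conv_rhs => rw [← hw]
        rw [smul_smul, smul_smul]
        congr 1
        group
      have h2 : c⁻¹ • w = x₀ := (hon.fixed_iff _).mp h1
      rw [← h2, smul_inv_smul]
    exact (key y hy).trans (key y' hy').symm
  -- conjugates fixing different cosets are swapped by a conjugate
  have hswap : ∀ s : Cls z, pt h0 s ≠ x₀ → ∃ r : Cls z, (r : G) * z * (r : G)⁻¹ = s := by
    rintro ⟨s, hs⟩ hy
    obtain ⟨cz, hcz⟩ := isConj_iff.mp hs
    have hss : s * s = 1 := by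
      rw [← hcz, show cz * z * cz⁻¹ * (cz * z * cz⁻¹) = cz * (z * z) * cz⁻¹ by group, hzz, mul_one, mul_inv_cancel]
    set c := z * s with hc
    have hzi : z⁻¹ = z := inv_eq_of_mul_eq_one_right hzz
    have hsi : s⁻¹ = s := inv_eq_of_mul_eq_one_right hss
    have hzc : ∀ n : ℤ, z * c ^ n = c ^ (-n) * z := fun n => by
      have h1 : z * c * z⁻¹ = c⁻¹ := by rw [hc, mul_inv_rev, hzi, hsi, ← mul_assoc z z s, hzz, one_mul]
      have h2 : z * c ^ n * z⁻¹ = c ^ (-n) := by rw [← conj_zpow, h1, inv_zpow']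
      exact mul_inv_eq_iff_eq_mul.mp h2
    have hsz : s = c ^ (-1 : ℤ) * z := by
      rw [zpow_neg_one, hc, mul_inv_rev, hzi, hsi, mul_assoc, hzz, mul_one]
    have hconjm : ∀ i m : ℤ, c ^ i * (c ^ m * z) * (c ^ i)⁻¹ = c ^ (2 * i + m) * z := fun i m => by
      calc c ^ i * (c ^ m * z) * (c ^ i)⁻¹ = c ^ i * c ^ m * (z * c ^ (-i)) := by rw [zpow_neg]; group
        _ = c ^ (2 * i + m) * z := by rw [hzc, neg_neg, ← mul_assoc, ← zpow_add, ← zpow_add]; congr 2; ring
    have hclz : ∀ i : ℤ, IsConj z (c ^ (2 * i) * z) := fun i =>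
      isConj_iff.mpr ⟨c ^ i, by have h := hconjm i 0; rwa [zpow_zero, one_mul, add_zero] at h⟩
    have hcls : ∀ i : ℤ, IsConj z (c ^ (2 * i - 1) * z) := fun i =>
      hs.trans (isConj_iff.mpr ⟨c ^ i, by
        have h := hconjm i (-1); rwa [← hsz, ← sub_eq_add_neg] at h⟩)
    have hcm : c ^ (orderOf c : ℤ) = 1 := by rw [zpow_natCast, pow_orderOf_eq_one]
    have hodd : Odd (orderOf c) := by
      by_contra hev'
      rw [Nat.not_odd_iff_even] at hev'
      obtain ⟨k, hk⟩ := hev'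
      have hk0 : 0 < k := by
        have := orderOf_pos c
        omega
      set w := c ^ (k : ℤ) with hw
      have hw1 : w ≠ 1 := fun h => by
        rw [hw, zpow_natCast] at h
        have := Nat.le_of_dvd hk0 (orderOf_dvd_of_pow_eq_one h)
        omega
      have hwi : c ^ (-(k : ℤ)) = w := by
        rw [zpow_neg, inv_eq_iff_mul_eq_one, hw, ← zpow_add, ← Nat.cast_add, ← hk, hcm]
      have hwz : z * w = w * z := by rw [hw, hzc, hwi]
      have hws : s * w = w * s := by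
        rw [hsz, mul_assoc, hwz, ← mul_assoc, ← mul_assoc]
        congr 1
        rw [hw, ← zpow_add, ← zpow_add, add_comm]
      -- the conjugate `w z` commutes with `z`
      have hconj : IsConj z (w * z) := by
        rcases Nat.even_or_odd' k with ⟨i, hi | hi⟩
        · have := hclz i
          rwa [hw, show (k : ℤ) = 2 * (i : ℤ) by rw [hi]; push_cast; ring]
        · have := hcls (i + 1)
          rwa [hw, show (k : ℤ) = 2 * ((i : ℤ) + 1) - 1 by rw [hi]; push_cast; ring]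
      have hne : w * z ≠ z := fun h => hw1 (mul_eq_right.mp h)
      refine hy (hpair (w * z) z hconj (IsConj.refl z) hne ?_ (pt h0 ⟨s, hs⟩) x₀ ?_ ?_)
      · rw [mul_assoc, hzz, ← mul_assoc, hwz, mul_assoc, hzz]
      · rw [mul_assoc, hzz, mul_one]
        refine ((pt_eq_iff h0 ⟨s, hs⟩ _).mpr ?_).symm
        show s • _ = _
        rw [smul_smul, hws, ← smul_smul, (pt_eq_iff h0 ⟨s, hs⟩ _).mp rfl]
      · rw [mul_assoc, hzz, mul_one]
        refine (h0.fixed_iff _).mp ?_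
        rw [smul_smul, hwz, ← smul_smul, (h0.fixed_iff x₀).mpr rfl]
    obtain ⟨i, hi⟩ := hodd
    have hm : c ^ ((2 : ℤ) * i + 1) = 1 := by
      rw [show ((2 : ℤ) * i + 1) = ((orderOf c : ℕ) : ℤ) by rw [hi]; push_cast; ring, hcm]
    refine ⟨⟨c ^ (i : ℤ) * z, ?_⟩, ?_⟩
    · rcases Nat.even_or_odd' i with ⟨j, hj | hj⟩
      · have := hclz j
        rwa [show ((i : ℕ) : ℤ) = 2 * (j : ℤ) by rw [hj]; push_cast; ring]
      · have := hclz (3 * (j : ℤ) + 2)
        rwa [show c ^ (i : ℤ) = c ^ (2 * (3 * (j : ℤ) + 2)) by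
          have e : (2 : ℤ) * (3 * (j : ℤ) + 2) = (i : ℤ) + (2 * i + 1) := by rw [hj]; push_cast; ring
          rw [e, zpow_add, hm, mul_one]]
    · show c ^ (i : ℤ) * z * z * (c ^ (i : ℤ) * z)⁻¹ = s
      rw [mul_inv_rev, hzi, mul_assoc (c ^ (i : ℤ)) z z, hzz, mul_one, ← zpow_neg, hzc, neg_neg, ← mul_assoc,
        ← zpow_add, hsz]
      congr 1
      rw [show ((i : ℤ) + i) = (2 * (i : ℤ) + 1) + (-1) by ring, zpow_add, hm, one_mul]
  -- counting
  haveI := Fintype.ofFinite (G ⧸ H)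
  set a := Nat.card {t : Cls z // pt h0 t = x₀} with ha
  have ha0 : 0 < a := Nat.card_pos_iff.mpr ⟨⟨⟨⟨z, IsConj.refl z⟩, (pt_eq_iff h0 _ _).mpr ((h0.fixed_iff _).mpr rfl)⟩⟩, inferInstance⟩
  obtain ⟨y₀, hy₀⟩ : ∃ y : G ⧸ H, y ≠ x₀ := by
    by_contra h
    push Not at h
    refine hH (top_le_iff.mp fun g _ => ?_)
    have h1 := h (g : G ⧸ H)
    rw [hx₀, QuotientGroup.eq, mul_one] at h1
    simpa using H.inv_mem h1
  let F := fun y : G ⧸ H => {t : Cls z // pt h0 t ≠ x₀ ∧ (t : G) • x₀ = y}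
  have hle : ∀ y : G ⧸ H, y ≠ x₀ → a ≤ Nat.card (F y) := by
    intro y hy
    rw [ha, ← card_fibre h0 y]
    have h1 : ∀ s : {t : Cls z // pt h0 t = y}, ∃ r : F y, (r.1 : G) * z * (r.1 : G)⁻¹ = (s.1 : G) := by
      rintro ⟨s, hsy⟩
      obtain ⟨r, hr⟩ := hswap s (fun h => hy (hsy.symm.trans h))
      have hrx : (r : G) • x₀ = y := by
        rw [← hsy, eq_comm, pt_eq_iff, ← hr, smul_smul, inv_mul_cancel_right, mul_smul, (h0.fixed_iff x₀).mpr rfl]
      exact ⟨⟨r, fun h => hy ((hrx.symm.trans ((pt_eq_iff h0 _ _).mp h))), hrx⟩, hr⟩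
    choose φ hφ using h1
    exact Nat.card_le_card_of_injective φ fun u v huv => Subtype.ext (Subtype.ext (by rw [← hφ u, ← hφ v, huv]))
  have hsum : ∑ y ∈ Finset.univ.erase x₀, Nat.card (F y) = ∑ _y ∈ Finset.univ.erase x₀, a := by
    have h1 : ∑ y : G ⧸ H, Nat.card (F y) = Nat.card {t : Cls z // pt h0 t ≠ x₀} := by
      rw [← Nat.card_sigma]
      exact Nat.card_congr ⟨fun q => ⟨q.2.1, q.2.2.1⟩, fun t => ⟨(t.1 : G) • x₀, t.1, t.2, rfl⟩,
        fun ⟨y, t, ht, hty⟩ => by subst hty; rfl, fun t => rfl⟩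
    have h2 : Nat.card (Cls z) = a + Nat.card {t : Cls z // pt h0 t ≠ x₀} := by
      rw [ha, ← Nat.card_sum, Nat.card_congr (Equiv.sumCompl _)]
    have hF0 : Nat.card (F x₀) = 0 := by
      haveI : IsEmpty (F x₀) := ⟨fun t => t.2.1 ((pt_eq_iff h0 _ _).mpr t.2.2)⟩
      exact Nat.card_of_isEmpty
    rw [← Finset.add_sum_erase _ _ (Finset.mem_univ x₀), hF0, zero_add] at h1
    rw [h1, Finset.sum_const, smul_eq_mul, Finset.card_erase_of_mem (Finset.mem_univ _), Finset.card_univ,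
      Nat.sub_mul, one_mul, ← Nat.card_eq_fintype_card]
    have h3 := card_cls h0
    rw [Subgroup.index, ← hx₀, ← ha] at h3
    omega
  have heq : Nat.card (F y₀) = a := (((Finset.sum_eq_sum_iff_of_le
    (fun y hy => hle y (Finset.ne_of_mem_erase hy))).mp hsum.symm) y₀ (by simp [hy₀])).symm
  obtain ⟨r⟩ : Nonempty (F y₀) := (Nat.card_pos_iff.mp (heq ▸ ha0)).1
  have hinv : ∀ t : Cls z, (t : G) * t = 1 := fun t => by
    obtain ⟨g, hg⟩ := isConj_iff.mp t.2
    rw [← hg, show g * z * g⁻¹ * (g * z * g⁻¹) = g * (z * z) * g⁻¹ by group, hzz, mul_one, mul_inv_cancel]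
  have hsw : ∀ t : F y₀, (t.1 : G) • y₀ = x₀ := fun t => by
    calc (t.1 : G) • y₀ = (t.1 : G) • ((t.1 : G) • x₀) := congrArg _ t.2.2.symm
      _ = x₀ := by rw [smul_smul, hinv, one_smul]
  let σ : Equiv.Perm (F y₀) := Function.Involutive.toPerm
    (fun t => ⟨⟨(r.1 : G) * t.1 * r.1, t.1.2.trans (isConj_iff.mpr ⟨r.1, by rw [inv_eq_of_mul_eq_one_right (hinv r.1)]⟩)⟩,
      (fun h => hy₀ (by
        have h1 := (pt_eq_iff h0 _ _).mp h
        change ((r.1 : G) * t.1 * r.1) • x₀ = x₀ at h1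
        rw [mul_smul, mul_smul, r.2.2, hsw, r.2.2] at h1
        exact h1)), by
      show ((r.1 : G) * t.1 * r.1) • x₀ = y₀
      rw [mul_smul, mul_smul, r.2.2, hsw, r.2.2]⟩)
    (fun t => Subtype.ext (Subtype.ext (by
      show (r.1 : G) * ((r.1 : G) * t.1 * r.1) * r.1 = t.1
      calc (r.1 : G) * ((r.1 : G) * t.1 * r.1) * r.1 = ((r.1 : G) * r.1) * t.1 * ((r.1 : G) * r.1) := by group
        _ = _ := by rw [hinv, one_mul, mul_one])))
  haveI := Fintype.ofFinite (F y₀)
  obtain ⟨r', hr', hne⟩ := Equiv.Perm.exists_fixed_point_of_prime' (σ := σ) (p := 2) (n := 1)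
    (by rw [← Nat.card_eq_fintype_card, heq]; exact hev.two_dvd)
    (Equiv.ext fun t => by
      rw [pow_one, pow_two]
      exact Function.Involutive.toPerm_involutive _ t)
    (a := r) (Subtype.ext (Subtype.ext (by
      show (r.1 : G) * r.1 * r.1 = r.1
      rw [hinv, one_mul])))
  have hcom : (r.1 : G) * r'.1 = r'.1 * r.1 := by
    have h1 : (r.1 : G) * r'.1 * r.1 = r'.1 := congrArg (fun t : F y₀ => (t.1 : G)) hr'
    conv_rhs => rw [← h1]
    rw [mul_assoc ((r.1 : G) * r'.1), hinv, mul_one]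
  refine hy₀ (hpair r.1 r'.1 r.1.2 r'.1.2 (fun h => hne (Subtype.ext (Subtype.ext h.symm))) hcom y₀ x₀ ?_ ?_)
  · rw [mul_smul, hsw, r.2.2]
  · rw [mul_smul, r'.2.2, hsw]

end Cfsg.Agent.Invol.UniqFix
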