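import Mathlib
import Cfsg.Agent.Lib.Fus.ThompsonCenter
import Cfsg.Agent.Lib.Fus.GroupSystem
import Cfsg.Agent.Lib.Fus.GroupLocal
import Cfsg.Agent.Lib.Fus.QdWitness

/-!
Weak closure of elements centralized by the normalizer of the Thompson subgroup.
-/

set_option autoImplicit false
set_option linter.style.haveILetI false

namespace Cfsg.Agent.Invol

open Cfsg Cfsg.FusionSystem

universe u

variable {G : Type u} [Group G] [Finite G] {p : ℕ} [Fact p.Prime]

theorem groupFusionSystem_isRealized (S : Sylow p G) :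
    (groupFusionSystem (S : Subgroup G)).IsRealizedBy (S : Subgroup G).subtype := by
  refine ⟨(S : Subgroup G).subtype_injective, fun P hP φ hφ => ?_⟩
  rw [Fus.groupFusionSystem_eq]
  constructor
  · rintro ⟨-, -, g, -, hg⟩
    exact ⟨g, fun x => hg x⟩
  · rintro ⟨g, hg⟩
    exact ⟨hP, hφ, g, Subgroup.mem_top g, fun x => hg x⟩

theorem isSectionFree_group (S : Sylow 2 G) (h : ¬ Cfsg.Involves (Equiv.Perm (Fin 4)) G) :
    (groupFusionSystem (S : Subgroup G)).IsSectionFree 2 (Equiv.Perm (Fin 4)) := by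
  haveI : Fact (Nat.Prime 2) := ⟨Nat.prime_two⟩
  have hw : ¬ Fus.QdWitness (groupFusionSystem (S : Subgroup G)) 2 := fun hw => by
    obtain ⟨K, R, hn, ⟨e⟩⟩ := Fus.involves_qd_iff.2
      (Fus.grpQdWitness_of_realized S.isPGroup' (groupFusionSystem_isRealized S) hw)
    obtain ⟨e'⟩ := Fus.exists_qd_two_equiv
    exact h ⟨K, R, hn, ⟨e.trans e'⟩⟩
  obtain ⟨e'⟩ := Fus.exists_qd_two_equiv
  exact fun Q hQn hQc N hN L _ ι hmod ⟨K, K₀, hn', ⟨e⟩⟩ =>
    Fus.isSectionFree_of_not_qdWitness S.isPGroup' hw Q hQn hQc N hN L ι hmod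
      ⟨K, K₀, hn', ⟨e.trans e'.symm⟩⟩

theorem weaklyClosed_of_center_normalizer (S : Sylow p G) {x : G} (hxS : x ∈ (S : Subgroup G))
    (hxN : ∀ g ∈ Subgroup.normalizer ((Cfsg.thompsonSubgroupAOf (S : Subgroup G)) : Set G),
      g * x * g⁻¹ = x)
    (h : p ≠ 2 ∨ (∃ z ∈ (S : Subgroup G) ⊓ Subgroup.centralizer ((S : Subgroup G) : Set G),
      z ^ p = x) ∨ ¬ Cfsg.Involves (Equiv.Perm (Fin 4)) G) :
    ∀ g : G, g * x * g⁻¹ ∈ (S : Subgroup G) → g * x * g⁻¹ = x := by
  set T : Subgroup G := (S : Subgroup G) with hT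
  set F := groupFusionSystem T with hF
  have hTp : IsPGroup p T := S.isPGroup'
  have hsat : F.IsSaturated p := Fus.isSaturated_group S
  set J := Cfsg.thompsonSubgroupAOf T with hJ
  have hTJ : T ≤ Subgroup.normalizer (J : Set G) :=
    (Fus.normalizerIn_thompsonA F).ge.trans inf_le_right
  have hxT : x ∈ T ⊓ Subgroup.centralizer (T : Set G) :=
    ⟨hxS, Subgroup.mem_centralizer_iff.2 fun s hs => mul_inv_eq_iff_eq_mul.1 (hxN s (hTJ hs))⟩
  set X := Subgroup.zpowers x with hX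
  have hXT : X ≤ T ⊓ Subgroup.centralizer (T : Set G) := Subgroup.zpowers_le.2 hxT
  have hfix : ∀ P f, Fus.IsMap F P f → J ≤ P → Fus.fimg f J = J → Fus.FixesExt F X P f := by
    intro P f hf hJP hfJ
    obtain ⟨hP, g, hg⟩ := Fus.isMap_group.1 hf
    have hgJ : g ∈ Subgroup.normalizer (J : Set G) := by
      rw [Grp.mem_normalizer_of_map_eq]
      refine Subgroup.eq_of_le_of_card_ge ?_
        (Subgroup.card_map_of_injective (f := (MulAut.conj g).toMonoidHom) (MulAut.conj g).injective).ge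
      rintro _ ⟨y, hy, rfl⟩
      show g * y * g⁻¹ ∈ J
      rw [← (hg y (hJP hy)).1, ← hfJ]
      exact Fus.apply_mem_fimg f hy
    have hgX : ∀ y ∈ X, g * y * g⁻¹ = y := by
      intro y hy
      obtain ⟨i, rfl⟩ := Subgroup.mem_zpowers_iff.1 hy
      rw [← conj_zpow, hxN g hgJ]
    refine ⟨fun y => g * y * g⁻¹, Fus.isMap_group.2 ⟨sup_le hP (hXT.trans inf_le_left), g,
      fun y hy => ⟨rfl, ?_⟩⟩, fun y hy => ((hg y hy).1).symm, hgX⟩
    have : P ⊔ X ≤ T.comap (MulAut.conj g).toMonoidHom :=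
      sup_le (fun z hz => (hg z hz).2) fun z hz => by
        show g * z * g⁻¹ ∈ T
        rw [hgX z hz]; exact (hXT hz).1
    exact this hy
  have key : F.IsCentral X := by
    rcases h with h | ⟨z, hz, hzx⟩ | h
    · exact Fus.isCentral_of_thompson_all hTp hsat (Or.inl h) hXT hfix
    · set Z := (T ⊓ Subgroup.centralizer (T : Set G) : Subgroup G) with hZ
      refine Fus.isCentral_iff.2 ⟨hXT.trans inf_le_left, fun P f hf => ?_⟩
      refine Fus.forall_of_thompson_powers hTp hsat (Fus.isMapProp_fixesExt X) (W₀ := Z) le_rfl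
        hfix (fun P f hf hle hfx => ?_) hf
      have hXp : X ≤ powerClosure p 1 Z :=
        Subgroup.zpowers_le.2 (Subgroup.subset_closure ⟨z, hz, by rw [pow_one]; exact hzx.symm⟩)
      exact ⟨f, hf.res (sup_le le_rfl (hXp.trans hle)), fun y _ => rfl, fun y hy => hfx y (hXp hy)⟩
    · by_cases h2 : p = 2
      · subst h2
        exact Fus.isCentral_of_thompson_all hTp hsat (Or.inr (isSectionFree_group S h)) hXT hfix
      · exact Fus.isCentral_of_thompson_all hTp hsat (Or.inl h2) hXT hfix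
  intro g hg
  obtain ⟨-, hc⟩ := Fus.isCentral_iff.1 key
  obtain ⟨k, -, hk1, hk2⟩ := hc X (fun y => g * y * g⁻¹) (Fus.isMap_group.2
    ⟨hXT.trans inf_le_left, g, fun y hy => ⟨rfl, by
      obtain ⟨i, rfl⟩ := Subgroup.mem_zpowers_iff.1 hy
      rw [← conj_zpow]
      exact T.zpow_mem hg i⟩⟩)
  exact (hk1 x (Subgroup.mem_zpowers x)).symm.trans (hk2 x (Subgroup.mem_zpowers x))

end Cfsg.Agent.Invol
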