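import Mathlib
import Cfsg.Prelude.Def_SolvableStructure
import Cfsg.Agent.Lib.Invol.WeaklyHSubNPC
import Cfsg.Agent.Lib.Grp.SupersolvableCriteria

/-!
Supersolvability from subgroups of one fixed order closed in their normalizers.
-/

set_option autoImplicit false
set_option linter.style.haveILetI false

namespace Cfsg.Agent.Invol

open Subgroup
open scoped Pointwise commutatorElement

universe u

/-- The kernel of the largest abelian quotient of exponent dividing `p - 1`. -/
def abExpCore (p : ℕ) (H : Type u) [Group H] : Subgroup H :=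
  commutator H ⊔ Subgroup.closure (Set.range fun h : H => h ^ (p - 1))

variable {H : Type u} [Group H]

theorem abExpCore_normal (p : ℕ) : (abExpCore p H).Normal := by
  refine ⟨fun x hx h => ?_⟩
  have h1 : ⁅h, x⁆ ∈ abExpCore p H := Subgroup.mem_sup_left (by
    rw [commutator_def]
    exact Subgroup.commutator_mem_commutator (Subgroup.mem_top h) (Subgroup.mem_top x))
  have := (abExpCore p H).mul_mem h1 hx
  convert this using 1
  rw [commutatorElement_def]; group

theorem commutator_mem_abExpCore (p : ℕ) (a b : H) : ⁅a, b⁆ ∈ abExpCore p H :=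
  Subgroup.mem_sup_left (by
    rw [commutator_def]
    exact Subgroup.commutator_mem_commutator (Subgroup.mem_top a) (Subgroup.mem_top b))

theorem pow_mem_abExpCore (p : ℕ) (a : H) : a ^ (p - 1) ∈ abExpCore p H :=
  Subgroup.mem_sup_right (Subgroup.subset_closure ⟨a, rfl⟩)

theorem abExpCore_map {K : Type u} [Group K] (p : ℕ) (f : H →* K) (hf : Function.Surjective f) :
    (abExpCore p H).map f = abExpCore p K := by
  rw [abExpCore, abExpCore, Subgroup.map_sup, MonoidHom.map_closure, commutator_def, commutator_def,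
    Subgroup.map_commutator, Subgroup.map_top_of_surjective f hf, ← Set.range_comp]
  congr 2
  ext k
  constructor
  · rintro ⟨h, rfl⟩; exact ⟨f h, (map_pow f h _).symm⟩
  · rintro ⟨h, rfl⟩
    obtain ⟨a, rfl⟩ := hf h
    exact ⟨a, map_pow f a _⟩

theorem eq_one_of_abExpCore {A : Type*} [Group A] (hA : ∀ x y : A, Commute x y) {p a : ℕ}
    (hexp : ∀ x : A, x ^ ((p - 1) * p ^ a) = 1) (φ : H →* A) {g : H} (hg : g ∈ abExpCore p H)
    (hgp : (orderOf g).Coprime p) : φ g = 1 := by
  let S : Subgroup A :=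
    { carrier := {x | x ^ p ^ a = 1}
      mul_mem' := fun {x y} hx hy => by
        show (x * y) ^ p ^ a = 1
        rw [(hA x y).mul_pow, hx, hy, one_mul]
      one_mem' := one_pow _
      inv_mem' := fun {x} hx => by
        show x⁻¹ ^ p ^ a = 1
        rw [inv_pow, hx, inv_one] }
  have h1 : abExpCore p H ≤ S.comap φ := by
    refine sup_le ?_ ?_
    · rw [commutator_def, Subgroup.commutator_le]
      intro x _ y _
      show φ ⁅x, y⁆ ^ p ^ a = 1
      rw [map_commutatorElement, commutatorElement_eq_one_iff_mul_comm.2 (hA _ _).eq, one_pow]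
    · rw [Subgroup.closure_le]
      rintro _ ⟨x, rfl⟩
      show φ (x ^ (p - 1)) ^ p ^ a = 1
      rw [map_pow, ← pow_mul]
      exact hexp _
  rw [← orderOf_eq_one_iff]
  exact Nat.eq_one_of_dvd_coprimes (hgp.pow_right a) (orderOf_map_dvd φ g)
    (orderOf_dvd_of_pow_eq_one (h1 hg))

theorem centralizes_normal_cyclic [Finite H] {p : ℕ} [hp : Fact p.Prime] {U : Subgroup H}
    [U.Normal] [IsCyclic U] (hU : IsPGroup p U) {g : H} (hg : g ∈ abExpCore p H)
    (hgp : (orderOf g).Coprime p) : g ∈ Subgroup.centralizer (U : Set H) := by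
  obtain ⟨a, ha⟩ := IsPGroup.iff_card.1 hU
  have hc : ∀ x y : MulAut U, Commute x y := fun x y => by
    apply (IsCyclic.mulAutMulEquiv U).injective
    rw [map_mul, map_mul, mul_comm]
  have h1 := eq_one_of_abExpCore hc (p := p) (a := a) (fun x => by
    rw [← orderOf_dvd_iff_pow_eq_one]
    refine (orderOf_dvd_natCard x).trans ?_
    rw [IsCyclic.card_mulAut, ha, mul_comm]
    exact totient_dvd hp.out a) (MulAut.conjNormal (H := U)) hg hgp
  rw [Subgroup.mem_centralizer_iff]
  intro u hu
  have h3 := congrArg (fun σ : MulAut U => ((σ ⟨u, hu⟩ : U) : H)) h1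
  simp only [MulAut.conjNormal_apply, MulAut.one_apply] at h3
  exact (mul_inv_eq_iff_eq_mul.1 h3).symm

theorem trivial_on_normal_step [Finite H] {p : ℕ} [hp : Fact p.Prime] {U C : Subgroup H}
    [U.Normal] [C.Normal] (hCU : C ≤ U) (hidx : C.relIndex U = p) {g : H}
    (hg : g ∈ abExpCore p H) (hgp : (orderOf g).Coprime p) :
    ∀ u ∈ U, g * u * g⁻¹ * u⁻¹ ∈ C := by
  intro u hu
  set π := QuotientGroup.mk' C with hπ
  have hπs : Function.Surjective π := QuotientGroup.mk'_surjective C
  haveI : (U.map π).Normal := Subgroup.Normal.map inferInstance π hπs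
  have hVc : Nat.card (U.map π) = p := by
    rw [← Subgroup.relIndex_ker, QuotientGroup.ker_mk', hidx]
  haveI : IsCyclic (U.map π) := isCyclic_of_prime_card hVc
  have h1 := Subgroup.mem_centralizer_iff.1 (centralizes_normal_cyclic (p := p)
    (IsPGroup.of_card (hVc.trans (pow_one p).symm)) (abExpCore_map p π hπs ▸ ⟨g, hg, rfl⟩)
    (Nat.Coprime.coprime_dvd_left (orderOf_map_dvd π g) hgp)) (π u) ⟨u, hu, rfl⟩
  refine (QuotientGroup.eq_one_iff (N := C) _).1 ?_
  show π (g * u * g⁻¹ * u⁻¹) = 1
  rw [map_mul, map_mul, map_mul, map_inv, map_inv, ← h1, mul_inv_cancel_right, mul_inv_cancel]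

/-- A linear map with `φ ^ p = φ` on a nontrivial space over `ZMod p` has an eigenvector. -/
theorem exists_eigen {p : ℕ} [hp : Fact p.Prime] {V : Type*} [AddCommGroup V] [Module (ZMod p) V]
    [Nontrivial V] (φ : Module.End (ZMod p) V) (hφ : φ ^ p = φ) :
    ∃ a : ZMod p, ∃ w : V, w ≠ 0 ∧ φ w = a • w := by
  by_contra hcon
  push Not at hcon
  have key : ∀ s : Finset (ZMod p),
      Function.Injective (Polynomial.aeval φ (∏ a ∈ s, (Polynomial.X - Polynomial.C a))) := by
    intro s
    induction s using Finset.induction with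
    | empty => simp [Function.Injective]
    | @insert a s has ih =>
      rw [Finset.prod_insert has, map_mul, Module.End.coe_mul]
      refine Function.Injective.comp ?_ ih
      rw [← LinearMap.ker_eq_bot, LinearMap.ker_eq_bot']
      intro w hw
      by_contra hw0
      refine hcon a w hw0 ?_
      simpa [sub_eq_zero] using hw
  have hprod : (∏ a : ZMod p, (Polynomial.X - Polynomial.C a)) = Polynomial.X ^ p - Polynomial.X := by
    have hm : (Polynomial.X ^ p - Polynomial.X : Polynomial (ZMod p)).Monic :=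
      Polynomial.monic_X_pow_sub (by rw [Polynomial.degree_X]; exact_mod_cast hp.out.one_lt)
    have hr := FiniteField.roots_X_pow_card_sub_X (ZMod p)
    rw [ZMod.card] at hr
    have := Polynomial.prod_multiset_X_sub_C_of_monic_of_roots_card_eq hm (by
      rw [hr]; simp [FiniteField.X_pow_card_sub_X_natDegree_eq _ hp.out.one_lt])
    rwa [hr] at this
  have h0 := key Finset.univ
  rw [hprod, map_sub, map_pow, Polynomial.aeval_X, hφ, sub_self] at h0
  obtain ⟨v, hv⟩ := exists_ne (0 : V)
  exact hv (h0 (by simp))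

theorem exists_nsmul_eigen {p : ℕ} [hp : Fact p.Prime] {V : Type*} [AddCommGroup V] [Nontrivial V]
    (hexp : ∀ v : V, p • v = 0) (f : V →+ V) (hf : ∀ v, f^[p] v = f v) :
    ∃ i : ℕ, ∃ w : V, w ≠ 0 ∧ f w = i • w := by
  letI : Module (ZMod p) V := AddCommGroup.zmodModule hexp
  let φ : Module.End (ZMod p) V := f.toZModLinearMap p
  obtain ⟨a, w, hw, hwa⟩ := exists_eigen (p := p) (V := V) φ
    (LinearMap.ext fun v => by rw [Module.End.pow_apply]; exact hf v)
  refine ⟨a.val, w, hw, ?_⟩
  have e : a • w = a.val • w := by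
    rw [← Nat.cast_smul_eq_nsmul (ZMod p), ZMod.natCast_val, ZMod.cast_id]
  exact hwa.trans e

/-- Multiplicative form of the eigenvector lemma. -/
theorem exists_power_eigen {p : ℕ} [hp : Fact p.Prime] {A : Type*} [CommGroup A] [Nontrivial A]
    (hexp : ∀ a : A, a ^ p = 1) (f : A →* A) (hf : ∀ a, f^[p] a = f a) :
    ∃ i : ℕ, ∃ w : A, w ≠ 1 ∧ f w = w ^ i := by
  obtain ⟨i, w, hw, hwa⟩ := exists_nsmul_eigen (V := Additive A)
    (fun v => congrArg Additive.ofMul (hexp (Additive.toMul v))) (MonoidHom.toAdditive f)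
    (fun v => congrArg Additive.ofMul (hf (Additive.toMul v)))
  exact ⟨i, Additive.toMul w, fun h => hw (Additive.toMul.injective h), congrArg Additive.toMul hwa⟩

/-- A minimal normal `p`-subgroup centralized by `abExpCore` has order `p`. -/
theorem minimal_normal_card_eq [Finite H] {p : ℕ} [hp : Fact p.Prime] {M : Subgroup H}
    [hMn : M.Normal] (hMp : IsPGroup p M) (hM1 : M ≠ ⊥)
    (hmin : ∀ K : Subgroup H, K.Normal → K ≤ M → K = ⊥ ∨ K = M)
    (hc : ∀ g ∈ abExpCore p H, (orderOf g).Coprime p → g ∈ Subgroup.centralizer (M : Set H)) :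
    Nat.card M = p := by
  haveI hMnt : Nontrivial M := (Subgroup.nontrivial_iff_ne_bot M).2 hM1
  -- abelian
  have habel : ∀ x ∈ M, ∀ y ∈ M, x * y = y * x := by
    haveI : (M ⊓ Subgroup.centralizer (M : Set H)).Normal := by
      haveI : (Subgroup.centralizer (M : Set H)).Normal := inferInstance
      infer_instance
    rcases hmin (M ⊓ Subgroup.centralizer (M : Set H)) inferInstance inf_le_left with h | h
    · exfalso
      haveI := hMp.center_nontrivial
      obtain ⟨z, hz⟩ := exists_ne (1 : Subgroup.center M)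
      refine hz (Subtype.ext (Subtype.ext ?_))
      have hzm : ((z : M) : H) ∈ M ⊓ Subgroup.centralizer (M : Set H) :=
        ⟨z.1.2, Subgroup.mem_centralizer_iff.2 fun y hy =>
          congrArg Subtype.val (Subgroup.mem_center_iff.1 z.2 ⟨y, hy⟩)⟩
      rw [h] at hzm
      exact hzm
    · exact fun x hx y hy => Subgroup.mem_centralizer_iff.1 (h.ge hy).2 x hx
  have hdvd : p ∣ Nat.card M := by
    obtain ⟨m, hm⟩ := IsPGroup.iff_card.1 hMp
    rcases m with _ | m
    · exact absurd (Subgroup.card_eq_one.1 hm) hM1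
    · rw [hm]; exact dvd_pow_self p m.succ_ne_zero
  obtain ⟨x₀, hx₀⟩ := exists_prime_orderOf_dvd_card' (G := M) p hdvd
  have hexp : ∀ x ∈ M, x ^ p = 1 := by
    let W : Subgroup H :=
      { carrier := {x | x ∈ M ∧ x ^ p = 1}
        mul_mem' := fun {x y} hx hy => ⟨M.mul_mem hx.1 hy.1, by
          rw [Commute.mul_pow (habel x hx.1 y hy.1), hx.2, hy.2, one_mul]⟩
        one_mem' := ⟨M.one_mem, one_pow _⟩
        inv_mem' := fun {x} hx => ⟨M.inv_mem hx.1, by rw [inv_pow, hx.2, inv_one]⟩ }
    have hW : W.Normal := ⟨fun x hx h => ⟨hMn.conj_mem x hx.1 h, by rw [conj_pow, hx.2]; group⟩⟩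
    rcases hmin W hW (fun x hx => hx.1) with h | h
    · exfalso
      have h1 : (x₀ : H) ∈ W := ⟨x₀.2, by
        rw [← SubmonoidClass.coe_pow, ← hx₀, pow_orderOf_eq_one]; rfl⟩
      rw [h, Subgroup.mem_bot] at h1
      rw [show x₀ = 1 from Subtype.ext h1, orderOf_one] at hx₀
      exact hp.out.ne_one hx₀.symm
    · exact fun x hx => (h.ge hx).2
  -- `abExpCore` centralizes `M`
  have hcent : ∀ g ∈ abExpCore p H, g ∈ Subgroup.centralizer (M : Set H) := by
    haveI := abExpCore_normal (H := H) p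
    set K0 := abExpCore p H with hK0
    set Im := K0.map (MulAut.conjNormal (H := M)) with hIm
    have hImp : IsPGroup p Im := by
      rintro ⟨_, g, hg, rfl⟩
      refine ⟨(orderOf g).factorization p, Subtype.ext ?_⟩
      show MulAut.conjNormal g ^ _ = (1 : MulAut M)
      rw [← map_pow]
      have h2 := hc _ (K0.pow_mem hg _) (Transfer.orderOf_pow_ordProj_coprime hp.out g)
      ext y
      simp only [MulAut.conjNormal_apply, MulAut.one_apply]
      rw [← Subgroup.mem_centralizer_iff.1 h2 y y.2, mul_inv_cancel_right]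
    have hfix : ∃ b : M, b ≠ 1 ∧ ∀ g ∈ K0, g * (b : H) = b * g := by
      obtain ⟨b, hb, hne⟩ := hImp.exists_fixed_point_of_prime_dvd_card_of_fixed_point (α := M) hdvd
        (a := 1) (fun σ => map_one (σ : MulAut M))
      refine ⟨b, Ne.symm hne, fun g hg => ?_⟩
      have h1 : (MulAut.conjNormal g) b = b := hb ⟨MulAut.conjNormal g, g, hg, rfl⟩
      have h2 := congrArg Subtype.val h1
      rw [MulAut.conjNormal_apply] at h2
      exact mul_inv_eq_iff_eq_mul.1 h2
    obtain ⟨b, hb1, hb⟩ := hfix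
    haveI : (M ⊓ Subgroup.centralizer (K0 : Set H)).Normal := inferInstance
    rcases hmin (M ⊓ Subgroup.centralizer (K0 : Set H)) inferInstance inf_le_left with h | h
    · exfalso
      refine hb1 (Subtype.ext ?_)
      have hbm : (b : H) ∈ M ⊓ Subgroup.centralizer (K0 : Set H) :=
        ⟨b.2, Subgroup.mem_centralizer_iff.2 hb⟩
      rw [h] at hbm
      exact hbm
    · exact fun g hg => Subgroup.mem_centralizer_iff.2 fun y hy =>
        (Subgroup.mem_centralizer_iff.1 (h.ge hy).2 g hg).symm
  -- every element acts as a scalar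
  haveI : IsMulCommutative M := ⟨⟨fun a b => Subtype.ext (habel _ a.2 _ b.2)⟩⟩
  letI : CommGroup M := IsMulCommutative.instCommGroup
  have hscal : ∀ h : H, ∃ i : ℕ, ∀ x ∈ M, h * x * h⁻¹ = x ^ i := by
    intro h
    let f : M →* M := (MulAut.conjNormal (H := M) h).toMonoidHom
    have hpow : ∀ (n : ℕ) (v : M), ((f^[n] v : M) : H) = h ^ n * (v : H) * (h ^ n)⁻¹ := by
      intro n
      induction n with
      | zero => intro v; simp
      | succ n ih =>
        intro v
        rw [Function.iterate_succ_apply', show ((f (f^[n] v) : M) : H) = h * (f^[n] v : M) * h⁻¹ from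
          MulAut.conjNormal_apply h _, ih, pow_succ']
        group
    obtain ⟨i, w, hw, hwa⟩ := exists_power_eigen (p := p)
      (fun a => Subtype.ext (by rw [SubmonoidClass.coe_pow]; exact hexp _ a.2)) f (fun v => by
        refine Subtype.ext ?_
        obtain ⟨p', hp'⟩ : ∃ p', p = p' + 1 := ⟨p - 1, by have := hp.out.one_lt; omega⟩
        have hcm := Subgroup.mem_centralizer_iff.1 (hcent _ (pow_mem_abExpCore p h)) _ v.2
        have hpp : p - 1 = p' := by omega
        rw [hpp] at hcm
        rw [hpow, show ((f v : M) : H) = h * (v : H) * h⁻¹ from MulAut.conjNormal_apply h v, hp',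
          pow_succ']
        calc h * h ^ p' * (v : H) * (h * h ^ p')⁻¹
            = h * (h ^ p' * (v : H) * (h ^ p')⁻¹) * h⁻¹ := by group
          _ = _ := by rw [← hcm, mul_inv_cancel_right])
    refine ⟨i, ?_⟩
    let W : Subgroup H :=
      { carrier := {x | x ∈ M ∧ h * x * h⁻¹ = x ^ i}
        mul_mem' := fun {x y} hx hy => ⟨M.mul_mem hx.1 hy.1, by
          rw [Commute.mul_pow (habel x hx.1 y hy.1), ← hx.2, ← hy.2]; group⟩
        one_mem' := ⟨M.one_mem, by simp⟩
        inv_mem' := fun {x} hx => ⟨M.inv_mem hx.1, by rw [inv_pow, ← hx.2]; group⟩ }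
    have hW : W.Normal := ⟨fun x hx k => ⟨hMn.conj_mem x hx.1 k, by
      have hcm := Subgroup.mem_centralizer_iff.1 (hcent _ (commutator_mem_abExpCore p k⁻¹ h))
        (h * x * h⁻¹) (hMn.conj_mem x hx.1 h)
      rw [conj_pow, ← hx.2]
      calc h * (k * x * k⁻¹) * h⁻¹
          = k * (⁅k⁻¹, h⁆ * (h * x * h⁻¹) * ⁅k⁻¹, h⁆⁻¹) * k⁻¹ := by
            rw [commutatorElement_def]; group
        _ = _ := by rw [← hcm, mul_inv_cancel_right]⟩⟩
    rcases hmin W hW (fun x hx => hx.1) with h' | h'
    · exfalso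
      refine hw (Subtype.ext ?_)
      have hwm : (w : H) ∈ W := ⟨w.2, by
        rw [← SubmonoidClass.coe_pow, ← hwa]
        exact (MulAut.conjNormal_apply h w).symm⟩
      rw [h', Subgroup.mem_bot] at hwm
      exact hwm
    · exact fun x hx => (h'.ge hx).2
  haveI : (Subgroup.zpowers (x₀ : H)).Normal := ⟨fun y hy h => by
    obtain ⟨j, rfl⟩ := hy
    obtain ⟨i, hi⟩ := hscal h
    rw [← conj_zpow, hi _ x₀.2]
    exact Subgroup.zpow_mem _ (Subgroup.pow_mem _ (Subgroup.mem_zpowers _) i) j⟩
  rcases hmin (Subgroup.zpowers (x₀ : H)) inferInstance (Subgroup.zpowers_le.2 x₀.2) with h | h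
  · rw [Subgroup.zpowers_eq_bot] at h
    rw [show x₀ = 1 from Subtype.ext h, orderOf_one] at hx₀
    exact absurd hx₀.symm hp.out.ne_one
  · rw [← h, Nat.card_zpowers, Subgroup.orderOf_coe, hx₀]

/-- Extensions of supersolvable groups by `p`-groups centralized by `abExpCore`. -/
theorem isSupersolvable_of_centralized {p : ℕ} [hp : Fact p.Prime] :
    ∀ (n : ℕ) (H : Type u) [Group H] [Finite H] (N : Subgroup H) [N.Normal], Nat.card N = n →
      IsPGroup p N → Cfsg.IsSupersolvable (H ⧸ N) →
      (∀ g ∈ abExpCore p H, (orderOf g).Coprime p → g ∈ Subgroup.centralizer (N : Set H)) →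
      Cfsg.IsSupersolvable H := by
  intro n
  induction n using Nat.strong_induction_on with
  | _ n ih =>
  intro H _ _ N _ hN hNp hss hc
  by_cases hN1 : N = ⊥
  · subst hN1
    exact Grp.isSupersolvable_of_surjective (f := QuotientGroup.quotientBot.toMonoidHom)
      QuotientGroup.quotientBot.surjective hss
  obtain ⟨M, hMn, hM1, hMN, hmin⟩ := Grp.exists_minimal_normal_le hN1
  haveI := hMn
  have hMc : Nat.card M = p := minimal_normal_card_eq (hNp.to_le hMN) hM1 hmin
    fun g hg hgp => Subgroup.centralizer_le hMN (hc g hg hgp)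
  haveI : IsCyclic M := isCyclic_of_prime_card hMc
  refine Grp.isSupersolvable_of_cyclic_normal M ?_
  set π := QuotientGroup.mk' M with hπ
  have hπs : Function.Surjective π := QuotientGroup.mk'_surjective M
  haveI : (N.map π).Normal := Subgroup.Normal.map inferInstance π hπs
  have hlt : Nat.card (N.map π) < n := by
    have h1 : M.relIndex N * Nat.card M = Nat.card N := by
      rw [mul_comm]; exact Grp.card_mul_relIndex hMN
    rw [← Subgroup.relIndex_ker, QuotientGroup.ker_mk', ← hN, ← h1, hMc]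
    exact lt_mul_of_one_lt_right (Nat.pos_of_ne_zero fun h => by
      rw [h, zero_mul] at h1; exact Nat.card_pos.ne h1) hp.out.one_lt
  refine ih _ hlt (H ⧸ M) (N.map π) rfl (hNp.map π)
    (Grp.isSupersolvable_of_surjective (f := (QuotientGroup.quotientQuotientEquivQuotient M N hMN).symm.toMonoidHom)
      (QuotientGroup.quotientQuotientEquivQuotient M N hMN).symm.surjective hss) ?_
  intro x hx hxp
  rw [← abExpCore_map p π hπs] at hx
  obtain ⟨g, hg, rfl⟩ := hx
  set a := (orderOf g).factorization p with ha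
  have hg' := hc _ ((abExpCore p H).pow_mem hg (p ^ a)) (Transfer.orderOf_pow_ordProj_coprime hp.out g)
  -- `π g` is a power of the `p'`-part
  obtain ⟨c, hc'⟩ := exists_pow_eq_self_of_coprime (x := π g) (n := p ^ a)
    (Nat.Coprime.pow_left a hxp.symm)
  rw [Subgroup.mem_centralizer_iff]
  rintro _ ⟨y, hy, rfl⟩
  have h1 : Commute (π y) (π g ^ p ^ a) := by
    rw [← map_pow]
    exact (show Commute y (g ^ p ^ a) from Subgroup.mem_centralizer_iff.1 hg' y hy).map π
  rw [← hc']
  exact (h1.pow_right c).eq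

/-- The criterion for a normal `p`-subgroup with normal members of one fixed order. -/
theorem isSupersolvable_of_fam_normal [Finite H] {p : ℕ} [hp : Fact p.Prime] (N : Subgroup H)
    [N.Normal] (hNp : IsPGroup p N) (hss : Cfsg.IsSupersolvable (H ⧸ N))
    (h : IsCyclic N ∨ ∃ d : ℕ, 1 < d ∧ d < Nat.card N ∧ d ∣ Nat.card N ∧
      ∀ F : Subgroup H, F ≤ N → FamOrder d F → F.Normal) : Cfsg.IsSupersolvable H := by
  rcases h with hc | ⟨d, hd1, hdlt, hdN, hF⟩
  · haveI := hc
    exact Grp.isSupersolvable_of_cyclic_normal N hss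
  refine isSupersolvable_of_centralized _ H N rfl hNp hss fun g hg hgp => ?_
  by_contra hbad
  have hord : ∀ x ∈ N, orderOf x < d :=
    orderOf_lt_of_moved hNp hd1 hdN
      (fun E hE hE' => by haveI := hF E hE hE'; rw [Subgroup.normalizer_eq_top]; exact le_top) hgp
      (fun U => U ≤ N ∧ U.Normal) (fun U h => h.1)
      (fun U h => by haveI := h.2; rw [Subgroup.normalizer_eq_top]; exact Subgroup.mem_top g)
      (fun U hU E hE hE' => by
        haveI := hU.2; haveI := hF E hE hE'
        exact ⟨inf_le_left.trans hE, inferInstance⟩)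
      (fun U hU hc => by
        haveI := hU.2; haveI := hc
        exact centralizes_normal_cyclic (hNp.to_le hU.1) hg hgp)
      (fun U C hU hC hCU hidx => by
        haveI := hU.2; haveI := hC.2
        exact trivial_on_normal_step hCU hidx hg hgp)
      (U₀ := N) ⟨le_rfl, inferInstance⟩ hbad
  obtain ⟨m, hm⟩ := IsPGroup.iff_card.1 hNp
  obtain ⟨k, -, hk⟩ := (Nat.dvd_prime_pow hp.out).1 (hm ▸ hdN)
  have hAN : Subgroup.zpowers g ≤ Subgroup.normalizer (N : Set H) := by
    rw [Subgroup.normalizer_eq_top]; exact le_top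
  have hcop : (Nat.card (Subgroup.zpowers g)).Coprime (Nat.card N) := by
    rw [Nat.card_zpowers, hm]; exact hgp.pow_right m
  have hsolv : Group.IsSolvable (Subgroup.zpowers g) ∨ Group.IsSolvable N :=
    Or.inr (@IsNilpotent.to_isSolvable _ _ hNp.isNilpotent)
  have hsup := Grp.commutator_sup_fixed (Subgroup.zpowers g) N hAN hcop hsolv
  set C := N ⊓ Subgroup.centralizer (Subgroup.zpowers g : Set H) with hC
  have hCne : C.subgroupOf N ≠ ⊤ := fun h => hbad (by
    rw [Subgroup.subgroupOf_eq_top] at h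
    rw [Subgroup.mem_centralizer_iff]
    intro y hy
    exact (Subgroup.mem_centralizer_iff.1 (h hy).2 g (Subgroup.mem_zpowers g)).symm)
  obtain ⟨M₀, hM₀, hCM⟩ := (eq_top_or_exists_le_coatom (C.subgroupOf N)).resolve_left hCne
  obtain ⟨hM₀n, hM₀i⟩ := Grp.coatom_index_eq_of_pGroup hNp hM₀
  set M := M₀.map N.subtype with hM
  have hMN : M ≤ N := Subgroup.map_subtype_le _
  have hMi : M.relIndex N = p := by
    rw [hM, Subgroup.relIndex, Subgroup.subgroupOf,
      Subgroup.comap_map_eq_self_of_injective (Subgroup.subtype_injective _), hM₀i]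
  obtain ⟨b, hb⟩ := IsPGroup.iff_card.1 (hNp.to_le hMN)
  have hkb : k ≤ b := by
    have h1 := Grp.card_mul_relIndex hMN
    rw [hMi, hb, hm, ← pow_succ] at h1
    have h2 := Nat.pow_right_injective hp.out.two_le h1
    rw [hk, hm] at hdlt
    have := (Nat.pow_lt_pow_iff_right hp.out.one_lt).1 hdlt
    omega
  haveI hMnorm : M.Normal := by
    refine ⟨fun x hx h => ?_⟩
    obtain ⟨i, hi⟩ := IsPGroup.iff_card.1 (hNp.to_le (Subgroup.zpowers_le.2 (hMN hx)))
    have hik : i ≤ k := by
      have := hord x (hMN hx)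
      rw [← Nat.card_zpowers, hi, hk] at this
      exact ((Nat.pow_lt_pow_iff_right hp.out.one_lt).1 this).le
    obtain ⟨K, hK, hXK⟩ := Sylow.exists_subgroup_card_pow_prime_le p
      (show p ^ k ∣ Nat.card M from hb ▸ pow_dvd_pow p hkb) ((Subgroup.zpowers x).subgroupOf M)
      (by rw [Nat.card_congr (Subgroup.subgroupOfEquivOfLe (Subgroup.zpowers_le.2 hx)).toEquiv, hi]) hik
    have hKM : K.map M.subtype ≤ M := Subgroup.map_subtype_le K
    have hxK : x ∈ K.map M.subtype :=
      ⟨⟨x, hx⟩, hXK (show (⟨x, hx⟩ : M) ∈ (Subgroup.zpowers x).subgroupOf M from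
        Subgroup.mem_zpowers x), rfl⟩
    exact hKM ((hF _ (hKM.trans hMN)
      (Or.inl (by rw [Subgroup.card_map_of_injective M.subtype_injective, hK, hk]))).conj_mem x hxK h)
  have hgM := trivial_on_normal_step hMN hMi hg hgp
  have h1 : ⁅N, Subgroup.zpowers g⁆ ≤ M := by
    rw [Subgroup.commutator_le]
    intro y hy a ha
    set π := QuotientGroup.mk' M with hπ
    have h2 : ∀ w : H, π w = 1 ↔ w ∈ M := fun w => QuotientGroup.eq_one_iff w
    have h3 : Commute (π g) (π y) := by
      have h4 := (h2 _).2 (hgM y hy)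
      rw [map_mul, map_mul, map_mul, map_inv, map_inv, mul_inv_eq_one, mul_inv_eq_iff_eq_mul] at h4
      exact h4
    obtain ⟨j, rfl⟩ := ha
    rw [← h2, map_commutatorElement, map_zpow, commutatorElement_eq_one_iff_mul_comm]
    exact ((h3.zpow_left j).symm).eq
  have hCM' : C ≤ M := fun y hy => ⟨⟨y, hy.1⟩, hCM hy, rfl⟩
  have hNM : N ≤ M := hsup ▸ sup_le h1 hCM'
  rw [le_antisymm hMN hNM, Subgroup.relIndex_self] at hMi
  exact hp.out.ne_one hMi.symm

/-- The supersolvability criterion. -/
theorem isSupersolvable_of_closed : ∀ (n : ℕ) (G : Type u) [Group G] [Finite G] (E : Subgroup G)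
    [E.Normal], Nat.card E = n → Cfsg.IsSupersolvable (G ⧸ E) →
    (∀ (p : ℕ), p.Prime → ∀ P : Subgroup G, P ≤ E → IsPGroup p P → ¬ p ∣ P.relIndex E →
      ¬ IsCyclic ↥P → ∃ D : Subgroup G, D ≤ P ∧ 1 < Nat.card D ∧ Nat.card D < Nat.card P ∧
        ∀ F : Subgroup G, F ≤ P → FamOrder (Nat.card D) F → ClosedInNormalizer F) →
    Cfsg.IsSupersolvable G := by
  intro n
  induction n using Nat.strong_induction_on with
  | _ n ih =>
  intro G _ _ E _ hE hss h
  by_cases hE1 : E = ⊥
  · subst hE1
    exact Grp.isSupersolvable_of_surjective (f := QuotientGroup.quotientBot.toMonoidHom)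
      QuotientGroup.quotientBot.surjective hss
  set p := (Nat.card E).minFac with hpdef
  have hcE : Nat.card E ≠ 1 := fun h => hE1 (Subgroup.card_eq_one.1 h)
  haveI hp : Fact p.Prime := ⟨Nat.minFac_prime hcE⟩
  set P : Sylow p E := default with hPdef
  set PG := (P : Subgroup E).map E.subtype with hPG
  have hPGE : PG ≤ E := Subgroup.map_subtype_le _
  have hPGp : IsPGroup p PG := P.isPGroup'.map _
  have hPGidx : ¬ p ∣ PG.relIndex E := by
    rw [hPG, Subgroup.relIndex, Subgroup.subgroupOf,
      Subgroup.comap_map_eq_self_of_injective E.subtype_injective]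
    exact P.not_dvd_index
  let eP : (P : Subgroup E) ≃* PG := Subgroup.equivMapOfInjective _ _ E.subtype_injective
  have hP := h p hp.out PG hPGE hPGp hPGidx
  -- normal `p`-complement of `E`
  have hnpc : Cfsg.HasNormalPComplement p E := by
    refine hasNormalPComplement_of_closed (fun q hq hqd => Nat.minFac_le_of_dvd hq.two_le hqd) P ?_
    by_cases hc : IsCyclic PG
    · haveI := hc
      exact Or.inl (isCyclic_of_surjective eP.symm eP.symm.surjective)
    obtain ⟨D, hD, hd1, hd2, hd3⟩ := hP hc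
    have hPc : Nat.card PG = Nat.card (P : Subgroup E) :=
      Subgroup.card_map_of_injective E.subtype_injective
    refine Or.inr ⟨Nat.card D, hd1, hPc ▸ hd2, hPc ▸ Subgroup.card_dvd_of_le hD, fun F hF hF' g => ?_⟩
    have hFc : Nat.card (F.map E.subtype) = Nat.card F :=
      Subgroup.card_map_of_injective E.subtype_injective
    have h1 := hd3 (F.map E.subtype) (Subgroup.map_mono hF) (by unfold FamOrder; rwa [hFc]) (g : G)
    rintro x ⟨⟨y, hy, rfl⟩, hx⟩
    set z := (MulAut.conj g).toMonoidHom y with hz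
    have hz' : (z : G) ∈ Subgroup.normalizer (F.map E.subtype : Set G) := by
      refine normalizes_of_conj_mem ?_
      rintro _ ⟨w, hw, rfl⟩
      exact ⟨z * w * z⁻¹, (Subgroup.mem_normalizer_iff.1 hx w).1 hw, rfl⟩
    obtain ⟨w, hw, hwx⟩ := h1 ⟨⟨(y : G), ⟨y, hy, rfl⟩, rfl⟩, hz'⟩
    rwa [show z = w from Subtype.ext hwx.symm]
  set K₀ := pResidual p E with hK₀
  haveI : K₀.Characteristic := Transfer.pResidual_characteristic p E
  set K := K₀.map E.subtype with hK
  haveI hKn : K.Normal := inferInstance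
  have hKE : K ≤ E := Subgroup.map_subtype_le _
  have hKc : ¬ p ∣ Nat.card K := by
    rw [hK, Subgroup.card_map_of_injective E.subtype_injective]
    exact Transfer.hasNormalPComplement_iff_not_dvd.1 hnpc
  have hKlt : Nat.card K < n := by
    rw [← hE]
    refine lt_of_le_of_ne (Subgroup.card_le_of_le hKE) fun e => hKc ?_
    rw [e]; exact Nat.minFac_dvd _
  have hEKP : E = K ⊔ PG := by
    have h1 := Transfer.sylow_sup_pResidual (p := p) P
    rw [hK, hPG, ← Subgroup.map_sup, sup_comm, h1, ← MonoidHom.range_eq_map, Subgroup.range_subtype]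
  set π := QuotientGroup.mk' K with hπ
  have hπs : Function.Surjective π := QuotientGroup.mk'_surjective K
  have hπ1 : ∀ w : G, π w = 1 ↔ w ∈ K := fun w => QuotientGroup.eq_one_iff w
  set N := E.map π with hN
  haveI : N.Normal := Subgroup.Normal.map inferInstance π hπs
  have hNP : N = PG.map π := by
    rw [hN, hEKP, Subgroup.map_sup, (Subgroup.map_eq_bot_iff K).2 (QuotientGroup.ker_mk' K).ge,
      bot_sup_eq]
  have hinj : ∀ X : Subgroup G, X ≤ PG → Nat.card (X.map π) = Nat.card X := by
    intro X hX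
    have h0 : π.ker ⊓ X = ⊥ := by
      rw [QuotientGroup.ker_mk']
      refine Grp.inf_eq_bot_of_coprime ?_
      obtain ⟨a, ha⟩ := IsPGroup.iff_card.1 (hPGp.to_le hX)
      rw [ha]
      exact ((hp.out.coprime_iff_not_dvd.2 hKc).symm).pow_right a
    rw [← Subgroup.relIndex_ker, ← Subgroup.inf_relIndex_right, h0, Subgroup.relIndex_bot_left]
  have hNc : Nat.card N = Nat.card PG := by rw [hNP]; exact hinj PG le_rfl
  have hnorm : ∀ y : G ⧸ K, ∃ n ∈ Subgroup.normalizer (PG : Set G), π n = y := by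
    intro y
    obtain ⟨g, rfl⟩ := hπs y
    have htop : Subgroup.normalizer (PG : Set G) ⊔ K = ⊤ := by
      have h1 : Subgroup.normalizer (PG : Set G) ⊔ E = ⊤ := Sylow.normalizer_sup_eq_top P
      rw [hEKP, sup_comm K PG, ← sup_assoc, sup_eq_left.2 Subgroup.le_normalizer] at h1
      exact h1
    obtain ⟨n, hn, k, hk, hnk⟩ := Subgroup.mem_sup_of_normal_right.1 (htop ▸ Subgroup.mem_top g)
    exact ⟨n, hn, by rw [← hnk, map_mul, (hπ1 k).2 hk, mul_one]⟩
  have hssK : Cfsg.IsSupersolvable (G ⧸ K) := by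
    refine isSupersolvable_of_fam_normal (p := p) N (by rw [hNP]; exact hPGp.map π)
      (Grp.isSupersolvable_of_surjective
        (f := (QuotientGroup.quotientQuotientEquivQuotient K E hKE).symm.toMonoidHom)
        (QuotientGroup.quotientQuotientEquivQuotient K E hKE).symm.surjective hss) ?_
    by_cases hc : IsCyclic PG
    · haveI := hc
      rw [hNP]
      exact Or.inl (isCyclic_of_surjective (π.subgroupMap PG) (π.subgroupMap_surjective PG))
    obtain ⟨D, hD, hd1, hd2, hd3⟩ := hP hc
    refine Or.inr ⟨Nat.card D, hd1, hNc ▸ hd2, hNc ▸ Subgroup.card_dvd_of_le hD, fun F hF hF' => ?_⟩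
    set F₀ := PG ⊓ F.comap π with hF₀
    have hF₀F : F₀.map π = F := by
      refine le_antisymm (Subgroup.map_le_iff_le_comap.2 inf_le_right) fun y hy => ?_
      obtain ⟨x, hx, rfl⟩ := (hNP ▸ hF hy : y ∈ PG.map π)
      exact ⟨x, ⟨hx, hy⟩, rfl⟩
    have hF₀c : Nat.card F₀ = Nat.card F := by rw [← hinj F₀ inf_le_left, hF₀F]
    have hcl := hd3 F₀ inf_le_left (by unfold FamOrder; rwa [hF₀c])
    refine ⟨fun y hy h => ?_⟩
    obtain ⟨m, hm, rfl⟩ := hnorm h
    obtain ⟨x, hx, rfl⟩ := (hF₀F ▸ hy : y ∈ F₀.map π)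
    rw [← hF₀F, ← map_inv, ← map_mul, ← map_mul]
    exact ⟨_, hcl.mem_of_conj_mem hPGp inf_le_left hx
      ((Subgroup.mem_normalizer_iff.1 hm x).1 hx.1), rfl⟩
  refine ih _ hKlt G K rfl hssK fun q hq Q hQ hQq hQidx hQc => ?_
  rcases eq_or_ne q p with rfl | hqp
  · exfalso
    obtain ⟨a, ha⟩ := IsPGroup.iff_card.1 hQq
    rcases a with _ | a
    · rw [Subgroup.card_eq_one.1 ha] at hQc
      exact hQc inferInstance
    · exact hKc ((ha ▸ dvd_pow_self p a.succ_ne_zero).trans (Subgroup.card_dvd_of_le hQ))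
  refine h q hq Q (hQ.trans hKE) hQq ?_ hQc
  rw [← Subgroup.relIndex_mul_relIndex Q K E hQ hKE]
  refine hq.not_dvd_mul hQidx ?_
  obtain ⟨a, ha⟩ := Transfer.exists_pResidual_index (G := E) p
  rw [hK, Subgroup.relIndex, Subgroup.subgroupOf,
    Subgroup.comap_map_eq_self_of_injective E.subtype_injective, ha]
  exact fun hd => hqp ((Nat.prime_dvd_prime_iff_eq hq hp.out).1 (hq.dvd_of_dvd_pow hd))

end Cfsg.Agent.Invol
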