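import Cfsg.Prelude

/-!
# A monomial image with cyclic-wreath Sylow order
-/

set_option autoImplicit false

namespace Cfsg.Agent.Invol.WreathIm

theorem sepMod {V : Type*} [AddCommGroup V] (p : ℕ) [hp : Fact p.Prime] [Module (ZMod p) V] (N : V) (hN : N ≠ 0) :
    ∃ f : V →+ ZMod p, f N ≠ 0 := by
  by_contra hcon
  push Not at hcon
  exact hN ((Module.forall_dual_apply_eq_zero_iff (ZMod p) N).mp fun φ => hcon φ.toAddMonoidHom)

theorem sep {V : Type*} [AddCommGroup V] {p : ℕ} [hp : Fact p.Prime] (h : ∀ v : V, p • v = 0) (N : V) (hN : N ≠ 0) :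
    ∃ f : V →+ ZMod p, f N ≠ 0 :=
  @sepMod V _ p hp (AddCommGroup.zmodModule h) N hN

theorem exists_full_hom {P : Type*} [Group P] [Finite P] {p : ℕ} [hp : Fact p.Prime] (hP : IsPGroup p P)
    (A : Subgroup P) [A.Normal] (hA : Cfsg.IsElementaryAbelian p A) (hidx : A.index = p) (x y : P) (hx : x ∈ A)
    (hy : y ∉ A) (hprod : ((List.range p).map (fun i => (y ^ i)⁻¹ * x * y ^ i)).prod ≠ 1) :
    ∃ f : P →* Equiv.Perm (Fin (p ^ 2)), Nat.card f.range = p ^ (p + 1) := by
  classical
  haveI := hA.1
  letI : CommGroup A := { (inferInstance : Group A) with mul_comm := hA.1.is_comm.comm }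
  have hAp : ∀ v : A, v ^ p = 1 := fun v => Subtype.ext (by simpa using hA.2 v v.2)
  set c : MulAut A := MulAut.conjNormal y with hc
  have hc' : ∀ (k : ℕ) (v : A), (((c ^ k) v : A) : P) = y ^ k * v * (y ^ k)⁻¹ := fun k v => by
    rw [hc, ← map_pow]; exact MulAut.conjNormal_apply (y ^ k) v
  have hyp : y ^ p ∈ A := by
    have h1 : ((y : P ⧸ A)) ^ p = 1 := by
      rw [← hidx, Subgroup.index]; exact pow_card_eq_one'
    rwa [← QuotientGroup.mk_pow, QuotientGroup.eq_one_iff] at h1
  have hcp : c ^ p = 1 := MulEquiv.ext fun v => Subtype.ext (by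
    rw [hc', MulAut.one_apply]
    have := congrArg Subtype.val (mul_comm (⟨y ^ p, hyp⟩ : A) v)
    simp only [Subgroup.coe_mul] at this
    rw [this, mul_inv_cancel_right])
  -- the product of the conjugates, and a functional detecting it
  set Nm : A := ((List.range p).map (fun i => (c⁻¹ ^ i) ⟨x, hx⟩)).prod with hNm
  have hNm' : (Nm : P) = ((List.range p).map (fun i => (y ^ i)⁻¹ * x * y ^ i)).prod := by
    rw [hNm, Subgroup.val_list_prod, List.map_map]
    congr 1
    refine List.map_congr_left fun i _ => ?_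
    show (((c⁻¹ ^ i) ⟨x, hx⟩ : A) : P) = _
    rw [hc, ← map_inv, ← map_pow, MulAut.conjNormal_apply]
    simp
  obtain ⟨φ, hφ⟩ : ∃ φ : Additive A →+ ZMod p, φ (Additive.ofMul Nm) ≠ 0 := by
    refine sep (fun v => Additive.toMul.injective (by rw [toMul_nsmul, toMul_zero]; exact hAp _)) _ fun h0 => ?_
    exact hprod (by rw [← hNm', show Nm = 1 from ofMul_eq_zero.mp h0]; rfl)
  let ev : A → ZMod p := fun v => φ (Additive.ofMul v)
  have hevmul : ∀ u v, ev (u * v) = ev u + ev v := fun u v => map_add φ _ _
  let R := AddMonoidAlgebra (ZMod p) (ZMod p)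
  let π : Additive A →+ R := AddMonoidHom.mk'
    (fun v => ∑ i : ZMod p, AddMonoidAlgebra.single i (ev ((c ^ i.val) (Additive.toMul v))))
    (fun u v => by
      simp only [toMul_add, map_mul, hevmul, AddMonoidAlgebra.single_add, Finset.sum_add_distrib])
  have hπ : ∀ (v : A) (j : ZMod p), (π (Additive.ofMul v)).coeff j = ev ((c ^ j.val) v) := fun v j => by
    show (∑ i : ZMod p, AddMonoidAlgebra.single i (ev ((c ^ i.val) v))).coeff j = _
    simp [Finsupp.single_apply]
  have hpw : ∀ k : ℕ, c ^ k = c ^ (k % p) := fun k => pow_eq_pow_mod k hcp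
  have hshift : ∀ v : A, π (Additive.ofMul (c v)) =
      AddMonoidAlgebra.single (-1 : ZMod p) (1 : ZMod p) * π (Additive.ofMul v) := by
    intro v
    show ∑ i : ZMod p, AddMonoidAlgebra.single i (ev ((c ^ i.val) (c v))) =
      AddMonoidAlgebra.single (-1 : ZMod p) (1 : ZMod p) *
        ∑ i : ZMod p, AddMonoidAlgebra.single i (ev ((c ^ i.val) v))
    rw [Finset.mul_sum]
    refine Fintype.sum_equiv (Equiv.addRight (1 : ZMod p)) _ _ fun i => ?_
    rw [AddMonoidAlgebra.single_mul_single, Equiv.coe_addRight, one_mul]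
    congr 2
    · ring
    · rw [ZMod.val_add, ← hpw, ZMod.val_one, pow_succ]; rfl
  set a : R := π (Additive.ofMul ⟨x, hx⟩) with ha
  have haug : (∑ i : ZMod p, ev ((c ^ i.val) ⟨x, hx⟩)) = φ (Additive.ofMul Nm) := by
    have h1 : φ (Additive.ofMul Nm) = ∑ k ∈ Finset.range p, ev ((c⁻¹ ^ k) ⟨x, hx⟩) := by
      have h2 : Nm = ∏ k ∈ Finset.range p, (c⁻¹ ^ k) ⟨x, hx⟩ := rfl
      rw [h2, ofMul_prod, map_sum]
    rw [h1, ← (ZMod.finEquiv p).toEquiv.sum_comp, Finset.sum_range]
    refine Fintype.sum_equiv ((Equiv.neg _).trans (Equiv.refl _)) _ _ fun i => ?_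
    congr 2
    have hi : (((ZMod.finEquiv p) (-i) : ZMod p)).val = (-i : Fin p).val := by
      obtain ⟨n, rfl⟩ : ∃ n, p = n + 1 := ⟨p - 1, by have := hp.out.pos; omega⟩
      rfl
    show c ^ ((ZMod.finEquiv p) i).val = c⁻¹ ^ ((-i : Fin p) : ℕ)
    have hi' : (((ZMod.finEquiv p) i : ZMod p)).val = (i : ℕ) := by
      obtain ⟨n, rfl⟩ : ∃ n, p = n + 1 := ⟨p - 1, by have := hp.out.pos; omega⟩
      rfl
    rw [hi', inv_pow, eq_inv_iff_mul_eq_one, ← pow_add, hpw, Fin.val_neg']
    have := i.isLt
    rw [Nat.add_mod_mod, Nat.add_sub_cancel' this.le, Nat.mod_self, pow_zero]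
  haveI : CharP R p := charP_of_injective_algebraMap (R := ZMod p) (fun u v h => by
    simpa [R, AddMonoidAlgebra.coe_algebraMap] using h) p
  have hap : a ^ p = AddMonoidAlgebra.single 0 (φ (Additive.ofMul Nm)) := by
    rw [← haug, ha]
    show (∑ i : ZMod p, AddMonoidAlgebra.single i (ev ((c ^ i.val) ⟨x, hx⟩))) ^ p = _
    rw [sum_pow_char, show AddMonoidAlgebra.single (0 : ZMod p) (∑ i : ZMod p, ev ((c ^ i.val) ⟨x, hx⟩)) =
      ∑ i : ZMod p, AddMonoidAlgebra.single (0 : ZMod p) (ev ((c ^ i.val) ⟨x, hx⟩)) from map_sum (AddMonoidAlgebra.singleAddHom (0 : ZMod p)) _ _]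
    refine Finset.sum_congr rfl fun i _ => ?_
    rw [AddMonoidAlgebra.single_pow, ZMod.pow_card]
    congr 1
    rw [nsmul_eq_mul, ZMod.natCast_self, zero_mul]
  obtain ⟨d, hd⟩ : IsUnit a := by
    refine (isUnit_pow_iff hp.out.ne_zero).mp ?_
    rw [hap]
    exact IsUnit.of_mul_eq_one (AddMonoidAlgebra.single 0 (φ (Additive.ofMul Nm))⁻¹) (by
      rw [AddMonoidAlgebra.single_mul_single, add_zero, mul_inv_cancel₀ hφ]; rfl)
  -- the range is everything
  have hsurj : Function.Surjective π := by
    have hmono : ∀ (k : ℕ) (v : A), π (Additive.ofMul ((c ^ k) v)) =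
        AddMonoidAlgebra.single (-(k : ZMod p)) (1 : ZMod p) * π (Additive.ofMul v) := by
      intro k
      induction k with
      | zero => intro v; simp [AddMonoidAlgebra.one_def.symm]
      | succ k ih =>
        intro v
        rw [pow_succ', MulAut.mul_apply, hshift, ih, ← mul_assoc, AddMonoidAlgebra.single_mul_single, one_mul]
        congr 2
        push_cast
        ring
    have hclosed : ∀ r w : R, w ∈ π.range → r * w ∈ π.range := by
      intro r
      induction r using AddMonoidAlgebra.induction_linear with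
      | zero => intro w _; simp
      | add f g hf hg => intro w hw; rw [add_mul]; exact add_mem (hf w hw) (hg w hw)
      | single i b =>
        rintro _ ⟨v, rfl⟩
        have : AddMonoidAlgebra.single i b * π v = b.val • (AddMonoidAlgebra.single i (1 : ZMod p) * π v) := by
          rw [← smul_mul_assoc, AddMonoidAlgebra.smul_single, nsmul_eq_mul, mul_one, ZMod.natCast_zmod_val]
        rw [this]
        refine nsmul_mem ?_ _
        refine ⟨Additive.ofMul ((c ^ (-i).val) (Additive.toMul v)), ?_⟩
        rw [hmono, ZMod.natCast_zmod_val, neg_neg]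
        rfl
    intro r
    have := hclosed (r * ↑d⁻¹) a ⟨_, rfl⟩
    rw [← hd, mul_assoc, Units.inv_mul, mul_one] at this
    exact this
  have hcardR : Nat.card R = p ^ p := by
    rw [Nat.card_congr (AddMonoidAlgebra.coeffEquiv.trans Finsupp.equivFunOnFinite), Nat.card_eq_fintype_card,
      Fintype.card_fun, ZMod.card]
  -- the permutation representation
  let B₀ : Subgroup A :=
    { carrier := {v | ev v = 0}
      one_mem' := by show φ (Additive.ofMul (1 : A)) = 0; rw [ofMul_one, map_zero]
      mul_mem' := fun {u v} hu hv => by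
        show ev (u * v) = 0
        rw [hevmul, show ev u = 0 from hu, show ev v = 0 from hv, add_zero]
      inv_mem' := fun {u} hu => by
        show φ (Additive.ofMul u⁻¹) = 0
        rw [ofMul_inv, map_neg, show φ (Additive.ofMul u) = 0 from hu, neg_zero] }
  have hB₀i : B₀.index = p := by
    let e : A →* Multiplicative (ZMod p) :=
      MonoidHom.mk' (fun v => Multiplicative.ofAdd (ev v)) (fun u v => by rw [hevmul]; rfl)
    have he : e.ker = B₀ := Subgroup.ext fun v => ⟨fun h => Multiplicative.ofAdd.injective h,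
      fun h => congrArg Multiplicative.ofAdd h⟩
    rw [← he, Subgroup.index_ker]
    have hne : e.range ≠ ⊥ := by
      intro h
      exact hφ (Multiplicative.ofAdd.injective
        (show e Nm = 1 from Subgroup.mem_bot.mp (h ▸ ⟨Nm, rfl⟩)))
    have hdvd := Subgroup.card_subgroup_dvd_card e.range
    rw [Nat.card_eq_fintype_card (α := Multiplicative (ZMod p)), Fintype.card_multiplicative, ZMod.card] at hdvd
    exact (hp.out.eq_one_or_self_of_dvd _ hdvd).resolve_left fun h => hne (Subgroup.card_eq_one.mp h)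
  set B : Subgroup P := B₀.map A.subtype with hB
  have hBi : B.index = p ^ 2 := by
    rw [hB, Subgroup.index_map_subtype, hB₀i, hidx, sq]
  let e : P ⧸ B ≃ Fin (p ^ 2) := Finite.equivFinOfCardEq (by rw [← Subgroup.index_eq_card, hBi])
  let f : P →* Equiv.Perm (Fin (p ^ 2)) := e.permCongrHom.toMonoidHom.comp (MulAction.toPermHom P (P ⧸ B))
  refine ⟨f, ?_⟩
  have hker : f.ker = B.normalCore := by
    rw [Subgroup.normalCore_eq_ker]
    exact MonoidHom.ker_mulEquiv_comp _ e.permCongrHom
  rw [← Subgroup.index_ker, hker]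
  -- the core
  let K₀ : Subgroup A :=
    { carrier := {v | π (Additive.ofMul v) = 0}
      one_mem' := map_zero π
      mul_mem' := fun {u v} hu hv => by
        show π (Additive.ofMul u + Additive.ofMul v) = 0
        rw [map_add, show π (Additive.ofMul u) = 0 from hu, show π (Additive.ofMul v) = 0 from hv, add_zero]
      inv_mem' := fun {u} hu => by
        show π (Additive.ofMul u⁻¹) = 0
        rw [ofMul_inv, map_neg, show π (Additive.ofMul u) = 0 from hu, neg_zero] }
  have hcore : B.normalCore = K₀.map A.subtype := by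
    have hn : (K₀.map A.subtype).Normal := by
      rw [← Subgroup.normalizer_eq_top_iff]
      have hle : A ≤ Subgroup.normalizer ((K₀.map A.subtype : Subgroup P) : Set P) := by
        intro u hu
        refine Subgroup.mem_normalizer_fintype ?_
        rintro _ ⟨v, hv, rfl⟩
        have := congrArg Subtype.val (mul_comm (⟨u, hu⟩ : A) v)
        simp only [Subgroup.coe_mul] at this
        exact ⟨v, hv, by rw [Subgroup.coe_subtype, this, mul_inv_cancel_right]⟩
      have hyN : y ∈ Subgroup.normalizer ((K₀.map A.subtype : Subgroup P) : Set P) := by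
        refine Subgroup.mem_normalizer_fintype ?_
        rintro _ ⟨v, hv, rfl⟩
        refine ⟨c v, ?_, by rw [Subgroup.coe_subtype]; simpa using hc' 1 v⟩
        show π (Additive.ofMul (c v)) = 0
        rw [hshift, show π (Additive.ofMul v) = 0 from hv, mul_zero]
      by_contra hne
      set N := Subgroup.normalizer ((K₀.map A.subtype : Subgroup P) : Set P)
      have h1 := Subgroup.relIndex_mul_index hle
      rw [hidx] at h1
      rcases hp.out.eq_one_or_self_of_dvd _ (Dvd.intro_left _ h1) with h2 | h2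
      · exact hne (Subgroup.index_eq_one.mp h2)
      · rw [h2] at h1
        have h3 : A.relIndex N = 1 := Nat.eq_of_mul_eq_mul_right hp.out.pos (by rw [h1, one_mul])
        exact hy (Subgroup.relIndex_eq_one.mp h3 hyN)
    refine le_antisymm ?_ (Subgroup.normal_le_normalCore.mpr (Subgroup.map_mono fun v hv => ?_))
    · intro g hg
      obtain ⟨v, hv0, rfl⟩ := Subgroup.normalCore_le B hg
      refine ⟨v, ?_, rfl⟩
      show π (Additive.ofMul v) = 0
      refine Finset.sum_eq_zero fun i _ => ?_
      obtain ⟨w, hw, hwe⟩ := Subgroup.normalCore_le B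
        ((Subgroup.normalCore_normal B).conj_mem _ hg (y ^ i.val))
      rw [show (c ^ i.val) (Additive.toMul (Additive.ofMul v)) = w from Subtype.ext ((hc' _ _).trans hwe.symm),
        show ev w = 0 from hw, AddMonoidAlgebra.single_zero]
    · show ev v = 0
      have := hπ v 0
      rw [show π (Additive.ofMul v) = 0 from hv, ZMod.val_zero, pow_zero, MulAut.one_apply] at this
      simpa using this.symm
  rw [hcore, Subgroup.index_map_subtype, hidx, pow_succ]
  congr 1
  let g : A →* Multiplicative R := AddMonoidHom.toMultiplicativeRight π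
  have hg : g.ker = K₀ := Subgroup.ext fun v => ⟨fun h => Multiplicative.ofAdd.injective h,
    fun h => congrArg Multiplicative.ofAdd h⟩
  rw [← hg, Subgroup.index_ker, (MonoidHom.range_eq_top (f := g)).mpr (fun r => (hsurj r.toAdd).imp fun v hv => by
    show Multiplicative.ofAdd (π v) = r
    rw [hv]; rfl), Subgroup.card_top]
  exact hcardR

end Cfsg.Agent.Invol.WreathIm
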