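import Cfsg.Agent.Lib.Invol.ZStar
import Cfsg.Agent.Lib.Grp.Coprime
import Cfsg.Agent.Lib.Grp.CoprimeFactor

/-!
# A class of involutions with products of `p`-power order
-/

set_option linter.style.haveILetI false

open scoped Pointwise

namespace Cfsg.Agent.ZStar

open Cfsg

universe u

variable {G : Type u} [Group G] [Finite G] {p : ℕ} [hp : Fact p.Prime] {d : G}

theorem isIsolated_of_products (hp2 : p ≠ 2) (hd : orderOf d = 2)
    (hprod : ∀ g : G, ∃ k : ℕ, orderOf (d * (g * d * g⁻¹)) = p ^ k) : IsIsolatedInvolution d := by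
  refine ⟨hd, fun g hg => ?_⟩
  obtain ⟨k, hk⟩ := hprod g
  have hg2 : orderOf (g * d * g⁻¹) = 2 := by rw [Invol.orderOf_conj_eq, hd]
  have h2 : orderOf (d * (g * d * g⁻¹)) ∣ 2 := orderOf_dvd_of_pow_eq_one (by
    rw [hg.mul_pow, pow_two, pow_two, Invol.mul_self_of_orderOf_two hd,
      Invol.mul_self_of_orderOf_two hg2, one_mul])
  have h1 : orderOf (d * (g * d * g⁻¹)) = 1 := Nat.eq_one_of_dvd_coprimes
    (Nat.Coprime.pow_left k ((Nat.coprime_primes hp.out Nat.prime_two).2 hp2)) (hk ▸ dvd_rfl) h2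
  rw [orderOf_eq_one_iff] at h1
  rw [eq_inv_of_mul_eq_one_right h1, Invol.inv_of_orderOf_two hd]

/-- The conjugates of `d` lie in `P⟨d⟩` for a `p`-subgroup `P`, whence the products lie in
`O_p(G)`. -/
theorem products_mem_pCore (hp2 : p ≠ 2) (hd : orderOf d = 2)
    (hprod : ∀ g : G, ∃ k : ℕ, orderOf (d * (g * d * g⁻¹)) = p ^ k) (g : G) :
    d * (g * d * g⁻¹) ∈ pCore p G := by
  classical
  haveI : Fact (Nat.Prime 2) := ⟨Nat.prime_two⟩
  have hiso := isIsolated_of_products hp2 hd hprod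
  have hdi := Invol.inv_of_orderOf_two hd
  have hdd := Invol.mul_self_of_orderOf_two hd
  set N := pPrimeCore 2 G with hNdef
  haveI hNn : N.Normal := Grp.pPrimeCore_isNormal
  set A := Subgroup.zpowers d with hAdef
  set C := N ⊓ Subgroup.centralizer ({d} : Set G) with hC
  have hAN : A ≤ Subgroup.normalizer (N : Set G) := by
    rw [Subgroup.normalizer_eq_top]; exact le_top
  have hcop : (Nat.card A).Coprime (Nat.card N) := by
    rw [hAdef, Nat.card_zpowers, hd]
    exact Grp.pPrimeCore_coprime.symm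
  have hsolv : Group.IsSolvable A ∨ Group.IsSolvable N :=
    haveI : Group.IsNilpotent A := (IsPGroup.of_card (n := 1)
      (by rw [hAdef, Nat.card_zpowers, hd, pow_one]) : IsPGroup 2 A).isNilpotent
    .inl inferInstance
  obtain ⟨P, hP, hPA⟩ := Grp.exists_invariant_sylow A N hAN hcop hsolv p
  have hq : ∀ (q : ℕ) [Fact q.Prime], q ≠ p → ∃ X, Grp.IsSylowIn q X N ∧ X ≤ C := by
    intro q _ hqp
    obtain ⟨X, hX, hXA⟩ := Grp.exists_invariant_sylow A N hAN hcop hsolv q
    refine ⟨X, hX, fun x hx => ⟨hX.1 hx, ?_⟩⟩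
    obtain ⟨k, hk⟩ := hprod x
    have hmem : d * (x * d * x⁻¹) ∈ X := by
      have h1 : d * x * d⁻¹ ∈ X :=
        (Subgroup.mem_normalizer_iff.1 (hXA (Subgroup.mem_zpowers d)) x).1 hx
      have : d * (x * d * x⁻¹) = d * x * d⁻¹ * x⁻¹ := by rw [hdi]; group
      rw [this]
      exact mul_mem h1 (inv_mem hx)
    obtain ⟨l, hl⟩ := IsPGroup.iff_orderOf.1 hX.2.1 ⟨_, hmem⟩
    rw [Subgroup.orderOf_mk, hk] at hl
    have h1 : p ^ k = 1 := Nat.eq_one_of_dvd_coprimes
      (Nat.Coprime.pow k l ((Nat.coprime_primes hp.out (Fact.out : q.Prime)).2 (Ne.symm hqp)))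
      dvd_rfl (hl ▸ dvd_rfl)
    rw [← hk, orderOf_eq_one_iff] at h1
    refine Subgroup.mem_centralizer_singleton_iff.2 (mul_inv_eq_iff_eq_mul.1 ?_)
    rw [eq_inv_of_mul_eq_one_right h1, hdi]
  -- `N = P C`
  have hNPC : (N : Set G) = (P : Set G) * (C : Set G) := by
    refine Grp.le_card_mul hP.1 inf_le_left ?_
    set m := Nat.card N / p ^ (Nat.card N).factorization p with hm
    have hN : p ^ (Nat.card N).factorization p * m = Nat.card N :=
      Nat.ordProj_mul_ordCompl_eq_self _ _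
    have hmp : m.Coprime p :=
      ((Nat.coprime_ordCompl hp.out Nat.card_pos.ne').symm)
    have hmC : m ∣ Nat.card C := by
      refine (Nat.dvd_iff_prime_pow_dvd_dvd _ _).mpr fun q k hqprime hk => ?_
      rcases Nat.eq_zero_or_pos k with rfl | hk0
      · simp
      haveI := Fact.mk hqprime
      have hqp : q ≠ p := by
        rintro rfl
        exact (hqprime.coprime_iff_not_dvd.1 hmp.symm) ((dvd_pow_self q hk0.ne').trans hk)
      obtain ⟨X, hX, hXC⟩ := hq q hqp
      refine dvd_trans ?_ (Subgroup.card_dvd_of_le hXC)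
      rw [hX.card]
      exact pow_dvd_pow q ((hqprime.pow_dvd_iff_le_factorization Nat.card_pos.ne').mp
        (hk.trans (Dvd.intro_left _ hN)))
    obtain ⟨j, hj⟩ := IsPGroup.iff_card.1 (hP.2.1.to_le (inf_le_left (b := C)))
    have hdvd : m * Nat.card ↥(P ⊓ C) ∣ Nat.card C :=
      Nat.Coprime.mul_dvd_of_dvd_of_dvd (hj ▸ hmp.pow_right j) hmC
        (Subgroup.card_dvd_of_le inf_le_right)
    calc Nat.card N * Nat.card ↥(P ⊓ C)
        = p ^ (Nat.card N).factorization p * (m * Nat.card ↥(P ⊓ C)) := by rw [← mul_assoc, hN]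
      _ ≤ p ^ (Nat.card N).factorization p * Nat.card C :=
          Nat.mul_le_mul_left _ (Nat.le_of_dvd Nat.card_pos hdvd)
      _ = Nat.card P * Nat.card C := by rw [hP.card]
  have hinP : ∀ x : G, d * (x * d * x⁻¹) ∈ P := by
    intro x
    obtain ⟨k, -, -, hk, hkz⟩ := Invol.exists_odd_inverted hiso x
    have hkN : k ∈ (N : Set G) := Subgroup.zpowers_le.2 (by
      have h := commutator_mem_oddCore _ G rfl d hiso x
      rwa [show d * x * d⁻¹ * x⁻¹ = d * (x * d * x⁻¹) by rw [hdi]; group] at h) hkz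
    rw [hNPC] at hkN
    obtain ⟨y, hy, c, hc, rfl⟩ := hkN
    have hcd : c * d = d * c := Subgroup.mem_centralizer_singleton_iff.1 hc.2
    rw [← hk, show y * c * d * (y * c)⁻¹ = y * (c * d * c⁻¹) * y⁻¹ by group, hcd, mul_inv_cancel_right]
    have h1 : d * y * d⁻¹ ∈ P :=
      (Subgroup.mem_normalizer_iff.1 (hPA (Subgroup.mem_zpowers d)) y).1 hy
    have : d * (y * d * y⁻¹) = d * y * d⁻¹ * y⁻¹ := by rw [hdi]; group
    rw [this]
    exact mul_mem h1 (inv_mem hy)
  -- the normal closure of the products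
  set X := Subgroup.closure (Set.range fun x : G => d * (x * d * x⁻¹)) with hX
  have hXP : X ≤ P := (Subgroup.closure_le _).2 (by rintro _ ⟨x, rfl⟩; exact hinP x)
  haveI : X.Normal := by
    refine ⟨fun w hw h => ?_⟩
    induction hw using Subgroup.closure_induction with
    | mem w hw =>
      obtain ⟨x, rfl⟩ := hw
      have e : h * (d * (x * d * x⁻¹)) * h⁻¹ =
          (d * (h * d * h⁻¹))⁻¹ * (d * ((h * x) * d * (h * x)⁻¹)) := by
        rw [mul_inv_rev, hdi, conj_inv, hdi]
        simp [mul_assoc, ← mul_assoc d d, hdd]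
      rw [e]
      exact mul_mem (inv_mem (Subgroup.subset_closure ⟨h, rfl⟩)) (Subgroup.subset_closure ⟨_, rfl⟩)
    | one => simp
    | mul a b _ _ ha hb => rw [← conj_mul]; exact mul_mem ha hb
    | inv a _ ha => rw [← conj_inv]; exact inv_mem ha
  exact Grp.le_pCore (inferInstance : X.Normal) (hP.2.1.to_le hXP)
    (Subgroup.subset_closure ⟨g, rfl⟩)

end Cfsg.Agent.ZStar
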